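import Cfsg.Agent.Mon.Elem

/-! Node data of a double coset enumeration. -/

set_option autoImplicit false
set_option maxRecDepth 100000

namespace CF.Mon

open CF.Comp

noncomputable section

def ndLg0_0 : El := ⟨[nat_lit 0x99c5ca3bdc99126b6c283644362890055cd5, nat_lit 0xc355551ddd105a6c5a8c8494e4786b093454, nat_lit 0xcc555a6a1cc30e9328ab2892e1b00f05a5ea], [nat_lit 77824, nat_lit 98304, nat_lit 102400, nat_lit 169984, nat_lit 167424, nat_lit 160128, nat_lit 156736, nat_lit 152320, nat_lit 150224, nat_lit 144920, nat_lit 142736, nat_lit 138588, nat_lit 132452, nat_lit 2626, nat_lit 4100, nat_lit 10368, nat_lit 13680, nat_lit 19168, nat_lit 23360, nat_lit 27136, nat_lit 29184, nat_lit 33792, nat_lit 37888, nat_lit 45255, nat_lit 40969, nat_lit 37191, nat_lit 33425, nat_lit 28785, nat_lit 24602, nat_lit 20631, nat_lit 16448, nat_lit 12309, nat_lit 8200, nat_lit 4100, nat_lit 425991, nat_lit 417797, nat_lit 409600, nat_lit 155776, nat_lit 147648, nat_lit 131536, nat_lit 45089,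 nat_lit 41040, nat_lit 37008, nat_lit 12289, nat_lit 8193, nat_lit 4097, nat_lit 327680]⟩
def ndLg0_1 : El := ⟨[nat_lit 0x28ee721bea834ef649e2b72a822824183584, nat_lit 0xa6ff36602151d1d27cc365a12531c8a889b7, nat_lit 0x5f9c09704b01a6c0136275cab3621f4ba886], [nat_lit 65536, nat_lit 69632, nat_lit 73728, nat_lit 77824, nat_lit 86016, nat_lit 94208, nat_lit 168448, nat_lit 166144, nat_lit 162048, nat_lit 155904, nat_lit 155328, nat_lit 147776, nat_lit 144480, nat_lit 140960, nat_lit 138596, nat_lit 131101, nat_lit 1558, nat_lit 4100, nat_lit 9744, nat_lit 13552, nat_lit 19200, nat_lit 24512, nat_lit 26880, nat_lit 30976, nat_lit 34304, nat_lit 39936, nat_lit 43008, nat_lit 46835, nat_lit 41461, nat_lit 39139, nat_lit 33892, nat_lit 29003, nat_lit 24618, nat_lit 20572, nat_lit 16388, nat_lit 12359, nat_lit 8195, nat_lit 4100, nat_lit 421894, nat_lit 413700, nat_lit 405504, nat_lit 155776, nat_lit 151616, nat_lit 147648, nat_lit 131272, nat_lit 45057, nat_lit 37088, nat_lit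 32825, nat_lit 8193, nat_lit 4097, nat_lit 327680]⟩
def ndLg0_2 : El := ⟨[nat_lit 0x71ee4465eb054dc8b0ce92c9e6145a009174, nat_lit 0x3fac9f7ae53432b43b9245002d342c228e37, nat_lit 0x50c93f715aa7d6000cd961984924a2bba287, nat_lit 0x9c395378246704f098d84696225dd09ad156], [nat_lit 65536, nat_lit 69632, nat_lit 73728, nat_lit 77824, nat_lit 86016, nat_lit 90112, nat_lit 102400, nat_lit 106496, nat_lit 178176, nat_lit 173056, nat_lit 169984, nat_lit 166400, nat_lit 162432, nat_lit 157568, nat_lit 154560, nat_lit 150400, nat_lit 146576, nat_lit 141860, nat_lit 138854, nat_lit 134813, nat_lit 4020, nat_lit 8116, nat_lit 11200, nat_lit 13568, nat_lit 20384, nat_lit 21760, nat_lit 25472, nat_lit 30208, nat_lit 36352, nat_lit 38912, nat_lit 45457, nat_lit 41645, nat_lit 37254, nat_lit 33330, nat_lit 29042, nat_lit 24634, nat_lit 20567, nat_lit 16389, nat_lit 8208, nat_lit 4097, nat_lit 438282, nat_lit 430088, nat_lit 421894, nat_lit 413700, nat_lit 405504, nat_lit 167424, nat_lit 162816,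 nat_lit 158848, nat_lit 155328, nat_lit 149248, nat_lit 145808, nat_lit 131168, nat_lit 8193, nat_lit 4097, nat_lit 327680]⟩
def ndLg0_3 : El := ⟨[nat_lit 0xd12884aa1e301432151ca99af68ad276920c, nat_lit 0x74b7146bccba020c1c9d544664558b7124e1, nat_lit 0xd221be101d6b95a48522f9856730e4855589, nat_lit 0x9cf5f995523a3ee43310a982cb8c1a53b822], [nat_lit 81920, nat_lit 86016, nat_lit 90112, nat_lit 98304, nat_lit 110592, nat_lit 175104, nat_lit 171008, nat_lit 164352, nat_lit 162560, nat_lit 159040, nat_lit 155584, nat_lit 149104, nat_lit 146848, nat_lit 139616, nat_lit 137116, nat_lit 131985, nat_lit 32, nat_lit 4128, nat_lit 8224, nat_lit 15344, nat_lit 18944, nat_lit 21504, nat_lit 25984, nat_lit 31744, nat_lit 34304, nat_lit 37888, nat_lit 43008, nat_lit 46662, nat_lit 41612, nat_lit 38195, nat_lit 33360, nat_lit 29009, nat_lit 24611, nat_lit 20550, nat_lit 16513, nat_lit 12306, nat_lit 8193, nat_lit 4097, nat_lit 438282, nat_lit 430088, nat_lit 421894, nat_lit 413700, nat_lit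 405504, nat_lit 168960, nat_lit 165376, nat_lit 161280, nat_lit 157440, nat_lit 155456, nat_lit 148608, nat_lit 143392, nat_lit 132784, nat_lit 8193, nat_lit 4097, nat_lit 327680]⟩
def ndLg0_4 : El := ⟨[nat_lit 0x609aaf2520a135cc3cee9448b5345761bc20, nat_lit 0xbe244775d26a11ab53cf51022190e1361516, nat_lit 0xb774226d853394c89500c0c6ef1bab051169], [nat_lit 65536, nat_lit 69632, nat_lit 73728, nat_lit 77824, nat_lit 86016, nat_lit 90112, nat_lit 94208, nat_lit 102400, nat_lit 106496, nat_lit 110592, nat_lit 173056, nat_lit 170496, nat_lit 164864, nat_lit 163328, nat_lit 158208, nat_lit 152512, nat_lit 147584, nat_lit 146736, nat_lit 139904, nat_lit 137884, nat_lit 131676, nat_lit 154, nat_lit 4100, nat_lit 8912, nat_lit 13792, nat_lit 18720, nat_lit 22848, nat_lit 27648, nat_lit 28928, nat_lit 33280, nat_lit 38912, nat_lit 46677, nat_lit 41840, nat_lit 38075, nat_lit 33461, nat_lit 28757, nat_lit 24615, nat_lit 20569, nat_lit 16393, nat_lit 12307, nat_lit 8225, nat_lit 4100,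 nat_lit 434184, nat_lit 421893, nat_lit 409600, nat_lit 160000, nat_lit 152960, nat_lit 148512, nat_lit 131328, nat_lit 45057, nat_lit 36865, nat_lit 24577, nat_lit 8193, nat_lit 4097, nat_lit 327680]⟩
def ndLr0_0 : El := ⟨[], []⟩
def ndLg1_0 : El := ⟨[nat_lit 0x7714e8654cb226cf6a0f7728b48447390820], [nat_lit 86016, nat_lit 90112, nat_lit 98304, nat_lit 106496, nat_lit 178176, nat_lit 173056, nat_lit 166656, nat_lit 161408, nat_lit 159488, nat_lit 153760, nat_lit 147472, nat_lit 145008, nat_lit 141564, nat_lit 138574, nat_lit 133333, nat_lit 3526, nat_lit 4100, nat_lit 11712, nat_lit 14208, nat_lit 18816, nat_lit 20672, nat_lit 25984, nat_lit 30464, nat_lit 35840, nat_lit 37888, nat_lit 41538, nat_lit 37113, nat_lit 32802, nat_lit 28746, nat_lit 24618, nat_lit 20566, nat_lit 16423, nat_lit 12305, nat_lit 8194, nat_lit 4100]⟩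
def ndLg1_1 : El := ⟨[nat_lit 0x93503f1a12b7d4f181acd9b097a164e50820], [nat_lit 86016, nat_lit 102400, nat_lit 178176, nat_lit 174080, nat_lit 168448, nat_lit 164096, nat_lit 161920, nat_lit 158912, nat_lit 153312, nat_lit 147472, nat_lit 146976, nat_lit 140532, nat_lit 137684, nat_lit 131889, nat_lit 2, nat_lit 7904, nat_lit 12000, nat_lit 14880, nat_lit 18336, nat_lit 21120, nat_lit 28160, nat_lit 29952, nat_lit 35328, nat_lit 41441, nat_lit 37148, nat_lit 33450, nat_lit 29015, nat_lit 24609, nat_lit 20570, nat_lit 16389, nat_lit 12323, nat_lit 8193, nat_lit 4097, nat_lit 2, nat_lit 327680]⟩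
def ndLg1_2 : El := ⟨[nat_lit 0xe88eb8a28ae32eac4d88f84c716dce890820], [nat_lit 65536, nat_lit 69632, nat_lit 73728, nat_lit 86016, nat_lit 90112, nat_lit 106496, nat_lit 178176, nat_lit 168448, nat_lit 164096, nat_lit 162816, nat_lit 156224, nat_lit 154464, nat_lit 149216, nat_lit 143680, nat_lit 141360, nat_lit 135956, nat_lit 135068, nat_lit 986, nat_lit 4100, nat_lit 10240, nat_lit 13264, nat_lit 18080, nat_lit 23488, nat_lit 28160, nat_lit 29952, nat_lit 36352, nat_lit 38912, nat_lit 41941, nat_lit 37159, nat_lit 33321, nat_lit 29726, nat_lit 24751, nat_lit 20574, nat_lit 16420, nat_lit 12294, nat_lit 8200, nat_lit 4100, nat_lit 327680]⟩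
def ndLg1_3 : El := ⟨[nat_lit 0xf559a02adf7a910ea30e994e233594d80820], [nat_lit 77824, nat_lit 81920, nat_lit 94208, nat_lit 98304, nat_lit 102400, nat_lit 106496, nat_lit 178176, nat_lit 173056, nat_lit 169984, nat_lit 164608, nat_lit 162432, nat_lit 158272, nat_lit 154784, nat_lit 148448, nat_lit 146904, nat_lit 139972, nat_lit 137560, nat_lit 133650, nat_lit 2064, nat_lit 6160, nat_lit 10256, nat_lit 12704, nat_lit 18496, nat_lit 21568, nat_lit 25216, nat_lit 31232, nat_lit 34304, nat_lit 39936, nat_lit 41433, nat_lit 37328, nat_lit 32952, nat_lit 28987, nat_lit 25124, nat_lit 20485, nat_lit 16397, nat_lit 12309, nat_lit 327680]⟩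
def ndLg1_4 : El := ⟨[nat_lit 0x1dd8179a5a593166a5ae37c4ea23910a8820], [nat_lit 65536, nat_lit 69632, nat_lit 73728, nat_lit 86016, nat_lit 90112, nat_lit 94208, nat_lit 98304, nat_lit 173056, nat_lit 168448, nat_lit 164352, nat_lit 159872, nat_lit 156672, nat_lit 154816, nat_lit 150928, nat_lit 146624, nat_lit 142924, nat_lit 137644, nat_lit 135012, nat_lit 318, nat_lit 4100, nat_lit 8504, nat_lit 16336, nat_lit 20288, nat_lit 24128, nat_lit 25600, nat_lit 30976, nat_lit 35840, nat_lit 39936, nat_lit 41910, nat_lit 38330, nat_lit 33023, nat_lit 28714, nat_lit 24853, nat_lit 20490, nat_lit 16645, nat_lit 12295, nat_lit 8194, nat_lit 4100]⟩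
def ndLr1_0 : El := ⟨[], [nat_lit 110592]⟩
def ndLr1_1 : El := ⟨[], []⟩
def ndLr1_2 : El := ⟨[nat_lit 0xbb8d18789142de567546a6b227300334920b, nat_lit 0x9690fc8dd342a8d21ae00a85a79b9e82584c, nat_lit 0x59965553627b9844952001b995b202b79669, nat_lit 0x4472e745ae7155d19d18132a5018165491ed], [nat_lit 90112, nat_lit 98304, nat_lit 102400, nat_lit 178176, nat_lit 164608, nat_lit 160256, nat_lit 156160, nat_lit 152128, nat_lit 147536, nat_lit 143968, nat_lit 140104, nat_lit 137664, nat_lit 133572, nat_lit 586, nat_lit 4100, nat_lit 8704, nat_lit 12864, nat_lit 17856, nat_lit 23104, nat_lit 28544, nat_lit 31232, nat_lit 33792, nat_lit 37888, nat_lit 46246, nat_lit 41239, nat_lit 37145, nat_lit 32994, nat_lit 28677, nat_lit 24616, nat_lit 20563, nat_lit 16428, nat_lit 12294, nat_lit 8201, nat_lit 4100, nat_lit 2, nat_lit 438282, nat_lit 430088, nat_lit 421894, nat_lit 413700, nat_lit 405504, nat_lit 165376, nat_lit 160256, nat_lit 157056, nat_lit 153408, nat_lit 148032, nat_lit 144016,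 nat_lit 134152, nat_lit 8193, nat_lit 4097]⟩
def ndLr1_3 : El := ⟨[nat_lit 0x53a999a558a4002d8c1e93c857595c6192d3, nat_lit 0x360c0a8ce082028c68cf75c92a2d44f0bac6, nat_lit 0xa633638cd2c19e925bc403288eb84b06a2d5], [nat_lit 65536, nat_lit 69632, nat_lit 73728, nat_lit 77824, nat_lit 110592, nat_lit 173056, nat_lit 156288, nat_lit 154912, nat_lit 151264, nat_lit 144784, nat_lit 141008, nat_lit 135210, nat_lit 131428, nat_lit 3482, nat_lit 4100, nat_lit 8848, nat_lit 15760, nat_lit 16768, nat_lit 20736, nat_lit 28928, nat_lit 35328, nat_lit 46567, nat_lit 41978, nat_lit 37131, nat_lit 33310, nat_lit 29710, nat_lit 24621, nat_lit 20481, nat_lit 16398, nat_lit 12292, nat_lit 8203, nat_lit 4100, nat_lit 421894, nat_lit 413700, nat_lit 405504, nat_lit 155776, nat_lit 147584, nat_lit 143520, nat_lit 131288, nat_lit 45176, nat_lit 41184, nat_lit 36985, nat_lit 33008, nat_lit 8193, nat_lit 4097]⟩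
def ndLr1_4 : El := ⟨[nat_lit 0x53c00504441b992ea116d6590551eaf9c072, nat_lit 0xa0f595639af94e1108c405212b29cc4a5ed5], [nat_lit 65536, nat_lit 69632, nat_lit 73728, nat_lit 81920, nat_lit 86016, nat_lit 90112, nat_lit 94208, nat_lit 106496, nat_lit 110592, nat_lit 178176, nat_lit 173056, nat_lit 169984, nat_lit 165120, nat_lit 159680, nat_lit 153536, nat_lit 149744, nat_lit 143448, nat_lit 142564, nat_lit 138682, nat_lit 132237, nat_lit 2112, nat_lit 6208, nat_lit 10304, nat_lit 14448, nat_lit 17760, nat_lit 23872, nat_lit 27776, nat_lit 31744, nat_lit 35328, nat_lit 39936, nat_lit 46791, nat_lit 41676, nat_lit 38221, nat_lit 33281, nat_lit 28688, nat_lit 24595, nat_lit 20499, nat_lit 16418, nat_lit 13317, nat_lit 8193, nat_lit 4097, nat_lit 425989, nat_lit 409600, nat_lit 151808, nat_lit 147744, nat_lit 131088, nat_lit 40976, nat_lit 28688, nat_lit 12289, nat_lit 8193, nat_lit 4097]⟩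
def ndLg2_0 : El := ⟨[nat_lit 0xb4d7dea85e24313733ac51926ba424d500f1, nat_lit 0x33557122a79d1010ec105e95934ab4cd86, nat_lit 0xacfca0b5192b9963496a13be0468a608a14e], [nat_lit 65536, nat_lit 69632, nat_lit 73728, nat_lit 81920, nat_lit 86016, nat_lit 106496, nat_lit 178176, nat_lit 173056, nat_lit 168448, nat_lit 165888, nat_lit 163456, nat_lit 159680, nat_lit 154112, nat_lit 149856, nat_lit 144584, nat_lit 142724, nat_lit 138782, nat_lit 134978, nat_lit 1538, nat_lit 4100, nat_lit 9752, nat_lit 12704, nat_lit 18368, nat_lit 23936, nat_lit 29696, nat_lit 33280, nat_lit 37888, nat_lit 43008, nat_lit 46750, nat_lit 41336, nat_lit 37372, nat_lit 33333, nat_lit 28966, nat_lit 24759, nat_lit 20488, nat_lit 16451, nat_lit 12308, nat_lit 8200, nat_lit 4100, nat_lit 430087, nat_lit 413700, nat_lit 405504, nat_lit 151680, nat_lit 147488, nat_lit 143520, nat_lit 131232, nat_lit 45569, nat_lit 41112, nat_lit 32904, nat_lit 24632, nat_lit 8193, nat_lit 4097, nat_lit 327680]⟩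
def ndLg2_1 : El := ⟨[nat_lit 0xd274784da448d5476386da2266081e282cb7, nat_lit 0x3f90c54522e5b6159bee909c039598a118a4], [nat_lit 77824, nat_lit 81920, nat_lit 90112, nat_lit 94208, nat_lit 98304, nat_lit 102400, nat_lit 106496, nat_lit 110592, nat_lit 178176, nat_lit 168448, nat_lit 167680, nat_lit 160384, nat_lit 158592, nat_lit 154240, nat_lit 151312, nat_lit 145728, nat_lit 141308, nat_lit 136774, nat_lit 134998, nat_lit 3452, nat_lit 7548, nat_lit 11432, nat_lit 13840, nat_lit 16480, nat_lit 23360, nat_lit 30720, nat_lit 34304, nat_lit 37888, nat_lit 43008, nat_lit 46535, nat_lit 41757, nat_lit 37261, nat_lit 32894, nat_lit 29251, nat_lit 24596, nat_lit 20500, nat_lit 16425, nat_lit 12310, nat_lit 8208, nat_lit 4097, nat_lit 2, nat_lit 417796, nat_lit 405504, nat_lit 131160, nat_lit 41024, nat_lit 36953, nat_lit 32776, nat_lit 8193, nat_lit 4097, nat_lit 327680]⟩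
def ndLg2_2 : El := ⟨[nat_lit 0x8d17716de4874ecba25903802230c858d5ea, nat_lit 0xd8ddd78bc56395641caaca020e0cdb73212a], [nat_lit 65536, nat_lit 69632, nat_lit 73728, nat_lit 77824, nat_lit 86016, nat_lit 98304, nat_lit 106496, nat_lit 178176, nat_lit 167424, nat_lit 161408, nat_lit 158208, nat_lit 155360, nat_lit 150016, nat_lit 146864, nat_lit 139776, nat_lit 135218, nat_lit 131450, nat_lit 2806, nat_lit 4100, nat_lit 10992, nat_lit 12304, nat_lit 18016, nat_lit 23360, nat_lit 26496, nat_lit 32000, nat_lit 35328, nat_lit 39936, nat_lit 46984, nat_lit 43259, nat_lit 38257, nat_lit 32800, nat_lit 28792, nat_lit 24712, nat_lit 20568, nat_lit 16386, nat_lit 8195, nat_lit 4100, nat_lit 434183, nat_lit 409600, nat_lit 131216, nat_lit 36865, nat_lit 32896, nat_lit 20496, nat_lit 8193, nat_lit 4097]⟩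
def ndLg2_3 : El := ⟨[nat_lit 0x27444494e0351df5616c8591b400622326ee, nat_lit 0x18b2ed53616088c092eacbc52e9a1f419ca4], [nat_lit 77824, nat_lit 81920, nat_lit 86016, nat_lit 90112, nat_lit 110592, nat_lit 175104, nat_lit 171520, nat_lit 164864, nat_lit 161408, nat_lit 157184, nat_lit 152416, nat_lit 147696, nat_lit 145200, nat_lit 142704, nat_lit 138654, nat_lit 134427, nat_lit 1768, nat_lit 5864, nat_lit 9960, nat_lit 15648, nat_lit 17312, nat_lit 24192, nat_lit 25088, nat_lit 30720, nat_lit 34816, nat_lit 43008, nat_lit 46031, nat_lit 41683, nat_lit 37321, nat_lit 33464, nat_lit 29249, nat_lit 24875, nat_lit 20753, nat_lit 16450, nat_lit 12289, nat_lit 8193, nat_lit 4097, nat_lit 434183, nat_lit 409600, nat_lit 160768, nat_lit 148608, nat_lit 132096, nat_lit 36865, nat_lit 32896, nat_lit 20496, nat_lit 8193, nat_lit 4097]⟩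
def ndLg2_4 : El := ⟨[nat_lit 0xd1411875c700d62f34d3225116635653804a, nat_lit 0xfa6a05888012d9886ac943aaaf49aee94c70, nat_lit 0xd4d41d532e542c32aa5a478a2e1ccc785016], [nat_lit 65536, nat_lit 69632, nat_lit 73728, nat_lit 94208, nat_lit 98304, nat_lit 106496, nat_lit 174080, nat_lit 168960, nat_lit 160896, nat_lit 158912, nat_lit 154400, nat_lit 148544, nat_lit 144496, nat_lit 139472, nat_lit 137176, nat_lit 134374, nat_lit 3862, nat_lit 4100, nat_lit 12048, nat_lit 12624, nat_lit 17184, nat_lit 20992, nat_lit 27520, nat_lit 29184, nat_lit 35840, nat_lit 38912, nat_lit 46888, nat_lit 41009, nat_lit 36990, nat_lit 34913, nat_lit 28790, nat_lit 24766, nat_lit 20482, nat_lit 16514, nat_lit 12352, nat_lit 8195, nat_lit 4100, nat_lit 2, nat_lit 421894, nat_lit 413700, nat_lit 405504, nat_lit 147616, nat_lit 143472, nat_lit 131232, nat_lit 45176, nat_lit 41112, nat_lit 36985, nat_lit 32904, nat_lit 8193, nat_lit 4097, nat_lit 327680]⟩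
def ndLr2_0 : El := ⟨[nat_lit 0xbee7e21b5cc49256b9570784409a286a9d51, nat_lit 0xc399000806229cc4635eeb56f494e115a548], [nat_lit 86016, nat_lit 94208, nat_lit 178176, nat_lit 175104, nat_lit 169984, nat_lit 165632, nat_lit 160128, nat_lit 156992, nat_lit 153056, nat_lit 149776, nat_lit 146968, nat_lit 141464, nat_lit 136724, nat_lit 132819, nat_lit 3034, nat_lit 4100, nat_lit 12136, nat_lit 15312, nat_lit 18848, nat_lit 22144, nat_lit 25856, nat_lit 32512, nat_lit 34816, nat_lit 45069, nat_lit 41922, nat_lit 37986, nat_lit 32979, nat_lit 28799, nat_lit 24735, nat_lit 16518, nat_lit 12295, nat_lit 8200, nat_lit 4100, nat_lit 425989, nat_lit 409600, nat_lit 151808, nat_lit 147744, nat_lit 131088, nat_lit 40976, nat_lit 28688, nat_lit 12289, nat_lit 8193, nat_lit 4097, nat_lit 327680]⟩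
def ndLr2_1 : El := ⟨[nat_lit 0xafa0a33a9f59ca0335dc988041658a823574, nat_lit 0xc63f5000462635cf9c25121cc5b52b75a50a], [nat_lit 65536, nat_lit 69632, nat_lit 73728, nat_lit 81920, nat_lit 86016, nat_lit 90112, nat_lit 94208, nat_lit 106496, nat_lit 110592, nat_lit 178176, nat_lit 173056, nat_lit 169984, nat_lit 165120, nat_lit 159680, nat_lit 153536, nat_lit 149744, nat_lit 143448, nat_lit 142564, nat_lit 138682, nat_lit 132237, nat_lit 2112, nat_lit 6208, nat_lit 10304, nat_lit 14448, nat_lit 17760, nat_lit 23872, nat_lit 27776, nat_lit 31744, nat_lit 35328, nat_lit 39936, nat_lit 46791, nat_lit 41676, nat_lit 38221, nat_lit 33281, nat_lit 28688, nat_lit 24595, nat_lit 20499, nat_lit 16418, nat_lit 13317, nat_lit 8193, nat_lit 4097, nat_lit 425989, nat_lit 409600, nat_lit 151808, nat_lit 147744, nat_lit 131088, nat_lit 40976, nat_lit 28688, nat_lit 12289, nat_lit 8193, nat_lit 4097]⟩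
def ndLr2_2 : El := ⟨[nat_lit 0xa3cffa4d8d41c6ae51dac12ca041272b85f0, nat_lit 0x71114450e076949689921702e29be555a28c, nat_lit 0x30536f78121b4844bcce3441b15d68e2b0ca, nat_lit 0x30ac6f5a1a59d543099c04de22940ef65096], [nat_lit 90112, nat_lit 98304, nat_lit 102400, nat_lit 178176, nat_lit 164608, nat_lit 160256, nat_lit 156160, nat_lit 152128, nat_lit 147536, nat_lit 143968, nat_lit 140104, nat_lit 137664, nat_lit 133572, nat_lit 586, nat_lit 4100, nat_lit 8704, nat_lit 12864, nat_lit 17856, nat_lit 23104, nat_lit 28544, nat_lit 31232, nat_lit 33792, nat_lit 37888, nat_lit 46246, nat_lit 41239, nat_lit 37145, nat_lit 32994, nat_lit 28677, nat_lit 24616, nat_lit 20563, nat_lit 16428, nat_lit 12294, nat_lit 8201, nat_lit 4100, nat_lit 2, nat_lit 438282, nat_lit 430088, nat_lit 421894, nat_lit 413700, nat_lit 405504, nat_lit 165376, nat_lit 160256, nat_lit 157056, nat_lit 153408, nat_lit 148032, nat_lit 144016, nat_lit 134152, nat_lit 8193, nat_lit 4097]⟩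
def ndLg3_0 : El := ⟨[nat_lit 0x56a5f049d907ccc85c5a4549c5adc76a0820], [nat_lit 65536, nat_lit 69632, nat_lit 73728, nat_lit 81920, nat_lit 90112, nat_lit 94208, nat_lit 102400, nat_lit 106496, nat_lit 178176, nat_lit 173056, nat_lit 168960, nat_lit 166400, nat_lit 163200, nat_lit 156928, nat_lit 154304, nat_lit 150208, nat_lit 144104, nat_lit 139948, nat_lit 137880, nat_lit 134805, nat_lit 2, nat_lit 6732, nat_lit 8224, nat_lit 14912, nat_lit 16608, nat_lit 22592, nat_lit 26880, nat_lit 29440, nat_lit 34304, nat_lit 38912, nat_lit 41718, nat_lit 37229, nat_lit 33408, nat_lit 29000, nat_lit 24621, nat_lit 20493, nat_lit 16394, nat_lit 12293, nat_lit 8200, nat_lit 4097, nat_lit 2, nat_lit 327680]⟩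
def ndLg3_1 : El := ⟨[nat_lit 0x69330394c365e6a7da498d16d43ab020820], [nat_lit 77824, nat_lit 86016, nat_lit 90112, nat_lit 98304, nat_lit 106496, nat_lit 169472, nat_lit 158784, nat_lit 152256, nat_lit 149008, nat_lit 146896, nat_lit 140408, nat_lit 138338, nat_lit 133642, nat_lit 2, nat_lit 4100, nat_lit 11376, nat_lit 12304, nat_lit 17440, nat_lit 23616, nat_lit 28032, nat_lit 29184, nat_lit 34304, nat_lit 41879, nat_lit 36926, nat_lit 32904, nat_lit 29050, nat_lit 24720, nat_lit 20491, nat_lit 16387, nat_lit 12320, nat_lit 8195, nat_lit 4100, nat_lit 2]⟩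
def ndLg3_2 : El := ⟨[nat_lit 0x6f655f91ee8acd2573c6c51ad08928b68820], [nat_lit 65536, nat_lit 69632, nat_lit 73728, nat_lit 77824, nat_lit 86016, nat_lit 94208, nat_lit 178176, nat_lit 174080, nat_lit 171520, nat_lit 166400, nat_lit 163584, nat_lit 156992, nat_lit 152960, nat_lit 147952, nat_lit 146000, nat_lit 140840, nat_lit 135186, nat_lit 131939, nat_lit 2, nat_lit 4684, nat_lit 9120, nat_lit 12864, nat_lit 16768, nat_lit 23168, nat_lit 24704, nat_lit 31488, nat_lit 39936, nat_lit 43008, nat_lit 41917, nat_lit 38362, nat_lit 33872, nat_lit 28685, nat_lit 24832, nat_lit 20493, nat_lit 16395, nat_lit 12294, nat_lit 8203, nat_lit 4097, nat_lit 2]⟩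
def ndLg3_3 : El := ⟨[nat_lit 0x9a3cff45490b1e6b552451b1edb993170820], [nat_lit 81920, nat_lit 90112, nat_lit 98304, nat_lit 178176, nat_lit 175104, nat_lit 168448, nat_lit 165888, nat_lit 160640, nat_lit 156160, nat_lit 152384, nat_lit 150160, nat_lit 144664, nat_lit 141520, nat_lit 135254, nat_lit 131296, nat_lit 2, nat_lit 7324, nat_lit 8704, nat_lit 15136, nat_lit 18336, nat_lit 23296, nat_lit 26368, nat_lit 34304, nat_lit 41501, nat_lit 37232, nat_lit 32974, nat_lit 28743, nat_lit 24603, nat_lit 21005, nat_lit 16397, nat_lit 12289, nat_lit 8208, nat_lit 4097, nat_lit 2]⟩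
def ndLg3_4 : El := ⟨[nat_lit 0x3af5cf658a86ac943aaaf80e7235d2e88820], [nat_lit 65536, nat_lit 69632, nat_lit 73728, nat_lit 77824, nat_lit 81920, nat_lit 86016, nat_lit 94208, nat_lit 98304, nat_lit 102400, nat_lit 178176, nat_lit 173056, nat_lit 167680, nat_lit 163328, nat_lit 158592, nat_lit 152992, nat_lit 150880, nat_lit 146064, nat_lit 141396, nat_lit 137046, nat_lit 134298, nat_lit 3034, nat_lit 4100, nat_lit 8704, nat_lit 15312, nat_lit 20384, nat_lit 22784, nat_lit 27776, nat_lit 30464, nat_lit 41301, nat_lit 37310, nat_lit 33456, nat_lit 29298, nat_lit 24738, nat_lit 20544, nat_lit 16394, nat_lit 12294, nat_lit 8200, nat_lit 4100]⟩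
def ndLr3_0 : El := ⟨[], [nat_lit 110592]⟩
def ndLr3_1 : El := ⟨[], []⟩
def ndLr3_2 : El := ⟨[nat_lit 0x281e82341ee256931a9960064715d0d59531, nat_lit 0x42228d931b5438a2541763468401de9986e3, nat_lit 0x6f655f44c01351e2aaef129d507492c68ec4, nat_lit 0x88728483805ab54f1853634c4c8cae8a2c87], [nat_lit 90112, nat_lit 98304, nat_lit 102400, nat_lit 178176, nat_lit 164608, nat_lit 160256, nat_lit 156160, nat_lit 152128, nat_lit 147536, nat_lit 143968, nat_lit 140104, nat_lit 137664, nat_lit 133572, nat_lit 586, nat_lit 4100, nat_lit 8704, nat_lit 12864, nat_lit 17856, nat_lit 23104, nat_lit 28544, nat_lit 31232, nat_lit 33792, nat_lit 37888, nat_lit 46246, nat_lit 41239, nat_lit 37145, nat_lit 32994, nat_lit 28677, nat_lit 24616, nat_lit 20563, nat_lit 16428, nat_lit 12294, nat_lit 8201, nat_lit 4100, nat_lit 2, nat_lit 438282, nat_lit 430088, nat_lit 421894, nat_lit 413700, nat_lit 405504, nat_lit 165376, nat_lit 160256, nat_lit 157056, nat_lit 153408, nat_lit 148032, nat_lit 144016,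 nat_lit 134152, nat_lit 8193, nat_lit 4097]⟩
def ndLr3_3 : El := ⟨[nat_lit 0xfc6f56546902cdc3abd2c3c80d3588b10517, nat_lit 0x4784dd3d60d489480046b95c8eb44cf9d0ac, nat_lit 0xa6550f20e055a22161a89acee06d947139f2], [nat_lit 65536, nat_lit 69632, nat_lit 73728, nat_lit 77824, nat_lit 110592, nat_lit 173056, nat_lit 156288, nat_lit 154912, nat_lit 151264, nat_lit 144784, nat_lit 141008, nat_lit 135210, nat_lit 131428, nat_lit 3482, nat_lit 4100, nat_lit 8848, nat_lit 15760, nat_lit 16768, nat_lit 20736, nat_lit 28928, nat_lit 35328, nat_lit 46567, nat_lit 41978, nat_lit 37131, nat_lit 33310, nat_lit 29710, nat_lit 24621, nat_lit 20481, nat_lit 16398, nat_lit 12292, nat_lit 8203, nat_lit 4100, nat_lit 421894, nat_lit 413700, nat_lit 405504, nat_lit 155776, nat_lit 147584, nat_lit 143520, nat_lit 131288, nat_lit 45176, nat_lit 41184, nat_lit 36985, nat_lit 33008, nat_lit 8193, nat_lit 4097]⟩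
def ndLr3_4 : El := ⟨[nat_lit 0x5093099c2515a12a6b9ec00823310e5a5eb6, nat_lit 0xd7118d0c4ed64cc04d6971160e23c72b2d0a], [nat_lit 65536, nat_lit 69632, nat_lit 73728, nat_lit 81920, nat_lit 94208, nat_lit 98304, nat_lit 110592, nat_lit 168448, nat_lit 166912, nat_lit 162816, nat_lit 157952, nat_lit 153504, nat_lit 149104, nat_lit 145184, nat_lit 141712, nat_lit 137098, nat_lit 135027, nat_lit 202, nat_lit 4100, nat_lit 10272, nat_lit 13008, nat_lit 19136, nat_lit 21248, nat_lit 26752, nat_lit 30720, nat_lit 34816, nat_lit 39936, nat_lit 46949, nat_lit 41406, nat_lit 37365, nat_lit 32812, nat_lit 28754, nat_lit 24606, nat_lit 20490, nat_lit 16453, nat_lit 12291, nat_lit 8257, nat_lit 4100, nat_lit 2, nat_lit 417797, nat_lit 405504, nat_lit 151616, nat_lit 131080, nat_lit 40992, nat_lit 36969, nat_lit 32800, nat_lit 28736, nat_lit 8193, nat_lit 4097]⟩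
def ndLr3_5 : El := ⟨[nat_lit 0x4e8181bc16503c4141a7489eaa6346e226d2, nat_lit 0x3060c542d2a6b1cfb56f43948610c0184e51], [nat_lit 86016, nat_lit 94208, nat_lit 178176, nat_lit 175104, nat_lit 169984, nat_lit 165632, nat_lit 160128, nat_lit 156992, nat_lit 153056, nat_lit 149776, nat_lit 146968, nat_lit 141464, nat_lit 136724, nat_lit 132819, nat_lit 3034, nat_lit 4100, nat_lit 12136, nat_lit 15312, nat_lit 18848, nat_lit 22144, nat_lit 25856, nat_lit 32512, nat_lit 34816, nat_lit 45069, nat_lit 41922, nat_lit 37986, nat_lit 32979, nat_lit 28799, nat_lit 24735, nat_lit 16518, nat_lit 12295, nat_lit 8200, nat_lit 4100, nat_lit 425989, nat_lit 409600, nat_lit 151808, nat_lit 147744, nat_lit 131088, nat_lit 40976, nat_lit 28688, nat_lit 12289, nat_lit 8193, nat_lit 4097, nat_lit 327680]⟩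
def ndLg4_0 : El := ⟨[nat_lit 0xa365c3724e355a6890aa10196cb94918368f, nat_lit 0xcca9024ce2515d51daf242431a2d86035f0, nat_lit 0xc09ca1ac10684f54d2f144dcf111962c946, nat_lit 0x7111bb54132691e69ad11bd4203b1c51da82], [nat_lit 90112, nat_lit 94208, nat_lit 98304, nat_lit 102400, nat_lit 106496, nat_lit 110592, nat_lit 174080, nat_lit 168960, nat_lit 166144, nat_lit 161024, nat_lit 158592, nat_lit 155040, nat_lit 149664, nat_lit 145888, nat_lit 140624, nat_lit 136712, nat_lit 133807, nat_lit 2536, nat_lit 6632, nat_lit 10728, nat_lit 12320, nat_lit 19616, nat_lit 20928, nat_lit 26240, nat_lit 28928, nat_lit 35328, nat_lit 38912, nat_lit 45700, nat_lit 41503, nat_lit 37034, nat_lit 32872, nat_lit 28762, nat_lit 24596, nat_lit 20506, nat_lit 16418, nat_lit 12304, nat_lit 8193, nat_lit 4097, nat_lit 2, nat_lit 438282, nat_lit 430088, nat_lit 421894, nat_lit 413700, nat_lit 405504, nat_lit 174080, nat_lit 171008, nat_lit 167424, nat_lit 157440, nat_lit 152768, nat_lit 150400, nat_lit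 145200, nat_lit 131216, nat_lit 8193, nat_lit 4097]⟩
def ndLg4_1 : El := ⟨[nat_lit 0x5969aa7d0a95dcec80272239566d4c818622, nat_lit 0xd1e4d17b1c110c0da20b05de668a4f69548a, nat_lit 0x4e7e7e829c3226ab0c9a87b2c615ce02c674], [nat_lit 65536, nat_lit 69632, nat_lit 73728, nat_lit 77824, nat_lit 81920, nat_lit 90112, nat_lit 102400, nat_lit 110592, nat_lit 178176, nat_lit 173056, nat_lit 168960, nat_lit 164352, nat_lit 162304, nat_lit 158720, nat_lit 152000, nat_lit 150400, nat_lit 145872, nat_lit 141468, nat_lit 136904, nat_lit 131522, nat_lit 516, nat_lit 4612, nat_lit 11912, nat_lit 15952, nat_lit 17760, nat_lit 23616, nat_lit 25088, nat_lit 29440, nat_lit 34304, nat_lit 38912, nat_lit 46541, nat_lit 43824, nat_lit 38343, nat_lit 33401, nat_lit 29799, nat_lit 24834, nat_lit 21015, nat_lit 16516, nat_lit 12305, nat_lit 8202, nat_lit 4097, nat_lit 2, nat_lit 438279, nat_lit 413700, nat_lit 405504, nat_lit 151680, nat_lit 147616, nat_lit 133280, nat_lit 40961, nat_lit 36865, nat_lit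 32944, nat_lit 24624, nat_lit 8193, nat_lit 4097, nat_lit 327680]⟩
def ndLg4_2 : El := ⟨[nat_lit 0xf0000fb38f3ac8cc2c1f740d492363458820], [nat_lit 65536, nat_lit 69632, nat_lit 73728, nat_lit 86016, nat_lit 94208, nat_lit 98304, nat_lit 106496, nat_lit 178176, nat_lit 175104, nat_lit 171008, nat_lit 166400, nat_lit 160768, nat_lit 159424, nat_lit 153120, nat_lit 148064, nat_lit 147040, nat_lit 140684, nat_lit 138514, nat_lit 133523, nat_lit 2048, nat_lit 6144, nat_lit 10240, nat_lit 13264, nat_lit 16800, nat_lit 25216, nat_lit 28928, nat_lit 34304, nat_lit 37888, nat_lit 41629, nat_lit 38045, nat_lit 32838, nat_lit 29725, nat_lit 24622, nat_lit 20511, nat_lit 16431, nat_lit 12290]⟩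
def ndLg4_3 : El := ⟨[nat_lit 0xb8d1e45010348961710ac8dab0698efa5e72, nat_lit 0xd22eb1611a1a3d3332c6a75d113d456940a0, nat_lit 0xd4e7b76b9468bc3495c0c3ce0b11469256c8, nat_lit 0x2eebde0090f88ee499a8164a0aab6cb714e9], [nat_lit 77824, nat_lit 86016, nat_lit 110592, nat_lit 178176, nat_lit 173056, nat_lit 168448, nat_lit 159872, nat_lit 157376, nat_lit 151584, nat_lit 147968, nat_lit 145648, nat_lit 139716, nat_lit 136498, nat_lit 132594, nat_lit 3072, nat_lit 7168, nat_lit 11264, nat_lit 15200, nat_lit 17984, nat_lit 22656, nat_lit 25728, nat_lit 30208, nat_lit 33792, nat_lit 39936, nat_lit 43008, nat_lit 45963, nat_lit 41324, nat_lit 37056, nat_lit 32845, nat_lit 28771, nat_lit 24598, nat_lit 20638, nat_lit 16392, nat_lit 12294, nat_lit 8193, nat_lit 4097, nat_lit 438282, nat_lit 430088, nat_lit 421894, nat_lit 413700, nat_lit 405504, nat_lit 164864, nat_lit 162304, nat_lit 152704, nat_lit 147904, nat_lit 145296, nat_lit 132784, nat_lit 8193, nat_lit 4097, nat_lit 327680]⟩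
def ndLg4_4 : El := ⟨[nat_lit 0xacfca0130307c4869b50ba2407a9543959d7, nat_lit 0x8242b8a9ee34054404646626d02bda2a2dd3, nat_lit 0x39f59152d3804854d5e76819272ae61ad11, nat_lit 0x639c6511d09986242b80f5b256ab55035e83], [nat_lit 81920, nat_lit 86016, nat_lit 98304, nat_lit 106496, nat_lit 178176, nat_lit 174080, nat_lit 169472, nat_lit 166912, nat_lit 162176, nat_lit 156544, nat_lit 153888, nat_lit 148976, nat_lit 145720, nat_lit 140588, nat_lit 135516, nat_lit 134530, nat_lit 128, nat_lit 4224, nat_lit 8320, nat_lit 14768, nat_lit 17376, nat_lit 23936, nat_lit 24960, nat_lit 29696, nat_lit 33280, nat_lit 39936, nat_lit 43008, nat_lit 46667, nat_lit 41728, nat_lit 38272, nat_lit 32853, nat_lit 28741, nat_lit 24579, nat_lit 20501, nat_lit 16393, nat_lit 12291, nat_lit 8193, nat_lit 4097, nat_lit 2, nat_lit 438282, nat_lit 430088, nat_lit 421894, nat_lit 413700, nat_lit 405504, nat_lit 174080, nat_lit 168960, nat_lit 166912, nat_lit 160256, nat_lit 159232, nat_lit 153344, nat_lit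 147968, nat_lit 146256, nat_lit 131912, nat_lit 8193, nat_lit 4097, nat_lit 327680]⟩
def ndLr4_0 : El := ⟨[nat_lit 0xa0393f2d98898e126917435d2eaa9e70c402, nat_lit 0x36cf50635cf4a14b9ca11a56d731ca410061], [nat_lit 65536, nat_lit 69632, nat_lit 73728, nat_lit 81920, nat_lit 86016, nat_lit 90112, nat_lit 94208, nat_lit 106496, nat_lit 110592, nat_lit 178176, nat_lit 173056, nat_lit 169984, nat_lit 165120, nat_lit 159680, nat_lit 153536, nat_lit 149744, nat_lit 143448, nat_lit 142564, nat_lit 138682, nat_lit 132237, nat_lit 2112, nat_lit 6208, nat_lit 10304, nat_lit 14448, nat_lit 17760, nat_lit 23872, nat_lit 27776, nat_lit 31744, nat_lit 35328, nat_lit 39936, nat_lit 46791, nat_lit 41676, nat_lit 38221, nat_lit 33281, nat_lit 28688, nat_lit 24595, nat_lit 20499, nat_lit 16418, nat_lit 13317, nat_lit 8193, nat_lit 4097, nat_lit 425989, nat_lit 409600, nat_lit 151808, nat_lit 147744, nat_lit 131088, nat_lit 40976, nat_lit 28688, nat_lit 12289, nat_lit 8193, nat_lit 4097]⟩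
def ndLr4_1 : El := ⟨[], []⟩

def gensL : List (List El) := [
  [ndLg0_0, ndLg0_1, ndLg0_2, ndLg0_3, ndLg0_4],
  [ndLg1_0, ndLg1_1, ndLg1_2, ndLg1_3, ndLg1_4],
  [ndLg2_0, ndLg2_1, ndLg2_2, ndLg2_3, ndLg2_4],
  [ndLg3_0, ndLg3_1, ndLg3_2, ndLg3_3, ndLg3_4],
  [ndLg4_0, ndLg4_1, ndLg4_2, ndLg4_3, ndLg4_4]]

def repsL : List (List (El × ℕ)) := [
  [(ndLr0_0, nat_lit 1)],
  [(ndLr1_0, nat_lit 0), (ndLr1_1, nat_lit 1), (ndLr1_2, nat_lit 3), (ndLr1_3, nat_lit 2), (ndLr1_4, nat_lit 1)],
  [(ndLr2_0, nat_lit 2), (ndLr2_1, nat_lit 1), (ndLr2_2, nat_lit 3)],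
  [(ndLr3_0, nat_lit 1), (ndLr3_1, nat_lit 3), (ndLr3_2, nat_lit 4), (ndLr3_3, nat_lit 3), (ndLr3_4, nat_lit 2), (ndLr3_5, nat_lit 3)],
  [(ndLr4_0, nat_lit 3), (ndLr4_1, nat_lit 4)]]

def matL : List (List ℕ) := [
  [0, 1782, 0, 0, 0],
  [1, 85, 672, 1024, 0],
  [0, 27, 27, 1728, 0],
  [0, 1, 42, 715, 1024],
  [0, 0, 0, 891, 891]]

end

end CF.Mon
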