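import Cfsg.Agent.Mon.CovS
import Cfsg.Agent.Mon.NdL

/-! The orbits of the node stabilisers on the labels: level `L`. -/

set_option autoImplicit false
set_option maxRecDepth 1000000
set_option maxHeartbeats 400000
set_option Elab.async false

namespace CF.Mon.Cov.L

noncomputable def fs0 : List Nat := [(nat_lit 58720256)]
noncomputable def W0 : List (List Nat) := [[(nat_lit 0), (nat_lit 0)],
  [(nat_lit 5), (nat_lit 0)],
  [(nat_lit 5), (nat_lit 6), (nat_lit 3)],
  [(nat_lit 4), (nat_lit 4)],
  [(nat_lit 1), (nat_lit 1), (nat_lit 4)],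
  [(nat_lit 2), (nat_lit 8), (nat_lit 5)],
  [(nat_lit 9), (nat_lit 6)],
  [(nat_lit 8), (nat_lit 4)]]
noncomputable def rs0_m0 : Nat := (nat_lit 0x1)
noncomputable def rs0_m1 : Nat := (nat_lit 0x3)
noncomputable def rs0_m2 : Nat := (nat_lit 0xf)
noncomputable def rs0_m3 : Nat := (nat_lit 0xff)
noncomputable def rs0_m4 : Nat := (nat_lit 0xffff)
noncomputable def rs0_m5 : Nat := (nat_lit 0xffffffff)
noncomputable def rs0_m6 : Nat := (nat_lit 0xffffffffffffffff)
noncomputable def rs0_m7 : Nat := (nat_lit 0xfffffffffffffffffdfffffffeffffdf)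
noncomputable def rs0_m8 : Nat := (nat_lit 0x1bff6dfffffffe7cf9ff7efffffffdeffbd7ffffb7fffffffefd7dfffffffdff)
noncomputable def rs0_m9 : Nat := (nat_lit 0x333eff7bfffddfbe45fcdbe77edef7ffffc3ebb87bfea3ffafdfffffe7edfe7dfb21be39affd45dffffbfcffb9dfbd5dde2577ff35ffefffd1f6bbebf)
noncomputable def rs0_m10 : Nat := (nat_lit 0x90cf3fd63a69687c0e30c835784fd9ad9fe8732b3612d965f8da39f336e5c5cffbd18a9a0fdd82428cdf8cdfaebd4f3aa65b766ee7f23c47c6c7ff4f6cf788cc767f3bbbe489cace0c36adc1b236ff6ba6a5b4bd48c37e2fc18ce9a6d8b7eecef09208544388e5b2c3f9e)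
noncomputable def rs0_m11 : Nat := (nat_lit 0x10048284004c308c0c012022801c121068105012b825070709440c0461e480a11406311c02abc5083ca2d24a0053041554206423725040403b115860802c0208dc648802348db02703d0202808b88a1a2cc261009a01c0e355a081e4909064420080d088004819a81004506800421404c0ca009d02f6288001468004646b4020983519ab0144052121080800620184c401000908418018201b0048470013020210048408d8)
noncomputable def rs0_m12 : Nat := (nat_lit 0x48600000000000800200000000002401000800000080001008000401000002200110802800000000001100400009008880000000000000000000000001000800000000040000810002002100001000206000080200008001401401000020000000000000040000010000100000001000000100000000000000000a2800208000000000000000080010000000008081000000000000028420000000000600000000100000000000008000000000000180002024002004000000000040000000000002080080110240000002000020000241000)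
noncomputable def rs0_m13 : Nat := (nat_lit 0x8000000000000000000000000000000000000000000000000000000000000000000000)
noncomputable def rs0 : List (Nat × Nat × Nat) := [((nat_lit 8), (nat_lit 1), rs0_m0), ((nat_lit 9), (nat_lit 2), rs0_m1), ((nat_lit 10), (nat_lit 4), rs0_m2), ((nat_lit 11), (nat_lit 8), rs0_m3), ((nat_lit 12), (nat_lit 16), rs0_m4), ((nat_lit 7), (nat_lit 32), rs0_m5), ((nat_lit 6), (nat_lit 64), rs0_m6), ((nat_lit 5), (nat_lit 128), rs0_m7), ((nat_lit 4), (nat_lit 253), rs0_m8), ((nat_lit 3), (nat_lit 482), rs0_m9), ((nat_lit 2), (nat_lit 852), rs0_m10), ((nat_lit 1), (nat_lit 1317), rs0_m11), ((nat_lit 0), (nat_lit 1683), rs0_m12), ((nat_lit 8), (nat_lit 280), rs0_m13)]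
noncomputable def M0 : List Nat := [(nat_lit 1782)]
noncomputable def b0 : Nat := (nat_lit 1)

theorem c0 : Cv G.PB Y0 (gensL.getD 0 []) (repsL.getD 0 []) (matL.getD 0 []) :=
  cover_small elB_PB lab_Y0 G.ncard_orb_B_Y0 (fs := fs0) (b := b0) (W := W0) (rs := rs0) (M := M0)
    (by decide +kernel)

noncomputable def fs1 : List Nat := [(nat_lit 41943040), (nat_lit 92274688), (nat_lit 117475504), (nat_lit 163731192), (nat_lit 195063808)]
noncomputable def W1 : List (List Nat) := [[(nat_lit 3), (nat_lit 3)],
  [(nat_lit 5), (nat_lit 4), (nat_lit 1)],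
  [(nat_lit 3), (nat_lit 6), (nat_lit 2)],
  [(nat_lit 3), (nat_lit 6)],
  [(nat_lit 6), (nat_lit 0)],
  [(nat_lit 7), (nat_lit 9)],
  [(nat_lit 2), (nat_lit 9), (nat_lit 10)],
  [(nat_lit 5), (nat_lit 1)]]
noncomputable def rs1_m0 : Nat := (nat_lit 0x1c)
noncomputable def rs1_m1 : Nat := (nat_lit 0xfc)
noncomputable def rs1_m2 : Nat := (nat_lit 0x3ffc)
noncomputable def rs1_m3 : Nat := (nat_lit 0x3fffffc)
noncomputable def rs1_m4 : Nat := (nat_lit 0x3fffffffffffc)
noncomputable def rs1_m5 : Nat := (nat_lit 0x1fffffeffffedbffbffbfdf7c)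
noncomputable def rs1_m6 : Nat := (nat_lit 0x1f6db6dfdbfdf6deeb9fdfbbffb7fb7df65b5df6fbefbfc)
noncomputable def rs1_m7 : Nat := (nat_lit 0x1bf7787adffff7aff5edff6fdafedcfdbb7bfb2db6d6df6ff6dcdb5bdfdb65b6d12cb2cb6db65b6db6c)
noncomputable def rs1_m8 : Nat := (nat_lit 0xfebb3fb33fcfb73af997f7fed7c1fd73ee5ffdfaff47fb4f5ba1efffff9de3b7e5bb6d3a7d5649b2f9ac9caf5e7733a25b692d32ff6dccbdbced965b6cb6d965b68a6d22db04)
noncomputable def rs1_m9 : Nat := (nat_lit 0x6f9dfd062b692c54eb10159f95317a9d30225878e7d488ee690f4eca3970e46f34ff8bf9e71187d65ab3ab8fe3f4522ab1afb53aaad946f7f757cdbb5fee4fc89a55132150a1074fcf9a308112acad7116701658e0d96390c6da171382016820320721e0998080a24965848a2082830402c960)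
noncomputable def rs1_m10 : Nat := (nat_lit 0x10ee442800894234242400a4520040b08242440080c1000509108095ec300a5a240020c2884bd4b0158342805285083a0500cf830e07206200825020043088500404884c01a7000a3491908a048200c200210094700d03454a420252b08c492220b0d88d482014c0130180028466200214184886054a84a402402308000808c421e9500a80008401548001208c101844600028001012002c30ce1002420100000a00808000844860820)
noncomputable def rs1_m11 : Nat := (nat_lit 0xc10006008010004410010000000100002000000008004000200000000000000000000000000000000800000000000004000002100041000084100000000000108082000040010010800000000202000000100004200200000800000000002000200040040008000042081000000000000800004000004400000000200088000a820000000881000001000000004008100000000100042000000000004100040000004000000200000000000500c0000020100000020010010008010000000032000800000000000000800000000004100)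
noncomputable def rs1_m12 : Nat := (nat_lit 0x100000000000000000000000000000000000000000000000000000000000000000000000000000000000000000000000000040000000000000000000000000000000000000000000000000000000000000000000000000000000000000000000000000)
noncomputable def rs1 : List (Nat × Nat × Nat) := [((nat_lit 8), (nat_lit 5), rs1_m0), ((nat_lit 9), (nat_lit 8), rs1_m1), ((nat_lit 10), (nat_lit 14), rs1_m2), ((nat_lit 7), (nat_lit 26), rs1_m3), ((nat_lit 6), (nat_lit 50), rs1_m4), ((nat_lit 5), (nat_lit 97), rs1_m5), ((nat_lit 4), (nat_lit 185), rs1_m6), ((nat_lit 3), (nat_lit 329), rs1_m7), ((nat_lit 2), (nat_lit 560), rs1_m8), ((nat_lit 12), (nat_lit 919), rs1_m9), ((nat_lit 1), (nat_lit 1353), rs1_m10), ((nat_lit 0), (nat_lit 1668), rs1_m11), ((nat_lit 3), (nat_lit 789), rs1_m12)]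
noncomputable def M1 : List Nat := [(nat_lit 1), (nat_lit 1), (nat_lit 1024), (nat_lit 672), (nat_lit 84)]
noncomputable def b1 : Nat := (nat_lit 3)

theorem c1 : Cv G.PB Y0 (gensL.getD 1 []) (repsL.getD 1 []) (matL.getD 1 []) :=
  cover_small elB_PB lab_Y0 G.ncard_orb_B_Y0 (fs := fs1) (b := b1) (W := W1) (rs := rs1) (M := M1)
    (by decide +kernel)

noncomputable def fs2 : List Nat := [(nat_lit 41349120), (nat_lit 94400512), (nat_lit 117475504)]
noncomputable def W2 : List (List Nat) := [[(nat_lit 2), (nat_lit 1), (nat_lit 3)],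
  [(nat_lit 4), (nat_lit 5), (nat_lit 2)],
  [(nat_lit 5), (nat_lit 4)],
  [(nat_lit 0), (nat_lit 0)],
  [(nat_lit 0), (nat_lit 7), (nat_lit 5)],
  [(nat_lit 3), (nat_lit 9), (nat_lit 1)],
  [(nat_lit 1), (nat_lit 0), (nat_lit 5)],
  [(nat_lit 1), (nat_lit 10), (nat_lit 10)]]
noncomputable def rs2_m0 : Nat := (nat_lit 0x7)
noncomputable def rs2_m1 : Nat := (nat_lit 0x3f)
noncomputable def rs2_m2 : Nat := (nat_lit 0xfff)
noncomputable def rs2_m3 : Nat := (nat_lit 0xf7fdff)
noncomputable def rs2_m4 : Nat := (nat_lit 0x3f7fb4be5bae)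
noncomputable def rs2_m5 : Nat := (nat_lit 0x4a95e9faada5a4d24924)
noncomputable def rs2_m6 : Nat := (nat_lit 0x3fbebdbbbfca9569aaa52524924924)
noncomputable def rs2_m7 : Nat := (nat_lit 0x3fffffffdbffffffffbebdbbbf8a9569aaa52524924924)
noncomputable def rs2_m8 : Nat := (nat_lit 0x77ffbffff3ffff7deffbffddff77ffd6f7ffffdfffeffffffbe1939bfca9529aaa52424924924)
noncomputable def rs2_m9 : Nat := (nat_lit 0x2f9df84ddeff6fdfcf7559fefffdb7af9bb7dfbf7efb5bdfef93bf6dc3f7cf8effffffbd1f3ebffcbfbffdfbf3dfef7ff77deebf9bb629b93fca94618a852120120920)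
noncomputable def rs2_m10 : Nat := (nat_lit 0x27b0ab883cf539d9725d2e5a787ceef24a41ee9377662eb0f75caaceb8b768effcc3761ea0b0ad4eac4875a7fdda1dc3e688b648db33264142537f9df199b34bd8ea35bf4245f761277a8533ff2c30aedabeb2f592eea7608bf14af8de296d692e80c4b909913908895208aa52024104004)
noncomputable def rs2_m11 : Nat := (nat_lit 0x861a008290048844800080b002f520c52810022988d0586a00014816220124283984882913480488a610504240482000941c0800822981b40010504030914824020d91029041c028092a804c74a4002cc0111000005324940864000091c1c1560905620a42680010080a241621452810a0c20b40403c56295064f14456cccc28600914433b2826067000001120100090829aa80010010003e304400082480208a100880002020120104)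
noncomputable def rs2_m12 : Nat := (nat_lit 0x80000804c04000000100000000200002000004100000000000020000004000404000100012000040000000000008000080000000000000000000008004040040000030000000000010000000000000240044000000000820000002000010008010000000000200000000000080000400400c0000000000000000c000000000000001010000800000801000010002000020808000000204000000080008000000000040000000000000820000004000000024000000008011200000088800000000100011000002900000000000000000)
noncomputable def rs2 : List (Nat × Nat × Nat) := [((nat_lit 8), (nat_lit 3), rs2_m0), ((nat_lit 9), (nat_lit 6), rs2_m1), ((nat_lit 10), (nat_lit 12), rs2_m2), ((nat_lit 7), (nat_lit 24), rs2_m3), ((nat_lit 6), (nat_lit 46), rs2_m4), ((nat_lit 12), (nat_lit 79), rs2_m5), ((nat_lit 5), (nat_lit 118), rs2_m6), ((nat_lit 4), (nat_lit 182), rs2_m7), ((nat_lit 3), (nat_lit 307), rs2_m8), ((nat_lit 2), (nat_lit 534), rs2_m9), ((nat_lit 1), (nat_lit 906), rs2_m10), ((nat_lit 0), (nat_lit 1356), rs2_m11), ((nat_lit 11), (nat_lit 1664), rs2_m12)]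
noncomputable def M2 : List Nat := [(nat_lit 27), (nat_lit 27), (nat_lit 1728)]
noncomputable def b2 : Nat := (nat_lit 2)

theorem c2 : Cv G.PB Y0 (gensL.getD 2 []) (repsL.getD 2 []) (matL.getD 2 []) :=
  cover_small elB_PB lab_Y0 G.ncard_orb_B_Y0 (fs := fs2) (b := b2) (W := W2) (rs := rs2) (M := M2)
    (by decide +kernel)

noncomputable def fs3 : List Nat := [(nat_lit 41943040), (nat_lit 92274688), (nat_lit 117475504), (nat_lit 163731192), (nat_lit 192999424), (nat_lit 209121280)]
noncomputable def W3 : List (List Nat) := [[(nat_lit 0), (nat_lit 2), (nat_lit 4)],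
  [(nat_lit 0), (nat_lit 0)],
  [(nat_lit 4), (nat_lit 2), (nat_lit 2)],
  [(nat_lit 0), (nat_lit 0)],
  [(nat_lit 1), (nat_lit 0), (nat_lit 1)],
  [(nat_lit 8), (nat_lit 4), (nat_lit 2)],
  [(nat_lit 4), (nat_lit 3), (nat_lit 8)],
  [(nat_lit 10), (nat_lit 9)]]
noncomputable def rs3_m0 : Nat := (nat_lit 0x3c)
noncomputable def rs3_m1 : Nat := (nat_lit 0x3fc)
noncomputable def rs3_m2 : Nat := (nat_lit 0x3fffc)
noncomputable def rs3_m3 : Nat := (nat_lit 0x3fffffffc)
noncomputable def rs3_m4 : Nat := (nat_lit 0x3fffdfdfffffffdfc)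
noncomputable def rs3_m5 : Nat := (nat_lit 0x9fdb37f66ef76fdcececddcccdccdec)
noncomputable def rs3_m6 : Nat := (nat_lit 0x39bfcdedb79bdef6bf3ef8999b367666666ccccccccccccccccec)
noncomputable def rs3_m7 : Nat := (nat_lit 0x1ffffdff5fdfffedffff7bffbfbf7ef6f9bfcde5b799de76bf3cd8999b366662666cccccc4cc8ccc4cccc)
noncomputable def rs3_m8 : Nat := (nat_lit 0x3bffff77fffd8afffdccdcdfffbffe9dfe8cc6f7defede7ddfdfdb7b73dff9bdeffdbefdcbaba2dafffbfd0d869334dc9b38b5c36b87ed1999b366666606c808cc4c0c48c4c4c4)
noncomputable def rs3_m9 : Nat := (nat_lit 0x127005e89c2f069932bc951606305030d6f78bd33f12ca06b62f49fcfad8bb250b375437414e9e077dc4df2ff224efcadc040a1aed79eb73079022b9989d7e974a37898fa0a7433ea64f7f9f55642119daa133172e3574eba86c488481cc9693ded6970088818a30220646684cc0c88cc440c48cc)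
noncomputable def rs3_m10 : Nat := (nat_lit 0xe7000108048088a1800020020007b0338301813000004810081608044484090234108480108a0613002058750a00240203001610102826501da18202400b50018072da0104841900809011843041800028008e59f0e001200f2081a00484261164188400c208c94003000428411052a40848d66c20ac22032092930041300d440005054c0d0c49241508110200be842a0891888080190602420a00080100642200040408404048804c040)
noncomputable def rs3_m11 : Nat := (nat_lit 0x844000000000000d00080000600000004000014000900800000400004000c00014200000110000000004008802026000000002200010000000200010801000000000aa820000000000000000000000010020010400a0000200100000000000100800400000000000020010800000040000000000100000000000820000004004800000000000400100002000000000004000002000410000080000400000000000000000010200000000000000000000a01008800080100228040004100000000000080000000000000000800000040400000)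
noncomputable def rs3_m12 : Nat := (nat_lit 0x1000000000000000000000000000000000000000000000000000000000000000000000000000000000000000000000000000000000000000000000000000000000000000000000000000000000000000000000000000000000000000000020000000000000000000000000000000000000000000000000000000000)
noncomputable def rs3 : List (Nat × Nat × Nat) := [((nat_lit 8), (nat_lit 6), rs3_m0), ((nat_lit 9), (nat_lit 10), rs3_m1), ((nat_lit 11), (nat_lit 18), rs3_m2), ((nat_lit 7), (nat_lit 34), rs3_m3), ((nat_lit 6), (nat_lit 66), rs3_m4), ((nat_lit 5), (nat_lit 124), rs3_m5), ((nat_lit 4), (nat_lit 210), rs3_m6), ((nat_lit 3), (nat_lit 337), rs3_m7), ((nat_lit 2), (nat_lit 566), rs3_m8), ((nat_lit 1), (nat_lit 929), rs3_m9), ((nat_lit 0), (nat_lit 1364), rs3_m10), ((nat_lit 12), (nat_lit 1684), rs3_m11), ((nat_lit 11), (nat_lit 985), rs3_m12)]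
noncomputable def M3 : List Nat := [(nat_lit 1), (nat_lit 1), (nat_lit 1024), (nat_lit 672), (nat_lit 42), (nat_lit 42)]
noncomputable def b3 : Nat := (nat_lit 3)

theorem c3 : Cv G.PB Y0 (gensL.getD 3 []) (repsL.getD 3 []) (matL.getD 3 []) :=
  cover_small elB_PB lab_Y0 G.ncard_orb_B_Y0 (fs := fs3) (b := b3) (W := W3) (rs := rs3) (M := M3)
    (by decide +kernel)

noncomputable def fs4 : List Nat := [(nat_lit 60846080), (nat_lit 92274688)]
noncomputable def W4 : List (List Nat) := [[(nat_lit 1), (nat_lit 4)],
  [(nat_lit 1), (nat_lit 5)],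
  [(nat_lit 1), (nat_lit 0)],
  [(nat_lit 6), (nat_lit 5), (nat_lit 1)],
  [(nat_lit 5), (nat_lit 5), (nat_lit 5)],
  [(nat_lit 6), (nat_lit 3)]]
noncomputable def rs4_m0 : Nat := (nat_lit 0x3)
noncomputable def rs4_m1 : Nat := (nat_lit 0xf)
noncomputable def rs4_m2 : Nat := (nat_lit 0xff)
noncomputable def rs4_m3 : Nat := (nat_lit 0xffff)
noncomputable def rs4_m4 : Nat := (nat_lit 0xffffffff)
noncomputable def rs4_m5 : Nat := (nat_lit 0xffffffffffffffff)
noncomputable def rs4_m6 : Nat := (nat_lit 0xfffffffffeffffdffffffefffffffff7)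
noncomputable def rs4_m7 : Nat := (nat_lit 0xefdff7db7fedfffb7ffffdfdff7ffffffe7fbfd77f7fffeddfffbfffffffffe)
noncomputable def rs4_m8 : Nat := (nat_lit 0x36eabebfdbafe7f6f7fed7f6f7f57fbf67bce7f1ffff9fd7f5fbbdfeeff7aeb95f3f7cffffffffb5ddb5b7def373b76cd1f5ffb7fcbfdf8fe79d7e7b)
noncomputable def rs4_m9 : Nat := (nat_lit 0x689f38cb012a1fe1efd0657f3ce5d15f2977e583e8ff39cab5b175c5e4ef6e3e738f8209c62eb16e8ce1bdd4d513917c40177f7dbdb91b9c5da8dc249fade886bf4b2e0675d872b597771afaddd3638fdefcdc6df2b38c685e2f8c865bd8f1cfc90b61308cba9bfe18c6)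
noncomputable def rs4_m10 : Nat := (nat_lit 0x2a1b301a44418dca0c2010648620827080a00388203890113ab581f104159c8011e848107102318001c650a3081c41942804840210840044a248202ec0830c1010010242200d1dc09001200aa802601a04254201200e2092490864c10502405988176e22820270c381400506491000e044508b21040422451004820c240048c260d115f60111368101c0201a8401330721063a0088918a1102141e8087521604021384129)
noncomputable def rs4_m11 : Nat := (nat_lit 0x80400040200800800011000008000010100001800000080000000040000000000020000000800000020080000400000800000480000002000310008108000810000100000080802a0820400020000001800004400140000020001000022000800020004000002080080000100000800201000100004040000000000000c0020008c010400000000001000000000001010000000005000800000000088004000400008000400008000000002401000020048000102040488000000000000220100000000000000000000200000000000)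
noncomputable def rs4_m12 : Nat := (nat_lit 0x400000000000000000000000000000000000000000000000000000000000000000000000)
noncomputable def rs4 : List (Nat × Nat × Nat) := [((nat_lit 6), (nat_lit 2), rs4_m0), ((nat_lit 7), (nat_lit 4), rs4_m1), ((nat_lit 9), (nat_lit 8), rs4_m2), ((nat_lit 10), (nat_lit 16), rs4_m3), ((nat_lit 5), (nat_lit 32), rs4_m4), ((nat_lit 4), (nat_lit 64), rs4_m5), ((nat_lit 3), (nat_lit 128), rs4_m6), ((nat_lit 2), (nat_lit 252), rs4_m7), ((nat_lit 1), (nat_lit 478), rs4_m8), ((nat_lit 0), (nat_lit 847), rs4_m9), ((nat_lit 8), (nat_lit 1314), rs4_m10), ((nat_lit 7), (nat_lit 1660), rs4_m11), ((nat_lit 4), (nat_lit 287), rs4_m12)]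
noncomputable def M4 : List Nat := [(nat_lit 891), (nat_lit 891)]
noncomputable def b4 : Nat := (nat_lit 2)

theorem c4 : Cv G.PB Y0 (gensL.getD 4 []) (repsL.getD 4 []) (matL.getD 4 []) :=
  cover_small elB_PB lab_Y0 G.ncard_orb_B_Y0 (fs := fs4) (b := b4) (W := W4) (rs := rs4) (M := M4)
    (by decide +kernel)

end CF.Mon.Cov.L

theorem CF.Mon.Cov.coverL : ∀ i < 5, CF.Mon.Cov.Cv CF.Mon.G.PB CF.Mon.Y0 (CF.Mon.gensL.getD i [])
    (CF.Mon.repsL.getD i []) (CF.Mon.matL.getD i []) := fun i hi => by
  interval_cases i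
  exacts [L.c0, L.c1, L.c2, L.c3, L.c4]
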