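import Cfsg.Agent.Mon.Elem

/-! Node data of a double coset enumeration. -/

set_option autoImplicit false
set_option maxRecDepth 100000

namespace CF.Mon

open CF.Comp

noncomputable section

def ndMg0_0 : El := ⟨[nat_lit 0x21d7743ad4c712d70a67591a2f80d142804d, nat_lit 0x9aa5930a68081c4c5beae222e51b646546d3, nat_lit 0x22b72d0a62f436005aae49caa61d04561dd6, nat_lit 0xe7e7d44810139ab6a5ca483e2d74e4c58d42], [nat_lit 77824, nat_lit 86016, nat_lit 90112, nat_lit 98304, nat_lit 106496, nat_lit 173056, nat_lit 171520, nat_lit 164352, nat_lit 161408, nat_lit 158272, nat_lit 152064, nat_lit 148160, nat_lit 147448, nat_lit 142192, nat_lit 137744, nat_lit 134838, nat_lit 1492, nat_lit 5588, nat_lit 9752, nat_lit 13120, nat_lit 16480, nat_lit 22336, nat_lit 26880, nat_lit 30976, nat_lit 36352, nat_lit 39936, nat_lit 43008, nat_lit 45174, nat_lit 41623, nat_lit 37052, nat_lit 33004, nat_lit 28762, nat_lit 24707, nat_lit 20757, nat_lit 16389, nat_lit 12321, nat_lit 8193, nat_lit 4097, nat_lit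 438282, nat_lit 425991, nat_lit 417797, nat_lit 409603, nat_lit 401408, nat_lit 166912, nat_lit 160000, nat_lit 158848, nat_lit 154944, nat_lit 150624, nat_lit 144416, nat_lit 142784, nat_lit 131388, nat_lit 37048, nat_lit 4097]⟩
def ndMg0_1 : El := ⟨[nat_lit 0x63a03f73c2042af68966431e126886c5a695, nat_lit 0xee7be479d245ba722c2a110d4c45db6a1811, nat_lit 0x7412222aea238514b4eec240cd5264f70c11, nat_lit 0x553aa9a26239b0f25dc10359d50944f2350a], [nat_lit 77824, nat_lit 86016, nat_lit 90112, nat_lit 169472, nat_lit 162048, nat_lit 156224, nat_lit 153184, nat_lit 150464, nat_lit 143432, nat_lit 141596, nat_lit 135762, nat_lit 134301, nat_lit 1180, nat_lit 5276, nat_lit 8736, nat_lit 15696, nat_lit 20160, nat_lit 22720, nat_lit 24832, nat_lit 30464, nat_lit 34816, nat_lit 38912, nat_lit 43008, nat_lit 46891, nat_lit 41162, nat_lit 36971, nat_lit 34875, nat_lit 28797, nat_lit 24636, nat_lit 20575, nat_lit 16458, nat_lit 12357, nat_lit 8211, nat_lit 4097, nat_lit 2, nat_lit 434185, nat_lit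 425991, nat_lit 417797, nat_lit 409603, nat_lit 401408, nat_lit 168960, nat_lit 164864, nat_lit 160512, nat_lit 155776, nat_lit 152064, nat_lit 148288, nat_lit 143616, nat_lit 141072, nat_lit 131504, nat_lit 45548, nat_lit 4097]⟩
def ndMg0_2 : El := ⟨[nat_lit 0xc56c5c55260234c5b262144ae37b1c7aae02, nat_lit 0x44d8de6110f51af46c2a302c2714dd691531, nat_lit 0x9509a9296f19116124b5081b383a97644e6, nat_lit 0x22b72d791b2401d432930ad8b3bad8288c27], [nat_lit 65536, nat_lit 69632, nat_lit 73728, nat_lit 90112, nat_lit 102400, nat_lit 106496, nat_lit 110592, nat_lit 178176, nat_lit 175104, nat_lit 170496, nat_lit 164864, nat_lit 163328, nat_lit 156800, nat_lit 153600, nat_lit 149264, nat_lit 143792, nat_lit 141044, nat_lit 135276, nat_lit 132166, nat_lit 2876, nat_lit 6972, nat_lit 8592, nat_lit 13920, nat_lit 17120, nat_lit 20992, nat_lit 27648, nat_lit 32512, nat_lit 35328, nat_lit 39936, nat_lit 43008, nat_lit 46139, nat_lit 41444, nat_lit 37100, nat_lit 32924, nat_lit 28958, nat_lit 25140,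 nat_lit 20992, nat_lit 12320, nat_lit 8200, nat_lit 4097, nat_lit 2, nat_lit 434185, nat_lit 425991, nat_lit 417797, nat_lit 409603, nat_lit 401408, nat_lit 168960, nat_lit 165376, nat_lit 161024, nat_lit 156544, nat_lit 153408, nat_lit 149056, nat_lit 145312, nat_lit 139600, nat_lit 132864, nat_lit 46953, nat_lit 4097, nat_lit 327680]⟩
def ndMg0_3 : El := ⟨[nat_lit 0x72bdb75b22a111159ddb4918efb24a30402e, nat_lit 0x2d1d1b7903232e85b0049732aa84d1738db1, nat_lit 0xeb87823d8aaab10f4883720e0d9ae9271811, nat_lit 0x1bd2b47a9002c574acd2468cc7bd82e60a50], [nat_lit 73728, nat_lit 81920, nat_lit 86016, nat_lit 90112, nat_lit 102400, nat_lit 110592, nat_lit 178176, nat_lit 168448, nat_lit 164608, nat_lit 159872, nat_lit 158848, nat_lit 154784, nat_lit 151232, nat_lit 144696, nat_lit 139900, nat_lit 136812, nat_lit 133357, nat_lit 3526, nat_lit 5764, nat_lit 11848, nat_lit 16224, nat_lit 20160, nat_lit 23744, nat_lit 28032, nat_lit 29184, nat_lit 35840, nat_lit 39936, nat_lit 45290, nat_lit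 41045, nat_lit 37346, nat_lit 32842, nat_lit 29282, nat_lit 24874, nat_lit 20508, nat_lit 16419, nat_lit 8211, nat_lit 4112, nat_lit 434185, nat_lit 425991, nat_lit 417797, nat_lit 409603, nat_lit 401408, nat_lit 164864, nat_lit 155776, nat_lit 153152, nat_lit 140864, nat_lit 131424, nat_lit 46040, nat_lit 4097, nat_lit 327680]⟩
def ndMg0_4 : El := ⟨[nat_lit 0x9f955f0a4a01c2cea5c886cea253d8689d72, nat_lit 0x21d884119093dc74ab9732c032011ac7d951, nat_lit 0x6a33ff09128a16e0829963cc517b86692ead, nat_lit 0x5a9f90936f1804cb24d20b30a7a3862abd48], [nat_lit 77824, nat_lit 98304, nat_lit 110592, nat_lit 178176, nat_lit 169984, nat_lit 166400, nat_lit 161664, nat_lit 159552, nat_lit 152704, nat_lit 149376, nat_lit 146080, nat_lit 139624, nat_lit 137968, nat_lit 131094, nat_lit 2700, nat_lit 6796, nat_lit 12208, nat_lit 12992, nat_lit 18528, nat_lit 24192, nat_lit 30720, nat_lit 37888, nat_lit 43008, nat_lit 47044, nat_lit 41043, nat_lit 37327, nat_lit 33388, nat_lit 28995, nat_lit 24592,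 nat_lit 20496, nat_lit 16389, nat_lit 12807, nat_lit 8209, nat_lit 4097, nat_lit 2, nat_lit 434185, nat_lit 425991, nat_lit 417797, nat_lit 409603, nat_lit 401408, nat_lit 164352, nat_lit 161024, nat_lit 156160, nat_lit 152576, nat_lit 147744, nat_lit 144272, nat_lit 140680, nat_lit 131952, nat_lit 45569, nat_lit 4097, nat_lit 327680]⟩
def ndMr0_0 : El := ⟨[], []⟩
def ndMr0_1 : El := ⟨[nat_lit 0xca396a846ce41a61151e01acf2bb549254ac, nat_lit 0xbd7844481f261ead419777454315881a40b3, nat_lit 0x3ca9f0c0f56ac60a3aca7a4a499ae243232, nat_lit 0xa999aa81ee299aa1029c36da8b2b1049452f], [nat_lit 90112, nat_lit 102400, nat_lit 106496, nat_lit 110592, nat_lit 178176, nat_lit 175104, nat_lit 170496, nat_lit 167424, nat_lit 161280, nat_lit 158656, nat_lit 153120, nat_lit 149264, nat_lit 143688, nat_lit 141976, nat_lit 137404, nat_lit 134325, nat_lit 2, nat_lit 4164, nat_lit 11480, nat_lit 13184, nat_lit 18528, nat_lit 22592, nat_lit 25344, nat_lit 32256, nat_lit 36352, nat_lit 37888, nat_lit 46402,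 nat_lit 41690, nat_lit 38330, nat_lit 32796, nat_lit 29699, nat_lit 24621, nat_lit 20482, nat_lit 16514, nat_lit 12311, nat_lit 8194, nat_lit 4100, nat_lit 438282, nat_lit 421894, nat_lit 413700, nat_lit 405506, nat_lit 397312, nat_lit 154752, nat_lit 148608, nat_lit 143424, nat_lit 140288, nat_lit 135240, nat_lit 37092, nat_lit 32798]⟩
def ndMr0_2 : El := ⟨[nat_lit 0x6065507496c780b669c348208610d53add31, nat_lit 0x487b2d1da547066f1260a2c48059aec455a7, nat_lit 0x93c9531564062cc13d8b09b9f76a883a2628, nat_lit 0xc53695ad9cb20a54800d79a9f16952760468], [nat_lit 65536, nat_lit 69632, nat_lit 73728, nat_lit 90112, nat_lit 94208, nat_lit 106496, nat_lit 178176, nat_lit 174080, nat_lit 171008, nat_lit 167424, nat_lit 162304, nat_lit 158912, nat_lit 155328, nat_lit 150448, nat_lit 137714, nat_lit 131073, nat_lit 1402, nat_lit 4160, nat_lit 11480, nat_lit 13520, nat_lit 19040, nat_lit 20992, nat_lit 32000, nat_lit 38912, nat_lit 45787, nat_lit 41185, nat_lit 37299, nat_lit 33478, nat_lit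 28689, nat_lit 24869, nat_lit 20485, nat_lit 16391, nat_lit 14343, nat_lit 8195, nat_lit 4097, nat_lit 2, nat_lit 438282, nat_lit 430088, nat_lit 421894, nat_lit 413700, nat_lit 405506, nat_lit 397312, nat_lit 174080, nat_lit 166912, nat_lit 162816, nat_lit 157312, nat_lit 154880, nat_lit 148672, nat_lit 144864, nat_lit 142752, nat_lit 136288, nat_lit 134316, nat_lit 327680]⟩
def ndMg1_0 : El := ⟨[nat_lit 0x48b88808a6e41477829e921a4da323559ec0, nat_lit 0x7dd424a58d7214f570a6a825e193163045a8, nat_lit 0xcc690042657996a76d1905388203d661c6c1], [nat_lit 69632, nat_lit 77824, nat_lit 81920, nat_lit 90112, nat_lit 98304, nat_lit 102400, nat_lit 178176, nat_lit 174080, nat_lit 171008, nat_lit 162432, nat_lit 156416, nat_lit 151744, nat_lit 148032, nat_lit 143408, nat_lit 143112, nat_lit 136426, nat_lit 132171, nat_lit 2720, nat_lit 4128, nat_lit 10552, nat_lit 14032, nat_lit 20192, nat_lit 22272, nat_lit 28416, nat_lit 29184, nat_lit 43008, nat_lit 45107, nat_lit 41569, nat_lit 38092,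 nat_lit 33004, nat_lit 29006, nat_lit 24852, nat_lit 20501, nat_lit 16426, nat_lit 12294, nat_lit 425991, nat_lit 409603, nat_lit 397312, nat_lit 160000, nat_lit 147584, nat_lit 143632, nat_lit 131480, nat_lit 45336, nat_lit 41360, nat_lit 37146, nat_lit 24585, nat_lit 20482, nat_lit 8194, nat_lit 327680]⟩
def ndMg1_1 : El := ⟨[nat_lit 0x9f3f66a4ea173051bbd450488748d105d8cd, nat_lit 0x6599367ba16a02224c9152056d60cca3cee5], [nat_lit 73728, nat_lit 86016, nat_lit 90112, nat_lit 106496, nat_lit 110592, nat_lit 173056, nat_lit 168960, nat_lit 164352, nat_lit 160000, nat_lit 159168, nat_lit 152192, nat_lit 147648, nat_lit 144632, nat_lit 142656, nat_lit 135846, nat_lit 133189, nat_lit 3150, nat_lit 7420, nat_lit 10672, nat_lit 12336, nat_lit 18688, nat_lit 23936, nat_lit 28416, nat_lit 30208, nat_lit 35328, nat_lit 39936, nat_lit 43008, nat_lit 46066, nat_lit 41147, nat_lit 37058, nat_lit 32852, nat_lit 29192, nat_lit 24612, nat_lit 20567, nat_lit 16427, nat_lit 12290, nat_lit 8194,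 nat_lit 4097, nat_lit 409602, nat_lit 397312, nat_lit 135172, nat_lit 131094, nat_lit 36868, nat_lit 32791, nat_lit 28673, nat_lit 20482, nat_lit 12289, nat_lit 327680]⟩
def ndMg1_2 : El := ⟨[nat_lit 0xca0a3fb16a29ad97305ee41069940075522d], [nat_lit 73728, nat_lit 81920, nat_lit 94208, nat_lit 98304, nat_lit 106496, nat_lit 174080, nat_lit 171008, nat_lit 164352, nat_lit 161792, nat_lit 157504, nat_lit 151648, nat_lit 149744, nat_lit 144168, nat_lit 140452, nat_lit 136812, nat_lit 133224, nat_lit 2614, nat_lit 6616, nat_lit 11520, nat_lit 16000, nat_lit 16672, nat_lit 21760, nat_lit 30208, nat_lit 34304, nat_lit 39936, nat_lit 41538, nat_lit 38054, nat_lit 32956, nat_lit 29009, nat_lit 24724, nat_lit 20575, nat_lit 16450, nat_lit 12308, nat_lit 8201, nat_lit 327680]⟩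
def ndMg1_3 : El := ⟨[nat_lit 0x9f306983568a3a3519ac929df2b914098582, nat_lit 0x6506a6d8ca61e898cc72796ebab90410600, nat_lit 0xf5a65f9d98d79c6b2854e25e064c515a0812], [nat_lit 69632, nat_lit 73728, nat_lit 77824, nat_lit 86016, nat_lit 94208, nat_lit 106496, nat_lit 110592, nat_lit 173056, nat_lit 169472, nat_lit 166400, nat_lit 163328, nat_lit 156224, nat_lit 154112, nat_lit 148688, nat_lit 143432, nat_lit 140636, nat_lit 138566, nat_lit 131619, nat_lit 1292, nat_lit 5724, nat_lit 12128, nat_lit 14640, nat_lit 20224, nat_lit 23872, nat_lit 26112, nat_lit 29952, nat_lit 33280, nat_lit 39936, nat_lit 43008, nat_lit 46010, nat_lit 41485, nat_lit 37079, nat_lit 34920, nat_lit 28675, nat_lit 24599, nat_lit 20482, nat_lit 16391, nat_lit 12291, nat_lit 8194, nat_lit 4101, nat_lit 421894, nat_lit 409603, nat_lit 397312, nat_lit 147584, nat_lit 143568, nat_lit 135240, nat_lit 131074, nat_lit 45129, nat_lit 41153, nat_lit 36939, nat_lit 32792, nat_lit 20482, nat_lit 8194, nat_lit 327680]⟩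
def ndMg1_4 : El := ⟨[nat_lit 0x48124e31643b3d27436e45020b9d4548b1c1, nat_lit 0x7271e2a38022a83248e64859f14317769cd5], [nat_lit 69632, nat_lit 86016, nat_lit 90112, nat_lit 94208, nat_lit 175104, nat_lit 168448, nat_lit 166400, nat_lit 161280, nat_lit 158272, nat_lit 155360, nat_lit 149936, nat_lit 146680, nat_lit 140508, nat_lit 135598, nat_lit 134864, nat_lit 1832, nat_lit 4340, nat_lit 10272, nat_lit 14192, nat_lit 19808, nat_lit 24000, nat_lit 25856, nat_lit 29952, nat_lit 34304, nat_lit 39936, nat_lit 46488, nat_lit 41509, nat_lit 38091, nat_lit 32843, nat_lit 29232, nat_lit 24743, nat_lit 20544, nat_lit 16425, nat_lit 4224, nat_lit 413699, nat_lit 397312, nat_lit 143392, nat_lit 135208, nat_lit 131114, nat_lit 40968, nat_lit 36896, nat_lit 32811, nat_lit 24619, nat_lit 16385, nat_lit 8194]⟩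
def ndMr1_0 : El := ⟨[], []⟩
def ndMr1_1 : El := ⟨[nat_lit 0xb4e48b80e33bb5070c802b248fa38aaa998b, nat_lit 0x63f50673d8da5af500462946135a928398a4], [nat_lit 69632, nat_lit 81920, nat_lit 98304, nat_lit 110592, nat_lit 178176, nat_lit 174080, nat_lit 168448, nat_lit 167424, nat_lit 163456, nat_lit 156992, nat_lit 151680, nat_lit 150320, nat_lit 144616, nat_lit 141556, nat_lit 139226, nat_lit 133765, nat_lit 3778, nat_lit 7480, nat_lit 9008, nat_lit 13824, nat_lit 16992, nat_lit 20608, nat_lit 25088, nat_lit 33792, nat_lit 37888, nat_lit 46997, nat_lit 40998, nat_lit 37341, nat_lit 29253, nat_lit 25088, nat_lit 20484, nat_lit 16385, nat_lit 12356, nat_lit 8224, nat_lit 5120, nat_lit 425989, nat_lit 409600, nat_lit 151808, nat_lit 147744, nat_lit 131088, nat_lit 40976, nat_lit 28688, nat_lit 12289, nat_lit 8193, nat_lit 4097, nat_lit 327680]⟩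
def ndMr1_2 : El := ⟨[nat_lit 0xd1e4d1b1d4c2bea8844535ddc44b6861c801, nat_lit 0x55ca59ad2f69ca3029c86008616bd8e52568], [nat_lit 73728, nat_lit 77824, nat_lit 110592, nat_lit 178176, nat_lit 175104, nat_lit 171520, nat_lit 165632, nat_lit 160512, nat_lit 158656, nat_lit 152352, nat_lit 149488, nat_lit 146032, nat_lit 139852, nat_lit 136778, nat_lit 135160, nat_lit 3672, nat_lit 5228, nat_lit 12192, nat_lit 15760, nat_lit 17536, nat_lit 23168, nat_lit 28032, nat_lit 33792, nat_lit 39936, nat_lit 45071, nat_lit 41920, nat_lit 37952, nat_lit 33408, nat_lit 28772, nat_lit 24632, nat_lit 20547, nat_lit 16418, nat_lit 12293, nat_lit 8202, nat_lit 4100, nat_lit 2, nat_lit 425989, nat_lit 409600, nat_lit 151808, nat_lit 147744, nat_lit 131088, nat_lit 40976, nat_lit 28688, nat_lit 12289, nat_lit 8193, nat_lit 4097, nat_lit 327680]⟩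
def ndMr1_3 : El := ⟨[], [nat_lit 110592]⟩
def ndMr1_4 : El := ⟨[nat_lit 0xfac03c1b6e6910a83d9c1645e9a2ab05cc02, nat_lit 0xeeb8be136f45da0770e512b0c1255135240f, nat_lit 0xa595f2ca2734093ad1cf6b2f61a04a58121], [nat_lit 65536, nat_lit 69632, nat_lit 174080, nat_lit 168960, nat_lit 167424, nat_lit 161152, nat_lit 156352, nat_lit 151744, nat_lit 151024, nat_lit 143864, nat_lit 141556, nat_lit 136456, nat_lit 131328, nat_lit 3926, nat_lit 7448, nat_lit 10808, nat_lit 15024, nat_lit 17632, nat_lit 24000, nat_lit 26752, nat_lit 30208, nat_lit 38912, nat_lit 45256, nat_lit 41432, nat_lit 37307, nat_lit 32963, nat_lit 28995, nat_lit 24840, nat_lit 20491, nat_lit 16901, nat_lit 12310, nat_lit 8195, nat_lit 4097, nat_lit 430088, nat_lit 417797, nat_lit 409602, nat_lit 397312, nat_lit 156416, nat_lit 152384, nat_lit 147808, nat_lit 139584, nat_lit 135200, nat_lit 131890, nat_lit 45061, nat_lit 40981, nat_lit 28755, nat_lit 12290]⟩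
def ndMr1_5 : El := ⟨[nat_lit 0xac6a3c55488759a604de95b0510dc67a40b2, nat_lit 0x3396ff45203bbac459d4c6880589a4f9a6a1, nat_lit 0x6a5a6318a96614ee311af9ad11a82e154249], [nat_lit 65536, nat_lit 73728, nat_lit 98304, nat_lit 106496, nat_lit 110592, nat_lit 173056, nat_lit 171520, nat_lit 164096, nat_lit 162560, nat_lit 155904, nat_lit 154624, nat_lit 151120, nat_lit 144040, nat_lit 139656, nat_lit 138070, nat_lit 131505, nat_lit 3866, nat_lit 7172, nat_lit 9488, nat_lit 13984, nat_lit 17344, nat_lit 23040, nat_lit 26880, nat_lit 31744, nat_lit 35840, nat_lit 37888, nat_lit 46400, nat_lit 41924, nat_lit 36868, nat_lit 33844, nat_lit 28692, nat_lit 24842, nat_lit 20500, nat_lit 16420, nat_lit 12355, nat_lit 8224, nat_lit 4161, nat_lit 434184, nat_lit 417797, nat_lit 409603, nat_lit 397312, nat_lit 156672, nat_lit 152896, nat_lit 148736, nat_lit 144752, nat_lit 136288, nat_lit 131328, nat_lit 45065, nat_lit 36873, nat_lit 28762, nat_lit 8194]⟩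
def ndMg2_0 : El := ⟨[nat_lit 0x5c30fa5c1a25446fa9885a5cf643033925c0], [nat_lit 69632, nat_lit 77824, nat_lit 81920, nat_lit 94208, nat_lit 98304, nat_lit 102400, nat_lit 106496, nat_lit 178176, nat_lit 174080, nat_lit 169984, nat_lit 164096, nat_lit 161536, nat_lit 159680, nat_lit 152800, nat_lit 150480, nat_lit 144528, nat_lit 142324, nat_lit 138318, nat_lit 132355, nat_lit 2560, nat_lit 6768, nat_lit 9648, nat_lit 14208, nat_lit 17824, nat_lit 22720, nat_lit 28544, nat_lit 29184, nat_lit 35840, nat_lit 43008, nat_lit 41310, nat_lit 37256, nat_lit 33297, nat_lit 29003, nat_lit 24762, nat_lit 20572, nat_lit 16427, nat_lit 12311, nat_lit 8194, nat_lit 4100, nat_lit 327680]⟩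
def ndMg2_1 : El := ⟨[nat_lit 0xc9593362ee18129573e665490538c516a6c0], [nat_lit 77824, nat_lit 90112, nat_lit 94208, nat_lit 102400, nat_lit 106496, nat_lit 175104, nat_lit 169472, nat_lit 164096, nat_lit 160896, nat_lit 158208, nat_lit 155136, nat_lit 148560, nat_lit 146368, nat_lit 139528, nat_lit 135476, nat_lit 134335, nat_lit 2064, nat_lit 5996, nat_lit 11088, nat_lit 12976, nat_lit 18944, nat_lit 23744, nat_lit 26496, nat_lit 29696, nat_lit 34304, nat_lit 37888, nat_lit 43008, nat_lit 41960, nat_lit 37232, nat_lit 33504, nat_lit 28740, nat_lit 24747, nat_lit 20561, nat_lit 12293, nat_lit 8203, nat_lit 4101]⟩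
def ndMg2_2 : El := ⟨[nat_lit 0xe8db7e0b548b2cf12144f1c1d235d33a5580], [nat_lit 73728, nat_lit 77824, nat_lit 86016, nat_lit 90112, nat_lit 94208, nat_lit 170496, nat_lit 167680, nat_lit 162944, nat_lit 156992, nat_lit 155200, nat_lit 149424, nat_lit 146512, nat_lit 141764, nat_lit 138070, nat_lit 132827, nat_lit 986, nat_lit 5124, nat_lit 10976, nat_lit 13584, nat_lit 19264, nat_lit 22784, nat_lit 27520, nat_lit 30208, nat_lit 34816, nat_lit 38912, nat_lit 43008, nat_lit 41557, nat_lit 37259, nat_lit 32814, nat_lit 29287, nat_lit 24706, nat_lit 20494, nat_lit 16395, nat_lit 12294, nat_lit 8195, nat_lit 4101]⟩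
def ndMg2_3 : El := ⟨[nat_lit 0x4ed4b8150a694ea3221d1829e70b5974aec0], [nat_lit 73728, nat_lit 77824, nat_lit 86016, nat_lit 90112, nat_lit 102400, nat_lit 168960, nat_lit 167680, nat_lit 159872, nat_lit 157120, nat_lit 153824, nat_lit 143712, nat_lit 142996, nat_lit 136620, nat_lit 132504, nat_lit 986, nat_lit 6388, nat_lit 11800, nat_lit 12976, nat_lit 16576, nat_lit 20928, nat_lit 24960, nat_lit 30464, nat_lit 43008, nat_lit 41854, nat_lit 38346, nat_lit 33902, nat_lit 28743, nat_lit 24706, nat_lit 20509, nat_lit 16390, nat_lit 12295, nat_lit 8200, nat_lit 4, nat_lit 327680]⟩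
def ndMg2_4 : El := ⟨[nat_lit 0x969c69d7553e849c851b152e6191780460], [nat_lit 69632, nat_lit 73728, nat_lit 77824, nat_lit 81920, nat_lit 86016, nat_lit 98304, nat_lit 102400, nat_lit 175104, nat_lit 168960, nat_lit 164864, nat_lit 163072, nat_lit 157440, nat_lit 152576, nat_lit 149360, nat_lit 147264, nat_lit 140688, nat_lit 137790, nat_lit 132169, nat_lit 1896, nat_lit 6152, nat_lit 11024, nat_lit 16160, nat_lit 20256, nat_lit 22144, nat_lit 24960, nat_lit 30720, nat_lit 35328, nat_lit 38912, nat_lit 41928, nat_lit 38048, nat_lit 33004, nat_lit 28744, nat_lit 24632, nat_lit 20563, nat_lit 16461, nat_lit 8211, nat_lit 4100]⟩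
def ndMr2_0 : El := ⟨[], [nat_lit 110592]⟩
def ndMr2_1 : El := ⟨[nat_lit 0xfafc9930ca48beaaba24da31307597311c01, nat_lit 0xb44e4d64d1404224129256b8c309ef6abd72, nat_lit 0x282227b86a200ed431e704a18f5b54e248b1], [nat_lit 65536, nat_lit 86016, nat_lit 90112, nat_lit 94208, nat_lit 98304, nat_lit 106496, nat_lit 165888, nat_lit 161152, nat_lit 157184, nat_lit 154816, nat_lit 147744, nat_lit 144240, nat_lit 139360, nat_lit 137362, nat_lit 134392, nat_lit 3494, nat_lit 6488, nat_lit 11312, nat_lit 13664, nat_lit 18368, nat_lit 24512, nat_lit 28928, nat_lit 35328, nat_lit 37888, nat_lit 43008, nat_lit 46504, nat_lit 43784, nat_lit 37123, nat_lit 33347, nat_lit 28784, nat_lit 24624, nat_lit 20549, nat_lit 16389, nat_lit 12295, nat_lit 8203, nat_lit 4105, nat_lit 8, nat_lit 430088, nat_lit 417797, nat_lit 409603, nat_lit 397312, nat_lit 156416, nat_lit 152320, nat_lit 147744, nat_lit 143616, nat_lit 135536, nat_lit 131616, nat_lit 45066, nat_lit 40976, nat_lit 28755, nat_lit 8193, nat_lit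 327680]⟩
def ndMr2_2 : El := ⟨[nat_lit 0x272dd84260a01a8e8ae53b8caf206cc68aa7, nat_lit 0x950fa50c8569a2aa3c6866ac65bb1d079009, nat_lit 0xbb1b7b43ea0991495d84d744cc2c823a1ef0, nat_lit 0x3f350cb94665d52103dd423648858513aa6c], [nat_lit 77824, nat_lit 90112, nat_lit 98304, nat_lit 106496, nat_lit 178176, nat_lit 175104, nat_lit 171520, nat_lit 167424, nat_lit 162304, nat_lit 158848, nat_lit 155360, nat_lit 150448, nat_lit 143368, nat_lit 139268, nat_lit 137714, nat_lit 131073, nat_lit 3850, nat_lit 6012, nat_lit 11976, nat_lit 13712, nat_lit 18112, nat_lit 22528, nat_lit 25856, nat_lit 32256, nat_lit 33280, nat_lit 39936, nat_lit 43008, nat_lit 46605, nat_lit 41430, nat_lit 38920, nat_lit 32837, nat_lit 29746, nat_lit 20611, nat_lit 17408, nat_lit 14342, nat_lit 4104, nat_lit 438282, nat_lit 430088, nat_lit 421894, nat_lit 413700, nat_lit 405506, nat_lit 397312, nat_lit 171008, nat_lit 166400, nat_lit 163328, nat_lit 156672, nat_lit 152384, nat_lit 149472, nat_lit 145824, nat_lit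 141800, nat_lit 136248, nat_lit 132196]⟩
def ndMr2_3 : El := ⟨[nat_lit 0x553559280c35ca0a4453338881a39f76d596, nat_lit 0x422d7d6d4d2b5d220221309d4578d6e65091, nat_lit 0x30f9a9a56d7214e608803635cf4a14b8ce50], [nat_lit 65536, nat_lit 69632, nat_lit 73728, nat_lit 77824, nat_lit 81920, nat_lit 86016, nat_lit 90112, nat_lit 102400, nat_lit 110592, nat_lit 173056, nat_lit 168960, nat_lit 167680, nat_lit 162176, nat_lit 155712, nat_lit 155040, nat_lit 150720, nat_lit 143504, nat_lit 140300, nat_lit 138440, nat_lit 131579, nat_lit 3628, nat_lit 8016, nat_lit 9896, nat_lit 15824, nat_lit 20032, nat_lit 23680, nat_lit 26624, nat_lit 29696, nat_lit 34816, nat_lit 37888, nat_lit 47000, nat_lit 41792, nat_lit 38070, nat_lit 33449, nat_lit 28773, nat_lit 24765, nat_lit 20637, nat_lit 16417, nat_lit 12309, nat_lit 8193, nat_lit 4352, nat_lit 2, nat_lit 430088, nat_lit 421893, nat_lit 409603, nat_lit 397312, nat_lit 160000, nat_lit 152320, nat_lit 147616, nat_lit 144272, nat_lit 135448, nat_lit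 45065, nat_lit 41097, nat_lit 24585, nat_lit 8194, nat_lit 327680]⟩
def ndMr2_4 : El := ⟨[nat_lit 0xca396a48cf00c54665af5900889944b6ba8f, nat_lit 0x635fc0036a64ad51b0cac786e4150ee84913, nat_lit 0x82dbd47d68d510eb00e332a50665aee90450], [nat_lit 69632, nat_lit 81920, nat_lit 86016, nat_lit 94208, nat_lit 98304, nat_lit 106496, nat_lit 173056, nat_lit 169472, nat_lit 165376, nat_lit 160384, nat_lit 156032, nat_lit 153408, nat_lit 149360, nat_lit 144920, nat_lit 139940, nat_lit 136586, nat_lit 132629, nat_lit 3432, nat_lit 6264, nat_lit 9296, nat_lit 13920, nat_lit 19904, nat_lit 22784, nat_lit 28544, nat_lit 33280, nat_lit 43008, nat_lit 45913, nat_lit 41728, nat_lit 37348, nat_lit 32778, nat_lit 29236, nat_lit 24754, nat_lit 20571, nat_lit 16423, nat_lit 8208, nat_lit 4101, nat_lit 2, nat_lit 430086, nat_lit 413700, nat_lit 405504, nat_lit 156160, nat_lit 152128, nat_lit 148064, nat_lit 143392, nat_lit 131128, nat_lit 45065, nat_lit 41561, nat_lit 32825, nat_lit 28761, nat_lit 8193,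 nat_lit 4097, nat_lit 327680]⟩
def ndMr2_5 : El := ⟨[nat_lit 0x812dee098a97814c74e8744a025d6e3b45a4, nat_lit 0x2e724d1b0d25da9755509716217901369e02, nat_lit 0xb812416c66e29ab71214083e4c48d6125a87], [nat_lit 77824, nat_lit 81920, nat_lit 90112, nat_lit 102400, nat_lit 178176, nat_lit 173056, nat_lit 168960, nat_lit 166144, nat_lit 162048, nat_lit 158080, nat_lit 154592, nat_lit 147744, nat_lit 144456, nat_lit 141396, nat_lit 136458, nat_lit 134869, nat_lit 2540, nat_lit 6736, nat_lit 11808, nat_lit 13184, nat_lit 17248, nat_lit 22528, nat_lit 28544, nat_lit 29696, nat_lit 33792, nat_lit 38912, nat_lit 43008, nat_lit 46834, nat_lit 41878, nat_lit 38180, nat_lit 33970, nat_lit 28722, nat_lit 26646, nat_lit 20562, nat_lit 16423, nat_lit 12289, nat_lit 8225, nat_lit 4100, nat_lit 413700, nat_lit 405506, nat_lit 397312, nat_lit 143408, nat_lit 139296, nat_lit 135192, nat_lit 131098, nat_lit 45071, nat_lit 40985, nat_lit 36874, nat_lit 32800, nat_lit 28691, nat_lit 24579, nat_lit 327680]⟩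
def ndMr2_6 : El := ⟨[nat_lit 0x777d8b4a2ab2064d9b8c21c4ef800ac55a97, nat_lit 0xb88bd2baa45abac362c286c26201de4a44c9, nat_lit 0xd84b4b8aecd719829c0a04d24fbd483520e1, nat_lit 0x218dbd00c4e3591224e8982ae7605ed2d571], [nat_lit 73728, nat_lit 77824, nat_lit 81920, nat_lit 102400, nat_lit 106496, nat_lit 174080, nat_lit 171520, nat_lit 166144, nat_lit 160256, nat_lit 157056, nat_lit 155456, nat_lit 149328, nat_lit 147360, nat_lit 139596, nat_lit 135242, nat_lit 132904, nat_lit 2616, nat_lit 8048, nat_lit 9288, nat_lit 13728, nat_lit 17888, nat_lit 21568, nat_lit 30208, nat_lit 35328, nat_lit 37888, nat_lit 46504, nat_lit 41503, nat_lit 38039, nat_lit 34884, nat_lit 28681, nat_lit 24832, nat_lit 20487, nat_lit 17415, nat_lit 12311, nat_lit 8193, nat_lit 4104, nat_lit 434184, nat_lit 421894, nat_lit 413700, nat_lit 405506, nat_lit 397312, nat_lit 164864, nat_lit 156672, nat_lit 152000, nat_lit 148544, nat_lit 143840, nat_lit 139520, nat_lit 135468, nat_lit 131550, nat_lit 45376, nat_lit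 37082, nat_lit 327680]⟩
def ndMr2_7 : El := ⟨[nat_lit 0x9305063c9ae28c133450913eca854970d18b, nat_lit 0xed1bbd512a75d1ed4da323301013a651dc28, nat_lit 0x4e4d2b286743a4cebd5ea80ac462c036a232, nat_lit 0x506c09b116fa992c6860e921433c445bd013], [nat_lit 69632, nat_lit 73728, nat_lit 77824, nat_lit 81920, nat_lit 86016, nat_lit 90112, nat_lit 98304, nat_lit 102400, nat_lit 110592, nat_lit 165120, nat_lit 160768, nat_lit 156672, nat_lit 152224, nat_lit 147584, nat_lit 143432, nat_lit 139860, nat_lit 131481, nat_lit 866, nat_lit 5852, nat_lit 10216, nat_lit 12400, nat_lit 16992, nat_lit 20992, nat_lit 28544, nat_lit 30720, nat_lit 35328, nat_lit 47095, nat_lit 43927, nat_lit 36980, nat_lit 34971, nat_lit 30833, nat_lit 24891, nat_lit 20501, nat_lit 16424, nat_lit 12294, nat_lit 8201, nat_lit 4097, nat_lit 434185, nat_lit 421894, nat_lit 413700, nat_lit 405506, nat_lit 397312, nat_lit 168960, nat_lit 160256, nat_lit 155776, nat_lit 147520, nat_lit 144576, nat_lit 140496, nat_lit 136820,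 nat_lit 131162, nat_lit 45267, nat_lit 32973, nat_lit 327680]⟩
def ndMr2_8 : El := ⟨[nat_lit 0xbe717e6a2e700a41ab0cb259e9a39451c271, nat_lit 0xaac5568ce12731afadaf4188205a548394c4], [nat_lit 65536, nat_lit 69632, nat_lit 73728, nat_lit 77824, nat_lit 81920, nat_lit 94208, nat_lit 98304, nat_lit 102400, nat_lit 106496, nat_lit 110592, nat_lit 178176, nat_lit 171008, nat_lit 165888, nat_lit 160128, nat_lit 156992, nat_lit 153248, nat_lit 151312, nat_lit 145352, nat_lit 140260, nat_lit 136774, nat_lit 135137, nat_lit 3262, nat_lit 6664, nat_lit 10128, nat_lit 13488, nat_lit 18560, nat_lit 23104, nat_lit 25216, nat_lit 30208, nat_lit 35328, nat_lit 43008, nat_lit 45065, nat_lit 41334, nat_lit 37339, nat_lit 32875, nat_lit 29203, nat_lit 24623, nat_lit 20481, nat_lit 16910, nat_lit 12359, nat_lit 4160, nat_lit 425989, nat_lit 409600, nat_lit 151808, nat_lit 147744, nat_lit 131088, nat_lit 40976, nat_lit 28688, nat_lit 12289, nat_lit 8193, nat_lit 4097, nat_lit 327680]⟩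
def ndMr2_9 : El := ⟨[nat_lit 0x7d7e1d82a513d1a07d825708d55cd281b2e4, nat_lit 0xd744b41002329887a5eb64256a9ca30731ed], [nat_lit 69632, nat_lit 77824, nat_lit 94208, nat_lit 98304, nat_lit 106496, nat_lit 175104, nat_lit 168960, nat_lit 167680, nat_lit 160256, nat_lit 158336, nat_lit 155008, nat_lit 150096, nat_lit 144608, nat_lit 141256, nat_lit 137514, nat_lit 132670, nat_lit 2002, nat_lit 8040, nat_lit 10640, nat_lit 13664, nat_lit 16480, nat_lit 23936, nat_lit 24704, nat_lit 31744, nat_lit 33792, nat_lit 46721, nat_lit 43419, nat_lit 38007, nat_lit 33453, nat_lit 28988, nat_lit 24707, nat_lit 20546, nat_lit 16418, nat_lit 12289, nat_lit 8208, nat_lit 425989, nat_lit 409600, nat_lit 131360, nat_lit 40976, nat_lit 28688, nat_lit 12289, nat_lit 8193, nat_lit 4097]⟩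
def ndMr2_10 : El := ⟨[], []⟩
def ndMg3_0 : El := ⟨[nat_lit 0x41818e8182920173ab9ac89d43a59f7908a8], [nat_lit 73728, nat_lit 81920, nat_lit 94208, nat_lit 106496, nat_lit 178176, nat_lit 169472, nat_lit 165376, nat_lit 162560, nat_lit 159168, nat_lit 152704, nat_lit 150448, nat_lit 146992, nat_lit 142876, nat_lit 138934, nat_lit 132229, nat_lit 256, nat_lit 7492, nat_lit 10496, nat_lit 15872, nat_lit 19808, nat_lit 20928, nat_lit 26752, nat_lit 30976, nat_lit 34304, nat_lit 38912, nat_lit 41816, nat_lit 38247, nat_lit 32777, nat_lit 28713, nat_lit 25618, nat_lit 20618, nat_lit 16388, nat_lit 12355, nat_lit 8193, nat_lit 4128]⟩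
def ndMg3_1 : El := ⟨[nat_lit 0x603f66b5ce50206b50921839f39362ca90d4, nat_lit 0xc3c3c9ba9e034e30459c1125b43924560d75, nat_lit 0x1781b75d5377ce0d100e430c2542ad4931d1], [nat_lit 65536, nat_lit 69632, nat_lit 73728, nat_lit 86016, nat_lit 98304, nat_lit 102400, nat_lit 106496, nat_lit 178176, nat_lit 173056, nat_lit 169472, nat_lit 167168, nat_lit 163584, nat_lit 158144, nat_lit 153856, nat_lit 147840, nat_lit 145472, nat_lit 142796, nat_lit 135816, nat_lit 134910, nat_lit 3422, nat_lit 5332, nat_lit 10088, nat_lit 12416, nat_lit 19168, nat_lit 24384, nat_lit 26880, nat_lit 29952, nat_lit 35840, nat_lit 38912, nat_lit 46637, nat_lit 41673, nat_lit 37038, nat_lit 32806, nat_lit 28709, nat_lit 24604, nat_lit 20609, nat_lit 16386, nat_lit 12291, nat_lit 8194, nat_lit 434182, nat_lit 409602, nat_lit 397312, nat_lit 147520, nat_lit 140352, nat_lit 136276, nat_lit 131156, nat_lit 45057, nat_lit 36865, nat_lit 32769, nat_lit 28755, nat_lit 20502, nat_lit 327680]⟩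
def ndMg3_2 : El := ⟨[nat_lit 0x936c652dc4960243790d35b5110aac775614, nat_lit 0x6a0055b142f9460a1dd843d00da89c65a269, nat_lit 0x55f90caa48f44c0abd072094f0b196c8b5c2], [nat_lit 73728, nat_lit 81920, nat_lit 86016, nat_lit 94208, nat_lit 110592, nat_lit 178176, nat_lit 171008, nat_lit 165120, nat_lit 162176, nat_lit 158272, nat_lit 155232, nat_lit 147840, nat_lit 144384, nat_lit 139748, nat_lit 136314, nat_lit 133347, nat_lit 3564, nat_lit 6020, nat_lit 10440, nat_lit 15648, nat_lit 17152, nat_lit 21632, nat_lit 26880, nat_lit 29696, nat_lit 46248, nat_lit 43248, nat_lit 37120, nat_lit 28699, nat_lit 24585, nat_lit 20511, nat_lit 16395, nat_lit 12293, nat_lit 8193, nat_lit 434182, nat_lit 409602, nat_lit 397312, nat_lit 156672, nat_lit 140368, nat_lit 135248, nat_lit 132118, nat_lit 45057, nat_lit 36865, nat_lit 32769, nat_lit 28755, nat_lit 20503]⟩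
def ndMg3_3 : El := ⟨[nat_lit 0x7d178153d2e354f76ad0c08a70b10b490071, nat_lit 0x9a55635dd1320d89b49cd0562129a14128ef], [nat_lit 65536, nat_lit 69632, nat_lit 73728, nat_lit 81920, nat_lit 94208, nat_lit 98304, nat_lit 106496, nat_lit 110592, nat_lit 178176, nat_lit 173056, nat_lit 171520, nat_lit 164352, nat_lit 160896, nat_lit 159552, nat_lit 154496, nat_lit 148752, nat_lit 144712, nat_lit 140660, nat_lit 137806, nat_lit 134837, nat_lit 2546, nat_lit 5252, nat_lit 9880, nat_lit 15328, nat_lit 17056, nat_lit 21504, nat_lit 26240, nat_lit 31232, nat_lit 34304, nat_lit 46439, nat_lit 43680, nat_lit 37153, nat_lit 33326, nat_lit 29727, nat_lit 24633, nat_lit 20546, nat_lit 16392, nat_lit 12295, nat_lit 4104, nat_lit 2, nat_lit 409602, nat_lit 397312, nat_lit 139280, nat_lit 135188, nat_lit 131092, nat_lit 40962, nat_lit 36865, nat_lit 28695, nat_lit 24580, nat_lit 20503]⟩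
def ndMg3_4 : El := ⟨[nat_lit 0x14ddb4ad9339006b6b111238378194511e8f, nat_lit 0xeeed87b08ea7c9cd5d46664271410142dd21, nat_lit 0x81782878dc7a260d11a71584aab5480432f2], [nat_lit 65536, nat_lit 69632, nat_lit 90112, nat_lit 94208, nat_lit 102400, nat_lit 110592, nat_lit 178176, nat_lit 173056, nat_lit 168448, nat_lit 164608, nat_lit 162944, nat_lit 158016, nat_lit 153856, nat_lit 151200, nat_lit 144696, nat_lit 139508, nat_lit 138126, nat_lit 133882, nat_lit 3678, nat_lit 4504, nat_lit 11032, nat_lit 12832, nat_lit 16832, nat_lit 22080, nat_lit 27008, nat_lit 32000, nat_lit 33792, nat_lit 43008, nat_lit 46335, nat_lit 43902, nat_lit 37375, nat_lit 32791, nat_lit 28757, nat_lit 24589, nat_lit 20993, nat_lit 16421, nat_lit 12305, nat_lit 4105, nat_lit 434182, nat_lit 409602, nat_lit 397312, nat_lit 140352, nat_lit 136196, nat_lit 131152, nat_lit 45057, nat_lit 28755, nat_lit 20502, nat_lit 12289, nat_lit 327680]⟩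
def ndMr3_0 : El := ⟨[nat_lit 0xf90a5c7402658e826a6ac516e493c07b4513, nat_lit 0xf59a05995095bec134460954f75504c811cd, nat_lit 0xc5aff908c02b56973988584e326b1cf52568], [nat_lit 69632, nat_lit 81920, nat_lit 90112, nat_lit 98304, nat_lit 102400, nat_lit 110592, nat_lit 174080, nat_lit 165376, nat_lit 163584, nat_lit 158272, nat_lit 152992, nat_lit 147664, nat_lit 147304, nat_lit 142384, nat_lit 137058, nat_lit 131749, nat_lit 3758, nat_lit 6976, nat_lit 8736, nat_lit 13600, nat_lit 20160, nat_lit 20608, nat_lit 25472, nat_lit 30464, nat_lit 33280, nat_lit 39936, nat_lit 45248, nat_lit 41768, nat_lit 38339, nat_lit 32982, nat_lit 28992, nat_lit 24579, nat_lit 20997, nat_lit 16399, nat_lit 12305, nat_lit 8201, nat_lit 4101, nat_lit 434184, nat_lit 417797, nat_lit 409602, nat_lit 397312, nat_lit 164864, nat_lit 155904, nat_lit 152896, nat_lit 139344, nat_lit 136228, nat_lit 132130, nat_lit 45062, nat_lit 36870, nat_lit 28694, nat_lit 12289]⟩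
def ndMr3_1 : El := ⟨[nat_lit 0x1e8b1b022322ba17518246b06b152a979e76, nat_lit 0x63f5f97c065209d2b517545d493c5809b426, nat_lit 0xed8dde9d0c3916a2892e16350e7ad49042c7], [nat_lit 69632, nat_lit 86016, nat_lit 106496, nat_lit 178176, nat_lit 174080, nat_lit 170496, nat_lit 167424, nat_lit 162688, nat_lit 158464, nat_lit 154656, nat_lit 149312, nat_lit 146952, nat_lit 141308, nat_lit 138812, nat_lit 132361, nat_lit 1926, nat_lit 4240, nat_lit 8400, nat_lit 15728, nat_lit 19808, nat_lit 20864, nat_lit 27776, nat_lit 32512, nat_lit 35840, nat_lit 38912, nat_lit 45516, nat_lit 41172, nat_lit 36959, nat_lit 32790, nat_lit 28738, nat_lit 24735, nat_lit 20492, nat_lit 16392, nat_lit 12294, nat_lit 8200, nat_lit 4097, nat_lit 2, nat_lit 413700, nat_lit 405506, nat_lit 397312, nat_lit 143408, nat_lit 139288, nat_lit 135188, nat_lit 131114, nat_lit 45071, nat_lit 40976, nat_lit 36876, nat_lit 32799, nat_lit 28688, nat_lit 24582]⟩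
def ndMr3_2 : El := ⟨[nat_lit 0x96caca1b22ba388f09c572a936342b36a240, nat_lit 0x35facf15ed52ad933c50e6c8c9a04035120f, nat_lit 0xbb282eb9687258d5888137214d0c2437b169], [nat_lit 69632, nat_lit 81920, nat_lit 86016, nat_lit 90112, nat_lit 94208, nat_lit 178176, nat_lit 174080, nat_lit 171008, nat_lit 165376, nat_lit 162048, nat_lit 156864, nat_lit 154208, nat_lit 150416, nat_lit 146424, nat_lit 141660, nat_lit 136834, nat_lit 133053, nat_lit 696, nat_lit 5932, nat_lit 11752, nat_lit 15824, nat_lit 17216, nat_lit 23168, nat_lit 27776, nat_lit 30720, nat_lit 33792, nat_lit 39936, nat_lit 43008, nat_lit 46631, nat_lit 43222, nat_lit 37225, nat_lit 33421, nat_lit 29024, nat_lit 24617, nat_lit 20551, nat_lit 16386, nat_lit 12324, nat_lit 4104, nat_lit 425988, nat_lit 405506, nat_lit 397312, nat_lit 147712, nat_lit 143616, nat_lit 139536, nat_lit 135192, nat_lit 131096, nat_lit 45071, nat_lit 40986, nat_lit 36879, nat_lit 28694, nat_lit 24591]⟩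
def ndMr3_3 : El := ⟨[nat_lit 0xb4eb7b6c80c75cca804a479ea91ad11152d3, nat_lit 0x9f56050886084e32639ed4a16ab56f4290c7], [nat_lit 73728, nat_lit 77824, nat_lit 86016, nat_lit 98304, nat_lit 102400, nat_lit 106496, nat_lit 175104, nat_lit 168960, nat_lit 164864, nat_lit 162688, nat_lit 155904, nat_lit 151584, nat_lit 151424, nat_lit 144496, nat_lit 141728, nat_lit 136842, nat_lit 132448, nat_lit 938, nat_lit 4824, nat_lit 10680, nat_lit 12928, nat_lit 18688, nat_lit 22656, nat_lit 27392, nat_lit 32000, nat_lit 35328, nat_lit 39936, nat_lit 45962, nat_lit 41773, nat_lit 37260, nat_lit 32915, nat_lit 29034, nat_lit 24714, nat_lit 20546, nat_lit 16425, nat_lit 12306, nat_lit 8704, nat_lit 4104, nat_lit 32, nat_lit 425989, nat_lit 409600, nat_lit 151808, nat_lit 147744, nat_lit 131088, nat_lit 40976, nat_lit 28688, nat_lit 12289, nat_lit 8193, nat_lit 4097]⟩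
def ndMr3_4 : El := ⟨[nat_lit 0xd84bb45212bbdab4218e584672639ed10c20, nat_lit 0xf9faac94271a5ed51804131ca47358f5a928], [nat_lit 81920, nat_lit 94208, nat_lit 98304, nat_lit 106496, nat_lit 178176, nat_lit 173056, nat_lit 169472, nat_lit 164864, nat_lit 162048, nat_lit 152768, nat_lit 150080, nat_lit 145600, nat_lit 142868, nat_lit 135586, nat_lit 133343, nat_lit 2630, nat_lit 6796, nat_lit 8216, nat_lit 14848, nat_lit 17088, nat_lit 22016, nat_lit 27136, nat_lit 31744, nat_lit 34304, nat_lit 39936, nat_lit 43008, nat_lit 46665, nat_lit 41673, nat_lit 38020, nat_lit 32804, nat_lit 29776, nat_lit 24590, nat_lit 20482, nat_lit 16514, nat_lit 12289, nat_lit 8259, nat_lit 4112, nat_lit 425989, nat_lit 409600, nat_lit 151808, nat_lit 147744, nat_lit 131088, nat_lit 40976, nat_lit 28688, nat_lit 12289, nat_lit 8193, nat_lit 4097]⟩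
def ndMr3_5 : El := ⟨[nat_lit 0xeb788225c4f8a060385d462e4d82ad5324b3, nat_lit 0xeb88722567064849b2ce82dc037d0ce505b1, nat_lit 0xd2ed143156a90e00ab9940cc514a087b3eed], [nat_lit 65536, nat_lit 69632, nat_lit 77824, nat_lit 81920, nat_lit 94208, nat_lit 106496, nat_lit 110592, nat_lit 174080, nat_lit 168448, nat_lit 167680, nat_lit 160000, nat_lit 156096, nat_lit 152288, nat_lit 149904, nat_lit 145360, nat_lit 141860, nat_lit 136142, nat_lit 132614, nat_lit 3536, nat_lit 4516, nat_lit 10872, nat_lit 12752, nat_lit 18496, nat_lit 22784, nat_lit 27904, nat_lit 32512, nat_lit 35840, nat_lit 37888, nat_lit 45201, nat_lit 41743, nat_lit 36872, nat_lit 33868, nat_lit 28781, nat_lit 24588, nat_lit 20623, nat_lit 12357, nat_lit 8194, nat_lit 4101, nat_lit 430088, nat_lit 417797, nat_lit 409603, nat_lit 397312, nat_lit 164352, nat_lit 155904, nat_lit 152320, nat_lit 148256, nat_lit 144128, nat_lit 135184, nat_lit 131904, nat_lit 45066, nat_lit 41561, nat_lit 28698, nat_lit 8193]⟩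
def ndMr3_6 : El := ⟨[nat_lit 0x653c006ae48a84899ddd651a8279e058b003, nat_lit 0x82811d106c39a4cc6ae45a541743e07891ca], [nat_lit 65536, nat_lit 69632, nat_lit 73728, nat_lit 77824, nat_lit 81920, nat_lit 106496, nat_lit 110592, nat_lit 164864, nat_lit 160768, nat_lit 156864, nat_lit 152448, nat_lit 148896, nat_lit 144488, nat_lit 139508, nat_lit 137312, nat_lit 133114, nat_lit 1814, nat_lit 5420, nat_lit 11128, nat_lit 12464, nat_lit 18240, nat_lit 24256, nat_lit 28288, nat_lit 31232, nat_lit 34304, nat_lit 38912, nat_lit 46177, nat_lit 44031, nat_lit 36921, nat_lit 33959, nat_lit 28715, nat_lit 26645, nat_lit 20569, nat_lit 16392, nat_lit 12311, nat_lit 8201, nat_lit 4101, nat_lit 413699, nat_lit 401409, nat_lit 143392, nat_lit 139296, nat_lit 135172, nat_lit 40962, nat_lit 36868, nat_lit 32814, nat_lit 28680, nat_lit 24578, nat_lit 16388, nat_lit 327680]⟩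
def ndMr3_7 : El := ⟨[nat_lit 0xe742e2231af546c015e4b1a2b09d029718a7, nat_lit 0x53300a094049ba2f38866bd1286424d55aab], [nat_lit 69632, nat_lit 77824, nat_lit 81920, nat_lit 86016, nat_lit 90112, nat_lit 98304, nat_lit 178176, nat_lit 175104, nat_lit 169984, nat_lit 164096, nat_lit 163456, nat_lit 155712, nat_lit 151744, nat_lit 149728, nat_lit 146880, nat_lit 141900, nat_lit 137198, nat_lit 132726, nat_lit 2360, nat_lit 4208, nat_lit 8752, nat_lit 16352, nat_lit 18560, nat_lit 21504, nat_lit 25600, nat_lit 32000, nat_lit 37888, nat_lit 43008, nat_lit 47075, nat_lit 43962, nat_lit 37218, nat_lit 33482, nat_lit 28731, nat_lit 24586, nat_lit 20499, nat_lit 16397, nat_lit 12291, nat_lit 8209, nat_lit 4105, nat_lit 421893, nat_lit 397312, nat_lit 135328, nat_lit 131074, nat_lit 41088, nat_lit 36992, nat_lit 32769, nat_lit 12289, nat_lit 8194]⟩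
def ndMr3_8 : El := ⟨[nat_lit 0xc3ccc614c0b6dcc3ac15492085706c74b1f1, nat_lit 0xa5a335b35e670269846a793101bad4520874, nat_lit 0x2de21b8aa6bbb594755f64413201c8309446], [nat_lit 65536, nat_lit 69632, nat_lit 73728, nat_lit 90112, nat_lit 94208, nat_lit 98304, nat_lit 110592, nat_lit 175104, nat_lit 168960, nat_lit 166656, nat_lit 162048, nat_lit 156736, nat_lit 155552, nat_lit 149568, nat_lit 143464, nat_lit 140648, nat_lit 137362, nat_lit 132456, nat_lit 1766, nat_lit 5624, nat_lit 9424, nat_lit 13664, nat_lit 18272, nat_lit 20992, nat_lit 25600, nat_lit 31488, nat_lit 35328, nat_lit 39936, nat_lit 46832, nat_lit 43776, nat_lit 39320, nat_lit 32979, nat_lit 28787, nat_lit 24717, nat_lit 20491, nat_lit 16456, nat_lit 8211, nat_lit 4097, nat_lit 425991, nat_lit 417797, nat_lit 409602, nat_lit 397312, nat_lit 155776, nat_lit 152000, nat_lit 147904, nat_lit 139280, nat_lit 135552, nat_lit 131410, nat_lit 45061, nat_lit 41093, nat_lit 12290, nat_lit 327680]⟩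
def ndMr3_9 : El := ⟨[nat_lit 0x35fa305111504de981692359cd12e2cb8467, nat_lit 0x9a66c95c9222d5ea041cd9d2e11c4c43b2c8, nat_lit 0x1e741b18a3342e96338ef2158d90410add2a], [nat_lit 69632, nat_lit 77824, nat_lit 81920, nat_lit 86016, nat_lit 90112, nat_lit 110592, nat_lit 175104, nat_lit 168448, nat_lit 167680, nat_lit 161024, nat_lit 156928, nat_lit 153952, nat_lit 150304, nat_lit 146416, nat_lit 143016, nat_lit 135684, nat_lit 131749, nat_lit 1372, nat_lit 7332, nat_lit 12008, nat_lit 14688, nat_lit 18912, nat_lit 20864, nat_lit 26368, nat_lit 31744, nat_lit 35328, nat_lit 37888, nat_lit 45244, nat_lit 41296, nat_lit 37084, nat_lit 32906, nat_lit 28774, nat_lit 24624, nat_lit 20556, nat_lit 16390, nat_lit 12289, nat_lit 8208, nat_lit 4100, nat_lit 425991, nat_lit 417797, nat_lit 409603, nat_lit 401408, nat_lit 160000, nat_lit 155776, nat_lit 151872, nat_lit 147680, nat_lit 143616, nat_lit 139472, nat_lit 131348, nat_lit 45068, nat_lit 41157, nat_lit 36928, nat_lit 4097]⟩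
def ndMr3_10 : El := ⟨[nat_lit 0x69600c10ea7620137dda552cd6a4604905c9, nat_lit 0xf0669c922c480a2d704a734e891bd4badc0c, nat_lit 0x3c0f63a3c08734921183352cb14d98381ef5, nat_lit 0xe881483aa6f638142c5a9aca0321836bac48], [nat_lit 65536, nat_lit 86016, nat_lit 98304, nat_lit 102400, nat_lit 106496, nat_lit 174080, nat_lit 171008, nat_lit 167680, nat_lit 162432, nat_lit 158912, nat_lit 155328, nat_lit 150432, nat_lit 137714, nat_lit 131073, nat_lit 2678, nat_lit 4608, nat_lit 9928, nat_lit 14720, nat_lit 16864, nat_lit 22464, nat_lit 25600, nat_lit 30464, nat_lit 33280, nat_lit 39936, nat_lit 43008, nat_lit 45807, nat_lit 41008, nat_lit 37123, nat_lit 33286, nat_lit 30843, nat_lit 24577, nat_lit 21525, nat_lit 16515, nat_lit 14337, nat_lit 8194, nat_lit 4100, nat_lit 438282, nat_lit 430088, nat_lit 421894, nat_lit 413700, nat_lit 405506, nat_lit 397312, nat_lit 171008, nat_lit 162560, nat_lit 158464, nat_lit 152512, nat_lit 147520, nat_lit 144512, nat_lit 142896, nat_lit 139228, nat_lit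 135082]⟩
def ndMr3_11 : El := ⟨[nat_lit 0x36cfafb068b022508ddc57b04a224e39b6a6, nat_lit 0xf39fa94282fbd80e1c66c2b444355703ca89, nat_lit 0xb4bebd4b1d1a00ad82062784f6bae559988a, nat_lit 0x69ca35904f635222710a85d6ef6c26900d8a], [nat_lit 65536, nat_lit 73728, nat_lit 81920, nat_lit 86016, nat_lit 90112, nat_lit 94208, nat_lit 110592, nat_lit 178176, nat_lit 175104, nat_lit 171520, nat_lit 167424, nat_lit 162560, nat_lit 159104, nat_lit 155360, nat_lit 150480, nat_lit 143368, nat_lit 133616, nat_lit 3324, nat_lit 5576, nat_lit 9800, nat_lit 15776, nat_lit 18496, nat_lit 24000, nat_lit 28288, nat_lit 29184, nat_lit 34304, nat_lit 43008, nat_lit 46413, nat_lit 43086, nat_lit 37267, nat_lit 32931, nat_lit 28788, nat_lit 24596, nat_lit 20615, nat_lit 16418, nat_lit 14343, nat_lit 8257, nat_lit 4104, nat_lit 4, nat_lit 438282, nat_lit 430088, nat_lit 421894, nat_lit 413700, nat_lit 405506, nat_lit 397312, nat_lit 171008, nat_lit 166400, nat_lit 156928, nat_lit 151808, nat_lit 149792, nat_lit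 144064, nat_lit 142544, nat_lit 135648, nat_lit 131946, nat_lit 327680]⟩
def ndMr3_12 : El := ⟨[nat_lit 0x1e48be2ccd4ba20b7c6cc501a49087549dc1, nat_lit 0x77bed18b95299c37142a64bc605b48543296, nat_lit 0x6690f3250b7081287c5b010d4ba9ac794d8e], [nat_lit 73728, nat_lit 81920, nat_lit 86016, nat_lit 90112, nat_lit 102400, nat_lit 106496, nat_lit 174080, nat_lit 166400, nat_lit 160640, nat_lit 156288, nat_lit 153984, nat_lit 147520, nat_lit 145304, nat_lit 141404, nat_lit 137774, nat_lit 133014, nat_lit 874, nat_lit 4860, nat_lit 11456, nat_lit 12544, nat_lit 19808, nat_lit 22784, nat_lit 25728, nat_lit 29696, nat_lit 33792, nat_lit 38912, nat_lit 43008, nat_lit 45249, nat_lit 41280, nat_lit 37231, nat_lit 33492, nat_lit 28677, nat_lit 24602, nat_lit 20487, nat_lit 16451, nat_lit 12304, nat_lit 4128, nat_lit 2, nat_lit 430088, nat_lit 417797, nat_lit 409602, nat_lit 397312, nat_lit 164352, nat_lit 155904, nat_lit 152128, nat_lit 147520, nat_lit 139312, nat_lit 135520, nat_lit 131188,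 nat_lit 45632, nat_lit 41552, nat_lit 28758, nat_lit 12295, nat_lit 327680]⟩
def ndMr3_13 : El := ⟨[nat_lit 0xc9fa953d27450329962d5da00355d723062, nat_lit 0xf309ca8bceb6dc0eb1482a06701d50933152, nat_lit 0x650faa5b9aaa02c308af5425ec31e13944a4], [nat_lit 65536, nat_lit 69632, nat_lit 77824, nat_lit 86016, nat_lit 106496, nat_lit 110592, nat_lit 178176, nat_lit 174080, nat_lit 169984, nat_lit 166912, nat_lit 161152, nat_lit 158528, nat_lit 154400, nat_lit 150448, nat_lit 145728, nat_lit 139936, nat_lit 137076, nat_lit 134888, nat_lit 1490, nat_lit 7820, nat_lit 8920, nat_lit 12352, nat_lit 19616, nat_lit 24000, nat_lit 26624, nat_lit 29184, nat_lit 37888, nat_lit 43008, nat_lit 47047, nat_lit 41671, nat_lit 38219, nat_lit 32807, nat_lit 28689, nat_lit 24617, nat_lit 20491, nat_lit 16522, nat_lit 12307, nat_lit 8193, nat_lit 4097, nat_lit 430088, nat_lit 417797, nat_lit 409602, nat_lit 397312, nat_lit 164352, nat_lit 155904, nat_lit 152384, nat_lit 147808, nat_lit 140080, nat_lit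 131366, nat_lit 45059, nat_lit 41046, nat_lit 28691, nat_lit 12292]⟩
def ndMr3_14 : El := ⟨[nat_lit 0xe282de80c5329d2bad9ae220caa31f70ca20, nat_lit 0xb82e1ba062978ca24198b3ddb505a6a241d2, nat_lit 0x41181d1867110212a9cb635e8472d2d7b148], [nat_lit 69632, nat_lit 86016, nat_lit 90112, nat_lit 94208, nat_lit 102400, nat_lit 178176, nat_lit 173056, nat_lit 164608, nat_lit 159040, nat_lit 152160, nat_lit 149328, nat_lit 143624, nat_lit 141856, nat_lit 136316, nat_lit 133046, nat_lit 2792, nat_lit 7036, nat_lit 9864, nat_lit 12304, nat_lit 19456, nat_lit 21760, nat_lit 25472, nat_lit 31488, nat_lit 35840, nat_lit 37888, nat_lit 46163, nat_lit 43356, nat_lit 37157, nat_lit 33280, nat_lit 28679, nat_lit 24583, nat_lit 20497, nat_lit 16388, nat_lit 12295, nat_lit 8, nat_lit 425991, nat_lit 417797, nat_lit 409602, nat_lit 397312, nat_lit 160000, nat_lit 156032, nat_lit 151808, nat_lit 147616, nat_lit 139488, nat_lit 135648, nat_lit 131526, nat_lit 45059, nat_lit 41091, nat_lit 36931, nat_lit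 12292]⟩
def ndMr3_15 : El := ⟨[nat_lit 0x7e4472404d28a8042c049a55d719d737b2cd, nat_lit 0x8e22118cd205b04f55834236f2742a7414c3, nat_lit 0x39fcf51840294e304292b218e56bdccaded4], [nat_lit 73728, nat_lit 86016, nat_lit 90112, nat_lit 98304, nat_lit 106496, nat_lit 174080, nat_lit 167680, nat_lit 158464, nat_lit 153344, nat_lit 147984, nat_lit 144456, nat_lit 142360, nat_lit 137382, nat_lit 132534, nat_lit 2058, nat_lit 8116, nat_lit 10064, nat_lit 13024, nat_lit 16672, nat_lit 21184, nat_lit 27136, nat_lit 29696, nat_lit 35840, nat_lit 38912, nat_lit 43008, nat_lit 45865, nat_lit 41205, nat_lit 37115, nat_lit 34831, nat_lit 29277, nat_lit 24577, nat_lit 20624, nat_lit 16424, nat_lit 12295, nat_lit 8203, nat_lit 434184, nat_lit 417797, nat_lit 409602, nat_lit 397312, nat_lit 164864, nat_lit 152896, nat_lit 147520, nat_lit 140640, nat_lit 135280, nat_lit 131346, nat_lit 45062, nat_lit 36870, nat_lit 28688, nat_lit 12289]⟩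
def ndMr3_16 : El := ⟨[nat_lit 0xe8e724bb9631592f9d4f44195191001831a5, nat_lit 0xe88e4714caa0ae264b11485e4d182cfa90ee, nat_lit 0x369599a5a70284448cab74b96c018677b548], [nat_lit 94208, nat_lit 102400, nat_lit 106496, nat_lit 178176, nat_lit 173056, nat_lit 168960, nat_lit 166912, nat_lit 163456, nat_lit 158592, nat_lit 152768, nat_lit 147504, nat_lit 143832, nat_lit 139536, nat_lit 137788, nat_lit 132217, nat_lit 3966, nat_lit 5568, nat_lit 8448, nat_lit 15760, nat_lit 19008, nat_lit 21568, nat_lit 25216, nat_lit 30976, nat_lit 35328, nat_lit 46848, nat_lit 43837, nat_lit 38978, nat_lit 32826, nat_lit 28778, nat_lit 24749, nat_lit 20509, nat_lit 16388, nat_lit 12321, nat_lit 8203, nat_lit 425991, nat_lit 417797, nat_lit 409603, nat_lit 401408, nat_lit 155776, nat_lit 151872, nat_lit 147808, nat_lit 143792, nat_lit 139280, nat_lit 131424, nat_lit 45068, nat_lit 40988, nat_lit 4097]⟩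
def ndMr3_17 : El := ⟨[nat_lit 0xc6f305022e2b4269514d52446f6864773174, nat_lit 0xe4dd44a8505990cc3ac541c80f539316c2f6, nat_lit 0x14d244418533d9a5510708de4c4b975081f4], [nat_lit 65536, nat_lit 69632, nat_lit 81920, nat_lit 90112, nat_lit 94208, nat_lit 102400, nat_lit 178176, nat_lit 173056, nat_lit 169472, nat_lit 166400, nat_lit 161280, nat_lit 157248, nat_lit 154240, nat_lit 150560, nat_lit 143384, nat_lit 142812, nat_lit 135436, nat_lit 133958, nat_lit 1228, nat_lit 6036, nat_lit 10760, nat_lit 13840, nat_lit 19072, nat_lit 22400, nat_lit 26624, nat_lit 29696, nat_lit 33792, nat_lit 43008, nat_lit 47045, nat_lit 43065, nat_lit 37016, nat_lit 32788, nat_lit 28754, nat_lit 24731, nat_lit 21506, nat_lit 16423, nat_lit 12292, nat_lit 8193, nat_lit 4128, nat_lit 4, nat_lit 421894, nat_lit 413700, nat_lit 405506, nat_lit 397312, nat_lit 151744, nat_lit 147616, nat_lit 139472, nat_lit 135180, nat_lit 131132, nat_lit 45068, nat_lit 40991, nat_lit 36879, nat_lit 32786]⟩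
def ndMr3_18 : El := ⟨[nat_lit 0xb1e7120d04c35cad02607b2d4f1a2449c6ae, nat_lit 0x30ca0329ee414188ad0d65480f5b4331a62e, nat_lit 0xca93ac3d42b7daf26266a120b468c103448e, nat_lit 0xac65cc5940ab06a474d374522f3487061da2], [nat_lit 69632, nat_lit 73728, nat_lit 77824, nat_lit 86016, nat_lit 94208, nat_lit 102400, nat_lit 178176, nat_lit 168448, nat_lit 167680, nat_lit 160768, nat_lit 156032, nat_lit 155424, nat_lit 151104, nat_lit 144456, nat_lit 142628, nat_lit 138146, nat_lit 132454, nat_lit 2566, nat_lit 5284, nat_lit 11360, nat_lit 16368, nat_lit 20128, nat_lit 20544, nat_lit 26624, nat_lit 35328, nat_lit 39936, nat_lit 43008, nat_lit 45426, nat_lit 41816, nat_lit 38116, nat_lit 32938, nat_lit 28673, nat_lit 25639, nat_lit 20555, nat_lit 16388, nat_lit 12289, nat_lit 8211, nat_lit 4097, nat_lit 2, nat_lit 430088, nat_lit 421894, nat_lit 413700, nat_lit 405506, nat_lit 397312, nat_lit 164352, nat_lit 160512, nat_lit 156544, nat_lit 152448, nat_lit 147488, nat_lit 144352, nat_lit 139368,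 nat_lit 135804, nat_lit 131800, nat_lit 45682, nat_lit 41892]⟩
def ndMr3_19 : El := ⟨[nat_lit 0x87728b2286b04e27726b07cac86b0262d2e2, nat_lit 0x22b8dd4524a256053bc29b31d11de60599a2, nat_lit 0x4b82181bc4c734204a8879c29795a3559905], [nat_lit 65536, nat_lit 69632, nat_lit 81920, nat_lit 98304, nat_lit 102400, nat_lit 106496, nat_lit 178176, nat_lit 175104, nat_lit 168960, nat_lit 166400, nat_lit 160512, nat_lit 155776, nat_lit 151584, nat_lit 147584, nat_lit 143384, nat_lit 143172, nat_lit 138476, nat_lit 131402, nat_lit 2760, nat_lit 7376, nat_lit 8520, nat_lit 13568, nat_lit 19456, nat_lit 22464, nat_lit 26752, nat_lit 30208, nat_lit 33280, nat_lit 38912, nat_lit 43008, nat_lit 45397, nat_lit 41497, nat_lit 38110, nat_lit 34905, nat_lit 29195, nat_lit 24749, nat_lit 20557, nat_lit 17415, nat_lit 12305, nat_lit 4097, nat_lit 2, nat_lit 430088, nat_lit 417797, nat_lit 409602, nat_lit 397312, nat_lit 164352, nat_lit 156416, nat_lit 151808, nat_lit 147744, nat_lit 140032, nat_lit 136052,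 nat_lit 131620, nat_lit 45061, nat_lit 40976, nat_lit 28755, nat_lit 12290]⟩
def ndMr3_20 : El := ⟨[nat_lit 0x9509a8a902232ab38e45b869003a6d7d926, nat_lit 0xd844bbb1de445d2d99941832922c44b00dd5, nat_lit 0xc090c53bda58cd2aa580192e08b8875610ce], [nat_lit 65536, nat_lit 69632, nat_lit 77824, nat_lit 90112, nat_lit 106496, nat_lit 110592, nat_lit 173056, nat_lit 169472, nat_lit 167424, nat_lit 160512, nat_lit 158016, nat_lit 152704, nat_lit 148048, nat_lit 146040, nat_lit 142632, nat_lit 136170, nat_lit 132501, nat_lit 722, nat_lit 6148, nat_lit 11272, nat_lit 15968, nat_lit 18752, nat_lit 22784, nat_lit 28544, nat_lit 32256, nat_lit 34304, nat_lit 37888, nat_lit 45676, nat_lit 41921, nat_lit 38028, nat_lit 33288, nat_lit 29769, nat_lit 24833, nat_lit 22546, nat_lit 16423, nat_lit 12305, nat_lit 8224, nat_lit 4097, nat_lit 2, nat_lit 425990, nat_lit 413700, nat_lit 405506, nat_lit 397312, nat_lit 151808, nat_lit 147808, nat_lit 143632, nat_lit 139560, nat_lit 135220, nat_lit 131102,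 nat_lit 45071, nat_lit 41052, nat_lit 36943, nat_lit 28755, nat_lit 327680]⟩
def ndMg4_0 : El := ⟨[nat_lit 0x1db18b6d59675df49a511194c092d5021c22, nat_lit 0xbd441e756eda3ecc9c4a69408712c2a1a009], [nat_lit 65536, nat_lit 69632, nat_lit 73728, nat_lit 86016, nat_lit 94208, nat_lit 98304, nat_lit 102400, nat_lit 106496, nat_lit 178176, nat_lit 174080, nat_lit 168448, nat_lit 164352, nat_lit 161920, nat_lit 159296, nat_lit 152480, nat_lit 150384, nat_lit 143992, nat_lit 140376, nat_lit 137942, nat_lit 132247, nat_lit 2954, nat_lit 4916, nat_lit 10392, nat_lit 14464, nat_lit 16480, nat_lit 22656, nat_lit 25728, nat_lit 30720, nat_lit 33280, nat_lit 46255, nat_lit 41096, nat_lit 37218, nat_lit 32992, nat_lit 28957, nat_lit 24704, nat_lit 20509, nat_lit 16418, nat_lit 12292, nat_lit 8200, nat_lit 4112, nat_lit 2, nat_lit 430088, nat_lit 397312, nat_lit 164352, nat_lit 135936, nat_lit 40961, nat_lit 28674, nat_lit 16385, nat_lit 12290, nat_lit 8193, nat_lit 327680]⟩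
def ndMg4_1 : El := ⟨[nat_lit 0xa3596674e2f4d1176b212b554b38c4609480], [nat_lit 65536, nat_lit 69632, nat_lit 73728, nat_lit 106496, nat_lit 174080, nat_lit 171008, nat_lit 159872, nat_lit 158464, nat_lit 151840, nat_lit 148144, nat_lit 146616, nat_lit 139572, nat_lit 137682, nat_lit 133854, nat_lit 32, nat_lit 6160, nat_lit 9424, nat_lit 16240, nat_lit 19456, nat_lit 21504, nat_lit 26624, nat_lit 31744, nat_lit 39936, nat_lit 43008, nat_lit 41816, nat_lit 38008, nat_lit 33466, nat_lit 28788, nat_lit 24721, nat_lit 20504, nat_lit 16424, nat_lit 12322, nat_lit 8257, nat_lit 4104, nat_lit 327680]⟩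
def ndMg4_2 : El := ⟨[nat_lit 0x17b2e2bb5949ae2a190e0288c1755f692209, nat_lit 0x2dedeb3c665b06a300a97312126bd2a42d8e], [nat_lit 65536, nat_lit 73728, nat_lit 77824, nat_lit 90112, nat_lit 94208, nat_lit 98304, nat_lit 102400, nat_lit 178176, nat_lit 174080, nat_lit 169472, nat_lit 164864, nat_lit 157632, nat_lit 154912, nat_lit 147488, nat_lit 145544, nat_lit 139376, nat_lit 137588, nat_lit 131441, nat_lit 56, nat_lit 4492, nat_lit 11304, nat_lit 14368, nat_lit 20384, nat_lit 21760, nat_lit 26624, nat_lit 29696, nat_lit 33792, nat_lit 38912, nat_lit 45098, nat_lit 41880, nat_lit 37118, nat_lit 32990, nat_lit 28714, nat_lit 20629, nat_lit 16419, nat_lit 12292, nat_lit 8202, nat_lit 4101, nat_lit 425989, nat_lit 401408, nat_lit 151808, nat_lit 40961, nat_lit 37157, nat_lit 28676, nat_lit 16388, nat_lit 12292, nat_lit 4097, nat_lit 327680]⟩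
def ndMg4_3 : El := ⟨[nat_lit 0xc99a69398018b593bae8a290434d6c893a0f, nat_lit 0x77412e918b181e647b440185cc4dd54aaec8], [nat_lit 65536, nat_lit 69632, nat_lit 77824, nat_lit 98304, nat_lit 102400, nat_lit 110592, nat_lit 171520, nat_lit 166144, nat_lit 163712, nat_lit 159168, nat_lit 152960, nat_lit 150688, nat_lit 146656, nat_lit 143344, nat_lit 137428, nat_lit 134415, nat_lit 4030, nat_lit 8044, nat_lit 8208, nat_lit 14624, nat_lit 19424, nat_lit 22272, nat_lit 26240, nat_lit 29184, nat_lit 38912, nat_lit 43008, nat_lit 46252, nat_lit 41101, nat_lit 37042, nat_lit 32865, nat_lit 28788, nat_lit 24766, nat_lit 20504, nat_lit 16386, nat_lit 12323, nat_lit 4105, nat_lit 8, nat_lit 425989, nat_lit 397312, nat_lit 151808, nat_lit 135424, nat_lit 40962, nat_lit 36896, nat_lit 28673, nat_lit 16386, nat_lit 12290, nat_lit 8193, nat_lit 327680]⟩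
def ndMg4_4 : El := ⟨[nat_lit 0x3cf063200c24b58884af48dab3184e55bdca, nat_lit 0x56c39c1b5800b84f945684aa1325cf4a96c6], [nat_lit 69632, nat_lit 73728, nat_lit 77824, nat_lit 81920, nat_lit 86016, nat_lit 90112, nat_lit 106496, nat_lit 110592, nat_lit 174080, nat_lit 171008, nat_lit 167680, nat_lit 161792, nat_lit 158464, nat_lit 155264, nat_lit 150864, nat_lit 145864, nat_lit 141996, nat_lit 135824, nat_lit 131281, nat_lit 1188, nat_lit 7832, nat_lit 10392, nat_lit 14464, nat_lit 17408, nat_lit 21952, nat_lit 28416, nat_lit 29184, nat_lit 35328, nat_lit 43008, nat_lit 46705, nat_lit 41581, nat_lit 37215, nat_lit 32784, nat_lit 28690, nat_lit 25134, nat_lit 20560, nat_lit 12292, nat_lit 8200, nat_lit 4097, nat_lit 2, nat_lit 425989, nat_lit 397312, nat_lit 151808, nat_lit 135424, nat_lit 40962, nat_lit 36896, nat_lit 28673, nat_lit 16386, nat_lit 12290, nat_lit 8193, nat_lit 327680]⟩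
def ndMr4_0 : El := ⟨[nat_lit 0x1ed1d2b98901bceb2854e102924a2b16b276, nat_lit 0x396a9684e32310a763dcda5af542d2a18801], [nat_lit 65536, nat_lit 81920, nat_lit 90112, nat_lit 102400, nat_lit 106496, nat_lit 110592, nat_lit 175104, nat_lit 170496, nat_lit 161408, nat_lit 156096, nat_lit 152576, nat_lit 149168, nat_lit 146616, nat_lit 139524, nat_lit 137784, nat_lit 131845, nat_lit 2412, nat_lit 4540, nat_lit 11088, nat_lit 12608, nat_lit 16576, nat_lit 21056, nat_lit 28544, nat_lit 31488, nat_lit 34816, nat_lit 45065, nat_lit 41696, nat_lit 38227, nat_lit 32932, nat_lit 28692, nat_lit 25619, nat_lit 20504, nat_lit 16388, nat_lit 12294, nat_lit 4097, nat_lit 425989, nat_lit 409600, nat_lit 151808, nat_lit 147744, nat_lit 131088, nat_lit 40976, nat_lit 28688, nat_lit 12289, nat_lit 8193, nat_lit 4097]⟩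
def ndMr4_1 : El := ⟨[nat_lit 0xb482187168a84e23148205b0d57a496b9da8, nat_lit 0x93c6a3218e584653bda955212b6bd8e18041], [nat_lit 77824, nat_lit 81920, nat_lit 90112, nat_lit 98304, nat_lit 102400, nat_lit 106496, nat_lit 178176, nat_lit 171008, nat_lit 164352, nat_lit 161536, nat_lit 156864, nat_lit 154240, nat_lit 149488, nat_lit 146896, nat_lit 141756, nat_lit 139106, nat_lit 134813, nat_lit 3262, nat_lit 5488, nat_lit 8424, nat_lit 14832, nat_lit 16960, nat_lit 20736, nat_lit 27136, nat_lit 31488, nat_lit 34304, nat_lit 38912, nat_lit 45385, nat_lit 41820, nat_lit 38052, nat_lit 32995, nat_lit 28941, nat_lit 24743, nat_lit 20488, nat_lit 16907, nat_lit 12321, nat_lit 8320, nat_lit 425989, nat_lit 409600, nat_lit 151808, nat_lit 147744, nat_lit 131088, nat_lit 40976, nat_lit 28688, nat_lit 12289, nat_lit 8193, nat_lit 4097]⟩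
def ndMr4_2 : El := ⟨[nat_lit 0xd182bd080448b68b925f6455d038ca69b2ea, nat_lit 0xff666c84653ada977b98d29cc4080625a548], [nat_lit 65536, nat_lit 69632, nat_lit 81920, nat_lit 86016, nat_lit 90112, nat_lit 102400, nat_lit 110592, nat_lit 168448, nat_lit 165888, nat_lit 160384, nat_lit 158208, nat_lit 151776, nat_lit 148832, nat_lit 144528, nat_lit 142192, nat_lit 138224, nat_lit 132286, nat_lit 2852, nat_lit 7556, nat_lit 11952, nat_lit 15424, nat_lit 19136, nat_lit 23680, nat_lit 26624, nat_lit 31232, nat_lit 33792, nat_lit 38912, nat_lit 45063, nat_lit 41294, nat_lit 37253, nat_lit 33285, nat_lit 29026, nat_lit 24705, nat_lit 20544, nat_lit 16391, nat_lit 13313, nat_lit 8200, nat_lit 4097, nat_lit 425989, nat_lit 409600, nat_lit 151808, nat_lit 147744, nat_lit 131088, nat_lit 40976, nat_lit 28688, nat_lit 12289, nat_lit 8193, nat_lit 4097, nat_lit 327680]⟩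
def ndMr4_3 : El := ⟨[nat_lit 0xd127743d664515c2bb1f1441769028169923, nat_lit 0xfa9af521ca64a90b008617b9acbdab49c251], [nat_lit 65536, nat_lit 69632, nat_lit 86016, nat_lit 98304, nat_lit 102400, nat_lit 110592, nat_lit 178176, nat_lit 173056, nat_lit 169984, nat_lit 164352, nat_lit 161024, nat_lit 158528, nat_lit 155296, nat_lit 151472, nat_lit 144376, nat_lit 142416, nat_lit 135838, nat_lit 132055, nat_lit 786, nat_lit 6848, nat_lit 12080, nat_lit 13648, nat_lit 19232, nat_lit 22400, nat_lit 26880, nat_lit 29696, nat_lit 34816, nat_lit 37888, nat_lit 45073, nat_lit 41825, nat_lit 38187, nat_lit 32966, nat_lit 28717, nat_lit 20627, nat_lit 16391, nat_lit 12322, nat_lit 8200, nat_lit 4112, nat_lit 2, nat_lit 425989, nat_lit 409600, nat_lit 151808, nat_lit 147744, nat_lit 131088, nat_lit 40976, nat_lit 28688, nat_lit 12289, nat_lit 8193, nat_lit 4097, nat_lit 327680]⟩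
def ndMr4_4 : El := ⟨[nat_lit 0xff0f0f6b2b6018655aa50bbe8e390419c509, nat_lit 0xf59afa9ac89748ef689561a2eca54b101a01, nat_lit 0x87d7bd425eca0ec099cd0154376b96a89245], [nat_lit 65536, nat_lit 69632, nat_lit 73728, nat_lit 81920, nat_lit 90112, nat_lit 94208, nat_lit 102400, nat_lit 110592, nat_lit 169472, nat_lit 165376, nat_lit 160256, nat_lit 156544, nat_lit 152160, nat_lit 150416, nat_lit 143632, nat_lit 139292, nat_lit 136198, nat_lit 132134, nat_lit 1860, nat_lit 5428, nat_lit 9568, nat_lit 14048, nat_lit 19904, nat_lit 23808, nat_lit 26880, nat_lit 28928, nat_lit 34816, nat_lit 38912, nat_lit 46755, nat_lit 43932, nat_lit 39363, nat_lit 32932, nat_lit 28936, nat_lit 24639, nat_lit 20556, nat_lit 16419, nat_lit 12293, nat_lit 8201, nat_lit 430088, nat_lit 421893, nat_lit 409602, nat_lit 397312, nat_lit 160512, nat_lit 151936, nat_lit 147968, nat_lit 140080, nat_lit 135972, nat_lit 131074, nat_lit 45061, nat_lit 41494, nat_lit 12290, nat_lit 327680]⟩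
def ndMr4_5 : El := ⟨[nat_lit 0x188eb77b5cc218a700861b5eb49ca1142d2a, nat_lit 0xa0c664296900c41bdab48ca70735ec214c7], [nat_lit 65536, nat_lit 69632, nat_lit 73728, nat_lit 77824, nat_lit 98304, nat_lit 178176, nat_lit 169472, nat_lit 166144, nat_lit 162944, nat_lit 155840, nat_lit 153312, nat_lit 149568, nat_lit 144936, nat_lit 141988, nat_lit 136828, nat_lit 133901, nat_lit 1530, nat_lit 4644, nat_lit 10160, nat_lit 15792, nat_lit 17728, nat_lit 21632, nat_lit 27136, nat_lit 30208, nat_lit 35840, nat_lit 37888, nat_lit 45125, nat_lit 41707, nat_lit 37243, nat_lit 32890, nat_lit 29799, nat_lit 24610, nat_lit 20545, nat_lit 16655, nat_lit 12417, nat_lit 8201, nat_lit 4129, nat_lit 8, nat_lit 425989, nat_lit 409600, nat_lit 151808, nat_lit 147744, nat_lit 131088, nat_lit 40976, nat_lit 28688, nat_lit 12289, nat_lit 8193, nat_lit 4097]⟩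
def ndMr4_6 : El := ⟨[nat_lit 0x88d8bd51c1328608148c9adaed8ac64651ee, nat_lit 0x7728b26c9cf2dd2158cd545004b28478b270, nat_lit 0x8de781315695208705a820d6e37422f94dac], [nat_lit 77824, nat_lit 102400, nat_lit 175104, nat_lit 171520, nat_lit 162304, nat_lit 156608, nat_lit 155200, nat_lit 150960, nat_lit 143808, nat_lit 140132, nat_lit 138890, nat_lit 133648, nat_lit 3280, nat_lit 4156, nat_lit 8736, nat_lit 14752, nat_lit 20096, nat_lit 23104, nat_lit 25216, nat_lit 34816, nat_lit 43008, nat_lit 46656, nat_lit 43930, nat_lit 36926, nat_lit 33022, nat_lit 29018, nat_lit 24858, nat_lit 20548, nat_lit 16653, nat_lit 12291, nat_lit 8195, nat_lit 4097, nat_lit 2, nat_lit 425988, nat_lit 405506, nat_lit 397312, nat_lit 143376, nat_lit 139288, nat_lit 131342, nat_lit 45071, nat_lit 40981, nat_lit 36870, nat_lit 28694, nat_lit 24581, nat_lit 20510]⟩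
def ndMr4_7 : El := ⟨[nat_lit 0xb4d82e731ed394c4b5eb4008615a5488ce50, nat_lit 0x3acf38c25318820a5ed529c865a12a7b58e], [nat_lit 69632, nat_lit 73728, nat_lit 77824, nat_lit 81920, nat_lit 86016, nat_lit 90112, nat_lit 102400, nat_lit 106496, nat_lit 110592, nat_lit 173056, nat_lit 169472, nat_lit 166912, nat_lit 163584, nat_lit 157760, nat_lit 154848, nat_lit 148688, nat_lit 146800, nat_lit 140084, nat_lit 137880, nat_lit 134011, nat_lit 460, nat_lit 4756, nat_lit 11088, nat_lit 13712, nat_lit 19936, nat_lit 22592, nat_lit 25728, nat_lit 30464, nat_lit 35328, nat_lit 38912, nat_lit 43008, nat_lit 45063, nat_lit 41266, nat_lit 37312, nat_lit 33380, nat_lit 29032, nat_lit 24716, nat_lit 20766, nat_lit 16393, nat_lit 12291, nat_lit 8193, nat_lit 4104, nat_lit 425989, nat_lit 409600, nat_lit 151808, nat_lit 147744, nat_lit 131088, nat_lit 40976, nat_lit 28688, nat_lit 12289, nat_lit 8193, nat_lit 4097, nat_lit 327680]⟩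
def ndMr4_8 : El := ⟨[nat_lit 0x8eee441cc51aaae9234ac452cb33cee08212, nat_lit 0xa30c38465373daca5eb618801310e54ad0a], [nat_lit 65536, nat_lit 73728, nat_lit 77824, nat_lit 94208, nat_lit 98304, nat_lit 106496, nat_lit 110592, nat_lit 178176, nat_lit 170496, nat_lit 166656, nat_lit 162816, nat_lit 157632, nat_lit 154272, nat_lit 150624, nat_lit 144456, nat_lit 140280, nat_lit 138422, nat_lit 131485, nat_lit 404, nat_lit 7160, nat_lit 11016, nat_lit 16272, nat_lit 16928, nat_lit 22784, nat_lit 26112, nat_lit 32256, nat_lit 36352, nat_lit 45095, nat_lit 41688, nat_lit 37271, nat_lit 33020, nat_lit 28755, nat_lit 24590, nat_lit 20505, nat_lit 16416, nat_lit 12307, nat_lit 8195, nat_lit 425989, nat_lit 409600, nat_lit 151808, nat_lit 147744, nat_lit 131088, nat_lit 40976, nat_lit 28688, nat_lit 12289, nat_lit 8193, nat_lit 4097, nat_lit 327680]⟩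
def ndMr4_9 : El := ⟨[nat_lit 0xf69c30bc9a8290c34b2909aece004477aa35, nat_lit 0x6c50c07190f1361791553484833d9740562c, nat_lit 0x9336acab2cf90a23752ed520a704e0132d24], [nat_lit 86016, nat_lit 90112, nat_lit 94208, nat_lit 102400, nat_lit 106496, nat_lit 110592, nat_lit 173056, nat_lit 171520, nat_lit 165888, nat_lit 161280, nat_lit 156160, nat_lit 152640, nat_lit 149248, nat_lit 145848, nat_lit 141808, nat_lit 136298, nat_lit 3856, nat_lit 7808, nat_lit 9384, nat_lit 15440, nat_lit 18912, nat_lit 24256, nat_lit 26880, nat_lit 31232, nat_lit 35840, nat_lit 37888, nat_lit 43008, nat_lit 46792, nat_lit 41232, nat_lit 39032, nat_lit 32950, nat_lit 28742, nat_lit 24606, nat_lit 20744, nat_lit 16392, nat_lit 12308, nat_lit 8200, nat_lit 4129, nat_lit 425991, nat_lit 417797, nat_lit 409603, nat_lit 397312, nat_lit 160000, nat_lit 155776, nat_lit 152000, nat_lit 147520, nat_lit 135192, nat_lit 131074, nat_lit 45065, nat_lit 41152, nat_lit 37008, nat_lit 8194]⟩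
def ndMr4_10 : El := ⟨[nat_lit 0x828eed416849bc67ba420b358b942aa33851, nat_lit 0xf35cf36ced58a189248af0acd401eea70870, nat_lit 0x2db8d280a41046636d1f5b32ee424a659c8a], [nat_lit 77824, nat_lit 86016, nat_lit 106496, nat_lit 110592, nat_lit 168448, nat_lit 166656, nat_lit 160896, nat_lit 155968, nat_lit 151712, nat_lit 149344, nat_lit 145992, nat_lit 143016, nat_lit 138228, nat_lit 133344, nat_lit 2952, nat_lit 7272, nat_lit 10168, nat_lit 12304, nat_lit 19392, nat_lit 22784, nat_lit 27008, nat_lit 31744, nat_lit 36352, nat_lit 37888, nat_lit 45712, nat_lit 41372, nat_lit 39004, nat_lit 33971, nat_lit 29228, nat_lit 24718, nat_lit 20498, nat_lit 16417, nat_lit 12354, nat_lit 8194, nat_lit 4101, nat_lit 2, nat_lit 425990, nat_lit 413700, nat_lit 405506, nat_lit 397312, nat_lit 151872, nat_lit 147808, nat_lit 143680, nat_lit 139576, nat_lit 135424, nat_lit 131432, nat_lit 45071, nat_lit 40988, nat_lit 28697]⟩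
def ndMr4_11 : El := ⟨[nat_lit 0xb4b14d332f6aaa2124db079c02438a91ca8b, nat_lit 0x448d18ba24e844a009ab4489441bd879b6cb, nat_lit 0x72188115de8952c52446071a0d0b2a95ccea, nat_lit 0x5a6f9fa99871d02f12625b4e4e8100abb50b], [nat_lit 65536, nat_lit 73728, nat_lit 90112, nat_lit 94208, nat_lit 102400, nat_lit 110592, nat_lit 178176, nat_lit 174080, nat_lit 171520, nat_lit 167424, nat_lit 162432, nat_lit 158848, nat_lit 155328, nat_lit 150448, nat_lit 143368, nat_lit 139268, nat_lit 137712, nat_lit 131073, nat_lit 1354, nat_lit 4204, nat_lit 12024, nat_lit 15776, nat_lit 16448, nat_lit 22400, nat_lit 26880, nat_lit 28928, nat_lit 33280, nat_lit 37888, nat_lit 46587, nat_lit 41378, nat_lit 37104, nat_lit 33857, nat_lit 28736, nat_lit 24612, nat_lit 20546, nat_lit 16385, nat_lit 14336, nat_lit 8227, nat_lit 4097, nat_lit 2, nat_lit 438282, nat_lit 430088, nat_lit 421894, nat_lit 413700, nat_lit 405506, nat_lit 397312, nat_lit 174080, nat_lit 168960, nat_lit 166912, nat_lit 162560, nat_lit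 157696, nat_lit 153024, nat_lit 148832, nat_lit 146416, nat_lit 139296, nat_lit 138484, nat_lit 133566]⟩
def ndMr4_12 : El := ⟨[nat_lit 0x333336031e3aad5745a893961121a5373422, nat_lit 0x9af0aa14ed154187a90c01d168748a90bdb7, nat_lit 0xee2e227ad4c05ea389a474b5c80d2c22c093], [nat_lit 90112, nat_lit 173056, nat_lit 169472, nat_lit 166144, nat_lit 160384, nat_lit 157056, nat_lit 154048, nat_lit 149952, nat_lit 147080, nat_lit 141628, nat_lit 137126, nat_lit 131274, nat_lit 1734, nat_lit 5688, nat_lit 9064, nat_lit 15776, nat_lit 18432, nat_lit 22528, nat_lit 25088, nat_lit 30720, nat_lit 35840, nat_lit 39936, nat_lit 46800, nat_lit 43712, nat_lit 39408, nat_lit 33520, nat_lit 29017, nat_lit 24891, nat_lit 20562, nat_lit 16429, nat_lit 12322, nat_lit 8209, nat_lit 4097, nat_lit 425990, nat_lit 413700, nat_lit 405506, nat_lit 397312, nat_lit 155904, nat_lit 151808, nat_lit 147744, nat_lit 143408, nat_lit 139600, nat_lit 135200, nat_lit 131408, nat_lit 45071, nat_lit 41045, nat_lit 36879,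 nat_lit 28762, nat_lit 327680]⟩
def ndMr4_13 : El := ⟨[nat_lit 0xfca3fc808710825353d6db9ac573128a90f4, nat_lit 0xcfac6f71ed2789aa41025ba4148ae0334eac, nat_lit 0x6a556c3c1112a6960b25573c8a580c298eed, nat_lit 0xe1b8b10c6049512e5a0a39aaad7984cb80f6], [nat_lit 69632, nat_lit 73728, nat_lit 77824, nat_lit 86016, nat_lit 94208, nat_lit 98304, nat_lit 102400, nat_lit 106496, nat_lit 110592, nat_lit 175104, nat_lit 168960, nat_lit 166144, nat_lit 160000, nat_lit 158080, nat_lit 153120, nat_lit 147744, nat_lit 143680, nat_lit 142844, nat_lit 139210, nat_lit 131666, nat_lit 1186, nat_lit 5584, nat_lit 8232, nat_lit 15312, nat_lit 17568, nat_lit 24384, nat_lit 25728, nat_lit 34816, nat_lit 37888, nat_lit 46100, nat_lit 41600, nat_lit 37056, nat_lit 32844, nat_lit 29184, nat_lit 24750, nat_lit 20546, nat_lit 18440, nat_lit 12292, nat_lit 8202, nat_lit 4101, nat_lit 438282, nat_lit 430088, nat_lit 421894, nat_lit 413700, nat_lit 405506, nat_lit 397312, nat_lit 169984, nat_lit 165888, nat_lit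 160256, nat_lit 156416, nat_lit 155072, nat_lit 151456, nat_lit 147360, nat_lit 140696, nat_lit 138596, nat_lit 133568]⟩
def ndMr4_14 : El := ⟨[nat_lit 0x44be4db8ed103a6c5d5a44c82879d5429850, nat_lit 0x824db7a35612a550b1ab37dc68931c720a20, nat_lit 0x7188286bca610251b5d4ba22a90c263638e4], [nat_lit 65536, nat_lit 81920, nat_lit 86016, nat_lit 90112, nat_lit 94208, nat_lit 106496, nat_lit 110592, nat_lit 178176, nat_lit 173056, nat_lit 169984, nat_lit 166656, nat_lit 160512, nat_lit 157376, nat_lit 154016, nat_lit 149216, nat_lit 147248, nat_lit 141600, nat_lit 135840, nat_lit 132973, nat_lit 1990, nat_lit 4120, nat_lit 9840, nat_lit 14752, nat_lit 17184, nat_lit 21056, nat_lit 27392, nat_lit 31744, nat_lit 33792, nat_lit 38912, nat_lit 43008, nat_lit 46149, nat_lit 41626, nat_lit 37195, nat_lit 33428, nat_lit 28966, nat_lit 24636, nat_lit 20490, nat_lit 16452, nat_lit 12291, nat_lit 8257, nat_lit 4097, nat_lit 425991, nat_lit 417797, nat_lit 409602, nat_lit 397312, nat_lit 160000,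 nat_lit 155776, nat_lit 151808, nat_lit 147680, nat_lit 139648, nat_lit 135264, nat_lit 131572, nat_lit 45059, nat_lit 41088, nat_lit 36931, nat_lit 12292, nat_lit 327680]⟩
def ndMr4_15 : El := ⟨[nat_lit 0x3c66ffa31e28b507bc073b2d41748c9016a4, nat_lit 0xe8bded0c244726913894b9a2ef680ac356c3, nat_lit 0xaa060c71e837c12d21a4a0450128996bcd75, nat_lit 0x500a654b00d2d1d11188884d433caafbac36], [nat_lit 73728, nat_lit 81920, nat_lit 94208, nat_lit 98304, nat_lit 178176, nat_lit 173056, nat_lit 164864, nat_lit 162688, nat_lit 152736, nat_lit 149088, nat_lit 143680, nat_lit 141036, nat_lit 138298, nat_lit 134645, nat_lit 696, nat_lit 4232, nat_lit 8224, nat_lit 13232, nat_lit 18560, nat_lit 21440, nat_lit 26880, nat_lit 29952, nat_lit 34304, nat_lit 37888, nat_lit 46767, nat_lit 43985, nat_lit 39163, nat_lit 32840, nat_lit 28742, nat_lit 24747, nat_lit 20566, nat_lit 16392, nat_lit 12311, nat_lit 438282, nat_lit 430088, nat_lit 421894, nat_lit 413700, nat_lit 405506, nat_lit 397312, nat_lit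 174080, nat_lit 169984, nat_lit 164864, nat_lit 163328, nat_lit 159488, nat_lit 153088, nat_lit 151520, nat_lit 145104, nat_lit 142272, nat_lit 138088, nat_lit 131334, nat_lit 327680]⟩
def ndMr4_16 : El := ⟨[nat_lit 0x1228175b27652006752093bda328ab790624, nat_lit 0x2d7b886d272032c288505525d558c9079ae7, nat_lit 0x5655005c64ab5c020d4746b8a484d2863cc7], [nat_lit 73728, nat_lit 77824, nat_lit 86016, nat_lit 110592, nat_lit 174080, nat_lit 168448, nat_lit 164352, nat_lit 160640, nat_lit 157184, nat_lit 151712, nat_lit 148288, nat_lit 144144, nat_lit 141108, nat_lit 135518, nat_lit 132264, nat_lit 2124, nat_lit 6200, nat_lit 12040, nat_lit 15408, nat_lit 18144, nat_lit 21824, nat_lit 25472, nat_lit 30464, nat_lit 35328, nat_lit 39936, nat_lit 43008, nat_lit 46243, nat_lit 41472, nat_lit 37247, nat_lit 33398, nat_lit 28730, nat_lit 24607, nat_lit 20622, nat_lit 16397, nat_lit 12291, nat_lit 8209, nat_lit 425990, nat_lit 413700, nat_lit 405506, nat_lit 397312, nat_lit 151872, nat_lit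 147744, nat_lit 143696, nat_lit 139288, nat_lit 135516, nat_lit 131140, nat_lit 45071, nat_lit 41050, nat_lit 36943, nat_lit 28703, nat_lit 327680]⟩
def ndMg5_0 : El := ⟨[nat_lit 0xdd1d1431d12209f56a5d1b5d509846ba30a0, nat_lit 0xe8172b2ae74322f054ac7a91311840c13dae, nat_lit 0x78bede45c8658456934657b15499dc08d609], [nat_lit 77824, nat_lit 86016, nat_lit 98304, nat_lit 102400, nat_lit 178176, nat_lit 173056, nat_lit 170496, nat_lit 165632, nat_lit 160640, nat_lit 156864, nat_lit 155552, nat_lit 149424, nat_lit 146392, nat_lit 139728, nat_lit 137250, nat_lit 133600, nat_lit 3916, nat_lit 4528, nat_lit 8800, nat_lit 14352, nat_lit 20384, nat_lit 24448, nat_lit 25088, nat_lit 32512, nat_lit 34304, nat_lit 38912, nat_lit 43008, nat_lit 46786, nat_lit 43958, nat_lit 39156, nat_lit 33022, nat_lit 28733, nat_lit 24622, nat_lit 20570, nat_lit 16420, nat_lit 12295, nat_lit 8195, nat_lit 4101, nat_lit 417796, nat_lit 405506, nat_lit 397312, nat_lit 143440, nat_lit 139344, nat_lit 135260,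 nat_lit 131166, nat_lit 45072, nat_lit 40976, nat_lit 32798, nat_lit 28739, nat_lit 20496, nat_lit 327680]⟩
def ndMg5_1 : El := ⟨[nat_lit 0x63c9a33d8cc9caae525b48156141071782e2], [nat_lit 69632, nat_lit 73728, nat_lit 77824, nat_lit 86016, nat_lit 98304, nat_lit 102400, nat_lit 178176, nat_lit 174080, nat_lit 171520, nat_lit 166912, nat_lit 163072, nat_lit 158976, nat_lit 151936, nat_lit 149664, nat_lit 143912, nat_lit 141528, nat_lit 138534, nat_lit 132750, nat_lit 1136, nat_lit 6456, nat_lit 11376, nat_lit 14176, nat_lit 18016, nat_lit 23872, nat_lit 25472, nat_lit 31744, nat_lit 33792, nat_lit 43008, nat_lit 41776, nat_lit 37195, nat_lit 33457, nat_lit 29010, nat_lit 24580, nat_lit 20638, nat_lit 16422, nat_lit 8227, nat_lit 4129, nat_lit 2]⟩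
def ndMg5_2 : El := ⟨[nat_lit 0xd2b7228cab471caf219ac48048b4ef01ad41], [nat_lit 77824, nat_lit 81920, nat_lit 90112, nat_lit 169472, nat_lit 167424, nat_lit 161280, nat_lit 156032, nat_lit 153376, nat_lit 148048, nat_lit 144672, nat_lit 139912, nat_lit 135274, nat_lit 133096, nat_lit 1180, nat_lit 7044, nat_lit 10320, nat_lit 13264, nat_lit 17280, nat_lit 22592, nat_lit 26112, nat_lit 36352, nat_lit 39936, nat_lit 43008, nat_lit 41296, nat_lit 37079, nat_lit 32855, nat_lit 28718, nat_lit 24888, nat_lit 20503, nat_lit 16391, nat_lit 12295, nat_lit 8202, nat_lit 4105]⟩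
def ndMg5_3 : El := ⟨[nat_lit 0x8242479be11b80ca59c34192c9454456b1d2, nat_lit 0xc630a0222d548c45b824c84d67a3c316a9c6, nat_lit 0x5a9f90accaa81ac9208ee0d1f7602511ad0d, nat_lit 0xcc99f02d1674045588ccdb4e4abbd89011d0], [nat_lit 65536, nat_lit 69632, nat_lit 73728, nat_lit 81920, nat_lit 86016, nat_lit 90112, nat_lit 94208, nat_lit 98304, nat_lit 102400, nat_lit 106496, nat_lit 178176, nat_lit 174080, nat_lit 165632, nat_lit 162432, nat_lit 156928, nat_lit 152992, nat_lit 149984, nat_lit 145848, nat_lit 141832, nat_lit 138922, nat_lit 132484, nat_lit 3734, nat_lit 4716, nat_lit 8320, nat_lit 16304, nat_lit 17600, nat_lit 21696, nat_lit 27648, nat_lit 29696, nat_lit 36352, nat_lit 37888, nat_lit 46007, nat_lit 41178, nat_lit 39067, nat_lit 32882, nat_lit 28678, nat_lit 24580, nat_lit 20762, nat_lit 16396, nat_lit 12294, nat_lit 4097, nat_lit 2, nat_lit 434185, nat_lit 421894, nat_lit 413700, nat_lit 405506, nat_lit 397312, nat_lit 161280, nat_lit 155776, nat_lit 152256, nat_lit 149216,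 nat_lit 145088, nat_lit 135712, nat_lit 132830, nat_lit 45267, nat_lit 32798, nat_lit 327680]⟩
def ndMg5_4 : El := ⟨[nat_lit 0xa60036bd511549ed1d18513ac7810c908173, nat_lit 0xc6f3fa8c19311eca45080a99630a6e57364f, nat_lit 0x900cc358e41696c223ae0625f03cd06a46aa], [nat_lit 73728, nat_lit 77824, nat_lit 90112, nat_lit 94208, nat_lit 106496, nat_lit 168448, nat_lit 164096, nat_lit 159872, nat_lit 155968, nat_lit 153120, nat_lit 151216, nat_lit 143408, nat_lit 139540, nat_lit 135266, nat_lit 131681, nat_lit 850, nat_lit 5112, nat_lit 11720, nat_lit 13408, nat_lit 20032, nat_lit 21568, nat_lit 25600, nat_lit 29440, nat_lit 36352, nat_lit 38912, nat_lit 45089, nat_lit 41811, nat_lit 37914, nat_lit 32783, nat_lit 28776, nat_lit 24584, nat_lit 20483, nat_lit 17408, nat_lit 12353, nat_lit 8193, nat_lit 434181, nat_lit 409602, nat_lit 397312, nat_lit 152576, nat_lit 148480, nat_lit 135216, nat_lit 131126, nat_lit 45090, nat_lit 36866, nat_lit 32788, nat_lit 28689, nat_lit 24608, nat_lit 12290]⟩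
def ndMr5_0 : El := ⟨[nat_lit 0xd1eb21929e36d0ac3ceb04c40e4588b11837, nat_lit 0xf6c909a56d75212b21cc58ca137b1ae18820], [nat_lit 86016, nat_lit 90112, nat_lit 94208, nat_lit 178176, nat_lit 173056, nat_lit 169472, nat_lit 166400, nat_lit 161024, nat_lit 157312, nat_lit 153184, nat_lit 150304, nat_lit 143432, nat_lit 140372, nat_lit 137870, nat_lit 132189, nat_lit 1124, nat_lit 5120, nat_lit 11264, nat_lit 14016, nat_lit 20256, nat_lit 23296, nat_lit 24832, nat_lit 29696, nat_lit 34304, nat_lit 45111, nat_lit 41387, nat_lit 37105, nat_lit 33814, nat_lit 29009, nat_lit 24613, nat_lit 20505, nat_lit 16426, nat_lit 12324, nat_lit 8194, nat_lit 4100, nat_lit 8, nat_lit 425989, nat_lit 409600, nat_lit 151808, nat_lit 147744, nat_lit 131088, nat_lit 40976, nat_lit 28688, nat_lit 12289, nat_lit 8193, nat_lit 4097]⟩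
def ndMr5_1 : El := ⟨[nat_lit 0x7d71ed14dd15de04b2645a32a1501a83bcc3, nat_lit 0xed7dd19d5e08059695c4e3156788e8d51128, nat_lit 0x2274882bad0a1a4d024233ddf38d5844094b], [nat_lit 77824, nat_lit 81920, nat_lit 90112, nat_lit 94208, nat_lit 106496, nat_lit 110592, nat_lit 171520, nat_lit 165632, nat_lit 162688, nat_lit 157824, nat_lit 152640, nat_lit 147888, nat_lit 146816, nat_lit 141700, nat_lit 137240, nat_lit 134631, nat_lit 1802, nat_lit 7624, nat_lit 9952, nat_lit 12512, nat_lit 19328, nat_lit 21824, nat_lit 24832, nat_lit 43008, nat_lit 46586, nat_lit 43372, nat_lit 37155, nat_lit 33516, nat_lit 29052, nat_lit 24880, nat_lit 20568, nat_lit 16449, nat_lit 8211, nat_lit 4112, nat_lit 430086, nat_lit 413700, nat_lit 405504, nat_lit 156160, nat_lit 147552, nat_lit 143904, nat_lit 131640, nat_lit 45065, nat_lit 41561, nat_lit 32825, nat_lit 28752, nat_lit 8193, nat_lit 4097]⟩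
def ndMr5_2 : El := ⟨[nat_lit 0xb1b22b404439bae53c2cf355b15240b25192, nat_lit 0x6fcf9954ac1aa262bd08d845e538d8072cc9, nat_lit 0x8b84be23cce615a702d42852b340c29946d7], [nat_lit 69632, nat_lit 73728, nat_lit 86016, nat_lit 171520, nat_lit 163712, nat_lit 159296, nat_lit 155264, nat_lit 149952, nat_lit 145776, nat_lit 143012, nat_lit 138104, nat_lit 134669, nat_lit 8, nat_lit 5440, nat_lit 11192, nat_lit 14816, nat_lit 20160, nat_lit 21568, nat_lit 28288, nat_lit 30464, nat_lit 36352, nat_lit 39936, nat_lit 45326, nat_lit 41789, nat_lit 38037, nat_lit 33507, nat_lit 29249, nat_lit 24592, nat_lit 20634, nat_lit 16424, nat_lit 12308, nat_lit 8194, nat_lit 4101, nat_lit 425991, nat_lit 413700, nat_lit 405506, nat_lit 397312, nat_lit 160000, nat_lit 151936, nat_lit 147584, nat_lit 143648, nat_lit 139392, nat_lit 135320, nat_lit 131362, nat_lit 45071, nat_lit 41088, nat_lit 37017]⟩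
def ndMr5_3 : El := ⟨[nat_lit 0x1e841499e1550df2a158d30837b11684b811, nat_lit 0x5ccf059c232a56f631ca4639ed188014a16a], [nat_lit 69632, nat_lit 73728, nat_lit 77824, nat_lit 86016, nat_lit 90112, nat_lit 106496, nat_lit 110592, nat_lit 178176, nat_lit 173056, nat_lit 171520, nat_lit 164864, nat_lit 163584, nat_lit 158592, nat_lit 152576, nat_lit 150768, nat_lit 145144, nat_lit 140948, nat_lit 135420, nat_lit 132618, nat_lit 1396, nat_lit 6400, nat_lit 10496, nat_lit 16336, nat_lit 19904, nat_lit 21120, nat_lit 25600, nat_lit 32512, nat_lit 35840, nat_lit 37888, nat_lit 43008, nat_lit 45319, nat_lit 41409, nat_lit 36908, nat_lit 32868, nat_lit 29812, nat_lit 24856, nat_lit 20565, nat_lit 12320, nat_lit 8193, nat_lit 4097, nat_lit 425989, nat_lit 409600, nat_lit 151808, nat_lit 147744, nat_lit 131088, nat_lit 40976, nat_lit 28688, nat_lit 12289, nat_lit 8193, nat_lit 4097]⟩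
def ndMr5_4 : El := ⟨[nat_lit 0x5395c39de4372606401542c5eb3d8826b2a1, nat_lit 0x539a3349060989d4baac66bcab820f265431, nat_lit 0x41b2db720b02266db284bbc41231ea30bd94, nat_lit 0x8412d2559ed6448059ae5aa4619d11011dd2], [nat_lit 65536, nat_lit 69632, nat_lit 102400, nat_lit 110592, nat_lit 175104, nat_lit 169984, nat_lit 165632, nat_lit 163584, nat_lit 156352, nat_lit 151776, nat_lit 148064, nat_lit 144928, nat_lit 139908, nat_lit 135202, nat_lit 133286, nat_lit 3768, nat_lit 7212, nat_lit 11456, nat_lit 12384, nat_lit 18176, nat_lit 21248, nat_lit 28544, nat_lit 31488, nat_lit 35840, nat_lit 38912, nat_lit 46540, nat_lit 41547, nat_lit 38142, nat_lit 34865, nat_lit 28746, nat_lit 24729, nat_lit 20750, nat_lit 16420, nat_lit 12420, nat_lit 8203, nat_lit 4, nat_lit 434184, nat_lit 421894, nat_lit 413700, nat_lit 405506, nat_lit 397312, nat_lit 160768, nat_lit 156800, nat_lit 152832, nat_lit 147776, nat_lit 144832, nat_lit 140480, nat_lit 135552, nat_lit 131076, nat_lit 46165, nat_lit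 37014]⟩
def ndMr5_5 : El := ⟨[nat_lit 0x59550f39a439a1616b202496cf8dc15a29c4, nat_lit 0x655a6c402f6505cf6489533691824533946b, nat_lit 0x953cf07298bb5c877b5288803010e53350b5], [nat_lit 69632, nat_lit 86016, nat_lit 90112, nat_lit 98304, nat_lit 173056, nat_lit 169984, nat_lit 166656, nat_lit 162688, nat_lit 159488, nat_lit 153760, nat_lit 149872, nat_lit 144424, nat_lit 142660, nat_lit 137254, nat_lit 133703, nat_lit 3818, nat_lit 5080, nat_lit 11048, nat_lit 17536, nat_lit 21376, nat_lit 26112, nat_lit 30464, nat_lit 36352, nat_lit 38912, nat_lit 46850, nat_lit 43478, nat_lit 37889, nat_lit 32843, nat_lit 29294, nat_lit 24618, nat_lit 20499, nat_lit 16386, nat_lit 12294, nat_lit 8202, nat_lit 4105, nat_lit 434184, nat_lit 417797, nat_lit 409603, nat_lit 397312, nat_lit 156928, nat_lit 151872, nat_lit 147808, nat_lit 143392, nat_lit 135216, nat_lit 45066, nat_lit 36938, nat_lit 28698, nat_lit 8193, nat_lit 327680]⟩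
def ndMr5_6 : El := ⟨[nat_lit 0x5f9c09a40a46c5f7986c21992c71c0baa152, nat_lit 0x5ac5a678ce18b64440a16515cb026f3ad0cc, nat_lit 0xac03a061ccd006712bc8e5d6e884862a26ca], [nat_lit 86016, nat_lit 94208, nat_lit 106496, nat_lit 178176, nat_lit 169472, nat_lit 166912, nat_lit 161792, nat_lit 159360, nat_lit 153792, nat_lit 148976, nat_lit 145712, nat_lit 141552, nat_lit 135424, nat_lit 134649, nat_lit 206, nat_lit 5856, nat_lit 11840, nat_lit 15680, nat_lit 18912, nat_lit 20736, nat_lit 25728, nat_lit 29952, nat_lit 35840, nat_lit 39936, nat_lit 45256, nat_lit 41539, nat_lit 38251, nat_lit 32774, nat_lit 30816, nat_lit 25603, nat_lit 20632, nat_lit 16392, nat_lit 12304, nat_lit 8451, nat_lit 4353, nat_lit 434184, nat_lit 417797, nat_lit 409602, nat_lit 397312, nat_lit 151808, nat_lit 147808, nat_lit 140608, nat_lit 136500, nat_lit 131106, nat_lit 45061, nat_lit 36928, nat_lit 28693, nat_lit 12290, nat_lit 327680]⟩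
def ndMr5_7 : El := ⟨[nat_lit 0x42774b324a0a2c560bd4c1c513b9e0d712b2, nat_lit 0x2db82d8ce50ada970804321ca65a50a7b98d], [nat_lit 69632, nat_lit 73728, nat_lit 81920, nat_lit 90112, nat_lit 94208, nat_lit 98304, nat_lit 102400, nat_lit 178176, nat_lit 174080, nat_lit 169984, nat_lit 166144, nat_lit 163456, nat_lit 159296, nat_lit 155232, nat_lit 147536, nat_lit 145256, nat_lit 142988, nat_lit 135884, nat_lit 133355, nat_lit 3808, nat_lit 5992, nat_lit 9904, nat_lit 14816, nat_lit 18912, nat_lit 21888, nat_lit 25856, nat_lit 29696, nat_lit 36352, nat_lit 43008, nat_lit 45823, nat_lit 41216, nat_lit 39039, nat_lit 33853, nat_lit 29288, nat_lit 24758, nat_lit 20632, nat_lit 16389, nat_lit 12359, nat_lit 8210, nat_lit 4, nat_lit 425989, nat_lit 409600, nat_lit 131360, nat_lit 40976, nat_lit 28688, nat_lit 12289, nat_lit 8193, nat_lit 4097]⟩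
def ndMr5_8 : El := ⟨[nat_lit 0x44282e9890c585b023acf38ea08cae62a934, nat_lit 0x4721149560d44cc0151e16594b48e25b9c8e, nat_lit 0x281e8294d97a85a37128502e0741a22b292f, nat_lit 0x65c3002c061724168910b699f3aa982a5e47], [nat_lit 73728, nat_lit 77824, nat_lit 86016, nat_lit 90112, nat_lit 98304, nat_lit 102400, nat_lit 106496, nat_lit 178176, nat_lit 174080, nat_lit 171520, nat_lit 167424, nat_lit 162432, nat_lit 158912, nat_lit 155360, nat_lit 150432, nat_lit 143368, nat_lit 137712, nat_lit 1290, nat_lit 6588, nat_lit 9416, nat_lit 14768, nat_lit 18496, nat_lit 21760, nat_lit 27904, nat_lit 29952, nat_lit 33280, nat_lit 38912, nat_lit 46472, nat_lit 41793, nat_lit 37313, nat_lit 33282, nat_lit 28962, nat_lit 24725, nat_lit 20549, nat_lit 16421, nat_lit 14336, nat_lit 8211, nat_lit 4, nat_lit 438282, nat_lit 430088, nat_lit 421894, nat_lit 413700, nat_lit 405506, nat_lit 397312, nat_lit 174080, nat_lit 169984, nat_lit 166912, nat_lit 161536, nat_lit 157440, nat_lit 153920, nat_lit 149792,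 nat_lit 145168, nat_lit 142544, nat_lit 136272, nat_lit 133446]⟩
def ndMr5_9 : El := ⟨[nat_lit 0xeee28838d5522037b09667458d9c24f2d120, nat_lit 0x78d7bd4c2a2181e6a15d7b2e2124d9241daa, nat_lit 0xebb42872217048b154d9509d696984fa1076, nat_lit 0x7177284dc751466a598250350e859877ca84], [nat_lit 65536, nat_lit 69632, nat_lit 81920, nat_lit 94208, nat_lit 102400, nat_lit 106496, nat_lit 175104, nat_lit 171008, nat_lit 167424, nat_lit 162688, nat_lit 159104, nat_lit 155360, nat_lit 150464, nat_lit 143368, nat_lit 139268, nat_lit 135170, nat_lit 133617, nat_lit 678, nat_lit 6152, nat_lit 11864, nat_lit 15872, nat_lit 18112, nat_lit 24384, nat_lit 28032, nat_lit 30464, nat_lit 34816, nat_lit 39936, nat_lit 43008, nat_lit 45214, nat_lit 41875, nat_lit 38352, nat_lit 32960, nat_lit 28707, nat_lit 24851, nat_lit 20484, nat_lit 14336, nat_lit 8202, nat_lit 4097, nat_lit 438282, nat_lit 430088, nat_lit 421894, nat_lit 413700, nat_lit 405506, nat_lit 397312, nat_lit 169984, nat_lit 165376, nat_lit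 161024, nat_lit 157952, nat_lit 154560, nat_lit 147904, nat_lit 146960, nat_lit 140240, nat_lit 136632, nat_lit 131312]⟩
def ndMr5_10 : El := ⟨[nat_lit 0x9a3c00412a91147635e1163a870c96d7aa60, nat_lit 0x8474be5b1c08c141a22e2b48af48cc723675, nat_lit 0x96f66f02868710ac9d2f28c2d5399ed0a562], [nat_lit 65536, nat_lit 81920, nat_lit 86016, nat_lit 90112, nat_lit 178176, nat_lit 175104, nat_lit 170496, nat_lit 164864, nat_lit 162048, nat_lit 155904, nat_lit 154752, nat_lit 149408, nat_lit 146296, nat_lit 139936, nat_lit 137352, nat_lit 133209, nat_lit 1450, nat_lit 6140, nat_lit 10096, nat_lit 15456, nat_lit 18464, nat_lit 21120, nat_lit 28032, nat_lit 29696, nat_lit 34816, nat_lit 39936, nat_lit 43008, nat_lit 45972, nat_lit 41402, nat_lit 37358, nat_lit 32799, nat_lit 28685, nat_lit 25098, nat_lit 20573, nat_lit 16431, nat_lit 12294, nat_lit 8203, nat_lit 4, nat_lit 425990, nat_lit 413700, nat_lit 405506, nat_lit 397312, nat_lit 155904, nat_lit 151808, nat_lit 147808, nat_lit 143728,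 nat_lit 139608, nat_lit 135192, nat_lit 131170, nat_lit 45071, nat_lit 41046, nat_lit 28703]⟩
def ndMr5_11 : El := ⟨[nat_lit 0xb44e4da28497dda04166c090d58b9671da12, nat_lit 0xf35c0c69d612167774a8c4bcc2a8e00446ca, nat_lit 0x6a5593219cd00e113bd8590453a5d2b45556], [nat_lit 65536, nat_lit 69632, nat_lit 73728, nat_lit 77824, nat_lit 86016, nat_lit 90112, nat_lit 98304, nat_lit 110592, nat_lit 178176, nat_lit 173056, nat_lit 169984, nat_lit 161664, nat_lit 157504, nat_lit 155360, nat_lit 151072, nat_lit 147280, nat_lit 141080, nat_lit 138688, nat_lit 131198, nat_lit 680, nat_lit 4740, nat_lit 10192, nat_lit 12624, nat_lit 18432, nat_lit 21120, nat_lit 27904, nat_lit 34304, nat_lit 38912, nat_lit 47026, nat_lit 43783, nat_lit 37348, nat_lit 33415, nat_lit 28731, nat_lit 24884, nat_lit 20483, nat_lit 16390, nat_lit 12290, nat_lit 8209, nat_lit 4097, nat_lit 2, nat_lit 425990, nat_lit 413700, nat_lit 405506, nat_lit 397312, nat_lit 155904, nat_lit 151808, nat_lit 147808, nat_lit 143616,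 nat_lit 139296, nat_lit 135220, nat_lit 131396, nat_lit 45071, nat_lit 40982, nat_lit 36928, nat_lit 28693]⟩
def ndMr5_12 : El := ⟨[nat_lit 0x4e8e712d6f1620743c16a4d9e09b9a609242, nat_lit 0x412b485044c816a3b2e8f4c64db8264338e8, nat_lit 0xa5c55970d81b22ab552e924cf003da2348b1], [nat_lit 65536, nat_lit 77824, nat_lit 86016, nat_lit 106496, nat_lit 174080, nat_lit 171520, nat_lit 165888, nat_lit 161536, nat_lit 157440, nat_lit 154208, nat_lit 149280, nat_lit 143392, nat_lit 140868, nat_lit 137052, nat_lit 132649, nat_lit 3224, nat_lit 6064, nat_lit 12280, nat_lit 14448, nat_lit 17088, nat_lit 23040, nat_lit 26752, nat_lit 32256, nat_lit 34304, nat_lit 39936, nat_lit 45510, nat_lit 40979, nat_lit 36925, nat_lit 32950, nat_lit 28948, nat_lit 24638, nat_lit 20499, nat_lit 16424, nat_lit 12306, nat_lit 8258, nat_lit 4113, nat_lit 425991, nat_lit 413700, nat_lit 405506, nat_lit 397312, nat_lit 160000, nat_lit 151936, nat_lit 143760, nat_lit 139432, nat_lit 135344, nat_lit 131484, nat_lit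 45071, nat_lit 41103, nat_lit 37017, nat_lit 24591, nat_lit 327680]⟩
def ndMr5_13 : El := ⟨[nat_lit 0x87eb18910623cef6035556502832571815ee, nat_lit 0x1ed1d274051ac8ca22e772b4e11a12c051f6, nat_lit 0x2172427ce2c316d41a9019360e589203d6e4], [nat_lit 65536, nat_lit 73728, nat_lit 90112, nat_lit 94208, nat_lit 98304, nat_lit 102400, nat_lit 173056, nat_lit 160128, nat_lit 157632, nat_lit 154496, nat_lit 149232, nat_lit 144936, nat_lit 140864, nat_lit 136000, nat_lit 133092, nat_lit 1024, nat_lit 6052, nat_lit 9928, nat_lit 12416, nat_lit 21056, nat_lit 24832, nat_lit 29696, nat_lit 36352, nat_lit 38912, nat_lit 46766, nat_lit 41970, nat_lit 37246, nat_lit 32894, nat_lit 29738, nat_lit 24759, nat_lit 20482, nat_lit 16388, nat_lit 12355, nat_lit 4129, nat_lit 2, nat_lit 425991, nat_lit 417797, nat_lit 409603, nat_lit 397312, nat_lit 160000, nat_lit 155776, nat_lit 151808, nat_lit 147680, nat_lit 143424, nat_lit 135464, nat_lit 131450, nat_lit 45065, nat_lit 40985, nat_lit 36937, nat_lit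 8194]⟩
def ndMg6_0 : El := ⟨[nat_lit 0x42884b155e19ac6451e209428d299d665d28], [nat_lit 73728, nat_lit 81920, nat_lit 94208, nat_lit 102400, nat_lit 106496, nat_lit 178176, nat_lit 173056, nat_lit 167680, nat_lit 162048, nat_lit 157824, nat_lit 153312, nat_lit 149936, nat_lit 146032, nat_lit 140844, nat_lit 139108, nat_lit 134481, nat_lit 3444, nat_lit 5316, nat_lit 11800, nat_lit 13552, nat_lit 18624, nat_lit 22272, nat_lit 24960, nat_lit 31744, nat_lit 35328, nat_lit 38912, nat_lit 41734, nat_lit 36926, nat_lit 33007, nat_lit 28698, nat_lit 24598, nat_lit 20488, nat_lit 16387, nat_lit 12292, nat_lit 8195, nat_lit 4101, nat_lit 4]⟩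
def ndMg6_1 : El := ⟨[nat_lit 0x59ffc98ae1499c2f755a891582b1146ba460], [nat_lit 69632, nat_lit 73728, nat_lit 81920, nat_lit 86016, nat_lit 94208, nat_lit 98304, nat_lit 102400, nat_lit 178176, nat_lit 168960, nat_lit 167424, nat_lit 162048, nat_lit 156032, nat_lit 151680, nat_lit 150080, nat_lit 144200, nat_lit 140708, nat_lit 138804, nat_lit 133009, nat_lit 2056, nat_lit 7324, nat_lit 11552, nat_lit 15696, nat_lit 18752, nat_lit 23552, nat_lit 25344, nat_lit 30208, nat_lit 35840, nat_lit 38912, nat_lit 43008, nat_lit 41547, nat_lit 38334, nat_lit 32831, nat_lit 28732, nat_lit 24611, nat_lit 20507, nat_lit 16395, nat_lit 12309, nat_lit 8203, nat_lit 4097, nat_lit 2, nat_lit 327680]⟩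
def ndMg6_2 : El := ⟨[nat_lit 0x559f9fa39689a824ac22d2c92331df6b8980], [nat_lit 65536, nat_lit 69632, nat_lit 86016, nat_lit 90112, nat_lit 94208, nat_lit 102400, nat_lit 106496, nat_lit 178176, nat_lit 173056, nat_lit 164352, nat_lit 161920, nat_lit 159680, nat_lit 155392, nat_lit 148800, nat_lit 147288, nat_lit 140300, nat_lit 136092, nat_lit 134854, nat_lit 318, nat_lit 5904, nat_lit 8792, nat_lit 13856, nat_lit 17536, nat_lit 20928, nat_lit 28032, nat_lit 29952, nat_lit 35328, nat_lit 38912, nat_lit 41940, nat_lit 38003, nat_lit 32861, nat_lit 28797, nat_lit 24728, nat_lit 20501, nat_lit 16394, nat_lit 12294, nat_lit 8203, nat_lit 4097, nat_lit 2]⟩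
def ndMg6_3 : El := ⟨[nat_lit 0xb2ee2819a499c2ee22e22aa90cb3ca70502d], [nat_lit 86016, nat_lit 90112, nat_lit 94208, nat_lit 98304, nat_lit 102400, nat_lit 106496, nat_lit 175104, nat_lit 171520, nat_lit 166400, nat_lit 163584, nat_lit 156736, nat_lit 155520, nat_lit 150560, nat_lit 146088, nat_lit 140564, nat_lit 135562, nat_lit 134436, nat_lit 428, nat_lit 4160, nat_lit 10632, nat_lit 13344, nat_lit 17696, nat_lit 20544, nat_lit 26496, nat_lit 29184, nat_lit 36352, nat_lit 39936, nat_lit 43008, nat_lit 41224, nat_lit 37017, nat_lit 32918, nat_lit 29014, nat_lit 24764, nat_lit 20494, nat_lit 16387, nat_lit 12323, nat_lit 8201]⟩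
def ndMg6_4 : El := ⟨[nat_lit 0x877d7b498e89bd90ad80174a2d510ab1d2e2], [nat_lit 65536, nat_lit 77824, nat_lit 81920, nat_lit 86016, nat_lit 90112, nat_lit 94208, nat_lit 98304, nat_lit 102400, nat_lit 106496, nat_lit 173056, nat_lit 170496, nat_lit 166400, nat_lit 160000, nat_lit 156160, nat_lit 153184, nat_lit 148048, nat_lit 147416, nat_lit 139996, nat_lit 135524, nat_lit 134651, nat_lit 1136, nat_lit 5084, nat_lit 10272, nat_lit 14368, nat_lit 19872, nat_lit 20736, nat_lit 24704, nat_lit 30976, nat_lit 36352, nat_lit 38912, nat_lit 43008, nat_lit 41336, nat_lit 37290, nat_lit 33013, nat_lit 28989, nat_lit 24704, nat_lit 20765, nat_lit 16651, nat_lit 12310, nat_lit 8210, nat_lit 4113, nat_lit 2, nat_lit 327680]⟩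
def ndMr6_0 : El := ⟨[], [nat_lit 110592]⟩
def ndMr6_1 : El := ⟨[nat_lit 0x81114b9196d05887a8dcf45142886f0624b3, nat_lit 0x281e7d5de072c6aa72501152cd9b0121bc86, nat_lit 0xc5053f54d0f4d4800c46c11d77b36903164e], [nat_lit 65536, nat_lit 73728, nat_lit 86016, nat_lit 94208, nat_lit 98304, nat_lit 102400, nat_lit 110592, nat_lit 178176, nat_lit 175104, nat_lit 171520, nat_lit 164352, nat_lit 163712, nat_lit 151776, nat_lit 150768, nat_lit 144016, nat_lit 140004, nat_lit 136946, nat_lit 133678, nat_lit 394, nat_lit 6824, nat_lit 10504, nat_lit 15888, nat_lit 16832, nat_lit 22528, nat_lit 27264, nat_lit 30208, nat_lit 33280, nat_lit 37888, nat_lit 43008, nat_lit 46760, nat_lit 43733, nat_lit 39226, nat_lit 32904, nat_lit 28967, nat_lit 24616, nat_lit 20557, nat_lit 16904, nat_lit 12304, nat_lit 32, nat_lit 421894, nat_lit 413700, nat_lit 405506, nat_lit 397312, nat_lit 147616, nat_lit 143568, nat_lit 139472, nat_lit 135380, nat_lit 131134, nat_lit 45068, nat_lit 40973, nat_lit 36923,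 nat_lit 32786, nat_lit 327680]⟩
def ndMr6_2 : El := ⟨[nat_lit 0xc369f04c4f45396233c0493263442c50d5b7, nat_lit 0x3f3afc98e0a111062d1d103589a9e4f586f6, nat_lit 0xd22e4ea82e118ad429d8e42e3354132234cf], [nat_lit 69632, nat_lit 77824, nat_lit 110592, nat_lit 178176, nat_lit 174080, nat_lit 171008, nat_lit 167168, nat_lit 163456, nat_lit 156160, nat_lit 155328, nat_lit 147632, nat_lit 145432, nat_lit 142528, nat_lit 135732, nat_lit 135119, nat_lit 1052, nat_lit 6760, nat_lit 10144, nat_lit 14992, nat_lit 19648, nat_lit 21248, nat_lit 25728, nat_lit 30720, nat_lit 35840, nat_lit 39936, nat_lit 46712, nat_lit 43072, nat_lit 37091, nat_lit 32789, nat_lit 29278, nat_lit 25150, nat_lit 20617, nat_lit 16398, nat_lit 12305, nat_lit 8194, nat_lit 8, nat_lit 425990, nat_lit 413700, nat_lit 405506, nat_lit 397312, nat_lit 151808, nat_lit 147744, nat_lit 143728, nat_lit 139304, nat_lit 135544, nat_lit 131124, nat_lit 45071, nat_lit 40991, nat_lit 36928, nat_lit 28761]⟩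
def ndMr6_3 : El := ⟨[nat_lit 0x247ed4959b02b8d400eefab16a8a0824cc27, nat_lit 0xdd48d2059f583033ba625351521350b190ee, nat_lit 0xffff02c89105a830d4573ccd0431e96a9cb], [nat_lit 65536, nat_lit 90112, nat_lit 110592, nat_lit 175104, nat_lit 169984, nat_lit 163456, nat_lit 159104, nat_lit 152224, nat_lit 151392, nat_lit 144032, nat_lit 143176, nat_lit 137280, nat_lit 132020, nat_lit 1182, nat_lit 6284, nat_lit 10184, nat_lit 14384, nat_lit 22912, nat_lit 26368, nat_lit 29696, nat_lit 33792, nat_lit 37888, nat_lit 45648, nat_lit 40972, nat_lit 39292, nat_lit 33465, nat_lit 28965, nat_lit 24583, nat_lit 20622, nat_lit 8224, nat_lit 4097, nat_lit 425990, nat_lit 413700, nat_lit 405506, nat_lit 397312, nat_lit 155904, nat_lit 151808, nat_lit 147808, nat_lit 143680, nat_lit 139600, nat_lit 135212, nat_lit 131116, nat_lit 45071, nat_lit 40979, nat_lit 28694]⟩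
def ndMr6_4 : El := ⟨[nat_lit 0x9ff33309907056c97098a90e6bb962f69290, nat_lit 0x5a9a06881321df0b4a8c486a58b90ab986b, nat_lit 0xb7de1b1b640bbe1662171a24c1554449b8a7, nat_lit 0xafa0a323c0b709461a5a58ca1541c2cb4ef4], [nat_lit 73728, nat_lit 77824, nat_lit 81920, nat_lit 90112, nat_lit 102400, nat_lit 106496, nat_lit 175104, nat_lit 167168, nat_lit 161280, nat_lit 156928, nat_lit 152704, nat_lit 148752, nat_lit 147064, nat_lit 141520, nat_lit 137468, nat_lit 133876, nat_lit 3608, nat_lit 7416, nat_lit 10208, nat_lit 12896, nat_lit 16704, nat_lit 21504, nat_lit 26240, nat_lit 28928, nat_lit 35328, nat_lit 38912, nat_lit 43008, nat_lit 46209, nat_lit 44003, nat_lit 37087, nat_lit 32945, nat_lit 28741, nat_lit 24631, nat_lit 20495, nat_lit 16455, nat_lit 12289, nat_lit 8193, nat_lit 4097, nat_lit 438282, nat_lit 430088, nat_lit 421894, nat_lit 413700, nat_lit 405506, nat_lit 397312, nat_lit 168960, nat_lit 161024, nat_lit 159488, nat_lit 154944, nat_lit 148160, nat_lit 143472, nat_lit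 140480, nat_lit 135616, nat_lit 131958, nat_lit 327680]⟩
def ndMr6_5 : El := ⟨[nat_lit 0x55a3c50cdc86492022a8b346d010ee53bdb5, nat_lit 0xfcc56f43da3500c70d1778bac548a532560c, nat_lit 0x12822eb0e88514c15cc517a58083ae469eb2, nat_lit 0xd7e1822dd89719169c031555a43d1eb90860], [nat_lit 65536, nat_lit 81920, nat_lit 86016, nat_lit 90112, nat_lit 94208, nat_lit 98304, nat_lit 102400, nat_lit 106496, nat_lit 178176, nat_lit 175104, nat_lit 171520, nat_lit 167424, nat_lit 162304, nat_lit 158912, nat_lit 155360, nat_lit 150448, nat_lit 137714, nat_lit 1770, nat_lit 6684, nat_lit 8680, nat_lit 12592, nat_lit 18496, nat_lit 20800, nat_lit 26752, nat_lit 31488, nat_lit 33792, nat_lit 37888, nat_lit 43008, nat_lit 46360, nat_lit 41282, nat_lit 37284, nat_lit 32898, nat_lit 28785, nat_lit 24753, nat_lit 20498, nat_lit 16386, nat_lit 14336, nat_lit 8706, nat_lit 4100, nat_lit 128, nat_lit 438282, nat_lit 430088, nat_lit 421894, nat_lit 413700, nat_lit 405506, nat_lit 397312, nat_lit 169984, nat_lit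 166912, nat_lit 163072, nat_lit 157568, nat_lit 154432, nat_lit 148320, nat_lit 144144, nat_lit 142008, nat_lit 137920, nat_lit 131964]⟩
def ndMr6_6 : El := ⟨[nat_lit 0x53a9661300e3c49234265555361bda1bae88, nat_lit 0xfa0c961226f3aaeb68e498c2a57588c30414, nat_lit 0x396a9631ca46b9ecb52b7004625212b9c232], [nat_lit 69632, nat_lit 77824, nat_lit 86016, nat_lit 90112, nat_lit 102400, nat_lit 110592, nat_lit 178176, nat_lit 175104, nat_lit 169984, nat_lit 166656, nat_lit 161280, nat_lit 156288, nat_lit 154624, nat_lit 150848, nat_lit 146152, nat_lit 140032, nat_lit 136302, nat_lit 132221, nat_lit 2748, nat_lit 6940, nat_lit 11952, nat_lit 14432, nat_lit 19424, nat_lit 21888, nat_lit 26880, nat_lit 32512, nat_lit 35840, nat_lit 39936, nat_lit 46608, nat_lit 41855, nat_lit 38304, nat_lit 33878, nat_lit 29248, nat_lit 25110, nat_lit 16527, nat_lit 12295, nat_lit 4097, nat_lit 425991, nat_lit 417797, nat_lit 409602, nat_lit 397312, nat_lit 156032, nat_lit 151808, nat_lit 147808, nat_lit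 139600, nat_lit 135296, nat_lit 131344, nat_lit 45061, nat_lit 41093, nat_lit 37014, nat_lit 12290]⟩
def ndMr6_7 : El := ⟨[nat_lit 0x6cfaf968de1a5d6881666b55490384c39251, nat_lit 0x303af39346b3dd2a8810c158a1a1213799d5, nat_lit 0x5faf5c8ce1273d8d00861314875250badaf4], [nat_lit 73728, nat_lit 77824, nat_lit 86016, nat_lit 98304, nat_lit 106496, nat_lit 110592, nat_lit 171520, nat_lit 166912, nat_lit 161664, nat_lit 157824, nat_lit 152480, nat_lit 149088, nat_lit 145056, nat_lit 139740, nat_lit 136820, nat_lit 135044, nat_lit 562, nat_lit 5900, nat_lit 11480, nat_lit 14320, nat_lit 20352, nat_lit 23232, nat_lit 28416, nat_lit 32512, nat_lit 36352, nat_lit 37888, nat_lit 47013, nat_lit 41044, nat_lit 39045, nat_lit 33454, nat_lit 28688, nat_lit 24592, nat_lit 20507, nat_lit 16426, nat_lit 12320, nat_lit 8195, nat_lit 4, nat_lit 434184, nat_lit 413700, nat_lit 405506, nat_lit 397312, nat_lit 151808, nat_lit 147744, nat_lit 144640, nat_lit 139528, nat_lit 135472, nat_lit 131382, nat_lit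 45071, nat_lit 36873, nat_lit 28703, nat_lit 24579]⟩
def ndMr6_8 : El := ⟨[nat_lit 0x27d2d8608ab419e3bdab3a4a3069d402242e, nat_lit 0xc5500644eef5a8478103274534a9ac32b580, nat_lit 0x30ca03ad2d74a96810061298878ce507b1ae], [nat_lit 65536, nat_lit 81920, nat_lit 86016, nat_lit 94208, nat_lit 98304, nat_lit 106496, nat_lit 110592, nat_lit 175104, nat_lit 169472, nat_lit 167680, nat_lit 162688, nat_lit 158208, nat_lit 154944, nat_lit 147504, nat_lit 146080, nat_lit 139752, nat_lit 137350, nat_lit 134317, nat_lit 2464, nat_lit 7536, nat_lit 9040, nat_lit 13920, nat_lit 18272, nat_lit 24384, nat_lit 25216, nat_lit 29696, nat_lit 35328, nat_lit 38912, nat_lit 46888, nat_lit 41152, nat_lit 39292, nat_lit 34900, nat_lit 29709, nat_lit 24714, nat_lit 20490, nat_lit 16651, nat_lit 8209, nat_lit 4101, nat_lit 425991, nat_lit 417797, nat_lit 409602, nat_lit 397312, nat_lit 155776, nat_lit 151808, nat_lit 147872, nat_lit 139424, nat_lit 135296, nat_lit 131296, nat_lit 45059, nat_lit 41088, nat_lit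 37077, nat_lit 12292]⟩
def ndMr6_9 : El := ⟨[nat_lit 0xc5935c6ce0fb291428cc1931d1bad3501c44, nat_lit 0xbe7e71bb20b45a2f98247250356b8a3508c9, nat_lit 0xc355aa4254b29887aded4635ee9467008860], [nat_lit 69632, nat_lit 73728, nat_lit 86016, nat_lit 94208, nat_lit 102400, nat_lit 174080, nat_lit 171008, nat_lit 164608, nat_lit 163584, nat_lit 157888, nat_lit 153920, nat_lit 147760, nat_lit 145472, nat_lit 143276, nat_lit 136140, nat_lit 134283, nat_lit 3406, nat_lit 6768, nat_lit 10344, nat_lit 13552, nat_lit 16864, nat_lit 24448, nat_lit 28160, nat_lit 29440, nat_lit 39936, nat_lit 46592, nat_lit 41235, nat_lit 37042, nat_lit 32877, nat_lit 29226, nat_lit 24895, nat_lit 20748, nat_lit 16457, nat_lit 12290, nat_lit 8195, nat_lit 4097, nat_lit 2, nat_lit 434184, nat_lit 421893, nat_lit 409602, nat_lit 397312, nat_lit 161024, nat_lit 151808, nat_lit 148640, nat_lit 140432, nat_lit 135220, nat_lit 131120, nat_lit 45059, nat_lit 37013, nat_lit 24579, nat_lit 12292]⟩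
def ndMr6_10 : El := ⟨[nat_lit 0x7122113d6c062e3409909baa6d7906e14245, nat_lit 0x1d14bd658ae1d0e27c96032517892b00b66a, nat_lit 0xa3f33944e47b461031c2814d3a22ebb2555], [nat_lit 73728, nat_lit 77824, nat_lit 90112, nat_lit 94208, nat_lit 98304, nat_lit 178176, nat_lit 169984, nat_lit 165120, nat_lit 161664, nat_lit 159680, nat_lit 152544, nat_lit 150432, nat_lit 143560, nat_lit 140168, nat_lit 138096, nat_lit 1696, nat_lit 7600, nat_lit 11872, nat_lit 14048, nat_lit 17856, nat_lit 22528, nat_lit 26496, nat_lit 31488, nat_lit 37888, nat_lit 45558, nat_lit 41042, nat_lit 36978, nat_lit 32878, nat_lit 30762, nat_lit 24604, nat_lit 16459, nat_lit 12354, nat_lit 8193, nat_lit 4104, nat_lit 4, nat_lit 425991, nat_lit 417797, nat_lit 409602, nat_lit 397312, nat_lit 155776, nat_lit 151936, nat_lit 147904, nat_lit 139360, nat_lit 135268, nat_lit 131094, nat_lit 45062, nat_lit 40976, nat_lit 37075, nat_lit 12289, nat_lit 327680]⟩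
def ndMr6_11 : El := ⟨[nat_lit 0x3c5904cccd20ea75c8ac55d01781d684682, nat_lit 0x8714189914ba9a5700cf168ac92be0c4068e, nat_lit 0x747b4129ed748941a1aa4636517426f4006b], [nat_lit 69632, nat_lit 81920, nat_lit 98304, nat_lit 110592, nat_lit 178176, nat_lit 175104, nat_lit 168960, nat_lit 165120, nat_lit 163712, nat_lit 155776, nat_lit 155328, nat_lit 150048, nat_lit 146272, nat_lit 142472, nat_lit 137800, nat_lit 133792, nat_lit 3814, nat_lit 4932, nat_lit 11072, nat_lit 12400, nat_lit 17248, nat_lit 22592, nat_lit 26880, nat_lit 32256, nat_lit 33280, nat_lit 37888, nat_lit 43008, nat_lit 46562, nat_lit 43238, nat_lit 37252, nat_lit 32949, nat_lit 28710, nat_lit 24612, nat_lit 20511, nat_lit 16423, nat_lit 12289, nat_lit 8225, nat_lit 4097, nat_lit 425991, nat_lit 413700, nat_lit 405506, nat_lit 397312, nat_lit 160000, nat_lit 151936, nat_lit 143392, nat_lit 139528, nat_lit 135296, nat_lit 131372, nat_lit 45071, nat_lit 41103, nat_lit 36869, nat_lit 24582]⟩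
def ndMr6_12 : El := ⟨[nat_lit 0x71dd1168d9523e08a256229ac051e2ebce41, nat_lit 0x44d7d1aa5a6581510c18e2d1e814ad721e63, nat_lit 0x72e7819ba95241e62d808525b21dd6760622, nat_lit 0xbd1ed79dec8a30275ba4d2c544abc6602450], [nat_lit 73728, nat_lit 77824, nat_lit 86016, nat_lit 90112, nat_lit 102400, nat_lit 106496, nat_lit 110592, nat_lit 178176, nat_lit 162816, nat_lit 158912, nat_lit 152288, nat_lit 150432, nat_lit 146344, nat_lit 142244, nat_lit 138462, nat_lit 134051, nat_lit 804, nat_lit 7296, nat_lit 11432, nat_lit 12688, nat_lit 20384, nat_lit 23104, nat_lit 26240, nat_lit 29184, nat_lit 37888, nat_lit 46544, nat_lit 43515, nat_lit 36876, nat_lit 35038, nat_lit 28686, nat_lit 24590, nat_lit 20482, nat_lit 18435, nat_lit 12294, nat_lit 8202, nat_lit 4104, nat_lit 16, nat_lit 438282, nat_lit 430088, nat_lit 421894, nat_lit 413700, nat_lit 405506, nat_lit 397312, nat_lit 169984, nat_lit 161024, nat_lit 157824, nat_lit 154496, nat_lit 148608, nat_lit 146880, nat_lit 140664, nat_lit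 137280, nat_lit 131748, nat_lit 327680]⟩
def ndMr6_13 : El := ⟨[nat_lit 0xdbb27eb446e3c172aa68643da5504829b017, nat_lit 0xcfa360bd642890a11c10b4b6c6781d33b28a, nat_lit 0x8b4814685e8041311de8b99eae28944648d6, nat_lit 0x24b27e71820941e7a1196595a81d553ba451], [nat_lit 69632, nat_lit 73728, nat_lit 86016, nat_lit 90112, nat_lit 94208, nat_lit 98304, nat_lit 102400, nat_lit 110592, nat_lit 173056, nat_lit 164096, nat_lit 162816, nat_lit 158912, nat_lit 152256, nat_lit 150448, nat_lit 146344, nat_lit 142244, nat_lit 138462, nat_lit 134051, nat_lit 1608, nat_lit 4396, nat_lit 11048, nat_lit 13200, nat_lit 18784, nat_lit 23744, nat_lit 27008, nat_lit 31488, nat_lit 35840, nat_lit 43008, nat_lit 46321, nat_lit 41931, nat_lit 38156, nat_lit 32992, nat_lit 28747, nat_lit 24736, nat_lit 20544, nat_lit 18439, nat_lit 12323, nat_lit 8210, nat_lit 4113, nat_lit 2, nat_lit 438282, nat_lit 430088, nat_lit 421894, nat_lit 413700, nat_lit 405506, nat_lit 397312, nat_lit 174080, nat_lit 164352, nat_lit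 162816, nat_lit 157696, nat_lit 152896, nat_lit 148736, nat_lit 146368, nat_lit 139880, nat_lit 136112, nat_lit 133644]⟩
def ndMr6_14 : El := ⟨[nat_lit 0xc3960f385d31b0902d0c9ab50fbaa5158816, nat_lit 0x272dd855d63292820da708b8c84c8ed655e0, nat_lit 0x124e7b8d886054533a06c5517095dee0b525], [nat_lit 65536, nat_lit 77824, nat_lit 90112, nat_lit 94208, nat_lit 110592, nat_lit 178176, nat_lit 173056, nat_lit 168448, nat_lit 165888, nat_lit 156288, nat_lit 152192, nat_lit 149968, nat_lit 146040, nat_lit 140800, nat_lit 138798, nat_lit 134039, nat_lit 194, nat_lit 6876, nat_lit 11896, nat_lit 15248, nat_lit 18432, nat_lit 24128, nat_lit 25600, nat_lit 30464, nat_lit 35840, nat_lit 38912, nat_lit 45272, nat_lit 41056, nat_lit 37249, nat_lit 33331, nat_lit 28935, nat_lit 25642, nat_lit 20628, nat_lit 16389, nat_lit 12352, nat_lit 8210, nat_lit 4097, nat_lit 2, nat_lit 430087, nat_lit 413700, nat_lit 405506, nat_lit 397312, nat_lit 160256, nat_lit 148000, nat_lit 143904, nat_lit 139928,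 nat_lit 135828, nat_lit 131640, nat_lit 45200, nat_lit 41104, nat_lit 32826, nat_lit 24591, nat_lit 327680]⟩
def ndMr6_15 : El := ⟨[nat_lit 0x4712be4bc0a2b026991158b872152ed85967, nat_lit 0xe717dbb4cf25a8b4730d5445e04860d11077, nat_lit 0x6a66c668182b4a748de151b82f410c951567], [nat_lit 65536, nat_lit 73728, nat_lit 81920, nat_lit 86016, nat_lit 94208, nat_lit 98304, nat_lit 102400, nat_lit 110592, nat_lit 178176, nat_lit 174080, nat_lit 171008, nat_lit 167680, nat_lit 161536, nat_lit 159232, nat_lit 148816, nat_lit 146552, nat_lit 142848, nat_lit 137406, nat_lit 132430, nat_lit 1288, nat_lit 6516, nat_lit 10432, nat_lit 15792, nat_lit 18080, nat_lit 23040, nat_lit 28416, nat_lit 29184, nat_lit 36352, nat_lit 37888, nat_lit 43008, nat_lit 45195, nat_lit 41799, nat_lit 38100, nat_lit 32815, nat_lit 28695, nat_lit 24590, nat_lit 20498, nat_lit 16393, nat_lit 12294, nat_lit 4105, nat_lit 2, nat_lit 425991, nat_lit 417797, nat_lit 409602, nat_lit 397312, nat_lit 160000, nat_lit 156032,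 nat_lit 147712, nat_lit 139712, nat_lit 135204, nat_lit 131152, nat_lit 45206, nat_lit 40979, nat_lit 37014, nat_lit 12295, nat_lit 327680]⟩
def ndMr6_16 : El := ⟨[nat_lit 0x36a93c7a44d9a07223a35a0157598e12da0c, nat_lit 0x565f554ef20ba271d10021aab6c045b31e9, nat_lit 0x124e7b1dea02161389a47425cda58225a98f], [nat_lit 65536, nat_lit 69632, nat_lit 77824, nat_lit 81920, nat_lit 98304, nat_lit 102400, nat_lit 110592, nat_lit 178176, nat_lit 173056, nat_lit 170496, nat_lit 165632, nat_lit 160256, nat_lit 157888, nat_lit 152096, nat_lit 149328, nat_lit 143792, nat_lit 142792, nat_lit 138678, nat_lit 133252, nat_lit 882, nat_lit 6588, nat_lit 9664, nat_lit 15056, nat_lit 19296, nat_lit 23872, nat_lit 27264, nat_lit 30720, nat_lit 35328, nat_lit 43008, nat_lit 45563, nat_lit 41857, nat_lit 38037, nat_lit 32942, nat_lit 28986, nat_lit 24620, nat_lit 20548, nat_lit 16516, nat_lit 12295, nat_lit 8195, nat_lit 430088, nat_lit 417797, nat_lit 409603, nat_lit 401408, nat_lit 164352, nat_lit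 155904, nat_lit 152320, nat_lit 148320, nat_lit 143616, nat_lit 140032, nat_lit 131664, nat_lit 45068, nat_lit 41045, nat_lit 28688, nat_lit 4097, nat_lit 327680]⟩
def ndMr6_17 : El := ⟨[nat_lit 0x8827bd1c894718ea4beb75ce0d8d80560448, nat_lit 0x65f0553958a7d5169260e246811ccd713560, nat_lit 0x272d2765166390530a131a954ebcac36820f], [nat_lit 65536, nat_lit 73728, nat_lit 77824, nat_lit 90112, nat_lit 110592, nat_lit 169984, nat_lit 164096, nat_lit 160000, nat_lit 156224, nat_lit 155104, nat_lit 148816, nat_lit 146256, nat_lit 142472, nat_lit 136628, nat_lit 133494, nat_lit 1622, nat_lit 6620, nat_lit 9440, nat_lit 15056, nat_lit 16416, nat_lit 22400, nat_lit 25600, nat_lit 32256, nat_lit 35840, nat_lit 38912, nat_lit 46629, nat_lit 43440, nat_lit 37126, nat_lit 33533, nat_lit 28934, nat_lit 24711, nat_lit 20563, nat_lit 16457, nat_lit 12294, nat_lit 8200, nat_lit 4101, nat_lit 430087, nat_lit 417797, nat_lit 405506, nat_lit 397312, nat_lit 160256, nat_lit 152256, nat_lit 143872,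 nat_lit 139336, nat_lit 135328, nat_lit 131776, nat_lit 45065, nat_lit 40971, nat_lit 32867, nat_lit 16397, nat_lit 327680]⟩
def ndMr6_18 : El := ⟨[nat_lit 0x8727b245061aa613038f164844b18aa5dded, nat_lit 0xa65a002c007251cba8ad20a15335da91b22f, nat_lit 0xd28488ad8239c4a7b805434a04525af72d88], [nat_lit 69632, nat_lit 77824, nat_lit 86016, nat_lit 98304, nat_lit 110592, nat_lit 168960, nat_lit 165120, nat_lit 160128, nat_lit 153088, nat_lit 150336, nat_lit 144896, nat_lit 136200, nat_lit 132653, nat_lit 1618, nat_lit 6976, nat_lit 9104, nat_lit 14944, nat_lit 19104, nat_lit 23296, nat_lit 25088, nat_lit 29952, nat_lit 34816, nat_lit 43008, nat_lit 46256, nat_lit 43841, nat_lit 38214, nat_lit 32771, nat_lit 29311, nat_lit 24630, nat_lit 20544, nat_lit 16391, nat_lit 12418, nat_lit 8194, nat_lit 4100, nat_lit 430088, nat_lit 417797, nat_lit 409602, nat_lit 397312, nat_lit 164352, nat_lit 156416, nat_lit 152320, nat_lit 147808, nat_lit 139632, nat_lit 135492, nat_lit 131168, nat_lit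 45061, nat_lit 41555, nat_lit 28688, nat_lit 12290]⟩
def ndMr6_19 : El := ⟨[nat_lit 0x2bdbed1d4ab7c2d442a6d3b092700510dcc9, nat_lit 0x7d18715b027951cd4008f4ceaa8dc622c0d6, nat_lit 0x78b12e9d992a340281468ba9e922c3171cd5], [nat_lit 65536, nat_lit 69632, nat_lit 77824, nat_lit 81920, nat_lit 90112, nat_lit 98304, nat_lit 171520, nat_lit 166656, nat_lit 163328, nat_lit 155968, nat_lit 155584, nat_lit 149568, nat_lit 144896, nat_lit 141288, nat_lit 136260, nat_lit 132222, nat_lit 314, nat_lit 6860, nat_lit 10912, nat_lit 13440, nat_lit 18528, nat_lit 23808, nat_lit 26496, nat_lit 31488, nat_lit 33280, nat_lit 43008, nat_lit 46218, nat_lit 43414, nat_lit 36990, nat_lit 33935, nat_lit 28724, nat_lit 24630, nat_lit 20482, nat_lit 16452, nat_lit 8258, nat_lit 4113, nat_lit 421894, nat_lit 413700, nat_lit 405506, nat_lit 397312, nat_lit 155776, nat_lit 151616, nat_lit 147520, nat_lit 143504, nat_lit 139320, nat_lit 135392, nat_lit 131254, nat_lit 45062, nat_lit 41045, nat_lit 36934, nat_lit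 32877, nat_lit 327680]⟩
def ndMr6_20 : El := ⟨[nat_lit 0x781418116cc020319deab3488a38e8e7a5b0, nat_lit 0x27e1729526b0a6e22a8f67d588045c668e04, nat_lit 0x3630509180851221a30a710dd68566d7a6eb], [nat_lit 65536, nat_lit 86016, nat_lit 94208, nat_lit 98304, nat_lit 178176, nat_lit 169472, nat_lit 165376, nat_lit 163072, nat_lit 156608, nat_lit 155520, nat_lit 150512, nat_lit 143376, nat_lit 140236, nat_lit 138664, nat_lit 131120, nat_lit 3948, nat_lit 4412, nat_lit 11440, nat_lit 14064, nat_lit 18368, nat_lit 23872, nat_lit 27648, nat_lit 29952, nat_lit 33280, nat_lit 38912, nat_lit 43008, nat_lit 46319, nat_lit 41489, nat_lit 38274, nat_lit 33414, nat_lit 29271, nat_lit 24722, nat_lit 20496, nat_lit 16395, nat_lit 12293, nat_lit 8200, nat_lit 4097, nat_lit 425991, nat_lit 417797, nat_lit 409603, nat_lit 397312, nat_lit 155776, nat_lit 151616, nat_lit 147488, nat_lit 143600, nat_lit 135416, nat_lit 131560, nat_lit 45080, nat_lit 40986, nat_lit 36970, nat_lit 8193, nat_lit 327680]⟩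
def ndMr6_21 : El := ⟨[nat_lit 0x95993995580222d74bced32c221c28e9c545, nat_lit 0x2844b45b87589402526047c9a63de9343036, nat_lit 0x4e2bb834909532a3bbd608b5c714025b1274, nat_lit 0xf9fa53ab55688a851a5e1220ce9320b3cc17], [nat_lit 65536, nat_lit 98304, nat_lit 174080, nat_lit 168448, nat_lit 165120, nat_lit 163712, nat_lit 156800, nat_lit 152736, nat_lit 148624, nat_lit 145056, nat_lit 141520, nat_lit 135588, nat_lit 131749, nat_lit 3758, nat_lit 5080, nat_lit 9216, nat_lit 13440, nat_lit 18368, nat_lit 20864, nat_lit 26240, nat_lit 29696, nat_lit 46833, nat_lit 41100, nat_lit 39251, nat_lit 33442, nat_lit 28698, nat_lit 26683, nat_lit 21001, nat_lit 16514, nat_lit 12306, nat_lit 9218, nat_lit 32, nat_lit 438282, nat_lit 430088, nat_lit 421894, nat_lit 413700, nat_lit 405506, nat_lit 397312, nat_lit 165888, nat_lit 160000, nat_lit 157440, nat_lit 152512, nat_lit 143744, nat_lit 140576, nat_lit 132712, nat_lit 327680]⟩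
def ndMr6_22 : El := ⟨[nat_lit 0x7e221e44ccc944577c1275d80a2143570db4, nat_lit 0x8484b179d738c2812492eba1421d9ac280d5, nat_lit 0xbb147499aee2c5b5220071ca090bd8b12a96, nat_lit 0x6a0fa595ca20d62484daa624037d1163acce], [nat_lit 69632, nat_lit 77824, nat_lit 81920, nat_lit 86016, nat_lit 106496, nat_lit 174080, nat_lit 165120, nat_lit 163712, nat_lit 156800, nat_lit 152736, nat_lit 148608, nat_lit 145056, nat_lit 141524, nat_lit 135588, nat_lit 131749, nat_lit 4060, nat_lit 7552, nat_lit 10888, nat_lit 14368, nat_lit 18656, nat_lit 22016, nat_lit 28032, nat_lit 31488, nat_lit 33792, nat_lit 43008, nat_lit 46448, nat_lit 43221, nat_lit 36908, nat_lit 33971, nat_lit 29737, nat_lit 26649, nat_lit 20496, nat_lit 16421, nat_lit 12353, nat_lit 8193, nat_lit 438282, nat_lit 430088, nat_lit 421894, nat_lit 413700, nat_lit 405506, nat_lit 397312, nat_lit 174080, nat_lit 166912, nat_lit 163584, nat_lit 158848, nat_lit 152512, nat_lit 147840, nat_lit 143776, nat_lit 142304, nat_lit 139156, nat_lit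 133066]⟩
def ndMr6_23 : El := ⟨[nat_lit 0xcc66f00d865a21465b45270209a9e7123d97, nat_lit 0x3a5006456e0851e72984a648961b5c90ce2b, nat_lit 0xe1b8b12b9e6156c13b58492a688a60b00e97], [nat_lit 77824, nat_lit 86016, nat_lit 90112, nat_lit 94208, nat_lit 102400, nat_lit 106496, nat_lit 110592, nat_lit 178176, nat_lit 174080, nat_lit 170496, nat_lit 166400, nat_lit 161664, nat_lit 156736, nat_lit 154144, nat_lit 148064, nat_lit 146744, nat_lit 139728, nat_lit 138554, nat_lit 131963, nat_lit 1356, nat_lit 6152, nat_lit 10144, nat_lit 14480, nat_lit 17280, nat_lit 23744, nat_lit 25984, nat_lit 30720, nat_lit 36352, nat_lit 39936, nat_lit 43008, nat_lit 46848, nat_lit 43269, nat_lit 37077, nat_lit 32796, nat_lit 28750, nat_lit 24743, nat_lit 20493, nat_lit 16654, nat_lit 12323, nat_lit 8203, nat_lit 425991, nat_lit 417797, nat_lit 409603, nat_lit 401408, nat_lit 155776, nat_lit 151808, nat_lit 147744, nat_lit 143856, nat_lit 139296, nat_lit 131352, nat_lit 45068, nat_lit 41049, nat_lit 4097]⟩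
def ndMr6_24 : El := ⟨[nat_lit 0x5c0c3bb1107ae364c9b4214e29d54e09860, nat_lit 0x488b226916f706163223364857552a748065, nat_lit 0xa60fc6bd1ee8a26909c825c1526b2b601865], [nat_lit 65536, nat_lit 73728, nat_lit 77824, nat_lit 86016, nat_lit 98304, nat_lit 102400, nat_lit 106496, nat_lit 169984, nat_lit 164608, nat_lit 162176, nat_lit 157824, nat_lit 154144, nat_lit 145256, nat_lit 140296, nat_lit 137122, nat_lit 133025, nat_lit 1146, nat_lit 5192, nat_lit 10448, nat_lit 15472, nat_lit 17952, nat_lit 22144, nat_lit 25088, nat_lit 30976, nat_lit 35840, nat_lit 37888, nat_lit 43008, nat_lit 46865, nat_lit 41048, nat_lit 39406, nat_lit 34825, nat_lit 28721, nat_lit 24585, nat_lit 20484, nat_lit 16385, nat_lit 12289, nat_lit 8224, nat_lit 4608, nat_lit 430088, nat_lit 417797, nat_lit 409602, nat_lit 397312, nat_lit 156160, nat_lit 152384, nat_lit 148320, nat_lit 139808, nat_lit 135776, nat_lit 131152, nat_lit 45061, nat_lit 41558, nat_lit 28693, nat_lit 12290]⟩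
def ndMr6_25 : El := ⟨[nat_lit 0x2b184824cb015a814a1cd6296f39a32b8c15, nat_lit 0x8dd42b300753de3270553a208b7a602658ad, nat_lit 0xfafc990bc8258eb34d81233211428adbd1c7], [nat_lit 65536, nat_lit 69632, nat_lit 73728, nat_lit 77824, nat_lit 102400, nat_lit 110592, nat_lit 175104, nat_lit 171008, nat_lit 167680, nat_lit 161664, nat_lit 156992, nat_lit 152256, nat_lit 148656, nat_lit 146824, nat_lit 139328, nat_lit 137454, nat_lit 134145, nat_lit 1462, nat_lit 5516, nat_lit 11464, nat_lit 15264, nat_lit 20288, nat_lit 22336, nat_lit 27264, nat_lit 28928, nat_lit 34304, nat_lit 37888, nat_lit 43008, nat_lit 45632, nat_lit 41706, nat_lit 37100, nat_lit 32848, nat_lit 29240, nat_lit 24724, nat_lit 20508, nat_lit 16390, nat_lit 12327, nat_lit 8194, nat_lit 4097, nat_lit 430087, nat_lit 417797, nat_lit 409602, nat_lit 397312, nat_lit 155776, nat_lit 152128, nat_lit 148128, nat_lit 139360, nat_lit 135892, nat_lit 131792, nat_lit 45203, nat_lit 41158, nat_lit 32882, nat_lit 12292, nat_lit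 327680]⟩
def ndMr6_26 : El := ⟨[nat_lit 0x4ddd7d6860b4a8b4b388f00ea714d0c944d7, nat_lit 0xfff00f810ab884683ba804ded27cd4c30aad, nat_lit 0x427844081ae225473150ba4e171bc4cac656], [nat_lit 73728, nat_lit 77824, nat_lit 86016, nat_lit 90112, nat_lit 94208, nat_lit 98304, nat_lit 106496, nat_lit 110592, nat_lit 178176, nat_lit 169984, nat_lit 166656, nat_lit 162432, nat_lit 158528, nat_lit 155584, nat_lit 148912, nat_lit 144760, nat_lit 141440, nat_lit 138478, nat_lit 134303, nat_lit 1178, nat_lit 4120, nat_lit 12144, nat_lit 15728, nat_lit 17152, nat_lit 23488, nat_lit 27648, nat_lit 30464, nat_lit 39936, nat_lit 46080, nat_lit 41749, nat_lit 36869, nat_lit 32946, nat_lit 28674, nat_lit 24603, nat_lit 20755, nat_lit 16387, nat_lit 12357, nat_lit 8203, nat_lit 4104, nat_lit 4, nat_lit 434184, nat_lit 417797, nat_lit 409602, nat_lit 397312, nat_lit 164864, nat_lit 156672, nat_lit 152896, nat_lit 139280, nat_lit 135520, nat_lit 131426, nat_lit 45062, nat_lit 36870, nat_lit 28757, nat_lit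 12289]⟩
def ndMr6_27 : El := ⟨[nat_lit 0xe4d2b49a647591cf2a2f51d22c0b6d030142, nat_lit 0x5395c308de79a6e02adca8c88da199582056, nat_lit 0x56f03693dd7620e36952121ad1a414b9d402], [nat_lit 65536, nat_lit 69632, nat_lit 73728, nat_lit 94208, nat_lit 98304, nat_lit 173056, nat_lit 169984, nat_lit 166144, nat_lit 160000, nat_lit 155552, nat_lit 148832, nat_lit 144640, nat_lit 140552, nat_lit 138114, nat_lit 134275, nat_lit 1036, nat_lit 5340, nat_lit 11720, nat_lit 14144, nat_lit 19616, nat_lit 21504, nat_lit 25984, nat_lit 28928, nat_lit 33280, nat_lit 38912, nat_lit 43008, nat_lit 45995, nat_lit 41701, nat_lit 36917, nat_lit 34922, nat_lit 28710, nat_lit 24615, nat_lit 20481, nat_lit 16906, nat_lit 12306, nat_lit 8195, nat_lit 4, nat_lit 430088, nat_lit 417796, nat_lit 405506, nat_lit 397312, nat_lit 164352, nat_lit 156160, nat_lit 147968, nat_lit 143424, nat_lit 139344, nat_lit 135252, nat_lit 131334, nat_lit 45386, nat_lit 40971, nat_lit 28688, nat_lit 20503, nat_lit 327680]⟩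
def ndMr6_28 : El := ⟨[nat_lit 0x8e78d852091741e70981248db462c559dec5, nat_lit 0xb1e712ab6f63826a5922328608a31ee30a49, nat_lit 0x788d8b44152705a331ef65ce29ad0a4009ec], [nat_lit 73728, nat_lit 86016, nat_lit 90112, nat_lit 175104, nat_lit 156608, nat_lit 153152, nat_lit 148256, nat_lit 143616, nat_lit 139936, nat_lit 136808, nat_lit 132998, nat_lit 2550, nat_lit 7556, nat_lit 9704, nat_lit 15344, nat_lit 16416, nat_lit 24512, nat_lit 30464, nat_lit 33280, nat_lit 38912, nat_lit 43008, nat_lit 45710, nat_lit 41811, nat_lit 37971, nat_lit 33501, nat_lit 28942, nat_lit 24766, nat_lit 20504, nat_lit 16421, nat_lit 12309, nat_lit 8210, nat_lit 4100, nat_lit 2, nat_lit 413700, nat_lit 405506, nat_lit 397312, nat_lit 143392, nat_lit 139288, nat_lit 135228, nat_lit 131110, nat_lit 45071, nat_lit 40976, nat_lit 36874, nat_lit 32801, nat_lit 28688, nat_lit 24588]⟩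
def ndMr6_29 : El := ⟨[nat_lit 0xc0c503535373c86ba918599828a09e0845d6, nat_lit 0x8de77e82909092cc8ae533b6a275006b95e3, nat_lit 0x5cf3a022850651ae59c3228131bd6cf41873], [nat_lit 65536, nat_lit 102400, nat_lit 178176, nat_lit 174080, nat_lit 168960, nat_lit 166656, nat_lit 163328, nat_lit 157760, nat_lit 154528, nat_lit 150784, nat_lit 146816, nat_lit 140720, nat_lit 137002, nat_lit 135154, nat_lit 3180, nat_lit 5844, nat_lit 9872, nat_lit 14000, nat_lit 19392, nat_lit 21440, nat_lit 24704, nat_lit 31744, nat_lit 33280, nat_lit 46247, nat_lit 43974, nat_lit 37081, nat_lit 33859, nat_lit 28742, nat_lit 24625, nat_lit 16448, nat_lit 12290, nat_lit 8322, nat_lit 4097, nat_lit 2, nat_lit 425989, nat_lit 405506, nat_lit 397312, nat_lit 151808, nat_lit 143616, nat_lit 139560, nat_lit 135436, nat_lit 131370, nat_lit 45071, nat_lit 40975, nat_lit 36879, nat_lit 16399]⟩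
def ndMr6_30 : El := ⟨[nat_lit 0xa0c660264e3de961c54f64c28141ab254a6, nat_lit 0x2d48ddbc2c4884076cd862ae494387450aaf, nat_lit 0xfa5c6316ac11d3152dd493e170a26400db6, nat_lit 0x6569c641286055637dd8ab4d328b84569c30], [nat_lit 65536, nat_lit 73728, nat_lit 77824, nat_lit 94208, nat_lit 98304, nat_lit 178176, nat_lit 174080, nat_lit 171520, nat_lit 167680, nat_lit 162560, nat_lit 158080, nat_lit 152416, nat_lit 149488, nat_lit 143776, nat_lit 142380, nat_lit 135676, nat_lit 134244, nat_lit 622, nat_lit 5024, nat_lit 8888, nat_lit 12800, nat_lit 17408, nat_lit 22912, nat_lit 26752, nat_lit 30464, nat_lit 33280, nat_lit 43008, nat_lit 45697, nat_lit 41122, nat_lit 39188, nat_lit 32817, nat_lit 28764, nat_lit 24597, nat_lit 20509, nat_lit 12326, nat_lit 8225, nat_lit 4104, nat_lit 438282, nat_lit 430088, nat_lit 421894, nat_lit 413700, nat_lit 405506, nat_lit 397312, nat_lit 174080, nat_lit 165888, nat_lit 161280, nat_lit 156032, nat_lit 153344, nat_lit 147840, nat_lit 145888, nat_lit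 140488, nat_lit 137620, nat_lit 134316, nat_lit 327680]⟩
def ndMr6_31 : El := ⟨[nat_lit 0xa03968064221d6a6d5f44a0c59822363ad7, nat_lit 0x8bb8e4805915b9404ccb7a9d1233c821d1b6, nat_lit 0xfa59af9bdc080d68499b62c481628f415eb2, nat_lit 0xc5366ab09d098db565e413a4c42a16a78291], [nat_lit 65536, nat_lit 77824, nat_lit 86016, nat_lit 90112, nat_lit 106496, nat_lit 174080, nat_lit 171520, nat_lit 167424, nat_lit 162560, nat_lit 158080, nat_lit 152416, nat_lit 149472, nat_lit 143776, nat_lit 142380, nat_lit 135678, nat_lit 134245, nat_lit 3116, nat_lit 7408, nat_lit 10120, nat_lit 15264, nat_lit 19264, nat_lit 24128, nat_lit 25728, nat_lit 29440, nat_lit 33280, nat_lit 37888, nat_lit 43008, nat_lit 46797, nat_lit 43638, nat_lit 39176, nat_lit 33370, nat_lit 28961, nat_lit 24589, nat_lit 20627, nat_lit 16391, nat_lit 12321, nat_lit 8203, nat_lit 4100, nat_lit 438282, nat_lit 430088, nat_lit 421894, nat_lit 413700, nat_lit 405506, nat_lit 397312, nat_lit 174080, nat_lit 169984, nat_lit 165376,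 nat_lit 159232, nat_lit 154048, nat_lit 150656, nat_lit 145648, nat_lit 139320, nat_lit 137288, nat_lit 132742]⟩
def ndMr6_32 : El := ⟨[nat_lit 0x24e7b84d4926a02b84d828a8f6bd1e3038c5, nat_lit 0x96353589d6ca56c015c236c0899b8a851a4f, nat_lit 0xbe8e7e35408849b373d912a85722e83b0527], [nat_lit 86016, nat_lit 90112, nat_lit 94208, nat_lit 106496, nat_lit 178176, nat_lit 173056, nat_lit 171008, nat_lit 166400, nat_lit 161024, nat_lit 157952, nat_lit 154176, nat_lit 149824, nat_lit 144408, nat_lit 142608, nat_lit 138914, nat_lit 132970, nat_lit 1474, nat_lit 4404, nat_lit 10600, nat_lit 14192, nat_lit 17856, nat_lit 21952, nat_lit 25728, nat_lit 29696, nat_lit 39936, nat_lit 46396, nat_lit 43745, nat_lit 38319, nat_lit 34000, nat_lit 29726, nat_lit 24748, nat_lit 20497, nat_lit 16418, nat_lit 12290, nat_lit 4097, nat_lit 413700, nat_lit 405506, nat_lit 397312, nat_lit 147488, nat_lit 143376, nat_lit 139288, nat_lit 135212, nat_lit 131086, nat_lit 45071, nat_lit 40985, nat_lit 36879, nat_lit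 32817, nat_lit 28691, nat_lit 24591, nat_lit 327680]⟩
def ndMr6_33 : El := ⟨[nat_lit 0xb848776ad0114d9092495b1e2a71805a3ee3, nat_lit 0xeb877d0de6b4d24229da4aa011542c3639e6, nat_lit 0x5f9c09b5ce6185ae031e2252a58ae6944a0a], [nat_lit 69632, nat_lit 73728, nat_lit 77824, nat_lit 81920, nat_lit 90112, nat_lit 94208, nat_lit 102400, nat_lit 169472, nat_lit 166912, nat_lit 161280, nat_lit 157824, nat_lit 151936, nat_lit 147536, nat_lit 144160, nat_lit 142424, nat_lit 138132, nat_lit 131076, nat_lit 1766, nat_lit 7312, nat_lit 8232, nat_lit 14448, nat_lit 16608, nat_lit 22464, nat_lit 26496, nat_lit 32512, nat_lit 33280, nat_lit 39936, nat_lit 45521, nat_lit 41490, nat_lit 37006, nat_lit 34844, nat_lit 28700, nat_lit 24893, nat_lit 16463, nat_lit 12304, nat_lit 8202, nat_lit 4105, nat_lit 413700, nat_lit 405506, nat_lit 397312, nat_lit 147488, nat_lit 143376, nat_lit 139320, nat_lit 135220, nat_lit 131132, nat_lit 45071, nat_lit 40982, nat_lit 36879, nat_lit 32830, nat_lit 28700]⟩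
def ndMr6_34 : El := ⟨[nat_lit 0xc99599b510d7cd50230ab35c11954e30b922, nat_lit 0x4db4e133e4aa541610c373ae2c225b074d05, nat_lit 0x590f39a38202c942aa56f444e3bb613230d6], [nat_lit 65536, nat_lit 73728, nat_lit 81920, nat_lit 90112, nat_lit 94208, nat_lit 106496, nat_lit 110592, nat_lit 178176, nat_lit 174080, nat_lit 170496, nat_lit 164864, nat_lit 161280, nat_lit 159488, nat_lit 154688, nat_lit 149552, nat_lit 145720, nat_lit 143056, nat_lit 137216, nat_lit 135115, nat_lit 3810, nat_lit 8152, nat_lit 11104, nat_lit 20160, nat_lit 23808, nat_lit 25984, nat_lit 30720, nat_lit 34304, nat_lit 43008, nat_lit 46327, nat_lit 43284, nat_lit 36915, nat_lit 32851, nat_lit 28759, nat_lit 24735, nat_lit 21009, nat_lit 16396, nat_lit 12290, nat_lit 8210, nat_lit 417797, nat_lit 409603, nat_lit 397312, nat_lit 151616, nat_lit 147488, nat_lit 143440, nat_lit 135216, nat_lit 131112, nat_lit 45072, nat_lit 40976, nat_lit 36905, nat_lit 32810, nat_lit 28688, nat_lit 327680]⟩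
def ndMr6_35 : El := ⟨[nat_lit 0xd1b1170065149d6580e627b297756cd510c8, nat_lit 0x21142e3066d381915d6d44aae8249c21960f, nat_lit 0x9c3953186f44356fb0aa0312713ca054b1ca], [nat_lit 65536, nat_lit 69632, nat_lit 73728, nat_lit 77824, nat_lit 81920, nat_lit 90112, nat_lit 94208, nat_lit 98304, nat_lit 102400, nat_lit 106496, nat_lit 110592, nat_lit 175104, nat_lit 171008, nat_lit 166400, nat_lit 161664, nat_lit 158016, nat_lit 153088, nat_lit 147488, nat_lit 147296, nat_lit 139564, nat_lit 136518, nat_lit 131269, nat_lit 3386, nat_lit 6144, nat_lit 10736, nat_lit 12480, nat_lit 19328, nat_lit 22656, nat_lit 25088, nat_lit 28928, nat_lit 34304, nat_lit 39936, nat_lit 47099, nat_lit 41580, nat_lit 38120, nat_lit 32898, nat_lit 28971, nat_lit 25644, nat_lit 20498, nat_lit 16424, nat_lit 12294, nat_lit 8200, nat_lit 128, nat_lit 434184, nat_lit 421893, nat_lit 409602, nat_lit 164864, nat_lit 161024, nat_lit 152960, nat_lit 148896, nat_lit 140720, nat_lit 45060, nat_lit 36868, nat_lit 327680]⟩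
def ndMr6_36 : El := ⟨[nat_lit 0xd77811334f38840c829cba4aef458a2a8c89, nat_lit 0x41bd2bbd6766a807321e3942915958270489, nat_lit 0x748bb1744665a2eaad93423600989e72b241], [nat_lit 65536, nat_lit 69632, nat_lit 77824, nat_lit 94208, nat_lit 98304, nat_lit 102400, nat_lit 106496, nat_lit 110592, nat_lit 178176, nat_lit 173056, nat_lit 169472, nat_lit 164096, nat_lit 162816, nat_lit 157504, nat_lit 153952, nat_lit 148096, nat_lit 144496, nat_lit 142788, nat_lit 135528, nat_lit 132900, nat_lit 2476, nat_lit 7124, nat_lit 10184, nat_lit 12416, nat_lit 16992, nat_lit 24064, nat_lit 31232, nat_lit 34304, nat_lit 39936, nat_lit 43008, nat_lit 45744, nat_lit 41860, nat_lit 37012, nat_lit 33873, nat_lit 29018, nat_lit 24874, nat_lit 20490, nat_lit 16453, nat_lit 12305, nat_lit 8193, nat_lit 4097, nat_lit 413700, nat_lit 405506, nat_lit 397312, nat_lit 147488, nat_lit 143392, nat_lit 139312, nat_lit 135220, nat_lit 45071, nat_lit 40982, nat_lit 36879, nat_lit 32817, nat_lit 28691, nat_lit 24591]⟩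
def ndMr6_37 : El := ⟨[nat_lit 0x3af5300a0a2b022c5d4f434a0974c777a9a4, nat_lit 0x63afcf02ecd0a5978ce05248e643ea21a9d4, nat_lit 0xd8b44b91270701560a1f7a2c6d398b1132a9], [nat_lit 65536, nat_lit 81920, nat_lit 102400, nat_lit 110592, nat_lit 171520, nat_lit 164864, nat_lit 160000, nat_lit 158464, nat_lit 154272, nat_lit 148288, nat_lit 145240, nat_lit 139744, nat_lit 135248, nat_lit 132502, nat_lit 902, nat_lit 8064, nat_lit 10104, nat_lit 14048, nat_lit 19296, nat_lit 20800, nat_lit 28160, nat_lit 30976, nat_lit 36352, nat_lit 43008, nat_lit 46289, nat_lit 43735, nat_lit 38338, nat_lit 32957, nat_lit 28692, nat_lit 25144, nat_lit 20569, nat_lit 16451, nat_lit 12289, nat_lit 8208, nat_lit 4101, nat_lit 4, nat_lit 421893, nat_lit 409603, nat_lit 397312, nat_lit 143392, nat_lit 135176, nat_lit 131234, nat_lit 45218, nat_lit 41136, nat_lit 36865, nat_lit 32931, nat_lit 24586, nat_lit 8193, nat_lit 327680]⟩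
def ndMr6_38 : El := ⟨[nat_lit 0xd844441bc3658226b90ac4aaad3a202a4a6e, nat_lit 0xd44d716c8e50d54600e6e65a3748a8442df0, nat_lit 0xb1d447428f74b22008ea4342d213d73a15cd, nat_lit 0x396a96b902cb0de5101534c8e66a1d15d614], [nat_lit 73728, nat_lit 81920, nat_lit 86016, nat_lit 90112, nat_lit 94208, nat_lit 102400, nat_lit 106496, nat_lit 168960, nat_lit 165632, nat_lit 161024, nat_lit 156928, nat_lit 151936, nat_lit 147504, nat_lit 145120, nat_lit 139596, nat_lit 135242, nat_lit 2036, nat_lit 7920, nat_lit 10448, nat_lit 15008, nat_lit 17120, nat_lit 20992, nat_lit 25344, nat_lit 31744, nat_lit 33280, nat_lit 37888, nat_lit 43008, nat_lit 46568, nat_lit 43875, nat_lit 37214, nat_lit 33475, nat_lit 29043, nat_lit 24734, nat_lit 20482, nat_lit 16386, nat_lit 12418, nat_lit 8200, nat_lit 4112, nat_lit 256, nat_lit 434185, nat_lit 425991, nat_lit 417797, nat_lit 409603, nat_lit 397312, nat_lit 164864, nat_lit 160768, nat_lit 156672, nat_lit 153344, nat_lit 149120, nat_lit 136384, nat_lit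 132304, nat_lit 45065, nat_lit 8193]⟩
def ndMr6_39 : El := ⟨[nat_lit 0xf3f9c54d275b9980788f61c028539b289564, nat_lit 0xaf3995b2423d9099a9c3235f7082a681634, nat_lit 0xe214bd7992591ec35ba110a9806a2b4bcc44, nat_lit 0x1ede2293dc62aa681d56d4b2820402725e36], [nat_lit 69632, nat_lit 73728, nat_lit 77824, nat_lit 81920, nat_lit 90112, nat_lit 102400, nat_lit 106496, nat_lit 164352, nat_lit 160384, nat_lit 157120, nat_lit 152864, nat_lit 149248, nat_lit 144784, nat_lit 139592, nat_lit 131144, nat_lit 1794, nat_lit 4740, nat_lit 9992, nat_lit 12880, nat_lit 16448, nat_lit 20544, nat_lit 25216, nat_lit 31744, nat_lit 33280, nat_lit 38912, nat_lit 46296, nat_lit 43651, nat_lit 38307, nat_lit 33293, nat_lit 28999, nat_lit 24846, nat_lit 20546, nat_lit 16423, nat_lit 12308, nat_lit 8211, nat_lit 4, nat_lit 434184, nat_lit 421894, nat_lit 413700, nat_lit 405506, nat_lit 397312, nat_lit 164864, nat_lit 160000, nat_lit 157056, nat_lit 153024, nat_lit 147872, nat_lit 143792, nat_lit 139616, nat_lit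 135632, nat_lit 131420, nat_lit 46170, nat_lit 37017]⟩
def ndMr6_40 : El := ⟨[nat_lit 0x9af0aaa2ad359e45654836c10f309d708131, nat_lit 0xd888ee19260ac0b77c8ccb350148a8e5aa27, nat_lit 0x6a09a12281232434d9cd9980f2aea785d51, nat_lit 0x174212832b203a834cc4435de56ad5641c31], [nat_lit 77824, nat_lit 81920, nat_lit 90112, nat_lit 94208, nat_lit 110592, nat_lit 178176, nat_lit 174080, nat_lit 168448, nat_lit 164864, nat_lit 161664, nat_lit 158592, nat_lit 154880, nat_lit 149856, nat_lit 145632, nat_lit 141048, nat_lit 139106, nat_lit 133478, nat_lit 870, nat_lit 8008, nat_lit 11272, nat_lit 13536, nat_lit 19264, nat_lit 20672, nat_lit 27520, nat_lit 31744, nat_lit 33280, nat_lit 39936, nat_lit 43008, nat_lit 45881, nat_lit 41590, nat_lit 38289, nat_lit 33298, nat_lit 28969, nat_lit 24758, nat_lit 20551, nat_lit 16397, nat_lit 12306, nat_lit 8194, nat_lit 4097, nat_lit 2, nat_lit 430088, nat_lit 421894, nat_lit 413700, nat_lit 405506, nat_lit 397312, nat_lit 160512, nat_lit 156416, nat_lit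 151872, nat_lit 148128, nat_lit 144064, nat_lit 140160, nat_lit 135348, nat_lit 131214, nat_lit 45411, nat_lit 41510, nat_lit 327680]⟩
def ndMr6_41 : El := ⟨[nat_lit 0xfaa95f455949ae4f1de250b540b08d0391c9, nat_lit 0x27bb44b929014806586ac8b5e540ece524f3, nat_lit 0x12b1844cc07855d10dde36d10b2919632852, nat_lit 0xc56ca324265348f14a1cd63d4ba82e30d854], [nat_lit 65536, nat_lit 81920, nat_lit 106496, nat_lit 171520, nat_lit 164096, nat_lit 161664, nat_lit 155840, nat_lit 152352, nat_lit 147552, nat_lit 145720, nat_lit 131328, nat_lit 3202, nat_lit 7764, nat_lit 9208, nat_lit 14736, nat_lit 18240, nat_lit 20544, nat_lit 27520, nat_lit 29184, nat_lit 36352, nat_lit 37888, nat_lit 45400, nat_lit 41440, nat_lit 37135, nat_lit 33433, nat_lit 28974, nat_lit 24592, nat_lit 20481, nat_lit 16393, nat_lit 12289, nat_lit 8448, nat_lit 4101, nat_lit 2, nat_lit 430088, nat_lit 421894, nat_lit 413700, nat_lit 405506, nat_lit 397312, nat_lit 160512, nat_lit 156032, nat_lit 152128, nat_lit 147776,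 nat_lit 143840, nat_lit 139920, nat_lit 135372, nat_lit 131600, nat_lit 45276, nat_lit 41876]⟩
def ndMr6_42 : El := ⟨[nat_lit 0x711eb472422b21b49c1ea91c7561165b9811, nat_lit 0x9f5aca96d119e61641c44496653454025f7, nat_lit 0x28ddd804dd213eb7859441b4e54312135171, nat_lit 0x6aa5631c5a7ab1caa2cc5822f30be44026c2], [nat_lit 69632, nat_lit 73728, nat_lit 81920, nat_lit 94208, nat_lit 98304, nat_lit 102400, nat_lit 178176, nat_lit 173056, nat_lit 169472, nat_lit 164352, nat_lit 158016, nat_lit 151744, nat_lit 148752, nat_lit 144840, nat_lit 140572, nat_lit 138070, nat_lit 131139, nat_lit 1098, nat_lit 8100, nat_lit 10920, nat_lit 12480, nat_lit 17792, nat_lit 23552, nat_lit 25600, nat_lit 30720, nat_lit 33792, nat_lit 47020, nat_lit 41506, nat_lit 38059, nat_lit 35013, nat_lit 29271, nat_lit 24618, nat_lit 20491, nat_lit 16526, nat_lit 12290, nat_lit 32, nat_lit 430088, nat_lit 421894, nat_lit 413700, nat_lit 405506, nat_lit 397312, nat_lit 151616, nat_lit 143408, nat_lit 139936, nat_lit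 135356, nat_lit 131184, nat_lit 45411, nat_lit 41161, nat_lit 327680]⟩
def ndMr6_43 : El := ⟨[nat_lit 0xac65ccac80aa3cd6616333a16e4c037191a2, nat_lit 0x69ac59696b0a30f3406f612c86926237a9c0, nat_lit 0x6566c971ae3b1da14ca70a888c52171281f4, nat_lit 0xe84d1d30eafa30e1514914805045ed36ba4b], [nat_lit 73728, nat_lit 98304, nat_lit 102400, nat_lit 110592, nat_lit 168448, nat_lit 165120, nat_lit 161280, nat_lit 156352, nat_lit 152896, nat_lit 148736, nat_lit 144832, nat_lit 140988, nat_lit 136882, nat_lit 131138, nat_lit 1386, nat_lit 4544, nat_lit 11720, nat_lit 14496, nat_lit 17248, nat_lit 26112, nat_lit 29184, nat_lit 34304, nat_lit 38912, nat_lit 46894, nat_lit 41346, nat_lit 39012, nat_lit 32931, nat_lit 28752, nat_lit 24635, nat_lit 20549, nat_lit 16431, nat_lit 12324, nat_lit 4105, nat_lit 430088, nat_lit 421894, nat_lit 413700, nat_lit 405506, nat_lit 397312, nat_lit 156544, nat_lit 152384, nat_lit 148256, nat_lit 143376, nat_lit 139528, nat_lit 135280, nat_lit 132076, nat_lit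 45568, nat_lit 41908]⟩
def ndMr6_44 : El := ⟨[nat_lit 0xbdb4ee0d4a7b818e491f06aa4698ed15a054, nat_lit 0x66066f98609509cf644b75808645075959a7, nat_lit 0xde4e18040caa250e21d950b6c25c8a3bc66f, nat_lit 0xded78bb488585d69128cc385c81c6806be75], [nat_lit 73728, nat_lit 81920, nat_lit 86016, nat_lit 90112, nat_lit 106496, nat_lit 178176, nat_lit 174080, nat_lit 168448, nat_lit 166144, nat_lit 160256, nat_lit 157952, nat_lit 151744, nat_lit 150544, nat_lit 144016, nat_lit 139436, nat_lit 136400, nat_lit 132015, nat_lit 2002, nat_lit 6356, nat_lit 10256, nat_lit 15344, nat_lit 18432, nat_lit 21696, nat_lit 24832, nat_lit 32256, nat_lit 33280, nat_lit 46809, nat_lit 41787, nat_lit 37931, nat_lit 33452, nat_lit 28949, nat_lit 26681, nat_lit 20488, nat_lit 16385, nat_lit 12321, nat_lit 8194, nat_lit 430088, nat_lit 421894, nat_lit 413700, nat_lit 405506, nat_lit 397312, nat_lit 160256, nat_lit 156032, nat_lit 152192, nat_lit 147712, nat_lit 143760, nat_lit 139384, nat_lit 135960, nat_lit 131896,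 nat_lit 46009, nat_lit 41216, nat_lit 327680]⟩
def ndMr6_45 : El := ⟨[nat_lit 0xa6a500032c8741a7bd644a3d232c4229994b, nat_lit 0xd28488a88051add19a5a1a11ec522e63da12, nat_lit 0xebe11121a8e8a045abe705dd2d1c94765801, nat_lit 0x4d2d720b6e9749e502d963c6b444cca80c44], [nat_lit 77824, nat_lit 81920, nat_lit 86016, nat_lit 106496, nat_lit 110592, nat_lit 173056, nat_lit 168960, nat_lit 164608, nat_lit 160896, nat_lit 156672, nat_lit 154912, nat_lit 149824, nat_lit 146664, nat_lit 139308, nat_lit 137782, nat_lit 134373, nat_lit 322, nat_lit 5760, nat_lit 11672, nat_lit 13984, nat_lit 17472, nat_lit 22272, nat_lit 24960, nat_lit 28928, nat_lit 34304, nat_lit 37888, nat_lit 43008, nat_lit 46485, nat_lit 41123, nat_lit 37208, nat_lit 33366, nat_lit 28718, nat_lit 25143, nat_lit 20507, nat_lit 16399, nat_lit 12310, nat_lit 8193, nat_lit 4113, nat_lit 4, nat_lit 434185, nat_lit 425991, nat_lit 417797, nat_lit 409603, nat_lit 397312, nat_lit 164864, nat_lit 160768, nat_lit 152960, nat_lit 149088,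 nat_lit 137120, nat_lit 132368, nat_lit 45570, nat_lit 8194]⟩
def ndMr6_46 : El := ⟨[nat_lit 0x5a95f901679b2f0885254554e1d04f311b6, nat_lit 0xd418b7696563b2373428e991f54a80808d62, nat_lit 0xa5c5a640e130396f1114665a458b6e7a0535, nat_lit 0xaa09fc9bcad031175d1c254527256d230e01], [nat_lit 69632, nat_lit 77824, nat_lit 81920, nat_lit 86016, nat_lit 98304, nat_lit 102400, nat_lit 110592, nat_lit 178176, nat_lit 174080, nat_lit 171008, nat_lit 167424, nat_lit 160128, nat_lit 156480, nat_lit 152576, nat_lit 149216, nat_lit 138192, nat_lit 134256, nat_lit 1906, nat_lit 5696, nat_lit 8504, nat_lit 15488, nat_lit 17632, nat_lit 23424, nat_lit 27136, nat_lit 32512, nat_lit 33792, nat_lit 46993, nat_lit 41922, nat_lit 38322, nat_lit 34002, nat_lit 28723, nat_lit 24618, nat_lit 20555, nat_lit 16387, nat_lit 12292, nat_lit 8194, nat_lit 4097, nat_lit 434184, nat_lit 421894, nat_lit 413700, nat_lit 405506, nat_lit 397312, nat_lit 161024, nat_lit 155776, nat_lit 153024, nat_lit 147552, nat_lit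 143680, nat_lit 139608, nat_lit 135672, nat_lit 132370, nat_lit 45088, nat_lit 37049]⟩
def ndMr6_47 : El := ⟨[nat_lit 0xd8781e898b05b9e910ef6431aa24e470d680, nat_lit 0x5996559b8b54b06fbc4cd21c4aa01165c241, nat_lit 0x7eeeb48d1124805583cc322ee76594e2b661, nat_lit 0xd17dbd1c422a990d9426061eeb2d12f511d6], [nat_lit 65536, nat_lit 69632, nat_lit 73728, nat_lit 81920, nat_lit 102400, nat_lit 106496, nat_lit 175104, nat_lit 168960, nat_lit 165120, nat_lit 162816, nat_lit 157248, nat_lit 152416, nat_lit 151072, nat_lit 147032, nat_lit 140440, nat_lit 136714, nat_lit 134358, nat_lit 4060, nat_lit 7036, nat_lit 9704, nat_lit 13408, nat_lit 17408, nat_lit 23040, nat_lit 26112, nat_lit 30976, nat_lit 36352, nat_lit 39936, nat_lit 43008, nat_lit 46464, nat_lit 41607, nat_lit 38300, nat_lit 33428, nat_lit 28729, nat_lit 24577, nat_lit 20486, nat_lit 12419, nat_lit 4104, nat_lit 64, nat_lit 430088, nat_lit 421894, nat_lit 413700, nat_lit 405506, nat_lit 397312, nat_lit 164352, nat_lit 160000,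 nat_lit 156544, nat_lit 151936, nat_lit 143632, nat_lit 139872, nat_lit 136100, nat_lit 131782, nat_lit 45192, nat_lit 41111]⟩
def ndMr6_48 : El := ⟨[nat_lit 0x47de1412d53802b43dde82c4c1692c993983, nat_lit 0x421ed77c2a83d2e02346c74ac9994510acca, nat_lit 0xc30f630545393aef285a9890d619d0c8516a, nat_lit 0x9f309671d131a6ca5962cb80c40b5f514a14], [nat_lit 65536, nat_lit 77824, nat_lit 81920, nat_lit 86016, nat_lit 90112, nat_lit 98304, nat_lit 106496, nat_lit 173056, nat_lit 169984, nat_lit 166912, nat_lit 162432, nat_lit 156544, nat_lit 153984, nat_lit 148720, nat_lit 146408, nat_lit 142308, nat_lit 135486, nat_lit 133475, nat_lit 3522, nat_lit 6972, nat_lit 11784, nat_lit 15360, nat_lit 18624, nat_lit 22272, nat_lit 25216, nat_lit 31744, nat_lit 35328, nat_lit 39936, nat_lit 46853, nat_lit 43524, nat_lit 36992, nat_lit 33794, nat_lit 29297, nat_lit 24720, nat_lit 20560, nat_lit 16429, nat_lit 12308, nat_lit 8208, nat_lit 4352, nat_lit 2, nat_lit 434184, nat_lit 421894, nat_lit 413700,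 nat_lit 405506, nat_lit 397312, nat_lit 160000, nat_lit 152832, nat_lit 148672, nat_lit 135312, nat_lit 131404, nat_lit 45135, nat_lit 36865]⟩
def ndMr6_49 : El := ⟨[nat_lit 0x9a0f55a4544614e168d09ab817b2e069bc52, nat_lit 0x60aa37d03723847b40c999555945804346b, nat_lit 0x36563c10e4e2be0409ea9bd22d358085b153, nat_lit 0xe87e489d1e534596709ab4c810bd54120d07], [nat_lit 65536, nat_lit 77824, nat_lit 81920, nat_lit 86016, nat_lit 106496, nat_lit 178176, nat_lit 169984, nat_lit 166400, nat_lit 158464, nat_lit 152032, nat_lit 151360, nat_lit 146376, nat_lit 141272, nat_lit 138182, nat_lit 133067, nat_lit 2128, nat_lit 5976, nat_lit 10952, nat_lit 12672, nat_lit 18464, nat_lit 20864, nat_lit 26624, nat_lit 28928, nat_lit 33280, nat_lit 38912, nat_lit 46976, nat_lit 43903, nat_lit 39163, nat_lit 32889, nat_lit 28738, nat_lit 24637, nat_lit 20494, nat_lit 16452, nat_lit 12289, nat_lit 8194, nat_lit 8, nat_lit 430088, nat_lit 421894, nat_lit 413700, nat_lit 405506, nat_lit 397312, nat_lit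 164352, nat_lit 160512, nat_lit 156416, nat_lit 152512, nat_lit 147648, nat_lit 143600, nat_lit 139480, nat_lit 135428, nat_lit 131758, nat_lit 45781, nat_lit 41747, nat_lit 327680]⟩
def ndMr6_50 : El := ⟨[nat_lit 0x481d4125e2e9ae0238d254342c93ec6aaa80, nat_lit 0x666f0c145ec48173204d0ba8ae434f4ac876, nat_lit 0xf9693a0e08a8669b91d62804d919f152cec, nat_lit 0x509cf933d85524203b48e85eb242c628da74], [nat_lit 69632, nat_lit 77824, nat_lit 81920, nat_lit 90112, nat_lit 94208, nat_lit 98304, nat_lit 106496, nat_lit 178176, nat_lit 173056, nat_lit 170496, nat_lit 165632, nat_lit 160768, nat_lit 156544, nat_lit 152928, nat_lit 149136, nat_lit 143880, nat_lit 139780, nat_lit 137884, nat_lit 131602, nat_lit 242, nat_lit 5072, nat_lit 8664, nat_lit 15952, nat_lit 20224, nat_lit 21312, nat_lit 25600, nat_lit 31744, nat_lit 34304, nat_lit 39936, nat_lit 43008, nat_lit 47093, nat_lit 41845, nat_lit 38142, nat_lit 33480, nat_lit 29308, nat_lit 24614, nat_lit 20486, nat_lit 16391, nat_lit 12805,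 nat_lit 8193, nat_lit 4, nat_lit 430088, nat_lit 421894, nat_lit 413700, nat_lit 405506, nat_lit 397312, nat_lit 164352, nat_lit 160256, nat_lit 156416, nat_lit 152384, nat_lit 147520, nat_lit 144224, nat_lit 140136, nat_lit 135336, nat_lit 131302, nat_lit 45438, nat_lit 41610]⟩
def ndMr6_51 : El := ⟨[nat_lit 0x3cf09c0a1e672483936cca026252e15894f7, nat_lit 0x33660fb1a07ac5ed9d060710490956c55d12, nat_lit 0xa0505c1a0018d1c72c9f585d861254b9d9a4, nat_lit 0xf3356f8a64d399c81054c1d4b025e607d176], [nat_lit 69632, nat_lit 81920, nat_lit 90112, nat_lit 110592, nat_lit 173056, nat_lit 169472, nat_lit 164352, nat_lit 160256, nat_lit 158592, nat_lit 152096, nat_lit 147968, nat_lit 147232, nat_lit 141176, nat_lit 139040, nat_lit 135036, nat_lit 1966, nat_lit 6968, nat_lit 9616, nat_lit 14656, nat_lit 16928, nat_lit 20928, nat_lit 26752, nat_lit 29696, nat_lit 33792, nat_lit 38912, nat_lit 43008, nat_lit 46805, nat_lit 43197, nat_lit 38222, nat_lit 33491, nat_lit 29053, nat_lit 24853, nat_lit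 20486, nat_lit 16389, nat_lit 12291, nat_lit 8194, nat_lit 434184, nat_lit 421894, nat_lit 413700, nat_lit 405506, nat_lit 397312, nat_lit 164864, nat_lit 155904, nat_lit 151808, nat_lit 147552, nat_lit 144864, nat_lit 140352, nat_lit 135636, nat_lit 131362, nat_lit 46535, nat_lit 37077]⟩
def ndMr6_52 : El := ⟨[nat_lit 0x56a50f459570382f6886c340f2aa5742cc91, nat_lit 0x3af5304890b0054364ac77c284bb4b133ab3, nat_lit 0x787274726601d082622415dd45856277b6c6], [nat_lit 65536, nat_lit 69632, nat_lit 73728, nat_lit 86016, nat_lit 98304, nat_lit 102400, nat_lit 178176, nat_lit 175104, nat_lit 171520, nat_lit 165632, nat_lit 162176, nat_lit 159104, nat_lit 152288, nat_lit 151424, nat_lit 146272, nat_lit 142740, nat_lit 138536, nat_lit 131135, nat_lit 372, nat_lit 5772, nat_lit 11920, nat_lit 13392, nat_lit 19584, nat_lit 21568, nat_lit 28544, nat_lit 32000, nat_lit 34816, nat_lit 43008, nat_lit 46391, nat_lit 43008, nat_lit 37351, nat_lit 33360, nat_lit 28983, nat_lit 24581, nat_lit 20495,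 nat_lit 16640, nat_lit 12291, nat_lit 8211, nat_lit 4105, nat_lit 417797, nat_lit 405506, nat_lit 397312, nat_lit 143456, nat_lit 139272, nat_lit 135244, nat_lit 131148, nat_lit 45058, nat_lit 40962, nat_lit 36963, nat_lit 32879, nat_lit 16397, nat_lit 327680]⟩
def ndMr6_53 : El := ⟨[nat_lit 0x5af9fcb4877ab8aa4c4286c1e024ce25d186, nat_lit 0x2bbd7eb38495bc776a281392069466560155, nat_lit 0x2e8d4d806605992490871a5dae514e8abd96], [nat_lit 65536, nat_lit 81920, nat_lit 86016, nat_lit 98304, nat_lit 106496, nat_lit 110592, nat_lit 178176, nat_lit 174080, nat_lit 166400, nat_lit 160640, nat_lit 157120, nat_lit 152800, nat_lit 150976, nat_lit 144384, nat_lit 142188, nat_lit 137450, nat_lit 132778, nat_lit 1730, nat_lit 4320, nat_lit 11664, nat_lit 13232, nat_lit 17120, nat_lit 24512, nat_lit 27264, nat_lit 31232, nat_lit 35328, nat_lit 45480, nat_lit 41441, nat_lit 37372, nat_lit 33461, nat_lit 28728, nat_lit 24844, nat_lit 20623, nat_lit 16427, nat_lit 12306, nat_lit 4105, nat_lit 425989,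 nat_lit 405506, nat_lit 397312, nat_lit 151808, nat_lit 139520, nat_lit 135200, nat_lit 131368, nat_lit 45071, nat_lit 28687]⟩
def ndMr6_54 : El := ⟨[nat_lit 0x1d28e753a85434f759aacb3d241ce300c802, nat_lit 0x3f09564a14b214e6b52f5008619427163dae], [nat_lit 65536, nat_lit 69632, nat_lit 73728, nat_lit 81920, nat_lit 86016, nat_lit 90112, nat_lit 110592, nat_lit 178176, nat_lit 174080, nat_lit 168960, nat_lit 164608, nat_lit 160128, nat_lit 158656, nat_lit 151872, nat_lit 147632, nat_lit 144880, nat_lit 140300, nat_lit 137268, nat_lit 133190, nat_lit 3628, nat_lit 8152, nat_lit 8976, nat_lit 14144, nat_lit 16480, nat_lit 21248, nat_lit 25984, nat_lit 30976, nat_lit 36352, nat_lit 37888, nat_lit 45203, nat_lit 41426, nat_lit 37320, nat_lit 32980, nat_lit 28728, nat_lit 24847, nat_lit 20612, nat_lit 16425, nat_lit 12322, nat_lit 8203, nat_lit 4104, nat_lit 425989, nat_lit 409600, nat_lit 151808, nat_lit 147744, nat_lit 131088, nat_lit 40976, nat_lit 28688, nat_lit 12289, nat_lit 8193,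 nat_lit 4097, nat_lit 327680]⟩
def ndMr6_55 : El := ⟨[nat_lit 0xb482e741eed1480133175b3c89551c51c613, nat_lit 0xafa0a39ca306b9ec00823314e4a5ed54a968], [nat_lit 86016, nat_lit 94208, nat_lit 98304, nat_lit 178176, nat_lit 169472, nat_lit 164864, nat_lit 162688, nat_lit 158464, nat_lit 152928, nat_lit 148368, nat_lit 145488, nat_lit 141856, nat_lit 136124, nat_lit 133955, nat_lit 1928, nat_lit 4340, nat_lit 9584, nat_lit 14928, nat_lit 19584, nat_lit 24320, nat_lit 27392, nat_lit 30208, nat_lit 34304, nat_lit 37888, nat_lit 43008, nat_lit 46635, nat_lit 41565, nat_lit 38215, nat_lit 33434, nat_lit 28693, nat_lit 25656, nat_lit 20550, nat_lit 16393, nat_lit 12289, nat_lit 8256, nat_lit 4097, nat_lit 2, nat_lit 425989, nat_lit 409600, nat_lit 151808, nat_lit 147744, nat_lit 131088, nat_lit 40976, nat_lit 28688, nat_lit 12289, nat_lit 8193, nat_lit 4097]⟩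
def ndMr6_56 : El := ⟨[nat_lit 0xbdbbe1b52b710c01290c77b1cd8467252568, nat_lit 0x35aff69ca11298e4a5ed508c4063dcd4ad48], [nat_lit 65536, nat_lit 73728, nat_lit 77824, nat_lit 81920, nat_lit 86016, nat_lit 102400, nat_lit 110592, nat_lit 178176, nat_lit 175104, nat_lit 165888, nat_lit 161536, nat_lit 159552, nat_lit 155168, nat_lit 149792, nat_lit 147144, nat_lit 139988, nat_lit 138622, nat_lit 133197, nat_lit 3008, nat_lit 7764, nat_lit 10456, nat_lit 15760, nat_lit 19776, nat_lit 23168, nat_lit 27392, nat_lit 32256, nat_lit 35840, nat_lit 37888, nat_lit 43008, nat_lit 45067, nat_lit 41600, nat_lit 38347, nat_lit 33314, nat_lit 29776, nat_lit 24720, nat_lit 20499, nat_lit 16421, nat_lit 12289, nat_lit 8194, nat_lit 4100, nat_lit 425989, nat_lit 409600, nat_lit 151808, nat_lit 147744, nat_lit 131088, nat_lit 40976, nat_lit 28688, nat_lit 12289, nat_lit 8193, nat_lit 4097, nat_lit 327680]⟩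
def ndMr6_57 : El := ⟨[nat_lit 0xe2d817310e594e3008c027b5ccb5eb44a14b, nat_lit 0xc9cfaf635ee5212b8ce50394c4a5af500443], [nat_lit 173056, nat_lit 171520, nat_lit 167424, nat_lit 159872, nat_lit 159680, nat_lit 155200, nat_lit 148320, nat_lit 145536, nat_lit 140140, nat_lit 139154, nat_lit 132048, nat_lit 1874, nat_lit 7364, nat_lit 12120, nat_lit 12432, nat_lit 19904, nat_lit 21248, nat_lit 26368, nat_lit 29952, nat_lit 36352, nat_lit 38912, nat_lit 43008, nat_lit 45061, nat_lit 41861, nat_lit 37078, nat_lit 34016, nat_lit 29190, nat_lit 24599, nat_lit 20748, nat_lit 16454, nat_lit 12325, nat_lit 8203, nat_lit 4, nat_lit 425989, nat_lit 409600, nat_lit 151808, nat_lit 147744, nat_lit 131088, nat_lit 40976, nat_lit 28688, nat_lit 12289, nat_lit 8193, nat_lit 4097]⟩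
def ndMr6_58 : El := ⟨[nat_lit 0x141eee42a2678ac91dd6e3d2b32b20d09240, nat_lit 0x65a59363dcd5a149394c418402bd69684653], [nat_lit 69632, nat_lit 73728, nat_lit 77824, nat_lit 86016, nat_lit 94208, nat_lit 98304, nat_lit 106496, nat_lit 110592, nat_lit 174080, nat_lit 171008, nat_lit 166400, nat_lit 159872, nat_lit 157888, nat_lit 153536, nat_lit 149360, nat_lit 147104, nat_lit 142240, nat_lit 138796, nat_lit 131722, nat_lit 568, nat_lit 6828, nat_lit 12136, nat_lit 16352, nat_lit 17472, nat_lit 21248, nat_lit 25472, nat_lit 30720, nat_lit 35328, nat_lit 38912, nat_lit 45071, nat_lit 41728, nat_lit 37076, nat_lit 32960, nat_lit 28992, nat_lit 24580, nat_lit 20504, nat_lit 12293, nat_lit 8194, nat_lit 4100, nat_lit 8, nat_lit 425989, nat_lit 409600, nat_lit 151808, nat_lit 147744, nat_lit 131088, nat_lit 40976, nat_lit 28688, nat_lit 12289, nat_lit 8193, nat_lit 4097]⟩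
def ndMr6_59 : El := ⟨[nat_lit 0xde8d4275a2aabe6b85da9a490c014c720c41, nat_lit 0xc3aaaa7b9ac10403398a4ad2f69ca305250b], [nat_lit 65536, nat_lit 77824, nat_lit 86016, nat_lit 94208, nat_lit 102400, nat_lit 106496, nat_lit 110592, nat_lit 178176, nat_lit 174080, nat_lit 169984, nat_lit 160256, nat_lit 159168, nat_lit 153120, nat_lit 150624, nat_lit 144816, nat_lit 141656, nat_lit 136010, nat_lit 134660, nat_lit 2304, nat_lit 4412, nat_lit 10312, nat_lit 12400, nat_lit 20192, nat_lit 22784, nat_lit 28544, nat_lit 30976, nat_lit 37888, nat_lit 43008, nat_lit 45090, nat_lit 41542, nat_lit 37352, nat_lit 32871, nat_lit 28687, nat_lit 24873, nat_lit 20485, nat_lit 12356, nat_lit 8225, nat_lit 4104, nat_lit 425989, nat_lit 409600, nat_lit 151808, nat_lit 147744, nat_lit 131088, nat_lit 40976, nat_lit 28688, nat_lit 12289, nat_lit 8193, nat_lit 4097]⟩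
def ndMr6_60 : El := ⟨[nat_lit 0xe11d784bd88a58606a9cb2ca24106f599e06, nat_lit 0x7e1ebb50560b9cd4732117ce4d18928a90b6], [nat_lit 69632, nat_lit 73728, nat_lit 77824, nat_lit 81920, nat_lit 98304, nat_lit 102400, nat_lit 106496, nat_lit 174080, nat_lit 171008, nat_lit 162688, nat_lit 158400, nat_lit 151584, nat_lit 148416, nat_lit 145432, nat_lit 140768, nat_lit 137524, nat_lit 133991, nat_lit 790, nat_lit 8036, nat_lit 9864, nat_lit 16352, nat_lit 18720, nat_lit 22592, nat_lit 25088, nat_lit 31744, nat_lit 34304, nat_lit 37888, nat_lit 47088, nat_lit 43049, nat_lit 38139, nat_lit 32804, nat_lit 29737, nat_lit 24632, nat_lit 16395, nat_lit 12305, nat_lit 8449, nat_lit 4097, nat_lit 425989, nat_lit 409600, nat_lit 131360, nat_lit 40992, nat_lit 28688, nat_lit 24577, nat_lit 12289, nat_lit 327680]⟩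
def ndMr6_61 : El := ⟨[nat_lit 0xd418b745a8b3bcce98c518024155d35615a4, nat_lit 0xa9a05a5ed529cc45a9096bd8e104608ce12], [nat_lit 65536, nat_lit 69632, nat_lit 77824, nat_lit 90112, nat_lit 98304, nat_lit 102400, nat_lit 106496, nat_lit 110592, nat_lit 175104, nat_lit 171520, nat_lit 164864, nat_lit 162176, nat_lit 156288, nat_lit 155520, nat_lit 149872, nat_lit 145080, nat_lit 142344, nat_lit 135746, nat_lit 134557, nat_lit 1024, nat_lit 7324, nat_lit 8408, nat_lit 13152, nat_lit 17696, nat_lit 22592, nat_lit 25728, nat_lit 33280, nat_lit 37888, nat_lit 43008, nat_lit 45063, nat_lit 41957, nat_lit 37245, nat_lit 32883, nat_lit 28690, nat_lit 24592, nat_lit 20483, nat_lit 16462, nat_lit 12295, nat_lit 8200, nat_lit 4097, nat_lit 2, nat_lit 425989, nat_lit 409600, nat_lit 151808, nat_lit 147744, nat_lit 131088, nat_lit 40976, nat_lit 28688, nat_lit 12289, nat_lit 8193, nat_lit 4097]⟩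
def ndMr6_62 : El := ⟨[nat_lit 0xc63f5041d24752ac9c422042435a8a6b3db7, nat_lit 0xeeed87290c71802252d286b1cfa56f68ca70], [nat_lit 65536, nat_lit 86016, nat_lit 94208, nat_lit 98304, nat_lit 106496, nat_lit 178176, nat_lit 171008, nat_lit 164608, nat_lit 163456, nat_lit 156928, nat_lit 152480, nat_lit 148752, nat_lit 146280, nat_lit 139352, nat_lit 138364, nat_lit 134099, nat_lit 820, nat_lit 5768, nat_lit 12176, nat_lit 15696, nat_lit 17088, nat_lit 22528, nat_lit 25728, nat_lit 29952, nat_lit 35840, nat_lit 39936, nat_lit 46845, nat_lit 43856, nat_lit 39093, nat_lit 33845, nat_lit 28987, nat_lit 24580, nat_lit 20619, nat_lit 16650, nat_lit 12324, nat_lit 8194, nat_lit 128, nat_lit 425989, nat_lit 409600, nat_lit 131360, nat_lit 40976, nat_lit 28688, nat_lit 12289, nat_lit 8193, nat_lit 4097]⟩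
def ndMr6_63 : El := ⟨[], []⟩
def ndMg7_0 : El := ⟨[nat_lit 0xa65aff245afab849184f23226b0598abd205, nat_lit 0xf06663958ce180480a56a9b0f5b922f834b4, nat_lit 0xb2dd82752f2990ac41aa182d4f1c5a2482c7], [nat_lit 86016, nat_lit 106496, nat_lit 168448, nat_lit 165632, nat_lit 161536, nat_lit 158592, nat_lit 154304, nat_lit 147520, nat_lit 143856, nat_lit 141824, nat_lit 135464, nat_lit 133845, nat_lit 2760, nat_lit 5076, nat_lit 10408, nat_lit 16208, nat_lit 18368, nat_lit 21632, nat_lit 25856, nat_lit 29952, nat_lit 34304, nat_lit 43008, nat_lit 46067, nat_lit 41939, nat_lit 38132, nat_lit 33447, nat_lit 28947, nat_lit 25653, nat_lit 20550, nat_lit 16517, nat_lit 12292, nat_lit 8201, nat_lit 4112, nat_lit 4, nat_lit 430085, nat_lit 405506, nat_lit 397312, nat_lit 152064, nat_lit 143392, nat_lit 139272, nat_lit 135200, nat_lit 131082, nat_lit 45583, nat_lit 41519, nat_lit 32800, nat_lit 28704, nat_lit 24608, nat_lit 16389, nat_lit 327680]⟩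
def ndMg7_1 : El := ⟨[nat_lit 0x3665693b8298d9ec90aa342e172280d9d0a6, nat_lit 0x74b8e443283059e969a6e5c0ea20452adcb1], [nat_lit 65536, nat_lit 69632, nat_lit 73728, nat_lit 77824, nat_lit 81920, nat_lit 86016, nat_lit 90112, nat_lit 102400, nat_lit 110592, nat_lit 178176, nat_lit 175104, nat_lit 168960, nat_lit 164864, nat_lit 161024, nat_lit 159616, nat_lit 155488, nat_lit 148992, nat_lit 146816, nat_lit 140584, nat_lit 136408, nat_lit 132272, nat_lit 2576, nat_lit 4804, nat_lit 11256, nat_lit 15168, nat_lit 17952, nat_lit 20544, nat_lit 24960, nat_lit 29696, nat_lit 33280, nat_lit 38912, nat_lit 43008, nat_lit 46811, nat_lit 41275, nat_lit 37230, nat_lit 32870, nat_lit 30720, nat_lit 24615, nat_lit 20551, nat_lit 16522, nat_lit 12289, nat_lit 8195, nat_lit 4100, nat_lit 417797, nat_lit 397312, nat_lit 135264, nat_lit 131138, nat_lit 40992, nat_lit 36963, nat_lit 32832, nat_lit 28704, nat_lit 16385, nat_lit 327680]⟩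
def ndMg7_2 : El := ⟨[nat_lit 0x9c639aa924a705ec35e6bb44e91804d2d208, nat_lit 0xac56993d91055cd24c6857882324eab731a0, nat_lit 0x96a3a911e804c181755a6412ca92c6f8de65], [nat_lit 73728, nat_lit 77824, nat_lit 81920, nat_lit 86016, nat_lit 94208, nat_lit 178176, nat_lit 171520, nat_lit 166912, nat_lit 160384, nat_lit 155712, nat_lit 152608, nat_lit 150576, nat_lit 146688, nat_lit 139504, nat_lit 136556, nat_lit 132830, nat_lit 1030, nat_lit 6648, nat_lit 10272, nat_lit 14816, nat_lit 20128, nat_lit 22848, nat_lit 25088, nat_lit 35328, nat_lit 39936, nat_lit 43008, nat_lit 46112, nat_lit 41899, nat_lit 36898, nat_lit 32875, nat_lit 29728, nat_lit 24585, nat_lit 20747, nat_lit 16391, nat_lit 12352, nat_lit 8211, nat_lit 8, nat_lit 413700, nat_lit 405506, nat_lit 397312, nat_lit 139320, nat_lit 135196, nat_lit 131112, nat_lit 45077, nat_lit 40992, nat_lit 36890, nat_lit 32800, nat_lit 28725, nat_lit 24608, nat_lit 327680]⟩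
def ndMg7_3 : El := ⟨[nat_lit 0x66353a34d1022843a5d65ab4128d82e4b0ef, nat_lit 0xee1278abdcd9196365a970160a890490cd07, nat_lit 0xc965967cc96a017731d416090e955a582471], [nat_lit 65536, nat_lit 69632, nat_lit 81920, nat_lit 94208, nat_lit 106496, nat_lit 174080, nat_lit 170496, nat_lit 166144, nat_lit 163200, nat_lit 159104, nat_lit 154944, nat_lit 149840, nat_lit 145336, nat_lit 141088, nat_lit 138398, nat_lit 132598, nat_lit 3294, nat_lit 5472, nat_lit 12224, nat_lit 13536, nat_lit 18528, nat_lit 20864, nat_lit 25088, nat_lit 28928, nat_lit 35328, nat_lit 39936, nat_lit 43008, nat_lit 46513, nat_lit 41739, nat_lit 38272, nat_lit 33003, nat_lit 28928, nat_lit 24762, nat_lit 20619, nat_lit 16385, nat_lit 12416, nat_lit 8195, nat_lit 4101, nat_lit 413700, nat_lit 405506, nat_lit 397312, nat_lit 139320, nat_lit 135196, nat_lit 131112, nat_lit 45077, nat_lit 40992, nat_lit 36890, nat_lit 32800, nat_lit 28725, nat_lit 24608]⟩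
def ndMg7_4 : El := ⟨[nat_lit 0xed144d6b022039e329af452632b12a78226b, nat_lit 0x2eeb216cec064a82556e719101339e92ae30], [nat_lit 65536, nat_lit 69632, nat_lit 77824, nat_lit 90112, nat_lit 94208, nat_lit 178176, nat_lit 175104, nat_lit 171520, nat_lit 164608, nat_lit 162560, nat_lit 158912, nat_lit 153984, nat_lit 150752, nat_lit 146944, nat_lit 142596, nat_lit 139048, nat_lit 131103, nat_lit 4020, nat_lit 4812, nat_lit 10912, nat_lit 15632, nat_lit 17760, nat_lit 22272, nat_lit 28544, nat_lit 31232, nat_lit 34816, nat_lit 37888, nat_lit 43008, nat_lit 46561, nat_lit 41825, nat_lit 38038, nat_lit 33335, nat_lit 28932, nat_lit 24598, nat_lit 21022, nat_lit 16395, nat_lit 12294, nat_lit 8203, nat_lit 4105, nat_lit 2, nat_lit 421893, nat_lit 405506, nat_lit 139304, nat_lit 41088, nat_lit 37036, nat_lit 32800, nat_lit 24608, nat_lit 16388, nat_lit 327680]⟩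
def ndMr7_0 : El := ⟨[nat_lit 0xed4e842050cbb62e90c544d9505bc07996a6, nat_lit 0x65c3ff9c232a5ab731487080624256a6bdcc], [nat_lit 65536, nat_lit 77824, nat_lit 90112, nat_lit 94208, nat_lit 98304, nat_lit 102400, nat_lit 106496, nat_lit 110592, nat_lit 173056, nat_lit 171008, nat_lit 167168, nat_lit 161024, nat_lit 158976, nat_lit 151936, nat_lit 150048, nat_lit 145784, nat_lit 140412, nat_lit 138926, nat_lit 134865, nat_lit 3204, nat_lit 6376, nat_lit 14336, nat_lit 18368, nat_lit 25472, nat_lit 30976, nat_lit 38912, nat_lit 43008, nat_lit 45100, nat_lit 41922, nat_lit 36934, nat_lit 32784, nat_lit 29713, nat_lit 24745, nat_lit 20490, nat_lit 16458, nat_lit 12326, nat_lit 8200, nat_lit 4128, nat_lit 128, nat_lit 425989, nat_lit 409600, nat_lit 151808, nat_lit 147744, nat_lit 131088, nat_lit 40976, nat_lit 28688, nat_lit 12289, nat_lit 8193, nat_lit 4097, nat_lit 327680]⟩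
def ndMr7_1 : El := ⟨[nat_lit 0x788d742022e0bcb360a47b2169556f41c1a6, nat_lit 0x727e12524b3a9ad090483a3102bac0e79e2d, nat_lit 0x3a935c4ad0a84a71298e4a5ed5731ed00861], [nat_lit 65536, nat_lit 69632, nat_lit 77824, nat_lit 94208, nat_lit 98304, nat_lit 102400, nat_lit 178176, nat_lit 175104, nat_lit 164864, nat_lit 160640, nat_lit 159040, nat_lit 152288, nat_lit 151440, nat_lit 144368, nat_lit 141252, nat_lit 137418, nat_lit 134298, nat_lit 296, nat_lit 7436, nat_lit 8376, nat_lit 16128, nat_lit 19392, nat_lit 22784, nat_lit 26624, nat_lit 31744, nat_lit 37888, nat_lit 43008, nat_lit 46834, nat_lit 41154, nat_lit 39388, nat_lit 33361, nat_lit 29698, nat_lit 24733, nat_lit 20767, nat_lit 16385, nat_lit 12358, nat_lit 8195, nat_lit 4100, nat_lit 2, nat_lit 434184, nat_lit 417797, nat_lit 409603, nat_lit 397312, nat_lit 155904, nat_lit 151808, nat_lit 147808, nat_lit 144448, nat_lit 135520, nat_lit 131434, nat_lit 45066, nat_lit 36938, nat_lit 28688, nat_lit 8193, nat_lit 327680]⟩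
def ndMr7_2 : El := ⟨[nat_lit 0xbddd72044af7066461c7042d54136464ded5, nat_lit 0x1e47b1a8512195e05b489a5cce3b211b4c4a, nat_lit 0xa03963bd119da40316e1728905a6a363682, nat_lit 0x824d489d16761844bb8754012d2aa568be01], [nat_lit 69632, nat_lit 77824, nat_lit 86016, nat_lit 98304, nat_lit 102400, nat_lit 106496, nat_lit 110592, nat_lit 178176, nat_lit 173056, nat_lit 165376, nat_lit 160128, nat_lit 156608, nat_lit 153696, nat_lit 148656, nat_lit 144416, nat_lit 140352, nat_lit 135858, nat_lit 132084, nat_lit 566, nat_lit 5696, nat_lit 8208, nat_lit 12528, nat_lit 17888, nat_lit 21824, nat_lit 26496, nat_lit 30720, nat_lit 34816, nat_lit 39936, nat_lit 43008, nat_lit 46488, nat_lit 41097, nat_lit 36930, nat_lit 34875, nat_lit 28996, nat_lit 24717, nat_lit 20546, nat_lit 16390, nat_lit 12321, nat_lit 8209, nat_lit 4097, nat_lit 438282, nat_lit 430088, nat_lit 421894, nat_lit 413700, nat_lit 405506, nat_lit 397312, nat_lit 165376, nat_lit 161536, nat_lit 155904, nat_lit 154880, nat_lit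 149440, nat_lit 144368, nat_lit 140904, nat_lit 135856, nat_lit 132924, nat_lit 327680]⟩
def ndMr7_3 : El := ⟨[nat_lit 0xd4bd7e8bcadaad8110246252f03cd4940ece, nat_lit 0x84122d41202a3d2b2b2e730e6ab49b1a840e, nat_lit 0xc09f35b91909d9a641c4592a23025cf5d2a1, nat_lit 0xddb72d7dd614aa2434d8eb1eb22805040db4], [nat_lit 65536, nat_lit 69632, nat_lit 77824, nat_lit 94208, nat_lit 106496, nat_lit 110592, nat_lit 178176, nat_lit 175104, nat_lit 169984, nat_lit 167424, nat_lit 161536, nat_lit 157568, nat_lit 154080, nat_lit 147984, nat_lit 146144, nat_lit 143160, nat_lit 136196, nat_lit 132534, nat_lit 806, nat_lit 6316, nat_lit 9384, nat_lit 16320, nat_lit 16512, nat_lit 22656, nat_lit 26496, nat_lit 29440, nat_lit 33280, nat_lit 46572, nat_lit 41853, nat_lit 37037, nat_lit 33816, nat_lit 29190, nat_lit 24588, nat_lit 20625, nat_lit 16417, nat_lit 12304, nat_lit 8256, nat_lit 438282, nat_lit 430086, nat_lit 413700, nat_lit 405506, nat_lit 397312, nat_lit 168960, nat_lit 152064, nat_lit 151136,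 nat_lit 144944, nat_lit 139320, nat_lit 135768, nat_lit 131612, nat_lit 32826, nat_lit 28755]⟩
def ndMr7_4 : El := ⟨[nat_lit 0x711e4ba1a6885d65005e249256a9e2a1b58e, nat_lit 0x787274415c053083ace9611de9685668c257, nat_lit 0xa9a5f055644605cfbae664c6c70086da2205], [nat_lit 73728, nat_lit 77824, nat_lit 81920, nat_lit 86016, nat_lit 90112, nat_lit 98304, nat_lit 102400, nat_lit 106496, nat_lit 110592, nat_lit 178176, nat_lit 174080, nat_lit 168448, nat_lit 167168, nat_lit 162304, nat_lit 159552, nat_lit 153728, nat_lit 149136, nat_lit 146504, nat_lit 142532, nat_lit 139172, nat_lit 132784, nat_lit 2854, nat_lit 5664, nat_lit 11072, nat_lit 12864, nat_lit 17760, nat_lit 21568, nat_lit 28160, nat_lit 31744, nat_lit 33792, nat_lit 39936, nat_lit 46803, nat_lit 41033, nat_lit 37216, nat_lit 33471, nat_lit 28997, nat_lit 24617, nat_lit 20488, nat_lit 16515, nat_lit 12310, nat_lit 8201, nat_lit 4101, nat_lit 2, nat_lit 425989, nat_lit 405506, nat_lit 397312, nat_lit 151808, nat_lit 143392,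 nat_lit 135460, nat_lit 131328, nat_lit 45071, nat_lit 40975, nat_lit 36879, nat_lit 28687, nat_lit 24591, nat_lit 16399, nat_lit 327680]⟩
def ndMr7_5 : El := ⟨[nat_lit 0xd48ed46844c9a170254f678c0e54a2935cb4, nat_lit 0x6c9f98ce50b52b7290e66bd8e4254b10c20], [nat_lit 69632, nat_lit 73728, nat_lit 86016, nat_lit 98304, nat_lit 110592, nat_lit 178176, nat_lit 173056, nat_lit 170496, nat_lit 164864, nat_lit 162048, nat_lit 156544, nat_lit 154976, nat_lit 148880, nat_lit 146008, nat_lit 141184, nat_lit 135392, nat_lit 134640, nat_lit 1140, nat_lit 4900, nat_lit 10672, nat_lit 12816, nat_lit 16672, nat_lit 22272, nat_lit 25600, nat_lit 29696, nat_lit 36352, nat_lit 37888, nat_lit 45473, nat_lit 41885, nat_lit 38147, nat_lit 32812, nat_lit 29310, nat_lit 24706, nat_lit 20544, nat_lit 16906, nat_lit 12549, nat_lit 8209, nat_lit 4129, nat_lit 425989, nat_lit 409600, nat_lit 151808, nat_lit 147744, nat_lit 131088, nat_lit 40976, nat_lit 28688, nat_lit 12289, nat_lit 8193, nat_lit 4097]⟩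
def ndMr7_6 : El := ⟨[nat_lit 0x8d81ed0adf060d322dc403d27155506691d6, nat_lit 0x714b729d168505c493eacbc0c515a233b520, nat_lit 0xb2bbee4062c84aa74ae86b08a0bb5c47cc6a, nat_lit 0x11b74e7b26275904699551d2f03c8a18a560], [nat_lit 69632, nat_lit 81920, nat_lit 86016, nat_lit 98304, nat_lit 178176, nat_lit 168960, nat_lit 166912, nat_lit 159872, nat_lit 156224, nat_lit 154080, nat_lit 150464, nat_lit 145888, nat_lit 141116, nat_lit 137082, nat_lit 133558, nat_lit 3858, nat_lit 4876, nat_lit 11568, nat_lit 13296, nat_lit 17824, nat_lit 21888, nat_lit 27136, nat_lit 29952, nat_lit 36352, nat_lit 39936, nat_lit 46280, nat_lit 41536, nat_lit 36928, nat_lit 32860, nat_lit 30830, nat_lit 24600, nat_lit 20631, nat_lit 16385, nat_lit 12353, nat_lit 8323, nat_lit 438282, nat_lit 430088, nat_lit 421894, nat_lit 413700, nat_lit 405506, nat_lit 397312, nat_lit 174080, nat_lit 169984, nat_lit 166912, nat_lit 163328, nat_lit 159104, nat_lit 154496, nat_lit 147968, nat_lit 147152, nat_lit 143160, nat_lit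 136200, nat_lit 134050]⟩
def ndMr7_7 : El := ⟨[nat_lit 0xfa0399aa4743814544e01758d1bbe44589ac, nat_lit 0x96096fb12552bdb38046660117a2c4e4a8f1, nat_lit 0x595fa72c8a788c03decc1c2a96ca259d101, nat_lit 0xc9c0a03c6ef99195418a190930a0d566b960], [nat_lit 65536, nat_lit 69632, nat_lit 77824, nat_lit 86016, nat_lit 102400, nat_lit 106496, nat_lit 178176, nat_lit 175104, nat_lit 171520, nat_lit 166400, nat_lit 161664, nat_lit 157824, nat_lit 155264, nat_lit 149360, nat_lit 146672, nat_lit 142520, nat_lit 139188, nat_lit 133991, nat_lit 2304, nat_lit 5368, nat_lit 8704, nat_lit 13040, nat_lit 17568, nat_lit 21952, nat_lit 27008, nat_lit 32000, nat_lit 39936, nat_lit 43008, nat_lit 45986, nat_lit 41570, nat_lit 36870, nat_lit 32884, nat_lit 30782, nat_lit 24872, nat_lit 20738, nat_lit 16390, nat_lit 12354, nat_lit 8200, nat_lit 4097, nat_lit 2, nat_lit 430088, nat_lit 421894, nat_lit 413700, nat_lit 405506, nat_lit 397312, nat_lit 164352, nat_lit 160256, nat_lit 156416, nat_lit 143744, nat_lit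 139464, nat_lit 135528, nat_lit 131580, nat_lit 45565, nat_lit 41892]⟩
def ndMr7_8 : El := ⟨[nat_lit 0xbed4b79dcc860a512c28b7d6c34a82d3b880, nat_lit 0xd7e17d8240465dee5cc2688945a56cd44867, nat_lit 0xc550f962d4fa0456216701dea06a50e91cd1], [nat_lit 86016, nat_lit 175104, nat_lit 168448, nat_lit 166656, nat_lit 160640, nat_lit 158720, nat_lit 151648, nat_lit 148816, nat_lit 143552, nat_lit 140704, nat_lit 136178, nat_lit 133429, nat_lit 1076, nat_lit 4344, nat_lit 11024, nat_lit 15392, nat_lit 19264, nat_lit 24128, nat_lit 27008, nat_lit 28928, nat_lit 33280, nat_lit 37888, nat_lit 43008, nat_lit 45057, nat_lit 41410, nat_lit 37162, nat_lit 32801, nat_lit 29731, nat_lit 24737, nat_lit 20626, nat_lit 16422, nat_lit 12801, nat_lit 8211, nat_lit 4097, nat_lit 2, nat_lit 430086, nat_lit 413700, nat_lit 397312, nat_lit 156160, nat_lit 151616, nat_lit 147552, nat_lit 135264, nat_lit 131186, nat_lit 45059, nat_lit 41552, nat_lit 32819, nat_lit 28752, nat_lit 12290, nat_lit 8194]⟩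
def ndMr7_9 : El := ⟨[nat_lit 0xc6fc0a6de0a2200b148b3352a3785874d9d1, nat_lit 0x5955f004a063b9e115e844c5966d51328d6a, nat_lit 0x3995696ba1341524328eba0037b0aa37c64c], [nat_lit 69632, nat_lit 98304, nat_lit 178176, nat_lit 173056, nat_lit 168448, nat_lit 167424, nat_lit 160128, nat_lit 158528, nat_lit 155616, nat_lit 147920, nat_lit 146352, nat_lit 141248, nat_lit 139152, nat_lit 131549, nat_lit 3462, nat_lit 6812, nat_lit 13968, nat_lit 17024, nat_lit 23744, nat_lit 27648, nat_lit 32000, nat_lit 38912, nat_lit 43008, nat_lit 46498, nat_lit 41661, nat_lit 38139, nat_lit 32838, nat_lit 28687, nat_lit 20484, nat_lit 16392, nat_lit 12310, nat_lit 425991, nat_lit 417797, nat_lit 409603, nat_lit 397312, nat_lit 160000, nat_lit 156032, nat_lit 151808, nat_lit 147488, nat_lit 143424, nat_lit 135504, nat_lit 131536, nat_lit 45065, nat_lit 40976, nat_lit 37082, nat_lit 8194]⟩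
def ndMr7_10 : El := ⟨[nat_lit 0x778d7b42a404b4b6aadc778a0cb8e9330624, nat_lit 0x36563c301cc3ad23bc9aab5024aa22f99602, nat_lit 0xddb822824a1646f3182ce909066d14b21eaf, nat_lit 0xa9a50f29c5470d96046f3249a933d504542b], [nat_lit 65536, nat_lit 69632, nat_lit 73728, nat_lit 94208, nat_lit 98304, nat_lit 102400, nat_lit 106496, nat_lit 110592, nat_lit 178176, nat_lit 173056, nat_lit 169472, nat_lit 164864, nat_lit 161024, nat_lit 156480, nat_lit 154656, nat_lit 149760, nat_lit 146984, nat_lit 139580, nat_lit 138218, nat_lit 132837, nat_lit 1140, nat_lit 5444, nat_lit 11400, nat_lit 12432, nat_lit 20192, nat_lit 21440, nat_lit 26880, nat_lit 30720, nat_lit 35840, nat_lit 39936, nat_lit 46902, nat_lit 41151, nat_lit 36918, nat_lit 32830, nat_lit 29761, nat_lit 24705, nat_lit 20574, nat_lit 16390, nat_lit 12295, nat_lit 8203, nat_lit 434184, nat_lit 421894, nat_lit 413700, nat_lit 405506, nat_lit 397312, nat_lit 164864, nat_lit 160768, nat_lit 156672, nat_lit 148896, nat_lit 144464, nat_lit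 136192, nat_lit 132272, nat_lit 46170, nat_lit 36988, nat_lit 327680]⟩
def ndMr7_11 : El := ⟨[nat_lit 0x2b24ed654245de906d8479990593d4e8a460, nat_lit 0xe42db469c045c8d67cc50a951165c747052a, nat_lit 0x9a559c5a65142a1338025190c26da8f63af5], [nat_lit 69632, nat_lit 73728, nat_lit 77824, nat_lit 81920, nat_lit 86016, nat_lit 90112, nat_lit 94208, nat_lit 98304, nat_lit 178176, nat_lit 175104, nat_lit 171520, nat_lit 165888, nat_lit 160896, nat_lit 159488, nat_lit 153216, nat_lit 149536, nat_lit 146224, nat_lit 142040, nat_lit 137404, nat_lit 131636, nat_lit 754, nat_lit 7492, nat_lit 10600, nat_lit 16320, nat_lit 16416, nat_lit 23808, nat_lit 26112, nat_lit 28928, nat_lit 33792, nat_lit 38912, nat_lit 43008, nat_lit 46140, nat_lit 41801, nat_lit 38314, nat_lit 33981, nat_lit 28712, nat_lit 24851, nat_lit 20573, nat_lit 12324, nat_lit 8200, nat_lit 4097, nat_lit 2, nat_lit 425991, nat_lit 417797, nat_lit 409602, nat_lit 397312, nat_lit 160000, nat_lit 151936, nat_lit 139632, nat_lit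 135264, nat_lit 131328, nat_lit 45059, nat_lit 41088, nat_lit 37078, nat_lit 12292]⟩
def ndMr7_12 : El := ⟨[nat_lit 0xc09ca22c2facc62316924dd51839b63a00c, nat_lit 0x14ddb492a36621d49986d490f58142f00977, nat_lit 0x1dd8e839226135570268f2c272ab96165903, nat_lit 0x56aaff43952185b0299f348ae4a80eb65a34], [nat_lit 73728, nat_lit 77824, nat_lit 81920, nat_lit 86016, nat_lit 90112, nat_lit 102400, nat_lit 110592, nat_lit 178176, nat_lit 174080, nat_lit 171008, nat_lit 164864, nat_lit 159872, nat_lit 156608, nat_lit 154144, nat_lit 149248, nat_lit 143640, nat_lit 140176, nat_lit 135450, nat_lit 133819, nat_lit 610, nat_lit 7804, nat_lit 10528, nat_lit 13696, nat_lit 17024, nat_lit 22528, nat_lit 28544, nat_lit 32000, nat_lit 34304, nat_lit 43008, nat_lit 46112, nat_lit 41856, nat_lit 36975, nat_lit 32938, nat_lit 28683, nat_lit 25109, nat_lit 20508, nat_lit 16426, nat_lit 12292, nat_lit 8195, nat_lit 430088, nat_lit 421894, nat_lit 413700, nat_lit 405506, nat_lit 397312, nat_lit 160256,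 nat_lit 156032, nat_lit 152320, nat_lit 148128, nat_lit 139272, nat_lit 136128, nat_lit 131154, nat_lit 46026, nat_lit 41430]⟩
def ndMr7_13 : El := ⟨[nat_lit 0x1ee287336b12ba77911947da071850252560, nat_lit 0xe87147bb4f1915961188a1c268a853402dee, nat_lit 0xa9cc93718ad8de75021611a44a79d84b4a90], [nat_lit 65536, nat_lit 73728, nat_lit 77824, nat_lit 81920, nat_lit 94208, nat_lit 98304, nat_lit 106496, nat_lit 171520, nat_lit 167424, nat_lit 160512, nat_lit 156480, nat_lit 152448, nat_lit 149760, nat_lit 145160, nat_lit 142452, nat_lit 136352, nat_lit 134895, nat_lit 1706, nat_lit 5724, nat_lit 12192, nat_lit 14640, nat_lit 19776, nat_lit 22400, nat_lit 24832, nat_lit 28928, nat_lit 33792, nat_lit 37888, nat_lit 46657, nat_lit 41720, nat_lit 37954, nat_lit 32988, nat_lit 28931, nat_lit 24595, nat_lit 20483, nat_lit 16457, nat_lit 12294, nat_lit 8203, nat_lit 425991, nat_lit 413700, nat_lit 405506, nat_lit 397312, nat_lit 151808, nat_lit 147744, nat_lit 143776, nat_lit 139688, nat_lit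 135560, nat_lit 131478, nat_lit 45071, nat_lit 40991, nat_lit 36867, nat_lit 24581]⟩
def ndMr7_14 : El := ⟨[nat_lit 0xffcc55308e0526728450bb32ef752ad28c81, nat_lit 0x96a3569240754c460ae2540c9075ed4ab58f, nat_lit 0xd82dd8aae0d8d1c8314824bef3932ca184e0], [nat_lit 69632, nat_lit 73728, nat_lit 106496, nat_lit 175104, nat_lit 171008, nat_lit 166656, nat_lit 162688, nat_lit 159104, nat_lit 154720, nat_lit 148976, nat_lit 146568, nat_lit 142396, nat_lit 135782, nat_lit 134819, nat_lit 2064, nat_lit 5532, nat_lit 9328, nat_lit 12976, nat_lit 17184, nat_lit 20672, nat_lit 25344, nat_lit 30976, nat_lit 34816, nat_lit 43008, nat_lit 46676, nat_lit 43443, nat_lit 36989, nat_lit 32854, nat_lit 29733, nat_lit 24708, nat_lit 21022, nat_lit 16652, nat_lit 12306, nat_lit 8258, nat_lit 32, nat_lit 430086, nat_lit 413700, nat_lit 397312, nat_lit 156160, nat_lit 148064, nat_lit 135744, nat_lit 131664, nat_lit 45059, nat_lit 41555, nat_lit 32819, nat_lit 28752, nat_lit 12289, nat_lit 8193, nat_lit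 327680]⟩
def ndMr7_15 : El := ⟨[nat_lit 0xe7248e8ade595c7338ac40510a6b2a1341c9, nat_lit 0xb4148460049559d59c5eb6a0c495ca309e90, nat_lit 0x471241944956b0d48016f1ba68558e9106e5, nat_lit 0x3c96f06c180bd45159a8f526639142471ec8], [nat_lit 65536, nat_lit 69632, nat_lit 77824, nat_lit 90112, nat_lit 98304, nat_lit 102400, nat_lit 106496, nat_lit 110592, nat_lit 178176, nat_lit 168448, nat_lit 162816, nat_lit 156928, nat_lit 151968, nat_lit 147904, nat_lit 143528, nat_lit 140084, nat_lit 131557, nat_lit 2, nat_lit 6204, nat_lit 8960, nat_lit 15616, nat_lit 20128, nat_lit 21504, nat_lit 24832, nat_lit 29952, nat_lit 33792, nat_lit 45064, nat_lit 40973, nat_lit 37092, nat_lit 32774, nat_lit 28737, nat_lit 24759, nat_lit 20562, nat_lit 16386, nat_lit 13319, nat_lit 8226, nat_lit 4097, nat_lit 438281, nat_lit 421894, nat_lit 413700, nat_lit 405506, nat_lit 397312, nat_lit 169984, nat_lit 161792, nat_lit 156160, nat_lit 152256, nat_lit 149664, nat_lit 145504, nat_lit 142064, nat_lit 135272,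 nat_lit 133694, nat_lit 40991, nat_lit 32857]⟩
def ndMr7_16 : El := ⟨[nat_lit 0xe18b1b3927582ec848ccd7c59795001509c5, nat_lit 0xa9ffc61882084672a5af5290e64ad48731ed], [nat_lit 73728, nat_lit 94208, nat_lit 102400, nat_lit 178176, nat_lit 173056, nat_lit 169472, nat_lit 164608, nat_lit 163072, nat_lit 157376, nat_lit 155552, nat_lit 151104, nat_lit 145064, nat_lit 142376, nat_lit 136410, nat_lit 133348, nat_lit 3222, nat_lit 5488, nat_lit 8376, nat_lit 13312, nat_lit 19296, nat_lit 24128, nat_lit 24832, nat_lit 29184, nat_lit 35328, nat_lit 37888, nat_lit 45069, nat_lit 41366, nat_lit 37095, nat_lit 32921, nat_lit 28723, nat_lit 20486, nat_lit 16397, nat_lit 8194, nat_lit 4097, nat_lit 425989, nat_lit 409600, nat_lit 151808, nat_lit 147744, nat_lit 131088, nat_lit 40976, nat_lit 28688, nat_lit 12289, nat_lit 8193, nat_lit 4097]⟩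
def ndMr7_17 : El := ⟨[nat_lit 0xb14d2bbd96ca8a65350720b520238ea83d11, nat_lit 0x6fcf661d927009b10ac9465eb0315f27226a, nat_lit 0x6f9aa012d0063af46d5f639a301852a9c885], [nat_lit 73728, nat_lit 81920, nat_lit 86016, nat_lit 98304, nat_lit 110592, nat_lit 178176, nat_lit 174080, nat_lit 171008, nat_lit 166656, nat_lit 159872, nat_lit 157120, nat_lit 152832, nat_lit 148944, nat_lit 145272, nat_lit 142324, nat_lit 137432, nat_lit 132307, nat_lit 2010, nat_lit 5604, nat_lit 11672, nat_lit 15712, nat_lit 16672, nat_lit 22656, nat_lit 27520, nat_lit 30208, nat_lit 35328, nat_lit 39936, nat_lit 45649, nat_lit 40988, nat_lit 39394, nat_lit 33362, nat_lit 28764, nat_lit 24715, nat_lit 20504, nat_lit 16389, nat_lit 8208, nat_lit 4097, nat_lit 2, nat_lit 430088, nat_lit 417797, nat_lit 409602, nat_lit 397312, nat_lit 164352, nat_lit 155904, nat_lit 152320, nat_lit 148256, nat_lit 139856, nat_lit 135696, nat_lit 131092, nat_lit 45059, nat_lit 41045, nat_lit 28691, nat_lit 12292]⟩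
def ndMr7_18 : El := ⟨[nat_lit 0x44e47b9aef004987abda950ec1320b48b882, nat_lit 0x1d82216aa6083069409d1218b43dab77864b, nat_lit 0x47edbe9d1a03148a0c2ee41d2b95982a8e2f], [nat_lit 69632, nat_lit 73728, nat_lit 77824, nat_lit 81920, nat_lit 86016, nat_lit 90112, nat_lit 98304, nat_lit 175104, nat_lit 169984, nat_lit 166400, nat_lit 161536, nat_lit 157504, nat_lit 154208, nat_lit 151376, nat_lit 146680, nat_lit 139364, nat_lit 135342, nat_lit 134390, nat_lit 952, nat_lit 4160, nat_lit 9416, nat_lit 15456, nat_lit 18624, nat_lit 21632, nat_lit 25728, nat_lit 32000, nat_lit 36352, nat_lit 37888, nat_lit 46469, nat_lit 43903, nat_lit 38272, nat_lit 33466, nat_lit 29023, nat_lit 24608, nat_lit 20503, nat_lit 12291, nat_lit 8227, nat_lit 413700, nat_lit 405506, nat_lit 397312, nat_lit 147488, nat_lit 143392, nat_lit 139288, nat_lit 131112, nat_lit 45071, nat_lit 40988, nat_lit 28693, nat_lit 327680]⟩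
def ndMr7_19 : El := ⟨[nat_lit 0x7b122d734e0b410c11a952cc728bd7752424, nat_lit 0xb17e7e72c6025c3249d86b51aa7c268a9451], [nat_lit 65536, nat_lit 73728, nat_lit 81920, nat_lit 90112, nat_lit 98304, nat_lit 102400, nat_lit 110592, nat_lit 175104, nat_lit 165120, nat_lit 162560, nat_lit 158528, nat_lit 153920, nat_lit 149232, nat_lit 144272, nat_lit 141196, nat_lit 137722, nat_lit 131864, nat_lit 3720, nat_lit 7484, nat_lit 11024, nat_lit 13040, nat_lit 20096, nat_lit 20992, nat_lit 26752, nat_lit 29696, nat_lit 34304, nat_lit 37888, nat_lit 43008, nat_lit 46963, nat_lit 43778, nat_lit 37287, nat_lit 33503, nat_lit 28738, nat_lit 24753, nat_lit 20553, nat_lit 16426, nat_lit 12292, nat_lit 8201, nat_lit 4097, nat_lit 2, nat_lit 409602, nat_lit 397312, nat_lit 131088, nat_lit 40961, nat_lit 36866, nat_lit 32784, nat_lit 28673, nat_lit 24577, nat_lit 20482]⟩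
def ndMr7_20 : El := ⟨[nat_lit 0xeb1eeeb49cd05431129e7a16065a2f31a48c, nat_lit 0x90fccc455aa9ac6595e2f0b2804c0e233896, nat_lit 0x1d82217a2018b52010ec773285bcc92aa8cb], [nat_lit 102400, nat_lit 106496, nat_lit 110592, nat_lit 178176, nat_lit 173056, nat_lit 168448, nat_lit 166656, nat_lit 162688, nat_lit 158720, nat_lit 155552, nat_lit 147856, nat_lit 144592, nat_lit 139444, nat_lit 139082, nat_lit 132530, nat_lit 148, nat_lit 6456, nat_lit 9288, nat_lit 14992, nat_lit 16512, nat_lit 22720, nat_lit 25856, nat_lit 32000, nat_lit 34816, nat_lit 39936, nat_lit 43008, nat_lit 45440, nat_lit 41197, nat_lit 37198, nat_lit 32855, nat_lit 29773, nat_lit 24631, nat_lit 20482, nat_lit 16393, nat_lit 12309, nat_lit 8200, nat_lit 4097, nat_lit 2, nat_lit 425990, nat_lit 413700, nat_lit 405506, nat_lit 397312, nat_lit 147712, nat_lit 143440, nat_lit 139640, nat_lit 135240, nat_lit 131334, nat_lit 45401, nat_lit 41260, nat_lit 37213, nat_lit 28732]⟩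
def ndMr7_21 : El := ⟨[nat_lit 0xa59a0004e2ac5ea290664c28c5bad3ba24d, nat_lit 0x2e41e7850937d4ce2845692c6d44580b9d49, nat_lit 0x69600c150777464d31d28510ab006b683d93], [nat_lit 65536, nat_lit 73728, nat_lit 77824, nat_lit 86016, nat_lit 90112, nat_lit 110592, nat_lit 173056, nat_lit 171008, nat_lit 161280, nat_lit 156608, nat_lit 154656, nat_lit 150480, nat_lit 145600, nat_lit 140556, nat_lit 135424, nat_lit 134, nat_lit 7620, nat_lit 10088, nat_lit 14224, nat_lit 17536, nat_lit 20544, nat_lit 24704, nat_lit 32512, nat_lit 33792, nat_lit 39936, nat_lit 46872, nat_lit 41434, nat_lit 37128, nat_lit 33328, nat_lit 29818, nat_lit 24589, nat_lit 20631, nat_lit 16429, nat_lit 12310, nat_lit 8200, nat_lit 32, nat_lit 434184, nat_lit 417797, nat_lit 409603, nat_lit 397312, nat_lit 156672, nat_lit 152832, nat_lit 148800, nat_lit 143472, nat_lit 136296, nat_lit 131160, nat_lit 45065, nat_lit 36873, nat_lit 28697, nat_lit 8194]⟩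
def ndMr7_22 : El := ⟨[nat_lit 0x5a09f35a18433a500bce0b34b4ac5424cc77, nat_lit 0xf905ac3cd171296f606966c223954a90188e, nat_lit 0x72bd487ba138c98d2dae7256861ad004a841], [nat_lit 73728, nat_lit 81920, nat_lit 86016, nat_lit 90112, nat_lit 106496, nat_lit 110592, nat_lit 175104, nat_lit 169472, nat_lit 165376, nat_lit 160384, nat_lit 159232, nat_lit 155232, nat_lit 148160, nat_lit 145992, nat_lit 139704, nat_lit 135442, nat_lit 133345, nat_lit 1496, nat_lit 6544, nat_lit 11704, nat_lit 15216, nat_lit 18176, nat_lit 24256, nat_lit 24960, nat_lit 35840, nat_lit 38912, nat_lit 46268, nat_lit 41408, nat_lit 37036, nat_lit 33916, nat_lit 28938, nat_lit 24586, nat_lit 20506, nat_lit 16428, nat_lit 12321, nat_lit 8193, nat_lit 4105, nat_lit 425991, nat_lit 417797, nat_lit 409603, nat_lit 401408, nat_lit 156032, nat_lit 151936, nat_lit 147840, nat_lit 143552, nat_lit 139656, nat_lit 131348, nat_lit 45068, nat_lit 41088, nat_lit 36940, nat_lit 4097]⟩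
def ndMr7_23 : El := ⟨[nat_lit 0x353f3aaa22a59a5848ce01c2f4308b4dc73, nat_lit 0x6500a54d2a073c2b3a8a3b41a41223261a77, nat_lit 0xdde2eb71d868d2f0791a59d656505024ac03], [nat_lit 69632, nat_lit 86016, nat_lit 94208, nat_lit 106496, nat_lit 174080, nat_lit 171008, nat_lit 164608, nat_lit 160384, nat_lit 159488, nat_lit 155104, nat_lit 151104, nat_lit 143632, nat_lit 141616, nat_lit 137552, nat_lit 133616, nat_lit 3076, nat_lit 7880, nat_lit 8776, nat_lit 13312, nat_lit 19808, nat_lit 23552, nat_lit 27904, nat_lit 32512, nat_lit 36352, nat_lit 37888, nat_lit 45776, nat_lit 41692, nat_lit 38220, nat_lit 33324, nat_lit 28928, nat_lit 24638, nat_lit 20491, nat_lit 16462, nat_lit 12290, nat_lit 8258, nat_lit 4104, nat_lit 32, nat_lit 425990, nat_lit 413700, nat_lit 405506, nat_lit 397312, nat_lit 155904, nat_lit 151808, nat_lit 147808, nat_lit 143456, nat_lit 139368, nat_lit 135432, nat_lit 131346, nat_lit 45071, nat_lit 40979, nat_lit 28694]⟩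
def ndMr7_24 : El := ⟨[nat_lit 0x955a9c79e601408db8c29b4a282aea6551cc, nat_lit 0xfa3fc3b8aa768caf722d164a8a3061358089, nat_lit 0x118bebaa5c161a0d2a91191c4324ef67ac14, nat_lit 0xccccc9b488a0b697299827ac689b8103a6b1], [nat_lit 69632, nat_lit 73728, nat_lit 94208, nat_lit 102400, nat_lit 110592, nat_lit 178176, nat_lit 175104, nat_lit 171520, nat_lit 167680, nat_lit 162432, nat_lit 158848, nat_lit 155328, nat_lit 150432, nat_lit 143368, nat_lit 139268, nat_lit 137712, nat_lit 131073, nat_lit 1318, nat_lit 7248, nat_lit 8248, nat_lit 15440, nat_lit 19904, nat_lit 24384, nat_lit 26880, nat_lit 29696, nat_lit 34816, nat_lit 43008, nat_lit 45995, nat_lit 40982, nat_lit 37317, nat_lit 32903, nat_lit 28759, nat_lit 24614, nat_lit 20562, nat_lit 16417, nat_lit 14338, nat_lit 4097, nat_lit 2, nat_lit 438282, nat_lit 430088, nat_lit 421894, nat_lit 413700, nat_lit 405506, nat_lit 397312, nat_lit 169984, nat_lit 166400, nat_lit 160256, nat_lit 156160, nat_lit 151872, nat_lit 149344, nat_lit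 146144, nat_lit 140168, nat_lit 137012, nat_lit 133318]⟩
def ndMr7_25 : El := ⟨[nat_lit 0xaccff5115ed5d1d3adc672202a626d094406, nat_lit 0xed418bb204119df055653a392d03225bac86, nat_lit 0xeeb74e682d4784a72413541af19b05252c6e, nat_lit 0x6f30996d60e91ee45a29118a760b1265140f], [nat_lit 73728, nat_lit 77824, nat_lit 81920, nat_lit 90112, nat_lit 94208, nat_lit 98304, nat_lit 102400, nat_lit 106496, nat_lit 110592, nat_lit 178176, nat_lit 174080, nat_lit 171520, nat_lit 167680, nat_lit 162688, nat_lit 159104, nat_lit 155360, nat_lit 150464, nat_lit 135170, nat_lit 133617, nat_lit 3244, nat_lit 4436, nat_lit 11032, nat_lit 14928, nat_lit 19552, nat_lit 24384, nat_lit 25728, nat_lit 30208, nat_lit 36352, nat_lit 38912, nat_lit 46955, nat_lit 43583, nat_lit 39359, nat_lit 32934, nat_lit 29030, nat_lit 24725, nat_lit 20487, nat_lit 16387, nat_lit 14340, nat_lit 4097, nat_lit 438282, nat_lit 430088, nat_lit 421894, nat_lit 413700, nat_lit 405506, nat_lit 397312, nat_lit 166400, nat_lit 160000,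 nat_lit 158080, nat_lit 152320, nat_lit 147680, nat_lit 145824, nat_lit 142720, nat_lit 138440, nat_lit 133814]⟩
def ndMr7_26 : El := ⟨[nat_lit 0x66f96f04a6f155d741ed1851256ac2a20ccc, nat_lit 0x39030aa9dec13970bcc91522c530c3468132, nat_lit 0x22121b685702a68a121933d4037d88e95cd1, nat_lit 0x78e41724db2a95f682e834dc11428ec099c2], [nat_lit 86016, nat_lit 90112, nat_lit 94208, nat_lit 98304, nat_lit 106496, nat_lit 110592, nat_lit 178176, nat_lit 174080, nat_lit 171008, nat_lit 167680, nat_lit 162688, nat_lit 159104, nat_lit 155328, nat_lit 150480, nat_lit 133617, nat_lit 3468, nat_lit 7556, nat_lit 10872, nat_lit 13248, nat_lit 19776, nat_lit 21504, nat_lit 24960, nat_lit 31744, nat_lit 35840, nat_lit 43008, nat_lit 46335, nat_lit 41761, nat_lit 38369, nat_lit 32800, nat_lit 28742, nat_lit 24711, nat_lit 20737, nat_lit 18446, nat_lit 14343, nat_lit 8323, nat_lit 438282, nat_lit 430088, nat_lit 421894, nat_lit 413700, nat_lit 405506, nat_lit 397312, nat_lit 174080, nat_lit 168960,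 nat_lit 161536, nat_lit 156928, nat_lit 152832, nat_lit 147520, nat_lit 143488, nat_lit 142456, nat_lit 137144, nat_lit 132356]⟩
def ndMr7_27 : El := ⟨[nat_lit 0xdd1d1443e5464d75701a42d85730e303a541, nat_lit 0xa6f03938dc688a6f6012bb5c2d2d60854a84, nat_lit 0xaa35a684e515212b214e608c407b98db52f5], [nat_lit 65536, nat_lit 90112, nat_lit 94208, nat_lit 102400, nat_lit 106496, nat_lit 178176, nat_lit 174080, nat_lit 169472, nat_lit 165376, nat_lit 162432, nat_lit 156800, nat_lit 155488, nat_lit 148064, nat_lit 147144, nat_lit 140416, nat_lit 136202, nat_lit 131680, nat_lit 3258, nat_lit 6940, nat_lit 10784, nat_lit 13968, nat_lit 18112, nat_lit 21632, nat_lit 26880, nat_lit 31744, nat_lit 35328, nat_lit 39936, nat_lit 45912, nat_lit 41357, nat_lit 39416, nat_lit 32992, nat_lit 28956, nat_lit 24578, nat_lit 20619, nat_lit 16417, nat_lit 12420, nat_lit 8210, nat_lit 32, nat_lit 434184, nat_lit 417797, nat_lit 409603, nat_lit 397312, nat_lit 164864, nat_lit 156672, nat_lit 152896, nat_lit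 147520, nat_lit 144400, nat_lit 135520, nat_lit 132392, nat_lit 45065, nat_lit 28697, nat_lit 8194, nat_lit 327680]⟩
def ndMr7_28 : El := ⟨[nat_lit 0xb7842d106eaab96d446909808c1bcd249cb6, nat_lit 0x3630501a41799de1a41712c982ab90d21956, nat_lit 0x8eddee09ca0a35f64ae5165eae198829a910], [nat_lit 65536, nat_lit 81920, nat_lit 90112, nat_lit 98304, nat_lit 165888, nat_lit 161024, nat_lit 158336, nat_lit 152832, nat_lit 147712, nat_lit 146600, nat_lit 140084, nat_lit 136474, nat_lit 131686, nat_lit 116, nat_lit 5608, nat_lit 11176, nat_lit 16032, nat_lit 19392, nat_lit 22336, nat_lit 27776, nat_lit 30720, nat_lit 35328, nat_lit 37888, nat_lit 43008, nat_lit 46248, nat_lit 41832, nat_lit 37283, nat_lit 33311, nat_lit 28680, nat_lit 25637, nat_lit 20491, nat_lit 16644, nat_lit 12306, nat_lit 8256, nat_lit 4105, nat_lit 425990, nat_lit 413700, nat_lit 405506, nat_lit 397312, nat_lit 151808, nat_lit 147808, nat_lit 139384, nat_lit 135264, nat_lit 131086, nat_lit 45071, nat_lit 41045, nat_lit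 36879, nat_lit 28757]⟩
def ndMr7_29 : El := ⟨[nat_lit 0x95ffaa14ab47860d98cc551d974013172ec4, nat_lit 0xcc69ff12e230b0f783d4da4d162d40e49246, nat_lit 0xee484e182551288d4da6b785058dce6651d0, nat_lit 0x9c50302a48d43a13152475bc0365557b1831], [nat_lit 65536, nat_lit 77824, nat_lit 81920, nat_lit 86016, nat_lit 90112, nat_lit 94208, nat_lit 102400, nat_lit 106496, nat_lit 173056, nat_lit 169984, nat_lit 165120, nat_lit 162432, nat_lit 156224, nat_lit 152640, nat_lit 150496, nat_lit 145112, nat_lit 140032, nat_lit 136884, nat_lit 133851, nat_lit 1634, nat_lit 7416, nat_lit 8608, nat_lit 13120, nat_lit 18464, nat_lit 21312, nat_lit 26752, nat_lit 31744, nat_lit 33280, nat_lit 38912, nat_lit 43008, nat_lit 45252, nat_lit 41476, nat_lit 36903, nat_lit 32840, nat_lit 28752, nat_lit 24744, nat_lit 20491, nat_lit 16399, nat_lit 12305, nat_lit 8202, nat_lit 4097, nat_lit 2, nat_lit 438282, nat_lit 430087, nat_lit 417796, nat_lit 405506, nat_lit 397312, nat_lit 163328, nat_lit 158208, nat_lit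 150528, nat_lit 144592, nat_lit 139456, nat_lit 135772, nat_lit 134222, nat_lit 32770, nat_lit 20510]⟩
def ndMr7_30 : El := ⟨[nat_lit 0x2b4d711592f428d100644a9e93640adb8dcb, nat_lit 0xafafac63c4ba0556bb49248233ac1c719905, nat_lit 0x417e8e215ae63cc78a97282133a0c35102f6], [nat_lit 65536, nat_lit 69632, nat_lit 77824, nat_lit 81920, nat_lit 90112, nat_lit 102400, nat_lit 178176, nat_lit 175104, nat_lit 164352, nat_lit 163712, nat_lit 158400, nat_lit 151840, nat_lit 149280, nat_lit 143632, nat_lit 139520, nat_lit 137140, nat_lit 132732, nat_lit 2138, nat_lit 5688, nat_lit 8960, nat_lit 14464, nat_lit 20416, nat_lit 21824, nat_lit 27904, nat_lit 31488, nat_lit 35328, nat_lit 39936, nat_lit 43008, nat_lit 46138, nat_lit 41722, nat_lit 37120, nat_lit 32863, nat_lit 29754, nat_lit 24755, nat_lit 20503, nat_lit 16425, nat_lit 12289, nat_lit 8194, nat_lit 4101, nat_lit 425991, nat_lit 417797, nat_lit 409602, nat_lit 397312, nat_lit 160000, nat_lit 156032, nat_lit 152000, nat_lit 147648,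 nat_lit 139488, nat_lit 135488, nat_lit 131504, nat_lit 45059, nat_lit 41091, nat_lit 37077, nat_lit 12292, nat_lit 327680]⟩
def ndMr7_31 : El := ⟨[nat_lit 0x48b877bcd2d519012d2c3130ee7aeb004492, nat_lit 0x1b88822d1afb04e0246f074c4b1b24a41aa9, nat_lit 0x3caa55414eb0d68274d91325441dae093e0d], [nat_lit 77824, nat_lit 81920, nat_lit 106496, nat_lit 110592, nat_lit 171520, nat_lit 166400, nat_lit 160640, nat_lit 156480, nat_lit 152704, nat_lit 149360, nat_lit 145320, nat_lit 139820, nat_lit 138048, nat_lit 134627, nat_lit 474, nat_lit 7736, nat_lit 11416, nat_lit 13360, nat_lit 19200, nat_lit 23488, nat_lit 27392, nat_lit 29696, nat_lit 34304, nat_lit 39936, nat_lit 43008, nat_lit 45625, nat_lit 41515, nat_lit 37153, nat_lit 33315, nat_lit 28713, nat_lit 24589, nat_lit 20481, nat_lit 18436, nat_lit 12310, nat_lit 8211, nat_lit 4101, nat_lit 425991, nat_lit 417797, nat_lit 409602, nat_lit 397312, nat_lit 151808, nat_lit 147744, nat_lit 139632, nat_lit 135552, nat_lit 131126, nat_lit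 45061, nat_lit 41088, nat_lit 36869, nat_lit 12290]⟩
def ndMr7_32 : El := ⟨[nat_lit 0x559f609050bb401498cc723535789d1516ec, nat_lit 0x50fa6a13db31a24921e000c6f651995a38ab, nat_lit 0xa0fa9a7ddd4b36ac5c24a018a38a513104e4], [nat_lit 69632, nat_lit 73728, nat_lit 81920, nat_lit 86016, nat_lit 106496, nat_lit 110592, nat_lit 178176, nat_lit 168960, nat_lit 163072, nat_lit 159552, nat_lit 153568, nat_lit 149712, nat_lit 146016, nat_lit 141024, nat_lit 135538, nat_lit 134882, nat_lit 3102, nat_lit 6084, nat_lit 10112, nat_lit 16352, nat_lit 18496, nat_lit 22976, nat_lit 25728, nat_lit 28928, nat_lit 36352, nat_lit 38912, nat_lit 43008, nat_lit 47001, nat_lit 44007, nat_lit 38929, nat_lit 32964, nat_lit 29038, nat_lit 24877, nat_lit 20483, nat_lit 17423, nat_lit 12359, nat_lit 8194, nat_lit 4100, nat_lit 16, nat_lit 425991, nat_lit 413700, nat_lit 405506, nat_lit 397312, nat_lit 160000, nat_lit 151808, nat_lit 147616, nat_lit 143616, nat_lit 139400, nat_lit 135208, nat_lit 131506, nat_lit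 45071, nat_lit 41088, nat_lit 37014, nat_lit 24591]⟩
def ndMr7_33 : El := ⟨[nat_lit 0x112e226ae6c201d54c8c53bc764083055e91, nat_lit 0xaaf6fc026ab8150c25ce23454d751e1b0e53, nat_lit 0x4b72170bda010d8e354979aa4b29ed44c608], [nat_lit 65536, nat_lit 73728, nat_lit 77824, nat_lit 81920, nat_lit 94208, nat_lit 98304, nat_lit 106496, nat_lit 175104, nat_lit 168960, nat_lit 165120, nat_lit 160128, nat_lit 155904, nat_lit 152928, nat_lit 149392, nat_lit 143512, nat_lit 143280, nat_lit 139184, nat_lit 132824, nat_lit 3672, nat_lit 7204, nat_lit 10792, nat_lit 14192, nat_lit 19360, nat_lit 21696, nat_lit 25600, nat_lit 32000, nat_lit 35840, nat_lit 37888, nat_lit 46809, nat_lit 41881, nat_lit 37179, nat_lit 32963, nat_lit 29025, nat_lit 24836, nat_lit 20490, nat_lit 16907, nat_lit 12322, nat_lit 8257, nat_lit 425990, nat_lit 413700, nat_lit 405506, nat_lit 397312, nat_lit 155904, nat_lit 151872, nat_lit 147808, nat_lit 139552, nat_lit 135452, nat_lit 131118, nat_lit 45071, nat_lit 41045,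 nat_lit 36943, nat_lit 28703]⟩
def ndMr7_34 : El := ⟨[nat_lit 0x77eb17ac10e9dd4c5c68d925f619cc520041, nat_lit 0x7447e455cf36daa00c5d24d0902b0667ac48, nat_lit 0x4ee8e23c8916080e5d2e8526d508daf2ce06], [nat_lit 65536, nat_lit 73728, nat_lit 77824, nat_lit 94208, nat_lit 102400, nat_lit 106496, nat_lit 174080, nat_lit 171008, nat_lit 165120, nat_lit 163584, nat_lit 157248, nat_lit 154880, nat_lit 150176, nat_lit 146304, nat_lit 141092, nat_lit 137150, nat_lit 133994, nat_lit 3640, nat_lit 4600, nat_lit 10632, nat_lit 14352, nat_lit 17344, nat_lit 23616, nat_lit 24832, nat_lit 30976, nat_lit 35840, nat_lit 38912, nat_lit 43008, nat_lit 45335, nat_lit 41615, nat_lit 37070, nat_lit 35009, nat_lit 28758, nat_lit 24582, nat_lit 20482, nat_lit 16525, nat_lit 12304, nat_lit 8258, nat_lit 4105, nat_lit 8, nat_lit 434184, nat_lit 417797, nat_lit 409603, nat_lit 397312, nat_lit 164864, nat_lit 156928, nat_lit 151808, nat_lit 148576, nat_lit 143376, nat_lit 131136, nat_lit 45065, nat_lit 28688,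 nat_lit 8194, nat_lit 327680]⟩
def ndMg8_0 : El := ⟨[nat_lit 0xca05cf609a18c92a5a270b968625aa7701e3, nat_lit 0x4ddd82a9c8968e6600aeb7c0257228c8aad2], [nat_lit 65536, nat_lit 73728, nat_lit 77824, nat_lit 106496, nat_lit 175104, nat_lit 171008, nat_lit 167424, nat_lit 161280, nat_lit 156864, nat_lit 152576, nat_lit 150176, nat_lit 143416, nat_lit 141252, nat_lit 136364, nat_lit 132337, nat_lit 2852, nat_lit 7452, nat_lit 8984, nat_lit 12496, nat_lit 16800, nat_lit 22656, nat_lit 27648, nat_lit 30464, nat_lit 35328, nat_lit 38912, nat_lit 43008, nat_lit 46673, nat_lit 43985, nat_lit 32906, nat_lit 28699, nat_lit 26645, nat_lit 16522, nat_lit 12290, nat_lit 8257, nat_lit 4097, nat_lit 409602, nat_lit 397312, nat_lit 139280, nat_lit 131074, nat_lit 40964, nat_lit 36865, nat_lit 32791, nat_lit 28674, nat_lit 24599, nat_lit 20484, nat_lit 12289]⟩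
def ndMg8_1 : El := ⟨[nat_lit 0x6cc95341e1649691919575d664681cc185e2, nat_lit 0xbb72180a6c7b88aa84a6d59074a98087b22e], [nat_lit 65536, nat_lit 73728, nat_lit 81920, nat_lit 102400, nat_lit 175104, nat_lit 171008, nat_lit 167168, nat_lit 162432, nat_lit 156544, nat_lit 154880, nat_lit 149584, nat_lit 146808, nat_lit 141680, nat_lit 136266, nat_lit 131427, nat_lit 692, nat_lit 4388, nat_lit 10680, nat_lit 13952, nat_lit 18304, nat_lit 22272, nat_lit 27136, nat_lit 32256, nat_lit 35328, nat_lit 39936, nat_lit 43008, nat_lit 46146, nat_lit 41366, nat_lit 37077, nat_lit 34004, nat_lit 29303, nat_lit 24611, nat_lit 20559, nat_lit 16896, nat_lit 12326, nat_lit 8208, nat_lit 4104, nat_lit 4, nat_lit 413700, nat_lit 397312, nat_lit 131090, nat_lit 40992, nat_lit 36896, nat_lit 32819, nat_lit 24592, nat_lit 12289, nat_lit 8193]⟩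
def ndMg8_2 : El := ⟨[nat_lit 0x9c5fc04894d7dc1488592a9e08198aeb2e64, nat_lit 0x48de1b33e934a86b65a254002223ab0936e7, nat_lit 0xf9a06502a744d831215a690ee88544b79dcc], [nat_lit 65536, nat_lit 73728, nat_lit 77824, nat_lit 81920, nat_lit 86016, nat_lit 94208, nat_lit 98304, nat_lit 102400, nat_lit 106496, nat_lit 110592, nat_lit 178176, nat_lit 164864, nat_lit 161664, nat_lit 158144, nat_lit 152672, nat_lit 148976, nat_lit 146312, nat_lit 140504, nat_lit 136120, nat_lit 132382, nat_lit 420, nat_lit 6208, nat_lit 8832, nat_lit 15024, nat_lit 18464, nat_lit 22656, nat_lit 27008, nat_lit 30464, nat_lit 33792, nat_lit 46673, nat_lit 41344, nat_lit 39201, nat_lit 33318, nat_lit 29793, nat_lit 24618, nat_lit 20560, nat_lit 16385, nat_lit 12290, nat_lit 8195, nat_lit 4, nat_lit 413700, nat_lit 405506, nat_lit 397312, nat_lit 147488, nat_lit 143376, nat_lit 139288, nat_lit 135188, nat_lit 131082, nat_lit 45091, nat_lit 41001, nat_lit 36879, nat_lit 32819, nat_lit 28710, nat_lit 24592]⟩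
def ndMg8_3 : El := ⟨[nat_lit 0x42bbe179a425ced0680b139115a39891aae1, nat_lit 0x2888e10d5c53dd804a151251a3b08cf92e70, nat_lit 0x3f935a34057452cade4b1a20279ec132a64], [nat_lit 73728, nat_lit 77824, nat_lit 81920, nat_lit 86016, nat_lit 90112, nat_lit 94208, nat_lit 110592, nat_lit 178176, nat_lit 173056, nat_lit 169472, nat_lit 164864, nat_lit 163200, nat_lit 158656, nat_lit 152832, nat_lit 149888, nat_lit 146904, nat_lit 142812, nat_lit 137264, nat_lit 134306, nat_lit 3622, nat_lit 7880, nat_lit 11216, nat_lit 16144, nat_lit 17664, nat_lit 20544, nat_lit 26752, nat_lit 29440, nat_lit 34816, nat_lit 38912, nat_lit 43008, nat_lit 46279, nat_lit 41836, nat_lit 38268, nat_lit 32830, nat_lit 30843, nat_lit 25621, nat_lit 20497, nat_lit 16429, nat_lit 12311, nat_lit 8194, nat_lit 4097, nat_lit 2, nat_lit 413700, nat_lit 405506, nat_lit 397312, nat_lit 147488, nat_lit 143376, nat_lit 139288, nat_lit 135188, nat_lit 131082, nat_lit 45091, nat_lit 41001, nat_lit 36879, nat_lit 32819, nat_lit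 28710, nat_lit 24592]⟩
def ndMg8_4 : El := ⟨[nat_lit 0x95f05a5384500692bb22f5a2d068cc9392b3, nat_lit 0x9f6a5f2c2ef3564c42923b1dd36d22458820, nat_lit 0x30a36088988016c19c8d76d0ef1a60e5d48a], [nat_lit 77824, nat_lit 86016, nat_lit 94208, nat_lit 98304, nat_lit 173056, nat_lit 171008, nat_lit 165376, nat_lit 160128, nat_lit 158016, nat_lit 155296, nat_lit 150432, nat_lit 146832, nat_lit 141304, nat_lit 136464, nat_lit 134095, nat_lit 3102, nat_lit 4484, nat_lit 9784, nat_lit 13696, nat_lit 17920, nat_lit 22080, nat_lit 25600, nat_lit 33792, nat_lit 37888, nat_lit 43008, nat_lit 45555, nat_lit 41974, nat_lit 38242, nat_lit 33856, nat_lit 28962, nat_lit 24597, nat_lit 20759, nat_lit 16449, nat_lit 12295, nat_lit 8202, nat_lit 4, nat_lit 413700, nat_lit 405506, nat_lit 397312, nat_lit 143408, nat_lit 139288, nat_lit 131132, nat_lit 45091, nat_lit 40970, nat_lit 36879, nat_lit 32819, nat_lit 28677, nat_lit 24627]⟩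
def ndMr8_0 : El := ⟨[nat_lit 0x71ee445d6c8101eda26ea3ce046386191a25, nat_lit 0xb2e127ba4ec74c4da2caf54500248c1b5603, nat_lit 0x5a5c359b1ed416e0b2ce38c24e3095520689, nat_lit 0x3603055cce8256d08b9856d12012aef18646], [nat_lit 65536, nat_lit 69632, nat_lit 77824, nat_lit 81920, nat_lit 86016, nat_lit 94208, nat_lit 98304, nat_lit 102400, nat_lit 110592, nat_lit 173056, nat_lit 171520, nat_lit 164096, nat_lit 160000, nat_lit 157440, nat_lit 153568, nat_lit 148720, nat_lit 146952, nat_lit 141320, nat_lit 138754, nat_lit 134349, nat_lit 2320, nat_lit 6428, nat_lit 10600, nat_lit 15392, nat_lit 19520, nat_lit 20800, nat_lit 27264, nat_lit 35328, nat_lit 39936, nat_lit 46615, nat_lit 44000, nat_lit 39053, nat_lit 33895, nat_lit 28779, nat_lit 24761, nat_lit 20486, nat_lit 16399, nat_lit 12307, nat_lit 8193, nat_lit 4112, nat_lit 2, nat_lit 434184, nat_lit 421894, nat_lit 413700, nat_lit 405506, nat_lit 397312, nat_lit 160000, nat_lit 156032, nat_lit 147776, nat_lit 144528, nat_lit 139768,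 nat_lit 135200, nat_lit 131172, nat_lit 45491, nat_lit 37077]⟩
def ndMr8_1 : El := ⟨[nat_lit 0xe4ddbb6895172013b54b4624321be0b392e6, nat_lit 0x50c9c0700338bc85a8d464b1125d8476de90, nat_lit 0x5fc930459553bd85a26eb699c48022310672], [nat_lit 69632, nat_lit 73728, nat_lit 77824, nat_lit 81920, nat_lit 98304, nat_lit 102400, nat_lit 110592, nat_lit 174080, nat_lit 169472, nat_lit 164096, nat_lit 160768, nat_lit 156544, nat_lit 151776, nat_lit 148128, nat_lit 144136, nat_lit 140344, nat_lit 136006, nat_lit 131976, nat_lit 3802, nat_lit 4740, nat_lit 10032, nat_lit 14640, nat_lit 18336, nat_lit 20672, nat_lit 26112, nat_lit 28928, nat_lit 35840, nat_lit 38912, nat_lit 46752, nat_lit 43629, nat_lit 38934, nat_lit 32834, nat_lit 29211, nat_lit 24635, nat_lit 20562, nat_lit 16395, nat_lit 12304, nat_lit 8193, nat_lit 4104, nat_lit 2, nat_lit 425991, nat_lit 417797, nat_lit 409602, nat_lit 397312, nat_lit 160000, nat_lit 155904, nat_lit 151872, nat_lit 147488, nat_lit 139488, nat_lit 135472,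 nat_lit 131346, nat_lit 45059, nat_lit 40976, nat_lit 37013, nat_lit 12292]⟩
def ndMr8_2 : El := ⟨[nat_lit 0xfafc999852fb806772850651a495626b150b, nat_lit 0x5cc00a8b69723cb0b20c05b1539384338535, nat_lit 0xc0ca0c83437530efb20b58ae46a026e11069, nat_lit 0x56550095422a360f1a5c79a2cabc48558186], [nat_lit 65536, nat_lit 69632, nat_lit 81920, nat_lit 90112, nat_lit 94208, nat_lit 98304, nat_lit 110592, nat_lit 174080, nat_lit 168960, nat_lit 164352, nat_lit 160768, nat_lit 159360, nat_lit 154688, nat_lit 149360, nat_lit 144696, nat_lit 142256, nat_lit 137462, nat_lit 132462, nat_lit 190, nat_lit 5940, nat_lit 12032, nat_lit 14592, nat_lit 18752, nat_lit 20736, nat_lit 24704, nat_lit 31744, nat_lit 34816, nat_lit 39936, nat_lit 43008, nat_lit 46519, nat_lit 41770, nat_lit 37188, nat_lit 33376, nat_lit 30756, nat_lit 25099, nat_lit 20494, nat_lit 16515, nat_lit 12322, nat_lit 64, nat_lit 438282, nat_lit 430088, nat_lit 421894, nat_lit 413700, nat_lit 405506, nat_lit 397312, nat_lit 165888,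 nat_lit 162048, nat_lit 155776, nat_lit 153408, nat_lit 151168, nat_lit 146672, nat_lit 140608, nat_lit 136152, nat_lit 133354, nat_lit 327680]⟩
def ndMr8_3 : El := ⟨[nat_lit 0xaf9c0695d809c0eb488a36b8caa3c31b5504, nat_lit 0xded78b3dd4e98632b116c2a28d10070a992f, nat_lit 0xb2b4e115daaa240f2ca705d5c1432c331e24], [nat_lit 90112, nat_lit 98304, nat_lit 102400, nat_lit 106496, nat_lit 110592, nat_lit 178176, nat_lit 171008, nat_lit 166656, nat_lit 161920, nat_lit 157504, nat_lit 153664, nat_lit 147840, nat_lit 145168, nat_lit 142336, nat_lit 139200, nat_lit 135120, nat_lit 800, nat_lit 5016, nat_lit 10624, nat_lit 14048, nat_lit 19264, nat_lit 23808, nat_lit 28544, nat_lit 28928, nat_lit 34304, nat_lit 39936, nat_lit 46156, nat_lit 43369, nat_lit 36975, nat_lit 32896, nat_lit 29029, nat_lit 24638, nat_lit 20548, nat_lit 16417, nat_lit 12305, nat_lit 8257, nat_lit 4097, nat_lit 430086, nat_lit 413700, nat_lit 397312, nat_lit 156160, nat_lit 152064, nat_lit 148000, nat_lit 135744, nat_lit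 131666, nat_lit 45059, nat_lit 41552, nat_lit 32819, nat_lit 28755, nat_lit 12289, nat_lit 8193]⟩
def ndMr8_4 : El := ⟨[nat_lit 0x2247222400b45daa3ba85b30438c9f549833, nat_lit 0xa039c0bcd8a7d9328ae8d0082419ca6aa1d0, nat_lit 0xaaca59148ed1c0cc7d94e494948aeb3006e8, nat_lit 0x5966a530a0923ac762d5700eaf9c68d0c8a8], [nat_lit 65536, nat_lit 73728, nat_lit 77824, nat_lit 81920, nat_lit 102400, nat_lit 168960, nat_lit 164352, nat_lit 160640, nat_lit 158848, nat_lit 152992, nat_lit 150944, nat_lit 146224, nat_lit 139812, nat_lit 138588, nat_lit 131492, nat_lit 3122, nat_lit 5628, nat_lit 10176, nat_lit 14832, nat_lit 19264, nat_lit 23744, nat_lit 25600, nat_lit 29952, nat_lit 34816, nat_lit 39936, nat_lit 45272, nat_lit 37044, nat_lit 32805, nat_lit 28708, nat_lit 24579, nat_lit 20620, nat_lit 16901, nat_lit 12325, nat_lit 8200, nat_lit 4160, nat_lit 2, nat_lit 430088, nat_lit 421894, nat_lit 413700, nat_lit 405506, nat_lit 397312, nat_lit 164352, nat_lit 151936, nat_lit 148192, nat_lit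 143392, nat_lit 139328, nat_lit 135576, nat_lit 131384, nat_lit 45548, nat_lit 41561, nat_lit 327680]⟩
def ndMr8_5 : El := ⟨[nat_lit 0x6569c65a0d65026c3d1ee8d6458246d25c41, nat_lit 0xe881b70552d545661bae8242d4096623bd92, nat_lit 0x8d8112491079c4227ddb6940602a8cbad18e], [nat_lit 65536, nat_lit 69632, nat_lit 178176, nat_lit 171520, nat_lit 167168, nat_lit 163584, nat_lit 159296, nat_lit 153120, nat_lit 148336, nat_lit 144616, nat_lit 139448, nat_lit 136080, nat_lit 133463, nat_lit 2356, nat_lit 4568, nat_lit 11800, nat_lit 15264, nat_lit 18624, nat_lit 23936, nat_lit 27264, nat_lit 32000, nat_lit 34816, nat_lit 39936, nat_lit 45759, nat_lit 41941, nat_lit 37973, nat_lit 32802, nat_lit 29245, nat_lit 24606, nat_lit 20617, nat_lit 16417, nat_lit 12354, nat_lit 8194, nat_lit 4100, nat_lit 425990, nat_lit 413700, nat_lit 405506, nat_lit 397312, nat_lit 151808, nat_lit 147808, nat_lit 143376, nat_lit 139536, nat_lit 135232, nat_lit 131412, nat_lit 45071, nat_lit 40976, nat_lit 36943,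 nat_lit 28758, nat_lit 327680]⟩
def ndMr8_6 : El := ⟨[nat_lit 0xd8e1720b22e6dc8850170b3ce9a8a9390cc5, nat_lit 0x74844144692531d680de6995a100aa9b9c8b, nat_lit 0xe147b173e549d8610110d619222d627bc16a, nat_lit 0x88eb17a8d21452706bd56148ee60091b9566], [nat_lit 73728, nat_lit 77824, nat_lit 81920, nat_lit 86016, nat_lit 94208, nat_lit 102400, nat_lit 178176, nat_lit 175104, nat_lit 171008, nat_lit 164864, nat_lit 160640, nat_lit 159488, nat_lit 154880, nat_lit 149248, nat_lit 143992, nat_lit 139620, nat_lit 136554, nat_lit 132200, nat_lit 3052, nat_lit 7164, nat_lit 8560, nat_lit 14208, nat_lit 18464, nat_lit 21440, nat_lit 26752, nat_lit 34304, nat_lit 39936, nat_lit 46051, nat_lit 41483, nat_lit 38020, nat_lit 32896, nat_lit 28681, nat_lit 26632, nat_lit 20553, nat_lit 12289, nat_lit 8704, nat_lit 4101, nat_lit 4, nat_lit 438282, nat_lit 430088, nat_lit 421894, nat_lit 413700, nat_lit 405506, nat_lit 397312, nat_lit 174080, nat_lit 166912, nat_lit 163072, nat_lit 159104, nat_lit 151808,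 nat_lit 151456, nat_lit 146384, nat_lit 139312, nat_lit 135964, nat_lit 131122]⟩
def ndMr8_7 : El := ⟨[nat_lit 0x7d187160ee77b9120ae22a34044da152cd46, nat_lit 0xb1d4b8a302011d30710d6594736d5488be57, nat_lit 0x82187185e83459c429e41536a664c4f5c409, nat_lit 0x2e277418124795abbaac6151d3606b13c248], [nat_lit 86016, nat_lit 90112, nat_lit 98304, nat_lit 106496, nat_lit 110592, nat_lit 178176, nat_lit 175104, nat_lit 171008, nat_lit 165888, nat_lit 162944, nat_lit 157120, nat_lit 154208, nat_lit 150896, nat_lit 145744, nat_lit 141444, nat_lit 137856, nat_lit 134033, nat_lit 2294, nat_lit 4172, nat_lit 11160, nat_lit 12976, nat_lit 17728, nat_lit 22592, nat_lit 26624, nat_lit 28928, nat_lit 36352, nat_lit 38912, nat_lit 46339, nat_lit 43626, nat_lit 36917, nat_lit 33886, nat_lit 28718, nat_lit 24607, nat_lit 20510, nat_lit 16429, nat_lit 12320, nat_lit 8193, nat_lit 4105, nat_lit 434185, nat_lit 425991, nat_lit 417796, nat_lit 405506, nat_lit 397312, nat_lit 168960, nat_lit 164352, nat_lit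 160000, nat_lit 157568, nat_lit 149056, nat_lit 143952, nat_lit 140504, nat_lit 137052, nat_lit 132176, nat_lit 46165, nat_lit 20488]⟩
def ndMr8_8 : El := ⟨[nat_lit 0xcc99f07c6062b92b02af31102ca0d123d6cd, nat_lit 0x4e18ed78a0e3d58b6991790ca40cd2a04696, nat_lit 0x5a95f5a4c2b50a09d50e541971c644385ed, nat_lit 0xf5f3664c97500ed3bc5cc508af6a081350f0], [nat_lit 81920, nat_lit 86016, nat_lit 90112, nat_lit 102400, nat_lit 106496, nat_lit 110592, nat_lit 178176, nat_lit 168448, nat_lit 164864, nat_lit 163072, nat_lit 157504, nat_lit 154144, nat_lit 147888, nat_lit 146072, nat_lit 139400, nat_lit 135336, nat_lit 133783, nat_lit 2112, nat_lit 6944, nat_lit 11144, nat_lit 15056, nat_lit 18688, nat_lit 28032, nat_lit 31744, nat_lit 38912, nat_lit 43008, nat_lit 46578, nat_lit 41309, nat_lit 37133, nat_lit 33320, nat_lit 30813, nat_lit 24622, nat_lit 20495, nat_lit 16399, nat_lit 8195, nat_lit 438282, nat_lit 430088, nat_lit 421894, nat_lit 413700, nat_lit 405506, nat_lit 397312, nat_lit 174080,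 nat_lit 169984, nat_lit 166400, nat_lit 156544, nat_lit 155072, nat_lit 150432, nat_lit 145952, nat_lit 141856, nat_lit 137008, nat_lit 134050]⟩
def ndMr8_9 : El := ⟨[nat_lit 0x41e71d791d34c967352b0bb54388405432c2, nat_lit 0x14224b5de080b92718ab26900a65a2f998b4, nat_lit 0x60553308a89d8edaaae07123478d8b94029, nat_lit 0x3366f0a44b5938efb344abb1035913301830], [nat_lit 69632, nat_lit 73728, nat_lit 81920, nat_lit 86016, nat_lit 94208, nat_lit 102400, nat_lit 106496, nat_lit 173056, nat_lit 168960, nat_lit 163072, nat_lit 156160, nat_lit 155264, nat_lit 148752, nat_lit 143968, nat_lit 140564, nat_lit 137642, nat_lit 133046, nat_lit 3946, nat_lit 7844, nat_lit 10520, nat_lit 14512, nat_lit 16416, nat_lit 22080, nat_lit 25600, nat_lit 28928, nat_lit 37888, nat_lit 46969, nat_lit 41952, nat_lit 37126, nat_lit 33394, nat_lit 28681, nat_lit 24582, nat_lit 20745, nat_lit 16388, nat_lit 12292, nat_lit 8193, nat_lit 4161, nat_lit 2, nat_lit 430088, nat_lit 421894, nat_lit 413700, nat_lit 405506,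 nat_lit 397312, nat_lit 160512, nat_lit 156288, nat_lit 151680, nat_lit 148320, nat_lit 143456, nat_lit 140040, nat_lit 135704, nat_lit 131346, nat_lit 45853, nat_lit 41605]⟩
def ndMr8_10 : El := ⟨[nat_lit 0xf0669c0b25103ef4718a35344924ecb41eb0, nat_lit 0x30ac90214e065a698a1b55ba147aa5708c46, nat_lit 0x71ddeea5857538d38a48c7a245054236ae07], [nat_lit 65536, nat_lit 69632, nat_lit 77824, nat_lit 81920, nat_lit 86016, nat_lit 90112, nat_lit 94208, nat_lit 98304, nat_lit 106496, nat_lit 178176, nat_lit 175104, nat_lit 171008, nat_lit 164608, nat_lit 163584, nat_lit 158144, nat_lit 151648, nat_lit 148000, nat_lit 146928, nat_lit 140304, nat_lit 135922, nat_lit 131742, nat_lit 1766, nat_lit 4208, nat_lit 9560, nat_lit 13952, nat_lit 17216, nat_lit 21120, nat_lit 25472, nat_lit 29440, nat_lit 33280, nat_lit 47053, nat_lit 44025, nat_lit 39353, nat_lit 33014, nat_lit 28959, nat_lit 24595, nat_lit 20490, nat_lit 16462, nat_lit 12308, nat_lit 8194, nat_lit 4097, nat_lit 425988, nat_lit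 405506, nat_lit 397312, nat_lit 143376, nat_lit 139520, nat_lit 135172, nat_lit 131342, nat_lit 45071, nat_lit 40976, nat_lit 36870, nat_lit 28703, nat_lit 24581, nat_lit 20496]⟩
def ndMr8_11 : El := ⟨[nat_lit 0xeb7772111f648032ac15729d7163a6869a83, nat_lit 0xb748870412f354439d0b28b5013aeca231d7, nat_lit 0x3f5c90b5de7906ab618022c1d31aa914a08d, nat_lit 0x3ca55a3dec404221a18b56a1e95b94c94c43], [nat_lit 65536, nat_lit 77824, nat_lit 81920, nat_lit 86016, nat_lit 90112, nat_lit 110592, nat_lit 164864, nat_lit 163200, nat_lit 157440, nat_lit 154112, nat_lit 147872, nat_lit 146072, nat_lit 139404, nat_lit 135336, nat_lit 133783, nat_lit 2828, nat_lit 5708, nat_lit 11608, nat_lit 14080, nat_lit 17088, nat_lit 23296, nat_lit 28544, nat_lit 32256, nat_lit 34816, nat_lit 39936, nat_lit 43008, nat_lit 46318, nat_lit 40978, nat_lit 37187, nat_lit 33389, nat_lit 30734, nat_lit 24761, nat_lit 20495, nat_lit 16452, nat_lit 12311, nat_lit 4105, nat_lit 2, nat_lit 438282, nat_lit 430088, nat_lit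 421894, nat_lit 413700, nat_lit 405506, nat_lit 397312, nat_lit 174080, nat_lit 169984, nat_lit 166400, nat_lit 163328, nat_lit 158080, nat_lit 154368, nat_lit 147872, nat_lit 143488, nat_lit 139352, nat_lit 135996, nat_lit 134514]⟩
def ndMr8_12 : El := ⟨[nat_lit 0x28771e688e58ba011d5f725249458d30296c, nat_lit 0x88be2e1c8ab019509c6efab0871343672289, nat_lit 0xc6030a59dc6116f2ac481b228f6c26a60123, nat_lit 0xe8d471111013ce296954fa820ea0e4c59af6], [nat_lit 73728, nat_lit 90112, nat_lit 98304, nat_lit 106496, nat_lit 110592, nat_lit 178176, nat_lit 175104, nat_lit 171008, nat_lit 163072, nat_lit 158336, nat_lit 153920, nat_lit 150720, nat_lit 145816, nat_lit 141036, nat_lit 136290, nat_lit 134493, nat_lit 1096, nat_lit 6016, nat_lit 10368, nat_lit 13264, nat_lit 18080, nat_lit 20544, nat_lit 25600, nat_lit 29184, nat_lit 36352, nat_lit 37888, nat_lit 43008, nat_lit 47032, nat_lit 43384, nat_lit 36952, nat_lit 34854, nat_lit 28728, nat_lit 25088, nat_lit 20638, nat_lit 16398, nat_lit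 12295, nat_lit 8194, nat_lit 4101, nat_lit 2, nat_lit 438282, nat_lit 430088, nat_lit 421894, nat_lit 413700, nat_lit 405506, nat_lit 397312, nat_lit 171008, nat_lit 166400, nat_lit 162048, nat_lit 155904, nat_lit 153472, nat_lit 150560, nat_lit 146480, nat_lit 137944, nat_lit 134694]⟩
def ndMr8_13 : El := ⟨[nat_lit 0xf6055c3bc26ba2255a5a222a766568393810, nat_lit 0x3afac0159778a8122cd958368773d2320506, nat_lit 0x828eed92e21a2aa3b99b013dc8b119339409, nat_lit 0xed82d14d557900305d11688e6233cee291ac], [nat_lit 65536, nat_lit 69632, nat_lit 81920, nat_lit 86016, nat_lit 94208, nat_lit 98304, nat_lit 102400, nat_lit 175104, nat_lit 169472, nat_lit 167424, nat_lit 162688, nat_lit 156800, nat_lit 153568, nat_lit 149120, nat_lit 143920, nat_lit 142068, nat_lit 138846, nat_lit 134363, nat_lit 2874, nat_lit 5992, nat_lit 12104, nat_lit 16192, nat_lit 16960, nat_lit 23552, nat_lit 26112, nat_lit 28928, nat_lit 33792, nat_lit 38912, nat_lit 46848, nat_lit 43550, nat_lit 39212, nat_lit 32999,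 nat_lit 28719, nat_lit 24890, nat_lit 20510, nat_lit 16385, nat_lit 12292, nat_lit 8202, nat_lit 4100, nat_lit 430088, nat_lit 421894, nat_lit 413700, nat_lit 405506, nat_lit 397312, nat_lit 164352, nat_lit 160256, nat_lit 156160, nat_lit 152448, nat_lit 147904, nat_lit 144368, nat_lit 139400, nat_lit 135656, nat_lit 131676, nat_lit 45721, nat_lit 41050]⟩
def ndMr8_14 : El := ⟨[nat_lit 0x788d8b115ca9d4e48b2ef5a2161a5a695001, nat_lit 0xfca3fc048733b9a555e884aeb67b0860c222], [nat_lit 81920, nat_lit 90112, nat_lit 98304, nat_lit 102400, nat_lit 106496, nat_lit 178176, nat_lit 175104, nat_lit 171520, nat_lit 161152, nat_lit 158592, nat_lit 155488, nat_lit 149584, nat_lit 145024, nat_lit 141396, nat_lit 139078, nat_lit 131522, nat_lit 3310, nat_lit 6448, nat_lit 9384, nat_lit 14624, nat_lit 16672, nat_lit 23168, nat_lit 25472, nat_lit 30464, nat_lit 33280, nat_lit 38912, nat_lit 43008, nat_lit 45925, nat_lit 41198, nat_lit 39341, nat_lit 32908, nat_lit 28766, nat_lit 24758, nat_lit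 20573, nat_lit 16394, nat_lit 12304, nat_lit 4104, nat_lit 32, nat_lit 425988, nat_lit 397312, nat_lit 131346, nat_lit 28688, nat_lit 24592, nat_lit 20482, nat_lit 12289, nat_lit 8194]⟩
def ndMr8_15 : El := ⟨[nat_lit 0x2212e42b0d24b5731ba2101d14ac1f722ac2, nat_lit 0x2db7dd00823bda95314876b1ee5250b8ca13], [nat_lit 65536, nat_lit 73728, nat_lit 77824, nat_lit 86016, nat_lit 94208, nat_lit 102400, nat_lit 106496, nat_lit 178176, nat_lit 169472, nat_lit 165120, nat_lit 163456, nat_lit 158848, nat_lit 152352, nat_lit 150752, nat_lit 144880, nat_lit 142888, nat_lit 136532, nat_lit 131749, nat_lit 4016, nat_lit 7556, nat_lit 9752, nat_lit 15296, nat_lit 17248, nat_lit 23104, nat_lit 27776, nat_lit 29184, nat_lit 37888, nat_lit 43008, nat_lit 46746, nat_lit 43979, nat_lit 36992, nat_lit 33849, nat_lit 29227, nat_lit 24882, nat_lit 20482, nat_lit 16449, nat_lit 12311, nat_lit 8195, nat_lit 4097, nat_lit 425989, nat_lit 409600, nat_lit 131360, nat_lit 40976, nat_lit 28688, nat_lit 12289,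 nat_lit 8193, nat_lit 4097]⟩
def ndMr8_16 : El := ⟨[nat_lit 0xd1e42e225b6894c1a401514d6a90dcc43cf7, nat_lit 0x99f96f2982d7200b83e6391eaa49236bb054, nat_lit 0xb7b77890c225d9a5bbd46451848827071d35], [nat_lit 65536, nat_lit 90112, nat_lit 98304, nat_lit 102400, nat_lit 174080, nat_lit 168960, nat_lit 164864, nat_lit 161664, nat_lit 156992, nat_lit 151840, nat_lit 149696, nat_lit 145168, nat_lit 140800, nat_lit 137132, nat_lit 131141, nat_lit 3890, nat_lit 5256, nat_lit 8368, nat_lit 15744, nat_lit 17728, nat_lit 23296, nat_lit 27520, nat_lit 30208, nat_lit 34816, nat_lit 46431, nat_lit 41557, nat_lit 37081, nat_lit 32985, nat_lit 29042, nat_lit 24851, nat_lit 20500, nat_lit 16395, nat_lit 12295, nat_lit 8202, nat_lit 4097, nat_lit 425991, nat_lit 413700, nat_lit 405506, nat_lit 397312, nat_lit 160000, nat_lit 151936, nat_lit 147488, nat_lit 143760, nat_lit 139304, nat_lit 135296, nat_lit 131516, nat_lit 45483, nat_lit 40991, nat_lit 37133, nat_lit 24634]⟩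
def ndMr8_17 : El := ⟨[nat_lit 0xe7bde211d5058492a3cc56d5091b8178b276, nat_lit 0x3656c38050b29223aa8cf724f713593b5012, nat_lit 0x2b7e246160d012411aeee32911a1e7578936], [nat_lit 73728, nat_lit 86016, nat_lit 98304, nat_lit 106496, nat_lit 175104, nat_lit 168448, nat_lit 166144, nat_lit 162176, nat_lit 159360, nat_lit 154496, nat_lit 149120, nat_lit 145360, nat_lit 139748, nat_lit 137484, nat_lit 133900, nat_lit 2422, nat_lit 5120, nat_lit 12016, nat_lit 16160, nat_lit 16640, nat_lit 22400, nat_lit 27520, nat_lit 29440, nat_lit 33280, nat_lit 43008, nat_lit 45069, nat_lit 41357, nat_lit 36972, nat_lit 34024, nat_lit 29768, nat_lit 24638, nat_lit 20561, nat_lit 16386, nat_lit 12327, nat_lit 8227, nat_lit 32, nat_lit 421894, nat_lit 413700, nat_lit 405506, nat_lit 397312, nat_lit 151616, nat_lit 147648, nat_lit 143472, nat_lit 139432, nat_lit 135328, nat_lit 131310, nat_lit 45199, nat_lit 41103, nat_lit 36992, nat_lit 33004, nat_lit 327680]⟩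
def ndMr8_18 : El := ⟨[nat_lit 0x9653a68d6e8614743d9c2824c45cc017b552, nat_lit 0x78727461934bcc15814643b6ca78a4e58511, nat_lit 0x1ed12d9c4ef022d2ab097a2c30524ad708c3], [nat_lit 65536, nat_lit 69632, nat_lit 73728, nat_lit 81920, nat_lit 86016, nat_lit 98304, nat_lit 106496, nat_lit 169984, nat_lit 163328, nat_lit 157440, nat_lit 153984, nat_lit 149184, nat_lit 145984, nat_lit 142648, nat_lit 135864, nat_lit 134009, nat_lit 1140, nat_lit 5400, nat_lit 9296, nat_lit 12512, nat_lit 16608, nat_lit 21952, nat_lit 27264, nat_lit 32512, nat_lit 35840, nat_lit 37888, nat_lit 46766, nat_lit 41680, nat_lit 38299, nat_lit 32890, nat_lit 28686, nat_lit 24842, nat_lit 20481, nat_lit 16393, nat_lit 12290, nat_lit 8320, nat_lit 4097, nat_lit 430088, nat_lit 417796, nat_lit 405506, nat_lit 397312, nat_lit 164352, nat_lit 147776, nat_lit 143616, nat_lit 139272, nat_lit 135424, nat_lit 131136, nat_lit 45643, nat_lit 41742, nat_lit 28674, nat_lit 20496]⟩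
def ndMr8_19 : El := ⟨[nat_lit 0x7448141b8b5582220d1a4b5e4a81cc87cd2c, nat_lit 0x63afcf2324f4a0b1998036aee2555c1858f4, nat_lit 0x5ca6662bad002423a1a4d232357cee74094b, nat_lit 0x17421273c4d891355ccb40306154ac7440d7], [nat_lit 77824, nat_lit 86016, nat_lit 90112, nat_lit 94208, nat_lit 102400, nat_lit 106496, nat_lit 110592, nat_lit 178176, nat_lit 174080, nat_lit 168960, nat_lit 166144, nat_lit 157952, nat_lit 153056, nat_lit 148944, nat_lit 144552, nat_lit 139584, nat_lit 135304, nat_lit 133876, nat_lit 1224, nat_lit 7720, nat_lit 9264, nat_lit 13264, nat_lit 20160, nat_lit 22976, nat_lit 28160, nat_lit 30720, nat_lit 35840, nat_lit 39936, nat_lit 43008, nat_lit 45828, nat_lit 41333, nat_lit 39068, nat_lit 33009, nat_lit 28937, nat_lit 24763, nat_lit 20627, nat_lit 16519, nat_lit 12290, nat_lit 8195, nat_lit 4097, nat_lit 434184, nat_lit 421894, nat_lit 413700, nat_lit 405506, nat_lit 397312, nat_lit 164864, nat_lit 160768, nat_lit 156672, nat_lit 152576, nat_lit 148544, nat_lit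 143456, nat_lit 139752, nat_lit 136244, nat_lit 132416, nat_lit 46336, nat_lit 37300]⟩
def ndMr8_20 : El := ⟨[nat_lit 0xa5090cba194b1c331016e2c6a3835325188f, nat_lit 0x11ed879945219ab482aed605e77263659008, nat_lit 0x22deb194c83619e072235158f70952aa41ab, nat_lit 0x1b788d02a743b9ec8556290ee8214cd0a6d1], [nat_lit 69632, nat_lit 73728, nat_lit 77824, nat_lit 86016, nat_lit 90112, nat_lit 94208, nat_lit 98304, nat_lit 102400, nat_lit 110592, nat_lit 178176, nat_lit 170496, nat_lit 165376, nat_lit 161920, nat_lit 159616, nat_lit 153184, nat_lit 148368, nat_lit 145480, nat_lit 140040, nat_lit 138810, nat_lit 132629, nat_lit 582, nat_lit 7908, nat_lit 11088, nat_lit 13376, nat_lit 16736, nat_lit 21568, nat_lit 26752, nat_lit 30720, nat_lit 34816, nat_lit 46266, nat_lit 41696, nat_lit 37169, nat_lit 33505, nat_lit 29047, nat_lit 24833, nat_lit 20489, nat_lit 16396, nat_lit 12308, nat_lit 8193, nat_lit 4, nat_lit 430088, nat_lit 421894, nat_lit 413700, nat_lit 405506, nat_lit 397312, nat_lit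 164352, nat_lit 160000, nat_lit 151872, nat_lit 148448, nat_lit 143408, nat_lit 140056, nat_lit 135536, nat_lit 131350, nat_lit 45399, nat_lit 41667, nat_lit 327680]⟩
def ndMr8_21 : El := ⟨[nat_lit 0x6f59056de2f2d2043ac0eaa9120da6261923, nat_lit 0xcc55a4d0113c0622dca2ca2d3dd96aa470, nat_lit 0xfa0c961d2a029d2a64a0e0d8577c5b3410cb], [nat_lit 65536, nat_lit 69632, nat_lit 86016, nat_lit 102400, nat_lit 106496, nat_lit 178176, nat_lit 175104, nat_lit 171520, nat_lit 165632, nat_lit 162304, nat_lit 159360, nat_lit 155040, nat_lit 151040, nat_lit 143472, nat_lit 139364, nat_lit 138746, nat_lit 134649, nat_lit 2848, nat_lit 5992, nat_lit 10808, nat_lit 15680, nat_lit 19584, nat_lit 23936, nat_lit 27648, nat_lit 32512, nat_lit 34304, nat_lit 38912, nat_lit 43008, nat_lit 46816, nat_lit 41384, nat_lit 37104, nat_lit 34022, nat_lit 29197, nat_lit 24614, nat_lit 20568, nat_lit 12327, nat_lit 8226, nat_lit 4097, nat_lit 425991, nat_lit 417797, nat_lit 409603, nat_lit 397312, nat_lit 155904,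 nat_lit 152000, nat_lit 147840, nat_lit 143552, nat_lit 135672, nat_lit 131370, nat_lit 45065, nat_lit 40985, nat_lit 36937, nat_lit 8194, nat_lit 327680]⟩
def ndMr8_22 : El := ⟨[nat_lit 0x5c9533838d24118b4dc73b15b43802f54455, nat_lit 0x1e1d878ac5569e7235df400cae858296110a, nat_lit 0x5ca9697c1b112c6aad8c79b992bd08508128], [nat_lit 73728, nat_lit 77824, nat_lit 94208, nat_lit 98304, nat_lit 102400, nat_lit 110592, nat_lit 174080, nat_lit 169472, nat_lit 166144, nat_lit 162560, nat_lit 157056, nat_lit 152992, nat_lit 150816, nat_lit 146144, nat_lit 141868, nat_lit 137552, nat_lit 131861, nat_lit 1112, nat_lit 6772, nat_lit 8704, nat_lit 12496, nat_lit 19808, nat_lit 24192, nat_lit 27008, nat_lit 33792, nat_lit 38912, nat_lit 43008, nat_lit 46624, nat_lit 41300, nat_lit 37348, nat_lit 33280, nat_lit 28721, nat_lit 24852, nat_lit 20506, nat_lit 16431, nat_lit 12325, nat_lit 8194, nat_lit 4100, nat_lit 434184, nat_lit 421893, nat_lit 409603, nat_lit 401408, nat_lit 152832, nat_lit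 148864, nat_lit 143744, nat_lit 139416, nat_lit 131472, nat_lit 45068, nat_lit 37017, nat_lit 24588, nat_lit 4097]⟩
def ndMr8_23 : El := ⟨[nat_lit 0x124e7b78cf394155ba4205b6cc22285708d1, nat_lit 0x1282d15d10d548460dde3846ae04ce9232c5, nat_lit 0x4de1271ac0ab51cd105283ce24940a665df5], [nat_lit 69632, nat_lit 77824, nat_lit 106496, nat_lit 178176, nat_lit 170496, nat_lit 167168, nat_lit 155904, nat_lit 155104, nat_lit 147536, nat_lit 145744, nat_lit 141076, nat_lit 137712, nat_lit 131748, nat_lit 3320, nat_lit 4384, nat_lit 10976, nat_lit 14480, nat_lit 16448, nat_lit 23040, nat_lit 27904, nat_lit 29952, nat_lit 33792, nat_lit 37888, nat_lit 46820, nat_lit 41408, nat_lit 39408, nat_lit 32896, nat_lit 28992, nat_lit 24704, nat_lit 20491, nat_lit 16388, nat_lit 12292, nat_lit 4129, nat_lit 32, nat_lit 434184, nat_lit 417797, nat_lit 409603, nat_lit 397312, nat_lit 156672, nat_lit 152832, nat_lit 148736, nat_lit 143392, nat_lit 136288, nat_lit 131136, nat_lit 45066, nat_lit 36928, nat_lit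 28755, nat_lit 8193]⟩
def ndMr8_24 : El := ⟨[nat_lit 0x8de7818898b2d2507cc093847742aa4719b6, nat_lit 0xac0caf858c8780a4650558cc2e928f71b52b, nat_lit 0xb8ed418b04d72ec6056f04a83279d1420e65, nat_lit 0x3f9351b1c7ba1f2546ad28ad4206134ac06], [nat_lit 65536, nat_lit 73728, nat_lit 90112, nat_lit 94208, nat_lit 98304, nat_lit 102400, nat_lit 178176, nat_lit 173056, nat_lit 168448, nat_lit 165120, nat_lit 155904, nat_lit 152800, nat_lit 147472, nat_lit 143840, nat_lit 140004, nat_lit 135370, nat_lit 134254, nat_lit 120, nat_lit 4228, nat_lit 8336, nat_lit 12352, nat_lit 17088, nat_lit 21824, nat_lit 24704, nat_lit 29952, nat_lit 33792, nat_lit 43008, nat_lit 46733, nat_lit 41405, nat_lit 39270, nat_lit 33012, nat_lit 29008, nat_lit 24583, nat_lit 20486, nat_lit 16647, nat_lit 12805, nat_lit 8195, nat_lit 4, nat_lit 438282, nat_lit 430088, nat_lit 421894, nat_lit 413700, nat_lit 405506, nat_lit 397312, nat_lit 174080, nat_lit 168960, nat_lit 166400, nat_lit 162560, nat_lit 157824, nat_lit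 152960, nat_lit 148832, nat_lit 144256, nat_lit 142072, nat_lit 138240, nat_lit 132462]⟩
def ndMr8_25 : El := ⟨[nat_lit 0x7412dd4c40c81ad213d73751a5ba8e825423, nat_lit 0xc0a390732884d48730e6d2c02f5881794556, nat_lit 0xcff6a6b48b53881023db355c6e6068942cd1, nat_lit 0x63c6aca1ea124e401b0cf59502bc5a9829d6], [nat_lit 65536, nat_lit 69632, nat_lit 73728, nat_lit 77824, nat_lit 86016, nat_lit 94208, nat_lit 98304, nat_lit 102400, nat_lit 106496, nat_lit 110592, nat_lit 178176, nat_lit 174080, nat_lit 171520, nat_lit 167680, nat_lit 162432, nat_lit 158912, nat_lit 155360, nat_lit 150448, nat_lit 137712, nat_lit 2452, nat_lit 4588, nat_lit 12136, nat_lit 15360, nat_lit 18976, nat_lit 22336, nat_lit 25472, nat_lit 31488, nat_lit 35328, nat_lit 39936, nat_lit 43008, nat_lit 45752, nat_lit 41300, nat_lit 39244, nat_lit 33410, nat_lit 28724, nat_lit 24837, nat_lit 20484, nat_lit 16390, nat_lit 14336, nat_lit 8209, nat_lit 4, nat_lit 438282, nat_lit 430088, nat_lit 421894, nat_lit 413700, nat_lit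 405506, nat_lit 397312, nat_lit 165888, nat_lit 160512, nat_lit 157312, nat_lit 154496, nat_lit 149184, nat_lit 147008, nat_lit 141624, nat_lit 137564, nat_lit 133816]⟩
def ndMr8_26 : El := ⟨[nat_lit 0x5f5fac1b8542d9878196198124abd0a95db1, nat_lit 0x93afc0328a26a46e648967d0f0022f58ac33, nat_lit 0x228b888b0f5b01749bc9768dca308a984828, nat_lit 0xc3a9fbb6488a9f574d766413430ca411c01], [nat_lit 65536, nat_lit 69632, nat_lit 81920, nat_lit 86016, nat_lit 90112, nat_lit 94208, nat_lit 106496, nat_lit 110592, nat_lit 178176, nat_lit 174080, nat_lit 164352, nat_lit 160000, nat_lit 156800, nat_lit 154976, nat_lit 147616, nat_lit 144064, nat_lit 140568, nat_lit 136230, nat_lit 134382, nat_lit 718, nat_lit 7952, nat_lit 9192, nat_lit 14176, nat_lit 17984, nat_lit 23040, nat_lit 26368, nat_lit 29440, nat_lit 34304, nat_lit 38912, nat_lit 46310, nat_lit 41736, nat_lit 36992, nat_lit 34045, nat_lit 28934, nat_lit 24581, nat_lit 20625, nat_lit 16391, nat_lit 12294, nat_lit 8202, nat_lit 16, nat_lit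 438280, nat_lit 421894, nat_lit 413700, nat_lit 405506, nat_lit 397312, nat_lit 165888, nat_lit 155776, nat_lit 153984, nat_lit 149792, nat_lit 145760, nat_lit 139272, nat_lit 137528, nat_lit 133616, nat_lit 41132, nat_lit 37282, nat_lit 327680]⟩
def ndMr8_27 : El := ⟨[nat_lit 0x536ac358a154da2140ef2730ef55013234a6, nat_lit 0xe2d817812e7620455bc666c9d5552690d811, nat_lit 0x309c555cc400d362c1c13b6226228faae72, nat_lit 0xdb2b126d4471bcb7038d45c67242930232c1], [nat_lit 69632, nat_lit 77824, nat_lit 86016, nat_lit 98304, nat_lit 102400, nat_lit 178176, nat_lit 175104, nat_lit 171008, nat_lit 167680, nat_lit 162560, nat_lit 159168, nat_lit 155360, nat_lit 150464, nat_lit 133617, nat_lit 730, nat_lit 7300, nat_lit 10408, nat_lit 13216, nat_lit 20384, nat_lit 27136, nat_lit 28928, nat_lit 34816, nat_lit 43008, nat_lit 45640, nat_lit 37238, nat_lit 32791, nat_lit 28673, nat_lit 24599, nat_lit 21015, nat_lit 16390, nat_lit 14337, nat_lit 438282, nat_lit 430088, nat_lit 421894, nat_lit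 413700, nat_lit 405506, nat_lit 397312, nat_lit 169984, nat_lit 165888, nat_lit 161536, nat_lit 158208, nat_lit 155008, nat_lit 149664, nat_lit 144096, nat_lit 139760, nat_lit 137488, nat_lit 134804]⟩
def ndMr8_28 : El := ⟨[nat_lit 0x7d177e00c2eb153095d64446877b1a254ea6, nat_lit 0x71bb826d0ce64d033805591616ba48b545e1, nat_lit 0x2d1214b2915a5d6914833699c4182113bd85], [nat_lit 65536, nat_lit 77824, nat_lit 86016, nat_lit 90112, nat_lit 94208, nat_lit 98304, nat_lit 106496, nat_lit 110592, nat_lit 178176, nat_lit 174080, nat_lit 171520, nat_lit 167680, nat_lit 160256, nat_lit 158848, nat_lit 153216, nat_lit 149968, nat_lit 145328, nat_lit 141628, nat_lit 137530, nat_lit 133417, nat_lit 3564, nat_lit 7916, nat_lit 11592, nat_lit 14544, nat_lit 18112, nat_lit 23104, nat_lit 25600, nat_lit 36352, nat_lit 43008, nat_lit 46615, nat_lit 43424, nat_lit 37079, nat_lit 32979, nat_lit 28973, nat_lit 24605, nat_lit 20637, nat_lit 16398, nat_lit 12308, nat_lit 8195, nat_lit 4101, nat_lit 425991,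 nat_lit 417797, nat_lit 409603, nat_lit 397312, nat_lit 160000, nat_lit 155776, nat_lit 151808, nat_lit 147680, nat_lit 143744, nat_lit 135232, nat_lit 131328, nat_lit 45065, nat_lit 41050, nat_lit 36937, nat_lit 8194]⟩
def ndMr8_29 : El := ⟨[nat_lit 0xcaaf09bd25678905038e9235413306b8d613, nat_lit 0xf00f0ac8c1a3ae89be293b545609601c2c4, nat_lit 0xcac99a2bced44172610ce006968a933a8877], [nat_lit 65536, nat_lit 69632, nat_lit 73728, nat_lit 77824, nat_lit 86016, nat_lit 90112, nat_lit 94208, nat_lit 98304, nat_lit 102400, nat_lit 106496, nat_lit 110592, nat_lit 174080, nat_lit 171008, nat_lit 167168, nat_lit 162560, nat_lit 156928, nat_lit 155328, nat_lit 151232, nat_lit 146584, nat_lit 141660, nat_lit 135202, nat_lit 133828, nat_lit 2246, nat_lit 8104, nat_lit 11904, nat_lit 14464, nat_lit 17856, nat_lit 21760, nat_lit 27008, nat_lit 31744, nat_lit 34816, nat_lit 39936, nat_lit 46504, nat_lit 43236, nat_lit 37312, nat_lit 32961, nat_lit 28759, nat_lit 24735, nat_lit 20481, nat_lit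 16391, nat_lit 12358, nat_lit 8200, nat_lit 4097, nat_lit 2, nat_lit 425991, nat_lit 413700, nat_lit 405506, nat_lit 397312, nat_lit 151936, nat_lit 147840, nat_lit 143392, nat_lit 139432, nat_lit 135596, nat_lit 131500, nat_lit 45071, nat_lit 41103, nat_lit 37014, nat_lit 24591, nat_lit 327680]⟩
def ndMr8_30 : El := ⟨[nat_lit 0xa09c095dc02732883a6a49595183c2568e66, nat_lit 0x666003350ec746172824859053185f54d9aa, nat_lit 0x53953cb8aa14bd8831e1389492a58606a96e], [nat_lit 65536, nat_lit 69632, nat_lit 77824, nat_lit 81920, nat_lit 86016, nat_lit 106496, nat_lit 110592, nat_lit 178176, nat_lit 168960, nat_lit 167680, nat_lit 163072, nat_lit 155968, nat_lit 153120, nat_lit 150448, nat_lit 144456, nat_lit 140808, nat_lit 138802, nat_lit 133250, nat_lit 1618, nat_lit 8016, nat_lit 9016, nat_lit 15264, nat_lit 18656, nat_lit 23104, nat_lit 26496, nat_lit 28928, nat_lit 33280, nat_lit 46472, nat_lit 43703, nat_lit 37362, nat_lit 33395, nat_lit 28929, nat_lit 25128, nat_lit 20498, nat_lit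 16390, nat_lit 12294, nat_lit 8194, nat_lit 4097, nat_lit 2, nat_lit 434184, nat_lit 413700, nat_lit 405506, nat_lit 397312, nat_lit 164864, nat_lit 152832, nat_lit 143376, nat_lit 140304, nat_lit 135428, nat_lit 132370, nat_lit 45071, nat_lit 36870, nat_lit 28688, nat_lit 24579]⟩
def ndMr8_31 : El := ⟨[nat_lit 0x488b22604ae6da6a4520f8c8c301eb74ac44, nat_lit 0xa33f0a3012819633851cabae4f3d6c1111ac, nat_lit 0xed144d31630b5c6273d696a18aa803439272], [nat_lit 65536, nat_lit 77824, nat_lit 90112, nat_lit 106496, nat_lit 178176, nat_lit 173056, nat_lit 168448, nat_lit 166912, nat_lit 162688, nat_lit 156160, nat_lit 155616, nat_lit 143560, nat_lit 137226, nat_lit 134794, nat_lit 3632, nat_lit 7592, nat_lit 9920, nat_lit 13424, nat_lit 19488, nat_lit 22912, nat_lit 26624, nat_lit 32512, nat_lit 35840, nat_lit 39936, nat_lit 43008, nat_lit 45474, nat_lit 41474, nat_lit 38394, nat_lit 32930, nat_lit 29018, nat_lit 24610, nat_lit 20501, nat_lit 16421, nat_lit 12419, nat_lit 8193, nat_lit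 425991, nat_lit 417797, nat_lit 409603, nat_lit 401408, nat_lit 160000, nat_lit 155776, nat_lit 151872, nat_lit 147680, nat_lit 143680, nat_lit 139480, nat_lit 131352, nat_lit 45068, nat_lit 41100, nat_lit 36928, nat_lit 4097]⟩
def ndMr8_32 : El := ⟨[nat_lit 0x721881bad4e49413a4a0f230f61542d44466, nat_lit 0x244271b026f59297ac181128a3325cd91e28, nat_lit 0xaa9af3a166655b78081198643228a9a3acf], [nat_lit 69632, nat_lit 77824, nat_lit 86016, nat_lit 174080, nat_lit 171008, nat_lit 167424, nat_lit 161920, nat_lit 155968, nat_lit 151904, nat_lit 147520, nat_lit 144160, nat_lit 142536, nat_lit 137410, nat_lit 134926, nat_lit 1086, nat_lit 6872, nat_lit 9968, nat_lit 15840, nat_lit 20256, nat_lit 23488, nat_lit 25344, nat_lit 30464, nat_lit 36352, nat_lit 38912, nat_lit 43008, nat_lit 46952, nat_lit 41280, nat_lit 37215, nat_lit 33535, nat_lit 29043, nat_lit 20738, nat_lit 16393, nat_lit 12311, nat_lit 8195, nat_lit 4100, nat_lit 425991, nat_lit 413700, nat_lit 405506, nat_lit 397312,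 nat_lit 151808, nat_lit 147744, nat_lit 143776, nat_lit 139688, nat_lit 135560, nat_lit 131478, nat_lit 45071, nat_lit 40991, nat_lit 36867, nat_lit 24581]⟩
def ndMr8_33 : El := ⟨[nat_lit 0x41e7e2752b149ac3012ea6c10b1066c7c8e5, nat_lit 0x1818d4b2e4168c458cd843d6ef85008499ca, nat_lit 0x6affaa63daeaded45250b08c0284e32314e4], [nat_lit 77824, nat_lit 90112, nat_lit 98304, nat_lit 106496, nat_lit 110592, nat_lit 178176, nat_lit 173056, nat_lit 171520, nat_lit 164864, nat_lit 160512, nat_lit 156288, nat_lit 155040, nat_lit 148064, nat_lit 147048, nat_lit 139348, nat_lit 137018, nat_lit 132729, nat_lit 1896, nat_lit 5056, nat_lit 8888, nat_lit 16048, nat_lit 17824, nat_lit 24256, nat_lit 28160, nat_lit 29184, nat_lit 35840, nat_lit 37888, nat_lit 43008, nat_lit 46503, nat_lit 41851, nat_lit 36871, nat_lit 33810, nat_lit 30776, nat_lit 24600, nat_lit 20739, nat_lit 16456, nat_lit 12324, nat_lit 8194, nat_lit 434184, nat_lit 413700, nat_lit 405506, nat_lit 397312, nat_lit 151808, nat_lit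 147744, nat_lit 144400, nat_lit 139280, nat_lit 135204, nat_lit 131110, nat_lit 45071, nat_lit 36873, nat_lit 28703, nat_lit 24579]⟩
def ndMr8_34 : El := ⟨[nat_lit 0x7edd1ea9a004bc437597721d4ca06256a272, nat_lit 0x1e741b6586454eb40404b8a0c7b84af925cd, nat_lit 0xc5500694271bd6d46b1ee310e54292b10c01], [nat_lit 65536, nat_lit 69632, nat_lit 73728, nat_lit 81920, nat_lit 86016, nat_lit 90112, nat_lit 94208, nat_lit 110592, nat_lit 178176, nat_lit 175104, nat_lit 168960, nat_lit 167424, nat_lit 160640, nat_lit 157952, nat_lit 155072, nat_lit 148144, nat_lit 143456, nat_lit 142240, nat_lit 135678, nat_lit 134699, nat_lit 4060, nat_lit 4532, nat_lit 8824, nat_lit 15888, nat_lit 18176, nat_lit 24256, nat_lit 25088, nat_lit 30976, nat_lit 46619, nat_lit 41371, nat_lit 37157, nat_lit 32975, nat_lit 29022, nat_lit 24869, nat_lit 20497, nat_lit 16420, nat_lit 12359, nat_lit 8195, nat_lit 4097, nat_lit 425991, nat_lit 417797, nat_lit 409602, nat_lit 397312, nat_lit 160000, nat_lit 151808,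 nat_lit 147616, nat_lit 139280, nat_lit 135648, nat_lit 131378, nat_lit 45059, nat_lit 40979, nat_lit 37014, nat_lit 12292]⟩
def ndMr8_35 : El := ⟨[nat_lit 0x6cf5f653d2702e161888c356ee9c4ad90688, nat_lit 0xeed1223c563981444a1f5941d60dc4c334b4, nat_lit 0xccc3c6b523013c0e590ca6858394eb741527], [nat_lit 65536, nat_lit 69632, nat_lit 73728, nat_lit 81920, nat_lit 86016, nat_lit 90112, nat_lit 94208, nat_lit 98304, nat_lit 102400, nat_lit 110592, nat_lit 178176, nat_lit 175104, nat_lit 169472, nat_lit 165120, nat_lit 162176, nat_lit 158336, nat_lit 154272, nat_lit 149792, nat_lit 146304, nat_lit 142240, nat_lit 136276, nat_lit 134914, nat_lit 1514, nat_lit 4160, nat_lit 9448, nat_lit 13792, nat_lit 17248, nat_lit 23424, nat_lit 26240, nat_lit 29184, nat_lit 35328, nat_lit 39936, nat_lit 46848, nat_lit 43234, nat_lit 37888, nat_lit 33431, nat_lit 28745, nat_lit 24706, nat_lit 20742, nat_lit 16394, nat_lit 12291, nat_lit 8451, nat_lit 430088, nat_lit 421893, nat_lit 409602, nat_lit 397312,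 nat_lit 152320, nat_lit 147744, nat_lit 139424, nat_lit 135220, nat_lit 131088, nat_lit 45061, nat_lit 41494, nat_lit 24581, nat_lit 12290]⟩
def ndMr8_36 : El := ⟨[nat_lit 0x4e42db89409731b420950bdaaf34d030c967, nat_lit 0x3ac995608f46a1f1486005989395d55716c3, nat_lit 0x560f36ada97290c76b98f84a714a96810c01], [nat_lit 65536, nat_lit 77824, nat_lit 81920, nat_lit 90112, nat_lit 94208, nat_lit 98304, nat_lit 173056, nat_lit 171520, nat_lit 164096, nat_lit 158144, nat_lit 153440, nat_lit 147984, nat_lit 143624, nat_lit 141808, nat_lit 138662, nat_lit 133811, nat_lit 236, nat_lit 5076, nat_lit 8504, nat_lit 15072, nat_lit 20416, nat_lit 23488, nat_lit 25088, nat_lit 29696, nat_lit 34816, nat_lit 46919, nat_lit 43035, nat_lit 37202, nat_lit 33519, nat_lit 29050, nat_lit 24765, nat_lit 20504, nat_lit 12320, nat_lit 8320, nat_lit 4097, nat_lit 425990, nat_lit 413700, nat_lit 405506, nat_lit 397312, nat_lit 155904, nat_lit 151872, nat_lit 147744, nat_lit 143712, nat_lit 139304, nat_lit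 135548, nat_lit 131108, nat_lit 45071, nat_lit 41049, nat_lit 28703]⟩
def ndMr8_37 : El := ⟨[nat_lit 0x887d7409d72a358e494117deb630e682404a, nat_lit 0xc366ff1c80b3d1e2b4d358a1ac206ee518b0, nat_lit 0x21277b6ad4e182d47a189910b108af581e66], [nat_lit 65536, nat_lit 73728, nat_lit 77824, nat_lit 86016, nat_lit 90112, nat_lit 98304, nat_lit 102400, nat_lit 106496, nat_lit 110592, nat_lit 173056, nat_lit 168448, nat_lit 165376, nat_lit 161152, nat_lit 157120, nat_lit 152064, nat_lit 147536, nat_lit 144456, nat_lit 141196, nat_lit 137978, nat_lit 132576, nat_lit 1576, nat_lit 6264, nat_lit 12216, nat_lit 12800, nat_lit 17152, nat_lit 21056, nat_lit 27904, nat_lit 31744, nat_lit 36352, nat_lit 39936, nat_lit 46675, nat_lit 43322, nat_lit 37946, nat_lit 33368, nat_lit 28732, nat_lit 25148, nat_lit 20548, nat_lit 12295, nat_lit 8195, nat_lit 425990, nat_lit 413700, nat_lit 405506, nat_lit 397312, nat_lit 151872, nat_lit 147808, nat_lit 143664, nat_lit 139296, nat_lit 135216, nat_lit 131442,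 nat_lit 45071, nat_lit 41050, nat_lit 36928, nat_lit 28688]⟩
def ndMr8_38 : El := ⟨[nat_lit 0x84217874567a092ab48706bc17615130d4c4, nat_lit 0x333336625f031d13ad15169456012ee58e41, nat_lit 0xc6a9cc9b592a5840299690dc7551c8883dd1], [nat_lit 77824, nat_lit 81920, nat_lit 86016, nat_lit 98304, nat_lit 110592, nat_lit 169472, nat_lit 166656, nat_lit 163456, nat_lit 155968, nat_lit 155232, nat_lit 150288, nat_lit 145656, nat_lit 141360, nat_lit 136456, nat_lit 131384, nat_lit 2032, nat_lit 6944, nat_lit 10568, nat_lit 12928, nat_lit 20448, nat_lit 20736, nat_lit 26496, nat_lit 30720, nat_lit 35328, nat_lit 37888, nat_lit 46237, nat_lit 41899, nat_lit 37909, nat_lit 32958, nat_lit 28991, nat_lit 24595, nat_lit 20511, nat_lit 16429, nat_lit 12320, nat_lit 8201, nat_lit 4097, nat_lit 425991, nat_lit 417797, nat_lit 409602, nat_lit 397312, nat_lit 160000, nat_lit 156032, nat_lit 152000, nat_lit 147520, nat_lit 139744, nat_lit 135444, nat_lit 131302, nat_lit 45062, nat_lit 41043, nat_lit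 36934, nat_lit 12289, nat_lit 327680]⟩
def ndMr8_39 : El := ⟨[nat_lit 0xcaaf09641aa1508e3bee198123ac976320b1, nat_lit 0xdd2ebeada2e48e863a0572c1840c80d53e6b, nat_lit 0xc605608c405a54831c85b56f49c2517358f], [nat_lit 73728, nat_lit 77824, nat_lit 81920, nat_lit 86016, nat_lit 94208, nat_lit 98304, nat_lit 102400, nat_lit 106496, nat_lit 110592, nat_lit 174080, nat_lit 171008, nat_lit 160000, nat_lit 158144, nat_lit 154528, nat_lit 148800, nat_lit 146312, nat_lit 142976, nat_lit 139200, nat_lit 132714, nat_lit 2560, nat_lit 4780, nat_lit 8936, nat_lit 16032, nat_lit 17568, nat_lit 23168, nat_lit 24960, nat_lit 29952, nat_lit 34304, nat_lit 45696, nat_lit 41826, nat_lit 38341, nat_lit 33975, nat_lit 28741, nat_lit 24705, nat_lit 21001, nat_lit 16640, nat_lit 12321, nat_lit 8194, nat_lit 4097, nat_lit 2, nat_lit 425990, nat_lit 413700, nat_lit 405506, nat_lit 397312, nat_lit 151872, nat_lit 147808, nat_lit 143648, nat_lit 139592, nat_lit 135540, nat_lit 131336, nat_lit 45071, nat_lit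 40988, nat_lit 28697]⟩
def ndMr8_40 : El := ⟨[nat_lit 0x84b8eb30113bb88713e811c525b298bac24d, nat_lit 0xc366005c1c9794d1ba0e168812652d351075, nat_lit 0xff00008d6d2414cb609e3852f322547681c1], [nat_lit 65536, nat_lit 69632, nat_lit 77824, nat_lit 81920, nat_lit 86016, nat_lit 90112, nat_lit 102400, nat_lit 175104, nat_lit 168960, nat_lit 164864, nat_lit 162816, nat_lit 156928, nat_lit 152864, nat_lit 148528, nat_lit 145800, nat_lit 142280, nat_lit 136790, nat_lit 134297, nat_lit 1636, nat_lit 8036, nat_lit 8624, nat_lit 16224, nat_lit 19136, nat_lit 22656, nat_lit 27264, nat_lit 31232, nat_lit 33280, nat_lit 46889, nat_lit 43338, nat_lit 37066, nat_lit 34864, nat_lit 29184, nat_lit 24610, nat_lit 20495, nat_lit 16643, nat_lit 12289, nat_lit 8225, nat_lit 8, nat_lit 425990, nat_lit 413700, nat_lit 405506, nat_lit 397312, nat_lit 155904, nat_lit 151808, nat_lit 147808, nat_lit 143680, nat_lit 139592, nat_lit 135276, nat_lit 131188, nat_lit 45071, nat_lit 41045, nat_lit 28757]⟩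
def ndMr8_41 : El := ⟨[nat_lit 0x1112784c04a880a4b998bb0e9241ead7866e, nat_lit 0x66066f7d5c204a773c16c8a5a4a0d0ab18a1, nat_lit 0xd1277421632b86a252dae3c0d3a58604258f], [nat_lit 65536, nat_lit 69632, nat_lit 73728, nat_lit 86016, nat_lit 90112, nat_lit 102400, nat_lit 178176, nat_lit 173056, nat_lit 169472, nat_lit 164096, nat_lit 159872, nat_lit 158208, nat_lit 153568, nat_lit 151472, nat_lit 143496, nat_lit 141936, nat_lit 135372, nat_lit 134628, nat_lit 2476, nat_lit 8152, nat_lit 9640, nat_lit 14592, nat_lit 19648, nat_lit 21504, nat_lit 28160, nat_lit 29952, nat_lit 33280, nat_lit 37888, nat_lit 43008, nat_lit 45400, nat_lit 41736, nat_lit 37950, nat_lit 33522, nat_lit 29021, nat_lit 24588, nat_lit 20485, nat_lit 16513, nat_lit 12305, nat_lit 8224, nat_lit 4609, nat_lit 430088, nat_lit 413700, nat_lit 405506, nat_lit 397312, nat_lit 164352, nat_lit 152320, nat_lit 147744, nat_lit 143376, nat_lit 139288, nat_lit 135440, nat_lit 131342, nat_lit 45071, nat_lit 41500, nat_lit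 28703, nat_lit 24591]⟩
def ndMr8_42 : El := ⟨[nat_lit 0x60cf6985533514d60d10320992381d1baded, nat_lit 0x359c5c2c416538e67d53708988250725b670, nat_lit 0x955a63b1207a324f1b4aa5cea8138c9bc401, nat_lit 0xf939090b8c8530e29c2365b4a078d24acaf4], [nat_lit 65536, nat_lit 69632, nat_lit 73728, nat_lit 81920, nat_lit 86016, nat_lit 90112, nat_lit 98304, nat_lit 102400, nat_lit 106496, nat_lit 175104, nat_lit 164352, nat_lit 161024, nat_lit 155712, nat_lit 154720, nat_lit 149920, nat_lit 144704, nat_lit 141664, nat_lit 137198, nat_lit 133536, nat_lit 3726, nat_lit 4624, nat_lit 11336, nat_lit 12400, nat_lit 19648, nat_lit 24064, nat_lit 28160, nat_lit 30464, nat_lit 33792, nat_lit 38912, nat_lit 45743, nat_lit 41749, nat_lit 36932, nat_lit 32991, nat_lit 29053, nat_lit 24871, nat_lit 20489, nat_lit 16463, nat_lit 12322, nat_lit 8195, nat_lit 4101, nat_lit 4, nat_lit 438281, nat_lit 421894, nat_lit 413700, nat_lit 405506, nat_lit 397312, nat_lit 169984, nat_lit 162304, nat_lit 158208, nat_lit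 152256, nat_lit 147968, nat_lit 143456, nat_lit 139376, nat_lit 135904, nat_lit 133318, nat_lit 41085, nat_lit 32776, nat_lit 327680]⟩
def ndMr8_43 : El := ⟨[nat_lit 0x5a60908aa564518ebac022860f33473a9d24, nat_lit 0xbe717e334913dd421c00e2d829955949bd0b, nat_lit 0x4e8e8e52c898bee1989b683aa329cc805192, nat_lit 0xdeeb2eb3d4b9ba3524868a0981299b73c120], [nat_lit 65536, nat_lit 73728, nat_lit 86016, nat_lit 94208, nat_lit 98304, nat_lit 106496, nat_lit 168960, nat_lit 166144, nat_lit 162944, nat_lit 151616, nat_lit 151424, nat_lit 146680, nat_lit 142448, nat_lit 137328, nat_lit 135055, nat_lit 3088, nat_lit 5444, nat_lit 11952, nat_lit 14448, nat_lit 18336, nat_lit 21120, nat_lit 25728, nat_lit 30976, nat_lit 39936, nat_lit 43008, nat_lit 45271, nat_lit 41804, nat_lit 38114, nat_lit 32875, nat_lit 29205, nat_lit 24892, nat_lit 20500, nat_lit 16386, nat_lit 12419, nat_lit 8193, nat_lit 4112, nat_lit 434184, nat_lit 421894, nat_lit 413700, nat_lit 405506, nat_lit 397312, nat_lit 164864,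 nat_lit 160768, nat_lit 157056, nat_lit 151744, nat_lit 147552, nat_lit 143376, nat_lit 140592, nat_lit 136244, nat_lit 131154, nat_lit 46088, nat_lit 37330]⟩
def ndMr8_44 : El := ⟨[nat_lit 0xe2d7188a893ba2c53258e00d6790a8f6d430, nat_lit 0x506cf6a1a6e8824b7d6040a4e515aea60d0d, nat_lit 0xb1e81d2082754a0b9a51173e976b2d500cc5], [nat_lit 65536, nat_lit 69632, nat_lit 77824, nat_lit 81920, nat_lit 94208, nat_lit 98304, nat_lit 178176, nat_lit 171520, nat_lit 166144, nat_lit 163584, nat_lit 156288, nat_lit 153088, nat_lit 148816, nat_lit 146848, nat_lit 141204, nat_lit 138978, nat_lit 132288, nat_lit 1076, nat_lit 7684, nat_lit 9328, nat_lit 13552, nat_lit 16576, nat_lit 22144, nat_lit 27392, nat_lit 31232, nat_lit 35840, nat_lit 38912, nat_lit 43008, nat_lit 47011, nat_lit 41676, nat_lit 36962, nat_lit 34976, nat_lit 28704, nat_lit 25112, nat_lit 20552, nat_lit 16417, nat_lit 12294, nat_lit 8202, nat_lit 4104, nat_lit 425991, nat_lit 417797, nat_lit 409602, nat_lit 397312, nat_lit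 160000, nat_lit 151808, nat_lit 147616, nat_lit 139536, nat_lit 135376, nat_lit 131330, nat_lit 45059, nat_lit 41046, nat_lit 36867, nat_lit 12292, nat_lit 327680]⟩
def ndMr8_45 : El := ⟨[nat_lit 0xeed1227416f2a626091b640c13bc954a88ec, nat_lit 0x6569c675e722d08c54427b21ab101f54c0c3, nat_lit 0x88eb176818178dc23ce26a291524a054aef6], [nat_lit 69632, nat_lit 81920, nat_lit 86016, nat_lit 94208, nat_lit 102400, nat_lit 106496, nat_lit 178176, nat_lit 173056, nat_lit 169984, nat_lit 167424, nat_lit 161536, nat_lit 157760, nat_lit 153440, nat_lit 148576, nat_lit 146984, nat_lit 139792, nat_lit 137490, nat_lit 132177, nat_lit 1278, nat_lit 6548, nat_lit 9144, nat_lit 13408, nat_lit 20384, nat_lit 22656, nat_lit 28160, nat_lit 35840, nat_lit 37888, nat_lit 45554, nat_lit 41941, nat_lit 36881, nat_lit 33879, nat_lit 28721, nat_lit 24623, nat_lit 20563, nat_lit 16397, nat_lit 12308, nat_lit 8211, nat_lit 4097, nat_lit 425991, nat_lit 417797, nat_lit 409602, nat_lit 397312, nat_lit 155904,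 nat_lit 151936, nat_lit 147776, nat_lit 139536, nat_lit 135664, nat_lit 131104, nat_lit 45059, nat_lit 41091, nat_lit 37078, nat_lit 12292]⟩
def ndMr8_46 : El := ⟨[nat_lit 0x369a969506b72125506b1bb2c601c4f23670, nat_lit 0xa53a59814322300d4a046bd0679d5cb7aa36, nat_lit 0x566655725e8b4ab0280e2bc6740906652dac], [nat_lit 73728, nat_lit 86016, nat_lit 94208, nat_lit 102400, nat_lit 110592, nat_lit 178176, nat_lit 173056, nat_lit 170496, nat_lit 166400, nat_lit 161024, nat_lit 156736, nat_lit 154592, nat_lit 147920, nat_lit 145616, nat_lit 141132, nat_lit 137398, nat_lit 131732, nat_lit 812, nat_lit 5732, nat_lit 9936, nat_lit 13248, nat_lit 20288, nat_lit 21376, nat_lit 26112, nat_lit 30976, nat_lit 38912, nat_lit 46696, nat_lit 41435, nat_lit 39214, nat_lit 32890, nat_lit 28760, nat_lit 24731, nat_lit 20764, nat_lit 16525, nat_lit 12417, nat_lit 8211, nat_lit 4097, nat_lit 434184, nat_lit 421893, nat_lit 409603, nat_lit 401408, nat_lit 164864, nat_lit 151936, nat_lit 148480, nat_lit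 144784, nat_lit 140600, nat_lit 131260, nat_lit 45068, nat_lit 37013, nat_lit 24588, nat_lit 4097, nat_lit 327680]⟩
def ndMr8_47 : El := ⟨[nat_lit 0xfa95fa95c2b620aab3cf51900e48a7483626, nat_lit 0x9c9395136ef33a0829ea302554b067162c92, nat_lit 0x8e1e4b2398184c672ac49bb511a5806abe4a, nat_lit 0x4edb4812d0a3ceef48403740b6349b4612b1], [nat_lit 65536, nat_lit 69632, nat_lit 94208, nat_lit 98304, nat_lit 106496, nat_lit 178176, nat_lit 174080, nat_lit 168960, nat_lit 167424, nat_lit 162304, nat_lit 157696, nat_lit 155136, nat_lit 147760, nat_lit 145432, nat_lit 140560, nat_lit 136086, nat_lit 132277, nat_lit 1054, nat_lit 4152, nat_lit 12080, nat_lit 15808, nat_lit 19936, nat_lit 23744, nat_lit 26752, nat_lit 29696, nat_lit 33280, nat_lit 37888, nat_lit 43008, nat_lit 45672, nat_lit 41701, nat_lit 38359, nat_lit 33531, nat_lit 28677, nat_lit 24839, nat_lit 20494, nat_lit 16906, nat_lit 12306, nat_lit 8195, nat_lit 4, nat_lit 430088, nat_lit 421894, nat_lit 413700, nat_lit 405506, nat_lit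 397312, nat_lit 160256, nat_lit 156416, nat_lit 152512, nat_lit 148096, nat_lit 143968, nat_lit 139424, nat_lit 135564, nat_lit 131076, nat_lit 45781, nat_lit 41410, nat_lit 327680]⟩
def ndMr8_48 : El := ⟨[nat_lit 0xf939f6b952e61ac83922304d4b850557c9a1, nat_lit 0x3ff959b9974005472392d13eb14167060ed2, nat_lit 0x6fa6059cab671987bc6905a460508287948d], [nat_lit 65536, nat_lit 69632, nat_lit 73728, nat_lit 86016, nat_lit 90112, nat_lit 98304, nat_lit 102400, nat_lit 110592, nat_lit 173056, nat_lit 171008, nat_lit 165120, nat_lit 163584, nat_lit 157952, nat_lit 152288, nat_lit 147808, nat_lit 146608, nat_lit 143084, nat_lit 137500, nat_lit 134075, nat_lit 2646, nat_lit 7940, nat_lit 11224, nat_lit 14016, nat_lit 18240, nat_lit 22464, nat_lit 27904, nat_lit 32512, nat_lit 33280, nat_lit 39936, nat_lit 43008, nat_lit 45291, nat_lit 41282, nat_lit 37023, nat_lit 33962, nat_lit 28700, nat_lit 24889, nat_lit 20754, nat_lit 16421, nat_lit 12310, nat_lit 8209, nat_lit 4101, nat_lit 2, nat_lit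 430088, nat_lit 421893, nat_lit 409602, nat_lit 397312, nat_lit 164352, nat_lit 160000, nat_lit 152448, nat_lit 147968, nat_lit 139792, nat_lit 135328, nat_lit 131632, nat_lit 45062, nat_lit 41605, nat_lit 24582, nat_lit 12289]⟩
def ndMr8_49 : El := ⟨[nat_lit 0xca5ff93c6c99dd6673d81aaa4413460a1510, nat_lit 0x3ac0c29990addf2b2c27492834362a009d3, nat_lit 0xccaab31c1142f2515b37c4e930094aa06b, nat_lit 0x655a6c9dae718a444c56640594815ee6d40a], [nat_lit 73728, nat_lit 77824, nat_lit 106496, nat_lit 168960, nat_lit 160640, nat_lit 158720, nat_lit 151616, nat_lit 147664, nat_lit 145136, nat_lit 139672, nat_lit 135666, nat_lit 131279, nat_lit 1004, nat_lit 6984, nat_lit 9408, nat_lit 13872, nat_lit 17856, nat_lit 24448, nat_lit 28416, nat_lit 29184, nat_lit 33792, nat_lit 43008, nat_lit 46776, nat_lit 41421, nat_lit 39047, nat_lit 32834, nat_lit 29735, nat_lit 24723, nat_lit 20555, nat_lit 16397, nat_lit 12307, nat_lit 438282, nat_lit 430088, nat_lit 421894, nat_lit 413700, nat_lit 405506,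 nat_lit 397312, nat_lit 165888, nat_lit 162048, nat_lit 156160, nat_lit 152064, nat_lit 145584, nat_lit 140360, nat_lit 136492, nat_lit 131666]⟩
def ndMr8_50 : El := ⟨[nat_lit 0xeb4bd71812b9cad56bc85338eca423752022, nat_lit 0x4ebddb81dc9b850b648aa1bdb49c41530896, nat_lit 0x363050bb1f628c2444171752ad380469aa49], [nat_lit 69632, nat_lit 98304, nat_lit 170496, nat_lit 165888, nat_lit 163072, nat_lit 157888, nat_lit 152032, nat_lit 149264, nat_lit 146448, nat_lit 142376, nat_lit 137154, nat_lit 133744, nat_lit 1014, nat_lit 7120, nat_lit 11256, nat_lit 14304, nat_lit 16960, nat_lit 23168, nat_lit 26496, nat_lit 30208, nat_lit 35840, nat_lit 43008, nat_lit 46806, nat_lit 41632, nat_lit 37331, nat_lit 33319, nat_lit 28715, nat_lit 24863, nat_lit 20545, nat_lit 16642, nat_lit 12294, nat_lit 8202, nat_lit 4105, nat_lit 425991, nat_lit 417797, nat_lit 409603, nat_lit 397312, nat_lit 155904, nat_lit 151808, nat_lit 147744, nat_lit 143488, nat_lit 135232, nat_lit 45066, nat_lit 41088, nat_lit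 8193, nat_lit 327680]⟩
def ndMr8_51 : El := ⟨[nat_lit 0x42bbe13ddd0101439d9e53522c236554ad01, nat_lit 0xb14dd464c2d01e262b9567913412e081d657, nat_lit 0xa56f9f08c40398a4731eda5af584a714a968], [nat_lit 69632, nat_lit 81920, nat_lit 86016, nat_lit 175104, nat_lit 170496, nat_lit 165888, nat_lit 160384, nat_lit 157568, nat_lit 153056, nat_lit 149216, nat_lit 146968, nat_lit 142792, nat_lit 137480, nat_lit 132527, nat_lit 3438, nat_lit 5028, nat_lit 11664, nat_lit 16224, nat_lit 19104, nat_lit 21184, nat_lit 25344, nat_lit 29952, nat_lit 33280, nat_lit 43008, nat_lit 46778, nat_lit 41864, nat_lit 36876, nat_lit 32998, nat_lit 28929, nat_lit 24602, nat_lit 20611, nat_lit 16456, nat_lit 12289, nat_lit 8193, nat_lit 430088, nat_lit 413700, nat_lit 405506, nat_lit 397312, nat_lit 164352, nat_lit 152320, nat_lit 148256, nat_lit 143648, nat_lit 139280, nat_lit 135940, nat_lit 131622, nat_lit 45071, nat_lit 41500, nat_lit 28688, nat_lit 327680]⟩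
def ndMr8_52 : El := ⟨[nat_lit 0x5f393f624d240d559b4ab0dc87b42207d04e, nat_lit 0x1d82de7360850472600f64cca430aefa46ab, nat_lit 0x56ff3969186a563284ef6401221a961715e7], [nat_lit 65536, nat_lit 81920, nat_lit 102400, nat_lit 178176, nat_lit 175104, nat_lit 169472, nat_lit 158464, nat_lit 154624, nat_lit 148368, nat_lit 146760, nat_lit 142132, nat_lit 135322, nat_lit 132141, nat_lit 2108, nat_lit 7256, nat_lit 10144, nat_lit 15136, nat_lit 19008, nat_lit 24320, nat_lit 26624, nat_lit 30976, nat_lit 33280, nat_lit 46845, nat_lit 43281, nat_lit 37989, nat_lit 33442, nat_lit 29208, nat_lit 25628, nat_lit 20484, nat_lit 16461, nat_lit 12293, nat_lit 8193, nat_lit 4353, nat_lit 4, nat_lit 425990, nat_lit 413700, nat_lit 405506, nat_lit 397312, nat_lit 155904, nat_lit 151808, nat_lit 147744, nat_lit 143632, nat_lit 139328, nat_lit 135464, nat_lit 131182, nat_lit 45071, nat_lit 41043, nat_lit 36943, nat_lit 28755]⟩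
def ndMr8_53 : El := ⟨[nat_lit 0x5c6acc30df7b5513089523c08b6452d0168e, nat_lit 0x1184e404522952a89bd8b099d7b34e321550, nat_lit 0xaf366b2a8ca8c93325a70896f2821793911], [nat_lit 69632, nat_lit 81920, nat_lit 86016, nat_lit 90112, nat_lit 102400, nat_lit 106496, nat_lit 110592, nat_lit 175104, nat_lit 169472, nat_lit 165376, nat_lit 163200, nat_lit 159168, nat_lit 155040, nat_lit 151536, nat_lit 144928, nat_lit 140368, nat_lit 136864, nat_lit 134145, nat_lit 3318, nat_lit 6544, nat_lit 9664, nat_lit 15984, nat_lit 17824, nat_lit 21824, nat_lit 28032, nat_lit 29696, nat_lit 34304, nat_lit 39936, nat_lit 46964, nat_lit 43435, nat_lit 36910, nat_lit 35029, nat_lit 29049, nat_lit 24633, nat_lit 20569, nat_lit 16458, nat_lit 12291, nat_lit 8195, nat_lit 4097, nat_lit 2, nat_lit 438281, nat_lit 417797, nat_lit 409602, nat_lit 397312, nat_lit 169984, nat_lit 156160, nat_lit 154176, nat_lit 150112, nat_lit 139824, nat_lit 137236, nat_lit 133696, nat_lit 41523, nat_lit 32800, nat_lit 28736,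 nat_lit 12289]⟩
def ndMr8_54 : El := ⟨[nat_lit 0xc9305093065b22130c5c6a35ea21d7505c49, nat_lit 0x1e7b14894011b557239f3430563c92ba1ab0, nat_lit 0xa5c9a54029ad50945282b1e4b86c33b9a6], [nat_lit 73728, nat_lit 86016, nat_lit 175104, nat_lit 170496, nat_lit 167424, nat_lit 160512, nat_lit 159424, nat_lit 152928, nat_lit 149328, nat_lit 145640, nat_lit 139716, nat_lit 136196, nat_lit 133948, nat_lit 2612, nat_lit 5832, nat_lit 10552, nat_lit 14048, nat_lit 18240, nat_lit 20992, nat_lit 25088, nat_lit 31744, nat_lit 33792, nat_lit 39936, nat_lit 43008, nat_lit 47016, nat_lit 41408, nat_lit 39406, nat_lit 33981, nat_lit 28700, nat_lit 24577, nat_lit 20493, nat_lit 16524, nat_lit 12291, nat_lit 8227, nat_lit 4101, nat_lit 2, nat_lit 425991, nat_lit 417797, nat_lit 409603, nat_lit 397312, nat_lit 155776, nat_lit 151808, nat_lit 147872, nat_lit 143664, nat_lit 135448, nat_lit 131306, nat_lit 45065, nat_lit 40985, nat_lit 37075, nat_lit 8194]⟩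
def ndMr8_55 : El := ⟨[nat_lit 0x9f3f99ba8f6094497c4740566d2316e81a48, nat_lit 0x33990f2584b35c2860c104cdaa894ef93a95, nat_lit 0xb244ee4002b84a9661c8f48943719a5bc675], [nat_lit 69632, nat_lit 73728, nat_lit 81920, nat_lit 106496, nat_lit 173056, nat_lit 169472, nat_lit 165120, nat_lit 161920, nat_lit 157696, nat_lit 152288, nat_lit 148464, nat_lit 146896, nat_lit 139488, nat_lit 137568, nat_lit 131550, nat_lit 2588, nat_lit 6192, nat_lit 8352, nat_lit 13728, nat_lit 16608, nat_lit 24064, nat_lit 28288, nat_lit 29184, nat_lit 36352, nat_lit 37888, nat_lit 45434, nat_lit 41920, nat_lit 37078, nat_lit 33942, nat_lit 28704, nat_lit 24620, nat_lit 20574, nat_lit 16398, nat_lit 12293, nat_lit 8194, nat_lit 4100, nat_lit 425991, nat_lit 413700, nat_lit 405506, nat_lit 397312, nat_lit 160000, nat_lit 151936, nat_lit 143536, nat_lit 139272, nat_lit 135428, nat_lit 131496, nat_lit 45071, nat_lit 40991, nat_lit 36876, nat_lit 24586]⟩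
def ndMr8_56 : El := ⟨[nat_lit 0x4dbb1173157b2c871d1219d51013cb133640, nat_lit 0x722424414817894da241775a4734eac1ae30, nat_lit 0x693a3a598ea158754a085bd0019b5d07ca2c], [nat_lit 77824, nat_lit 81920, nat_lit 90112, nat_lit 94208, nat_lit 102400, nat_lit 173056, nat_lit 171520, nat_lit 165888, nat_lit 161920, nat_lit 158208, nat_lit 153984, nat_lit 147792, nat_lit 143728, nat_lit 141984, nat_lit 136372, nat_lit 133088, nat_lit 982, nat_lit 4100, nat_lit 8224, nat_lit 13568, nat_lit 20384, nat_lit 24000, nat_lit 26752, nat_lit 29440, nat_lit 33280, nat_lit 39936, nat_lit 43008, nat_lit 47091, nat_lit 41919, nat_lit 37893, nat_lit 33303, nat_lit 29013, nat_lit 24627, nat_lit 20569, nat_lit 16399, nat_lit 8194, nat_lit 16, nat_lit 430088, nat_lit 421893, nat_lit 409603, nat_lit 397312, nat_lit 160512, nat_lit 151808, nat_lit 147616, nat_lit 144272, nat_lit 135328, nat_lit 131874, nat_lit 45065, nat_lit 41088, nat_lit 24585, nat_lit 8194]⟩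
def ndMr8_57 : El := ⟨[nat_lit 0x955a9c5422709869b3262a341223d0e2dd75, nat_lit 0xccf093bce23b31c0aa9227acb23c1a8a0486, nat_lit 0xa365c385a75a46571346e601e1391682a546], [nat_lit 69632, nat_lit 73728, nat_lit 77824, nat_lit 81920, nat_lit 86016, nat_lit 98304, nat_lit 178176, nat_lit 169984, nat_lit 167424, nat_lit 162688, nat_lit 158208, nat_lit 154304, nat_lit 150304, nat_lit 143792, nat_lit 142864, nat_lit 137520, nat_lit 133607, nat_lit 3460, nat_lit 7560, nat_lit 9672, nat_lit 12528, nat_lit 19680, nat_lit 22720, nat_lit 27904, nat_lit 28928, nat_lit 34304, nat_lit 39936, nat_lit 43008, nat_lit 47060, nat_lit 41910, nat_lit 38196, nat_lit 33975, nat_lit 29190, nat_lit 26626, nat_lit 21523, nat_lit 16463, nat_lit 12290, nat_lit 8225, nat_lit 425990, nat_lit 413700, nat_lit 405506, nat_lit 397312, nat_lit 155904, nat_lit 151872, nat_lit 147808, nat_lit 143648, nat_lit 139608, nat_lit 135208, nat_lit 131150, nat_lit 45071, nat_lit 40988, nat_lit 36879, nat_lit 28694, nat_lit 327680]⟩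
def ndMr8_58 : El := ⟨[nat_lit 0x563c9c011a87524fbc16a3d62560926b0473, nat_lit 0x2788ee6c5721810c0c0d72154ea26cf9d447, nat_lit 0x60aa391a647b003844e555eaba59091382d], [nat_lit 65536, nat_lit 69632, nat_lit 73728, nat_lit 77824, nat_lit 81920, nat_lit 86016, nat_lit 98304, nat_lit 178176, nat_lit 173056, nat_lit 166912, nat_lit 160000, nat_lit 157888, nat_lit 154944, nat_lit 150432, nat_lit 145032, nat_lit 142516, nat_lit 136518, nat_lit 133607, nat_lit 3528, nat_lit 5884, nat_lit 9624, nat_lit 12464, nat_lit 17952, nat_lit 22720, nat_lit 32512, nat_lit 35328, nat_lit 37888, nat_lit 46442, nat_lit 41729, nat_lit 37300, nat_lit 33397, nat_lit 28682, nat_lit 24634, nat_lit 20564, nat_lit 16388, nat_lit 12326, nat_lit 8208, nat_lit 4097, nat_lit 2, nat_lit 434184, nat_lit 413700, nat_lit 405506, nat_lit 397312, nat_lit 164864, nat_lit 152832, nat_lit 144384, nat_lit 136464, nat_lit 131332, nat_lit 45071, nat_lit 36870, nat_lit 28688, nat_lit 24579, nat_lit 327680]⟩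
def ndMr8_59 : El := ⟨[nat_lit 0xa30ca02b1a974680512b7809f6404679acd2, nat_lit 0x22214e8bd3475e688299510465398805b656, nat_lit 0xdb8edbade3095a740b86f51d653110913580], [nat_lit 65536, nat_lit 73728, nat_lit 81920, nat_lit 86016, nat_lit 90112, nat_lit 178176, nat_lit 175104, nat_lit 168960, nat_lit 166144, nat_lit 162176, nat_lit 157120, nat_lit 154688, nat_lit 150944, nat_lit 147280, nat_lit 141600, nat_lit 139042, nat_lit 133736, nat_lit 2766, nat_lit 7640, nat_lit 9456, nat_lit 16048, nat_lit 19296, nat_lit 23872, nat_lit 27136, nat_lit 34816, nat_lit 38912, nat_lit 45427, nat_lit 41643, nat_lit 37890, nat_lit 32897, nat_lit 28673, nat_lit 26651, nat_lit 20573, nat_lit 16421, nat_lit 12353, nat_lit 5120, nat_lit 413700, nat_lit 405506, nat_lit 397312, nat_lit 139304, nat_lit 135212, nat_lit 131088, nat_lit 45071, nat_lit 40976, nat_lit 36876, nat_lit 32784, nat_lit 28688, nat_lit 24582]⟩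
def ndMr8_60 : El := ⟨[nat_lit 0xf50c99025ed8c028954ec99acea28571aca4, nat_lit 0xbd78bb10d4c749738981445db6391e90d4b0, nat_lit 0x128dde94cd5b398752ee44020d28e828a5e1, nat_lit 0x72d42b811a82a5d39445652ee0304f460df5], [nat_lit 65536, nat_lit 69632, nat_lit 77824, nat_lit 94208, nat_lit 106496, nat_lit 178176, nat_lit 174080, nat_lit 169472, nat_lit 165376, nat_lit 160896, nat_lit 157248, nat_lit 152928, nat_lit 148672, nat_lit 144392, nat_lit 140832, nat_lit 137078, nat_lit 131157, nat_lit 2452, nat_lit 6740, nat_lit 11144, nat_lit 14560, nat_lit 19488, nat_lit 20608, nat_lit 24960, nat_lit 29440, nat_lit 33280, nat_lit 46619, nat_lit 41218, nat_lit 39097, nat_lit 28777, nat_lit 24753, nat_lit 20498, nat_lit 16397, nat_lit 12311, nat_lit 8210, nat_lit 4101, nat_lit 4, nat_lit 438282, nat_lit 430088, nat_lit 421894, nat_lit 413700, nat_lit 405506, nat_lit 397312, nat_lit 174080, nat_lit 169984, nat_lit 165888, nat_lit 161792, nat_lit 155904, nat_lit 152960, nat_lit 150816, nat_lit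 145168, nat_lit 140360, nat_lit 138712, nat_lit 132760]⟩
def ndMr8_61 : El := ⟨[nat_lit 0x695c56b2d074c9827b8d453621196e09d490, nat_lit 0x4784ddb41656c413385861d5f495d24121ca, nat_lit 0xa005650a868392f58be6cb50a61240b849cd], [nat_lit 69632, nat_lit 73728, nat_lit 81920, nat_lit 86016, nat_lit 94208, nat_lit 173056, nat_lit 168448, nat_lit 167424, nat_lit 160000, nat_lit 155968, nat_lit 154752, nat_lit 147536, nat_lit 145432, nat_lit 142004, nat_lit 138994, nat_lit 132471, nat_lit 1682, nat_lit 8172, nat_lit 11296, nat_lit 14464, nat_lit 20288, nat_lit 20928, nat_lit 26496, nat_lit 31232, nat_lit 36352, nat_lit 37888, nat_lit 43008, nat_lit 46968, nat_lit 41453, nat_lit 39305, nat_lit 32907, nat_lit 29004, nat_lit 24612, nat_lit 20549, nat_lit 16910, nat_lit 12290, nat_lit 8211, nat_lit 4104, nat_lit 16, nat_lit 425991, nat_lit 417797, nat_lit 409603, nat_lit 401408, nat_lit 155776, nat_lit 151936, nat_lit 147840, nat_lit 143472, nat_lit 131172, nat_lit 45068, nat_lit 40976, nat_lit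 37017, nat_lit 4097, nat_lit 327680]⟩
def ndMr8_62 : El := ⟨[nat_lit 0x2481d409d0d7cdd5a1890b2e2a6246590ae0, nat_lit 0x1b878d6d6563a28349ae25c14c23e650442e, nat_lit 0x41818eadd0a190277b6325d136298409c1cc], [nat_lit 65536, nat_lit 69632, nat_lit 77824, nat_lit 102400, nat_lit 110592, nat_lit 173056, nat_lit 170496, nat_lit 167424, nat_lit 162560, nat_lit 158080, nat_lit 154016, nat_lit 151024, nat_lit 144168, nat_lit 140184, nat_lit 136022, nat_lit 133335, nat_lit 3222, nat_lit 7736, nat_lit 10296, nat_lit 14592, nat_lit 18240, nat_lit 21696, nat_lit 27520, nat_lit 28928, nat_lit 33280, nat_lit 46404, nat_lit 43129, nat_lit 36992, nat_lit 32970, nat_lit 28680, nat_lit 24886, nat_lit 20555, nat_lit 16395, nat_lit 12307, nat_lit 8226, nat_lit 4113, nat_lit 4, nat_lit 430088, nat_lit 413700, nat_lit 405506, nat_lit 397312, nat_lit 164352, nat_lit 152320, nat_lit 147744, nat_lit 144128, nat_lit 139832, nat_lit 135992, nat_lit 131604, nat_lit 45071, nat_lit 41500, nat_lit 28703, nat_lit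 24591]⟩
def ndMr8_63 : El := ⟨[nat_lit 0x1bbbd7412b07080149a372c9541b1ed3aed3, nat_lit 0xf636f65c1887ded19844d055253aa8321a4e, nat_lit 0xee7414aced05a08703d81a5e322a4ca1b5c2], [nat_lit 69632, nat_lit 73728, nat_lit 86016, nat_lit 102400, nat_lit 106496, nat_lit 169472, nat_lit 164608, nat_lit 160000, nat_lit 159488, nat_lit 151936, nat_lit 151104, nat_lit 145528, nat_lit 142532, nat_lit 136990, nat_lit 133643, nat_lit 3588, nat_lit 6068, nat_lit 12248, nat_lit 12320, nat_lit 19488, nat_lit 22336, nat_lit 25344, nat_lit 30208, nat_lit 33280, nat_lit 39936, nat_lit 45488, nat_lit 41840, nat_lit 37923, nat_lit 32940, nat_lit 28774, nat_lit 24581, nat_lit 20511, nat_lit 16422, nat_lit 12305, nat_lit 8195, nat_lit 4100, nat_lit 425991, nat_lit 417797, nat_lit 409602, nat_lit 397312, nat_lit 160000, nat_lit 151872, nat_lit 147552, nat_lit 139744, nat_lit 135492, nat_lit 131250, nat_lit 45062, nat_lit 41158, nat_lit 37008, nat_lit 12289]⟩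
def ndMr8_64 : El := ⟨[nat_lit 0x690660458875c2b3618714beed550022b832, nat_lit 0x936090bd205d5d4b8e6715a44445b051985, nat_lit 0xfa3fc3a5daf8949040563732b650049348f3], [nat_lit 81920, nat_lit 86016, nat_lit 90112, nat_lit 98304, nat_lit 102400, nat_lit 106496, nat_lit 110592, nat_lit 178176, nat_lit 168448, nat_lit 164096, nat_lit 159168, nat_lit 153728, nat_lit 150208, nat_lit 144432, nat_lit 140104, nat_lit 136256, nat_lit 133401, nat_lit 2322, nat_lit 5016, nat_lit 11976, nat_lit 14080, nat_lit 19616, nat_lit 21376, nat_lit 25600, nat_lit 32000, nat_lit 33280, nat_lit 38912, nat_lit 45284, nat_lit 41513, nat_lit 38175, nat_lit 32800, nat_lit 28731, nat_lit 26679, nat_lit 20626, nat_lit 16392, nat_lit 8705, nat_lit 4, nat_lit 430088, nat_lit 421893, nat_lit 409603, nat_lit 401408, nat_lit 160000, nat_lit 152448, nat_lit 143792, nat_lit 139400, nat_lit 131352, nat_lit 45576, nat_lit 41608, nat_lit 24580, nat_lit 327680]⟩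
def ndMr8_65 : El := ⟨[nat_lit 0x6a5a63531f223aa168cb4440405c4c7b5d33, nat_lit 0xb18e7159d49889d4220c583ec090eed9d42c, nat_lit 0xcfca036bdd49944b38e0934541656d740092], [nat_lit 77824, nat_lit 86016, nat_lit 173056, nat_lit 171520, nat_lit 167680, nat_lit 161920, nat_lit 158400, nat_lit 154720, nat_lit 150704, nat_lit 144400, nat_lit 139440, nat_lit 137968, nat_lit 131368, nat_lit 2018, nat_lit 6980, nat_lit 10568, nat_lit 12912, nat_lit 18624, nat_lit 21184, nat_lit 26624, nat_lit 29696, nat_lit 33280, nat_lit 39936, nat_lit 43008, nat_lit 46111, nat_lit 41792, nat_lit 36981, nat_lit 33984, nat_lit 28992, nat_lit 24611, nat_lit 20508, nat_lit 16390, nat_lit 12291, nat_lit 8210, nat_lit 4104, nat_lit 425988, nat_lit 405506, nat_lit 397312, nat_lit 143376, nat_lit 139528, nat_lit 135424, nat_lit 131086, nat_lit 45071, nat_lit 40976, nat_lit 36873, nat_lit 28703, nat_lit 24586, nat_lit 20496]⟩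
def ndMr8_66 : El := ⟨[nat_lit 0xf90a5c519ae95c0cb12a859e1328c498d1e1, nat_lit 0x39c0af7de4c69162340b58841471d039aac9, nat_lit 0x7ee1447b52aa0817186b6918904396c3c665], [nat_lit 65536, nat_lit 73728, nat_lit 77824, nat_lit 86016, nat_lit 94208, nat_lit 98304, nat_lit 110592, nat_lit 170496, nat_lit 167168, nat_lit 163072, nat_lit 157056, nat_lit 154240, nat_lit 147632, nat_lit 144208, nat_lit 140020, nat_lit 136616, nat_lit 133710, nat_lit 2616, nat_lit 7592, nat_lit 9560, nat_lit 13968, nat_lit 16672, nat_lit 22912, nat_lit 28288, nat_lit 30976, nat_lit 34304, nat_lit 39936, nat_lit 43008, nat_lit 46036, nat_lit 41332, nat_lit 39011, nat_lit 33457, nat_lit 28673, nat_lit 25602, nat_lit 20555, nat_lit 16421, nat_lit 12309, nat_lit 8203, nat_lit 4097, nat_lit 2, nat_lit 425990, nat_lit 413700, nat_lit 405506, nat_lit 397312, nat_lit 151808, nat_lit 147744, nat_lit 143424, nat_lit 139344, nat_lit 135188, nat_lit 131094, nat_lit 45071, nat_lit 40976, nat_lit 28755, nat_lit 327680]⟩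
def ndMr8_67 : El := ⟨[nat_lit 0xd7ee7282ea87363418a57015890a8cf258f3, nat_lit 0x81eeb489da910076349c8641640de9553e65, nat_lit 0x9a96c6244b04880aa35f7732d542c6199cd2], [nat_lit 65536, nat_lit 69632, nat_lit 73728, nat_lit 98304, nat_lit 102400, nat_lit 110592, nat_lit 175104, nat_lit 170496, nat_lit 165632, nat_lit 161024, nat_lit 157056, nat_lit 155168, nat_lit 150144, nat_lit 146928, nat_lit 141212, nat_lit 138170, nat_lit 134151, nat_lit 1778, nat_lit 5784, nat_lit 9464, nat_lit 13328, nat_lit 20128, nat_lit 22592, nat_lit 25600, nat_lit 31744, nat_lit 33280, nat_lit 38912, nat_lit 43008, nat_lit 46855, nat_lit 43888, nat_lit 37107, nat_lit 32877, nat_lit 29256, nat_lit 24633, nat_lit 20496, nat_lit 16419, nat_lit 12359, nat_lit 8193, nat_lit 4105, nat_lit 2, nat_lit 425991, nat_lit 417796, nat_lit 397312, nat_lit 160000, nat_lit 155776, nat_lit 147520, nat_lit 135296, nat_lit 131410, nat_lit 45059, nat_lit 41043, nat_lit 37008, nat_lit 20481, nat_lit 12289, nat_lit 8193, nat_lit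 327680]⟩
def ndMg9_0 : El := ⟨[nat_lit 0x1bbb28b025143cf382586190b4bac4a0b9b5, nat_lit 0xeb2dbb3ad2803693510c5930561be35806ee, nat_lit 0x871b17a48178184442a6363e212aeadb38e9], [nat_lit 65536, nat_lit 69632, nat_lit 86016, nat_lit 90112, nat_lit 98304, nat_lit 102400, nat_lit 110592, nat_lit 175104, nat_lit 169472, nat_lit 167680, nat_lit 162688, nat_lit 156032, nat_lit 154720, nat_lit 150320, nat_lit 144736, nat_lit 142364, nat_lit 136504, nat_lit 132412, nat_lit 454, nat_lit 8132, nat_lit 11056, nat_lit 13056, nat_lit 19040, nat_lit 22464, nat_lit 24960, nat_lit 29440, nat_lit 33280, nat_lit 43008, nat_lit 47028, nat_lit 43895, nat_lit 37226, nat_lit 33400, nat_lit 28764, nat_lit 24619, nat_lit 20566, nat_lit 16387, nat_lit 12321, nat_lit 8193, nat_lit 4112, nat_lit 425990, nat_lit 413698, nat_lit 397312, nat_lit 139552, nat_lit 135264, nat_lit 131396, nat_lit 45092, nat_lit 41025, nat_lit 37186, nat_lit 28676, nat_lit 16388, nat_lit 12292, nat_lit 327680]⟩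
def ndMg9_1 : El := ⟨[nat_lit 0x88412e1aca23c133aba20b3432a12ea621e6, nat_lit 0xd711725c42e83140121f2bd0b63d4c44b473, nat_lit 0x33aa23ea7bb2330586e2a601a356a32052], [nat_lit 69632, nat_lit 73728, nat_lit 110592, nat_lit 173056, nat_lit 164608, nat_lit 162560, nat_lit 156288, nat_lit 154848, nat_lit 148112, nat_lit 146560, nat_lit 139320, nat_lit 137880, nat_lit 131631, nat_lit 2332, nat_lit 6720, nat_lit 9696, nat_lit 15504, nat_lit 19456, nat_lit 23552, nat_lit 25088, nat_lit 30464, nat_lit 35840, nat_lit 47008, nat_lit 43857, nat_lit 39011, nat_lit 33311, nat_lit 28740, nat_lit 24721, nat_lit 21512, nat_lit 16392, nat_lit 12295, nat_lit 8201, nat_lit 8, nat_lit 425990, nat_lit 405506, nat_lit 397312, nat_lit 139528, nat_lit 135240, nat_lit 131332, nat_lit 45068, nat_lit 41025, nat_lit 37198, nat_lit 28680, nat_lit 20488, nat_lit 16388]⟩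
def ndMg9_2 : El := ⟨[nat_lit 0x636c958bc0815c83ab1c62d16ab1e530b530, nat_lit 0x60c099818f318296b8aa14a18f292325a9ae], [nat_lit 73728, nat_lit 77824, nat_lit 106496, nat_lit 110592, nat_lit 178176, nat_lit 173056, nat_lit 169472, nat_lit 161792, nat_lit 159488, nat_lit 152864, nat_lit 151120, nat_lit 143552, nat_lit 141000, nat_lit 138594, nat_lit 133163, nat_lit 2866, nat_lit 5672, nat_lit 9264, nat_lit 14240, nat_lit 16832, nat_lit 24128, nat_lit 27392, nat_lit 32256, nat_lit 34816, nat_lit 39936, nat_lit 47091, nat_lit 43695, nat_lit 39227, nat_lit 32900, nat_lit 29016, nat_lit 24740, nat_lit 20504, nat_lit 16392, nat_lit 12307, nat_lit 8193, nat_lit 4104, nat_lit 2, nat_lit 417796, nat_lit 401408, nat_lit 147520, nat_lit 139328, nat_lit 131088, nat_lit 41045, nat_lit 36928, nat_lit 32769, nat_lit 28688, nat_lit 20496, nat_lit 12292, nat_lit 4097, nat_lit 327680]⟩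
def ndMg9_3 : El := ⟨[nat_lit 0x65c3ff6ba3210e9764e0fa84163992859145, nat_lit 0x903066991d04152d33e95185875de2204aca], [nat_lit 65536, nat_lit 69632, nat_lit 81920, nat_lit 94208, nat_lit 165888, nat_lit 161536, nat_lit 159424, nat_lit 151968, nat_lit 147520, nat_lit 145808, nat_lit 139884, nat_lit 136112, nat_lit 134906, nat_lit 4020, nat_lit 4684, nat_lit 10632, nat_lit 12544, nat_lit 16512, nat_lit 22976, nat_lit 27264, nat_lit 29696, nat_lit 33280, nat_lit 38912, nat_lit 43008, nat_lit 46501, nat_lit 41893, nat_lit 37307, nat_lit 33310, nat_lit 29005, nat_lit 24632, nat_lit 20561, nat_lit 12289, nat_lit 8449, nat_lit 4097, nat_lit 2, nat_lit 405506, nat_lit 397312, nat_lit 135176, nat_lit 131082, nat_lit 40962, nat_lit 36865, nat_lit 28676, nat_lit 24591, nat_lit 20484, nat_lit 16392, nat_lit 327680]⟩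
def ndMg9_4 : El := ⟨[nat_lit 0x66ca3aab42e830c93a1f3250a312d57046d2, nat_lit 0x366a66855e142d46490e598196bba23909b4, nat_lit 0xeeb84199c9100d6a405227b2b729a1273696], [nat_lit 65536, nat_lit 69632, nat_lit 73728, nat_lit 81920, nat_lit 90112, nat_lit 94208, nat_lit 98304, nat_lit 102400, nat_lit 106496, nat_lit 178176, nat_lit 175104, nat_lit 170496, nat_lit 165632, nat_lit 163200, nat_lit 156864, nat_lit 152928, nat_lit 148400, nat_lit 145328, nat_lit 141808, nat_lit 135820, nat_lit 134316, nat_lit 1582, nat_lit 8088, nat_lit 9648, nat_lit 13744, nat_lit 16480, nat_lit 20544, nat_lit 26624, nat_lit 31744, nat_lit 36352, nat_lit 47011, nat_lit 43184, nat_lit 38273, nat_lit 33863, nat_lit 29193, nat_lit 24633, nat_lit 20553, nat_lit 16397, nat_lit 12306, nat_lit 8202, nat_lit 4105, nat_lit 4, nat_lit 425990, nat_lit 409602, nat_lit 397312, nat_lit 147776, nat_lit 139344, nat_lit 135184, nat_lit 131090, nat_lit 45076, nat_lit 41025, nat_lit 37206, nat_lit 28676, nat_lit 20496, nat_lit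 12292]⟩
def ndMr9_0 : El := ⟨[nat_lit 0xe8b21d9243055ea0309052522e3da6d58d8f, nat_lit 0x5a9f9040a344d6409d86b2b8c4806ea3b5ec, nat_lit 0xac3f053de4d9d0cf12020644b650d69242ae], [nat_lit 65536, nat_lit 73728, nat_lit 77824, nat_lit 81920, nat_lit 86016, nat_lit 90112, nat_lit 94208, nat_lit 106496, nat_lit 175104, nat_lit 171008, nat_lit 165376, nat_lit 163328, nat_lit 159424, nat_lit 152256, nat_lit 147792, nat_lit 147432, nat_lit 143316, nat_lit 136196, nat_lit 132343, nat_lit 1268, nat_lit 7188, nat_lit 9688, nat_lit 13312, nat_lit 20352, nat_lit 22528, nat_lit 29696, nat_lit 35328, nat_lit 37888, nat_lit 45337, nat_lit 41545, nat_lit 38139, nat_lit 34956, nat_lit 28770, nat_lit 24610, nat_lit 20550, nat_lit 16389, nat_lit 12294, nat_lit 8193, nat_lit 4097, nat_lit 413700, nat_lit 405506, nat_lit 397312, nat_lit 143408, nat_lit 139304, nat_lit 135204, nat_lit 131098, nat_lit 45071, nat_lit 40976, nat_lit 36874, nat_lit 32814, nat_lit 28688, nat_lit 24579, nat_lit 327680]⟩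
def ndMr9_1 : El := ⟨[nat_lit 0x30ac6fb404c74ae141a956bd258aa6758c80, nat_lit 0xc563ac48e9501d4579257806686b162b45c6, nat_lit 0xd2d1b1389552cdc4005f1952ec32c766a130, nat_lit 0x878284a3883b411763e2b14d20686a534947], [nat_lit 65536, nat_lit 69632, nat_lit 81920, nat_lit 94208, nat_lit 98304, nat_lit 110592, nat_lit 169984, nat_lit 164864, nat_lit 161152, nat_lit 157248, nat_lit 152064, nat_lit 149120, nat_lit 145152, nat_lit 141056, nat_lit 136834, nat_lit 133881, nat_lit 1816, nat_lit 7976, nat_lit 10776, nat_lit 13472, nat_lit 18432, nat_lit 24512, nat_lit 29184, nat_lit 46795, nat_lit 41111, nat_lit 36943, nat_lit 32819, nat_lit 29752, nat_lit 24624, nat_lit 20574, nat_lit 16449, nat_lit 12292, nat_lit 8203, nat_lit 438281, nat_lit 421894, nat_lit 413700, nat_lit 405506, nat_lit 397312, nat_lit 160256, nat_lit 156160, nat_lit 153664, nat_lit 150240, nat_lit 145584, nat_lit 141936, nat_lit 135396, nat_lit 131816, nat_lit 41561, nat_lit 33001]⟩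
def ndMr9_2 : El := ⟨[nat_lit 0xf50c66ac84342ef0a14d3b3d912014d485c7, nat_lit 0x535666059b3844abadcea0a064724cfa0a4c, nat_lit 0xdd48d2124c70bd6d241d69824abd068ab0b1, nat_lit 0x2888e14c2d372d94022e23b641514d5191f1], [nat_lit 65536, nat_lit 73728, nat_lit 81920, nat_lit 86016, nat_lit 98304, nat_lit 110592, nat_lit 178176, nat_lit 173056, nat_lit 170496, nat_lit 164352, nat_lit 161408, nat_lit 156224, nat_lit 152864, nat_lit 150960, nat_lit 144616, nat_lit 142300, nat_lit 137562, nat_lit 133496, nat_lit 3376, nat_lit 7880, nat_lit 10640, nat_lit 13280, nat_lit 18592, nat_lit 21760, nat_lit 28032, nat_lit 29952, nat_lit 37888, nat_lit 45229, nat_lit 41956, nat_lit 38097, nat_lit 33286, nat_lit 28742, nat_lit 24752, nat_lit 20574, nat_lit 16388, nat_lit 12323, nat_lit 8195, nat_lit 4, nat_lit 438280, nat_lit 421894, nat_lit 413700, nat_lit 405506, nat_lit 397312, nat_lit 161792, nat_lit 157952, nat_lit 153856, nat_lit 149856, nat_lit 143712, nat_lit 139600, nat_lit 135496, nat_lit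 133128, nat_lit 40991, nat_lit 37163]⟩
def ndMr9_3 : El := ⟨[nat_lit 0x3ca51c0c2b16f191dac52264585d4abc09, nat_lit 0xe2ebbdbc4cca86ca448532ac047a5a3838f4, nat_lit 0xd8dd28325447459342ca77b650152a105ec3], [nat_lit 69632, nat_lit 77824, nat_lit 94208, nat_lit 110592, nat_lit 175104, nat_lit 167168, nat_lit 161024, nat_lit 156160, nat_lit 153600, nat_lit 147744, nat_lit 147280, nat_lit 139600, nat_lit 136578, nat_lit 134091, nat_lit 2274, nat_lit 5944, nat_lit 8488, nat_lit 13168, nat_lit 16512, nat_lit 23616, nat_lit 25856, nat_lit 30720, nat_lit 33792, nat_lit 39936, nat_lit 45283, nat_lit 41356, nat_lit 37262, nat_lit 32840, nat_lit 28712, nat_lit 24612, nat_lit 20563, nat_lit 16419, nat_lit 12419, nat_lit 8194, nat_lit 4097, nat_lit 430088, nat_lit 413700, nat_lit 405506, nat_lit 397312, nat_lit 164352, nat_lit 151808, nat_lit 147744, nat_lit 143888, nat_lit 140056, nat_lit 135484, nat_lit 131626, nat_lit 45071, nat_lit 40986, nat_lit 28700]⟩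
def ndMr9_4 : El := ⟨[nat_lit 0x28ddd86b88785e55795861890b50409b4674, nat_lit 0x8b1d2dab88d8bd22a0465848f79818b558c8, nat_lit 0xb77b2d33ead13153b9020858f12d12858e4e, nat_lit 0xb874d21d15573d020ae3224ecc85ccd49c05], [nat_lit 65536, nat_lit 77824, nat_lit 81920, nat_lit 94208, nat_lit 98304, nat_lit 110592, nat_lit 171008, nat_lit 167168, nat_lit 161664, nat_lit 157760, nat_lit 154048, nat_lit 150736, nat_lit 147064, nat_lit 141836, nat_lit 137520, nat_lit 131786, nat_lit 4060, nat_lit 5240, nat_lit 9584, nat_lit 15328, nat_lit 18784, nat_lit 21696, nat_lit 27392, nat_lit 28928, nat_lit 38912, nat_lit 45701, nat_lit 41697, nat_lit 36950, nat_lit 32894, nat_lit 28689, nat_lit 24867, nat_lit 20767, nat_lit 16460, nat_lit 12355, nat_lit 8202, nat_lit 4097, nat_lit 438282, nat_lit 425991, nat_lit 417797, nat_lit 409602, nat_lit 397312, nat_lit 174080, nat_lit 160000, nat_lit 159104, nat_lit 153856, nat_lit 148896, nat_lit 140512, nat_lit 138644, nat_lit 131186, nat_lit 37330, nat_lit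 12289]⟩
def ndMr9_5 : El := ⟨[nat_lit 0x71eebb2c6d4900643c10972c373326f68955, nat_lit 0xc5935c4254b218e57358f0046284a71bd696], [nat_lit 65536, nat_lit 69632, nat_lit 73728, nat_lit 77824, nat_lit 81920, nat_lit 98304, nat_lit 106496, nat_lit 110592, nat_lit 178176, nat_lit 174080, nat_lit 166400, nat_lit 162176, nat_lit 155968, nat_lit 155488, nat_lit 149856, nat_lit 144088, nat_lit 142004, nat_lit 136000, nat_lit 131200, nat_lit 3000, nat_lit 5476, nat_lit 11384, nat_lit 12768, nat_lit 16416, nat_lit 20608, nat_lit 27520, nat_lit 28928, nat_lit 35840, nat_lit 39936, nat_lit 45857, nat_lit 41617, nat_lit 37307, nat_lit 33334, nat_lit 28745, nat_lit 24736, nat_lit 20486, nat_lit 16905, nat_lit 12352, nat_lit 8226, nat_lit 4112, nat_lit 8, nat_lit 425989, nat_lit 409600, nat_lit 151808, nat_lit 147744, nat_lit 131088, nat_lit 40976, nat_lit 28688, nat_lit 12289, nat_lit 8193, nat_lit 4097]⟩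
def ndMr9_6 : El := ⟨[nat_lit 0xca3665444b093ae0205631566f3314d49e96, nat_lit 0xc09f3533d2a58e74adcee8364415a2861401, nat_lit 0xc55ff6a00a335dee4404d25a3249d5564c2b, nat_lit 0x6596397568a3316581ec1925b31bd0225c11], [nat_lit 65536, nat_lit 73728, nat_lit 86016, nat_lit 90112, nat_lit 94208, nat_lit 102400, nat_lit 110592, nat_lit 178176, nat_lit 175104, nat_lit 169472, nat_lit 167424, nat_lit 161920, nat_lit 156608, nat_lit 152512, nat_lit 150352, nat_lit 144528, nat_lit 142040, nat_lit 135424, nat_lit 134073, nat_lit 3396, nat_lit 4596, nat_lit 11800, nat_lit 12640, nat_lit 19840, nat_lit 21056, nat_lit 28288, nat_lit 32256, nat_lit 33280, nat_lit 39936, nat_lit 46784, nat_lit 41826, nat_lit 37917, nat_lit 33399, nat_lit 30794, nat_lit 25102, nat_lit 20548, nat_lit 16397, nat_lit 12304, nat_lit 8201, nat_lit 4224, nat_lit 8, nat_lit 434185, nat_lit 421894, nat_lit 413700, nat_lit 405506, nat_lit 397312, nat_lit 160768, nat_lit 156800, nat_lit 152256, nat_lit 148160, nat_lit 144544,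 nat_lit 139376, nat_lit 135728, nat_lit 131748, nat_lit 45786, nat_lit 32986]⟩
def ndMr9_7 : El := ⟨[nat_lit 0x82e78ea99405b531b88a8830e4a49f69846e, nat_lit 0x50af53a112d2c84754468042b663c3375d66, nat_lit 0x481dbe0d2b348e0853cb78b1c2910e033576, nat_lit 0x7827b2a2daf28a6e33200926d151ea41dd01], [nat_lit 65536, nat_lit 86016, nat_lit 110592, nat_lit 173056, nat_lit 168448, nat_lit 167168, nat_lit 160256, nat_lit 156864, nat_lit 153344, nat_lit 150112, nat_lit 145232, nat_lit 139520, nat_lit 137284, nat_lit 134414, nat_lit 778, nat_lit 6144, nat_lit 10128, nat_lit 14592, nat_lit 22528, nat_lit 24704, nat_lit 32256, nat_lit 35840, nat_lit 46312, nat_lit 41794, nat_lit 37979, nat_lit 33435, nat_lit 25619, nat_lit 20487, nat_lit 16395, nat_lit 12304, nat_lit 8225, nat_lit 434184, nat_lit 421894, nat_lit 413700, nat_lit 405506, nat_lit 397312, nat_lit 164864, nat_lit 160768, nat_lit 156928, nat_lit 152576, nat_lit 148512, nat_lit 144848, nat_lit 140304, nat_lit 135172, nat_lit 131152,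 nat_lit 45440, nat_lit 37082, nat_lit 327680]⟩
def ndMr9_8 : El := ⟨[nat_lit 0x909550a2d440313218ae54066e3b5f5b4606, nat_lit 0x696ffc4b9913bec1ac977999441a050a34a0, nat_lit 0x1ede223d4b6521ec5a5ae148100c663b9286], [nat_lit 65536, nat_lit 69632, nat_lit 77824, nat_lit 81920, nat_lit 86016, nat_lit 98304, nat_lit 110592, nat_lit 178176, nat_lit 173056, nat_lit 169984, nat_lit 160896, nat_lit 157056, nat_lit 155424, nat_lit 149664, nat_lit 144640, nat_lit 141292, nat_lit 135748, nat_lit 132944, nat_lit 1474, nat_lit 6680, nat_lit 10496, nat_lit 12768, nat_lit 16896, nat_lit 21120, nat_lit 27392, nat_lit 35840, nat_lit 37888, nat_lit 46912, nat_lit 41579, nat_lit 36913, nat_lit 34875, nat_lit 28754, nat_lit 24754, nat_lit 20489, nat_lit 16512, nat_lit 12326, nat_lit 8203, nat_lit 4097, nat_lit 434184, nat_lit 417797, nat_lit 409602, nat_lit 397312, nat_lit 164864, nat_lit 155904, nat_lit 152832, nat_lit 147520, nat_lit 140576, nat_lit 135444, nat_lit 131124, nat_lit 45061, nat_lit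 36933, nat_lit 28755, nat_lit 12290]⟩
def ndMr9_9 : El := ⟨[nat_lit 0xcf93aac19119a6b920e12d88eb804da29e9, nat_lit 0x9cfa09b4e835548c8890b93dc1800e6496ed, nat_lit 0xf69c30731af4a14bb52b7398a484a7118801], [nat_lit 65536, nat_lit 73728, nat_lit 77824, nat_lit 81920, nat_lit 86016, nat_lit 90112, nat_lit 102400, nat_lit 106496, nat_lit 165120, nat_lit 162304, nat_lit 156416, nat_lit 152736, nat_lit 150832, nat_lit 145464, nat_lit 141964, nat_lit 138398, nat_lit 134982, nat_lit 850, nat_lit 4424, nat_lit 8320, nat_lit 12560, nat_lit 19936, nat_lit 21568, nat_lit 25088, nat_lit 29440, nat_lit 38912, nat_lit 43008, nat_lit 46855, nat_lit 43603, nat_lit 39146, nat_lit 32990, nat_lit 28958, nat_lit 24704, nat_lit 20501, nat_lit 16385, nat_lit 12293, nat_lit 8200, nat_lit 4353, nat_lit 2, nat_lit 430088, nat_lit 413700, nat_lit 405506, nat_lit 397312, nat_lit 164352, nat_lit 151808, nat_lit 147744, nat_lit 143616, nat_lit 139280, nat_lit 135740, nat_lit 131390, nat_lit 45071, nat_lit 40986,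 nat_lit 28700]⟩
def ndMr9_10 : El := ⟨[nat_lit 0x2481d4bc14caba68050b612cc9385ed91071, nat_lit 0x72e77e33acc1be0a5c44d3cab3416e920680, nat_lit 0xf099637c59329a96adce440d4102d226c9d0], [nat_lit 65536, nat_lit 69632, nat_lit 77824, nat_lit 86016, nat_lit 94208, nat_lit 102400, nat_lit 106496, nat_lit 110592, nat_lit 178176, nat_lit 173056, nat_lit 171520, nat_lit 164096, nat_lit 160768, nat_lit 158016, nat_lit 155584, nat_lit 150608, nat_lit 144616, nat_lit 139856, nat_lit 135778, nat_lit 133167, nat_lit 3742, nat_lit 7796, nat_lit 8840, nat_lit 13360, nat_lit 20256, nat_lit 21184, nat_lit 25216, nat_lit 30976, nat_lit 35328, nat_lit 37888, nat_lit 46401, nat_lit 41419, nat_lit 37075, nat_lit 33849, nat_lit 28731, nat_lit 24591, nat_lit 20629, nat_lit 16396, nat_lit 12295, nat_lit 8202, nat_lit 4097, nat_lit 425990, nat_lit 413700, nat_lit 405506, nat_lit 397312, nat_lit 155904, nat_lit 151872, nat_lit 147744, nat_lit 139584, nat_lit 135432, nat_lit 131090, nat_lit 45071, nat_lit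 41043, nat_lit 36928, nat_lit 28764, nat_lit 327680]⟩
def ndMr9_11 : El := ⟨[nat_lit 0x6f560aadcea2ae30724cf19101a305203676, nat_lit 0x9533ff91dea85663012e568ace4851432d91, nat_lit 0x42228d8c9ea1a40e09616aa2ed31d8b20a74, nat_lit 0x2eebde6c6d04aaee1859492082981653bcd5], [nat_lit 77824, nat_lit 90112, nat_lit 102400, nat_lit 106496, nat_lit 174080, nat_lit 169472, nat_lit 167168, nat_lit 162176, nat_lit 158080, nat_lit 155296, nat_lit 149760, nat_lit 145664, nat_lit 142372, nat_lit 136636, nat_lit 133088, nat_lit 1918, nat_lit 6572, nat_lit 10640, nat_lit 12816, nat_lit 16544, nat_lit 21760, nat_lit 27776, nat_lit 31232, nat_lit 35328, nat_lit 39936, nat_lit 43008, nat_lit 46509, nat_lit 43792, nat_lit 36974, nat_lit 34870, nat_lit 28954, nat_lit 25127, nat_lit 20508, nat_lit 16431, nat_lit 12295, nat_lit 8202, nat_lit 4, nat_lit 438282, nat_lit 430088, nat_lit 421894, nat_lit 413700, nat_lit 405506, nat_lit 397312, nat_lit 174080, nat_lit 169984, nat_lit 167424, nat_lit 161792,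 nat_lit 156544, nat_lit 153344, nat_lit 148672, nat_lit 144768, nat_lit 139920, nat_lit 135732, nat_lit 133986]⟩
def ndMr9_12 : El := ⟨[nat_lit 0x53a696510c56829341d2b0c2ee95982a8e2f, nat_lit 0x42dd8d3b24074482a15069de0b186ca6d52f, nat_lit 0x53a696698838022e4d66745cb26282b7d056, nat_lit 0x65ff5a300912ad9749df49d855839a392828], [nat_lit 73728, nat_lit 86016, nat_lit 94208, nat_lit 106496, nat_lit 170496, nat_lit 163072, nat_lit 157504, nat_lit 153056, nat_lit 149792, nat_lit 146808, nat_lit 143316, nat_lit 138200, nat_lit 1180, nat_lit 6444, nat_lit 10552, nat_lit 14800, nat_lit 19648, nat_lit 23360, nat_lit 25344, nat_lit 30464, nat_lit 36352, nat_lit 38912, nat_lit 47040, nat_lit 43365, nat_lit 36887, nat_lit 32802, nat_lit 29714, nat_lit 26631, nat_lit 20614, nat_lit 16427, nat_lit 12294, nat_lit 4097, nat_lit 2, nat_lit 438282, nat_lit 430088, nat_lit 421894, nat_lit 413700, nat_lit 405506, nat_lit 397312, nat_lit 174080, nat_lit 168960, nat_lit 165376, nat_lit 162560, nat_lit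 158208, nat_lit 154496, nat_lit 147776, nat_lit 143424, nat_lit 142584, nat_lit 138328, nat_lit 134882]⟩
def ndMr9_13 : El := ⟨[nat_lit 0xac59697898a21d23acda6849005d0362c5d7, nat_lit 0x7b84b109aa08961472a631498b791b73a2c9, nat_lit 0xac59960566c11d03326f45b9a47da018a8b2, nat_lit 0x814b7d0cad73beab40e296d1443166074182], [nat_lit 73728, nat_lit 77824, nat_lit 86016, nat_lit 98304, nat_lit 178176, nat_lit 173056, nat_lit 168448, nat_lit 167168, nat_lit 162432, nat_lit 156416, nat_lit 154400, nat_lit 149104, nat_lit 143784, nat_lit 139684, nat_lit 138110, nat_lit 131491, nat_lit 1878, nat_lit 5536, nat_lit 9720, nat_lit 14368, nat_lit 18208, nat_lit 22208, nat_lit 30208, nat_lit 37888, nat_lit 46206, nat_lit 41962, nat_lit 38160, nat_lit 32826, nat_lit 29251, nat_lit 25123, nat_lit 20636, nat_lit 16449, nat_lit 12304, nat_lit 8194, nat_lit 4097, nat_lit 438282, nat_lit 430088, nat_lit 421893, nat_lit 409602, nat_lit 397312, nat_lit 174080, nat_lit 169984, nat_lit 166400, nat_lit 162048,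 nat_lit 154880, nat_lit 151168, nat_lit 141728, nat_lit 137136, nat_lit 133028]⟩
def ndMr9_14 : El := ⟨[nat_lit 0x1d4e74145924854d596901daafbcd06038e4, nat_lit 0x5f059a2a1d00d18f31ea312acb882f26cc89, nat_lit 0x4e2b472b4cc23cee05aa392d33152e152230], [nat_lit 65536, nat_lit 69632, nat_lit 77824, nat_lit 90112, nat_lit 94208, nat_lit 110592, nat_lit 178176, nat_lit 169984, nat_lit 164352, nat_lit 162944, nat_lit 159232, nat_lit 152608, nat_lit 149952, nat_lit 145176, nat_lit 143124, nat_lit 135504, nat_lit 133522, nat_lit 2214, nat_lit 5016, nat_lit 8776, nat_lit 15840, nat_lit 19040, nat_lit 23104, nat_lit 25600, nat_lit 30208, nat_lit 35328, nat_lit 37888, nat_lit 43008, nat_lit 47047, nat_lit 41083, nat_lit 37120, nat_lit 33325, nat_lit 28688, nat_lit 25630, nat_lit 20502, nat_lit 16424, nat_lit 12291, nat_lit 8195, nat_lit 4, nat_lit 434184, nat_lit 421893, nat_lit 409603, nat_lit 401408, nat_lit 152832, nat_lit 148864, nat_lit 143744, nat_lit 139416, nat_lit 131472, nat_lit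 45068, nat_lit 37017, nat_lit 24588, nat_lit 4097]⟩
def ndMr9_15 : El := ⟨[nat_lit 0x906aafa46160b5833116a13dc09d6f22a127, nat_lit 0x81dd1e70a76ba8d4580e11b6b06110f89649, nat_lit 0xc356f64d6a708723d429a5db1322c02c08f, nat_lit 0x3c6600809d1051f60b4a71b1283555225d73], [nat_lit 69632, nat_lit 86016, nat_lit 90112, nat_lit 102400, nat_lit 175104, nat_lit 171008, nat_lit 167424, nat_lit 163200, nat_lit 158528, nat_lit 151840, nat_lit 150048, nat_lit 143808, nat_lit 139732, nat_lit 138098, nat_lit 134051, nat_lit 3188, nat_lit 7140, nat_lit 8440, nat_lit 13360, nat_lit 18304, nat_lit 21504, nat_lit 27520, nat_lit 30976, nat_lit 36352, nat_lit 38912, nat_lit 45993, nat_lit 41287, nat_lit 37334, nat_lit 33299, nat_lit 28931, nat_lit 24711, nat_lit 22549, nat_lit 16420, nat_lit 12307, nat_lit 4097, nat_lit 438282, nat_lit 430088, nat_lit 421894, nat_lit 413700, nat_lit 405506, nat_lit 397312, nat_lit 174080, nat_lit 171008, nat_lit 167424, nat_lit 156928, nat_lit 153344, nat_lit 149504,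 nat_lit 143680, nat_lit 139384, nat_lit 137852, nat_lit 133972]⟩
def ndMr9_16 : El := ⟨[nat_lit 0xf5a390aa22994cbbc11403ea71bac4925ac, nat_lit 0x82e87ea11225bd103964d32aa100dd3b5e2c, nat_lit 0xa6a5001be6c7552501a446d8eba42e242a21, nat_lit 0xa560907314885e7538826b46925a5ed28c80], [nat_lit 65536, nat_lit 69632, nat_lit 73728, nat_lit 86016, nat_lit 94208, nat_lit 102400, nat_lit 175104, nat_lit 168960, nat_lit 165376, nat_lit 163072, nat_lit 157312, nat_lit 154208, nat_lit 151472, nat_lit 146824, nat_lit 139732, nat_lit 139074, nat_lit 134298, nat_lit 2766, nat_lit 8128, nat_lit 10584, nat_lit 15648, nat_lit 17504, nat_lit 24256, nat_lit 28416, nat_lit 31488, nat_lit 37888, nat_lit 46953, nat_lit 43916, nat_lit 37016, nat_lit 34969, nat_lit 29033, nat_lit 24579, nat_lit 20742, nat_lit 16391, nat_lit 12291, nat_lit 8211, nat_lit 4097, nat_lit 2, nat_lit 438282, nat_lit 430088, nat_lit 421894, nat_lit 413700, nat_lit 405506, nat_lit 397312, nat_lit 174080, nat_lit 163328, nat_lit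 158720, nat_lit 152384, nat_lit 151456, nat_lit 144144, nat_lit 141176, nat_lit 135704, nat_lit 133234]⟩
def ndMr9_17 : El := ⟨[nat_lit 0xdd214e440665a5b612a648be92754a7b8580, nat_lit 0x1e8be43ae8972a227b2e520c36a9a12401b3, nat_lit 0xf5950aadd496948c399cf888735d91404a01], [nat_lit 77824, nat_lit 94208, nat_lit 98304, nat_lit 102400, nat_lit 174080, nat_lit 170496, nat_lit 167680, nat_lit 162048, nat_lit 159360, nat_lit 153760, nat_lit 148976, nat_lit 143880, nat_lit 142228, nat_lit 136508, nat_lit 133663, nat_lit 1610, nat_lit 6972, nat_lit 8552, nat_lit 14880, nat_lit 18816, nat_lit 22528, nat_lit 28032, nat_lit 30720, nat_lit 34816, nat_lit 37888, nat_lit 43008, nat_lit 47049, nat_lit 43777, nat_lit 37212, nat_lit 33502, nat_lit 29055, nat_lit 24617, nat_lit 20508, nat_lit 16389, nat_lit 12320, nat_lit 8194, nat_lit 4100, nat_lit 425990, nat_lit 413700, nat_lit 405506, nat_lit 397312, nat_lit 155904, nat_lit 151872, nat_lit 147808, nat_lit 143472, nat_lit 139288, nat_lit 135504,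 nat_lit 131432, nat_lit 45071, nat_lit 40976, nat_lit 36879, nat_lit 28764, nat_lit 327680]⟩
def ndMr9_18 : El := ⟨[nat_lit 0x7e77d805a0a79d2baa22393893105a665cb4, nat_lit 0xb81db15b2216d5e5b127202a0ea190910cf7, nat_lit 0x1148b1b3c5332e5063904a26a750065bb431, nat_lit 0xe8b2e261c0fb8ac654dd46d6492c47041161], [nat_lit 65536, nat_lit 73728, nat_lit 81920, nat_lit 86016, nat_lit 94208, nat_lit 98304, nat_lit 106496, nat_lit 175104, nat_lit 169472, nat_lit 166912, nat_lit 160384, nat_lit 156736, nat_lit 151648, nat_lit 148736, nat_lit 144328, nat_lit 140284, nat_lit 137234, nat_lit 134625, nat_lit 1418, nat_lit 5892, nat_lit 11608, nat_lit 15120, nat_lit 18944, nat_lit 24000, nat_lit 26752, nat_lit 29184, nat_lit 38912, nat_lit 43008, nat_lit 46521, nat_lit 43961, nat_lit 38381, nat_lit 32925, nat_lit 28691, nat_lit 25095, nat_lit 20497, nat_lit 16388, nat_lit 12294, nat_lit 8194, nat_lit 32, nat_lit 430088, nat_lit 421894, nat_lit 413700, nat_lit 405506, nat_lit 397312, nat_lit 164352,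 nat_lit 160256, nat_lit 155776, nat_lit 152128, nat_lit 148032, nat_lit 143488, nat_lit 139320, nat_lit 136028, nat_lit 131822, nat_lit 45328, nat_lit 41216, nat_lit 327680]⟩
def ndMr9_19 : El := ⟨[nat_lit 0xfa595013111058a170e0922aab7d1a7b9a72, nat_lit 0x2eb1178d02a21d85339afb013315d101d64b, nat_lit 0x609aaf6a48095e71ac296608c82ac6f0b947, nat_lit 0xf33a605dde3240c74502d628158965370ac9], [nat_lit 69632, nat_lit 73728, nat_lit 94208, nat_lit 98304, nat_lit 102400, nat_lit 178176, nat_lit 174080, nat_lit 169984, nat_lit 165632, nat_lit 163200, nat_lit 157632, nat_lit 152448, nat_lit 149232, nat_lit 146424, nat_lit 140024, nat_lit 135932, nat_lit 133564, nat_lit 1392, nat_lit 7156, nat_lit 8688, nat_lit 13568, nat_lit 17664, nat_lit 22848, nat_lit 27904, nat_lit 31744, nat_lit 36352, nat_lit 46668, nat_lit 41270, nat_lit 37067, nat_lit 33844, nat_lit 29262, nat_lit 25097, nat_lit 21521, nat_lit 17420, nat_lit 12310, nat_lit 8195, nat_lit 438281, nat_lit 425990, nat_lit 413700, nat_lit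 405506, nat_lit 397312, nat_lit 164352, nat_lit 156160, nat_lit 151808, nat_lit 147744, nat_lit 143968, nat_lit 140152, nat_lit 135220, nat_lit 131966, nat_lit 40991, nat_lit 28688]⟩
def ndMr9_20 : El := ⟨[nat_lit 0x444ebd8cca4a556960da2005cf918f0b5d48, nat_lit 0x7e1ebba4131119b33a2c5aa9ec905c405d63, nat_lit 0x87e4177b128216327296d998f0adc2205076], [nat_lit 65536, nat_lit 81920, nat_lit 90112, nat_lit 94208, nat_lit 98304, nat_lit 106496, nat_lit 174080, nat_lit 168960, nat_lit 164352, nat_lit 163200, nat_lit 156864, nat_lit 152640, nat_lit 149792, nat_lit 146608, nat_lit 142432, nat_lit 137774, nat_lit 133367, nat_lit 982, nat_lit 4128, nat_lit 9752, nat_lit 13760, nat_lit 20192, nat_lit 20608, nat_lit 27520, nat_lit 30464, nat_lit 36352, nat_lit 39936, nat_lit 45111, nat_lit 41869, nat_lit 38125, nat_lit 32817, nat_lit 29811, nat_lit 24738, nat_lit 20624, nat_lit 16386, nat_lit 12327, nat_lit 4112, nat_lit 8, nat_lit 430088, nat_lit 417797, nat_lit 409603, nat_lit 397312, nat_lit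 155904, nat_lit 152384, nat_lit 147744, nat_lit 143952, nat_lit 135784, nat_lit 131112, nat_lit 45066, nat_lit 41555, nat_lit 28688, nat_lit 8193]⟩
def ndMr9_21 : El := ⟨[nat_lit 0xe4bbd7826b2a1ccb2b4717a2ce0dd4013093, nat_lit 0x14b4d7751e93484c81c6d516c4bce28a8560, nat_lit 0xf5f39984c0eac4e91a1eb130c50de8d22a56, nat_lit 0x482eeb7c52e50c12112ad2c166a2277b1c2c], [nat_lit 69632, nat_lit 77824, nat_lit 81920, nat_lit 86016, nat_lit 94208, nat_lit 98304, nat_lit 106496, nat_lit 178176, nat_lit 175104, nat_lit 164352, nat_lit 162432, nat_lit 158656, nat_lit 154816, nat_lit 151040, nat_lit 144720, nat_lit 140252, nat_lit 135322, nat_lit 133532, nat_lit 488, nat_lit 4132, nat_lit 8208, nat_lit 12304, nat_lit 19936, nat_lit 21696, nat_lit 28416, nat_lit 28928, nat_lit 35328, nat_lit 37888, nat_lit 47088, nat_lit 41276, nat_lit 39277, nat_lit 33929, nat_lit 28751, nat_lit 24591, nat_lit 20738, nat_lit 16418, nat_lit 12290, nat_lit 8209, nat_lit 434184, nat_lit 421894, nat_lit 413700, nat_lit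 405506, nat_lit 397312, nat_lit 164864, nat_lit 152640, nat_lit 147904, nat_lit 144704, nat_lit 139328, nat_lit 136468, nat_lit 131076, nat_lit 45215, nat_lit 36988]⟩
def ndMr9_22 : El := ⟨[nat_lit 0x95ffaa896f4b056e241ed924caaa18399c40, nat_lit 0xaa5c3aba0e1149a08bca6a32762546a72570, nat_lit 0x60033c8846f44d8a85eae01acb1168921e4d, nat_lit 0x96c53a414934b9b055ed16542619df45c802], [nat_lit 73728, nat_lit 81920, nat_lit 86016, nat_lit 90112, nat_lit 94208, nat_lit 102400, nat_lit 174080, nat_lit 169472, nat_lit 166656, nat_lit 163072, nat_lit 157632, nat_lit 153120, nat_lit 148464, nat_lit 143600, nat_lit 142632, nat_lit 135808, nat_lit 131254, nat_lit 1566, nat_lit 4736, nat_lit 10048, nat_lit 13648, nat_lit 16736, nat_lit 22720, nat_lit 25216, nat_lit 32256, nat_lit 35840, nat_lit 39936, nat_lit 43008, nat_lit 47066, nat_lit 41103, nat_lit 38962, nat_lit 33488, nat_lit 28681, nat_lit 24591, nat_lit 20743, nat_lit 16419, nat_lit 12292, nat_lit 8195, nat_lit 4101, nat_lit 4, nat_lit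 438282, nat_lit 430088, nat_lit 421894, nat_lit 413700, nat_lit 405506, nat_lit 397312, nat_lit 174080, nat_lit 168960, nat_lit 164352, nat_lit 160512, nat_lit 159488, nat_lit 155456, nat_lit 148672, nat_lit 144864, nat_lit 142304, nat_lit 136924, nat_lit 131722]⟩
def ndMr9_23 : El := ⟨[nat_lit 0x4ebddba12265d950935952b8481de613a40f, nat_lit 0x4bb14d2d40d1b0d689c8895e8b9882973d50, nat_lit 0x5c30fa8d5d380127b94cda098153d761a092, nat_lit 0x9a0f550cdae8ac6985c1441df5628b624846], [nat_lit 86016, nat_lit 94208, nat_lit 98304, nat_lit 102400, nat_lit 106496, nat_lit 110592, nat_lit 178176, nat_lit 168448, nat_lit 167680, nat_lit 163328, nat_lit 157824, nat_lit 155360, nat_lit 148512, nat_lit 144672, nat_lit 142312, nat_lit 139020, nat_lit 131118, nat_lit 3898, nat_lit 7028, nat_lit 10056, nat_lit 13152, nat_lit 17632, nat_lit 23936, nat_lit 28032, nat_lit 30208, nat_lit 33792, nat_lit 38912, nat_lit 45762, nat_lit 41392, nat_lit 37068, nat_lit 32901, nat_lit 28988, nat_lit 25115, nat_lit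 20624, nat_lit 16461, nat_lit 8259, nat_lit 4113, nat_lit 438281, nat_lit 421894, nat_lit 413700, nat_lit 405506, nat_lit 397312, nat_lit 169984, nat_lit 161792, nat_lit 155776, nat_lit 152192, nat_lit 147616, nat_lit 145568, nat_lit 141496, nat_lit 135176, nat_lit 131728, nat_lit 41158, nat_lit 32857]⟩
def ndMr9_24 : El := ⟨[nat_lit 0xf90aa36b9889d06652de914aa5858e00dc91, nat_lit 0xbbd72e6548dba545158e183d039b96035251, nat_lit 0x7ed211598ea6c26e006f48b1f2410a9b0c55], [nat_lit 65536, nat_lit 73728, nat_lit 81920, nat_lit 86016, nat_lit 90112, nat_lit 94208, nat_lit 178176, nat_lit 169984, nat_lit 160896, nat_lit 156288, nat_lit 154112, nat_lit 148800, nat_lit 144208, nat_lit 142008, nat_lit 136842, nat_lit 131748, nat_lit 644, nat_lit 6104, nat_lit 11504, nat_lit 12976, nat_lit 17248, nat_lit 23168, nat_lit 25472, nat_lit 33280, nat_lit 39936, nat_lit 43008, nat_lit 45304, nat_lit 41884, nat_lit 36967, nat_lit 33953, nat_lit 29794, nat_lit 24615, nat_lit 20504, nat_lit 16426,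 nat_lit 12293, nat_lit 8200, nat_lit 4113, nat_lit 2, nat_lit 434184, nat_lit 417797, nat_lit 409602, nat_lit 397312, nat_lit 164864, nat_lit 152832, nat_lit 139344, nat_lit 136448, nat_lit 132420, nat_lit 45062, nat_lit 36870, nat_lit 28757, nat_lit 12289, nat_lit 327680]⟩
def ndMr9_25 : El := ⟨[nat_lit 0x482eebb1ca68814e7a4726cd020ad9025e95, nat_lit 0x66c5ca2b9603d2049aae969828146a3659f2, nat_lit 0xf6993b2c54834f70192544663a91d2629e1, nat_lit 0xcf35fc1c9f6752611559105db03952622968], [nat_lit 65536, nat_lit 77824, nat_lit 94208, nat_lit 106496, nat_lit 173056, nat_lit 171008, nat_lit 164096, nat_lit 163072, nat_lit 159360, nat_lit 155168, nat_lit 148592, nat_lit 145416, nat_lit 142892, nat_lit 138982, nat_lit 134796, nat_lit 656, nat_lit 4476, nat_lit 11712, nat_lit 13856, nat_lit 17504, nat_lit 22720, nat_lit 25856, nat_lit 32000, nat_lit 34816, nat_lit 46936, nat_lit 43763, nat_lit 36949, nat_lit 33921, nat_lit 29731, nat_lit 24580, nat_lit 20486, nat_lit 16905, nat_lit 12295,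 nat_lit 8203, nat_lit 4104, nat_lit 2, nat_lit 434184, nat_lit 421894, nat_lit 413700, nat_lit 405506, nat_lit 397312, nat_lit 164864, nat_lit 156672, nat_lit 152704, nat_lit 148960, nat_lit 139544, nat_lit 135316, nat_lit 132118, nat_lit 45549, nat_lit 37282, nat_lit 327680]⟩
def ndMr9_26 : El := ⟨[nat_lit 0x55609f5a5467ce836823515e0c220a774ac1, nat_lit 0x5cf3a06447043922014ef99aabb343492ae4, nat_lit 0x78e41742c430242a7958685e55a5a3369c8e], [nat_lit 69632, nat_lit 73728, nat_lit 77824, nat_lit 81920, nat_lit 94208, nat_lit 106496, nat_lit 169984, nat_lit 165632, nat_lit 163456, nat_lit 159168, nat_lit 152448, nat_lit 147584, nat_lit 143728, nat_lit 143056, nat_lit 136180, nat_lit 134606, nat_lit 3718, nat_lit 6800, nat_lit 10456, nat_lit 14176, nat_lit 19072, nat_lit 23680, nat_lit 25600, nat_lit 31488, nat_lit 33280, nat_lit 38912, nat_lit 45584, nat_lit 41249, nat_lit 39415, nat_lit 33520, nat_lit 29224, nat_lit 24625, nat_lit 20497, nat_lit 16395, nat_lit 8195, nat_lit 4100,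 nat_lit 430088, nat_lit 417797, nat_lit 409603, nat_lit 397312, nat_lit 164352, nat_lit 152384, nat_lit 148320, nat_lit 144128, nat_lit 135720, nat_lit 131378, nat_lit 45065, nat_lit 41491, nat_lit 28697, nat_lit 8194]⟩
def ndMr9_27 : El := ⟨[nat_lit 0x7eb482035268ad55b39f3bc0a708e5411188, nat_lit 0xf5950a79c0224e0d4a0ae1c974b9acc8d42a, nat_lit 0x8dbd4841c096ae7409ab66455724a03139e5, nat_lit 0x47ed416914f919303d68b8d80cbcdc341441], [nat_lit 73728, nat_lit 77824, nat_lit 81920, nat_lit 106496, nat_lit 165120, nat_lit 160768, nat_lit 158400, nat_lit 153248, nat_lit 147696, nat_lit 139892, nat_lit 136310, nat_lit 133972, nat_lit 1308, nat_lit 5556, nat_lit 10632, nat_lit 16304, nat_lit 16416, nat_lit 20544, nat_lit 27904, nat_lit 30464, nat_lit 34816, nat_lit 39936, nat_lit 43008, nat_lit 46329, nat_lit 41909, nat_lit 37937, nat_lit 32806, nat_lit 29290, nat_lit 24622, nat_lit 20568, nat_lit 16420, nat_lit 12355, nat_lit 8, nat_lit 430088, nat_lit 421894, nat_lit 413700, nat_lit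 405506, nat_lit 397312, nat_lit 164352, nat_lit 160512, nat_lit 156416, nat_lit 152064, nat_lit 147616, nat_lit 144368, nat_lit 139512, nat_lit 136160, nat_lit 132058, nat_lit 45059, nat_lit 41746]⟩
def ndMr9_28 : El := ⟨[nat_lit 0x1422b4a20b7ac46c6a8ee9ae060a4047da42, nat_lit 0x505f5c149b08a2c47d2a14adc09955733067, nat_lit 0x5a6507a0b35a436846a219287bb5809194e, nat_lit 0x35cfc7c675116080c8c900e8d7596abb087], [nat_lit 69632, nat_lit 77824, nat_lit 86016, nat_lit 94208, nat_lit 98304, nat_lit 102400, nat_lit 106496, nat_lit 173056, nat_lit 165888, nat_lit 160000, nat_lit 159296, nat_lit 152416, nat_lit 150256, nat_lit 145904, nat_lit 140052, nat_lit 138692, nat_lit 133616, nat_lit 1470, nat_lit 7820, nat_lit 9400, nat_lit 14144, nat_lit 20448, nat_lit 21184, nat_lit 25600, nat_lit 31488, nat_lit 36352, nat_lit 39936, nat_lit 43008, nat_lit 46935, nat_lit 41006, nat_lit 39174, nat_lit 35039, nat_lit 28996, nat_lit 24605, nat_lit 21520, nat_lit 16386, nat_lit 12295, nat_lit 8193,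 nat_lit 4097, nat_lit 438282, nat_lit 430088, nat_lit 421894, nat_lit 413700, nat_lit 405506, nat_lit 397312, nat_lit 174080, nat_lit 169984, nat_lit 166912, nat_lit 163328, nat_lit 157568, nat_lit 152320, nat_lit 150176, nat_lit 144528, nat_lit 140360, nat_lit 139072, nat_lit 133596]⟩
def ndMr9_29 : El := ⟨[], [nat_lit 110592]⟩
def ndMr9_30 : El := ⟨[nat_lit 0x2d8b87900540954e1acef4a2b1bc0869d98d, nat_lit 0xf0a5392dcec81048702a11a8d38da4d7d12b, nat_lit 0x8e77284baf28b1752090a84cc3795a13d814], [nat_lit 65536, nat_lit 69632, nat_lit 77824, nat_lit 86016, nat_lit 90112, nat_lit 171520, nat_lit 165120, nat_lit 160256, nat_lit 157568, nat_lit 154112, nat_lit 147552, nat_lit 146456, nat_lit 139804, nat_lit 136836, nat_lit 132024, nat_lit 1228, nat_lit 5428, nat_lit 11736, nat_lit 16080, nat_lit 16512, nat_lit 21120, nat_lit 24704, nat_lit 33280, nat_lit 46272, nat_lit 41538, nat_lit 37051, nat_lit 32841, nat_lit 28676, nat_lit 24857, nat_lit 21017, nat_lit 16448, nat_lit 12550, nat_lit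 8202, nat_lit 425991, nat_lit 417797, nat_lit 405506, nat_lit 397312, nat_lit 155776, nat_lit 151936, nat_lit 139488, nat_lit 135424, nat_lit 131278, nat_lit 45061, nat_lit 40973, nat_lit 37038, nat_lit 16386, nat_lit 327680]⟩
def ndMr9_31 : El := ⟨[nat_lit 0xd4bd814322d092eea3ce20486b818aa4da75, nat_lit 0xcf603a19444a29776466d849eead90938026], [nat_lit 65536, nat_lit 73728, nat_lit 77824, nat_lit 81920, nat_lit 94208, nat_lit 102400, nat_lit 106496, nat_lit 174080, nat_lit 161664, nat_lit 159104, nat_lit 155296, nat_lit 150688, nat_lit 144720, nat_lit 139560, nat_lit 137562, nat_lit 134630, nat_lit 4078, nat_lit 5204, nat_lit 8424, nat_lit 14480, nat_lit 16512, nat_lit 23168, nat_lit 24832, nat_lit 31744, nat_lit 46421, nat_lit 41647, nat_lit 38148, nat_lit 33494, nat_lit 28774, nat_lit 24729, nat_lit 20554, nat_lit 16392, nat_lit 12309, nat_lit 8200, nat_lit 4161, nat_lit 425990, nat_lit 397312, nat_lit 155904, nat_lit 135488, nat_lit 131074, nat_lit 41024, nat_lit 20481, nat_lit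 12289, nat_lit 8194, nat_lit 327680]⟩
def ndMr9_32 : El := ⟨[nat_lit 0xb22282648093d5ed44dc1b46062514b28ee2, nat_lit 0x565a0f54d0e00a2d25161832f533cb249c76, nat_lit 0xd8d22750071456162b437a08cc4ba4f24ceb, nat_lit 0x222e4140a903ba535bd2400da5b8551ad986], [nat_lit 69632, nat_lit 90112, nat_lit 106496, nat_lit 173056, nat_lit 168448, nat_lit 164864, nat_lit 159872, nat_lit 157568, nat_lit 153408, nat_lit 148048, nat_lit 146632, nat_lit 139304, nat_lit 136284, nat_lit 131189, nat_lit 2478, nat_lit 6588, nat_lit 11944, nat_lit 15568, nat_lit 19136, nat_lit 24192, nat_lit 25856, nat_lit 31488, nat_lit 34816, nat_lit 43008, nat_lit 46983, nat_lit 41818, nat_lit 36981, nat_lit 33886, nat_lit 30803, nat_lit 24606, nat_lit 21023, nat_lit 16448, nat_lit 12292, nat_lit 8195, nat_lit 4101, nat_lit 438282, nat_lit 430088, nat_lit 421894, nat_lit 413700, nat_lit 405506, nat_lit 397312, nat_lit 171008, nat_lit 167424, nat_lit 162816, nat_lit 157440, nat_lit 154112, nat_lit 151296, nat_lit 146336,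 nat_lit 142344, nat_lit 135960, nat_lit 131866]⟩
def ndMr9_33 : El := ⟨[nat_lit 0x65cc0fb31630d50e4c545352577b4f304082, nat_lit 0x305c9f0deca2a4471c26b89aac9128d7b900, nat_lit 0x9f0ccc91a28a3e0365e623b92d5d6c520540], [nat_lit 65536, nat_lit 77824, nat_lit 94208, nat_lit 98304, nat_lit 102400, nat_lit 106496, nat_lit 174080, nat_lit 170496, nat_lit 166656, nat_lit 161664, nat_lit 159552, nat_lit 152576, nat_lit 148384, nat_lit 146624, nat_lit 139736, nat_lit 139080, nat_lit 134446, nat_lit 2818, nat_lit 7716, nat_lit 8728, nat_lit 12448, nat_lit 17344, nat_lit 20544, nat_lit 24704, nat_lit 29440, nat_lit 34304, nat_lit 37888, nat_lit 45683, nat_lit 41661, nat_lit 38354, nat_lit 33408, nat_lit 28974, nat_lit 20759, nat_lit 16429, nat_lit 12326, nat_lit 8203, nat_lit 4104, nat_lit 425991, nat_lit 417797, nat_lit 409603, nat_lit 397312, nat_lit 160000, nat_lit 151616, nat_lit 147744, nat_lit 143488, nat_lit 135472, nat_lit 131304, nat_lit 45435, nat_lit 41467, nat_lit 37011, nat_lit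 8193]⟩
def ndMr9_34 : El := ⟨[nat_lit 0x6f6aaf9349058e932b001458513292f756e7, nat_lit 0xcc55a5910551814d0c4b7b39747a0e664d30, nat_lit 0x12b17b0522ca9ecb95de184c886a4ae11943, nat_lit 0x566655298e1929b55d9902006245e2f74d34], [nat_lit 69632, nat_lit 81920, nat_lit 86016, nat_lit 90112, nat_lit 102400, nat_lit 106496, nat_lit 110592, nat_lit 178176, nat_lit 169984, nat_lit 164096, nat_lit 160384, nat_lit 157440, nat_lit 151808, nat_lit 147504, nat_lit 143472, nat_lit 140660, nat_lit 137558, nat_lit 133046, nat_lit 3634, nat_lit 7216, nat_lit 9368, nat_lit 14672, nat_lit 16992, nat_lit 21504, nat_lit 27008, nat_lit 29952, nat_lit 43008, nat_lit 46721, nat_lit 43839, nat_lit 36874, nat_lit 32772, nat_lit 28798, nat_lit 24599, nat_lit 20621, nat_lit 16427, nat_lit 12293, nat_lit 8201, nat_lit 4128, nat_lit 438282, nat_lit 430088, nat_lit 421894, nat_lit 413700, nat_lit 405506, nat_lit 397312, nat_lit 174080, nat_lit 160768, nat_lit 157568, nat_lit 153920, nat_lit 151520, nat_lit 143392,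 nat_lit 140232, nat_lit 136196, nat_lit 132814, nat_lit 327680]⟩
def ndMr9_35 : El := ⟨[nat_lit 0xe147b110ea6612ee03d3052ec76a03199654, nat_lit 0xd4dbed811a86546f146d22cd2e3502750177, nat_lit 0x1ede223540f205b73966b445ccb2a9280d22, nat_lit 0x22747771c64a1a4a12d0d782b68953764261], [nat_lit 65536, nat_lit 73728, nat_lit 81920, nat_lit 86016, nat_lit 98304, nat_lit 110592, nat_lit 178176, nat_lit 173056, nat_lit 168960, nat_lit 164352, nat_lit 160384, nat_lit 156352, nat_lit 152352, nat_lit 148064, nat_lit 146696, nat_lit 140004, nat_lit 135674, nat_lit 134939, nat_lit 3108, nat_lit 6428, nat_lit 8976, nat_lit 14400, nat_lit 19392, nat_lit 24192, nat_lit 25344, nat_lit 31488, nat_lit 34304, nat_lit 38912, nat_lit 43008, nat_lit 47065, nat_lit 41848, nat_lit 36921, nat_lit 32914, nat_lit 28766, nat_lit 24719, nat_lit 20505, nat_lit 16390, nat_lit 12293, nat_lit 8202, nat_lit 4100, nat_lit 438280, nat_lit 421894, nat_lit 413700, nat_lit 405506, nat_lit 397312, nat_lit 160000, nat_lit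 155904, nat_lit 151680, nat_lit 147648, nat_lit 145712, nat_lit 141616, nat_lit 135244, nat_lit 131088, nat_lit 41024, nat_lit 37300, nat_lit 327680]⟩
def ndMr9_36 : El := ⟨[nat_lit 0x9a00a550a4babca9b02373c08174d83451a6, nat_lit 0x22d1be35ae8091624b1c5036341be7584947, nat_lit 0x72178e0222ea04e32c257b248b129b379995, nat_lit 0xd1eb216b0f39110a88406856854dc4eb0d6f], [nat_lit 69632, nat_lit 73728, nat_lit 94208, nat_lit 98304, nat_lit 102400, nat_lit 110592, nat_lit 178176, nat_lit 174080, nat_lit 169984, nat_lit 167424, nat_lit 161536, nat_lit 159424, nat_lit 153728, nat_lit 149056, nat_lit 146416, nat_lit 140920, nat_lit 137146, nat_lit 134969, nat_lit 2114, nat_lit 7416, nat_lit 10720, nat_lit 13152, nat_lit 20128, nat_lit 21440, nat_lit 26752, nat_lit 36352, nat_lit 39936, nat_lit 46799, nat_lit 41795, nat_lit 36978, nat_lit 34040, nat_lit 28995, nat_lit 24621, nat_lit 20565, nat_lit 16419, nat_lit 12294, nat_lit 8195, nat_lit 4, nat_lit 434185, nat_lit 421894, nat_lit 413700,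 nat_lit 405506, nat_lit 397312, nat_lit 168960, nat_lit 156800, nat_lit 153216, nat_lit 149088, nat_lit 144928, nat_lit 139496, nat_lit 135692, nat_lit 131616, nat_lit 45186, nat_lit 33007, nat_lit 327680]⟩
def ndMr9_37 : El := ⟨[nat_lit 0xbb4e420214b836e4ab8f264cd608c498be85, nat_lit 0x5fa053545b67b0804baf01568594c663ac28, nat_lit 0x9a693969d89bba6282e2404aafb2a8608d05], [nat_lit 69632, nat_lit 77824, nat_lit 81920, nat_lit 102400, nat_lit 110592, nat_lit 174080, nat_lit 169984, nat_lit 166400, nat_lit 161024, nat_lit 155776, nat_lit 153312, nat_lit 151136, nat_lit 145128, nat_lit 139852, nat_lit 138824, nat_lit 132270, nat_lit 396, nat_lit 5136, nat_lit 11352, nat_lit 15888, nat_lit 17184, nat_lit 22400, nat_lit 27136, nat_lit 30208, nat_lit 34816, nat_lit 37888, nat_lit 46290, nat_lit 41951, nat_lit 38043, nat_lit 32938, nat_lit 28949, nat_lit 24624, nat_lit 20571, nat_lit 16460, nat_lit 12291, nat_lit 8210, nat_lit 4097, nat_lit 2, nat_lit 430087, nat_lit 417797, nat_lit 409602,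 nat_lit 397312, nat_lit 155776, nat_lit 148032, nat_lit 139984, nat_lit 135876, nat_lit 131698, nat_lit 45733, nat_lit 41605, nat_lit 32819, nat_lit 12292]⟩
def ndMr9_38 : El := ⟨[nat_lit 0xfa59506b8b540a4c7a81099af15d92719281, nat_lit 0x4ee8e29d00643c418c96eaa6ec690aa85867, nat_lit 0xaa5c3a849c5aae6113c8305d1169a9653127, nat_lit 0x5fc63fb220a9bdb405471348f7289cb4848c], [nat_lit 77824, nat_lit 81920, nat_lit 90112, nat_lit 94208, nat_lit 98304, nat_lit 106496, nat_lit 110592, nat_lit 178176, nat_lit 173056, nat_lit 169472, nat_lit 160256, nat_lit 155840, nat_lit 147520, nat_lit 144656, nat_lit 139672, nat_lit 136106, nat_lit 134235, nat_lit 2222, nat_lit 4548, nat_lit 12080, nat_lit 16192, nat_lit 20160, nat_lit 22336, nat_lit 27264, nat_lit 29952, nat_lit 33280, nat_lit 38912, nat_lit 46832, nat_lit 41337, nat_lit 39196, nat_lit 33284, nat_lit 28985, nat_lit 24600, nat_lit 20744, nat_lit 16463, nat_lit 12289, nat_lit 8211, nat_lit 4097, nat_lit 438282, nat_lit 430088, nat_lit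 421894, nat_lit 413700, nat_lit 405506, nat_lit 397312, nat_lit 167424, nat_lit 158592, nat_lit 154496, nat_lit 147968, nat_lit 143648, nat_lit 140336, nat_lit 138440, nat_lit 131408, nat_lit 327680]⟩
def ndMr9_39 : El := ⟨[nat_lit 0x74e22d2cc31451b23284b4de0c711e0ad8e3, nat_lit 0xeed122041867d1ab0dd033a89514caeb4532, nat_lit 0x6f9aa09bd6251d1781ad20d4648b0092b68e], [nat_lit 69632, nat_lit 73728, nat_lit 77824, nat_lit 81920, nat_lit 86016, nat_lit 90112, nat_lit 98304, nat_lit 178176, nat_lit 173056, nat_lit 169472, nat_lit 161664, nat_lit 155776, nat_lit 151648, nat_lit 151312, nat_lit 145168, nat_lit 142004, nat_lit 138576, nat_lit 133262, nat_lit 2278, nat_lit 4564, nat_lit 12232, nat_lit 16000, nat_lit 17504, nat_lit 23680, nat_lit 26240, nat_lit 31744, nat_lit 35328, nat_lit 39936, nat_lit 43008, nat_lit 46467, nat_lit 43776, nat_lit 37106, nat_lit 32838, nat_lit 29222, nat_lit 24719, nat_lit 20490, nat_lit 16455, nat_lit 8211, nat_lit 4100, nat_lit 2, nat_lit 430088, nat_lit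 413700, nat_lit 405506, nat_lit 397312, nat_lit 152064, nat_lit 144176, nat_lit 139544, nat_lit 135936, nat_lit 131120, nat_lit 45061, nat_lit 41497, nat_lit 28709, nat_lit 24586]⟩
def ndMr9_40 : El := ⟨[nat_lit 0x3a6ca32acd723220b29ed8511308ea9708f2, nat_lit 0xe78e4872540656c2596771c64f2342745206, nat_lit 0x60590a04af43408249dd60b22f52263596ad, nat_lit 0xedb17b884a24019634d6aa925781dcd7a683], [nat_lit 77824, nat_lit 81920, nat_lit 86016, nat_lit 94208, nat_lit 98304, nat_lit 102400, nat_lit 106496, nat_lit 110592, nat_lit 171520, nat_lit 167168, nat_lit 160512, nat_lit 156480, nat_lit 153728, nat_lit 150896, nat_lit 147104, nat_lit 141056, nat_lit 135530, nat_lit 135020, nat_lit 2188, nat_lit 7324, nat_lit 11248, nat_lit 12352, nat_lit 16480, nat_lit 21568, nat_lit 25984, nat_lit 32512, nat_lit 35840, nat_lit 46998, nat_lit 41248, nat_lit 37369, nat_lit 32816, nat_lit 29257, nat_lit 25129, nat_lit 16449, nat_lit 12290, nat_lit 10242, nat_lit 4105, nat_lit 434184, nat_lit 421894,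 nat_lit 413700, nat_lit 405506, nat_lit 397312, nat_lit 160768, nat_lit 156800, nat_lit 152832, nat_lit 147520, nat_lit 143584, nat_lit 140432, nat_lit 135416, nat_lit 131480, nat_lit 45551, nat_lit 36919, nat_lit 327680]⟩
def ndMr9_41 : El := ⟨[nat_lit 0x5aca560a2276565035de514c891d00e5d9aa, nat_lit 0xbb414d711615526835627bc8606bed013125, nat_lit 0x1e8b1b24850715e3445b6584ea9a6acbd006, nat_lit 0xd418b75c0e053d36251c5bcd9230a280d46d], [nat_lit 69632, nat_lit 77824, nat_lit 98304, nat_lit 110592, nat_lit 175104, nat_lit 168960, nat_lit 164864, nat_lit 161152, nat_lit 157696, nat_lit 152512, nat_lit 147584, nat_lit 144736, nat_lit 142940, nat_lit 135336, nat_lit 134062, nat_lit 1944, nat_lit 6524, nat_lit 10872, nat_lit 13040, nat_lit 19968, nat_lit 23936, nat_lit 25344, nat_lit 30976, nat_lit 33792, nat_lit 46673, nat_lit 44015, nat_lit 37166, nat_lit 33445, nat_lit 28937, nat_lit 24581, nat_lit 21006, nat_lit 17417, nat_lit 12294, nat_lit 8193, nat_lit 434184, nat_lit 421894,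 nat_lit 413700, nat_lit 405506, nat_lit 397312, nat_lit 160768, nat_lit 156928, nat_lit 153024, nat_lit 147808, nat_lit 143456, nat_lit 139352, nat_lit 135232, nat_lit 132436, nat_lit 45135, nat_lit 36872, nat_lit 327680]⟩
def ndMr9_42 : El := ⟨[nat_lit 0x2b4d7189d556b06e9d1061040fb24922de0b, nat_lit 0xf95f9a3562368828b9c12a26ce5cd90291ea, nat_lit 0x2b427e345549153782ec444cf56b82f10183, nat_lit 0x93c6a33b2892ddeb8cc72359aa7111508202], [nat_lit 90112, nat_lit 110592, nat_lit 178176, nat_lit 173056, nat_lit 166912, nat_lit 160512, nat_lit 159680, nat_lit 154784, nat_lit 150512, nat_lit 144448, nat_lit 141708, nat_lit 136762, nat_lit 135104, nat_lit 344, nat_lit 4872, nat_lit 11992, nat_lit 14080, nat_lit 19424, nat_lit 23360, nat_lit 26112, nat_lit 29696, nat_lit 33280, nat_lit 37888, nat_lit 46039, nat_lit 41121, nat_lit 37360, nat_lit 32830, nat_lit 28733, nat_lit 25088, nat_lit 20544, nat_lit 16393, nat_lit 12310, nat_lit 8203, nat_lit 4105, nat_lit 8, nat_lit 438281, nat_lit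 425991, nat_lit 417797, nat_lit 409602, nat_lit 397312, nat_lit 169984, nat_lit 166400, nat_lit 160000, nat_lit 156160, nat_lit 154368, nat_lit 147840, nat_lit 142112, nat_lit 137364, nat_lit 131138, nat_lit 40961, nat_lit 12289, nat_lit 327680]⟩
def ndMr9_43 : El := ⟨[nat_lit 0xa0afa32a012a8de1618f4746f022e624d94d, nat_lit 0x7e4b8244660a86eb8508cb48ef709aa2a4c3, nat_lit 0x9c939528cea812cd945025b9e1ad120bcd86, nat_lit 0xdbe74771d456dd144c24ca8a647846b044d6], [nat_lit 65536, nat_lit 86016, nat_lit 90112, nat_lit 94208, nat_lit 102400, nat_lit 174080, nat_lit 168960, nat_lit 166144, nat_lit 162176, nat_lit 156160, nat_lit 154784, nat_lit 150560, nat_lit 143848, nat_lit 139756, nat_lit 138558, nat_lit 134209, nat_lit 1500, nat_lit 5212, nat_lit 10112, nat_lit 13200, nat_lit 17504, nat_lit 20544, nat_lit 26880, nat_lit 30208, nat_lit 34304, nat_lit 38912, nat_lit 46146, nat_lit 43794, nat_lit 38027, nat_lit 33317, nat_lit 28984, nat_lit 24636, nat_lit 20571, nat_lit 16390, nat_lit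 12291, nat_lit 8208, nat_lit 8, nat_lit 430088, nat_lit 421894, nat_lit 413700, nat_lit 405506, nat_lit 397312, nat_lit 164352, nat_lit 152256, nat_lit 147808, nat_lit 143888, nat_lit 140240, nat_lit 135928, nat_lit 131346, nat_lit 45121, nat_lit 41833, nat_lit 327680]⟩
def ndMr9_44 : El := ⟨[nat_lit 0x4dbbee0ce223154b6daef90e00a32ae3a504, nat_lit 0x90cf99820d560ad49824d52c2f226373946e, nat_lit 0x5c953312494bd9917026383d6832835934e5, nat_lit 0x87e41753a03b9c022c674921a1619f622d35], [nat_lit 73728, nat_lit 81920, nat_lit 86016, nat_lit 98304, nat_lit 110592, nat_lit 169472, nat_lit 164096, nat_lit 163072, nat_lit 157568, nat_lit 155584, nat_lit 149664, nat_lit 145960, nat_lit 141600, nat_lit 136104, nat_lit 131951, nat_lit 1490, nat_lit 5488, nat_lit 10464, nat_lit 16272, nat_lit 18656, nat_lit 22720, nat_lit 29696, nat_lit 33280, nat_lit 37888, nat_lit 46341, nat_lit 43226, nat_lit 37248, nat_lit 33396, nat_lit 24607, nat_lit 20505, nat_lit 16418, nat_lit 12310, nat_lit 8201,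 nat_lit 4112, nat_lit 438282, nat_lit 430088, nat_lit 421894, nat_lit 413700, nat_lit 405506, nat_lit 397312, nat_lit 169984, nat_lit 160256, nat_lit 156416, nat_lit 152064, nat_lit 147968, nat_lit 144848, nat_lit 139760, nat_lit 136036, nat_lit 131296, nat_lit 327680]⟩
def ndMr9_45 : El := ⟨[nat_lit 0x5fc6c0305d025d455d0629a2d179e40ab589, nat_lit 0xeee277732283acb3780d51c049a59520b497, nat_lit 0xf96c30241a5a3e375d4c2721330c9801aac7, nat_lit 0x59aaf023c2a4144d93aac5c537a400399cd6], [nat_lit 69632, nat_lit 77824, nat_lit 86016, nat_lit 102400, nat_lit 173056, nat_lit 169472, nat_lit 164608, nat_lit 163584, nat_lit 158144, nat_lit 152640, nat_lit 148272, nat_lit 144952, nat_lit 139444, nat_lit 136058, nat_lit 133554, nat_lit 2428, nat_lit 6524, nat_lit 10328, nat_lit 13264, nat_lit 18496, nat_lit 22400, nat_lit 24832, nat_lit 30720, nat_lit 36352, nat_lit 37888, nat_lit 46350, nat_lit 41786, nat_lit 36987, nat_lit 32998, nat_lit 29001, nat_lit 24604, nat_lit 20638, nat_lit 16386,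 nat_lit 12359, nat_lit 8257, nat_lit 4097, nat_lit 2, nat_lit 438282, nat_lit 430087, nat_lit 417797, nat_lit 409603, nat_lit 401408, nat_lit 174080, nat_lit 171008, nat_lit 162816, nat_lit 159232, nat_lit 153152, nat_lit 150624, nat_lit 146976, nat_lit 139384, nat_lit 132752, nat_lit 33004, nat_lit 4097]⟩
def ndMr9_46 : El := ⟨[nat_lit 0xf5f39922808b08f49d5e9bb5706386591831, nat_lit 0xaa53ca7a628041a1aace351856a5dd32c984, nat_lit 0x99ca3a680717d6930a8b7810ce5b248158e9, nat_lit 0xa999aaad9a051ef34096f1b0a69383122690], [nat_lit 65536, nat_lit 69632, nat_lit 77824, nat_lit 86016, nat_lit 90112, nat_lit 94208, nat_lit 98304, nat_lit 106496, nat_lit 178176, nat_lit 174080, nat_lit 171008, nat_lit 167168, nat_lit 158272, nat_lit 153600, nat_lit 149200, nat_lit 146040, nat_lit 141048, nat_lit 135674, nat_lit 134125, nat_lit 492, nat_lit 6048, nat_lit 10448, nat_lit 14784, nat_lit 20672, nat_lit 25600, nat_lit 28928, nat_lit 34816, nat_lit 37888, nat_lit 46572, nat_lit 41414, nat_lit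 36938, nat_lit 33945, nat_lit 24585, nat_lit 22532, nat_lit 12321, nat_lit 8451, nat_lit 4352, nat_lit 430088, nat_lit 421894, nat_lit 413700, nat_lit 405506, nat_lit 397312, nat_lit 155904, nat_lit 152256, nat_lit 147968, nat_lit 144208, nat_lit 139784, nat_lit 136020, nat_lit 131330, nat_lit 45753, nat_lit 41077]⟩
def ndMr9_47 : El := ⟨[nat_lit 0xc0903a69904101895be3328ef20d0f0559d5, nat_lit 0xbd1ed782897284ce88d92abec29a687021ab, nat_lit 0x3c59063412240a115a74bb946aa4ef40e2b, nat_lit 0xf5ac6b45820950032dcda24977d47254267], [nat_lit 69632, nat_lit 90112, nat_lit 98304, nat_lit 106496, nat_lit 110592, nat_lit 173056, nat_lit 171008, nat_lit 164352, nat_lit 159872, nat_lit 157376, nat_lit 151872, nat_lit 148080, nat_lit 146696, nat_lit 139940, nat_lit 137560, nat_lit 131998, nat_lit 2278, nat_lit 7492, nat_lit 8800, nat_lit 12752, nat_lit 18144, nat_lit 22016, nat_lit 26880, nat_lit 32000, nat_lit 35328, nat_lit 39936, nat_lit 46186, nat_lit 43712, nat_lit 37252, nat_lit 32810,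 nat_lit 29232, nat_lit 24587, nat_lit 20621, nat_lit 16419, nat_lit 12293, nat_lit 8195, nat_lit 4101, nat_lit 4, nat_lit 438282, nat_lit 430088, nat_lit 421894, nat_lit 413700, nat_lit 405506, nat_lit 397312, nat_lit 174080, nat_lit 168960, nat_lit 164352, nat_lit 160000, nat_lit 159232, nat_lit 152768, nat_lit 150784, nat_lit 146928, nat_lit 142112, nat_lit 139092, nat_lit 133162, nat_lit 327680]⟩
def ndMr9_48 : El := ⟨[nat_lit 0xc0caf32568c7804549dc8b4d4385c2b945a6, nat_lit 0xb14dd4b08ac71c74880285d6f37a60d92886, nat_lit 0x8e11bb12990284756d1c493d0089ed359937], [nat_lit 69632, nat_lit 73728, nat_lit 98304, nat_lit 102400, nat_lit 106496, nat_lit 175104, nat_lit 168448, nat_lit 166144, nat_lit 162304, nat_lit 158976, nat_lit 151936, nat_lit 150448, nat_lit 143944, nat_lit 139848, nat_lit 137856, nat_lit 132397, nat_lit 4012, nat_lit 4792, nat_lit 8880, nat_lit 16336, nat_lit 16768, nat_lit 22528, nat_lit 28032, nat_lit 30976, nat_lit 34816, nat_lit 46890, nat_lit 43633, nat_lit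 37211, nat_lit 33003, nat_lit 28673, nat_lit 24833, nat_lit 20559, nat_lit 16911, nat_lit 12295, nat_lit 4097, nat_lit 421894, nat_lit 413700, nat_lit 405506, nat_lit 397312, nat_lit 151616, nat_lit 143456, nat_lit 139392, nat_lit 135180, nat_lit 131118, nat_lit 45296, nat_lit 41166, nat_lit 36939]⟩
def ndMr9_49 : El := ⟨[nat_lit 0x4e2b4773cb312db452246090111b2a9bd8f0, nat_lit 0x9c0af93b449441559508532de1182d1bcd8e, nat_lit 0xed72de499101d96d25637a014e9bcec08a45, nat_lit 0xa356963ada1446ca80ea04984f64a8e2cc97], [nat_lit 73728, nat_lit 77824, nat_lit 81920, nat_lit 86016, nat_lit 94208, nat_lit 106496, nat_lit 178176, nat_lit 175104, nat_lit 169472, nat_lit 164096, nat_lit 160896, nat_lit 155904, nat_lit 153760, nat_lit 148592, nat_lit 143840, nat_lit 142664, nat_lit 138796, nat_lit 132391, nat_lit 1842, nat_lit 7804, nat_lit 11120, nat_lit 14272, nat_lit 18176, nat_lit 22656, nat_lit 27008, nat_lit 29184, nat_lit 35840, nat_lit 43008, nat_lit 45773, nat_lit 41639, nat_lit 37137,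 nat_lit 33457, nat_lit 28934, nat_lit 26637, nat_lit 20481, nat_lit 16395, nat_lit 12294, nat_lit 8195, nat_lit 4101, nat_lit 4, nat_lit 438282, nat_lit 430088, nat_lit 421894, nat_lit 413700, nat_lit 405506, nat_lit 397312, nat_lit 168960, nat_lit 167424, nat_lit 161536, nat_lit 154496, nat_lit 150848, nat_lit 146960, nat_lit 142752, nat_lit 137872, nat_lit 133054]⟩
def ndMr9_50 : El := ⟨[nat_lit 0xe21bb2551078d4d3b0082bb4ae4c82f64163, nat_lit 0xf565fab02a6195ac4242775d70a29f289262, nat_lit 0xe17b140342b11291315c8bb1367aa5381ea3, nat_lit 0x47e24e7d62c585a5526900190e15a43990f7], [nat_lit 73728, nat_lit 81920, nat_lit 90112, nat_lit 94208, nat_lit 102400, nat_lit 110592, nat_lit 175104, nat_lit 168448, nat_lit 164864, nat_lit 162944, nat_lit 158080, nat_lit 154688, nat_lit 150464, nat_lit 144120, nat_lit 139300, nat_lit 135808, nat_lit 134518, nat_lit 2916, nat_lit 4404, nat_lit 8448, nat_lit 14448, nat_lit 18016, nat_lit 24192, nat_lit 24960, nat_lit 31744, nat_lit 34816, nat_lit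 39936, nat_lit 45447, nat_lit 41684, nat_lit 37237, nat_lit 33466, nat_lit 28682, nat_lit 24628, nat_lit 20570, nat_lit 16459, nat_lit 12309, nat_lit 8208, nat_lit 438282, nat_lit 425991, nat_lit 413700, nat_lit 405506, nat_lit 397312, nat_lit 174080, nat_lit 160000, nat_lit 155008, nat_lit 150560, nat_lit 144400, nat_lit 139648, nat_lit 135588, nat_lit 134424, nat_lit 36868, nat_lit 24580]⟩
def ndMr9_51 : El := ⟨[nat_lit 0x55f6fc33123522b2038eb15a616bef12c094, nat_lit 0xd822d798a8743a122823768c2a5b0864d5f6, nat_lit 0xf6055c18041731ed394864256a9c251bdab4], [nat_lit 73728, nat_lit 77824, nat_lit 94208, nat_lit 110592, nat_lit 168448, nat_lit 162944, nat_lit 157760, nat_lit 155392, nat_lit 148880, nat_lit 144936, nat_lit 141812, nat_lit 137618, nat_lit 133265, nat_lit 1850, nat_lit 6476, nat_lit 9488, nat_lit 16256, nat_lit 18688, nat_lit 21696, nat_lit 25216, nat_lit 32512, nat_lit 35840, nat_lit 38912, nat_lit 43008, nat_lit 45360, nat_lit 41216, nat_lit 37024, nat_lit 33899,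 nat_lit 28760, nat_lit 24736, nat_lit 20481, nat_lit 16394, nat_lit 12295, nat_lit 8194, nat_lit 4100, nat_lit 8, nat_lit 425991, nat_lit 413700, nat_lit 405506, nat_lit 397312, nat_lit 160000, nat_lit 151808, nat_lit 147616, nat_lit 143488, nat_lit 139392, nat_lit 135472, nat_lit 131362, nat_lit 45071, nat_lit 40976, nat_lit 36867, nat_lit 24586, nat_lit 327680]⟩
def ndMr9_52 : El := ⟨[nat_lit 0x350ac00a877392a8b2e13119f2881a5651c9, nat_lit 0x2dedebbb8d3826435b1e1220e06d4b1b2a82, nat_lit 0x1d14426de900cdc0b2ce22c5e44c98851875, nat_lit 0x9c936a334924bd505d8079882e45c65a562c], [nat_lit 65536, nat_lit 73728, nat_lit 98304, nat_lit 106496, nat_lit 178176, nat_lit 175104, nat_lit 171520, nat_lit 167680, nat_lit 162560, nat_lit 159168, nat_lit 155328, nat_lit 150464, nat_lit 143368, nat_lit 139268, nat_lit 135170, nat_lit 133617, nat_lit 704, nat_lit 7428, nat_lit 9800, nat_lit 14992, nat_lit 16576, nat_lit 22336, nat_lit 28032, nat_lit 32512, nat_lit 38912, nat_lit 45771, nat_lit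 41600, nat_lit 37909, nat_lit 32962, nat_lit 28993, nat_lit 24610, nat_lit 20547, nat_lit 16902, nat_lit 14336, nat_lit 8705, nat_lit 438282, nat_lit 430088, nat_lit 421894, nat_lit 413700, nat_lit 405506, nat_lit 397312, nat_lit 171008, nat_lit 156160, nat_lit 155072, nat_lit 151456, nat_lit 145200, nat_lit 139792, nat_lit 137900, nat_lit 134614, nat_lit 327680]⟩
def ndMr9_53 : El := ⟨[nat_lit 0x9c9f6858cc594e150deea8914992ed88132, nat_lit 0x5535590c12054af528dd643e2d15187590d3, nat_lit 0x60a9fa3a26b856c4025b415dea186462b991, nat_lit 0x5f3697ad52bd20e682612207639a2c2a6a2], [nat_lit 69632, nat_lit 77824, nat_lit 90112, nat_lit 94208, nat_lit 106496, nat_lit 110592, nat_lit 178176, nat_lit 174080, nat_lit 168960, nat_lit 166400, nat_lit 162304, nat_lit 159232, nat_lit 153984, nat_lit 149888, nat_lit 144928, nat_lit 143212, nat_lit 135384, nat_lit 133854, nat_lit 1430, nat_lit 7556, nat_lit 12208, nat_lit 15568, nat_lit 17952, nat_lit 22592, nat_lit 25088, nat_lit 29440, nat_lit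 33792, nat_lit 43008, nat_lit 45081, nat_lit 41927, nat_lit 36930, nat_lit 34042, nat_lit 29782, nat_lit 24578, nat_lit 20498, nat_lit 12551, nat_lit 8449, nat_lit 4104, nat_lit 128, nat_lit 434184, nat_lit 421894, nat_lit 413700, nat_lit 405506, nat_lit 397312, nat_lit 164864, nat_lit 160000, nat_lit 156672, nat_lit 152704, nat_lit 147616, nat_lit 144464, nat_lit 139336, nat_lit 136244, nat_lit 132460, nat_lit 46516, nat_lit 37357]⟩
def ndMr9_54 : El := ⟨[nat_lit 0x95f0a5a4dab715e284883645573810909ab6, nat_lit 0x3f5c6f28a6fa2dcdac608604f2b0d40326e4, nat_lit 0x82178121acf626ab93a3799c2a4160013683, nat_lit 0x4e18ed3a9f2b344e25c05ac073599910a289], [nat_lit 86016, nat_lit 90112, nat_lit 94208, nat_lit 98304, nat_lit 102400, nat_lit 106496, nat_lit 169984, nat_lit 165888, nat_lit 163328, nat_lit 157440, nat_lit 152800, nat_lit 148272, nat_lit 145536, nat_lit 139504, nat_lit 138868, nat_lit 133172, nat_lit 2700, nat_lit 4780, nat_lit 10768, nat_lit 16288, nat_lit 16640, nat_lit 21568,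 nat_lit 27776, nat_lit 30464, nat_lit 34304, nat_lit 37888, nat_lit 45183, nat_lit 41969, nat_lit 36875, nat_lit 33955, nat_lit 29718, nat_lit 24598, nat_lit 20611, nat_lit 16462, nat_lit 12310, nat_lit 8195, nat_lit 4, nat_lit 438282, nat_lit 425991, nat_lit 417797, nat_lit 405506, nat_lit 397312, nat_lit 166912, nat_lit 160768, nat_lit 157952, nat_lit 154880, nat_lit 143520, nat_lit 140360, nat_lit 136544, nat_lit 134496, nat_lit 37322, nat_lit 16386, nat_lit 327680]⟩
def ndMr9_55 : El := ⟨[nat_lit 0x728112599c189c952a00d15070926ca7b2f3, nat_lit 0x41bdd48c1c71ae56684a2429e4a1997026b3, nat_lit 0x71eebbba2657b1a032e1489156955271b841, nat_lit 0x1411e1b1eee1b4c19960f53164a8a2895009], [nat_lit 73728, nat_lit 102400, nat_lit 178176, nat_lit 175104, nat_lit 170496, nat_lit 166656, nat_lit 163584, nat_lit 156608, nat_lit 155424, nat_lit 151296, nat_lit 146008, nat_lit 139940, nat_lit 137562, nat_lit 132255, nat_lit 3296, nat_lit 4976, nat_lit 8456, nat_lit 12560, nat_lit 16416, nat_lit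 23296, nat_lit 25600, nat_lit 31488, nat_lit 34816, nat_lit 37888, nat_lit 46283, nat_lit 43351, nat_lit 37297, nat_lit 29285, nat_lit 24733, nat_lit 21004, nat_lit 16395, nat_lit 12293, nat_lit 4112, nat_lit 2, nat_lit 434184, nat_lit 421894, nat_lit 413700, nat_lit 405506, nat_lit 397312, nat_lit 160768, nat_lit 152640, nat_lit 148480, nat_lit 143472, nat_lit 140560, nat_lit 136256, nat_lit 132372, nat_lit 45541, nat_lit 36935, nat_lit 327680]⟩
def ndMr9_56 : El := ⟨[nat_lit 0xa00a9533cb39390a3aea06c02365a3448897, nat_lit 0xddd141918ae12cf744deab369088583492a0, nat_lit 0x712211016b39299133cebbc064125a175116, nat_lit 0xa65a009568954dae88900b158182cc71bee4], [nat_lit 65536, nat_lit 73728, nat_lit 90112, nat_lit 94208, nat_lit 98304, nat_lit 106496, nat_lit 174080, nat_lit 171008, nat_lit 167424, nat_lit 162176, nat_lit 158656, nat_lit 155200, nat_lit 147936, nat_lit 147072, nat_lit 141112, nat_lit 137690, nat_lit 134822, nat_lit 460, nat_lit 7452, nat_lit 10696, nat_lit 16048,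 nat_lit 16576, nat_lit 21504, nat_lit 25472, nat_lit 32256, nat_lit 36352, nat_lit 39936, nat_lit 43008, nat_lit 46417, nat_lit 41504, nat_lit 38142, nat_lit 34908, nat_lit 29299, nat_lit 24622, nat_lit 20493, nat_lit 16390, nat_lit 12293, nat_lit 8201, nat_lit 8, nat_lit 438282, nat_lit 430088, nat_lit 421894, nat_lit 413700, nat_lit 405506, nat_lit 397312, nat_lit 171008, nat_lit 167424, nat_lit 163072, nat_lit 157184, nat_lit 153472, nat_lit 150944, nat_lit 146096, nat_lit 140032, nat_lit 136276, nat_lit 133482]⟩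
def ndMr9_57 : El := ⟨[nat_lit 0x111d883a5919d07230aa5b05cf52017811ab, nat_lit 0xff5ac9900860a9112a6aebd0503b57660df3, nat_lit 0x7eee4b92ad33ae85334714b1f70a2a2811c0, nat_lit 0x7728b28194713e8544ad75b5d308d31232a0], [nat_lit 69632, nat_lit 73728, nat_lit 81920, nat_lit 90112, nat_lit 98304, nat_lit 106496, nat_lit 110592, nat_lit 173056, nat_lit 168448, nat_lit 167424, nat_lit 163712, nat_lit 155712, nat_lit 152064, nat_lit 150256, nat_lit 146152, nat_lit 142744, nat_lit 137958, nat_lit 133861, nat_lit 2988, nat_lit 6800, nat_lit 9408, nat_lit 16240, nat_lit 20256, nat_lit 23040, nat_lit 25856, nat_lit 28928, nat_lit 33280, nat_lit 37888, nat_lit 43008, nat_lit 46196, nat_lit 41934, nat_lit 38304, nat_lit 33856, nat_lit 28777, nat_lit 24611, nat_lit 20553, nat_lit 18441, nat_lit 12310, nat_lit 8194, nat_lit 4101, nat_lit 2, nat_lit 438282, nat_lit 430088, nat_lit 421894, nat_lit 413700, nat_lit 405506, nat_lit 397312, nat_lit 174080, nat_lit 168960, nat_lit 167424, nat_lit 160768,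 nat_lit 158592, nat_lit 153856, nat_lit 148512, nat_lit 143808, nat_lit 139936, nat_lit 138960, nat_lit 132468]⟩
def ndMr9_58 : El := ⟨[nat_lit 0xb4e48ba16c2992018b55502d2693d1763867, nat_lit 0x77e4e74c4ae3dc83a300d506a895a6283ccb, nat_lit 0x6c6f679a6764128054abbd1b288dc220556, nat_lit 0xb287b4ac5c5a48ef6cee6b119002c624242a], [nat_lit 65536, nat_lit 69632, nat_lit 73728, nat_lit 77824, nat_lit 81920, nat_lit 102400, nat_lit 110592, nat_lit 178176, nat_lit 174080, nat_lit 168960, nat_lit 165376, nat_lit 163200, nat_lit 157312, nat_lit 154176, nat_lit 151472, nat_lit 146824, nat_lit 139728, nat_lit 139074, nat_lit 134298, nat_lit 54, nat_lit 6160, nat_lit 12192, nat_lit 13056, nat_lit 16448, nat_lit 20672, nat_lit 24832, nat_lit 30976, nat_lit 34304, nat_lit 37888, nat_lit 43008, nat_lit 47095, nat_lit 43916, nat_lit 39282, nat_lit 35030, nat_lit 28758, nat_lit 24767, nat_lit 20493, nat_lit 16512, nat_lit 12290, nat_lit 8195, nat_lit 4, nat_lit 438282, nat_lit 430088, nat_lit 421894,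 nat_lit 413700, nat_lit 405506, nat_lit 397312, nat_lit 165376, nat_lit 162304, nat_lit 155904, nat_lit 154112, nat_lit 150144, nat_lit 146432, nat_lit 143032, nat_lit 135420, nat_lit 133782]⟩
def ndMr9_59 : El := ⟨[nat_lit 0xe4bbd7bae61290eda4922b2870022b1331ee, nat_lit 0x60590ab84c93c98459475859f46aa6800a2e, nat_lit 0x81d2117ae8e31ec8482a1289b3baa5019191, nat_lit 0x95f9588dc81412c09e80aca64ba966b15ed], [nat_lit 65536, nat_lit 73728, nat_lit 98304, nat_lit 102400, nat_lit 178176, nat_lit 174080, nat_lit 168960, nat_lit 166400, nat_lit 161024, nat_lit 157504, nat_lit 153664, nat_lit 148000, nat_lit 145072, nat_lit 142220, nat_lit 135450, nat_lit 132566, nat_lit 1938, nat_lit 5768, nat_lit 11968, nat_lit 14016, nat_lit 18464, nat_lit 24384, nat_lit 27136, nat_lit 30464, nat_lit 35328, nat_lit 43008, nat_lit 45854, nat_lit 41539, nat_lit 37151, nat_lit 33317, nat_lit 28700, nat_lit 24635, nat_lit 20490, nat_lit 16454, nat_lit 12291, nat_lit 8194, nat_lit 8, nat_lit 434185, nat_lit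 425991, nat_lit 417797, nat_lit 409603, nat_lit 401408, nat_lit 168960, nat_lit 165376, nat_lit 156928, nat_lit 153152, nat_lit 148736, nat_lit 143712, nat_lit 139568, nat_lit 133104, nat_lit 45548, nat_lit 4097]⟩
def ndMr9_60 : El := ⟨[nat_lit 0xb44e4da16c0bc18a9448369c2f3092b44dd5, nat_lit 0x65005a59dc62443560c099c1aa2de42b3d14, nat_lit 0x5aac3a4542d71df34ae440518a344432c2d7, nat_lit 0x7e11b438ee47997094c568952eaa1416500d], [nat_lit 69632, nat_lit 81920, nat_lit 98304, nat_lit 106496, nat_lit 178176, nat_lit 168448, nat_lit 164864, nat_lit 163712, nat_lit 156864, nat_lit 151712, nat_lit 149664, nat_lit 146344, nat_lit 139728, nat_lit 135320, nat_lit 131984, nat_lit 3386, nat_lit 6452, nat_lit 11224, nat_lit 15360, nat_lit 19392, nat_lit 24320, nat_lit 26880, nat_lit 30720, nat_lit 35840, nat_lit 45099, nat_lit 41686, nat_lit 38085, nat_lit 32845, nat_lit 29762, nat_lit 24861, nat_lit 22553, nat_lit 16391, nat_lit 12295, nat_lit 8202, nat_lit 438282, nat_lit 430088, nat_lit 421894,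 nat_lit 413700, nat_lit 405506, nat_lit 397312, nat_lit 174080, nat_lit 171008, nat_lit 167424, nat_lit 163584, nat_lit 157312, nat_lit 155520, nat_lit 147744, nat_lit 146528, nat_lit 142136, nat_lit 137196, nat_lit 132856]⟩
def ndMr9_61 : El := ⟨[nat_lit 0x9533009452658864b32002aaf49bc3569dc8, nat_lit 0x71772809236499a53c0175b253aa1f4129c3, nat_lit 0x6aa563ac4cf72180a5c4b3c1b650c8548672, nat_lit 0xd82d2735d83238553955382001a4acb4b62f], [nat_lit 69632, nat_lit 73728, nat_lit 77824, nat_lit 86016, nat_lit 98304, nat_lit 102400, nat_lit 110592, nat_lit 178176, nat_lit 168448, nat_lit 167680, nat_lit 161664, nat_lit 157632, nat_lit 153536, nat_lit 147616, nat_lit 145168, nat_lit 141056, nat_lit 136594, nat_lit 132416, nat_lit 3074, nat_lit 6356, nat_lit 8824, nat_lit 15552, nat_lit 17664, nat_lit 20800, nat_lit 25856, nat_lit 30208, nat_lit 33792, nat_lit 39936, nat_lit 46960, nat_lit 43117, nat_lit 36887, nat_lit 32913, nat_lit 28928, nat_lit 26657, nat_lit 22544, nat_lit 16449,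 nat_lit 13319, nat_lit 8706, nat_lit 4105, nat_lit 2, nat_lit 438282, nat_lit 430088, nat_lit 421894, nat_lit 413700, nat_lit 405506, nat_lit 397312, nat_lit 171008, nat_lit 166400, nat_lit 161024, nat_lit 158848, nat_lit 154944, nat_lit 149696, nat_lit 144224, nat_lit 140480, nat_lit 137224, nat_lit 133436]⟩
def ndMr9_62 : El := ⟨[nat_lit 0x996f0c4dc641060d5a193aca8f2ba27b28c0, nat_lit 0xcf603a0a48f321c3158123c0b59d18d55e2b, nat_lit 0x477bdd5543018985026f2891b33ba9632de8, nat_lit 0xddd1be1b1c64ace0a92e2451b3096327c2ca], [nat_lit 69632, nat_lit 73728, nat_lit 77824, nat_lit 86016, nat_lit 90112, nat_lit 98304, nat_lit 178176, nat_lit 168448, nat_lit 165888, nat_lit 162560, nat_lit 156224, nat_lit 155296, nat_lit 149504, nat_lit 145432, nat_lit 139704, nat_lit 136992, nat_lit 134910, nat_lit 1534, nat_lit 5284, nat_lit 11344, nat_lit 16160, nat_lit 17984, nat_lit 22528, nat_lit 27264, nat_lit 29184, nat_lit 35840, nat_lit 37888, nat_lit 46969, nat_lit 43165, nat_lit 36964, nat_lit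 33879, nat_lit 29050, nat_lit 24716, nat_lit 20760, nat_lit 16388, nat_lit 12326, nat_lit 8202, nat_lit 4101, nat_lit 4, nat_lit 438282, nat_lit 430088, nat_lit 421894, nat_lit 413700, nat_lit 405506, nat_lit 397312, nat_lit 174080, nat_lit 171008, nat_lit 165888, nat_lit 163072, nat_lit 157568, nat_lit 152320, nat_lit 151168, nat_lit 146544, nat_lit 142792, nat_lit 137852, nat_lit 132840]⟩
def ndMr9_63 : El := ⟨[nat_lit 0xfff0f040da43896e4aa3495cc5986c0655f0, nat_lit 0xdd482d84cc13dc554816492a8c722367946d, nat_lit 0x36fcfa8ce1218402ade96214e652d2863dae], [nat_lit 65536, nat_lit 69632, nat_lit 73728, nat_lit 86016, nat_lit 90112, nat_lit 94208, nat_lit 98304, nat_lit 102400, nat_lit 106496, nat_lit 178176, nat_lit 173056, nat_lit 171008, nat_lit 167168, nat_lit 161280, nat_lit 158592, nat_lit 154848, nat_lit 150336, nat_lit 144752, nat_lit 140680, nat_lit 137190, nat_lit 133215, nat_lit 2448, nat_lit 6376, nat_lit 8776, nat_lit 14112, nat_lit 20000, nat_lit 21376, nat_lit 27264,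 nat_lit 30976, nat_lit 36352, nat_lit 43008, nat_lit 46080, nat_lit 43902, nat_lit 38102, nat_lit 33374, nat_lit 28730, nat_lit 24619, nat_lit 20504, nat_lit 16431, nat_lit 12293, nat_lit 8200, nat_lit 4097, nat_lit 2, nat_lit 430088, nat_lit 421893, nat_lit 409602, nat_lit 397312, nat_lit 164352, nat_lit 160000, nat_lit 152320, nat_lit 147616, nat_lit 135428, nat_lit 131346, nat_lit 45062, nat_lit 41603, nat_lit 12289, nat_lit 327680]⟩
def ndMr9_64 : El := ⟨[nat_lit 0x353f313169204ae458f26d0759c5e055e06, nat_lit 0x3caa554a9878164e6d8d4aac33b82281bc82, nat_lit 0x35af09385e69d944742404896d6547445e25], [nat_lit 69632, nat_lit 77824, nat_lit 81920, nat_lit 94208, nat_lit 173056, nat_lit 170496, nat_lit 167680, nat_lit 160128, nat_lit 156160, nat_lit 154592, nat_lit 151456, nat_lit 145208, nat_lit 140284, nat_lit 138992, nat_lit 132760, nat_lit 3870, nat_lit 7716, nat_lit 9296, nat_lit 14000, nat_lit 19872, nat_lit 24064, nat_lit 26368, nat_lit 29952, nat_lit 35328, nat_lit 43008,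 nat_lit 46904, nat_lit 43066, nat_lit 37938, nat_lit 32832, nat_lit 28683, nat_lit 24891, nat_lit 20546, nat_lit 16427, nat_lit 12325, nat_lit 8195, nat_lit 4, nat_lit 421894, nat_lit 413700, nat_lit 405506, nat_lit 397312, nat_lit 155776, nat_lit 151680, nat_lit 147616, nat_lit 139272, nat_lit 131266, nat_lit 45060, nat_lit 40980, nat_lit 36941, nat_lit 32958]⟩
def ndMr9_65 : El := ⟨[nat_lit 0xc30f9cb98607d1c5b2889640285cda2ac647, nat_lit 0xd8117da494f4242714c91b540682dd76b065, nat_lit 0x3f6f3a7095001c7742ec50a5f3636848c8d5, nat_lit 0x4dd27253e0225ed5648083d0c50cdc95c5a3], [nat_lit 65536, nat_lit 69632, nat_lit 77824, nat_lit 86016, nat_lit 90112, nat_lit 102400, nat_lit 175104, nat_lit 168960, nat_lit 167424, nat_lit 162688, nat_lit 158208, nat_lit 154496, nat_lit 147904, nat_lit 144456, nat_lit 142844, nat_lit 135364, nat_lit 133093, nat_lit 2112, nat_lit 4608, nat_lit 11880, nat_lit 15488, nat_lit 20000, nat_lit 23296, nat_lit 25472, nat_lit 29440, nat_lit 35328, nat_lit 38912,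 nat_lit 46917, nat_lit 43875, nat_lit 39405, nat_lit 32907, nat_lit 28704, nat_lit 26669, nat_lit 20491, nat_lit 16388, nat_lit 12291, nat_lit 8211, nat_lit 4097, nat_lit 2, nat_lit 438282, nat_lit 430088, nat_lit 421894, nat_lit 413700, nat_lit 405506, nat_lit 397312, nat_lit 169984, nat_lit 165376, nat_lit 161024, nat_lit 156544, nat_lit 152000, nat_lit 149376, nat_lit 144816, nat_lit 139448, nat_lit 135936, nat_lit 132628]⟩
def ndMr9_66 : El := ⟨[nat_lit 0x8de88e38482014c34cd1182e4a7baf46daac, nat_lit 0xd2d1b1a98f070d057da2da2e490dc5350184, nat_lit 0xaaa33a8d00d2082b3c9509d46fb99164b0ae, nat_lit 0xeed12228e156c53225c130898a41cceb3d74], [nat_lit 69632, nat_lit 73728, nat_lit 81920, nat_lit 86016, nat_lit 90112, nat_lit 98304, nat_lit 102400, nat_lit 106496, nat_lit 110592, nat_lit 178176, nat_lit 173056, nat_lit 165120, nat_lit 157632, nat_lit 153440, nat_lit 148048, nat_lit 146624, nat_lit 139308, nat_lit 136284, nat_lit 131189, nat_lit 2478, nat_lit 6388, nat_lit 11432, nat_lit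 12608, nat_lit 18112, nat_lit 22464, nat_lit 26880, nat_lit 32256, nat_lit 35840, nat_lit 37888, nat_lit 43008, nat_lit 45740, nat_lit 41050, nat_lit 39340, nat_lit 33315, nat_lit 30755, nat_lit 25608, nat_lit 20497, nat_lit 16388, nat_lit 12423, nat_lit 8210, nat_lit 4101, nat_lit 2, nat_lit 438282, nat_lit 430088, nat_lit 421894, nat_lit 413700, nat_lit 405506, nat_lit 397312, nat_lit 174080, nat_lit 166912, nat_lit 161024, nat_lit 156288, nat_lit 153024, nat_lit 149472, nat_lit 146608, nat_lit 139936, nat_lit 136456, nat_lit 133972, nat_lit 327680]⟩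
def ndMr9_67 : El := ⟨[nat_lit 0x59995a7a44ab1911a3417706139556538d84, nat_lit 0xa05f53590ef4002c6d2aa342e3b08b172653, nat_lit 0x6056fa735ec314e4104035a5489c251bd696], [nat_lit 69632, nat_lit 77824, nat_lit 81920, nat_lit 86016, nat_lit 98304, nat_lit 102400, nat_lit 106496, nat_lit 173056, nat_lit 162176, nat_lit 158144, nat_lit 153024, nat_lit 150768, nat_lit 145144, nat_lit 140420, nat_lit 135462, nat_lit 132551, nat_lit 770, nat_lit 6920, nat_lit 10096, nat_lit 13808, nat_lit 19744, nat_lit 22720, nat_lit 26368, nat_lit 33792, nat_lit 38912, nat_lit 43008, nat_lit 45184, nat_lit 41747, nat_lit 38277, nat_lit 32896, nat_lit 28726, nat_lit 24587, nat_lit 20492, nat_lit 16398, nat_lit 12306, nat_lit 8203, nat_lit 430088, nat_lit 417797, nat_lit 409603, nat_lit 397312, nat_lit 155904, nat_lit 152384, nat_lit 147744, nat_lit 143952, nat_lit 135784, nat_lit 131112, nat_lit 45066, nat_lit 41555, nat_lit 28688, nat_lit 8193]⟩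
def ndMr9_68 : El := ⟨[nat_lit 0x1e127775e743584a648858a12f005b05d467, nat_lit 0x535996a1a111366940df2229763b2eea8025, nat_lit 0xa3fcc08803bd6965250b7b5cc390a69c232], [nat_lit 69632, nat_lit 77824, nat_lit 81920, nat_lit 90112, nat_lit 98304, nat_lit 102400, nat_lit 106496, nat_lit 178176, nat_lit 169984, nat_lit 166144, nat_lit 161280, nat_lit 157120, nat_lit 153024, nat_lit 150032, nat_lit 145904, nat_lit 141404, nat_lit 139004, nat_lit 134966, nat_lit 698, nat_lit 5836, nat_lit 9888, nat_lit 13200, nat_lit 20416, nat_lit 23296, nat_lit 25344, nat_lit 31232, nat_lit 33280, nat_lit 37888, nat_lit 46434, nat_lit 41600, nat_lit 38109, nat_lit 32952, nat_lit 28984, nat_lit 25091, nat_lit 20750, nat_lit 16428, nat_lit 12305, nat_lit 8194, nat_lit 4097, nat_lit 425990, nat_lit 413700, nat_lit 405506, nat_lit 397312, nat_lit 155904, nat_lit 151808, nat_lit 147744, nat_lit 143632, nat_lit 139536, nat_lit 135532, nat_lit 131388, nat_lit 45071, nat_lit 40991, nat_lit 36879, nat_lit 28764]⟩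
def ndMr9_69 : El := ⟨[nat_lit 0x21d78b19cc45bef04cdb5b450c2804172a54, nat_lit 0x3090ca3847383984a963612a8d481f75a246, nat_lit 0xfac03ca0a4c3aaf5682d340464325cf2c171, nat_lit 0x48842da912e3d1888b5e25c06a2c806b5e61], [nat_lit 65536, nat_lit 73728, nat_lit 77824, nat_lit 94208, nat_lit 98304, nat_lit 106496, nat_lit 173056, nat_lit 168960, nat_lit 165120, nat_lit 163456, nat_lit 158464, nat_lit 151648, nat_lit 147920, nat_lit 146104, nat_lit 141520, nat_lit 137906, nat_lit 135162, nat_lit 4064, nat_lit 5856, nat_lit 9080, nat_lit 14880, nat_lit 19776, nat_lit 23488, nat_lit 25728, nat_lit 32256, nat_lit 33280, nat_lit 38912, nat_lit 43008, nat_lit 46945, nat_lit 43119, nat_lit 37033, nat_lit 33794, nat_lit 28724, nat_lit 26635, nat_lit 20570, nat_lit 16417, nat_lit 12289, nat_lit 8195, nat_lit 4101, nat_lit 4, nat_lit 438282, nat_lit 430088, nat_lit 421894, nat_lit 413700, nat_lit 405506, nat_lit 397312, nat_lit 174080, nat_lit 168960, nat_lit 166400, nat_lit 163584, nat_lit 159616,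 nat_lit 152000, nat_lit 148608, nat_lit 144080, nat_lit 141592, nat_lit 137856, nat_lit 135060]⟩
def ndMr9_70 : El := ⟨[nat_lit 0xb72e148925662e61141a84d547339f701474, nat_lit 0xdded1b05955285641c510625c293e869dced, nat_lit 0x65ccf06a41419a41615d115dea44ceb85895, nat_lit 0x2bdb128356e23ec1900493995328d97a4515], [nat_lit 65536, nat_lit 69632, nat_lit 73728, nat_lit 81920, nat_lit 86016, nat_lit 90112, nat_lit 98304, nat_lit 106496, nat_lit 110592, nat_lit 175104, nat_lit 167168, nat_lit 162816, nat_lit 157696, nat_lit 153536, nat_lit 148688, nat_lit 145248, nat_lit 140520, nat_lit 136276, nat_lit 131680, nat_lit 1318, nat_lit 5196, nat_lit 11720, nat_lit 14768, nat_lit 18112, nat_lit 21120, nat_lit 27392, nat_lit 28928, nat_lit 34816, nat_lit 38912, nat_lit 43008, nat_lit 45916, nat_lit 41266, nat_lit 39126, nat_lit 33463, nat_lit 29205, nat_lit 26657, nat_lit 20497, nat_lit 16389, nat_lit 4225, nat_lit 16, nat_lit 430088, nat_lit 421894, nat_lit 413700, nat_lit 405506, nat_lit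 397312, nat_lit 160256, nat_lit 147968, nat_lit 143888, nat_lit 140032, nat_lit 135916, nat_lit 131538, nat_lit 45216, nat_lit 41800]⟩
def ndMr9_71 : El := ⟨[nat_lit 0x663c013a4d615150ccc402570a5e23b1d4f, nat_lit 0xb812be419750c14fb48b14ba626dd8725060, nat_lit 0xd787ee23af6a0e0852d877c8d19d429009a5, nat_lit 0x90fccc656c1391a29512540d6eb99519bc10], [nat_lit 73728, nat_lit 90112, nat_lit 98304, nat_lit 106496, nat_lit 178176, nat_lit 174080, nat_lit 169472, nat_lit 164096, nat_lit 160896, nat_lit 155904, nat_lit 153728, nat_lit 148576, nat_lit 143848, nat_lit 142668, nat_lit 138798, nat_lit 132391, nat_lit 414, nat_lit 5456, nat_lit 10552, nat_lit 13632, nat_lit 18688, nat_lit 22016, nat_lit 24704, nat_lit 30208, nat_lit 35328, nat_lit 46405, nat_lit 43739, nat_lit 37179, nat_lit 32778, nat_lit 28675, nat_lit 26637, nat_lit 20490, nat_lit 16905, nat_lit 12324, nat_lit 8200, nat_lit 4101, nat_lit 2, nat_lit 438282, nat_lit 430088, nat_lit 421894, nat_lit 413700, nat_lit 405506, nat_lit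 397312, nat_lit 165888, nat_lit 162816, nat_lit 158848, nat_lit 153792, nat_lit 149088, nat_lit 145136, nat_lit 139496, nat_lit 138992, nat_lit 131102]⟩
def ndMr9_72 : El := ⟨[nat_lit 0xf6055c9345439524599480be15b4c0c8dc6e, nat_lit 0x281e7d31d96bbc409bab24b68a40c912860b, nat_lit 0x99c3000ea14164f3b60ba5ae254cce61131, nat_lit 0x3a6c5c790e80b1605422e14aa61ce85b5d2d], [nat_lit 65536, nat_lit 69632, nat_lit 73728, nat_lit 77824, nat_lit 81920, nat_lit 90112, nat_lit 98304, nat_lit 110592, nat_lit 169984, nat_lit 162048, nat_lit 158144, nat_lit 152768, nat_lit 150880, nat_lit 146296, nat_lit 142736, nat_lit 137536, nat_lit 132991, nat_lit 116, nat_lit 6352, nat_lit 11160, nat_lit 12512, nat_lit 16704, nat_lit 23296, nat_lit 29696, nat_lit 34304, nat_lit 39936, nat_lit 43008, nat_lit 46653, nat_lit 41278, nat_lit 36942, nat_lit 32971, nat_lit 28965, nat_lit 24750, nat_lit 20483, nat_lit 17422, nat_lit 12419, nat_lit 8202, nat_lit 4097, nat_lit 2, nat_lit 434185, nat_lit 425991, nat_lit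 417796, nat_lit 405506, nat_lit 397312, nat_lit 168960, nat_lit 164864, nat_lit 161280, nat_lit 155904, nat_lit 149120, nat_lit 145152, nat_lit 139328, nat_lit 136836, nat_lit 132692, nat_lit 45576, nat_lit 20488]⟩
def ndMr9_73 : El := ⟨[nat_lit 0xd1d88b3026f2498329d75b25cd0d048546f0, nat_lit 0xd172b25cced0512832a0e14a3563ec328497, nat_lit 0x81ee4b9d1373920a92c413540cb0cad8b90f, nat_lit 0x553aa96bc23248f199a0555aa95d1176080e], [nat_lit 65536, nat_lit 69632, nat_lit 81920, nat_lit 86016, nat_lit 90112, nat_lit 98304, nat_lit 178176, nat_lit 175104, nat_lit 171520, nat_lit 167424, nat_lit 158720, nat_lit 155488, nat_lit 141664, nat_lit 138022, nat_lit 133990, nat_lit 1718, nat_lit 6972, nat_lit 10160, nat_lit 15744, nat_lit 17568, nat_lit 20736, nat_lit 25088, nat_lit 30720, nat_lit 38912, nat_lit 43008, nat_lit 45546, nat_lit 41843, nat_lit 36906, nat_lit 32795, nat_lit 30817, nat_lit 25654, nat_lit 20993, nat_lit 16655, nat_lit 12326, nat_lit 8193, nat_lit 4129, nat_lit 438282,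 nat_lit 430088, nat_lit 421894, nat_lit 413700, nat_lit 405506, nat_lit 397312, nat_lit 174080, nat_lit 165888, nat_lit 163328, nat_lit 159360, nat_lit 152320, nat_lit 151456, nat_lit 145792, nat_lit 141912, nat_lit 138756, nat_lit 134530]⟩
def ndMr9_74 : El := ⟨[nat_lit 0x4ee7edba8c84cda184ac77928c00aa55ba23, nat_lit 0x14dd4b18125ad147346686ac8f90aec83836, nat_lit 0xf56a0a4d957198046ba30a2d1563e53088e5], [nat_lit 86016, nat_lit 94208, nat_lit 98304, nat_lit 102400, nat_lit 106496, nat_lit 110592, nat_lit 178176, nat_lit 174080, nat_lit 169472, nat_lit 164096, nat_lit 160384, nat_lit 156992, nat_lit 154464, nat_lit 148800, nat_lit 146424, nat_lit 140948, nat_lit 138960, nat_lit 134613, nat_lit 3370, nat_lit 6480, nat_lit 10016, nat_lit 12704, nat_lit 18496, nat_lit 23680, nat_lit 31232, nat_lit 35328, nat_lit 39936, nat_lit 46167, nat_lit 43557, nat_lit 37332, nat_lit 32773, nat_lit 29186, nat_lit 24598, nat_lit 20506, nat_lit 16395, nat_lit 12306, nat_lit 8195, nat_lit 4, nat_lit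 434184, nat_lit 413700, nat_lit 405506, nat_lit 397312, nat_lit 151808, nat_lit 147744, nat_lit 144400, nat_lit 139568, nat_lit 135480, nat_lit 132110, nat_lit 45071, nat_lit 36873, nat_lit 28688, nat_lit 24579, nat_lit 327680]⟩
def ndMr9_75 : El := ⟨[nat_lit 0x781be81500fa918590ceb83ad1322614aaed, nat_lit 0xb1817e031054aeb050dc434a879ddaf88ac1, nat_lit 0x28222704a62abaef186306b2962ad04498ea], [nat_lit 69632, nat_lit 73728, nat_lit 94208, nat_lit 102400, nat_lit 168960, nat_lit 164608, nat_lit 159872, nat_lit 156992, nat_lit 152704, nat_lit 149056, nat_lit 145168, nat_lit 139664, nat_lit 135626, nat_lit 131240, nat_lit 270, nat_lit 6108, nat_lit 11272, nat_lit 14256, nat_lit 17856, nat_lit 21312, nat_lit 26240, nat_lit 29440, nat_lit 33792, nat_lit 43008, nat_lit 45062, nat_lit 41693, nat_lit 38041, nat_lit 32857, nat_lit 29777, nat_lit 24852, nat_lit 20482, nat_lit 16652, nat_lit 12357, nat_lit 8208, nat_lit 4129, nat_lit 430088, nat_lit 417797, nat_lit 409602, nat_lit 397312,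 nat_lit 151872, nat_lit 147808, nat_lit 139792, nat_lit 135264, nat_lit 131168, nat_lit 45062, nat_lit 41045, nat_lit 28755, nat_lit 12289]⟩
def ndMr9_76 : El := ⟨[nat_lit 0x8bd1783866889122735f51acd2828a0bd994, nat_lit 0x81e1bbac44543e136da8a24ae1499871adc0, nat_lit 0x47b77761404941a1bae26a55e250d0e49ed3, nat_lit 0x96069f6d100911cf5a4f328e02b1a3750595], [nat_lit 94208, nat_lit 175104, nat_lit 168960, nat_lit 166400, nat_lit 163584, nat_lit 158656, nat_lit 153696, nat_lit 147936, nat_lit 145168, nat_lit 140468, nat_lit 138480, nat_lit 134051, nat_lit 2098, nat_lit 7416, nat_lit 11200, nat_lit 14832, nat_lit 18848, nat_lit 24384, nat_lit 25728, nat_lit 29696, nat_lit 34304, nat_lit 39936, nat_lit 47057, nat_lit 43764, nat_lit 39310, nat_lit 33848, nat_lit 30734, nat_lit 24636, nat_lit 20485, nat_lit 16392, nat_lit 12290, nat_lit 8226, nat_lit 4, nat_lit 438282, nat_lit 430088, nat_lit 421894, nat_lit 413700, nat_lit 405506, nat_lit 397312, nat_lit 174080, nat_lit 164352, nat_lit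 160000, nat_lit 157696, nat_lit 154880, nat_lit 149120, nat_lit 146400, nat_lit 141736, nat_lit 138280, nat_lit 134260]⟩
def ndMr9_77 : El := ⟨[nat_lit 0xe8e82b09da8312147d5d38d94b1a58510257, nat_lit 0x3090ca9994123cf6594514a1b71d5c093290, nat_lit 0x2d7b771065075aec18271591476d5f44a0a6], [nat_lit 65536, nat_lit 73728, nat_lit 77824, nat_lit 81920, nat_lit 94208, nat_lit 102400, nat_lit 106496, nat_lit 178176, nat_lit 173056, nat_lit 169472, nat_lit 164864, nat_lit 163072, nat_lit 156096, nat_lit 154752, nat_lit 149408, nat_lit 145712, nat_lit 140900, nat_lit 135338, nat_lit 134731, nat_lit 3126, nat_lit 7752, nat_lit 9608, nat_lit 14144, nat_lit 18656, nat_lit 22976, nat_lit 24832, nat_lit 30208, nat_lit 34304, nat_lit 37888, nat_lit 43008, nat_lit 46983, nat_lit 41616, nat_lit 37069, nat_lit 32994, nat_lit 28744, nat_lit 24624, nat_lit 20497, nat_lit 16399, nat_lit 12295, nat_lit 8201, nat_lit 4100, nat_lit 430088, nat_lit 417797, nat_lit 409602, nat_lit 397312, nat_lit 156416,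 nat_lit 152320, nat_lit 147808, nat_lit 140032, nat_lit 135188, nat_lit 131906, nat_lit 45059, nat_lit 41488, nat_lit 28755, nat_lit 12292, nat_lit 327680]⟩
def ndMr9_78 : El := ⟨[nat_lit 0xd2d1b111684782ac6a4f241a2e84ec15dc6a, nat_lit 0x82d4db55a8c921d1a90735882f498ed016f0, nat_lit 0x4e4dd47b6461aeae894024c144b050c3ce97], [nat_lit 73728, nat_lit 77824, nat_lit 90112, nat_lit 98304, nat_lit 102400, nat_lit 106496, nat_lit 110592, nat_lit 173056, nat_lit 171008, nat_lit 166656, nat_lit 162176, nat_lit 156864, nat_lit 152288, nat_lit 151088, nat_lit 147152, nat_lit 140944, nat_lit 137504, nat_lit 133854, nat_lit 3686, nat_lit 6568, nat_lit 12264, nat_lit 16160, nat_lit 16864, nat_lit 21824, nat_lit 26240, nat_lit 29696, nat_lit 34816, nat_lit 45484, nat_lit 41187, nat_lit 36872, nat_lit 32969, nat_lit 28755, nat_lit 24752, nat_lit 20487, nat_lit 16517, nat_lit 8193, nat_lit 4113, nat_lit 430086, nat_lit 413700, nat_lit 405506, nat_lit 397312, nat_lit 156160, nat_lit 152128, nat_lit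 147552, nat_lit 143456, nat_lit 139808, nat_lit 131174, nat_lit 45059, nat_lit 41503, nat_lit 32776, nat_lit 327680]⟩
def ndMr9_79 : El := ⟨[nat_lit 0x8e77d70a4cd55d13216d13ade295060ac18e, nat_lit 0xca50f6285d65d2379b54c48c103c888a88cf, nat_lit 0x309c56bd49152e05a18e3ccb1a8ec184886], [nat_lit 65536, nat_lit 69632, nat_lit 73728, nat_lit 94208, nat_lit 98304, nat_lit 102400, nat_lit 110592, nat_lit 178176, nat_lit 175104, nat_lit 169472, nat_lit 166912, nat_lit 162048, nat_lit 158784, nat_lit 154688, nat_lit 148336, nat_lit 144760, nat_lit 140656, nat_lit 137184, nat_lit 132080, nat_lit 846, nat_lit 4828, nat_lit 11056, nat_lit 12320, nat_lit 18656, nat_lit 21120, nat_lit 26752, nat_lit 32512, nat_lit 37888, nat_lit 43008, nat_lit 45089, nat_lit 41810, nat_lit 38305, nat_lit 32993, nat_lit 29026, nat_lit 24584, nat_lit 20749, nat_lit 16905, nat_lit 12295, nat_lit 8201, nat_lit 4100, nat_lit 430088, nat_lit 417797, nat_lit 409603, nat_lit 401408, nat_lit 164352, nat_lit 155904,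 nat_lit 152320, nat_lit 148256, nat_lit 144128, nat_lit 140040, nat_lit 131164, nat_lit 45068, nat_lit 41488, nat_lit 28752, nat_lit 4097]⟩
def ndMr9_80 : El := ⟨[nat_lit 0x2b2be2b5eb49c6504256a3948610c017b5cc, nat_lit 0x9fc099ab4c7548a15dd0c7da11700544cc64, nat_lit 0x333cc62b0ce982020ca2355175790ed45d36], [nat_lit 81920, nat_lit 94208, nat_lit 98304, nat_lit 102400, nat_lit 106496, nat_lit 110592, nat_lit 173056, nat_lit 169472, nat_lit 161536, nat_lit 158400, nat_lit 151744, nat_lit 149424, nat_lit 144232, nat_lit 141980, nat_lit 137192, nat_lit 132987, nat_lit 3756, nat_lit 7848, nat_lit 8200, nat_lit 14848, nat_lit 20224, nat_lit 21312, nat_lit 28416, nat_lit 29440, nat_lit 35840, nat_lit 37888, nat_lit 43008, nat_lit 46912, nat_lit 43156, nat_lit 37019, nat_lit 32894, nat_lit 28786, nat_lit 24590, nat_lit 20611, nat_lit 16389, nat_lit 12293, nat_lit 8, nat_lit 425991, nat_lit 417797, nat_lit 409603, nat_lit 397312, nat_lit 156032, nat_lit 151936, nat_lit 147840, nat_lit 143552,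 nat_lit 135496, nat_lit 131330, nat_lit 45066, nat_lit 41088, nat_lit 37017, nat_lit 8193]⟩
def ndMr9_81 : El := ⟨[nat_lit 0x42e1289ae577c465510d5459cd801870d122, nat_lit 0x5a606f0ba370192299e4a8546fb15742310d, nat_lit 0x5c6acc635ee31ca4ad2d74a16a94e3010c01], [nat_lit 73728, nat_lit 77824, nat_lit 86016, nat_lit 94208, nat_lit 98304, nat_lit 178176, nat_lit 173056, nat_lit 170496, nat_lit 166656, nat_lit 162176, nat_lit 157376, nat_lit 154016, nat_lit 144384, nat_lit 141576, nat_lit 138700, nat_lit 132807, nat_lit 3902, nat_lit 6584, nat_lit 8248, nat_lit 14416, nat_lit 19296, nat_lit 22784, nat_lit 28160, nat_lit 28928, nat_lit 35840, nat_lit 47077, nat_lit 41545, nat_lit 37949, nat_lit 34985, nat_lit 30840, nat_lit 24856, nat_lit 20504, nat_lit 16427, nat_lit 12289, nat_lit 8193, nat_lit 4113, nat_lit 4, nat_lit 430088, nat_lit 421893, nat_lit 409603, nat_lit 397312, nat_lit 164352, nat_lit 160512, nat_lit 151808, nat_lit 148128, nat_lit 144016, nat_lit 135864, nat_lit 131634,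 nat_lit 45066, nat_lit 40986, nat_lit 24586, nat_lit 8193]⟩
def ndMr9_82 : El := ⟨[nat_lit 0xed7221a08f119215996e05a5ca306566bd88, nat_lit 0x82e88142c7309e468d056aa9a549197839e0, nat_lit 0xf3acfc59d057459308a9551889b5c03849af], [nat_lit 65536, nat_lit 69632, nat_lit 73728, nat_lit 77824, nat_lit 94208, nat_lit 98304, nat_lit 102400, nat_lit 106496, nat_lit 110592, nat_lit 175104, nat_lit 170496, nat_lit 166144, nat_lit 162048, nat_lit 157504, nat_lit 155520, nat_lit 149920, nat_lit 146512, nat_lit 140732, nat_lit 137524, nat_lit 132763, nat_lit 1316, nat_lit 6616, nat_lit 11664, nat_lit 15824, nat_lit 17056, nat_lit 23360, nat_lit 27264, nat_lit 30464, nat_lit 34304, nat_lit 37888, nat_lit 43008, nat_lit 46580, nat_lit 43865, nat_lit 37216, nat_lit 33393, nat_lit 29821, nat_lit 24749, nat_lit 20556, nat_lit 16391, nat_lit 12290, nat_lit 8208, nat_lit 4101, nat_lit 4, nat_lit 434185, nat_lit 425989, nat_lit 409602, nat_lit 397312, nat_lit 164864, nat_lit 151808, nat_lit 148512,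 nat_lit 140048, nat_lit 136240, nat_lit 131364, nat_lit 45059, nat_lit 28691, nat_lit 12292]⟩
def ndMr9_83 : El := ⟨[nat_lit 0xcaa00663ee0158c750eab906914b8902b668, nat_lit 0xa6cc6325ec27aa150990ba262c6940e1ce47, nat_lit 0xf055c9391ee0de824460ab54604ae72619a5], [nat_lit 77824, nat_lit 81920, nat_lit 98304, nat_lit 102400, nat_lit 106496, nat_lit 175104, nat_lit 165376, nat_lit 159552, nat_lit 154688, nat_lit 150384, nat_lit 144200, nat_lit 141268, nat_lit 139072, nat_lit 134382, nat_lit 2926, nat_lit 6820, nat_lit 9648, nat_lit 16112, nat_lit 18400, nat_lit 24960, nat_lit 28928, nat_lit 33792, nat_lit 37888, nat_lit 43008, nat_lit 46592, nat_lit 41540, nat_lit 38230, nat_lit 32926, nat_lit 29022, nat_lit 24735, nat_lit 20490, nat_lit 16459, nat_lit 12289, nat_lit 8211, nat_lit 4097, nat_lit 425991, nat_lit 417797, nat_lit 409603, nat_lit 397312, nat_lit 160000, nat_lit 155776, nat_lit 151872, nat_lit 147616, nat_lit 143696, nat_lit 135592, nat_lit 131194, nat_lit 45066, nat_lit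 41155, nat_lit 36874, nat_lit 8193, nat_lit 327680]⟩
def ndMr9_84 : El := ⟨[nat_lit 0xe2e44d2aab024a88039af8dceb60462b1a69, nat_lit 0x1d722e9d5a850cab15097b452c8181279dc1, nat_lit 0x4e2bb8aa2f29a4a782c433502e232c053e2d, nat_lit 0xc9f3f52c687b88133356345a0974aaf53081], [nat_lit 65536, nat_lit 73728, nat_lit 77824, nat_lit 86016, nat_lit 94208, nat_lit 110592, nat_lit 175104, nat_lit 168448, nat_lit 166400, nat_lit 160128, nat_lit 158144, nat_lit 151744, nat_lit 149872, nat_lit 144640, nat_lit 141612, nat_lit 136124, nat_lit 132366, nat_lit 870, nat_lit 5856, nat_lit 10112, nat_lit 14144, nat_lit 19296, nat_lit 22784, nat_lit 32000, nat_lit 34816, nat_lit 43008, nat_lit 46992, nat_lit 41103, nat_lit 37346, nat_lit 33447, nat_lit 29266, nat_lit 24833, nat_lit 20622, nat_lit 16424, nat_lit 12327, nat_lit 8211, nat_lit 4113, nat_lit 2, nat_lit 430088, nat_lit 421894, nat_lit 413700, nat_lit 405506, nat_lit 397312, nat_lit 164352, nat_lit 160256, nat_lit 156288, nat_lit 152064, nat_lit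 147616, nat_lit 143920, nat_lit 139880, nat_lit 131566, nat_lit 45375, nat_lit 41949, nat_lit 327680]⟩
def ndMr9_85 : El := ⟨[nat_lit 0xb17e7e68a4730d9073ecaa24a4b85009ae35, nat_lit 0x666f0c25a6b4a9a2bd1e028cce88592a9d10, nat_lit 0xde1bde3916993e6e51905adc02a0476831b1], [nat_lit 65536, nat_lit 73728, nat_lit 77824, nat_lit 81920, nat_lit 86016, nat_lit 90112, nat_lit 98304, nat_lit 102400, nat_lit 106496, nat_lit 178176, nat_lit 169472, nat_lit 167680, nat_lit 160896, nat_lit 157632, nat_lit 152544, nat_lit 149328, nat_lit 143424, nat_lit 140348, nat_lit 138866, nat_lit 132465, nat_lit 2492, nat_lit 7008, nat_lit 11672, nat_lit 13232, nat_lit 18336, nat_lit 21248, nat_lit 28416, nat_lit 30464, nat_lit 33280, nat_lit 38912, nat_lit 43008, nat_lit 47026, nat_lit 43772, nat_lit 39364, nat_lit 32949, nat_lit 28781, nat_lit 24755, nat_lit 20620, nat_lit 16456, nat_lit 12294, nat_lit 8194, nat_lit 32, nat_lit 430088, nat_lit 421893, nat_lit 409602, nat_lit 397312, nat_lit 164352, nat_lit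 151936, nat_lit 147840, nat_lit 139776, nat_lit 136084, nat_lit 131460, nat_lit 45062, nat_lit 41603, nat_lit 24582, nat_lit 12289]⟩
def ndMr9_86 : El := ⟨[nat_lit 0xc9fa9686ef4506b14e362b93261e0a054c4, nat_lit 0x178e474b2cb05c2d8946a120f2a41d33548f, nat_lit 0x969f0c9c44094023b94f4256c65b1e9429cd], [nat_lit 65536, nat_lit 69632, nat_lit 90112, nat_lit 94208, nat_lit 98304, nat_lit 102400, nat_lit 106496, nat_lit 173056, nat_lit 170496, nat_lit 164096, nat_lit 161024, nat_lit 156352, nat_lit 155296, nat_lit 151104, nat_lit 143960, nat_lit 143156, nat_lit 135714, nat_lit 133091, nat_lit 210, nat_lit 4724, nat_lit 8448, nat_lit 13760, nat_lit 19072, nat_lit 23040, nat_lit 31232, nat_lit 34816, nat_lit 39936, nat_lit 43008, nat_lit 45146, nat_lit 41636, nat_lit 37940, nat_lit 33018, nat_lit 28930, nat_lit 24743, nat_lit 20490, nat_lit 16463, nat_lit 12324, nat_lit 8202, nat_lit 4105, nat_lit 425990, nat_lit 413700, nat_lit 405506, nat_lit 397312, nat_lit 151808, nat_lit 147808, nat_lit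 143712, nat_lit 139536, nat_lit 135232, nat_lit 131182, nat_lit 45071, nat_lit 40985, nat_lit 36943, nat_lit 28693]⟩
def ndMr9_87 : El := ⟨[nat_lit 0x7e4b82931ee1dd07506a49c60db140ba1922, nat_lit 0xffffbb115202d288e853996d53a130892f, nat_lit 0xf9faac98ce928970b21cab81e194594a988d, nat_lit 0x5c9a3c9114c358a24ac143a26d8c0777baa1], [nat_lit 69632, nat_lit 73728, nat_lit 77824, nat_lit 81920, nat_lit 86016, nat_lit 166912, nat_lit 161280, nat_lit 158208, nat_lit 151808, nat_lit 149984, nat_lit 144728, nat_lit 140712, nat_lit 138138, nat_lit 132439, nat_lit 978, nat_lit 6796, nat_lit 9128, nat_lit 14880, nat_lit 19488, nat_lit 23168, nat_lit 28032, nat_lit 29440, nat_lit 36352, nat_lit 38912, nat_lit 46243, nat_lit 41888, nat_lit 37992, nat_lit 33460, nat_lit 29284, nat_lit 24608, nat_lit 20567, nat_lit 16416, nat_lit 12290, nat_lit 8209, nat_lit 438281, nat_lit 425990, nat_lit 413700, nat_lit 405506, nat_lit 397312, nat_lit 164352, nat_lit 158464, nat_lit 151872, nat_lit 147552, nat_lit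 143888, nat_lit 139832, nat_lit 135264, nat_lit 131704, nat_lit 41320, nat_lit 28764, nat_lit 327680]⟩
def ndMr9_88 : El := ⟨[nat_lit 0x3a93a394dae39403aaa89b5d0b7c60c10486, nat_lit 0x33cc363b626a0d65925c87dab02285703033, nat_lit 0x4848878c868ba4366b160acc8e288eaa1a0f, nat_lit 0xc9956653915048eb6d886832f318a8f8a425], [nat_lit 65536, nat_lit 69632, nat_lit 73728, nat_lit 81920, nat_lit 86016, nat_lit 90112, nat_lit 94208, nat_lit 106496, nat_lit 110592, nat_lit 175104, nat_lit 166400, nat_lit 161408, nat_lit 159040, nat_lit 152384, nat_lit 151456, nat_lit 144720, nat_lit 141944, nat_lit 135832, nat_lit 134303, nat_lit 1726, nat_lit 4448, nat_lit 10568, nat_lit 13664, nat_lit 19584, nat_lit 24064, nat_lit 27904, nat_lit 31232, nat_lit 35840, nat_lit 43008, nat_lit 46380, nat_lit 43903, nat_lit 37275, nat_lit 32795, nat_lit 28770, nat_lit 24740, nat_lit 20490, nat_lit 16641, nat_lit 12294, nat_lit 8202, nat_lit 4097, nat_lit 438282, nat_lit 430088, nat_lit 421894, nat_lit 413700,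 nat_lit 405506, nat_lit 397312, nat_lit 174080, nat_lit 169984, nat_lit 165376, nat_lit 162560, nat_lit 155776, nat_lit 155456, nat_lit 149920, nat_lit 146384, nat_lit 139360, nat_lit 139228, nat_lit 133206]⟩
def ndMr9_89 : El := ⟨[nat_lit 0xa5f60c0b1ab228c3a49c7ac4af44c504d817, nat_lit 0xc656cc790a1658774c0f5a1972744134094d, nat_lit 0x7ddb2b4aa363090f6146b6c2ee0cc1425647, nat_lit 0x1444274c16c1be4151857015153922d752d3], [nat_lit 73728, nat_lit 90112, nat_lit 98304, nat_lit 178176, nat_lit 175104, nat_lit 166400, nat_lit 161280, nat_lit 159040, nat_lit 152416, nat_lit 151456, nat_lit 144728, nat_lit 141944, nat_lit 135834, nat_lit 134302, nat_lit 3996, nat_lit 5884, nat_lit 11648, nat_lit 15168, nat_lit 18592, nat_lit 21248, nat_lit 27904, nat_lit 29184, nat_lit 34304, nat_lit 38912, nat_lit 46260, nat_lit 43632, nat_lit 38160, nat_lit 33352, nat_lit 28970, nat_lit 24631, nat_lit 20559, nat_lit 16426, nat_lit 12295, nat_lit 8203, nat_lit 4105, nat_lit 8, nat_lit 438282, nat_lit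 430088, nat_lit 421894, nat_lit 413700, nat_lit 405506, nat_lit 397312, nat_lit 174080, nat_lit 169984, nat_lit 163072, nat_lit 157440, nat_lit 154880, nat_lit 149792, nat_lit 146096, nat_lit 141728, nat_lit 139024, nat_lit 133310, nat_lit 327680]⟩
def ndMr9_90 : El := ⟨[nat_lit 0x84b71b8d1ab64d57b264f398a320440821d5, nat_lit 0xd48124492e8b3da713952280343461562e63, nat_lit 0x81bb8d4aaf484ce4918b1b2175781a20b983], [nat_lit 65536, nat_lit 69632, nat_lit 73728, nat_lit 77824, nat_lit 81920, nat_lit 90112, nat_lit 94208, nat_lit 98304, nat_lit 106496, nat_lit 178176, nat_lit 174080, nat_lit 168448, nat_lit 164864, nat_lit 159872, nat_lit 157376, nat_lit 152352, nat_lit 147552, nat_lit 144472, nat_lit 140280, nat_lit 136036, nat_lit 131676, nat_lit 1298, nat_lit 6548, nat_lit 10912, nat_lit 13920, nat_lit 18912, nat_lit 20928, nat_lit 26752, nat_lit 31232, nat_lit 45069, nat_lit 41192, nat_lit 37138, nat_lit 33373, nat_lit 28754, nat_lit 24639, nat_lit 20489, nat_lit 16453, nat_lit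 12311, nat_lit 8195, nat_lit 4101, nat_lit 425990, nat_lit 413700, nat_lit 405506, nat_lit 397312, nat_lit 155904, nat_lit 151808, nat_lit 147808, nat_lit 143664, nat_lit 139280, nat_lit 135188, nat_lit 131432, nat_lit 45071, nat_lit 40982, nat_lit 36928, nat_lit 28693, nat_lit 327680]⟩
def ndMr9_91 : El := ⟨[nat_lit 0x811e44324ef2468043270756ea6ac412da43, nat_lit 0x827ee2715b222a2b131151cce04dc2fb50d0, nat_lit 0x66c30459742918d7b8e6902011ce224d557], [nat_lit 73728, nat_lit 81920, nat_lit 102400, nat_lit 110592, nat_lit 175104, nat_lit 168960, nat_lit 164864, nat_lit 163712, nat_lit 156992, nat_lit 153024, nat_lit 147856, nat_lit 146016, nat_lit 141240, nat_lit 137134, nat_lit 131162, nat_lit 1036, nat_lit 7276, nat_lit 10632, nat_lit 12880, nat_lit 18688, nat_lit 21568, nat_lit 24832, nat_lit 28928, nat_lit 46040, nat_lit 41306, nat_lit 39093, nat_lit 33398, nat_lit 28678, nat_lit 24620, nat_lit 20548, nat_lit 16389, nat_lit 12325, nat_lit 8201, nat_lit 4224, nat_lit 425991,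 nat_lit 417797, nat_lit 409603, nat_lit 397312, nat_lit 160000, nat_lit 155776, nat_lit 152000, nat_lit 143680, nat_lit 135272, nat_lit 131386, nat_lit 45066, nat_lit 41088, nat_lit 37011, nat_lit 8193]⟩
def ndMr9_92 : El := ⟨[nat_lit 0x30ac90a2e2fb88d5b264d99e014154073064, nat_lit 0xa9336c6c14732e6e12135190b6786ec05232, nat_lit 0x65ff5a0a00b790ecade71852d210d2a2b5c6], [nat_lit 65536, nat_lit 69632, nat_lit 86016, nat_lit 90112, nat_lit 98304, nat_lit 102400, nat_lit 106496, nat_lit 174080, nat_lit 168960, nat_lit 165120, nat_lit 160640, nat_lit 159360, nat_lit 152640, nat_lit 150352, nat_lit 144648, nat_lit 142580, nat_lit 137742, nat_lit 133649, nat_lit 2494, nat_lit 6064, nat_lit 10224, nat_lit 15232, nat_lit 18272, nat_lit 23936, nat_lit 27904, nat_lit 29952, nat_lit 35840, nat_lit 39936, nat_lit 43008, nat_lit 46128, nat_lit 43949, nat_lit 38025, nat_lit 32914, nat_lit 28720, nat_lit 24594, nat_lit 20635, nat_lit 16388, nat_lit 12325, nat_lit 8195, nat_lit 4101, nat_lit 4,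 nat_lit 434184, nat_lit 417797, nat_lit 409602, nat_lit 397312, nat_lit 164864, nat_lit 156928, nat_lit 151808, nat_lit 148512, nat_lit 140368, nat_lit 136308, nat_lit 132130, nat_lit 45062, nat_lit 36870, nat_lit 28694, nat_lit 12289]⟩
def ndMr9_93 : El := ⟨[nat_lit 0x9933fa3c83414f30060a62e2e134d695ea9, nat_lit 0xe11d78796416a6ee542d114ceca8c08a1964, nat_lit 0x24241d08daf6080ea5d68392515593581666], [nat_lit 65536, nat_lit 69632, nat_lit 73728, nat_lit 90112, nat_lit 94208, nat_lit 98304, nat_lit 106496, nat_lit 110592, nat_lit 171520, nat_lit 164096, nat_lit 159872, nat_lit 158912, nat_lit 151584, nat_lit 148032, nat_lit 143688, nat_lit 142556, nat_lit 136480, nat_lit 131207, nat_lit 2858, nat_lit 7672, nat_lit 10296, nat_lit 15424, nat_lit 17536, nat_lit 22592, nat_lit 28288, nat_lit 32000, nat_lit 36352, nat_lit 37888, nat_lit 43008, nat_lit 45162, nat_lit 41814, nat_lit 38352, nat_lit 33871, nat_lit 28773, nat_lit 24726, nat_lit 20558, nat_lit 16418, nat_lit 12310, nat_lit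 8194, nat_lit 4100, nat_lit 8, nat_lit 425991, nat_lit 417797, nat_lit 409603, nat_lit 397312, nat_lit 156032, nat_lit 152000, nat_lit 147904, nat_lit 143440, nat_lit 135384, nat_lit 45066, nat_lit 41161, nat_lit 36874, nat_lit 8193]⟩
def ndMr9_94 : El := ⟨[nat_lit 0xf3caa892eeb19f2aaa8080a6b48ce56850c, nat_lit 0x42dd721c989a4cf10ae0f6bac4aa146116e0, nat_lit 0x65330f8ce507358f080434256a29c86bd696], [nat_lit 65536, nat_lit 69632, nat_lit 81920, nat_lit 94208, nat_lit 102400, nat_lit 170496, nat_lit 165632, nat_lit 163200, nat_lit 158784, nat_lit 152352, nat_lit 148048, nat_lit 147360, nat_lit 142512, nat_lit 136592, nat_lit 134890, nat_lit 2864, nat_lit 5664, nat_lit 9464, nat_lit 13008, nat_lit 18976, nat_lit 20544, nat_lit 27392, nat_lit 30976, nat_lit 36352, nat_lit 38912, nat_lit 43008, nat_lit 46497, nat_lit 41734, nat_lit 37219, nat_lit 33392, nat_lit 28693, nat_lit 24613, nat_lit 20504, nat_lit 16393, nat_lit 12308, nat_lit 8, nat_lit 425991, nat_lit 413700, nat_lit 405506,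 nat_lit 397312, nat_lit 160000, nat_lit 151808, nat_lit 147616, nat_lit 143376, nat_lit 139520, nat_lit 135460, nat_lit 131118, nat_lit 45071, nat_lit 41103, nat_lit 36874, nat_lit 24585]⟩
def ndMr9_95 : El := ⟨[nat_lit 0x6a33005c525256936a05750ecc341ee38412, nat_lit 0xc5aff960829a40076c64a591c545df535a63, nat_lit 0xf36056055d07a9a54c4f311101b2ee6a4983, nat_lit 0x3ff6a983975b1ae01a48a13d870c8b38a28d], [nat_lit 69632, nat_lit 77824, nat_lit 86016, nat_lit 98304, nat_lit 110592, nat_lit 178176, nat_lit 173056, nat_lit 168960, nat_lit 161536, nat_lit 156288, nat_lit 151680, nat_lit 149280, nat_lit 144800, nat_lit 142532, nat_lit 136778, nat_lit 132681, nat_lit 24, nat_lit 7488, nat_lit 8792, nat_lit 16192, nat_lit 20192, nat_lit 23040, nat_lit 27264, nat_lit 31232, nat_lit 34816, nat_lit 37888, nat_lit 43008, nat_lit 46772, nat_lit 43559, nat_lit 39031, nat_lit 32962, nat_lit 28796, nat_lit 24710, nat_lit 20510, nat_lit 16426, nat_lit 12320, nat_lit 8193, nat_lit 4097, nat_lit 438282,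 nat_lit 430088, nat_lit 421894, nat_lit 413700, nat_lit 405506, nat_lit 397312, nat_lit 166912, nat_lit 163584, nat_lit 159616, nat_lit 154176, nat_lit 151104, nat_lit 143600, nat_lit 141656, nat_lit 139244, nat_lit 135022, nat_lit 327680]⟩
def ndMr9_96 : El := ⟨[nat_lit 0x3ca9f0b54ba41259c9e0abae289d161b086, nat_lit 0x3695666d0ef1a60e2841695e6622eaa8a04c, nat_lit 0x50c6cf18a700443259d25b3aada5dec32904], [nat_lit 73728, nat_lit 77824, nat_lit 90112, nat_lit 94208, nat_lit 102400, nat_lit 106496, nat_lit 110592, nat_lit 178176, nat_lit 173056, nat_lit 168448, nat_lit 164096, nat_lit 159872, nat_lit 157632, nat_lit 152736, nat_lit 151376, nat_lit 146712, nat_lit 140384, nat_lit 138574, nat_lit 133686, nat_lit 3486, nat_lit 4332, nat_lit 9368, nat_lit 15200, nat_lit 20064, nat_lit 23552, nat_lit 28544, nat_lit 31232, nat_lit 35328, nat_lit 37888, nat_lit 43008, nat_lit 46922, nat_lit 41658, nat_lit 38066, nat_lit 32791, nat_lit 29738, nat_lit 26657, nat_lit 20548, nat_lit 16519,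 nat_lit 12324, nat_lit 8211, nat_lit 4104, nat_lit 430088, nat_lit 417797, nat_lit 409602, nat_lit 397312, nat_lit 155904, nat_lit 151872, nat_lit 148320, nat_lit 139520, nat_lit 135264, nat_lit 131444, nat_lit 45062, nat_lit 41493, nat_lit 28694, nat_lit 12289, nat_lit 327680]⟩
def ndMr9_97 : El := ⟨[nat_lit 0x50363f5a060a54c474df0636320a54229ed7, nat_lit 0x7b7b4e7b2630c54859ecd4d4ae01892bd050, nat_lit 0xff3c5a0cc656500b409d7a9ed183da654924, nat_lit 0x441b847adae5250cb80f181036a987228a74], [nat_lit 73728, nat_lit 90112, nat_lit 98304, nat_lit 175104, nat_lit 168448, nat_lit 166912, nat_lit 163200, nat_lit 157312, nat_lit 155392, nat_lit 148528, nat_lit 144504, nat_lit 142244, nat_lit 137446, nat_lit 133986, nat_lit 1108, nat_lit 6972, nat_lit 11032, nat_lit 14368, nat_lit 17088, nat_lit 20736, nat_lit 28416, nat_lit 29696, nat_lit 35328, nat_lit 43008, nat_lit 45578, nat_lit 41115, nat_lit 39387, nat_lit 32808, nat_lit 29296, nat_lit 24589, nat_lit 20630, nat_lit 16430, nat_lit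 12295, nat_lit 8201, nat_lit 4100, nat_lit 438282, nat_lit 430088, nat_lit 421894, nat_lit 413700, nat_lit 405506, nat_lit 397312, nat_lit 169984, nat_lit 166912, nat_lit 162048, nat_lit 158080, nat_lit 155392, nat_lit 149888, nat_lit 144272, nat_lit 142400, nat_lit 135704, nat_lit 131522, nat_lit 327680]⟩
def ndMr9_98 : El := ⟨[nat_lit 0x66900c2c90653e6e08930ada2b03287b906d, nat_lit 0x11484ea55510ae4344cc7b08ad4b20f03ae4, nat_lit 0xca50f661177758ea4cd037c9a2316200d2b0], [nat_lit 65536, nat_lit 69632, nat_lit 73728, nat_lit 81920, nat_lit 86016, nat_lit 90112, nat_lit 106496, nat_lit 110592, nat_lit 174080, nat_lit 171520, nat_lit 166656, nat_lit 162304, nat_lit 158272, nat_lit 154720, nat_lit 151344, nat_lit 146616, nat_lit 139816, nat_lit 137216, nat_lit 131691, nat_lit 144, nat_lit 5736, nat_lit 9136, nat_lit 14784, nat_lit 18464, nat_lit 23296, nat_lit 27776, nat_lit 31488, nat_lit 35840, nat_lit 38912, nat_lit 46976, nat_lit 41962, nat_lit 37240, nat_lit 32855, nat_lit 29793,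 nat_lit 24891, nat_lit 20556, nat_lit 16392, nat_lit 12289, nat_lit 4225, nat_lit 8, nat_lit 430087, nat_lit 417796, nat_lit 405506, nat_lit 397312, nat_lit 160256, nat_lit 156288, nat_lit 147584, nat_lit 143488, nat_lit 139800, nat_lit 135880, nat_lit 131220, nat_lit 45062, nat_lit 41478, nat_lit 32917, nat_lit 327680]⟩
def ndMr9_99 : El := ⟨[nat_lit 0x447d1788808bbc83a49358196774daa2b2c1, nat_lit 0xaaf6fc0d1f359e30516b7400c24b1a4b0e4e, nat_lit 0x3a6c5c6ce4c21d487c5d0a081631569a8ee1], [nat_lit 65536, nat_lit 77824, nat_lit 81920, nat_lit 90112, nat_lit 94208, nat_lit 102400, nat_lit 110592, nat_lit 168960, nat_lit 164096, nat_lit 160256, nat_lit 153408, nat_lit 148160, nat_lit 143832, nat_lit 139788, nat_lit 135298, nat_lit 133036, nat_lit 2670, nat_lit 7044, nat_lit 11416, nat_lit 15488, nat_lit 19936, nat_lit 22656, nat_lit 27904, nat_lit 32000, nat_lit 33280, nat_lit 37888, nat_lit 43008, nat_lit 45587, nat_lit 41976, nat_lit 37280, nat_lit 33460, nat_lit 29188, nat_lit 25625,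 nat_lit 20508, nat_lit 16395, nat_lit 12295, nat_lit 8201, nat_lit 4097, nat_lit 425990, nat_lit 413700, nat_lit 405506, nat_lit 397312, nat_lit 155904, nat_lit 151808, nat_lit 147744, nat_lit 143472, nat_lit 139616, nat_lit 131330, nat_lit 45071, nat_lit 41050, nat_lit 36943, nat_lit 28688]⟩
def ndMr9_100 : El := ⟨[nat_lit 0x44eb8ba250672a008b02b188f76bcb59c896, nat_lit 0xbdd27d131b1056f0b2cce0a55224c65a3ce8, nat_lit 0xa666a543c6b3a635614460426eb4944bb681], [nat_lit 65536, nat_lit 73728, nat_lit 81920, nat_lit 90112, nat_lit 94208, nat_lit 102400, nat_lit 178176, nat_lit 166656, nat_lit 161280, nat_lit 158720, nat_lit 151904, nat_lit 150960, nat_lit 146664, nat_lit 139864, nat_lit 136938, nat_lit 133639, nat_lit 578, nat_lit 4964, nat_lit 8512, nat_lit 12528, nat_lit 18592, nat_lit 24256, nat_lit 28288, nat_lit 32000, nat_lit 34816, nat_lit 38912, nat_lit 45928, nat_lit 41577, nat_lit 37091, nat_lit 32897, nat_lit 28779, nat_lit 24617, nat_lit 20548, nat_lit 16394, nat_lit 12292,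 nat_lit 8203, nat_lit 425990, nat_lit 413700, nat_lit 405506, nat_lit 397312, nat_lit 151808, nat_lit 147808, nat_lit 139384, nat_lit 135264, nat_lit 131162, nat_lit 45066, nat_lit 41045, nat_lit 36959]⟩
def ndMr9_101 : El := ⟨[nat_lit 0x12d7172a58e881b435ec878e7551e501102b, nat_lit 0x9a330f43597a493039975558622442e78265, nat_lit 0xdbb281b15cc242b1499170496f0a9b3a0867, nat_lit 0x848bbe9d9a531d0293c950b1ca845601d137], [nat_lit 69632, nat_lit 73728, nat_lit 77824, nat_lit 98304, nat_lit 106496, nat_lit 178176, nat_lit 173056, nat_lit 165120, nat_lit 159872, nat_lit 155968, nat_lit 151712, nat_lit 148448, nat_lit 144112, nat_lit 142532, nat_lit 135808, nat_lit 132563, nat_lit 1216, nat_lit 5448, nat_lit 10104, nat_lit 13008, nat_lit 18464, nat_lit 23232, nat_lit 25344, nat_lit 28928, nat_lit 34816, nat_lit 38912, nat_lit 46915, nat_lit 41229, nat_lit 36959, nat_lit 33937, nat_lit 29025, nat_lit 24608, nat_lit 20489, nat_lit 16512, nat_lit 12308, nat_lit 8209, nat_lit 4097, nat_lit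 438281, nat_lit 421894, nat_lit 413700, nat_lit 405506, nat_lit 397312, nat_lit 160256, nat_lit 158208, nat_lit 152064, nat_lit 147968, nat_lit 145472, nat_lit 141384, nat_lit 135876, nat_lit 131212, nat_lit 41070, nat_lit 32855, nat_lit 327680]⟩
def ndMr9_102 : El := ⟨[nat_lit 0x248edb90a63354b44352fb1c975316e8c020, nat_lit 0x1d2717addc282685190cc458f103e720a9ab, nat_lit 0x78728b2ba6d91c0342604606ca5be8235e35, nat_lit 0x22482d8d8811b84a7d2a8334a9bc0e09b24b], [nat_lit 65536, nat_lit 69632, nat_lit 73728, nat_lit 77824, nat_lit 81920, nat_lit 90112, nat_lit 94208, nat_lit 110592, nat_lit 169472, nat_lit 165120, nat_lit 162048, nat_lit 156736, nat_lit 153728, nat_lit 147632, nat_lit 146824, nat_lit 140548, nat_lit 135308, nat_lit 131950, nat_lit 4016, nat_lit 6872, nat_lit 10264, nat_lit 14304, nat_lit 18144, nat_lit 20608, nat_lit 27904, nat_lit 32000, nat_lit 34304, nat_lit 37888, nat_lit 46841, nat_lit 43435, nat_lit 37267, nat_lit 33376, nat_lit 28936, nat_lit 24706, nat_lit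 20511, nat_lit 16430, nat_lit 12321, nat_lit 8194, nat_lit 434185, nat_lit 425990, nat_lit 413700, nat_lit 405506, nat_lit 397312, nat_lit 155904, nat_lit 153088, nat_lit 148512, nat_lit 144896, nat_lit 139776, nat_lit 136828, nat_lit 132368, nat_lit 46349, nat_lit 28711, nat_lit 327680]⟩
def ndMr9_103 : El := ⟨[nat_lit 0x8d42b74dd077d9a48a980954b30b970a1862, nat_lit 0x59665a710c59d963446826bd87a8249b8550, nat_lit 0x636f920d0f046e229e745da4a0b8c96560d, nat_lit 0x82242b84d112bc555264ba3080b04ce3dda3], [nat_lit 65536, nat_lit 73728, nat_lit 86016, nat_lit 90112, nat_lit 94208, nat_lit 98304, nat_lit 102400, nat_lit 178176, nat_lit 175104, nat_lit 169472, nat_lit 164096, nat_lit 162944, nat_lit 157824, nat_lit 153856, nat_lit 148960, nat_lit 145568, nat_lit 141892, nat_lit 136124, nat_lit 133703, nat_lit 1334, nat_lit 5832, nat_lit 10008, nat_lit 14816, nat_lit 18560, nat_lit 22720, nat_lit 27776, nat_lit 31232, nat_lit 35328, nat_lit 38912, nat_lit 46862, nat_lit 41807, nat_lit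 37891, nat_lit 32949, nat_lit 28699, nat_lit 24611, nat_lit 20573, nat_lit 16419, nat_lit 12307, nat_lit 8193, nat_lit 4105, nat_lit 438281, nat_lit 421894, nat_lit 413700, nat_lit 405506, nat_lit 397312, nat_lit 158208, nat_lit 152256, nat_lit 147616, nat_lit 143440, nat_lit 139480, nat_lit 135268, nat_lit 131164, nat_lit 41558, nat_lit 32907, nat_lit 327680]⟩
def ndMr9_104 : El := ⟨[nat_lit 0x999f034dce365a1574485a19029356a9bc01, nat_lit 0x696f036cca4441c9b856710e2c500d47da55, nat_lit 0x9a0f55184405a9288c272b569721ca6635cf], [nat_lit 81920, nat_lit 90112, nat_lit 178176, nat_lit 175104, nat_lit 168448, nat_lit 165888, nat_lit 160256, nat_lit 158656, nat_lit 152864, nat_lit 148528, nat_lit 145752, nat_lit 143080, nat_lit 135840, nat_lit 132462, nat_lit 2332, nat_lit 7536, nat_lit 10240, nat_lit 12560, nat_lit 18880, nat_lit 22592, nat_lit 29952, nat_lit 35328, nat_lit 38912, nat_lit 46948, nat_lit 43935, nat_lit 37375, nat_lit 33359, nat_lit 28686, nat_lit 24638, nat_lit 20554,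 nat_lit 16385, nat_lit 12352, nat_lit 8200, nat_lit 4100, nat_lit 16, nat_lit 425990, nat_lit 413700, nat_lit 405506, nat_lit 397312, nat_lit 151808, nat_lit 147744, nat_lit 143648, nat_lit 139640, nat_lit 135424, nat_lit 131404, nat_lit 45071, nat_lit 40985, nat_lit 36928, nat_lit 28693]⟩
def ndMr9_105 : El := ⟨[nat_lit 0x877d7ba16f3505f563a44144e034168b0da9, nat_lit 0x95a59c69817531d229d30b4514a902f9886b, nat_lit 0xeb111e812a7485e514683736f2031469ad16, nat_lit 0xde288b13c35622e9044eaa4a0d98d64758c5], [nat_lit 73728, nat_lit 86016, nat_lit 110592, nat_lit 178176, nat_lit 175104, nat_lit 157760, nat_lit 152864, nat_lit 149760, nat_lit 144384, nat_lit 142692, nat_lit 135220, nat_lit 133537, nat_lit 3012, nat_lit 6748, nat_lit 8200, nat_lit 15552, nat_lit 17472, nat_lit 22272, nat_lit 29952, nat_lit 35328, nat_lit 38912, nat_lit 43008, nat_lit 46801, nat_lit 41889, nat_lit 38385, nat_lit 34020, nat_lit 29742, nat_lit 24611, nat_lit 20493, nat_lit 16396, nat_lit 12307, nat_lit 8202,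 nat_lit 4, nat_lit 430088, nat_lit 421894, nat_lit 413700, nat_lit 405506, nat_lit 397312, nat_lit 155904, nat_lit 152384, nat_lit 147936, nat_lit 143472, nat_lit 139920, nat_lit 135236, nat_lit 131110, nat_lit 45718, nat_lit 41045]⟩
def ndMr9_106 : El := ⟨[nat_lit 0x1e1d7844187208b749a6f1d16a886b2b35c0, nat_lit 0xa6a0a5dc74ab8f37b4281148a4821164ac6, nat_lit 0x1b22446a5f49597105c4a320b59b0813c1c3], [nat_lit 69632, nat_lit 77824, nat_lit 86016, nat_lit 90112, nat_lit 94208, nat_lit 98304, nat_lit 102400, nat_lit 106496, nat_lit 110592, nat_lit 178176, nat_lit 173056, nat_lit 168960, nat_lit 167424, nat_lit 163456, nat_lit 157504, nat_lit 152096, nat_lit 148784, nat_lit 146176, nat_lit 142220, nat_lit 136238, nat_lit 131969, nat_lit 294, nat_lit 5632, nat_lit 12224, nat_lit 13680, nat_lit 17952, nat_lit 20992, nat_lit 26496, nat_lit 31232, nat_lit 35328, nat_lit 38912, nat_lit 43008, nat_lit 46665, nat_lit 43596, nat_lit 38987, nat_lit 32944, nat_lit 28733, nat_lit 26678, nat_lit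 20554, nat_lit 16419, nat_lit 12359, nat_lit 8208, nat_lit 4101, nat_lit 425991, nat_lit 413700, nat_lit 405506, nat_lit 397312, nat_lit 151808, nat_lit 147616, nat_lit 143520, nat_lit 135608, nat_lit 131230, nat_lit 45088, nat_lit 41235, nat_lit 37255, nat_lit 24629, nat_lit 327680]⟩
def ndMr9_107 : El := ⟨[nat_lit 0x99cac5b19152c572a404cbcde36a9c40a407, nat_lit 0x33a5553012a4428e6ae353ce422b02f25ae3, nat_lit 0xa6ff36926d07550fa086a0b667600d1baca4, nat_lit 0xc0f9a67b9601cd103b6f1208ca486952b256], [nat_lit 65536, nat_lit 77824, nat_lit 94208, nat_lit 106496, nat_lit 174080, nat_lit 171520, nat_lit 164096, nat_lit 160128, nat_lit 157248, nat_lit 155584, nat_lit 148592, nat_lit 145328, nat_lit 141380, nat_lit 138798, nat_lit 131354, nat_lit 898, nat_lit 5316, nat_lit 10744, nat_lit 13632, nat_lit 17088, nat_lit 21184, nat_lit 27392, nat_lit 32256, nat_lit 33792, nat_lit 45817, nat_lit 41300, nat_lit 39295, nat_lit 32773, nat_lit 29185, nat_lit 25603, nat_lit 20491, nat_lit 16453,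 nat_lit 12326, nat_lit 8203, nat_lit 4100, nat_lit 438282, nat_lit 430088, nat_lit 421894, nat_lit 413700, nat_lit 405506, nat_lit 397312, nat_lit 171008, nat_lit 167424, nat_lit 160000, nat_lit 157440, nat_lit 154560, nat_lit 151296, nat_lit 143808, nat_lit 139520, nat_lit 135988, nat_lit 131892]⟩
def ndMr9_108 : El := ⟨[nat_lit 0x81221e282cd15dc45ce30385f44264a3546c, nat_lit 0x2b174798e9202ae88a58782c8d2d4c27d9c1, nat_lit 0xb428de71577148c70266ab50317d5041c18d, nat_lit 0x1d1b4d1289562d11350297de160486d29dd3], [nat_lit 69632, nat_lit 86016, nat_lit 90112, nat_lit 94208, nat_lit 110592, nat_lit 173056, nat_lit 171520, nat_lit 164352, nat_lit 162944, nat_lit 155712, nat_lit 154816, nat_lit 148032, nat_lit 146608, nat_lit 142160, nat_lit 138200, nat_lit 131984, nat_lit 3676, nat_lit 5204, nat_lit 11368, nat_lit 15344, nat_lit 17344, nat_lit 24512, nat_lit 27392, nat_lit 29440, nat_lit 39936, nat_lit 43008, nat_lit 47097, nat_lit 43919, nat_lit 38912, nat_lit 33493, nat_lit 29196,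 nat_lit 24597, nat_lit 20617, nat_lit 16393, nat_lit 12292, nat_lit 8193, nat_lit 438282, nat_lit 430088, nat_lit 421894, nat_lit 413700, nat_lit 405506, nat_lit 397312, nat_lit 174080, nat_lit 168960, nat_lit 165888, nat_lit 162304, nat_lit 156928, nat_lit 155008, nat_lit 149472, nat_lit 145328, nat_lit 142912, nat_lit 137516, nat_lit 132248]⟩
def ndMr9_109 : El := ⟨[nat_lit 0x272d275a9c0311e24de65a9d1280591b506d, nat_lit 0x900cc3bb66e61d221a9e48028144acba9a25], [nat_lit 69632, nat_lit 73728, nat_lit 77824, nat_lit 86016, nat_lit 98304, nat_lit 110592, nat_lit 178176, nat_lit 175104, nat_lit 168960, nat_lit 166400, nat_lit 160000, nat_lit 156032, nat_lit 153056, nat_lit 150624, nat_lit 143648, nat_lit 140184, nat_lit 136462, nat_lit 134775, nat_lit 2632, nat_lit 5896, nat_lit 12032, nat_lit 15616, nat_lit 20064, nat_lit 24384, nat_lit 27136, nat_lit 29952, nat_lit 34304, nat_lit 45340, nat_lit 40984, nat_lit 37091, nat_lit 34838, nat_lit 28711, nat_lit 24610, nat_lit 20559, nat_lit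 17418, nat_lit 12291, nat_lit 8227, nat_lit 4100, nat_lit 8, nat_lit 413700, nat_lit 405505, nat_lit 147488, nat_lit 143392, nat_lit 135184, nat_lit 40962, nat_lit 36880, nat_lit 32826, nat_lit 28680, nat_lit 24634, nat_lit 327680]⟩
def ndMr9_110 : El := ⟨[nat_lit 0x71882871ca3342a8b5182b91317a96104a6d, nat_lit 0x3cc3c9336a94168f8ac0a7418198c8715af2, nat_lit 0xb77bd26148ebce54698ef1a00a1242bada30], [nat_lit 65536, nat_lit 69632, nat_lit 81920, nat_lit 94208, nat_lit 98304, nat_lit 102400, nat_lit 110592, nat_lit 171520, nat_lit 166656, nat_lit 160384, nat_lit 158016, nat_lit 155488, nat_lit 148336, nat_lit 145808, nat_lit 139992, nat_lit 135266, nat_lit 132511, nat_lit 1106, nat_lit 5412, nat_lit 8568, nat_lit 16064, nat_lit 17408, nat_lit 22784, nat_lit 27904, nat_lit 29184, nat_lit 37888, nat_lit 43008, nat_lit 46804, nat_lit 41069, nat_lit 39205, nat_lit 33009, nat_lit 28764, nat_lit 24723, nat_lit 20493, nat_lit 16387, nat_lit 12325, nat_lit 8226, nat_lit 4097, nat_lit 2,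 nat_lit 425991, nat_lit 413700, nat_lit 405506, nat_lit 397312, nat_lit 151808, nat_lit 147744, nat_lit 143616, nat_lit 139280, nat_lit 135444, nat_lit 131202, nat_lit 45071, nat_lit 40976, nat_lit 36867, nat_lit 24581]⟩
def ndMr9_111 : El := ⟨[nat_lit 0x724d4728cd2a4c558b02e02a0b436e43bd36, nat_lit 0xe2722e4284405a876bc25ba64e1ccd08d58b, nat_lit 0x9fa5c690cc9da171a9611200979dc5aca91], [nat_lit 69632, nat_lit 94208, nat_lit 178176, nat_lit 173056, nat_lit 171008, nat_lit 160384, nat_lit 159168, nat_lit 152160, nat_lit 148688, nat_lit 146488, nat_lit 141628, nat_lit 138412, nat_lit 134384, nat_lit 1242, nat_lit 7224, nat_lit 8256, nat_lit 13008, nat_lit 17088, nat_lit 21184, nat_lit 27136, nat_lit 32512, nat_lit 35840, nat_lit 38912, nat_lit 46976, nat_lit 43601, nat_lit 36938, nat_lit 32969, nat_lit 28741, nat_lit 24635, nat_lit 20561, nat_lit 16454, nat_lit 12310, nat_lit 8210, nat_lit 4100, nat_lit 2, nat_lit 430088, nat_lit 421893, nat_lit 409602, nat_lit 397312, nat_lit 152448,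 nat_lit 147840, nat_lit 139792, nat_lit 45061, nat_lit 40981, nat_lit 24581, nat_lit 12290]⟩
def ndMr9_112 : El := ⟨[nat_lit 0x771b18039919d8770c14b21c52a25a5454cf, nat_lit 0xbd4b111cdcf82160b914d144e62a6ac95834, nat_lit 0xf9af956a226052d7a8c418298571d3223d73], [nat_lit 69632, nat_lit 86016, nat_lit 94208, nat_lit 98304, nat_lit 102400, nat_lit 178176, nat_lit 175104, nat_lit 171008, nat_lit 166144, nat_lit 160000, nat_lit 158720, nat_lit 153216, nat_lit 150560, nat_lit 144000, nat_lit 140364, nat_lit 136350, nat_lit 133136, nat_lit 1172, nat_lit 6852, nat_lit 10016, nat_lit 13504, nat_lit 18944, nat_lit 22784, nat_lit 26368, nat_lit 28928, nat_lit 35840, nat_lit 39936, nat_lit 43008, nat_lit 47007, nat_lit 41910, nat_lit 37899, nat_lit 33423, nat_lit 28708, nat_lit 24632, nat_lit 16399, nat_lit 12310, nat_lit 8211, nat_lit 4113, nat_lit 421894, nat_lit 413700, nat_lit 405506, nat_lit 397312, nat_lit 151744, nat_lit 139376, nat_lit 135340, nat_lit 131248, nat_lit 45177, nat_lit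 41139, nat_lit 36928, nat_lit 32994, nat_lit 327680]⟩
def ndMr9_113 : El := ⟨[nat_lit 0x12b184395a2a8eef9512402d8a7063032276, nat_lit 0xbd88b48b288b39522dc75040936bce232d21, nat_lit 0x9f56fa69de6ac6d095e930ac49231c50206a], [nat_lit 65536, nat_lit 77824, nat_lit 81920, nat_lit 86016, nat_lit 90112, nat_lit 98304, nat_lit 102400, nat_lit 106496, nat_lit 175104, nat_lit 164608, nat_lit 163072, nat_lit 159040, nat_lit 153184, nat_lit 148320, nat_lit 147376, nat_lit 141100, nat_lit 136986, nat_lit 133767, nat_lit 506, nat_lit 7172, nat_lit 10672, nat_lit 13744, nat_lit 16480, nat_lit 22784, nat_lit 27776, nat_lit 29696, nat_lit 33280, nat_lit 43008, nat_lit 45845, nat_lit 41030, nat_lit 37317, nat_lit 32880, nat_lit 28711, nat_lit 24859, nat_lit 20483, nat_lit 16390, nat_lit 12353, nat_lit 8211, nat_lit 4097, nat_lit 2, nat_lit 425991, nat_lit 417797, nat_lit 409603, nat_lit 397312, nat_lit 156032, nat_lit 151808, nat_lit 147936, nat_lit 143488, nat_lit 135312, nat_lit 131282, nat_lit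 45066, nat_lit 41088, nat_lit 37011, nat_lit 8193]⟩
def ndMr9_114 : El := ⟨[nat_lit 0x877d8403da1441312d0f6a989754d72609c3, nat_lit 0x563393b29703a5e0a1226ab5924144e98ee1, nat_lit 0x78b12e0aecf2a51300cd1b9e5562a82239b0], [nat_lit 69632, nat_lit 77824, nat_lit 86016, nat_lit 98304, nat_lit 106496, nat_lit 110592, nat_lit 178176, nat_lit 173056, nat_lit 169984, nat_lit 164608, nat_lit 161280, nat_lit 157952, nat_lit 152704, nat_lit 148032, nat_lit 144568, nat_lit 142672, nat_lit 137592, nat_lit 134772, nat_lit 2390, nat_lit 7996, nat_lit 8416, nat_lit 12432, nat_lit 17440, nat_lit 22400, nat_lit 27008, nat_lit 30976, nat_lit 35328, nat_lit 38912, nat_lit 43008, nat_lit 45705, nat_lit 41248, nat_lit 37237, nat_lit 33436, nat_lit 28682, nat_lit 24878, nat_lit 20765, nat_lit 16390, nat_lit 12423, nat_lit 8195, nat_lit 4100, nat_lit 425990, nat_lit 413700, nat_lit 405506, nat_lit 397312, nat_lit 151616, nat_lit 147488, nat_lit 143648, nat_lit 139336, nat_lit 135520, nat_lit 131378,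 nat_lit 45090, nat_lit 37210, nat_lit 28729]⟩
def ndMr9_115 : El := ⟨[nat_lit 0x2777ee981c964828b954ba9e117d9a619054, nat_lit 0xac59695a50a314e4b56f4080437b58e84672], [nat_lit 94208, nat_lit 106496, nat_lit 173056, nat_lit 171520, nat_lit 164352, nat_lit 160640, nat_lit 157952, nat_lit 155520, nat_lit 150848, nat_lit 144112, nat_lit 140880, nat_lit 136786, nat_lit 134278, nat_lit 256, nat_lit 6400, nat_lit 10552, nat_lit 13424, nat_lit 17312, nat_lit 24128, nat_lit 26624, nat_lit 31232, nat_lit 35840, nat_lit 43008, nat_lit 46340, nat_lit 41847, nat_lit 38078, nat_lit 33497, nat_lit 29223, nat_lit 24735, nat_lit 20559, nat_lit 16420, nat_lit 12306, nat_lit 8194, nat_lit 425989, nat_lit 409600, nat_lit 151808, nat_lit 147744, nat_lit 131088, nat_lit 40976, nat_lit 28688, nat_lit 12289, nat_lit 8193, nat_lit 4097]⟩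
def ndMr9_116 : El := ⟨[nat_lit 0x72e77eb1c2984a6db88aaa9900592838b9ec, nat_lit 0xd1b117a4c4b735e51c6c839984502154c837, nat_lit 0xaa906fb86c3790ac829738c909399aea0815], [nat_lit 65536, nat_lit 69632, nat_lit 77824, nat_lit 90112, nat_lit 94208, nat_lit 98304, nat_lit 110592, nat_lit 178176, nat_lit 175104, nat_lit 168448, nat_lit 163072, nat_lit 157568, nat_lit 154432, nat_lit 149568, nat_lit 146264, nat_lit 142228, nat_lit 135528, nat_lit 132340, nat_lit 2050, nat_lit 6672, nat_lit 11408, nat_lit 13568, nat_lit 18976, nat_lit 21888, nat_lit 28288, nat_lit 31744, nat_lit 33792, nat_lit 39936, nat_lit 43008, nat_lit 45695, nat_lit 41555, nat_lit 37339, nat_lit 32785, nat_lit 28790, nat_lit 24626, nat_lit 20561, nat_lit 16460, nat_lit 12311, nat_lit 8193, nat_lit 4113, nat_lit 2, nat_lit 425988, nat_lit 405506, nat_lit 397312, nat_lit 143616, nat_lit 139520, nat_lit 135424, nat_lit 131074, nat_lit 45071, nat_lit 40986, nat_lit 36873, nat_lit 28697, nat_lit 24586, nat_lit 20497,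 nat_lit 327680]⟩
def ndMr9_117 : El := ⟨[nat_lit 0x5c65c33352e188aab4c0fbd08b92227832a1, nat_lit 0x14bb2723435798179aa1192d097506561c56], [nat_lit 65536, nat_lit 69632, nat_lit 73728, nat_lit 86016, nat_lit 90112, nat_lit 98304, nat_lit 102400, nat_lit 106496, nat_lit 110592, nat_lit 178176, nat_lit 164608, nat_lit 161792, nat_lit 156416, nat_lit 153632, nat_lit 147840, nat_lit 145392, nat_lit 141960, nat_lit 135504, nat_lit 131976, nat_lit 2280, nat_lit 8024, nat_lit 8744, nat_lit 15840, nat_lit 18272, nat_lit 20672, nat_lit 24704, nat_lit 30464, nat_lit 36352, nat_lit 39936, nat_lit 43008, nat_lit 46599, nat_lit 41302, nat_lit 37299, nat_lit 32793, nat_lit 29213, nat_lit 24586, nat_lit 20629, nat_lit 16428, nat_lit 12320, nat_lit 8211, nat_lit 4104, nat_lit 425987, nat_lit 397312, nat_lit 143616, nat_lit 135432, nat_lit 131080, nat_lit 40961, nat_lit 36866, nat_lit 28674, nat_lit 24577, nat_lit 20481, nat_lit 327680]⟩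
def ndMg10_0 : El := ⟨[nat_lit 0xbbbeb290043bb0a9aa9a4322ce0ce117d167, nat_lit 0x39a6c3a95a955c8cb1d6e80e51451e610033, nat_lit 0xf90a5c49dc2a8472340962a00fa2971bb66c], [nat_lit 69632, nat_lit 81920, nat_lit 86016, nat_lit 90112, nat_lit 94208, nat_lit 98304, nat_lit 102400, nat_lit 178176, nat_lit 171008, nat_lit 166656, nat_lit 162304, nat_lit 157248, nat_lit 155264, nat_lit 150656, nat_lit 144592, nat_lit 140348, nat_lit 139256, nat_lit 133218, nat_lit 542, nat_lit 5204, nat_lit 10920, nat_lit 14704, nat_lit 19264, nat_lit 20608, nat_lit 26880, nat_lit 31744, nat_lit 34304, nat_lit 39936, nat_lit 45304, nat_lit 41474, nat_lit 37081, nat_lit 32849, nat_lit 28760, nat_lit 24629, nat_lit 20557, nat_lit 16390, nat_lit 12323, nat_lit 8209, nat_lit 413700, nat_lit 405506, nat_lit 397312, nat_lit 143376, nat_lit 139280, nat_lit 135204, nat_lit 131100, nat_lit 45088, nat_lit 32787, nat_lit 24597]⟩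
def ndMg10_1 : El := ⟨[nat_lit 0xe11288a1500b3a7525c298a9eb330f26c043, nat_lit 0x2e41e7b5e8e2c5613a4127b1b55185322070, nat_lit 0x95ff5542ab764dd0204677c9b14aed411406], [nat_lit 65536, nat_lit 69632, nat_lit 73728, nat_lit 94208, nat_lit 98304, nat_lit 102400, nat_lit 171008, nat_lit 166656, nat_lit 163200, nat_lit 154048, nat_lit 148032, nat_lit 146792, nat_lit 140188, nat_lit 137134, nat_lit 134844, nat_lit 3464, nat_lit 7424, nat_lit 8208, nat_lit 13200, nat_lit 18368, nat_lit 23104, nat_lit 25216, nat_lit 29440, nat_lit 33792, nat_lit 38912, nat_lit 45195, nat_lit 41481, nat_lit 37926, nat_lit 32962, nat_lit 28761, nat_lit 24717, nat_lit 20498, nat_lit 16431, nat_lit 12290, nat_lit 4104, nat_lit 425988, nat_lit 405506, nat_lit 397312, nat_lit 143632, nat_lit 139520, nat_lit 135436, nat_lit 131336, nat_lit 45071, nat_lit 40976, nat_lit 36873, nat_lit 28688, nat_lit 24581, nat_lit 20511, nat_lit 327680]⟩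
def ndMg10_2 : El := ⟨[nat_lit 0x69c53aac246192c159e898b942021b3b95ec, nat_lit 0x1bd2b422254326d33de2b828b503dcd13061, nat_lit 0x14888d099854bd406d2e2b1d7093871acd04], [nat_lit 69632, nat_lit 86016, nat_lit 94208, nat_lit 102400, nat_lit 110592, nat_lit 174080, nat_lit 169472, nat_lit 167168, nat_lit 162176, nat_lit 158144, nat_lit 151648, nat_lit 148928, nat_lit 145960, nat_lit 139400, nat_lit 135850, nat_lit 134677, nat_lit 3156, nat_lit 4664, nat_lit 11384, nat_lit 15136, nat_lit 18112, nat_lit 23616, nat_lit 25728, nat_lit 29696, nat_lit 39936, nat_lit 43008, nat_lit 46718, nat_lit 41018, nat_lit 39189, nat_lit 33442, nat_lit 28986, nat_lit 24712, nat_lit 20552, nat_lit 16397, nat_lit 12309, nat_lit 8193, nat_lit 425988, nat_lit 405506, nat_lit 397312, nat_lit 139536, nat_lit 131356, nat_lit 45342, nat_lit 40980, nat_lit 37126, nat_lit 28673, nat_lit 24577, nat_lit 20481, nat_lit 327680]⟩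
def ndMg10_3 : El := ⟨[nat_lit 0x6f59faa5e66821653c9af602a90907150ace, nat_lit 0x6f5a3b18338c1c86d17553ce4016f24b043, nat_lit 0x5330f56c2ef0a9871390695803292344ae75], [nat_lit 77824, nat_lit 81920, nat_lit 90112, nat_lit 94208, nat_lit 102400, nat_lit 175104, nat_lit 168448, nat_lit 167424, nat_lit 155968, nat_lit 155328, nat_lit 151056, nat_lit 143728, nat_lit 142432, nat_lit 135666, nat_lit 131524, nat_lit 2956, nat_lit 7364, nat_lit 11968, nat_lit 13632, nat_lit 19008, nat_lit 22592, nat_lit 28544, nat_lit 29952, nat_lit 33792, nat_lit 37888, nat_lit 43008, nat_lit 46878, nat_lit 41823, nat_lit 37312, nat_lit 32951, nat_lit 29037, nat_lit 24731, nat_lit 20481, nat_lit 16526, nat_lit 8194, nat_lit 4097, nat_lit 2, nat_lit 425991, nat_lit 417797, nat_lit 409603, nat_lit 397312, nat_lit 155904, nat_lit 147648, nat_lit 143440, nat_lit 135280, nat_lit 131344, nat_lit 45537, nat_lit 41041, nat_lit 37336, nat_lit 327680]⟩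
def ndMg10_4 : El := ⟨[nat_lit 0x7814187ada3490a0a06e854051ac9c6b30f3, nat_lit 0x66ac56024d69b5cfa144b09d1593211b906a, nat_lit 0x18e8249a2910c8adba5cf0120c51cd5b086b], [nat_lit 77824, nat_lit 90112, nat_lit 94208, nat_lit 98304, nat_lit 106496, nat_lit 169984, nat_lit 165376, nat_lit 157440, nat_lit 154816, nat_lit 149344, nat_lit 143416, nat_lit 141700, nat_lit 136792, nat_lit 132653, nat_lit 372, nat_lit 6012, nat_lit 9776, nat_lit 14912, nat_lit 18400, nat_lit 22528, nat_lit 26880, nat_lit 29440, nat_lit 34304, nat_lit 37888, nat_lit 43008, nat_lit 45583, nat_lit 41803, nat_lit 37118, nat_lit 32929, nat_lit 28686, nat_lit 24618, nat_lit 20556, nat_lit 16904, nat_lit 12289, nat_lit 8210, nat_lit 4113, nat_lit 413700, nat_lit 405506, nat_lit 397312, nat_lit 143376, nat_lit 139280, nat_lit 135204, nat_lit 131100, nat_lit 45088, nat_lit 32787, nat_lit 24597, nat_lit 327680]⟩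
def ndMr10_0 : El := ⟨[nat_lit 0xd47edb50ec9a4a02302e499dc88958b0d5af, nat_lit 0xc356f4a8047a27571c2da317230ef688a05, nat_lit 0xcf0959416cf2020651eac68dd14cd61bd242, nat_lit 0x3603fa0d6901a2695dc8c3baca2c4c093c4d], [nat_lit 69632, nat_lit 77824, nat_lit 86016, nat_lit 98304, nat_lit 102400, nat_lit 110592, nat_lit 168448, nat_lit 165120, nat_lit 155968, nat_lit 153088, nat_lit 148544, nat_lit 140000, nat_lit 132208, nat_lit 1104, nat_lit 5916, nat_lit 9856, nat_lit 15328, nat_lit 16416, nat_lit 22336, nat_lit 24832, nat_lit 29696, nat_lit 34304, nat_lit 37888, nat_lit 45649, nat_lit 41893, nat_lit 36972, nat_lit 34004, nat_lit 28673, nat_lit 24852, nat_lit 20507, nat_lit 16390, nat_lit 12326, nat_lit 8200, nat_lit 4112, nat_lit 4, nat_lit 438281, nat_lit 421894, nat_lit 413700, nat_lit 405506, nat_lit 397312, nat_lit 169984, nat_lit 162304, nat_lit 158208, nat_lit 153728, nat_lit 149568, nat_lit 145488, nat_lit 139328, nat_lit 137804, nat_lit 131190, nat_lit 41605, nat_lit 32941]⟩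
def ndMr10_1 : El := ⟨[nat_lit 0x48dee47a8e3ac253401a672c2523122b5e34, nat_lit 0x3a3965339b2204532da9005d4c5bc753c509, nat_lit 0x78ebe7736d598e022190a65df4944203952b], [nat_lit 65536, nat_lit 69632, nat_lit 73728, nat_lit 77824, nat_lit 81920, nat_lit 86016, nat_lit 90112, nat_lit 94208, nat_lit 98304, nat_lit 110592, nat_lit 178176, nat_lit 174080, nat_lit 171520, nat_lit 164864, nat_lit 160256, nat_lit 159232, nat_lit 153952, nat_lit 149040, nat_lit 145008, nat_lit 140628, nat_lit 136672, nat_lit 134558, nat_lit 1402, nat_lit 4264, nat_lit 8424, nat_lit 14144, nat_lit 19744, nat_lit 22528, nat_lit 25984, nat_lit 30208, nat_lit 33792, nat_lit 37888, nat_lit 43008, nat_lit 45285, nat_lit 41220, nat_lit 36910, nat_lit 33873, nat_lit 30830, nat_lit 24858, nat_lit 20487, nat_lit 16391, nat_lit 12294, nat_lit 4105, nat_lit 2, nat_lit 430088, nat_lit 413700, nat_lit 405506, nat_lit 397312, nat_lit 151808, nat_lit 147744, nat_lit 144128, nat_lit 139808, nat_lit 135448, nat_lit 131114,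 nat_lit 45071, nat_lit 41491, nat_lit 28703, nat_lit 24591]⟩
def ndMr10_2 : El := ⟨[nat_lit 0x4d44118b96d0cc693bc172aa4461ac2ad110, nat_lit 0x7741d150d1705253159ac71a2b7a4b0092a7, nat_lit 0xc0935408e498531bb2056b86b93cd555814, nat_lit 0x8b2177619d1991495b6c281e97904a378115], [nat_lit 77824, nat_lit 86016, nat_lit 98304, nat_lit 102400, nat_lit 110592, nat_lit 178176, nat_lit 174080, nat_lit 169984, nat_lit 163456, nat_lit 159168, nat_lit 153952, nat_lit 147952, nat_lit 146344, nat_lit 142100, nat_lit 137726, nat_lit 134645, nat_lit 2766, nat_lit 8008, nat_lit 10424, nat_lit 13984, nat_lit 19520, nat_lit 20800, nat_lit 28160, nat_lit 29184, nat_lit 34304, nat_lit 45093, nat_lit 41552, nat_lit 38363, nat_lit 32977, nat_lit 29033, nat_lit 24889, nat_lit 16524, nat_lit 12291, nat_lit 8211, nat_lit 4100, nat_lit 430088, nat_lit 421894, nat_lit 413700, nat_lit 405506, nat_lit 397312, nat_lit 160512, nat_lit 156160, nat_lit 151936, nat_lit 147776, nat_lit 144368, nat_lit 140120, nat_lit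 135732, nat_lit 131334, nat_lit 45328, nat_lit 41216]⟩
def ndMr10_3 : El := ⟨[nat_lit 0x21d87b9aaa159d2c9091679697199c02460d, nat_lit 0xaa6f9023406b48eb74223431227dc352ce8a, nat_lit 0x3c5a5a7504f9ada54546ab9027042d191989, nat_lit 0x88ebe88d92e350750116855db09c84563c27], [nat_lit 65536, nat_lit 69632, nat_lit 73728, nat_lit 81920, nat_lit 90112, nat_lit 94208, nat_lit 102400, nat_lit 106496, nat_lit 110592, nat_lit 178176, nat_lit 174080, nat_lit 170496, nat_lit 165888, nat_lit 162944, nat_lit 159360, nat_lit 153600, nat_lit 149120, nat_lit 145632, nat_lit 142192, nat_lit 135174, nat_lit 131332, nat_lit 3786, nat_lit 5688, nat_lit 10336, nat_lit 13312, nat_lit 16544, nat_lit 22784, nat_lit 27648, nat_lit 33792, nat_lit 43008, nat_lit 46824, nat_lit 43407, nat_lit 36968, nat_lit 32835, nat_lit 30728, nat_lit 24744, nat_lit 20611, nat_lit 16386, nat_lit 12358, nat_lit 8194, nat_lit 4097, nat_lit 2, nat_lit 434184, nat_lit 421894, nat_lit 413700, nat_lit 405506, nat_lit 397312, nat_lit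 164864, nat_lit 160000, nat_lit 156800, nat_lit 151872, nat_lit 148960, nat_lit 143664, nat_lit 139728, nat_lit 135596, nat_lit 131330, nat_lit 45068, nat_lit 36935]⟩
def ndMr10_4 : El := ⟨[nat_lit 0x7e4b8292cd6a95117254114e0fb8d94680e4, nat_lit 0xa93393209f2a4e2a0a4161960ea9cc8bb56c, nat_lit 0xb472e8b02f45cc8f8990d6160a18835925c7, nat_lit 0x55906f3124a158ac020315ceb76c12fa0cee], [nat_lit 73728, nat_lit 81920, nat_lit 90112, nat_lit 94208, nat_lit 106496, nat_lit 178176, nat_lit 173056, nat_lit 165632, nat_lit 161024, nat_lit 158144, nat_lit 154496, nat_lit 148352, nat_lit 146576, nat_lit 142312, nat_lit 135706, nat_lit 132215, nat_lit 752, nat_lit 7316, nat_lit 9640, nat_lit 15520, nat_lit 18208, nat_lit 23424, nat_lit 25856, nat_lit 31488, nat_lit 35840, nat_lit 37888, nat_lit 46634, nat_lit 41676, nat_lit 38241, nat_lit 33009, nat_lit 28958, nat_lit 24736, nat_lit 20621, nat_lit 16646, nat_lit 12355, nat_lit 8195, nat_lit 438280, nat_lit 421894, nat_lit 413700, nat_lit 405506,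 nat_lit 397312, nat_lit 161792, nat_lit 157824, nat_lit 153920, nat_lit 147936, nat_lit 145552, nat_lit 139488, nat_lit 137244, nat_lit 131188, nat_lit 41077, nat_lit 37049]⟩
def ndMr10_5 : El := ⟨[nat_lit 0x44be4d5d0ca006e7715951bd33844969204d, nat_lit 0x3399f04260704883129b52c6960dd6e9b0cf, nat_lit 0x1ed1d269de2a8cb74856681260a3228959ca, nat_lit 0x95559390980890eeb8d25586a66ce96441ea], [nat_lit 81920, nat_lit 86016, nat_lit 90112, nat_lit 94208, nat_lit 102400, nat_lit 106496, nat_lit 110592, nat_lit 174080, nat_lit 168960, nat_lit 166912, nat_lit 163712, nat_lit 155904, nat_lit 154112, nat_lit 150032, nat_lit 144432, nat_lit 140424, nat_lit 138962, nat_lit 134836, nat_lit 3486, nat_lit 4156, nat_lit 9648, nat_lit 15152, nat_lit 17856, nat_lit 22144, nat_lit 27904, nat_lit 29696, nat_lit 39936, nat_lit 45469, nat_lit 41456, nat_lit 37108, nat_lit 33995, nat_lit 28708, nat_lit 24624, nat_lit 20492, nat_lit 16386, nat_lit 12291, nat_lit 8195, nat_lit 4100, nat_lit 2, nat_lit 438280,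 nat_lit 421894, nat_lit 413700, nat_lit 405506, nat_lit 397312, nat_lit 157696, nat_lit 153856, nat_lit 149824, nat_lit 145536, nat_lit 139432, nat_lit 135316, nat_lit 131096, nat_lit 41003, nat_lit 36919]⟩
def ndMr10_6 : El := ⟨[nat_lit 0xd2d1b111a0e28193bbda895551259271868b, nat_lit 0xdd2e412be26149a0a906a72570a4d9645ce1, nat_lit 0x656636b4026445d359cac4ddf4ac8830284d, nat_lit 0x939f922d32530142ded074de7118714542d], [nat_lit 81920, nat_lit 86016, nat_lit 90112, nat_lit 94208, nat_lit 98304, nat_lit 178176, nat_lit 168960, nat_lit 165120, nat_lit 160512, nat_lit 159552, nat_lit 152640, nat_lit 148864, nat_lit 145240, nat_lit 139600, nat_lit 135644, nat_lit 131180, nat_lit 1006, nat_lit 7680, nat_lit 11088, nat_lit 12608, nat_lit 18112, nat_lit 23232, nat_lit 26112, nat_lit 31744, nat_lit 38912, nat_lit 46161, nat_lit 43715, nat_lit 38072, nat_lit 32802, nat_lit 29781, nat_lit 24632, nat_lit 20545, nat_lit 12321, nat_lit 8320, nat_lit 4100, nat_lit 2, nat_lit 434184, nat_lit 421894,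 nat_lit 413700, nat_lit 405506, nat_lit 397312, nat_lit 156672, nat_lit 151744, nat_lit 147648, nat_lit 143424, nat_lit 140480, nat_lit 135200, nat_lit 131076, nat_lit 46170, nat_lit 36921]⟩
def ndMr10_7 : El := ⟨[nat_lit 0x30c5f3901812c1a451ec312cd57c6f49a50e, nat_lit 0x474787025887d076209a651e379383381575, nat_lit 0xb774dd324ed939112de009d483a594c7882b, nat_lit 0x44eb8ba1c6d9591559a250cd424be0e05c8c], [nat_lit 65536, nat_lit 77824, nat_lit 81920, nat_lit 90112, nat_lit 94208, nat_lit 98304, nat_lit 102400, nat_lit 110592, nat_lit 174080, nat_lit 171008, nat_lit 166912, nat_lit 160128, nat_lit 157440, nat_lit 153952, nat_lit 149872, nat_lit 144168, nat_lit 143196, nat_lit 137408, nat_lit 133990, nat_lit 1860, nat_lit 5312, nat_lit 10976, nat_lit 14928, nat_lit 18784, nat_lit 22080, nat_lit 28288, nat_lit 30976, nat_lit 34304, nat_lit 38912, nat_lit 43008, nat_lit 46148, nat_lit 43306, nat_lit 37066, nat_lit 32948, nat_lit 29022, nat_lit 24614, nat_lit 20566, nat_lit 16395, nat_lit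 12311, nat_lit 8195, nat_lit 4101, nat_lit 4, nat_lit 430088, nat_lit 421894, nat_lit 413700, nat_lit 405506, nat_lit 397312, nat_lit 164352, nat_lit 155904, nat_lit 151936, nat_lit 147648, nat_lit 143568, nat_lit 139304, nat_lit 135864, nat_lit 131350, nat_lit 45399, nat_lit 41229]⟩
def ndMr10_8 : El := ⟨[nat_lit 0x36059ba860259265d5ec838e29d2482c42d, nat_lit 0x563393b249591e2a0baf3a41a05bccc12065, nat_lit 0xa55c350bcc59128b6ce03b9e2803149b0aae, nat_lit 0x60a9054b67531c64badf0100a172a9244596], [nat_lit 69632, nat_lit 106496, nat_lit 178176, nat_lit 173056, nat_lit 168960, nat_lit 164608, nat_lit 161536, nat_lit 159296, nat_lit 154304, nat_lit 151200, nat_lit 143992, nat_lit 142552, nat_lit 135540, nat_lit 133914, nat_lit 508, nat_lit 5844, nat_lit 11632, nat_lit 14544, nat_lit 17664, nat_lit 21504, nat_lit 28416, nat_lit 30720, nat_lit 33792, nat_lit 47048, nat_lit 41267, nat_lit 36952, nat_lit 33825, nat_lit 28741, nat_lit 24618, nat_lit 20488, nat_lit 16386, nat_lit 12320,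 nat_lit 8193, nat_lit 4097, nat_lit 438280, nat_lit 421894, nat_lit 413700, nat_lit 405506, nat_lit 397312, nat_lit 157952, nat_lit 154048, nat_lit 147840, nat_lit 143408, nat_lit 141736, nat_lit 135200, nat_lit 131304, nat_lit 41161, nat_lit 37338, nat_lit 327680]⟩
def ndMr10_9 : El := ⟨[nat_lit 0x88d842526c783c0bb88259a06e634d48d644, nat_lit 0x142d44854b1a002659eea40a6f48e4db118e, nat_lit 0x60655003aac384b71293624d6d8507233d11, nat_lit 0x4deed7b5454b8c209116e8954d6191049df3], [nat_lit 73728, nat_lit 77824, nat_lit 86016, nat_lit 90112, nat_lit 102400, nat_lit 106496, nat_lit 174080, nat_lit 169472, nat_lit 164096, nat_lit 162944, nat_lit 157824, nat_lit 155520, nat_lit 149760, nat_lit 143520, nat_lit 140480, nat_lit 138392, nat_lit 133180, nat_lit 1972, nat_lit 7816, nat_lit 11208, nat_lit 12416, nat_lit 18912, nat_lit 20864, nat_lit 26112, nat_lit 29952, nat_lit 35328, nat_lit 43008, nat_lit 45371, nat_lit 41698, nat_lit 37064, nat_lit 34899, nat_lit 28761, nat_lit 24709, nat_lit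 20748, nat_lit 16454, nat_lit 12289, nat_lit 8226, nat_lit 4097, nat_lit 2, nat_lit 438282, nat_lit 430088, nat_lit 421894, nat_lit 413700, nat_lit 405506, nat_lit 397312, nat_lit 168960, nat_lit 165888, nat_lit 162048, nat_lit 158080, nat_lit 153856, nat_lit 151264, nat_lit 146288, nat_lit 142752, nat_lit 135420, nat_lit 134882]⟩
def ndMr10_10 : El := ⟨[nat_lit 0xf90aa35498283c0868629290d61add3a9e97, nat_lit 0x9affa56be498d9740b8b740a63311503d580, nat_lit 0xe41111744237c2b750ac401d14618b26cd69, nat_lit 0xbdb4116880483e670c5741caaa758b732189], [nat_lit 69632, nat_lit 77824, nat_lit 81920, nat_lit 86016, nat_lit 90112, nat_lit 98304, nat_lit 102400, nat_lit 106496, nat_lit 110592, nat_lit 169472, nat_lit 164864, nat_lit 161792, nat_lit 156480, nat_lit 155200, nat_lit 149360, nat_lit 144400, nat_lit 143192, nat_lit 136232, nat_lit 135164, nat_lit 510, nat_lit 6804, nat_lit 12280, nat_lit 16080, nat_lit 17920, nat_lit 22144, nat_lit 26112, nat_lit 30720, nat_lit 34816, nat_lit 37888,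 nat_lit 45493, nat_lit 41294, nat_lit 37153, nat_lit 33510, nat_lit 28976, nat_lit 24726, nat_lit 20564, nat_lit 16388, nat_lit 12289, nat_lit 8194, nat_lit 4100, nat_lit 8, nat_lit 434185, nat_lit 421894, nat_lit 413700, nat_lit 405506, nat_lit 397312, nat_lit 168960, nat_lit 156672, nat_lit 148032, nat_lit 144016, nat_lit 139856, nat_lit 135408, nat_lit 131678, nat_lit 46678, nat_lit 32907]⟩
def ndMr10_11 : El := ⟨[nat_lit 0x66900c0962c4de13b2002a1d445b5f530dd2, nat_lit 0x12d717728a205241b220b4b4667c6ec3cc95, nat_lit 0xa6995a52c4e8a687930732c116780c4b86ad, nat_lit 0x48b787305232deab14ecc036928c14743dc4], [nat_lit 65536, nat_lit 69632, nat_lit 73728, nat_lit 86016, nat_lit 90112, nat_lit 94208, nat_lit 102400, nat_lit 178176, nat_lit 175104, nat_lit 169984, nat_lit 165120, nat_lit 159872, nat_lit 156224, nat_lit 152320, nat_lit 150064, nat_lit 147032, nat_lit 140816, nat_lit 135704, nat_lit 133710, nat_lit 2852, nat_lit 7060, nat_lit 12272, nat_lit 12960, nat_lit 17248, nat_lit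 21888, nat_lit 27648, nat_lit 32256, nat_lit 35328, nat_lit 46634, nat_lit 41380, nat_lit 39057, nat_lit 33836, nat_lit 28933, nat_lit 24578, nat_lit 20485, nat_lit 16392, nat_lit 12295, nat_lit 8194, nat_lit 438282, nat_lit 430088, nat_lit 421894, nat_lit 413700, nat_lit 405506, nat_lit 397312, nat_lit 174080, nat_lit 171008, nat_lit 161792, nat_lit 157824, nat_lit 155072, nat_lit 150368, nat_lit 146976, nat_lit 141888, nat_lit 135932, nat_lit 327680]⟩
def ndMr10_12 : El := ⟨[nat_lit 0xe8e724b0562ac60901e6e1b64531117531f4, nat_lit 0x6635c5251ac70a0a5a0b68d6460a66fb9c03, nat_lit 0xdd12e461e35992ef8224168dca488c5b0174, nat_lit 0x2877e18ace97095478ea82864023590bcec6], [nat_lit 65536, nat_lit 69632, nat_lit 73728, nat_lit 77824, nat_lit 81920, nat_lit 94208, nat_lit 98304, nat_lit 106496, nat_lit 110592, nat_lit 178176, nat_lit 173056, nat_lit 168448, nat_lit 165632, nat_lit 162688, nat_lit 155968, nat_lit 152032, nat_lit 148800, nat_lit 147376, nat_lit 141900, nat_lit 138374, nat_lit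 131215, nat_lit 452, nat_lit 7288, nat_lit 8704, nat_lit 14496, nat_lit 19936, nat_lit 21504, nat_lit 28288, nat_lit 29696, nat_lit 34304, nat_lit 37888, nat_lit 43008, nat_lit 46999, nat_lit 41114, nat_lit 39317, nat_lit 32791, nat_lit 28740, nat_lit 24723, nat_lit 20509, nat_lit 16386, nat_lit 12325, nat_lit 8193, nat_lit 4113, nat_lit 2, nat_lit 438282, nat_lit 430088, nat_lit 421894, nat_lit 413700, nat_lit 405506, nat_lit 397312, nat_lit 174080, nat_lit 169984, nat_lit 166912, nat_lit 162048, nat_lit 155776, nat_lit 151808, nat_lit 148384, nat_lit 146112, nat_lit 141896, nat_lit 137076, nat_lit 134572]⟩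
def ndMr10_13 : El := ⟨[nat_lit 0x724db88b8e3a0101b2e5033c53292e96b155, nat_lit 0x84ed2d931a4589f73cd481d92e80405a44d5, nat_lit 0x3f09564a14b214e6b52f5008619427163dae], [nat_lit 73728, nat_lit 77824, nat_lit 81920, nat_lit 86016, nat_lit 98304, nat_lit 102400, nat_lit 175104, nat_lit 168448, nat_lit 165120, nat_lit 161536, nat_lit 157760, nat_lit 152800, nat_lit 148448, nat_lit 146720, nat_lit 143224, nat_lit 136058, nat_lit 132074, nat_lit 526, nat_lit 7912, nat_lit 10896, nat_lit 16352, nat_lit 19872, nat_lit 24384, nat_lit 26752, nat_lit 30208, nat_lit 34816, nat_lit 38912, nat_lit 45812, nat_lit 41700, nat_lit 38229, nat_lit 33355, nat_lit 28989, nat_lit 24621, nat_lit 20575, nat_lit 16430, nat_lit 8209, nat_lit 4097, nat_lit 430088, nat_lit 421893, nat_lit 409603, nat_lit 397312, nat_lit 164352, nat_lit 160256, nat_lit 152320, nat_lit 148256, nat_lit 135568, nat_lit 131464, nat_lit 45066, nat_lit 41491, nat_lit 8193, nat_lit 327680]⟩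
def ndMr10_14 : El := ⟨[nat_lit 0x963ac50216f349372aa3421d81136b670e70, nat_lit 0x24b28161e115b52495501351d7180af9d84a, nat_lit 0xd4d41d3bd16ab14532dd4804629c81125d2d, nat_lit 0x48d11479a827492c39550984086d8835d6f1], [nat_lit 65536, nat_lit 77824, nat_lit 106496, nat_lit 173056, nat_lit 168448, nat_lit 167168, nat_lit 152320, nat_lit 147968, nat_lit 146096, nat_lit 142220, nat_lit 139248, nat_lit 131122, nat_lit 1850, nat_lit 6484, nat_lit 9040, nat_lit 12304, nat_lit 17568, nat_lit 22656, nat_lit 28032, nat_lit 29440, nat_lit 36352, nat_lit 39936, nat_lit 43008, nat_lit 46428, nat_lit 43882, nat_lit 38340, nat_lit 32926, nat_lit 28723, nat_lit 25114, nat_lit 20568, nat_lit 16396, nat_lit 12292, nat_lit 8195, nat_lit 4101, nat_lit 4, nat_lit 430088, nat_lit 421894, nat_lit 413700, nat_lit 405506, nat_lit 397312, nat_lit 164352, nat_lit 156288, nat_lit 151616, nat_lit 148224, nat_lit 144000, nat_lit 139296, nat_lit 135320, nat_lit 131968, nat_lit 45908, nat_lit 41561]⟩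
def ndMr10_15 : El := ⟨[nat_lit 0xfc53f32512204c6eaa8c129e4d8daec8216f, nat_lit 0x63f5f92bee9a82369904661d746864e54103, nat_lit 0x4482e89c9ab331252428353c0138a3575917, nat_lit 0xc3960f710b08b2d51c84f051674266db8546], [nat_lit 69632, nat_lit 73728, nat_lit 77824, nat_lit 81920, nat_lit 86016, nat_lit 94208, nat_lit 102400, nat_lit 106496, nat_lit 110592, nat_lit 178176, nat_lit 174080, nat_lit 170496, nat_lit 165120, nat_lit 162816, nat_lit 157888, nat_lit 152352, nat_lit 150176, nat_lit 146528, nat_lit 140516, nat_lit 137254, nat_lit 134674, nat_lit 3508, nat_lit 7388, nat_lit 10120, nat_lit 16128, nat_lit 16864, nat_lit 23872, nat_lit 27264, nat_lit 29184, nat_lit 33280, nat_lit 37888, nat_lit 43008, nat_lit 45070, nat_lit 41459, nat_lit 36922, nat_lit 33010, nat_lit 28781, nat_lit 24742, nat_lit 20620, nat_lit 16399, nat_lit 12305, nat_lit 8193, nat_lit 4105, nat_lit 430088, nat_lit 421894, nat_lit 413700, nat_lit 405506, nat_lit 397312, nat_lit 160000, nat_lit 156416, nat_lit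 152000, nat_lit 147584, nat_lit 143488, nat_lit 140024, nat_lit 135836, nat_lit 131932, nat_lit 45986, nat_lit 41561]⟩
def ndMr10_16 : El := ⟨[nat_lit 0x3afac003ad02a4616a0ec7c68235d7524a6a, nat_lit 0x4884d25a59234cad7860302a84158e8aba37, nat_lit 0x74e2d265e6d5d15143ca0389c9b12061c835, nat_lit 0xc3a5636222166392541b8215b19cba20ef], [nat_lit 65536, nat_lit 73728, nat_lit 81920, nat_lit 90112, nat_lit 94208, nat_lit 98304, nat_lit 106496, nat_lit 110592, nat_lit 178176, nat_lit 174080, nat_lit 171520, nat_lit 165632, nat_lit 160000, nat_lit 155968, nat_lit 153824, nat_lit 148512, nat_lit 146864, nat_lit 142192, nat_lit 137532, nat_lit 134684, nat_lit 142, nat_lit 4788, nat_lit 10408, nat_lit 15888, nat_lit 17088, nat_lit 21952, nat_lit 27904, nat_lit 28928, nat_lit 36352, nat_lit 37888, nat_lit 46405, nat_lit 43301, nat_lit 37084, nat_lit 34968, nat_lit 29049, nat_lit 24591, nat_lit 20623, nat_lit 16645, nat_lit 12308, nat_lit 8200, nat_lit 4128, nat_lit 2, nat_lit 438282, nat_lit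 430088, nat_lit 421894, nat_lit 413700, nat_lit 405506, nat_lit 397312, nat_lit 174080, nat_lit 169984, nat_lit 166912, nat_lit 161024, nat_lit 158080, nat_lit 154560, nat_lit 147840, nat_lit 146192, nat_lit 136296, nat_lit 132458]⟩
def ndMr10_17 : El := ⟨[nat_lit 0x121bbd2c6034c9b530ad79d14e3bd8058488, nat_lit 0xb4b1b26a9341c504bbc408142b74a753b2c6, nat_lit 0x35fa30304734b2c22523759e4853aa0795b0, nat_lit 0xafc9c061af12ac804bc6d14e485583575207], [nat_lit 77824, nat_lit 81920, nat_lit 86016, nat_lit 90112, nat_lit 94208, nat_lit 106496, nat_lit 110592, nat_lit 175104, nat_lit 171520, nat_lit 160640, nat_lit 157504, nat_lit 153984, nat_lit 148912, nat_lit 144512, nat_lit 141324, nat_lit 138436, nat_lit 131727, nat_lit 1448, nat_lit 7012, nat_lit 8496, nat_lit 14368, nat_lit 17216, nat_lit 22208, nat_lit 27648, nat_lit 32256, nat_lit 33280, nat_lit 38912, nat_lit 45186, nat_lit 41519, nat_lit 38091, nat_lit 32975, nat_lit 28718, nat_lit 24629, nat_lit 20568, nat_lit 16390, nat_lit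 12294, nat_lit 8193, nat_lit 430088, nat_lit 421894, nat_lit 413700, nat_lit 405506, nat_lit 397312, nat_lit 164352, nat_lit 156032, nat_lit 151936, nat_lit 147712, nat_lit 143840, nat_lit 139520, nat_lit 135808, nat_lit 131744, nat_lit 45276, nat_lit 41610]⟩
def ndMr10_18 : El := ⟨[], [nat_lit 110592]⟩
def ndMr10_19 : El := ⟨[nat_lit 0xa535a949d6f24dd28d4683044db4140616f4, nat_lit 0xcaaf0999d547b1c095965688234562682497], [nat_lit 65536, nat_lit 69632, nat_lit 98304, nat_lit 102400, nat_lit 106496, nat_lit 110592, nat_lit 173056, nat_lit 171520, nat_lit 165120, nat_lit 159872, nat_lit 157120, nat_lit 151968, nat_lit 149488, nat_lit 145280, nat_lit 139908, nat_lit 136186, nat_lit 131782, nat_lit 1912, nat_lit 5592, nat_lit 8992, nat_lit 13312, nat_lit 17184, nat_lit 21504, nat_lit 26112, nat_lit 30208, nat_lit 37888, nat_lit 46411, nat_lit 43548, nat_lit 36872, nat_lit 33977, nat_lit 28799, nat_lit 24579, nat_lit 20509, nat_lit 16393, nat_lit 12305, nat_lit 4160, nat_lit 2, nat_lit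 405506, nat_lit 397312, nat_lit 139272, nat_lit 135172, nat_lit 131084, nat_lit 40961, nat_lit 32783, nat_lit 28680, nat_lit 24591, nat_lit 20481, nat_lit 16386, nat_lit 327680]⟩
def ndMr10_20 : El := ⟨[nat_lit 0x1742ed3a1ae0d5f32aaf4209630321649a32, nat_lit 0x27bb44b02a66b06542427bba0b93d5414c91], [nat_lit 73728, nat_lit 77824, nat_lit 90112, nat_lit 94208, nat_lit 98304, nat_lit 102400, nat_lit 106496, nat_lit 178176, nat_lit 173056, nat_lit 170496, nat_lit 166656, nat_lit 161536, nat_lit 155840, nat_lit 151712, nat_lit 149824, nat_lit 145024, nat_lit 139500, nat_lit 136648, nat_lit 134470, nat_lit 3988, nat_lit 5524, nat_lit 11432, nat_lit 14336, nat_lit 20096, nat_lit 21760, nat_lit 24704, nat_lit 29440, nat_lit 45138, nat_lit 41632, nat_lit 32833, nat_lit 29711, nat_lit 24854, nat_lit 20495, nat_lit 16463, nat_lit 409603, nat_lit 397312, nat_lit 135184, nat_lit 131098, nat_lit 36872, nat_lit 32795, nat_lit 28699, nat_lit 24578, nat_lit 20482, nat_lit 8193]⟩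
def ndMr10_21 : El := ⟨[nat_lit 0x8b8b4e544156ad2611c2fb0e08bb8949b245, nat_lit 0x1d1bb22c0d693a8d59d814d66a7810418a37, nat_lit 0xa9cc931bd09ac567710c12de0ab500c149b3, nat_lit 0xc5aff97888088ee83296e69e70b053265685], [nat_lit 65536, nat_lit 81920, nat_lit 86016, nat_lit 90112, nat_lit 94208, nat_lit 98304, nat_lit 102400, nat_lit 106496, nat_lit 110592, nat_lit 173056, nat_lit 168960, nat_lit 157888, nat_lit 155616, nat_lit 150960, nat_lit 146856, nat_lit 142048, nat_lit 137380, nat_lit 132793, nat_lit 2208, nat_lit 6344, nat_lit 9320, nat_lit 12304, nat_lit 16416, nat_lit 24384, nat_lit 24960, nat_lit 31232, nat_lit 33280, nat_lit 38912, nat_lit 45356, nat_lit 41197, nat_lit 37130, nat_lit 33473, nat_lit 28995, nat_lit 24838, nat_lit 20503, nat_lit 16399, nat_lit 12295, nat_lit 8203, nat_lit 4097, nat_lit 2, nat_lit 438281, nat_lit 425991, nat_lit 413700, nat_lit 405506, nat_lit 397312, nat_lit 164352, nat_lit 152448, nat_lit 150016, nat_lit 143792, nat_lit 135600, nat_lit 131994,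 nat_lit 41755, nat_lit 24635]⟩
def ndMr10_22 : El := ⟨[nat_lit 0xc3ff933c562b85836ce555512e40206796c4, nat_lit 0xf3605649695bc1c23a860434cfb303259233, nat_lit 0x5f5fac25628bc0c95894c7d036034e51ce4e, nat_lit 0xfc06ca494311506f555c88327759e40b19a4], [nat_lit 69632, nat_lit 73728, nat_lit 86016, nat_lit 90112, nat_lit 94208, nat_lit 98304, nat_lit 110592, nat_lit 178176, nat_lit 174080, nat_lit 169472, nat_lit 165632, nat_lit 160128, nat_lit 158016, nat_lit 154272, nat_lit 150640, nat_lit 145848, nat_lit 140232, nat_lit 137446, nat_lit 132030, nat_lit 1842, nat_lit 6060, nat_lit 10376, nat_lit 15536, nat_lit 17632, nat_lit 20608, nat_lit 26240, nat_lit 28928, nat_lit 34816, nat_lit 37888, nat_lit 46939, nat_lit 43555, nat_lit 38923, nat_lit 33383, nat_lit 28695, nat_lit 25109, nat_lit 20498, nat_lit 16392, nat_lit 12305, nat_lit 8195, nat_lit 4101, nat_lit 438282, nat_lit 430088, nat_lit 421894, nat_lit 413700, nat_lit 405506, nat_lit 397312, nat_lit 174080, nat_lit 171008, nat_lit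 167424, nat_lit 161536, nat_lit 158848, nat_lit 152704, nat_lit 150656, nat_lit 146448, nat_lit 141264, nat_lit 138940, nat_lit 134260]⟩
def ndMr10_23 : El := ⟨[nat_lit 0xd424ed89925206cd00e68baa5473e0b3d44c, nat_lit 0x4de1d8bc85561d546a4d60c4a442e037b813, nat_lit 0x82424799cc3b4014aa5a40a172139f162ae5], [nat_lit 65536, nat_lit 69632, nat_lit 73728, nat_lit 86016, nat_lit 90112, nat_lit 106496, nat_lit 110592, nat_lit 178176, nat_lit 174080, nat_lit 168960, nat_lit 166400, nat_lit 159872, nat_lit 158208, nat_lit 152128, nat_lit 147664, nat_lit 145640, nat_lit 140192, nat_lit 138208, nat_lit 131787, nat_lit 3818, nat_lit 7096, nat_lit 9768, nat_lit 14304, nat_lit 20064, nat_lit 20800, nat_lit 27392, nat_lit 30208, nat_lit 39936, nat_lit 43008, nat_lit 45686, nat_lit 41423, nat_lit 39183, nat_lit 32825, nat_lit 28770, nat_lit 24757, nat_lit 20485, nat_lit 16398, nat_lit 12304, nat_lit 8203, nat_lit 4105, nat_lit 2, nat_lit 430086, nat_lit 413700, nat_lit 405506, nat_lit 397312,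 nat_lit 156160, nat_lit 152064, nat_lit 148000, nat_lit 143920, nat_lit 139832, nat_lit 135800, nat_lit 131710, nat_lit 45122, nat_lit 41050, nat_lit 32831, nat_lit 28773, nat_lit 327680]⟩
def ndMr10_24 : El := ⟨[nat_lit 0x55ac35611a314e2572656abd105a826a1c17, nat_lit 0x9a06a284517d069602c86ba0734d4b912f5], [nat_lit 73728, nat_lit 86016, nat_lit 90112, nat_lit 98304, nat_lit 110592, nat_lit 178176, nat_lit 169984, nat_lit 167424, nat_lit 160896, nat_lit 158592, nat_lit 152352, nat_lit 151392, nat_lit 147424, nat_lit 139408, nat_lit 136002, nat_lit 132036, nat_lit 2532, nat_lit 4252, nat_lit 12080, nat_lit 14352, nat_lit 18400, nat_lit 23872, nat_lit 26752, nat_lit 28928, nat_lit 34304, nat_lit 37888, nat_lit 43008, nat_lit 45523, nat_lit 41043, nat_lit 37374, nat_lit 33384, nat_lit 28736, nat_lit 24600, nat_lit 21002, nat_lit 16420, nat_lit 12292, nat_lit 8202, nat_lit 4101, nat_lit 430084, nat_lit 405506, nat_lit 147968, nat_lit 143888, nat_lit 40968, nat_lit 32772, nat_lit 28688,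 nat_lit 24592, nat_lit 20488, nat_lit 327680]⟩
def ndMr10_25 : El := ⟨[nat_lit 0x1718249bc46629b55cad0b90a94028188cee, nat_lit 0x22482d48c9130a4b030359be1675ce553688, nat_lit 0xff966312d06a364a4ba7528d8f8c0e0206f6, nat_lit 0x903f6938e924c593ab6c812de0228ce2de01], [nat_lit 77824, nat_lit 90112, nat_lit 94208, nat_lit 106496, nat_lit 110592, nat_lit 178176, nat_lit 174080, nat_lit 168960, nat_lit 165376, nat_lit 160000, nat_lit 157952, nat_lit 154272, nat_lit 150640, nat_lit 145840, nat_lit 140236, nat_lit 137444, nat_lit 132031, nat_lit 3022, nat_lit 6332, nat_lit 8784, nat_lit 12736, nat_lit 18208, nat_lit 22656, nat_lit 27392, nat_lit 28928, nat_lit 39936, nat_lit 46781, nat_lit 41102, nat_lit 39294, nat_lit 32882, nat_lit 28719, nat_lit 24882, nat_lit 20630, nat_lit 16428, nat_lit 12291, nat_lit 4105, nat_lit 438282, nat_lit 430088, nat_lit 421894, nat_lit 413700, nat_lit 405506, nat_lit 397312, nat_lit 168960, nat_lit 165888, nat_lit 161024, nat_lit 159488, nat_lit 152000,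 nat_lit 150496, nat_lit 147024, nat_lit 142728, nat_lit 136328, nat_lit 131714, nat_lit 327680]⟩
def ndMr10_26 : El := ⟨[nat_lit 0xac59696350355ae202e51811f5384a9a19d3, nat_lit 0xe4bb2893d4b68261bba9020ec82d522898ec, nat_lit 0x81e144a06ec2560b93e2044cf6334a2525c3, nat_lit 0xca9353712f4a8151b410313ce12cd92499ab], [nat_lit 65536, nat_lit 69632, nat_lit 86016, nat_lit 94208, nat_lit 174080, nat_lit 169472, nat_lit 164352, nat_lit 161280, nat_lit 156992, nat_lit 153952, nat_lit 150544, nat_lit 145760, nat_lit 140048, nat_lit 137590, nat_lit 131667, nat_lit 682, nat_lit 7592, nat_lit 9776, nat_lit 13792, nat_lit 18848, nat_lit 21760, nat_lit 28032, nat_lit 31232, nat_lit 34304, nat_lit 39936, nat_lit 47001, nat_lit 43234, nat_lit 37041, nat_lit 32996, nat_lit 28745, nat_lit 24705, nat_lit 20750, nat_lit 16392, nat_lit 12290, nat_lit 8193, nat_lit 438282, nat_lit 430088, nat_lit 421894, nat_lit 413700, nat_lit 405506, nat_lit 397312, nat_lit 174080, nat_lit 169984, nat_lit 166912, nat_lit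 161536, nat_lit 157568, nat_lit 154432, nat_lit 148256, nat_lit 144768, nat_lit 142376, nat_lit 136884, nat_lit 133574, nat_lit 327680]⟩
def ndMr10_27 : El := ⟨[nat_lit 0xf99cc09c1814344b1b8874c6e5059f591954, nat_lit 0xcf09a63d9b110c09930b7a4c8e429617c2a6, nat_lit 0x412bb7258110c2e753dac7212b9d4c22d243], [nat_lit 65536, nat_lit 69632, nat_lit 81920, nat_lit 90112, nat_lit 94208, nat_lit 106496, nat_lit 110592, nat_lit 178176, nat_lit 173056, nat_lit 168960, nat_lit 166912, nat_lit 161664, nat_lit 157376, nat_lit 155392, nat_lit 150848, nat_lit 143888, nat_lit 142932, nat_lit 138894, nat_lit 133633, nat_lit 1668, nat_lit 6548, nat_lit 8200, nat_lit 15088, nat_lit 17728, nat_lit 20608, nat_lit 28544, nat_lit 29184, nat_lit 39936, nat_lit 46723, nat_lit 41778, nat_lit 37363, nat_lit 32875, nat_lit 29249, nat_lit 24890, nat_lit 16397, nat_lit 12309, nat_lit 4097, nat_lit 430088, nat_lit 409603, nat_lit 401408, nat_lit 164352, nat_lit 147712, nat_lit 139280, nat_lit 131332, nat_lit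 45064, nat_lit 40989, nat_lit 20488, nat_lit 327680]⟩
def ndMr10_28 : El := ⟨[nat_lit 0xb47de7b9ca95b1f46c006922b3b044a23a23, nat_lit 0xf05536121967cdc409620850d56dd434c967, nat_lit 0x21e421216d754513035c29260ba54c70b06f], [nat_lit 69632, nat_lit 77824, nat_lit 81920, nat_lit 90112, nat_lit 94208, nat_lit 102400, nat_lit 106496, nat_lit 173056, nat_lit 171520, nat_lit 165376, nat_lit 163200, nat_lit 156992, nat_lit 155520, nat_lit 148048, nat_lit 143736, nat_lit 140384, nat_lit 138312, nat_lit 133357, nat_lit 780, nat_lit 7764, nat_lit 9896, nat_lit 12464, nat_lit 17568, nat_lit 21376, nat_lit 27264, nat_lit 30720, nat_lit 33280, nat_lit 39936, nat_lit 43008, nat_lit 45852, nat_lit 41270, nat_lit 37034, nat_lit 33862, nat_lit 29221, nat_lit 24845, nat_lit 20554, nat_lit 16424, nat_lit 12295, nat_lit 8195, nat_lit 4101, nat_lit 430088, nat_lit 421893, nat_lit 409602, nat_lit 397312, nat_lit 164352, nat_lit 152448, nat_lit 148352, nat_lit 140032, nat_lit 135952, nat_lit 131076,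 nat_lit 45061, nat_lit 41491, nat_lit 24581, nat_lit 12290]⟩
def ndMr10_29 : El := ⟨[nat_lit 0xe881b791460a12d14dd829b4ee52cd04542f, nat_lit 0xd81182951e60ac85b9db37092c8446805955, nat_lit 0x6c36535012240d613ce46a35f72c60463ab6], [nat_lit 69632, nat_lit 77824, nat_lit 86016, nat_lit 102400, nat_lit 106496, nat_lit 110592, nat_lit 173056, nat_lit 168960, nat_lit 164864, nat_lit 161664, nat_lit 156992, nat_lit 151744, nat_lit 150336, nat_lit 144344, nat_lit 140884, nat_lit 135202, nat_lit 131818, nat_lit 3558, nat_lit 7324, nat_lit 10720, nat_lit 16320, nat_lit 20032, nat_lit 22656, nat_lit 26624, nat_lit 30464, nat_lit 38912, nat_lit 45699, nat_lit 41667, nat_lit 38152, nat_lit 33021, nat_lit 28974, nat_lit 24635, nat_lit 20554, nat_lit 16390, nat_lit 12358, nat_lit 8202, nat_lit 4, nat_lit 425991, nat_lit 413700, nat_lit 405506, nat_lit 397312, nat_lit 160000, nat_lit 151808, nat_lit 147488, nat_lit 143376, nat_lit 139272, nat_lit 135596, nat_lit 131496, nat_lit 45071, nat_lit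 41103, nat_lit 37014]⟩
def ndMr10_30 : El := ⟨[nat_lit 0x1b4b271a4e1635055d89490aae51a3004eef, nat_lit 0xcac03a49093bd4124cd66b217046a258dc5, nat_lit 0x6f30668492f7551604cb40b06b53486146e7, nat_lit 0x7841214807134d05a902c5d2f093dca11ecd], [nat_lit 65536, nat_lit 77824, nat_lit 81920, nat_lit 86016, nat_lit 94208, nat_lit 102400, nat_lit 106496, nat_lit 110592, nat_lit 178176, nat_lit 168448, nat_lit 160768, nat_lit 155776, nat_lit 152704, nat_lit 148480, nat_lit 144432, nat_lit 142916, nat_lit 135172, nat_lit 131408, nat_lit 2618, nat_lit 4824, nat_lit 10240, nat_lit 13136, nat_lit 18016, nat_lit 23552, nat_lit 25600, nat_lit 30208, nat_lit 46138, nat_lit 43743, nat_lit 36917, nat_lit 32817, nat_lit 28725, nat_lit 24581, nat_lit 20503, nat_lit 16416, nat_lit 12295, nat_lit 8195, nat_lit 4, nat_lit 438282, nat_lit 430088, nat_lit 421894, nat_lit 413700, nat_lit 405506, nat_lit 397312, nat_lit 168960, nat_lit 166912, nat_lit 162304, nat_lit 156032, nat_lit 154944, nat_lit 151456,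 nat_lit 146272, nat_lit 141112, nat_lit 138412, nat_lit 134268, nat_lit 327680]⟩
def ndMr10_31 : El := ⟨[nat_lit 0xe27ddea183371ca954192b907103d026d576, nat_lit 0xf963c0aba286ae14524a1b5c4798e44601e6, nat_lit 0x4721eba5e123080408ce5431a98da757ad4e], [nat_lit 65536, nat_lit 69632, nat_lit 73728, nat_lit 86016, nat_lit 98304, nat_lit 173056, nat_lit 169984, nat_lit 164608, nat_lit 162432, nat_lit 155968, nat_lit 151648, nat_lit 150432, nat_lit 144640, nat_lit 142328, nat_lit 136496, nat_lit 134534, nat_lit 1570, nat_lit 8148, nat_lit 10544, nat_lit 15232, nat_lit 19232, nat_lit 23552, nat_lit 27008, nat_lit 29952, nat_lit 35328, nat_lit 43008, nat_lit 45088, nat_lit 41907, nat_lit 37130, nat_lit 33479, nat_lit 28690, nat_lit 24835, nat_lit 21523, nat_lit 16515, nat_lit 12357, nat_lit 8257, nat_lit 4097, nat_lit 2, nat_lit 434184, nat_lit 417797, nat_lit 409602, nat_lit 397312, nat_lit 164864, nat_lit 152832, nat_lit 139344, nat_lit 136448, nat_lit 132420, nat_lit 45062, nat_lit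 36870, nat_lit 28757, nat_lit 12289]⟩
def ndMr10_32 : El := ⟨[nat_lit 0x2212e430a970121240ce92b58174eca7ae35, nat_lit 0x44d8214192c011a2aaa438ae81bd8ae3ce0f, nat_lit 0xddb72d4398a290607a5ab9d6f0104e6a46d2], [nat_lit 77824, nat_lit 175104, nat_lit 167168, nat_lit 163200, nat_lit 158080, nat_lit 152928, nat_lit 147904, nat_lit 143760, nat_lit 143012, nat_lit 137482, nat_lit 131419, nat_lit 2642, nat_lit 4588, nat_lit 11800, nat_lit 15152, nat_lit 17088, nat_lit 24320, nat_lit 25088, nat_lit 31232, nat_lit 36352, nat_lit 46744, nat_lit 43146, nat_lit 38018, nat_lit 32888, nat_lit 28724, nat_lit 24630, nat_lit 20484, nat_lit 16394, nat_lit 12305, nat_lit 8195, nat_lit 4, nat_lit 434184, nat_lit 417797, nat_lit 409602, nat_lit 397312, nat_lit 164864, nat_lit 155904, nat_lit 151808, nat_lit 148512, nat_lit 139280, nat_lit 136500, nat_lit 131366, nat_lit 45061, nat_lit 36928, nat_lit 28693, nat_lit 12290]⟩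
def ndMr10_33 : El := ⟨[nat_lit 0x482eeb829cb399b3492a30062ca4aef28916, nat_lit 0x141e11232437592d1502833e60546173acb5, nat_lit 0x442721316137b46145d74526b6890f20098e], [nat_lit 69632, nat_lit 90112, nat_lit 98304, nat_lit 175104, nat_lit 171008, nat_lit 164352, nat_lit 157696, nat_lit 155360, nat_lit 151504, nat_lit 146784, nat_lit 141964, nat_lit 137520, nat_lit 133972, nat_lit 3234, nat_lit 5784, nat_lit 11352, nat_lit 13536, nat_lit 20320, nat_lit 21056, nat_lit 26496, nat_lit 30464, nat_lit 33280, nat_lit 39936, nat_lit 43008, nat_lit 46216, nat_lit 41509, nat_lit 37335, nat_lit 33402, nat_lit 28795, nat_lit 24718, nat_lit 20546, nat_lit 16419, nat_lit 12416, nat_lit 8211, nat_lit 4097, nat_lit 2, nat_lit 425991, nat_lit 417797, nat_lit 409603, nat_lit 401408, nat_lit 160000, nat_lit 156032, nat_lit 151936, nat_lit 147520, nat_lit 139512, nat_lit 131188, nat_lit 45068, nat_lit 41088, nat_lit 36928, nat_lit 4097]⟩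
def ndMr10_34 : El := ⟨[nat_lit 0xf360a9352371cc2478aab2a552b21a081d8e, nat_lit 0x82811d5da5419aec8a5af4041029d53712a2, nat_lit 0x69096f4292bbda95390a69c25118022635cf], [nat_lit 73728, nat_lit 90112, nat_lit 171008, nat_lit 165888, nat_lit 160384, nat_lit 155712, nat_lit 154368, nat_lit 149264, nat_lit 144720, nat_lit 142800, nat_lit 136270, nat_lit 131984, nat_lit 680, nat_lit 5024, nat_lit 9384, nat_lit 14896, nat_lit 19328, nat_lit 20608, nat_lit 25088, nat_lit 31232, nat_lit 33280, nat_lit 46934, nat_lit 40985, nat_lit 37333, nat_lit 33373, nat_lit 28990, nat_lit 25110, nat_lit 20498, nat_lit 16422, nat_lit 12547, nat_lit 8210, nat_lit 4100, nat_lit 8, nat_lit 425991, nat_lit 417797, nat_lit 409602, nat_lit 397312, nat_lit 155904, nat_lit 152000, nat_lit 147904, nat_lit 139648, nat_lit 135328, nat_lit 131378, nat_lit 45059, nat_lit 41046, nat_lit 12292]⟩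
def ndMr10_35 : El := ⟨[nat_lit 0x47b88760cedb82848aaae7da6b80a460a0a9, nat_lit 0xa00a6a356680948c12d2e1bed79400d3aa91, nat_lit 0x172b8e91e2684ca46b909106d4a82e353d6c], [nat_lit 69632, nat_lit 86016, nat_lit 102400, nat_lit 168960, nat_lit 166912, nat_lit 160768, nat_lit 157760, nat_lit 152832, nat_lit 150672, nat_lit 145736, nat_lit 143132, nat_lit 136506, nat_lit 133266, nat_lit 3908, nat_lit 4824, nat_lit 9464, nat_lit 13504, nat_lit 18400, nat_lit 21504, nat_lit 25600, nat_lit 29440, nat_lit 34816, nat_lit 38912, nat_lit 46070, nat_lit 41817, nat_lit 38338, nat_lit 32823, nat_lit 28700, nat_lit 25624, nat_lit 20736, nat_lit 16420, nat_lit 12295, nat_lit 8195, nat_lit 4, nat_lit 434184, nat_lit 417797, nat_lit 409603, nat_lit 397312, nat_lit 164864, nat_lit 156672, nat_lit 151808, nat_lit 148576, nat_lit 143696, nat_lit 135264, nat_lit 131368, nat_lit 45066, nat_lit 36938, nat_lit 28761, nat_lit 8193]⟩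
def ndMg11_0 : El := ⟨[nat_lit 0x6a065a3040b36724860719951a90afbb968, nat_lit 0xed7dd170d544b2e1a890f8ccb039246581b6, nat_lit 0xf6c60692c943142f45cf115aae0312a80e6d], [nat_lit 65536, nat_lit 69632, nat_lit 73728, nat_lit 86016, nat_lit 94208, nat_lit 102400, nat_lit 106496, nat_lit 178176, nat_lit 174080, nat_lit 171008, nat_lit 160128, nat_lit 157632, nat_lit 151872, nat_lit 149920, nat_lit 143616, nat_lit 142664, nat_lit 137750, nat_lit 134993, nat_lit 1478, nat_lit 5260, nat_lit 9792, nat_lit 12368, nat_lit 17248, nat_lit 21312, nat_lit 25728, nat_lit 29696, nat_lit 38912, nat_lit 43008, nat_lit 46375, nat_lit 43240, nat_lit 37069, nat_lit 34047, nat_lit 28673, nat_lit 25112, nat_lit 20484, nat_lit 16387, nat_lit 12807, nat_lit 4104, nat_lit 16, nat_lit 421893, nat_lit 405506, nat_lit 397312, nat_lit 151680, nat_lit 143392, nat_lit 135304, nat_lit 131116, nat_lit 45184, nat_lit 41004, nat_lit 36905, nat_lit 32907, nat_lit 24614, nat_lit 327680]⟩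
def ndMg11_1 : El := ⟨[nat_lit 0x748bb149a0a4500e08cf1bb1627c88d2d6d3, nat_lit 0xfaa650ba5f3b2a4c72291ac1ab308a4180e1, nat_lit 0x8d17718182e292ea1506b636a97c8e045a33], [nat_lit 65536, nat_lit 69632, nat_lit 86016, nat_lit 94208, nat_lit 173056, nat_lit 171008, nat_lit 167680, nat_lit 161152, nat_lit 157120, nat_lit 155136, nat_lit 151088, nat_lit 147192, nat_lit 142160, nat_lit 136648, nat_lit 133450, nat_lit 1004, nat_lit 7048, nat_lit 8352, nat_lit 14720, nat_lit 17088, nat_lit 27136, nat_lit 32256, nat_lit 33792, nat_lit 38912, nat_lit 46557, nat_lit 41922, nat_lit 38163, nat_lit 33963, nat_lit 29289, nat_lit 24848, nat_lit 20561, nat_lit 16385, nat_lit 12322, nat_lit 8194, nat_lit 16, nat_lit 413700, nat_lit 405506, nat_lit 397312, nat_lit 147488, nat_lit 139272, nat_lit 135220, nat_lit 131126, nat_lit 45072, nat_lit 41020, nat_lit 36921, nat_lit 32795, nat_lit 24630, nat_lit 327680]⟩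
def ndMg11_2 : El := ⟨[nat_lit 0x77827413a2923ead1a1909c8b63a9740dcc0, nat_lit 0x8e88d754a3042d33a00eda88ce1b2e4b3c25, nat_lit 0xa966aa3ca2e859639aae1425a6796b423002], [nat_lit 69632, nat_lit 73728, nat_lit 81920, nat_lit 86016, nat_lit 90112, nat_lit 102400, nat_lit 106496, nat_lit 110592, nat_lit 173056, nat_lit 169472, nat_lit 166656, nat_lit 162816, nat_lit 157696, nat_lit 152032, nat_lit 150112, nat_lit 144160, nat_lit 140888, nat_lit 136928, nat_lit 131137, nat_lit 2456, nat_lit 6884, nat_lit 10664, nat_lit 14752, nat_lit 18080, nat_lit 20992, nat_lit 27776, nat_lit 32512, nat_lit 34816, nat_lit 46937, nat_lit 43782, nat_lit 38984, nat_lit 32894, nat_lit 28678, nat_lit 24872, nat_lit 20506, nat_lit 16389, nat_lit 12294, nat_lit 8201, nat_lit 4, nat_lit 417797, nat_lit 405506, nat_lit 397312, nat_lit 143424, nat_lit 139304, nat_lit 135208, nat_lit 131142, nat_lit 45158, nat_lit 41004, nat_lit 36905, nat_lit 32779, nat_lit 28774, nat_lit 327680]⟩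
def ndMg11_3 : El := ⟨[nat_lit 0x530cc5512e606e3936b3440c0790b6588f1, nat_lit 0xf663cf690e6902cb7158f0a29055e22a8d33, nat_lit 0x71e1b40ded1ab0ca7cda21a1322ae8e38090], [nat_lit 69632, nat_lit 73728, nat_lit 81920, nat_lit 90112, nat_lit 106496, nat_lit 178176, nat_lit 174080, nat_lit 171520, nat_lit 166912, nat_lit 162048, nat_lit 159296, nat_lit 154688, nat_lit 147904, nat_lit 147192, nat_lit 140176, nat_lit 135482, nat_lit 132126, nat_lit 2636, nat_lit 7304, nat_lit 8832, nat_lit 13152, nat_lit 19808, nat_lit 21504, nat_lit 24704, nat_lit 29184, nat_lit 33280, nat_lit 37888, nat_lit 46916, nat_lit 40968, nat_lit 37118, nat_lit 34889, nat_lit 29231, nat_lit 24706, nat_lit 21001, nat_lit 16429, nat_lit 12292, nat_lit 4112, nat_lit 425989, nat_lit 405506, nat_lit 397312, nat_lit 151808, nat_lit 135460, nat_lit 131330, nat_lit 45323, nat_lit 41255, nat_lit 37154, nat_lit 24614]⟩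
def ndMg11_4 : El := ⟨[nat_lit 0x559f9f4c5c252e8762203958b3b980123ead, nat_lit 0xeb877d624125aa8444c2e3b5f5b946281a36], [nat_lit 65536, nat_lit 69632, nat_lit 81920, nat_lit 86016, nat_lit 94208, nat_lit 98304, nat_lit 102400, nat_lit 173056, nat_lit 171008, nat_lit 167424, nat_lit 159872, nat_lit 158912, nat_lit 154400, nat_lit 150352, nat_lit 147168, nat_lit 140092, nat_lit 135800, nat_lit 133089, nat_lit 1854, nat_lit 5584, nat_lit 10472, nat_lit 16064, nat_lit 17408, nat_lit 20672, nat_lit 28032, nat_lit 36352, nat_lit 37888, nat_lit 43008, nat_lit 46478, nat_lit 43913, nat_lit 37228, nat_lit 32924, nat_lit 28792, nat_lit 24594, nat_lit 20490, nat_lit 16454, nat_lit 12295, nat_lit 8194, nat_lit 4101, nat_lit 409602, nat_lit 397312, nat_lit 139280, nat_lit 135184, nat_lit 131092, nat_lit 40964, nat_lit 36865, nat_lit 32769, nat_lit 28688, nat_lit 24580, nat_lit 20482, nat_lit 12290]⟩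
def ndMr11_0 : El := ⟨[], []⟩
def ndMr11_1 : El := ⟨[nat_lit 0x28bbb4012412c18d8a0ca7a456ad0f31dd6e, nat_lit 0xc0ca0c84e5118041a56f6298e44ad0a6b1ee], [nat_lit 69632, nat_lit 77824, nat_lit 102400, nat_lit 110592, nat_lit 174080, nat_lit 171008, nat_lit 166656, nat_lit 163584, nat_lit 159104, nat_lit 153120, nat_lit 147824, nat_lit 144040, nat_lit 143216, nat_lit 137068, nat_lit 134538, nat_lit 1794, nat_lit 5636, nat_lit 9280, nat_lit 14448, nat_lit 16640, nat_lit 23360, nat_lit 28416, nat_lit 29952, nat_lit 33792, nat_lit 39936, nat_lit 45585, nat_lit 41946, nat_lit 37255, nat_lit 33440, nat_lit 29258, nat_lit 24727, nat_lit 20736, nat_lit 16456, nat_lit 12355, nat_lit 8227, nat_lit 4112, nat_lit 8, nat_lit 425989, nat_lit 409600, nat_lit 151808, nat_lit 147744, nat_lit 131088, nat_lit 40976, nat_lit 28688, nat_lit 12289, nat_lit 8193, nat_lit 4097, nat_lit 327680]⟩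
def ndMr11_2 : El := ⟨[nat_lit 0x8e8828382d31d0d0709619222fbd54d23125, nat_lit 0xff00ff7d00358a472283062516acdb1b98ae, nat_lit 0x3a63ac310e56bd8ebd2d5180225a9288ce12], [nat_lit 90112, nat_lit 94208, nat_lit 102400, nat_lit 110592, nat_lit 169984, nat_lit 166656, nat_lit 163456, nat_lit 159680, nat_lit 151872, nat_lit 151120, nat_lit 147152, nat_lit 142492, nat_lit 136200, nat_lit 134392, nat_lit 3076, nat_lit 6596, nat_lit 8752, nat_lit 12608, nat_lit 19936, nat_lit 22400, nat_lit 27264, nat_lit 28928, nat_lit 33792, nat_lit 38912, nat_lit 47016, nat_lit 41216, nat_lit 37080, nat_lit 32944, nat_lit 29051, nat_lit 24731, nat_lit 20762, nat_lit 16449, nat_lit 12326, nat_lit 8195, nat_lit 4100, nat_lit 2, nat_lit 425991, nat_lit 413700, nat_lit 405506, nat_lit 397312, nat_lit 160000, nat_lit 151808, nat_lit 147616, nat_lit 143776, nat_lit 139448, nat_lit 135316, nat_lit 131480, nat_lit 45071, nat_lit 41103, nat_lit 36874, nat_lit 24585, nat_lit 327680]⟩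
def ndMr11_3 : El := ⟨[nat_lit 0x9350c0545859caa0709f7a04e4419b04aec3, nat_lit 0x17247e4b6968c9eb70448518ec99477012b0, nat_lit 0x6faac7b1cd5a5488467200462bd6d439486], [nat_lit 65536, nat_lit 81920, nat_lit 90112, nat_lit 102400, nat_lit 110592, nat_lit 178176, nat_lit 175104, nat_lit 168960, nat_lit 167424, nat_lit 162688, nat_lit 156928, nat_lit 153696, nat_lit 148336, nat_lit 147216, nat_lit 142396, nat_lit 138156, nat_lit 134514, nat_lit 128, nat_lit 5620, nat_lit 10040, nat_lit 12656, nat_lit 20320, nat_lit 22336, nat_lit 26112, nat_lit 35328, nat_lit 37888, nat_lit 45365, nat_lit 41909, nat_lit 36917, nat_lit 33918, nat_lit 28746, nat_lit 24764, nat_lit 20495, nat_lit 16450, nat_lit 12327, nat_lit 8211, nat_lit 4101, nat_lit 4, nat_lit 425990, nat_lit 413700, nat_lit 405506, nat_lit 397312, nat_lit 151808, nat_lit 147744, nat_lit 143392, nat_lit 139568, nat_lit 135280, nat_lit 131444, nat_lit 45071, nat_lit 40976, nat_lit 28755]⟩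
def ndMr11_4 : El := ⟨[nat_lit 0xe7182b5be696d6f0710f250cd4b14281022c, nat_lit 0x59a0a2d97134aa89b600a06ee3904f1a54c, nat_lit 0x27bbbb2984d99ec8881f2a920b4a86e0d197, nat_lit 0x939c95a1cd52dec482d326046f7080d52233], [nat_lit 73728, nat_lit 77824, nat_lit 81920, nat_lit 86016, nat_lit 90112, nat_lit 94208, nat_lit 98304, nat_lit 106496, nat_lit 110592, nat_lit 178176, nat_lit 171520, nat_lit 160256, nat_lit 155776, nat_lit 152096, nat_lit 147536, nat_lit 146720, nat_lit 141436, nat_lit 137338, nat_lit 132174, nat_lit 84, nat_lit 7496, nat_lit 10424, nat_lit 13968, nat_lit 17216, nat_lit 24320, nat_lit 25600, nat_lit 30976, nat_lit 37888, nat_lit 46443, nat_lit 41010, nat_lit 36928, nat_lit 34818, nat_lit 28785, nat_lit 24731, nat_lit 20553, nat_lit 16395, nat_lit 12290, nat_lit 4105, nat_lit 2, nat_lit 438282, nat_lit 430088, nat_lit 421894, nat_lit 413700, nat_lit 405506, nat_lit 397312, nat_lit 174080, nat_lit 171008, nat_lit 164864, nat_lit 161280, nat_lit 158336, nat_lit 155072,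 nat_lit 150624, nat_lit 147152, nat_lit 142288, nat_lit 136304, nat_lit 134066, nat_lit 327680]⟩
def ndMr11_5 : El := ⟨[nat_lit 0x95330078c26652a712a572c26d4b88805a2b, nat_lit 0x666f0c95d548a4a6b11a19a0607add011d95, nat_lit 0x828e12215e805a06089aabaeae1ccf48c989, nat_lit 0x217d4da0a6753461bc4a0aa5f643a1232c8c], [nat_lit 69632, nat_lit 86016, nat_lit 94208, nat_lit 102400, nat_lit 106496, nat_lit 174080, nat_lit 171008, nat_lit 165120, nat_lit 160384, nat_lit 156352, nat_lit 153216, nat_lit 145128, nat_lit 140864, nat_lit 136042, nat_lit 132641, nat_lit 3610, nat_lit 7624, nat_lit 10760, nat_lit 13856, nat_lit 16448, nat_lit 28288, nat_lit 30208, nat_lit 33280, nat_lit 45512, nat_lit 41472, nat_lit 38098, nat_lit 32781, nat_lit 29267, nat_lit 25100, nat_lit 20490, nat_lit 16461, nat_lit 12323, nat_lit 4097, nat_lit 430088, nat_lit 421894, nat_lit 413700, nat_lit 405506, nat_lit 397312, nat_lit 164352, nat_lit 155904, nat_lit 151808, nat_lit 147904, nat_lit 143776, nat_lit 140168,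 nat_lit 135792, nat_lit 131226, nat_lit 45215, nat_lit 41551]⟩
def ndMr11_6 : El := ⟨[nat_lit 0x14888d912ee6d6074894818560a4cac899f6, nat_lit 0x7e77d8b928d8c0af00d879582a1551372cc9, nat_lit 0xaa9af8bcb5a48ee62da14dc162186a98910, nat_lit 0x482eeb6c01689573a92897c87750826621c7], [nat_lit 73728, nat_lit 86016, nat_lit 90112, nat_lit 98304, nat_lit 102400, nat_lit 110592, nat_lit 174080, nat_lit 168448, nat_lit 167680, nat_lit 160384, nat_lit 157568, nat_lit 152064, nat_lit 150368, nat_lit 144120, nat_lit 140628, nat_lit 135658, nat_lit 133575, nat_lit 640, nat_lit 4152, nat_lit 9704, nat_lit 14368, nat_lit 17280, nat_lit 23872, nat_lit 27520, nat_lit 31232, nat_lit 36352, nat_lit 38912, nat_lit 46490, nat_lit 43680, nat_lit 37302, nat_lit 32988, nat_lit 28736, nat_lit 24726, nat_lit 21015, nat_lit 16455, nat_lit 12294, nat_lit 8193, nat_lit 4097, nat_lit 434185, nat_lit 425991, nat_lit 417797, nat_lit 409603, nat_lit 401408, nat_lit 161280, nat_lit 156672, nat_lit 152448, nat_lit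 148800, nat_lit 145120, nat_lit 139360, nat_lit 132672, nat_lit 45065, nat_lit 4097, nat_lit 327680]⟩
def ndMr11_7 : El := ⟨[nat_lit 0x18248e30e8d3ae25081327226c13c96aaa17, nat_lit 0x900c3c3d1218080c58c968ddb55490f315d3, nat_lit 0x53fca09da40098b7a304d4d56343cf17408a, nat_lit 0x28bbb4a56e5505f3141c9b10c70496d62071], [nat_lit 65536, nat_lit 90112, nat_lit 98304, nat_lit 102400, nat_lit 173056, nat_lit 160896, nat_lit 156864, nat_lit 152960, nat_lit 147984, nat_lit 144448, nat_lit 140136, nat_lit 135786, nat_lit 2390, nat_lit 4156, nat_lit 9752, nat_lit 13856, nat_lit 17504, nat_lit 23808, nat_lit 27520, nat_lit 30720, nat_lit 34816, nat_lit 38912, nat_lit 46792, nat_lit 43479, nat_lit 38111, nat_lit 32800, nat_lit 28746, nat_lit 24755, nat_lit 20506, nat_lit 16399, nat_lit 8193, nat_lit 434185, nat_lit 421894, nat_lit 413700, nat_lit 405506, nat_lit 397312, nat_lit 168960, nat_lit 161280, nat_lit 156288, nat_lit 153088, nat_lit 148128, nat_lit 145088, nat_lit 139472, nat_lit 135200,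 nat_lit 131584, nat_lit 45267, nat_lit 32958]⟩
def ndMr11_8 : El := ⟨[nat_lit 0xdebe1784e325a90929cc4731ed18041b5e95, nat_lit 0xaa9f9f84e3210061635ee214c742969b5e95], [nat_lit 86016, nat_lit 168960, nat_lit 164864, nat_lit 161280, nat_lit 159488, nat_lit 152256, nat_lit 147808, nat_lit 145032, nat_lit 139912, nat_lit 136958, nat_lit 132492, nat_lit 1614, nat_lit 7112, nat_lit 10952, nat_lit 12704, nat_lit 16960, nat_lit 22976, nat_lit 27136, nat_lit 32000, nat_lit 33280, nat_lit 39936, nat_lit 46145, nat_lit 41815, nat_lit 37011, nat_lit 33903, nat_lit 29190, nat_lit 24581, nat_lit 20762, nat_lit 16525, nat_lit 12305, nat_lit 8257, nat_lit 4128, nat_lit 8, nat_lit 425989, nat_lit 409600, nat_lit 151808, nat_lit 147744, nat_lit 131088, nat_lit 40976, nat_lit 28688, nat_lit 12289, nat_lit 8193, nat_lit 4097]⟩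
def ndMr11_9 : El := ⟨[nat_lit 0xe7d48190022a29c5bb4e884c71ab1667d924, nat_lit 0x9a0958c2727358f10061314e4a5ed55a12a], [nat_lit 69632, nat_lit 81920, nat_lit 86016, nat_lit 102400, nat_lit 106496, nat_lit 110592, nat_lit 178176, nat_lit 169472, nat_lit 166656, nat_lit 160768, nat_lit 159424, nat_lit 152320, nat_lit 150960, nat_lit 143968, nat_lit 141068, nat_lit 137500, nat_lit 134157, nat_lit 2232, nat_lit 6836, nat_lit 10112, nat_lit 14848, nat_lit 19840, nat_lit 23104, nat_lit 27136, nat_lit 30464, nat_lit 34816, nat_lit 45067, nat_lit 41981, nat_lit 36883, nat_lit 33901, nat_lit 28676, nat_lit 24597, nat_lit 21522, nat_lit 16450, nat_lit 8208, nat_lit 4101, nat_lit 425989, nat_lit 409600, nat_lit 151808, nat_lit 147744, nat_lit 131088, nat_lit 40976, nat_lit 28688, nat_lit 12289, nat_lit 8193, nat_lit 4097, nat_lit 327680]⟩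
def ndMr11_10 : El := ⟨[nat_lit 0xd77811314e4bd6d45a14900c229ca11735ec, nat_lit 0x65f0aa8c2726b9ec5a548bd696214e600c41], [nat_lit 65536, nat_lit 81920, nat_lit 86016, nat_lit 94208, nat_lit 106496, nat_lit 110592, nat_lit 178176, nat_lit 173056, nat_lit 169472, nat_lit 165120, nat_lit 160512, nat_lit 159424, nat_lit 152800, nat_lit 147536, nat_lit 147256, nat_lit 140588, nat_lit 135744, nat_lit 133117, nat_lit 484, nat_lit 5768, nat_lit 8408, nat_lit 13504, nat_lit 16608, nat_lit 24384, nat_lit 28416, nat_lit 30976, nat_lit 35328, nat_lit 37888, nat_lit 45091, nat_lit 41280, nat_lit 37329, nat_lit 32828, nat_lit 29201, nat_lit 24758, nat_lit 20507, nat_lit 16420, nat_lit 12306, nat_lit 8, nat_lit 425989, nat_lit 409600, nat_lit 151808, nat_lit 147744, nat_lit 131088, nat_lit 40976, nat_lit 28688, nat_lit 12289, nat_lit 8193, nat_lit 4097]⟩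
def ndMr11_11 : El := ⟨[nat_lit 0x472e1b04171120e66da65bd0695382c93c95, nat_lit 0x3a63ac290c752169a5af58c253735ec00c41], [nat_lit 69632, nat_lit 81920, nat_lit 86016, nat_lit 90112, nat_lit 98304, nat_lit 102400, nat_lit 110592, nat_lit 178176, nat_lit 174080, nat_lit 170496, nat_lit 167424, nat_lit 160640, nat_lit 158784, nat_lit 154848, nat_lit 148816, nat_lit 144952, nat_lit 142056, nat_lit 136100, nat_lit 135167, nat_lit 3746, nat_lit 4788, nat_lit 11920, nat_lit 14176, nat_lit 17248, nat_lit 21248, nat_lit 26624, nat_lit 32512, nat_lit 33280, nat_lit 39936, nat_lit 45113, nat_lit 41725, nat_lit 38325, nat_lit 29759, nat_lit 24634, nat_lit 20550, nat_lit 16417, nat_lit 8208, nat_lit 4160, nat_lit 4, nat_lit 425989, nat_lit 409600, nat_lit 151808, nat_lit 147744, nat_lit 131088, nat_lit 40976, nat_lit 28688, nat_lit 12289, nat_lit 8193, nat_lit 4097, nat_lit 327680]⟩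

def gensM : List (List El) := [
  [ndMg0_0, ndMg0_1, ndMg0_2, ndMg0_3, ndMg0_4],
  [ndMg1_0, ndMg1_1, ndMg1_2, ndMg1_3, ndMg1_4],
  [ndMg2_0, ndMg2_1, ndMg2_2, ndMg2_3, ndMg2_4],
  [ndMg3_0, ndMg3_1, ndMg3_2, ndMg3_3, ndMg3_4],
  [ndMg4_0, ndMg4_1, ndMg4_2, ndMg4_3, ndMg4_4],
  [ndMg5_0, ndMg5_1, ndMg5_2, ndMg5_3, ndMg5_4],
  [ndMg6_0, ndMg6_1, ndMg6_2, ndMg6_3, ndMg6_4],
  [ndMg7_0, ndMg7_1, ndMg7_2, ndMg7_3, ndMg7_4],
  [ndMg8_0, ndMg8_1, ndMg8_2, ndMg8_3, ndMg8_4],
  [ndMg9_0, ndMg9_1, ndMg9_2, ndMg9_3, ndMg9_4],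
  [ndMg10_0, ndMg10_1, ndMg10_2, ndMg10_3, ndMg10_4],
  [ndMg11_0, ndMg11_1, ndMg11_2, ndMg11_3, ndMg11_4]]

def repsM : List (List (El × ℕ)) := [
  [(ndMr0_0, nat_lit 0), (ndMr0_1, nat_lit 1), (ndMr0_2, nat_lit 2)],
  [(ndMr1_0, nat_lit 1), (ndMr1_1, nat_lit 1), (ndMr1_2, nat_lit 2), (ndMr1_3, nat_lit 0), (ndMr1_4, nat_lit 4), (ndMr1_5, nat_lit 3)],
  [(ndMr2_0, nat_lit 0), (ndMr2_1, nat_lit 4), (ndMr2_2, nat_lit 6), (ndMr2_3, nat_lit 3), (ndMr2_4, nat_lit 2), (ndMr2_5, nat_lit 3), (ndMr2_6, nat_lit 7), (ndMr2_7, nat_lit 5), (ndMr2_8, nat_lit 2), (ndMr2_9, nat_lit 1), (ndMr2_10, nat_lit 2)],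
  [(ndMr3_0, nat_lit 3), (ndMr3_1, nat_lit 1), (ndMr3_2, nat_lit 3), (ndMr3_3, nat_lit 3), (ndMr3_4, nat_lit 3), (ndMr3_5, nat_lit 3), (ndMr3_6, nat_lit 2), (ndMr3_7, nat_lit 2), (ndMr3_8, nat_lit 7), (ndMr3_9, nat_lit 9), (ndMr3_10, nat_lit 9), (ndMr3_11, nat_lit 8), (ndMr3_12, nat_lit 6), (ndMr3_13, nat_lit 10), (ndMr3_14, nat_lit 5), (ndMr3_15, nat_lit 7), (ndMr3_16, nat_lit 5), (ndMr3_17, nat_lit 4), (ndMr3_18, nat_lit 7), (ndMr3_19, nat_lit 3), (ndMr3_20, nat_lit 4)],
  [(ndMr4_0, nat_lit 3), (ndMr4_1, nat_lit 3), (ndMr4_2, nat_lit 4), (ndMr4_3, nat_lit 4), (ndMr4_4, nat_lit 2), (ndMr4_5, nat_lit 4), (ndMr4_6, nat_lit 4), (ndMr4_7, nat_lit 1), (ndMr4_8, nat_lit 4), (ndMr4_9, nat_lit 8), (ndMr4_10, nat_lit 10), (ndMr4_11, nat_lit 8), (ndMr4_12, nat_lit 6), (ndMr4_13, nat_lit 9), (ndMr4_14, nat_lit 7), (ndMr4_15, nat_lit 11), (ndMr4_16, nat_lit 11)],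
  [(ndMr5_0, nat_lit 2), (ndMr5_1, nat_lit 5), (ndMr5_2, nat_lit 3), (ndMr5_3, nat_lit 5), (ndMr5_4, nat_lit 3), (ndMr5_5, nat_lit 5), (ndMr5_6, nat_lit 6), (ndMr5_7, nat_lit 7), (ndMr5_8, nat_lit 9), (ndMr5_9, nat_lit 6), (ndMr5_10, nat_lit 10), (ndMr5_11, nat_lit 9), (ndMr5_12, nat_lit 7), (ndMr5_13, nat_lit 10)],
  [(ndMr6_0, nat_lit 2), (ndMr6_1, nat_lit 9), (ndMr6_2, nat_lit 8), (ndMr6_3, nat_lit 9), (ndMr6_4, nat_lit 9), (ndMr6_5, nat_lit 8), (ndMr6_6, nat_lit 6), (ndMr6_7, nat_lit 7), (ndMr6_8, nat_lit 9), (ndMr6_9, nat_lit 8), (ndMr6_10, nat_lit 8), (ndMr6_11, nat_lit 9), (ndMr6_12, nat_lit 9), (ndMr6_13, nat_lit 9), (ndMr6_14, nat_lit 11), (ndMr6_15, nat_lit 9), (ndMr6_16, nat_lit 6), (ndMr6_17, nat_lit 10), (ndMr6_18, nat_lit 8), (ndMr6_19, nat_lit 9), (ndMr6_20, nat_lit 10), (ndMr6_21, nat_lit 6), (ndMr6_22, nat_lit 8), (ndMr6_23, nat_lit 6), (ndMr6_24, nat_lit 9), (ndMr6_25, nat_lit 6), (ndMr6_26, nat_lit 9), (ndMr6_27, nat_lit 7), (ndMr6_28, nat_lit 9), (ndMr6_29,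 nat_lit 10), (ndMr6_30, nat_lit 6), (ndMr6_31, nat_lit 10), (ndMr6_32, nat_lit 9), (ndMr6_33, nat_lit 10), (ndMr6_34, nat_lit 7), (ndMr6_35, nat_lit 6), (ndMr6_36, nat_lit 9), (ndMr6_37, nat_lit 10), (ndMr6_38, nat_lit 9), (ndMr6_39, nat_lit 9), (ndMr6_40, nat_lit 6), (ndMr6_41, nat_lit 8), (ndMr6_42, nat_lit 8), (ndMr6_43, nat_lit 9), (ndMr6_44, nat_lit 10), (ndMr6_45, nat_lit 6), (ndMr6_46, nat_lit 8), (ndMr6_47, nat_lit 9), (ndMr6_48, nat_lit 6), (ndMr6_49, nat_lit 6), (ndMr6_50, nat_lit 9), (ndMr6_51, nat_lit 9), (ndMr6_52, nat_lit 5), (ndMr6_53, nat_lit 6), (ndMr6_54, nat_lit 7), (ndMr6_55, nat_lit 7), (ndMr6_56, nat_lit 3), (ndMr6_57, nat_lit 6), (ndMr6_58, nat_lit 6), (ndMr6_59, nat_lit 7), (ndMr6_60, nat_lit 5), (ndMr6_61, nat_lit 6), (ndMr6_62, nat_lit 4), (ndMr6_63, nat_lit 6)],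
  [(ndMr7_0, nat_lit 5), (ndMr7_1, nat_lit 4), (ndMr7_2, nat_lit 6), (ndMr7_3, nat_lit 6), (ndMr7_4, nat_lit 2), (ndMr7_5, nat_lit 7), (ndMr7_6, nat_lit 6), (ndMr7_7, nat_lit 3), (ndMr7_8, nat_lit 5), (ndMr7_9, nat_lit 7), (ndMr7_10, nat_lit 7), (ndMr7_11, nat_lit 6), (ndMr7_12, nat_lit 6), (ndMr7_13, nat_lit 7), (ndMr7_14, nat_lit 7), (ndMr7_15, nat_lit 7), (ndMr7_16, nat_lit 7), (ndMr7_17, nat_lit 6), (ndMr7_18, nat_lit 3), (ndMr7_19, nat_lit 3), (ndMr7_20, nat_lit 7), (ndMr7_21, nat_lit 8), (ndMr7_22, nat_lit 10), (ndMr7_23, nat_lit 9), (ndMr7_24, nat_lit 9), (ndMr7_25, nat_lit 8), (ndMr7_26, nat_lit 9), (ndMr7_27, nat_lit 9), (ndMr7_28, nat_lit 10), (ndMr7_29, nat_lit 9), (ndMr7_30, nat_lit 9), (ndMr7_31, nat_lit 8), (ndMr7_32, nat_lit 10), (ndMr7_33, nat_lit 10), (ndMr7_34, nat_lit 7)],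
  [(ndMr8_0, nat_lit 6), (ndMr8_1, nat_lit 6), (ndMr8_2, nat_lit 8), (ndMr8_3, nat_lit 3), (ndMr8_4, nat_lit 8), (ndMr8_5, nat_lit 6), (ndMr8_6, nat_lit 8), (ndMr8_7, nat_lit 8), (ndMr8_8, nat_lit 6), (ndMr8_9, nat_lit 8), (ndMr8_10, nat_lit 8), (ndMr8_11, nat_lit 8), (ndMr8_12, nat_lit 6), (ndMr8_13, nat_lit 8), (ndMr8_14, nat_lit 4), (ndMr8_15, nat_lit 6), (ndMr8_16, nat_lit 6), (ndMr8_17, nat_lit 7), (ndMr8_18, nat_lit 7), (ndMr8_19, nat_lit 7), (ndMr8_20, nat_lit 8), (ndMr8_21, nat_lit 9), (ndMr8_22, nat_lit 9), (ndMr8_23, nat_lit 9), (ndMr8_24, nat_lit 11), (ndMr8_25, nat_lit 8), (ndMr8_26, nat_lit 8), (ndMr8_27, nat_lit 9), (ndMr8_28, nat_lit 9), (ndMr8_29, nat_lit 8), (ndMr8_30, nat_lit 9), (ndMr8_31, nat_lit 9), (ndMr8_32, nat_lit 9), (ndMr8_33, nat_lit 9), (ndMr8_34, nat_lit 8), (ndMr8_35, nat_lit 9), (ndMr8_36, nat_lit 8), (ndMr8_37, nat_lit 9), (ndMr8_38, nat_lit 9), (ndMr8_39, nat_lit 9), (ndMr8_40, nat_lit 9), (ndMr8_41, nat_lit 9), (ndMr8_42, nat_lit 6), (ndMr8_43,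 nat_lit 6), (ndMr8_44, nat_lit 8), (ndMr8_45, nat_lit 9), (ndMr8_46, nat_lit 9), (ndMr8_47, nat_lit 11), (ndMr8_48, nat_lit 8), (ndMr8_49, nat_lit 10), (ndMr8_50, nat_lit 8), (ndMr8_51, nat_lit 10), (ndMr8_52, nat_lit 9), (ndMr8_53, nat_lit 4), (ndMr8_54, nat_lit 8), (ndMr8_55, nat_lit 9), (ndMr8_56, nat_lit 8), (ndMr8_57, nat_lit 9), (ndMr8_58, nat_lit 10), (ndMr8_59, nat_lit 9), (ndMr8_60, nat_lit 8), (ndMr8_61, nat_lit 9), (ndMr8_62, nat_lit 8), (ndMr8_63, nat_lit 8), (ndMr8_64, nat_lit 11), (ndMr8_65, nat_lit 9), (ndMr8_66, nat_lit 10), (ndMr8_67, nat_lit 8)],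
  [(ndMr9_0, nat_lit 6), (ndMr9_1, nat_lit 9), (ndMr9_2, nat_lit 8), (ndMr9_3, nat_lit 9), (ndMr9_4, nat_lit 9), (ndMr9_5, nat_lit 6), (ndMr9_6, nat_lit 8), (ndMr9_7, nat_lit 6), (ndMr9_8, nat_lit 6), (ndMr9_9, nat_lit 9), (ndMr9_10, nat_lit 9), (ndMr9_11, nat_lit 9), (ndMr9_12, nat_lit 9), (ndMr9_13, nat_lit 9), (ndMr9_14, nat_lit 9), (ndMr9_15, nat_lit 9), (ndMr9_16, nat_lit 9), (ndMr9_17, nat_lit 7), (ndMr9_18, nat_lit 8), (ndMr9_19, nat_lit 8), (ndMr9_20, nat_lit 9), (ndMr9_21, nat_lit 8), (ndMr9_22, nat_lit 9), (ndMr9_23, nat_lit 6), (ndMr9_24, nat_lit 7), (ndMr9_25, nat_lit 8), (ndMr9_26, nat_lit 6), (ndMr9_27, nat_lit 8), (ndMr9_28, nat_lit 8), (ndMr9_29, nat_lit 3), (ndMr9_30, nat_lit 6), (ndMr9_31, nat_lit 7), (ndMr9_32, nat_lit 8), (ndMr9_33, nat_lit 8), (ndMr9_34, nat_lit 8), (ndMr9_35, nat_lit 8), (ndMr9_36, nat_lit 8), (ndMr9_37, nat_lit 8), (ndMr9_38, nat_lit 8), (ndMr9_39, nat_lit 8), (ndMr9_40, nat_lit 8), (ndMr9_41, nat_lit 8), (ndMr9_42, nat_lit 8), (ndMr9_43,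 nat_lit 8), (ndMr9_44, nat_lit 8), (ndMr9_45, nat_lit 9), (ndMr9_46, nat_lit 9), (ndMr9_47, nat_lit 9), (ndMr9_48, nat_lit 9), (ndMr9_49, nat_lit 9), (ndMr9_50, nat_lit 9), (ndMr9_51, nat_lit 9), (ndMr9_52, nat_lit 9), (ndMr9_53, nat_lit 6), (ndMr9_54, nat_lit 6), (ndMr9_55, nat_lit 8), (ndMr9_56, nat_lit 6), (ndMr9_57, nat_lit 9), (ndMr9_58, nat_lit 6), (ndMr9_59, nat_lit 6), (ndMr9_60, nat_lit 9), (ndMr9_61, nat_lit 9), (ndMr9_62, nat_lit 11), (ndMr9_63, nat_lit 9), (ndMr9_64, nat_lit 6), (ndMr9_65, nat_lit 9), (ndMr9_66, nat_lit 6), (ndMr9_67, nat_lit 10), (ndMr9_68, nat_lit 9), (ndMr9_69, nat_lit 9), (ndMr9_70, nat_lit 11), (ndMr9_71, nat_lit 6), (ndMr9_72, nat_lit 6), (ndMr9_73, nat_lit 9), (ndMr9_74, nat_lit 10), (ndMr9_75, nat_lit 9), (ndMr9_76, nat_lit 9), (ndMr9_77, nat_lit 9), (ndMr9_78, nat_lit 9), (ndMr9_79, nat_lit 9), (ndMr9_80, nat_lit 9), (ndMr9_81, nat_lit 9), (ndMr9_82, nat_lit 9), (ndMr9_83, nat_lit 9), (ndMr9_84, nat_lit 9), (ndMr9_85, nat_lit 9), (ndMr9_86,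 nat_lit 9), (ndMr9_87, nat_lit 9), (ndMr9_88, nat_lit 6), (ndMr9_89, nat_lit 8), (ndMr9_90, nat_lit 9), (ndMr9_91, nat_lit 10), (ndMr9_92, nat_lit 10), (ndMr9_93, nat_lit 9), (ndMr9_94, nat_lit 10), (ndMr9_95, nat_lit 11), (ndMr9_96, nat_lit 9), (ndMr9_97, nat_lit 10), (ndMr9_98, nat_lit 7), (ndMr9_99, nat_lit 9), (ndMr9_100, nat_lit 6), (ndMr9_101, nat_lit 9), (ndMr9_102, nat_lit 7), (ndMr9_103, nat_lit 6), (ndMr9_104, nat_lit 10), (ndMr9_105, nat_lit 10), (ndMr9_106, nat_lit 7), (ndMr9_107, nat_lit 9), (ndMr9_108, nat_lit 5), (ndMr9_109, nat_lit 4), (ndMr9_110, nat_lit 9), (ndMr9_111, nat_lit 10), (ndMr9_112, nat_lit 6), (ndMr9_113, nat_lit 9), (ndMr9_114, nat_lit 3), (ndMr9_115, nat_lit 9), (ndMr9_116, nat_lit 9), (ndMr9_117, nat_lit 5)],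
  [(ndMr10_0, nat_lit 9), (ndMr10_1, nat_lit 9), (ndMr10_2, nat_lit 6), (ndMr10_3, nat_lit 6), (ndMr10_4, nat_lit 8), (ndMr10_5, nat_lit 8), (ndMr10_6, nat_lit 6), (ndMr10_7, nat_lit 8), (ndMr10_8, nat_lit 7), (ndMr10_9, nat_lit 8), (ndMr10_10, nat_lit 9), (ndMr10_11, nat_lit 10), (ndMr10_12, nat_lit 9), (ndMr10_13, nat_lit 6), (ndMr10_14, nat_lit 9), (ndMr10_15, nat_lit 6), (ndMr10_16, nat_lit 6), (ndMr10_17, nat_lit 9), (ndMr10_18, nat_lit 3), (ndMr10_19, nat_lit 4), (ndMr10_20, nat_lit 5), (ndMr10_21, nat_lit 6), (ndMr10_22, nat_lit 7), (ndMr10_23, nat_lit 7), (ndMr10_24, nat_lit 7), (ndMr10_25, nat_lit 9), (ndMr10_26, nat_lit 9), (ndMr10_27, nat_lit 9), (ndMr10_28, nat_lit 10), (ndMr10_29, nat_lit 10), (ndMr10_30, nat_lit 5), (ndMr10_31, nat_lit 10), (ndMr10_32, nat_lit 10), (ndMr10_33, nat_lit 10), (ndMr10_34, nat_lit 10), (ndMr10_35, nat_lit 10)],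
  [(ndMr11_0, nat_lit 11), (ndMr11_1, nat_lit 8), (ndMr11_2, nat_lit 8), (ndMr11_3, nat_lit 9), (ndMr11_4, nat_lit 6), (ndMr11_5, nat_lit 9), (ndMr11_6, nat_lit 11), (ndMr11_7, nat_lit 8), (ndMr11_8, nat_lit 11), (ndMr11_9, nat_lit 9), (ndMr11_10, nat_lit 4), (ndMr11_11, nat_lit 4)]]

def matM : List (List ℕ) := [
  [93150, 8197200, 8294400, 0, 0, 0, 0, 0, 0, 0, 0, 0],
  [135, 64935, 483840, 7741440, 8294400, 0, 0, 0, 0, 0, 0, 0],
  [1, 3542, 35927, 2007808, 971520, 1036288, 5275648, 7254016, 0, 0, 0, 0],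
  [0, 63, 2232, 137367, 151200, 96768, 3870720, 2225664, 1548288, 6488064, 2064384, 0],
  [0, 15, 240, 33600, 54255, 0, 430080, 860160, 7311360, 6881280, 491520, 522240],
  [0, 0, 891, 74844, 0, 133731, 8382528, 2020788, 0, 5018112, 953856, 0],
  [0, 0, 1, 660, 330, 1848, 2217999, 134024, 6052992, 7817216, 275200, 84480],
  [0, 0, 27, 7452, 12960, 8748, 2631744, 321003, 5142528, 7948800, 511488, 0],
  [0, 0, 0, 60, 1275, 0, 1375680, 59520, 6435735, 8309760, 131520, 271200],
  [0, 0, 0, 198, 945, 198, 1399104, 72450, 6543936, 8186607, 106992, 274320],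
  [0, 0, 0, 3850, 4125, 2300, 3010000, 284900, 6329400, 6538400, 411775, 0],
  [0, 0, 0, 0, 2295, 0, 483840, 0, 6834240, 8778240, 0, 486135]]

end

end CF.Mon
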