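import Cfsg.Agent.Mon.Elem

/-! Node data of a double coset enumeration. -/

set_option autoImplicit false
set_option maxRecDepth 100000

namespace CF.Mon

open CF.Comp

noncomputable section

def ndPg0_0 : El := ⟨[nat_lit 0x6aa5636b944b8df349c2035516141948c8ab, nat_lit 0x777d8b88901a8da6059857add222667a42ea, nat_lit 0x5a5c35559833c8018aca9a5493409b7819cf, nat_lit 0x811ebb488859dccfb54688820aa34f25858e], [nat_lit 65536, nat_lit 69632, nat_lit 73728, nat_lit 77824, nat_lit 94208, nat_lit 102400, nat_lit 106496, nat_lit 175104, nat_lit 171520, nat_lit 165888, nat_lit 161664, nat_lit 157184, nat_lit 155552, nat_lit 149728, nat_lit 146584, nat_lit 142268, nat_lit 135302, nat_lit 131552, nat_lit 488, nat_lit 4584, nat_lit 8680, nat_lit 14688, nat_lit 18080, nat_lit 23424, nat_lit 24704, nat_lit 29184, nat_lit 35840, nat_lit 38912, nat_lit 45327, nat_lit 41845, nat_lit 38057, nat_lit 32894, nat_lit 28728, nat_lit 24606, nat_lit 20635, nat_lit 16454, nat_lit 12293, nat_lit 8193,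 nat_lit 4097, nat_lit 438282, nat_lit 430088, nat_lit 421894, nat_lit 413700, nat_lit 405504, nat_lit 169984, nat_lit 167424, nat_lit 158464, nat_lit 155456, nat_lit 147520, nat_lit 143792, nat_lit 132896, nat_lit 8193, nat_lit 4097, nat_lit 327680]⟩
def ndPg0_1 : El := ⟨[nat_lit 0x47de1449eefb110d651650cc033554e80a51, nat_lit 0xf9a065899b510d0175cb383cf602d2a65092, nat_lit 0x8448e49846d7257195eac20116550e27c0a6], [nat_lit 65536, nat_lit 69632, nat_lit 73728, nat_lit 90112, nat_lit 106496, nat_lit 110592, nat_lit 175104, nat_lit 169984, nat_lit 164864, nat_lit 160896, nat_lit 156032, nat_lit 155328, nat_lit 149248, nat_lit 143960, nat_lit 139496, nat_lit 138210, nat_lit 132646, nat_lit 2052, nat_lit 6148, nat_lit 8952, nat_lit 15616, nat_lit 20288, nat_lit 22720, nat_lit 28416, nat_lit 32000, nat_lit 33280, nat_lit 38912, nat_lit 45569, nat_lit 41281, nat_lit 39103, nat_lit 32852, nat_lit 29300, nat_lit 24759, nat_lit 20555, nat_lit 16418, nat_lit 12356, nat_lit 8209, nat_lit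 4097, nat_lit 430088, nat_lit 413700, nat_lit 405504, nat_lit 131112, nat_lit 45848, nat_lit 41008, nat_lit 28673, nat_lit 24577, nat_lit 8193, nat_lit 4097]⟩
def ndPg0_2 : El := ⟨[nat_lit 0xbed44802c25a307325aaa3a65178af06990e, nat_lit 0xd21214ad89768d717c04a70533394d49200c, nat_lit 0x33ff6391e03024887cd55135868bacb096f4], [nat_lit 65536, nat_lit 69632, nat_lit 73728, nat_lit 81920, nat_lit 90112, nat_lit 178176, nat_lit 175104, nat_lit 169984, nat_lit 164352, nat_lit 161280, nat_lit 156992, nat_lit 151840, nat_lit 151056, nat_lit 145304, nat_lit 140748, nat_lit 138498, nat_lit 133996, nat_lit 1558, nat_lit 4100, nat_lit 9744, nat_lit 13424, nat_lit 18688, nat_lit 24000, nat_lit 24832, nat_lit 32000, nat_lit 35328, nat_lit 39936, nat_lit 43008, nat_lit 46756, nat_lit 43869, nat_lit 36947, nat_lit 32857, nat_lit 29716, nat_lit 24714, nat_lit 20501, nat_lit 16421, nat_lit 12420, nat_lit 8195, nat_lit 4100, nat_lit 434184, nat_lit 417796, nat_lit 405504, nat_lit 143440, nat_lit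 131096, nat_lit 45313, nat_lit 36865, nat_lit 28673, nat_lit 20504, nat_lit 8193, nat_lit 4097]⟩
def ndPg0_3 : El := ⟨[nat_lit 0x18db7164c657d5c90d16095a086c48251ae7, nat_lit 0xbb414d315c4b2e6388a884caa082ae13b1ed, nat_lit 0x4bd7de812b35062d92582b1d68351ee2dc60], [nat_lit 90112, nat_lit 98304, nat_lit 106496, nat_lit 110592, nat_lit 169984, nat_lit 165888, nat_lit 160640, nat_lit 158912, nat_lit 152544, nat_lit 150064, nat_lit 147360, nat_lit 140900, nat_lit 138562, nat_lit 133881, nat_lit 2080, nat_lit 6176, nat_lit 10272, nat_lit 15808, nat_lit 18496, nat_lit 22656, nat_lit 27904, nat_lit 35328, nat_lit 39936, nat_lit 43008, nat_lit 45404, nat_lit 41632, nat_lit 38387, nat_lit 32962, nat_lit 28739, nat_lit 24634, nat_lit 20488, nat_lit 16450, nat_lit 12310, nat_lit 425991, nat_lit 417797, nat_lit 409603, nat_lit 155776, nat_lit 151680, nat_lit 45368, nat_lit 37088]⟩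
def ndPg0_4 : El := ⟨[nat_lit 0x5fc6c0a0181429b57de51995633a602b11c6, nat_lit 0xd27b88238aa5c9b114cf57d2c9806e662060, nat_lit 0x4e8e8e1dca05062d992b045967719f462452, nat_lit 0x7d71ed6006e7882d32d278daf3a4a1521548], [nat_lit 77824, nat_lit 90112, nat_lit 94208, nat_lit 106496, nat_lit 178176, nat_lit 174080, nat_lit 168960, nat_lit 161152, nat_lit 156672, nat_lit 152608, nat_lit 148320, nat_lit 144728, nat_lit 141852, nat_lit 138556, nat_lit 132365, nat_lit 2566, nat_lit 4100, nat_lit 10752, nat_lit 16080, nat_lit 17696, nat_lit 23616, nat_lit 26496, nat_lit 30208, nat_lit 35328, nat_lit 43008, nat_lit 46078, nat_lit 41622, nat_lit 37888, nat_lit 33003, nat_lit 28703, nat_lit 24883, nat_lit 20755, nat_lit 16422, nat_lit 12307, nat_lit 8195, nat_lit 4100, nat_lit 438282, nat_lit 430088, nat_lit 421894, nat_lit 413700, nat_lit 405504, nat_lit 169984, nat_lit 156160, nat_lit 154496, nat_lit 150400, nat_lit 143888, nat_lit 133848, nat_lit 8193, nat_lit 4097, nat_lit 327680]⟩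
def ndPr0_0 : El := ⟨[], []⟩
def ndPg1_0 : El := ⟨[nat_lit 0xfcca60a91107b46c5da6792a854dcd170820], [nat_lit 98304, nat_lit 175104, nat_lit 168448, nat_lit 166656, nat_lit 160640, nat_lit 158912, nat_lit 155168, nat_lit 148544, nat_lit 145424, nat_lit 142852, nat_lit 135326, nat_lit 135085, nat_lit 2, nat_lit 4100, nat_lit 10728, nat_lit 15440, nat_lit 18336, nat_lit 21760, nat_lit 27136, nat_lit 31744, nat_lit 38912, nat_lit 41928, nat_lit 37091, nat_lit 33875, nat_lit 28928, nat_lit 24625, nat_lit 20554, nat_lit 16395, nat_lit 12308, nat_lit 8195, nat_lit 4100, nat_lit 2, nat_lit 327680]⟩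
def ndPg1_1 : El := ⟨[nat_lit 0x3f5c90b5477640e922db1915ca34de8a0820], [nat_lit 65536, nat_lit 69632, nat_lit 73728, nat_lit 81920, nat_lit 98304, nat_lit 106496, nat_lit 178176, nat_lit 173056, nat_lit 168448, nat_lit 164096, nat_lit 160384, nat_lit 157504, nat_lit 155616, nat_lit 148496, nat_lit 145472, nat_lit 139828, nat_lit 138536, nat_lit 134640, nat_lit 2112, nat_lit 6208, nat_lit 10304, nat_lit 14144, nat_lit 17760, nat_lit 22784, nat_lit 25728, nat_lit 29952, nat_lit 33280, nat_lit 41743, nat_lit 37055, nat_lit 32819, nat_lit 28776, nat_lit 24750, nat_lit 20637, nat_lit 16421, nat_lit 12416]⟩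
def ndPg1_2 : El := ⟨[nat_lit 0x65ccf063c6e32a168d08b448f79a4b568820], [nat_lit 81920, nat_lit 86016, nat_lit 90112, nat_lit 98304, nat_lit 102400, nat_lit 178176, nat_lit 175104, nat_lit 168448, nat_lit 167680, nat_lit 162304, nat_lit 157568, nat_lit 155232, nat_lit 148496, nat_lit 143736, nat_lit 142584, nat_lit 137358, nat_lit 132451, nat_lit 2, nat_lit 7952, nat_lit 12048, nat_lit 16112, nat_lit 16864, nat_lit 25600, nat_lit 31744, nat_lit 36352, nat_lit 43008, nat_lit 41271, nat_lit 37041, nat_lit 32870, nat_lit 29248, nat_lit 24586, nat_lit 20612, nat_lit 12294, nat_lit 8193, nat_lit 4097, nat_lit 2, nat_lit 327680]⟩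
def ndPg1_3 : El := ⟨[nat_lit 0x48b787538b462cd53b517792c91c23390820], [nat_lit 81920, nat_lit 86016, nat_lit 90112, nat_lit 94208, nat_lit 102400, nat_lit 175104, nat_lit 171520, nat_lit 167680, nat_lit 162048, nat_lit 157824, nat_lit 153600, nat_lit 149888, nat_lit 147088, nat_lit 142908, nat_lit 135692, nat_lit 134318, nat_lit 3034, nat_lit 4100, nat_lit 10240, nat_lit 15312, nat_lit 16768, nat_lit 26240, nat_lit 29696, nat_lit 35328, nat_lit 37888, nat_lit 41678, nat_lit 38080, nat_lit 32844, nat_lit 29760, nat_lit 24615, nat_lit 20494, nat_lit 16395, nat_lit 12294, nat_lit 8200, nat_lit 4100, nat_lit 327680]⟩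
def ndPg1_4 : El := ⟨[nat_lit 0x84d1884c9f68550e30ca78d16d9aaec20820], [nat_lit 77824, nat_lit 81920, nat_lit 98304, nat_lit 106496, nat_lit 175104, nat_lit 171008, nat_lit 166400, nat_lit 159872, nat_lit 155904, nat_lit 154400, nat_lit 148576, nat_lit 143552, nat_lit 140252, nat_lit 138348, nat_lit 132409, nat_lit 2, nat_lit 7904, nat_lit 12000, nat_lit 14624, nat_lit 18144, nat_lit 23872, nat_lit 24832, nat_lit 29440, nat_lit 33280, nat_lit 43008, nat_lit 41232, nat_lit 37281, nat_lit 33487, nat_lit 29207, nat_lit 24597, nat_lit 20506, nat_lit 16399, nat_lit 12310, nat_lit 8193, nat_lit 4097, nat_lit 2, nat_lit 327680]⟩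
def ndPr1_0 : El := ⟨[], []⟩
def ndPr1_1 : El := ⟨[nat_lit 0xe7db7131ed414a214b58a182707b968254b7, nat_lit 0xe227177a8b05b264a1cc295831682ae42477, nat_lit 0x412bb75cc68bb124b5222696aa7c00e098f2, nat_lit 0x1781b798ac682df2624612b507ac480552ee], [nat_lit 65536, nat_lit 69632, nat_lit 73728, nat_lit 77824, nat_lit 81920, nat_lit 94208, nat_lit 98304, nat_lit 110592, nat_lit 178176, nat_lit 173056, nat_lit 170496, nat_lit 160384, nat_lit 156416, nat_lit 152096, nat_lit 148048, nat_lit 144776, nat_lit 140988, nat_lit 136290, nat_lit 131313, nat_lit 1766, nat_lit 4100, nat_lit 9952, nat_lit 14288, nat_lit 16864, nat_lit 22080, nat_lit 28160, nat_lit 31744, nat_lit 35840, nat_lit 43008, nat_lit 45553, nat_lit 41594, nat_lit 37087, nat_lit 32943, nat_lit 29025, nat_lit 24724, nat_lit 20490, nat_lit 16386, nat_lit 12290, nat_lit 8195, nat_lit 4100, nat_lit 2, nat_lit 438282, nat_lit 430088, nat_lit 421894, nat_lit 413700, nat_lit 405504, nat_lit 171008, nat_lit 166912, nat_lit 163584,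 nat_lit 159232, nat_lit 152320, nat_lit 149792, nat_lit 145616, nat_lit 134720, nat_lit 8193, nat_lit 4097, nat_lit 327680]⟩
def ndPr1_2 : El := ⟨[nat_lit 0x9a3cff7cd891baa555a57a11a10444b440e6, nat_lit 0x560fc9a062cb81f2510a74acc8b41a31566e, nat_lit 0x5fc9cf0554171873bc9302d964145e7a350c], [nat_lit 65536, nat_lit 69632, nat_lit 73728, nat_lit 81920, nat_lit 86016, nat_lit 94208, nat_lit 98304, nat_lit 175104, nat_lit 169472, nat_lit 167680, nat_lit 159168, nat_lit 155264, nat_lit 150400, nat_lit 144064, nat_lit 139964, nat_lit 136116, nat_lit 131697, nat_lit 460, nat_lit 4556, nat_lit 10024, nat_lit 12736, nat_lit 17088, nat_lit 22272, nat_lit 31488, nat_lit 33280, nat_lit 37888, nat_lit 43008, nat_lit 45810, nat_lit 41007, nat_lit 39203, nat_lit 32985, nat_lit 28773, nat_lit 24586, nat_lit 20484, nat_lit 12295, nat_lit 8202, nat_lit 4097, nat_lit 434182, nat_lit 413700, nat_lit 405504, nat_lit 147520, nat_lit 144432, nat_lit 132104, nat_lit 46120, nat_lit 36936, nat_lit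 32872, nat_lit 28673, nat_lit 8193, nat_lit 4097, nat_lit 327680]⟩
def ndPr1_3 : El := ⟨[nat_lit 0xbdbbe1a58754ba26628932ae0f3a1b205c41, nat_lit 0x7d811d34aea8d12524d750358e858e878c41], [nat_lit 86016, nat_lit 98304, nat_lit 106496, nat_lit 178176, nat_lit 175104, nat_lit 171520, nat_lit 167680, nat_lit 163712, nat_lit 156288, nat_lit 153472, nat_lit 151520, nat_lit 147440, nat_lit 141940, nat_lit 136880, nat_lit 132478, nat_lit 1000, nat_lit 5096, nat_lit 9192, nat_lit 15424, nat_lit 17984, nat_lit 22272, nat_lit 26368, nat_lit 30464, nat_lit 33280, nat_lit 45722, nat_lit 41064, nat_lit 37362, nat_lit 33439, nat_lit 29298, nat_lit 24604, nat_lit 20759, nat_lit 16428, nat_lit 12321, nat_lit 8193, nat_lit 4097, nat_lit 417796, nat_lit 405504, nat_lit 147520, nat_lit 131080, nat_lit 36880, nat_lit 32776, nat_lit 28736, nat_lit 20496, nat_lit 8193, nat_lit 4097]⟩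
def ndPr1_4 : El := ⟨[nat_lit 0x5a606fa3209bc9a8310a39d96e545f538820], [nat_lit 65536, nat_lit 69632, nat_lit 73728, nat_lit 81920, nat_lit 86016, nat_lit 90112, nat_lit 94208, nat_lit 102400, nat_lit 110592, nat_lit 173056, nat_lit 169984, nat_lit 165888, nat_lit 162176, nat_lit 158784, nat_lit 151648, nat_lit 149248, nat_lit 147424, nat_lit 140524, nat_lit 138810, nat_lit 132714, nat_lit 2048, nat_lit 6144, nat_lit 10240, nat_lit 13456, nat_lit 19712, nat_lit 23296, nat_lit 27776, nat_lit 30720, nat_lit 39936, nat_lit 41472, nat_lit 37373, nat_lit 32948, nat_lit 29004, nat_lit 24760, nat_lit 20638, nat_lit 16523, nat_lit 12295]⟩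
def ndPg2_0 : El := ⟨[nat_lit 0xdb17b79a4b5b28d01bd8e91d172522b68820], [nat_lit 65536, nat_lit 69632, nat_lit 73728, nat_lit 81920, nat_lit 90112, nat_lit 94208, nat_lit 102400, nat_lit 178176, nat_lit 173056, nat_lit 171008, nat_lit 164608, nat_lit 159872, nat_lit 156928, nat_lit 152096, nat_lit 151312, nat_lit 146896, nat_lit 140672, nat_lit 135828, nat_lit 131227, nat_lit 2, nat_lit 7952, nat_lit 12048, nat_lit 14064, nat_lit 19648, nat_lit 21760, nat_lit 25088, nat_lit 29440, nat_lit 33280, nat_lit 37888, nat_lit 43008, nat_lit 41457, nat_lit 37073, nat_lit 33943, nat_lit 28753, nat_lit 24704, nat_lit 20496, nat_lit 16427, nat_lit 12294, nat_lit 8193, nat_lit 4097, nat_lit 2, nat_lit 327680]⟩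
def ndPg2_1 : El := ⟨[nat_lit 0xb12448a2c8d35dc984873620b6aa8ef88820], [nat_lit 86016, nat_lit 102400, nat_lit 175104, nat_lit 169984, nat_lit 167168, nat_lit 163584, nat_lit 156864, nat_lit 152224, nat_lit 149936, nat_lit 147024, nat_lit 139532, nat_lit 138506, nat_lit 132016, nat_lit 2, nat_lit 4100, nat_lit 9328, nat_lit 15712, nat_lit 20064, nat_lit 24320, nat_lit 26496, nat_lit 30464, nat_lit 34816, nat_lit 39936, nat_lit 41186, nat_lit 36951, nat_lit 32956, nat_lit 28702, nat_lit 24593, nat_lit 20740, nat_lit 16395, nat_lit 12304, nat_lit 8195, nat_lit 4100, nat_lit 2, nat_lit 327680]⟩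
def ndPg2_2 : El := ⟨[nat_lit 0x66f990748b4b3606b91934ad037d62750820], [nat_lit 77824, nat_lit 86016, nat_lit 94208, nat_lit 178176, nat_lit 175104, nat_lit 171520, nat_lit 165376, nat_lit 162432, nat_lit 156096, nat_lit 153504, nat_lit 147760, nat_lit 145024, nat_lit 140760, nat_lit 137324, nat_lit 132311, nat_lit 2, nat_lit 4100, nat_lit 10728, nat_lit 16112, nat_lit 17728, nat_lit 21056, nat_lit 26112, nat_lit 29952, nat_lit 33280, nat_lit 38912, nat_lit 43008, nat_lit 41978, nat_lit 36891, nat_lit 33881, nat_lit 29048, nat_lit 24603, nat_lit 20507, nat_lit 16421, nat_lit 12290, nat_lit 8195, nat_lit 4100, nat_lit 2]⟩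
def ndPg2_3 : El := ⟨[nat_lit 0xd8bbbb586e24d25361c7121916ab54e03e05, nat_lit 0xb71dbe4b4b3821c45b246b8ed48a8ef08055, nat_lit 0x39563324663289ac921d5a06e67c1363ad40], [nat_lit 65536, nat_lit 69632, nat_lit 73728, nat_lit 77824, nat_lit 81920, nat_lit 86016, nat_lit 90112, nat_lit 94208, nat_lit 106496, nat_lit 178176, nat_lit 175104, nat_lit 168960, nat_lit 165888, nat_lit 160640, nat_lit 158208, nat_lit 152320, nat_lit 148976, nat_lit 144072, nat_lit 139688, nat_lit 135596, nat_lit 134558, nat_lit 2176, nat_lit 6272, nat_lit 10368, nat_lit 12544, nat_lit 20384, nat_lit 22528, nat_lit 24960, nat_lit 29440, nat_lit 35328, nat_lit 39936, nat_lit 43008, nat_lit 46912, nat_lit 43371, nat_lit 37191, nat_lit 32916, nat_lit 28693, nat_lit 24583, nat_lit 20502, nat_lit 16419, nat_lit 13319, nat_lit 430088, nat_lit 417797, nat_lit 409603, nat_lit 164352, nat_lit 156160, nat_lit 151616, nat_lit 147520, nat_lit 143968, nat_lit 45088, nat_lit 41776, nat_lit 28704]⟩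
def ndPg2_4 : El := ⟨[nat_lit 0x4b82e775d3129c6443e74829b65b2b230820], [nat_lit 65536, nat_lit 69632, nat_lit 73728, nat_lit 77824, nat_lit 98304, nat_lit 102400, nat_lit 106496, nat_lit 178176, nat_lit 174080, nat_lit 164352, nat_lit 162176, nat_lit 155776, nat_lit 152256, nat_lit 149968, nat_lit 144512, nat_lit 143132, nat_lit 139168, nat_lit 135036, nat_lit 2, nat_lit 7324, nat_lit 11264, nat_lit 15504, nat_lit 18432, nat_lit 23744, nat_lit 28288, nat_lit 32256, nat_lit 34816, nat_lit 37888, nat_lit 41455, nat_lit 37013, nat_lit 33925, nat_lit 29241, nat_lit 24887, nat_lit 20609, nat_lit 16448, nat_lit 12293, nat_lit 8200, nat_lit 4097, nat_lit 2]⟩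
def ndPg2_5 : El := ⟨[nat_lit 0x8187287aa35298836c91772ed3a259038820], [nat_lit 65536, nat_lit 69632, nat_lit 73728, nat_lit 90112, nat_lit 94208, nat_lit 102400, nat_lit 175104, nat_lit 169984, nat_lit 164864, nat_lit 163328, nat_lit 159616, nat_lit 152864, nat_lit 150048, nat_lit 144080, nat_lit 139668, nat_lit 139144, nat_lit 134826, nat_lit 1024, nat_lit 5120, nat_lit 9216, nat_lit 15504, nat_lit 17600, nat_lit 21184, nat_lit 25600, nat_lit 29440, nat_lit 33792, nat_lit 41670, nat_lit 37328, nat_lit 33487, nat_lit 29246, nat_lit 24600, nat_lit 20483, nat_lit 16456, nat_lit 12295, nat_lit 327680]⟩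
def ndPr2_0 : El := ⟨[nat_lit 0x95c30f010543a2ca7247381af20c5ab63ea5, nat_lit 0x248edb290f7a58d50b5734404c7446953e40, nat_lit 0xa95f51920dba42233a202aac763ea85ce92], [nat_lit 65536, nat_lit 69632, nat_lit 73728, nat_lit 81920, nat_lit 86016, nat_lit 94208, nat_lit 98304, nat_lit 175104, nat_lit 169472, nat_lit 167680, nat_lit 159168, nat_lit 155264, nat_lit 150400, nat_lit 144064, nat_lit 139964, nat_lit 136116, nat_lit 131697, nat_lit 460, nat_lit 4556, nat_lit 10024, nat_lit 12736, nat_lit 17088, nat_lit 22272, nat_lit 31488, nat_lit 33280, nat_lit 37888, nat_lit 43008, nat_lit 45810, nat_lit 41007, nat_lit 39203, nat_lit 32985, nat_lit 28773, nat_lit 24586, nat_lit 20484, nat_lit 12295, nat_lit 8202, nat_lit 4097, nat_lit 434182, nat_lit 413700, nat_lit 405504, nat_lit 147520, nat_lit 144432, nat_lit 132104, nat_lit 46120, nat_lit 36936, nat_lit 32872, nat_lit 28673, nat_lit 8193, nat_lit 4097, nat_lit 327680]⟩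
def ndPg3_0 : El := ⟨[nat_lit 0xfff0f08c25321cc5639ed42d2aaded418820], [nat_lit 77824, nat_lit 86016, nat_lit 94208, nat_lit 98304, nat_lit 173056, nat_lit 170496, nat_lit 167168, nat_lit 163072, nat_lit 158400, nat_lit 151712, nat_lit 150944, nat_lit 143456, nat_lit 141944, nat_lit 137906, nat_lit 133769, nat_lit 2, nat_lit 7324, nat_lit 8200, nat_lit 15504, nat_lit 17568, nat_lit 21056, nat_lit 25216, nat_lit 30208, nat_lit 35840, nat_lit 41134, nat_lit 37109, nat_lit 32900, nat_lit 28778, nat_lit 24629, nat_lit 20496, nat_lit 16389, nat_lit 12293, nat_lit 8200, nat_lit 4097, nat_lit 2]⟩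
def ndPg3_1 : El := ⟨[nat_lit 0xf663cf5b0d58c0733a2edb112f2a9d490820], [nat_lit 90112, nat_lit 94208, nat_lit 98304, nat_lit 106496, nat_lit 178176, nat_lit 174080, nat_lit 168960, nat_lit 165120, nat_lit 159680, nat_lit 152768, nat_lit 147840, nat_lit 146792, nat_lit 143292, nat_lit 137344, nat_lit 131684, nat_lit 64, nat_lit 4160, nat_lit 8256, nat_lit 14848, nat_lit 18368, nat_lit 22144, nat_lit 32256, nat_lit 33792, nat_lit 38912, nat_lit 41619, nat_lit 36936, nat_lit 32936, nat_lit 28788, nat_lit 24591, nat_lit 20483, nat_lit 16516, nat_lit 12359, nat_lit 327680]⟩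
def ndPg3_2 : El := ⟨[nat_lit 0x3903f58d975914c87cdca140293d00c6dc83, nat_lit 0x4ebddba01f11d5b3b41c295c2c324e442d45, nat_lit 0x78284274cd02568f4c877458315a8ed60045], [nat_lit 65536, nat_lit 69632, nat_lit 73728, nat_lit 77824, nat_lit 86016, nat_lit 94208, nat_lit 106496, nat_lit 110592, nat_lit 178176, nat_lit 175104, nat_lit 169984, nat_lit 166144, nat_lit 158272, nat_lit 152928, nat_lit 149536, nat_lit 145064, nat_lit 140776, nat_lit 135744, nat_lit 134763, nat_lit 2118, nat_lit 4100, nat_lit 10304, nat_lit 13376, nat_lit 20320, nat_lit 23872, nat_lit 25472, nat_lit 30976, nat_lit 35328, nat_lit 38912, nat_lit 46881, nat_lit 43143, nat_lit 37944, nat_lit 33347, nat_lit 28761, nat_lit 24577, nat_lit 21511, nat_lit 12290, nat_lit 8195, nat_lit 4100, nat_lit 2, nat_lit 430086, nat_lit 413700, nat_lit 405504, nat_lit 156160, nat_lit 151616, nat_lit 147552, nat_lit 143872, nat_lit 131688, nat_lit 45640, nat_lit 41568, nat_lit 32872, nat_lit 28673, nat_lit 8193, nat_lit 4097,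 nat_lit 327680]⟩
def ndPg3_3 : El := ⟨[nat_lit 0x1b442890e33bade5558cda1d2ca91c880820], [nat_lit 86016, nat_lit 90112, nat_lit 94208, nat_lit 178176, nat_lit 175104, nat_lit 169472, nat_lit 167168, nat_lit 159872, nat_lit 157632, nat_lit 152800, nat_lit 149120, nat_lit 144304, nat_lit 140000, nat_lit 138050, nat_lit 132557, nat_lit 986, nat_lit 4100, nat_lit 10304, nat_lit 13264, nat_lit 16576, nat_lit 22016, nat_lit 24704, nat_lit 30976, nat_lit 33792, nat_lit 41374, nat_lit 36918, nat_lit 32932, nat_lit 28794, nat_lit 24590, nat_lit 20609, nat_lit 16421, nat_lit 12294, nat_lit 8200, nat_lit 4100, nat_lit 327680]⟩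
def ndPg3_4 : El := ⟨[nat_lit 0xf5595f23cad85e341202a9d6d248d60730c7, nat_lit 0xa6aa0f9d80921d85339afa05511d57215e08, nat_lit 0x44147402e6861aca28a44ade213d1a91b9f0], [nat_lit 81920, nat_lit 94208, nat_lit 110592, nat_lit 178176, nat_lit 174080, nat_lit 171008, nat_lit 166400, nat_lit 162048, nat_lit 156288, nat_lit 154176, nat_lit 150688, nat_lit 145328, nat_lit 142136, nat_lit 136546, nat_lit 132236, nat_lit 14, nat_lit 4100, nat_lit 8200, nat_lit 13936, nat_lit 18304, nat_lit 21376, nat_lit 24960, nat_lit 31488, nat_lit 35328, nat_lit 39936, nat_lit 43008, nat_lit 47097, nat_lit 43199, nat_lit 38103, nat_lit 32874, nat_lit 29311, nat_lit 24731, nat_lit 20549, nat_lit 16395, nat_lit 12294, nat_lit 8195, nat_lit 4100, nat_lit 2, nat_lit 430086, nat_lit 413700, nat_lit 405504, nat_lit 156160, nat_lit 151616, nat_lit 147552, nat_lit 143872, nat_lit 131688, nat_lit 45640, nat_lit 41568, nat_lit 32872, nat_lit 28673, nat_lit 8193, nat_lit 4097, nat_lit 327680]⟩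
def ndPr3_0 : El := ⟨[nat_lit 0x936f69d5a160e5728809439e75d2c684544, nat_lit 0x414d2448090bb1ee9ac26b52ad2c54290ce8, nat_lit 0x172b8e9584f1c6ac00524bd0a8538ed34d70], [nat_lit 65536, nat_lit 69632, nat_lit 73728, nat_lit 77824, nat_lit 90112, nat_lit 94208, nat_lit 106496, nat_lit 178176, nat_lit 174080, nat_lit 160512, nat_lit 156352, nat_lit 153856, nat_lit 150608, nat_lit 145400, nat_lit 140476, nat_lit 138768, nat_lit 133027, nat_lit 3258, nat_lit 4100, nat_lit 11064, nat_lit 15536, nat_lit 18688, nat_lit 22976, nat_lit 25088, nat_lit 32512, nat_lit 38912, nat_lit 43008, nat_lit 45125, nat_lit 41740, nat_lit 36966, nat_lit 33949, nat_lit 28704, nat_lit 25133, nat_lit 20634, nat_lit 16391, nat_lit 12292, nat_lit 8203, nat_lit 4100, nat_lit 430086, nat_lit 413700, nat_lit 405504, nat_lit 148000, nat_lit 143984, nat_lit 131664, nat_lit 45057, nat_lit 41073, nat_lit 28777, nat_lit 8193, nat_lit 4097]⟩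
def ndPr3_1 : El := ⟨[nat_lit 0x6ffccc02843a458683ae7236554ad019d8af, nat_lit 0xf39fa9132296c9411b910a9cc57cc0b25ed4, nat_lit 0x1b877252462339a5ace3721dec84ad440161], [nat_lit 65536, nat_lit 69632, nat_lit 73728, nat_lit 77824, nat_lit 81920, nat_lit 86016, nat_lit 90112, nat_lit 98304, nat_lit 106496, nat_lit 178176, nat_lit 173056, nat_lit 170496, nat_lit 164864, nat_lit 163712, nat_lit 158080, nat_lit 153568, nat_lit 149392, nat_lit 146576, nat_lit 139804, nat_lit 135414, nat_lit 131702, nat_lit 1580, nat_lit 5676, nat_lit 10496, nat_lit 13856, nat_lit 18528, nat_lit 21696, nat_lit 27648, nat_lit 32256, nat_lit 33792, nat_lit 37888, nat_lit 43008, nat_lit 46270, nat_lit 43632, nat_lit 37270, nat_lit 32866, nat_lit 28675, nat_lit 24599, nat_lit 20764, nat_lit 16394, nat_lit 12293, nat_lit 8200, nat_lit 4097, nat_lit 2, nat_lit 425991, nat_lit 417797, nat_lit 409600, nat_lit 160000, nat_lit 156032, nat_lit 151808, nat_lit 147776, nat_lit 131312, nat_lit 45089, nat_lit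 41073, nat_lit 37041, nat_lit 12289, nat_lit 8193, nat_lit 4097]⟩
def ndPr3_2 : El := ⟨[nat_lit 0x18e8db70e44aa27102c37b25ac140afa28c7, nat_lit 0x990690430a0229c3a48e69dded158315d530, nat_lit 0xed1bbd244485b2aa2ba86182ef6da503a661, nat_lit 0x8b8bb10d5881add615d2f3126502a8d81e51], [nat_lit 81920, nat_lit 94208, nat_lit 98304, nat_lit 110592, nat_lit 178176, nat_lit 174080, nat_lit 167680, nat_lit 162560, nat_lit 157120, nat_lit 154432, nat_lit 148960, nat_lit 144776, nat_lit 142468, nat_lit 135532, nat_lit 131186, nat_lit 988, nat_lit 5084, nat_lit 8920, nat_lit 13264, nat_lit 20288, nat_lit 22464, nat_lit 26240, nat_lit 31744, nat_lit 35328, nat_lit 39936, nat_lit 43008, nat_lit 45531, nat_lit 41045, nat_lit 37315, nat_lit 32963, nat_lit 28999, nat_lit 24624, nat_lit 20483, nat_lit 16452, nat_lit 12293, nat_lit 8200, nat_lit 4097, nat_lit 438282, nat_lit 430088, nat_lit 421894, nat_lit 413700, nat_lit 405504, nat_lit 174080, nat_lit 169984, nat_lit 166400, nat_lit 163584,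 nat_lit 155904, nat_lit 154688, nat_lit 149792, nat_lit 145328, nat_lit 134720, nat_lit 8193, nat_lit 4097, nat_lit 327680]⟩
def ndPr3_3 : El := ⟨[nat_lit 0x6596399588f3b2908b8d79b4b55a86848820, nat_lit 0x77412e2dd0e84412591f56a8f449acc98443], [nat_lit 65536, nat_lit 69632, nat_lit 73728, nat_lit 81920, nat_lit 86016, nat_lit 90112, nat_lit 94208, nat_lit 102400, nat_lit 106496, nat_lit 178176, nat_lit 174080, nat_lit 171520, nat_lit 165120, nat_lit 160768, nat_lit 156352, nat_lit 153056, nat_lit 149040, nat_lit 147192, nat_lit 142620, nat_lit 137196, nat_lit 133056, nat_lit 1670, nat_lit 4100, nat_lit 9856, nat_lit 12848, nat_lit 17632, nat_lit 23808, nat_lit 27776, nat_lit 32256, nat_lit 33792, nat_lit 39936, nat_lit 46531, nat_lit 43951, nat_lit 37998, nat_lit 34928, nat_lit 28939, nat_lit 25606, nat_lit 20554, nat_lit 16396, nat_lit 12289, nat_lit 8195, nat_lit 4100, nat_lit 434183, nat_lit 409600, nat_lit 131216, nat_lit 36865, nat_lit 32896, nat_lit 20496, nat_lit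 8193, nat_lit 4097]⟩
def ndPr3_4 : El := ⟨[nat_lit 0x505fa3640f493c961a14b024222b67535e2e, nat_lit 0xaa6a0bcc8ca49c589df56da060044a1a12b], [nat_lit 65536, nat_lit 69632, nat_lit 73728, nat_lit 77824, nat_lit 94208, nat_lit 98304, nat_lit 178176, nat_lit 174080, nat_lit 171008, nat_lit 167424, nat_lit 161408, nat_lit 158592, nat_lit 154880, nat_lit 150944, nat_lit 146520, nat_lit 140068, nat_lit 138092, nat_lit 131734, nat_lit 1180, nat_lit 5276, nat_lit 12176, nat_lit 13456, nat_lit 19008, nat_lit 23168, nat_lit 28288, nat_lit 30720, nat_lit 34816, nat_lit 38912, nat_lit 45085, nat_lit 41472, nat_lit 37259, nat_lit 33525, nat_lit 28708, nat_lit 24841, nat_lit 20491, nat_lit 16391, nat_lit 12293, nat_lit 8200, nat_lit 4097, nat_lit 417797, nat_lit 405504, nat_lit 151616, nat_lit 143456, nat_lit 131176, nat_lit 40968, nat_lit 36896, nat_lit 32832, nat_lit 28680, nat_lit 16385, nat_lit 8193, nat_lit 4097]⟩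
def ndPg4_0 : El := ⟨[nat_lit 0x93c9ac9d8915864c751a7a880648e0f2a2ea, nat_lit 0xd778116d40623ee192213658a34a971138f4, nat_lit 0x9935c5b3253a080d0c48bbbd4981468a99c7], [nat_lit 65536, nat_lit 69632, nat_lit 73728, nat_lit 77824, nat_lit 81920, nat_lit 94208, nat_lit 98304, nat_lit 102400, nat_lit 110592, nat_lit 178176, nat_lit 175104, nat_lit 165376, nat_lit 161024, nat_lit 158912, nat_lit 155296, nat_lit 149936, nat_lit 144064, nat_lit 143124, nat_lit 135826, nat_lit 132185, nat_lit 2048, nat_lit 6144, nat_lit 10240, nat_lit 15888, nat_lit 16576, nat_lit 21696, nat_lit 28032, nat_lit 32000, nat_lit 36352, nat_lit 38912, nat_lit 46159, nat_lit 43629, nat_lit 36896, nat_lit 32883, nat_lit 28788, nat_lit 24587, nat_lit 20630, nat_lit 16518, nat_lit 12356, nat_lit 8193, nat_lit 4097, nat_lit 425991, nat_lit 413700, nat_lit 405504, nat_lit 147712, nat_lit 131224, nat_lit 45480, nat_lit 40961, nat_lit 37136, nat_lit 24577, nat_lit 8193, nat_lit 4097]⟩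
def ndPg4_1 : El := ⟨[nat_lit 0xc366ff79976ab089142532b5571c401a1d0e, nat_lit 0x3563a392295b99c15149069ec35cd8f02451, nat_lit 0x2eeb2134a2958c44acc2f3b5c8b9554b3010, nat_lit 0xed7221ab0cd01476509f3a4644741213dd68], [nat_lit 77824, nat_lit 81920, nat_lit 94208, nat_lit 106496, nat_lit 174080, nat_lit 171008, nat_lit 164608, nat_lit 162688, nat_lit 158976, nat_lit 155584, nat_lit 149088, nat_lit 146848, nat_lit 142032, nat_lit 138696, nat_lit 131697, nat_lit 2056, nat_lit 6152, nat_lit 10248, nat_lit 12304, nat_lit 20384, nat_lit 21120, nat_lit 28416, nat_lit 30464, nat_lit 35840, nat_lit 38912, nat_lit 43008, nat_lit 45955, nat_lit 41089, nat_lit 37128, nat_lit 32822, nat_lit 29796, nat_lit 24764, nat_lit 20481, nat_lit 16386, nat_lit 8193, nat_lit 4097, nat_lit 438282, nat_lit 430088, nat_lit 421894, nat_lit 413700, nat_lit 405504, nat_lit 174080, nat_lit 169984, nat_lit 165888, nat_lit 160512, nat_lit 157312, nat_lit 153472, nat_lit 151072, nat_lit 144480, nat_lit 131624,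 nat_lit 8193, nat_lit 4097, nat_lit 327680]⟩
def ndPg4_2 : El := ⟨[nat_lit 0x2b4d71ac46d5d89751d8e04df4848a908906, nat_lit 0xb74878408612ceee3be16ab4d10292b91194, nat_lit 0xde7d4d19c0d88ac97a14694dc55c2a165e84], [nat_lit 65536, nat_lit 69632, nat_lit 73728, nat_lit 77824, nat_lit 94208, nat_lit 106496, nat_lit 175104, nat_lit 167680, nat_lit 162048, nat_lit 156352, nat_lit 154592, nat_lit 149264, nat_lit 147160, nat_lit 142404, nat_lit 139238, nat_lit 133326, nat_lit 446, nat_lit 4100, nat_lit 8632, nat_lit 15104, nat_lit 16608, nat_lit 22336, nat_lit 27136, nat_lit 29184, nat_lit 33280, nat_lit 38912, nat_lit 43008, nat_lit 46171, nat_lit 44021, nat_lit 38291, nat_lit 32883, nat_lit 29813, nat_lit 24611, nat_lit 20507, nat_lit 16392, nat_lit 12292, nat_lit 8195, nat_lit 4100, nat_lit 2, nat_lit 434185, nat_lit 417796, nat_lit 405504, nat_lit 148480, nat_lit 144448, nat_lit 131096, nat_lit 45569, nat_lit 32769, nat_lit 28673, nat_lit 20504, nat_lit 8193, nat_lit 4097]⟩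
def ndPg4_3 : El := ⟨[nat_lit 0xe47782245b40056271ed3bbcb061a551a50a, nat_lit 0xd27478aaa6d331e274934415638062401ef6, nat_lit 0xa09c0903d7313229bd096a98e5505b28206e, nat_lit 0xcc69009d22f2b0d63ac301b6a090944bb928], [nat_lit 81920, nat_lit 90112, nat_lit 98304, nat_lit 178176, nat_lit 175104, nat_lit 168448, nat_lit 164352, nat_lit 160512, nat_lit 157632, nat_lit 153568, nat_lit 148512, nat_lit 146304, nat_lit 141460, nat_lit 138550, nat_lit 132846, nat_lit 2304, nat_lit 6400, nat_lit 10496, nat_lit 12544, nat_lit 19360, nat_lit 22336, nat_lit 25728, nat_lit 29184, nat_lit 33792, nat_lit 38912, nat_lit 45244, nat_lit 41354, nat_lit 37369, nat_lit 32962, nat_lit 28696, nat_lit 24863, nat_lit 21009, nat_lit 16393, nat_lit 12293, nat_lit 8193, nat_lit 4097, nat_lit 438282, nat_lit 430088, nat_lit 421894, nat_lit 413700, nat_lit 405504, nat_lit 167424, nat_lit 162816, nat_lit 158848, nat_lit 155328, nat_lit 149248, nat_lit 145808, nat_lit 131168, nat_lit 8193, nat_lit 4097,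 nat_lit 327680]⟩
def ndPg4_4 : El := ⟨[nat_lit 0xf6f5533de4d83aa49d0cf8d8ac52d2300828, nat_lit 0xdbb27e455660bd5070933bb4ec20c14b44b2, nat_lit 0xa3a9968a680735850aad3b8d70ac90223ce6, nat_lit 0xcc69009bacf814f762082680c952eb1a0c32], [nat_lit 86016, nat_lit 102400, nat_lit 110592, nat_lit 178176, nat_lit 171008, nat_lit 166912, nat_lit 160512, nat_lit 156736, nat_lit 152320, nat_lit 150960, nat_lit 144904, nat_lit 142300, nat_lit 136854, nat_lit 134622, nat_lit 1970, nat_lit 4100, nat_lit 10400, nat_lit 14736, nat_lit 17920, nat_lit 20864, nat_lit 27136, nat_lit 31488, nat_lit 33280, nat_lit 37888, nat_lit 45756, nat_lit 41390, nat_lit 37176, nat_lit 32992, nat_lit 28933, nat_lit 24625, nat_lit 20504, nat_lit 16388, nat_lit 12327, nat_lit 8200, nat_lit 4100, nat_lit 2, nat_lit 438282, nat_lit 430088, nat_lit 421894, nat_lit 413700, nat_lit 405504, nat_lit 174080, nat_lit 168960, nat_lit 166400, nat_lit 162560, nat_lit 159232, nat_lit 153024, nat_lit 148512, nat_lit 146416,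 nat_lit 132456, nat_lit 8193, nat_lit 4097]⟩
def ndPr4_0 : El := ⟨[nat_lit 0xaa09fc248ab4da1704d02a3c268b9aaa9c6c, nat_lit 0xe18be48d664449c32d12b058c263ee78054d, nat_lit 0x999f035a46eb09f7aa89068633a490501987, nat_lit 0x78bede59225bb0c011ecf5364eacd3480503], [nat_lit 65536, nat_lit 69632, nat_lit 73728, nat_lit 77824, nat_lit 81920, nat_lit 86016, nat_lit 110592, nat_lit 178176, nat_lit 171520, nat_lit 164352, nat_lit 160384, nat_lit 156352, nat_lit 152128, nat_lit 147968, nat_lit 144896, nat_lit 139784, nat_lit 136360, nat_lit 131457, nat_lit 1180, nat_lit 5276, nat_lit 9360, nat_lit 15312, nat_lit 16512, nat_lit 24448, nat_lit 27776, nat_lit 29440, nat_lit 35328, nat_lit 37888, nat_lit 45913, nat_lit 41087, nat_lit 36886, nat_lit 32790, nat_lit 28767, nat_lit 24767, nat_lit 20486, nat_lit 16514, nat_lit 12309, nat_lit 8208, nat_lit 4097, nat_lit 2, nat_lit 438282, nat_lit 430088, nat_lit 421894, nat_lit 413700, nat_lit 405504, nat_lit 168960, nat_lit 166912, nat_lit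 160000, nat_lit 156928, nat_lit 154240, nat_lit 150624, nat_lit 145808, nat_lit 131168, nat_lit 8193, nat_lit 4097, nat_lit 327680]⟩
def ndPr4_1 : El := ⟨[nat_lit 0xed27e783173a3ac91050d7a8853c81789aa3, nat_lit 0x9f955f1de6a330a704a88b060b88aa96bdc4, nat_lit 0x7dbdb8b2e09a39937814769903216f2a8831], [nat_lit 65536, nat_lit 69632, nat_lit 73728, nat_lit 77824, nat_lit 81920, nat_lit 90112, nat_lit 173056, nat_lit 170496, nat_lit 164352, nat_lit 161280, nat_lit 159040, nat_lit 153984, nat_lit 150864, nat_lit 147448, nat_lit 140408, nat_lit 135706, nat_lit 133739, nat_lit 1166, nat_lit 4100, nat_lit 9352, nat_lit 15792, nat_lit 17216, nat_lit 23488, nat_lit 27264, nat_lit 30464, nat_lit 34816, nat_lit 38912, nat_lit 46779, nat_lit 41684, nat_lit 37216, nat_lit 28760, nat_lit 24619, nat_lit 16516, nat_lit 12307, nat_lit 8195, nat_lit 4100, nat_lit 2, nat_lit 430087, nat_lit 417797, nat_lit 405504, nat_lit 160256, nat_lit 155776, nat_lit 152192, nat_lit 143968, nat_lit 131816,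 nat_lit 45121, nat_lit 41632, nat_lit 32832, nat_lit 16385, nat_lit 8193, nat_lit 4097, nat_lit 327680]⟩
def ndPr4_2 : El := ⟨[nat_lit 0xd72d2893e6a65ae9a0a241c0f5720c55802d, nat_lit 0x563393816eb0bc404da4451eb11b1cd99914, nat_lit 0x477bdd050978aaae0a0a97da6b1b4ec11a12], [nat_lit 65536, nat_lit 69632, nat_lit 73728, nat_lit 81920, nat_lit 86016, nat_lit 94208, nat_lit 98304, nat_lit 175104, nat_lit 169472, nat_lit 167680, nat_lit 159168, nat_lit 155264, nat_lit 150400, nat_lit 144064, nat_lit 139964, nat_lit 136116, nat_lit 131697, nat_lit 460, nat_lit 4556, nat_lit 10024, nat_lit 12736, nat_lit 17088, nat_lit 22272, nat_lit 31488, nat_lit 33280, nat_lit 37888, nat_lit 43008, nat_lit 45810, nat_lit 41007, nat_lit 39203, nat_lit 32985, nat_lit 28773, nat_lit 24586, nat_lit 20484, nat_lit 12295, nat_lit 8202, nat_lit 4097, nat_lit 434182, nat_lit 413700, nat_lit 405504, nat_lit 147520, nat_lit 144432, nat_lit 132104, nat_lit 46120, nat_lit 36936, nat_lit 32872, nat_lit 28673,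 nat_lit 8193, nat_lit 4097, nat_lit 327680]⟩
def ndPg5_0 : El := ⟨[nat_lit 0xdbe8b7ba9a3991cf81ab459d320162113116, nat_lit 0x12d8e7790f7a3841b21a9028b2ab2338186b, nat_lit 0x1b887d696825cdee546d502070226470dccc, nat_lit 0x5a9f9023ab3b8536a40cf288ea1c51202dac], [nat_lit 90112, nat_lit 94208, nat_lit 98304, nat_lit 106496, nat_lit 178176, nat_lit 174080, nat_lit 171520, nat_lit 167168, nat_lit 160512, nat_lit 158144, nat_lit 154272, nat_lit 149104, nat_lit 145648, nat_lit 141176, nat_lit 135730, nat_lit 132171, nat_lit 494, nat_lit 4100, nat_lit 8680, nat_lit 15760, nat_lit 19520, nat_lit 21504, nat_lit 28288, nat_lit 30208, nat_lit 38912, nat_lit 47028, nat_lit 41858, nat_lit 37053, nat_lit 32889, nat_lit 28776, nat_lit 24616, nat_lit 20498, nat_lit 16394, nat_lit 12295, nat_lit 8195, nat_lit 4100, nat_lit 2, nat_lit 438282, nat_lit 430088, nat_lit 421894, nat_lit 413700, nat_lit 405504, nat_lit 174080, nat_lit 171008, nat_lit 165376, nat_lit 160256, nat_lit 158976, nat_lit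 155456, nat_lit 145136, nat_lit 131168, nat_lit 8193, nat_lit 4097]⟩
def ndPg5_1 : El := ⟨[nat_lit 0xa9cc6cab669446cc74954bae0f28440390c3, nat_lit 0x53a9994d1d37dd11b2d9039825929b520c02, nat_lit 0x9c936a90ee773d0ca40a125a62ac4066ad2a], [nat_lit 77824, nat_lit 81920, nat_lit 94208, nat_lit 98304, nat_lit 102400, nat_lit 106496, nat_lit 173056, nat_lit 168448, nat_lit 164096, nat_lit 159872, nat_lit 159296, nat_lit 152480, nat_lit 148144, nat_lit 143456, nat_lit 141512, nat_lit 139148, nat_lit 132739, nat_lit 3078, nat_lit 4100, nat_lit 11264, nat_lit 12672, nat_lit 20224, nat_lit 24512, nat_lit 26880, nat_lit 32000, nat_lit 38912, nat_lit 47096, nat_lit 43267, nat_lit 38264, nat_lit 33288, nat_lit 28936, nat_lit 25600, nat_lit 20552, nat_lit 16421, nat_lit 12353, nat_lit 8195, nat_lit 4100, nat_lit 438282, nat_lit 417796, nat_lit 405504, nat_lit 147520, nat_lit 144384, nat_lit 133144, nat_lit 36865, nat_lit 32769, nat_lit 28673, nat_lit 20504, nat_lit 8193, nat_lit 4097]⟩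
def ndPg5_2 : El := ⟨[nat_lit 0x27ee7d0047582ced4c58451a6e415f2b5057, nat_lit 0xb21ed8b25b7954c28ba0a41c8f9d0a358181, nat_lit 0xee21d23342c50d6415e85ab930880f3b490f, nat_lit 0x7e4b7d91d6a2404143aa068d372d2d3899ec], [nat_lit 65536, nat_lit 69632, nat_lit 73728, nat_lit 81920, nat_lit 86016, nat_lit 98304, nat_lit 102400, nat_lit 110592, nat_lit 178176, nat_lit 169984, nat_lit 164352, nat_lit 159872, nat_lit 156160, nat_lit 154080, nat_lit 150464, nat_lit 145888, nat_lit 140800, nat_lit 137990, nat_lit 132342, nat_lit 3184, nat_lit 7280, nat_lit 11376, nat_lit 14912, nat_lit 17632, nat_lit 22080, nat_lit 25344, nat_lit 30464, nat_lit 33280, nat_lit 39936, nat_lit 46104, nat_lit 41939, nat_lit 37080, nat_lit 32924, nat_lit 28960, nat_lit 25140, nat_lit 20566, nat_lit 16390, nat_lit 12290, nat_lit 8193, nat_lit 4097, nat_lit 2, nat_lit 438282, nat_lit 430088, nat_lit 421894, nat_lit 413700, nat_lit 405504, nat_lit 168960, nat_lit 161536, nat_lit 156928, nat_lit 152960, nat_lit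 148128, nat_lit 144064, nat_lit 133848, nat_lit 8193, nat_lit 4097, nat_lit 327680]⟩
def ndPg5_3 : El := ⟨[nat_lit 0x5a6af0082b48d0a245b43cdd62be17930d5, nat_lit 0x3c5aa5908c951e6020e2b44025ad9b7651ee, nat_lit 0xb44eb2b52e78bc6a938091357044d81a90a6], [nat_lit 65536, nat_lit 69632, nat_lit 73728, nat_lit 86016, nat_lit 90112, nat_lit 94208, nat_lit 98304, nat_lit 102400, nat_lit 110592, nat_lit 178176, nat_lit 173056, nat_lit 167424, nat_lit 160512, nat_lit 159616, nat_lit 155584, nat_lit 150704, nat_lit 147440, nat_lit 140012, nat_lit 135774, nat_lit 131718, nat_lit 2030, nat_lit 4100, nat_lit 10216, nat_lit 13344, nat_lit 19456, nat_lit 22528, nat_lit 26624, nat_lit 31744, nat_lit 35840, nat_lit 37888, nat_lit 47083, nat_lit 43969, nat_lit 37339, nat_lit 33486, nat_lit 29186, nat_lit 24730, nat_lit 21532, nat_lit 12291, nat_lit 8195, nat_lit 4100, nat_lit 2, nat_lit 434183, nat_lit 417796, nat_lit 405504, nat_lit 143440, nat_lit 131216, nat_lit 45073, nat_lit 36865, nat_lit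 32985, nat_lit 20496, nat_lit 8193, nat_lit 4097]⟩
def ndPg5_4 : El := ⟨[nat_lit 0x9c36a36a59645671082eb74883815e23a8d4, nat_lit 0x72d42b2b27515d76548111b9e932081a34f0, nat_lit 0x1228e80a9f061db71d0802cad174d2241975, nat_lit 0x111278b552fb82255b08693a089d04753461], [nat_lit 90112, nat_lit 94208, nat_lit 110592, nat_lit 167680, nat_lit 160000, nat_lit 155712, nat_lit 151872, nat_lit 150960, nat_lit 145656, nat_lit 143000, nat_lit 137596, nat_lit 131415, nat_lit 2310, nat_lit 4100, nat_lit 10496, nat_lit 12336, nat_lit 17184, nat_lit 21440, nat_lit 25216, nat_lit 31232, nat_lit 35840, nat_lit 39936, nat_lit 43008, nat_lit 45633, nat_lit 41666, nat_lit 38151, nat_lit 33397, nat_lit 28997, nat_lit 24736, nat_lit 20498, nat_lit 16428, nat_lit 12293, nat_lit 8195, nat_lit 4100, nat_lit 438282, nat_lit 430088, nat_lit 421894, nat_lit 413700, nat_lit 405504, nat_lit 165376, nat_lit 160256, nat_lit 157056, nat_lit 153408, nat_lit 148032, nat_lit 144016, nat_lit 134152, nat_lit 8193,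 nat_lit 4097]⟩
def ndPr5_0 : El := ⟨[nat_lit 0x9533ff80dc66809158a8141ea57b156bca69, nat_lit 0x1beeee7b9b238956646701d5660953725008, nat_lit 0xa00a6a322a2ba805885a39adc9391f285a8c], [nat_lit 65536, nat_lit 69632, nat_lit 73728, nat_lit 81920, nat_lit 86016, nat_lit 94208, nat_lit 98304, nat_lit 175104, nat_lit 169472, nat_lit 167680, nat_lit 159168, nat_lit 155264, nat_lit 150400, nat_lit 144064, nat_lit 139964, nat_lit 136116, nat_lit 131697, nat_lit 460, nat_lit 4556, nat_lit 10024, nat_lit 12736, nat_lit 17088, nat_lit 22272, nat_lit 31488, nat_lit 33280, nat_lit 37888, nat_lit 43008, nat_lit 45810, nat_lit 41007, nat_lit 39203, nat_lit 32985, nat_lit 28773, nat_lit 24586, nat_lit 20484, nat_lit 12295, nat_lit 8202, nat_lit 4097, nat_lit 434182, nat_lit 413700, nat_lit 405504, nat_lit 147520, nat_lit 144432, nat_lit 132104, nat_lit 46120, nat_lit 36936, nat_lit 32872, nat_lit 28673, nat_lit 8193, nat_lit 4097, nat_lit 327680]⟩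
def ndPg6_0 : El := ⟨[nat_lit 0x7741d12c1930a6f140ed20184e5bc8aa36a7, nat_lit 0x63a03f9b4d2a8208111c15952cbbe8755871, nat_lit 0x7e4b826be56a257100e173894ea926541981, nat_lit 0xd722d8a1aa4b5ca79c1ee4a84102c686c592], [nat_lit 77824, nat_lit 86016, nat_lit 98304, nat_lit 102400, nat_lit 110592, nat_lit 170496, nat_lit 164352, nat_lit 163584, nat_lit 156160, nat_lit 155200, nat_lit 150384, nat_lit 145896, nat_lit 142168, nat_lit 135292, nat_lit 132448, nat_lit 2070, nat_lit 4100, nat_lit 10256, nat_lit 15392, nat_lit 17856, nat_lit 23616, nat_lit 25856, nat_lit 28928, nat_lit 33280, nat_lit 43008, nat_lit 45138, nat_lit 41839, nat_lit 38352, nat_lit 33865, nat_lit 28720, nat_lit 24615, nat_lit 20503, nat_lit 16399, nat_lit 12309, nat_lit 8195, nat_lit 4100, nat_lit 438282, nat_lit 430088, nat_lit 421894, nat_lit 413700, nat_lit 405504, nat_lit 174080, nat_lit 162048, nat_lit 156800, nat_lit 152576, nat_lit 150944, nat_lit 146848, nat_lit 133848, nat_lit 8193, nat_lit 4097,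 nat_lit 327680]⟩
def ndPg6_1 : El := ⟨[nat_lit 0x30536f954cbb91538d90560440a1e091bdae, nat_lit 0x6a5a63246c053dac2d243154d33dc3043969, nat_lit 0xe28dd1226ed62aa504e323516eb3ce880462], [nat_lit 77824, nat_lit 86016, nat_lit 90112, nat_lit 94208, nat_lit 98304, nat_lit 110592, nat_lit 174080, nat_lit 169984, nat_lit 166144, nat_lit 160384, nat_lit 156736, nat_lit 153120, nat_lit 149488, nat_lit 146224, nat_lit 139536, nat_lit 136384, nat_lit 132166, nat_lit 2986, nat_lit 4100, nat_lit 8208, nat_lit 15264, nat_lit 16576, nat_lit 20672, nat_lit 27520, nat_lit 28928, nat_lit 35328, nat_lit 39936, nat_lit 46943, nat_lit 41816, nat_lit 38398, nat_lit 32898, nat_lit 28686, nat_lit 25618, nat_lit 20481, nat_lit 16390, nat_lit 12295, nat_lit 8200, nat_lit 4100, nat_lit 2, nat_lit 430086, nat_lit 413700, nat_lit 405504, nat_lit 151616, nat_lit 148000, nat_lit 131096, nat_lit 45065, nat_lit 41552, nat_lit 32816, nat_lit 28752, nat_lit 8193, nat_lit 4097]⟩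
def ndPg6_2 : El := ⟨[nat_lit 0xe8e724a010f2a9711d989b9eb09348e10666, nat_lit 0x448de75ba44a56c2430d0545a500ee14bcf3, nat_lit 0x24bd71a31621d5a9bb808816320d94f31c93], [nat_lit 65536, nat_lit 69632, nat_lit 73728, nat_lit 77824, nat_lit 90112, nat_lit 94208, nat_lit 102400, nat_lit 174080, nat_lit 170496, nat_lit 164352, nat_lit 161280, nat_lit 157504, nat_lit 152896, nat_lit 148224, nat_lit 144240, nat_lit 141808, nat_lit 138392, nat_lit 132255, nat_lit 2636, nat_lit 6732, nat_lit 9216, nat_lit 14912, nat_lit 16768, nat_lit 24256, nat_lit 26368, nat_lit 28928, nat_lit 33792, nat_lit 38912, nat_lit 43008, nat_lit 46574, nat_lit 41196, nat_lit 36949, nat_lit 34819, nat_lit 29024, nat_lit 24594, nat_lit 20483, nat_lit 16386, nat_lit 12293, nat_lit 8200, nat_lit 4097, nat_lit 430087, nat_lit 417797, nat_lit 409600, nat_lit 152064, nat_lit 147520, nat_lit 131312, nat_lit 45776, nat_lit 41488, nat_lit 32769, nat_lit 12289, nat_lit 8193, nat_lit 4097]⟩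
def ndPg6_3 : El := ⟨[nat_lit 0x7224241d48fa5e49b38e0588338a8c5621b0, nat_lit 0x3656c33090ba29b29d52e25ec11bcac04607, nat_lit 0xe147b18c98530dc17a4881520baaa603decd, nat_lit 0x9c93952d244bcdcc305ebaa20a125a788076], [nat_lit 65536, nat_lit 69632, nat_lit 73728, nat_lit 77824, nat_lit 86016, nat_lit 94208, nat_lit 98304, nat_lit 106496, nat_lit 110592, nat_lit 178176, nat_lit 171008, nat_lit 164608, nat_lit 159872, nat_lit 155776, nat_lit 152032, nat_lit 147856, nat_lit 145352, nat_lit 141080, nat_lit 137766, nat_lit 133866, nat_lit 698, nat_lit 4100, nat_lit 11000, nat_lit 12976, nat_lit 20160, nat_lit 21696, nat_lit 25856, nat_lit 32000, nat_lit 34816, nat_lit 37888, nat_lit 43008, nat_lit 46561, nat_lit 41936, nat_lit 37188, nat_lit 32937, nat_lit 28721, nat_lit 24582, nat_lit 20627, nat_lit 16513, nat_lit 12295, nat_lit 8200, nat_lit 4100, nat_lit 438282, nat_lit 430088, nat_lit 421894, nat_lit 413700, nat_lit 405504, nat_lit 174080, nat_lit 171008, nat_lit 164864, nat_lit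 160512, nat_lit 158336, nat_lit 151680, nat_lit 148512, nat_lit 145056, nat_lit 131328, nat_lit 8193, nat_lit 4097]⟩
def ndPg6_4 : El := ⟨[nat_lit 0x2b7e241d98bbd2464542e012027b66754525, nat_lit 0xdbbd8e749617a051a1d8d180972c2b351936, nat_lit 0x9a9936a0d053283699c8f92d2e03602646f5, nat_lit 0x3ca59c1edb2a88098a34dd757323201047], [nat_lit 65536, nat_lit 69632, nat_lit 73728, nat_lit 77824, nat_lit 94208, nat_lit 98304, nat_lit 102400, nat_lit 106496, nat_lit 110592, nat_lit 178176, nat_lit 175104, nat_lit 170496, nat_lit 166912, nat_lit 162688, nat_lit 159424, nat_lit 154400, nat_lit 149488, nat_lit 143392, nat_lit 141912, nat_lit 137970, nat_lit 132637, nat_lit 494, nat_lit 4100, nat_lit 8680, nat_lit 13888, nat_lit 18336, nat_lit 21376, nat_lit 25728, nat_lit 28928, nat_lit 35840, nat_lit 43008, nat_lit 47081, nat_lit 41928, nat_lit 38370, nat_lit 32891, nat_lit 28734, nat_lit 24872, nat_lit 20508, nat_lit 16394, nat_lit 12310, nat_lit 8195, nat_lit 4100, nat_lit 2, nat_lit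 438282, nat_lit 430088, nat_lit 421894, nat_lit 413700, nat_lit 405504, nat_lit 169984, nat_lit 160256, nat_lit 156416, nat_lit 152064, nat_lit 148032, nat_lit 144768, nat_lit 131624, nat_lit 8193, nat_lit 4097]⟩
def ndPr6_0 : El := ⟨[nat_lit 0x24bd71adce9538cf8586c9226522c408d1a1, nat_lit 0x639c9a38440555f12906643657a2590b3973, nat_lit 0xa600363cdc244292b002b2d48a78e264b2ed], [nat_lit 77824, nat_lit 94208, nat_lit 98304, nat_lit 106496, nat_lit 178176, nat_lit 174080, nat_lit 168448, nat_lit 164352, nat_lit 162048, nat_lit 157184, nat_lit 152704, nat_lit 148640, nat_lit 146424, nat_lit 139644, nat_lit 138350, nat_lit 134975, nat_lit 3262, nat_lit 4100, nat_lit 11448, nat_lit 15760, nat_lit 17760, nat_lit 21376, nat_lit 26496, nat_lit 30464, nat_lit 35840, nat_lit 37888, nat_lit 47019, nat_lit 41316, nat_lit 39284, nat_lit 32981, nat_lit 29031, nat_lit 24879, nat_lit 20565, nat_lit 16448, nat_lit 12310, nat_lit 8195, nat_lit 4100, nat_lit 2, nat_lit 430087, nat_lit 413700,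 nat_lit 405504, nat_lit 160256, nat_lit 152192, nat_lit 147488, nat_lit 144016, nat_lit 131592, nat_lit 45569, nat_lit 41625, nat_lit 32904, nat_lit 24632, nat_lit 8193, nat_lit 4097, nat_lit 327680]⟩

def gensP : List (List El) := [
  [ndPg0_0, ndPg0_1, ndPg0_2, ndPg0_3, ndPg0_4],
  [ndPg1_0, ndPg1_1, ndPg1_2, ndPg1_3, ndPg1_4],
  [ndPg2_0, ndPg2_1, ndPg2_2, ndPg2_3, ndPg2_4, ndPg2_5],
  [ndPg3_0, ndPg3_1, ndPg3_2, ndPg3_3, ndPg3_4],
  [ndPg4_0, ndPg4_1, ndPg4_2, ndPg4_3, ndPg4_4],
  [ndPg5_0, ndPg5_1, ndPg5_2, ndPg5_3, ndPg5_4],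
  [ndPg6_0, ndPg6_1, ndPg6_2, ndPg6_3, ndPg6_4]]

def repsP : List (List (El × ℕ)) := [
  [(ndPr0_0, nat_lit 1)],
  [(ndPr1_0, nat_lit 0), (ndPr1_1, nat_lit 4), (ndPr1_2, nat_lit 1), (ndPr1_3, nat_lit 3), (ndPr1_4, nat_lit 2)],
  [(ndPr2_0, nat_lit 1)],
  [(ndPr3_0, nat_lit 1), (ndPr3_1, nat_lit 3), (ndPr3_2, nat_lit 4), (ndPr3_3, nat_lit 6), (ndPr3_4, nat_lit 5)],
  [(ndPr4_0, nat_lit 3), (ndPr4_1, nat_lit 1), (ndPr4_2, nat_lit 4)],
  [(ndPr5_0, nat_lit 3)],
  [(ndPr6_0, nat_lit 3)]]

def matP : List (List ℕ) := [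
  [0, 1782, 0, 0, 0, 0, 0],
  [1, 672, 1, 84, 1024, 0, 0],
  [0, 1782, 0, 0, 0, 0, 0],
  [0, 84, 0, 672, 1024, 1, 1],
  [0, 324, 0, 324, 1134, 0, 0],
  [0, 0, 0, 1782, 0, 0, 0],
  [0, 0, 0, 1782, 0, 0, 0]]

end

end CF.Mon
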