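import Cfsg.Agent.Mon.CovS
import Cfsg.Agent.Mon.NdP

/-! The orbits of the node stabilisers on the labels: level `P`. -/

set_option autoImplicit false
set_option maxRecDepth 1000000
set_option maxHeartbeats 400000
set_option Elab.async false

namespace CF.Mon.Cov.P

noncomputable def fs0 : List Nat := [(nat_lit 58720256)]
noncomputable def W0 : List (List Nat) := [[(nat_lit 0), (nat_lit 0)],
  [(nat_lit 2), (nat_lit 0)],
  [(nat_lit 0), (nat_lit 0)],
  [(nat_lit 7), (nat_lit 5), (nat_lit 6)],
  [(nat_lit 7), (nat_lit 7), (nat_lit 8)],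
  [(nat_lit 7), (nat_lit 9)],
  [(nat_lit 6), (nat_lit 1)],
  [(nat_lit 10), (nat_lit 5)]]
noncomputable def rs0_m0 : Nat := (nat_lit 0x1)
noncomputable def rs0_m1 : Nat := (nat_lit 0x3)
noncomputable def rs0_m2 : Nat := (nat_lit 0xf)
noncomputable def rs0_m3 : Nat := (nat_lit 0xff)
noncomputable def rs0_m4 : Nat := (nat_lit 0xffff)
noncomputable def rs0_m5 : Nat := (nat_lit 0xffffffff)
noncomputable def rs0_m6 : Nat := (nat_lit 0xffffffffffffffff)
noncomputable def rs0_m7 : Nat := (nat_lit 0xffffff7ffffffffbffffff7fffffffff)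
noncomputable def rs0_m8 : Nat := (nat_lit 0x1ffffffffbf7fffebeda7ff7ffdf5fbabffffefffef7ff7ff7ffffefffff7fdf)
noncomputable def rs0_m9 : Nat := (nat_lit 0xf7fb6ef5ffdbeffff73f7fbdfbff86bf67fddbfefdff7f7973e6bfdffeefdcfef79eff74eefed73bea6efbbf66fef18fff6caff777a6ffb7fdf74f77)
noncomputable def rs0_m10 : Nat := (nat_lit 0x3373ce56ed9e2eed7742e059de5cbfdf17d76f8f6ea7018a950666bc7add56742481dfbcc334055b8f97ebf49e5aa7eed2cabbfd623e8b1e17cba8db5bbfe87e2257e12897ae098887eec8de19f03473bf0251a5bdf7da0fdbf39b07d3b4af3aaea01b67b38c2eba5df0a3)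
noncomputable def rs0_m11 : Nat := (nat_lit 0x10a164a292260b02020c42046022641100508ba6e028860303002065a700222208002b842a04100143c4602d285011a684070cd8e81210201900e402400803003004089a8001810004040a821102900034838a0d2c0408684488543aa485d600a88890208548006481a000204111488068010311401b00c8a004c278286dcf80a0126a24050134e1c24011c008314a085200460082442106e4004482160830850401568770c18d)
noncomputable def rs0_m12 : Nat := (nat_lit 0x140801000000002000100004800000200080040000000000120000000001000000000000000000020000000002000004000804400980000000040000208300000100800000021000000900002000004000000010000000042200000100110000000000000000000000000010000000200010888800000008000000100000000000000000000002606048008042000000004000000000008000012800000000080000400090008000200904000040000000000000c10400000100004000000000000004000001400400000000008000000104100)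
noncomputable def rs0_m13 : Nat := (nat_lit 0x400000000000000000000000)
noncomputable def rs0 : List (Nat × Nat × Nat) := [((nat_lit 8), (nat_lit 1), rs0_m0), ((nat_lit 9), (nat_lit 2), rs0_m1), ((nat_lit 10), (nat_lit 4), rs0_m2), ((nat_lit 11), (nat_lit 8), rs0_m3), ((nat_lit 12), (nat_lit 16), rs0_m4), ((nat_lit 7), (nat_lit 32), rs0_m5), ((nat_lit 6), (nat_lit 64), rs0_m6), ((nat_lit 5), (nat_lit 128), rs0_m7), ((nat_lit 4), (nat_lit 253), rs0_m8), ((nat_lit 3), (nat_lit 480), rs0_m9), ((nat_lit 2), (nat_lit 854), rs0_m10), ((nat_lit 1), (nat_lit 1333), rs0_m11), ((nat_lit 0), (nat_lit 1689), rs0_m12), ((nat_lit 8), (nat_lit 95), rs0_m13)]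
noncomputable def M0 : List Nat := [(nat_lit 1782)]
noncomputable def b0 : Nat := (nat_lit 1)

theorem c0 : Cv G.PB Y0 (gensP.getD 0 []) (repsP.getD 0 []) (matP.getD 0 []) :=
  cover_small elB_PB lab_Y0 G.ncard_orb_B_Y0 (fs := fs0) (b := b0) (W := W0) (rs := rs0) (M := M0)
    (by decide +kernel)

noncomputable def fs1 : List Nat := [(nat_lit 58720256), (nat_lit 86297648), (nat_lit 103543351), (nat_lit 155656192), (nat_lit 176160768)]
noncomputable def W1 : List (List Nat) := [[(nat_lit 1), (nat_lit 3), (nat_lit 2)],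
  [(nat_lit 0), (nat_lit 0)],
  [(nat_lit 0), (nat_lit 4), (nat_lit 0)],
  [(nat_lit 7), (nat_lit 7), (nat_lit 7)],
  [(nat_lit 1), (nat_lit 6), (nat_lit 8)],
  [(nat_lit 3), (nat_lit 4)],
  [(nat_lit 6), (nat_lit 5), (nat_lit 10)],
  [(nat_lit 9), (nat_lit 2)]]
noncomputable def rs1_m0 : Nat := (nat_lit 0xe)
noncomputable def rs1_m1 : Nat := (nat_lit 0xee)
noncomputable def rs1_m2 : Nat := (nat_lit 0x3fee)
noncomputable def rs1_m3 : Nat := (nat_lit 0x3ffffee)
noncomputable def rs1_m4 : Nat := (nat_lit 0x3ffffffffffee)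
noncomputable def rs1_m5 : Nat := (nat_lit 0x3f7fffffedf6ff7ffffffff6e)
noncomputable def rs1_m6 : Nat := (nat_lit 0x37f6db77fbf67efbed7fdfdb6dbecfe5bfff7df6fbedf66)
noncomputable def rs1_m7 : Nat := (nat_lit 0x78ff69f9fef7bedbf7ffefb2b0d3dcfcefffb3b6cb6fbbf6f6da6db6dedb6eb7d34ca69b6d94cb6db6e)
noncomputable def rs1_m8 : Nat := (nat_lit 0xeeb6f9ef9ddfff71ffa8fbbfbd3cbbfaf777dee97ff75964ffd7bffbbd5db6bfeaec78e5af3f5eb37765bccfc2fdfb606d2646ad4f6d265b6ded82c92436da6cb04b69a6c964)
noncomputable def rs1_m9 : Nat := (nat_lit 0x192bdfa5d178501ad29c5757f70de071ac1c662dde359dad020281cfa2352cf3c474f8e2bb4b4c6eddb936a9abf265863e96b7055916f835edd53380f2e156eea56033d86e4f952e44110a309bcfaf6324355b325a5f4c942788446a6b69b68eb76d6db6c929e5a60a4c128a6c000000000000)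
noncomputable def rs1_m10 : Nat := (nat_lit 0xa101c64020400040581301408182d0c898da89c513020822080f4a021100048c00840c054881604000628a420708ea81a2135921408e1428a2b080190283490100788941c04040089f054501984c812c8880011021313401808082e1144a1a0201a080a81255c06584c4c0318900090403091c32980040c1411400e01482210442ca013286080080203800300400a3005010202000403c202080490000b4c140000800008104120000)
noncomputable def rs1_m11 : Nat := (nat_lit 0x40100400800000804100090100020404800006000012000000220180000800011010000000860402001040010002000040021000a00010200000000000400000200000000000020000000000004000000000000000024000000001040400121000084041400500000040000000001000000000808000020020040000000000004000100000004001888021400000000020000010000000000000001200801000000000c0400001000000200001000000080000000000000004000000000000000000000000000000800800000000000020000)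
noncomputable def rs1_m12 : Nat := (nat_lit 0x1000000000000000000000000000000000000000000000100000000000000000000000000000000000000000000000000000000000000000000000000000000000000000000000000000000000000000000000000000000000000000000000000000000000000000000)
noncomputable def rs1 : List (Nat × Nat × Nat) := [((nat_lit 8), (nat_lit 4), rs1_m0), ((nat_lit 9), (nat_lit 8), rs1_m1), ((nat_lit 10), (nat_lit 14), rs1_m2), ((nat_lit 12), (nat_lit 26), rs1_m3), ((nat_lit 7), (nat_lit 50), rs1_m4), ((nat_lit 6), (nat_lit 98), rs1_m5), ((nat_lit 5), (nat_lit 186), rs1_m6), ((nat_lit 4), (nat_lit 331), rs1_m7), ((nat_lit 3), (nat_lit 560), rs1_m8), ((nat_lit 2), (nat_lit 917), rs1_m9), ((nat_lit 1), (nat_lit 1352), rs1_m10), ((nat_lit 0), (nat_lit 1683), rs1_m11), ((nat_lit 5), (nat_lit 841), rs1_m12)]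
noncomputable def M1 : List Nat := [(nat_lit 1), (nat_lit 1024), (nat_lit 672), (nat_lit 84), (nat_lit 1)]
noncomputable def b1 : Nat := (nat_lit 3)

theorem c1 : Cv G.PB Y0 (gensP.getD 1 []) (repsP.getD 1 []) (matP.getD 1 []) :=
  cover_small elB_PB lab_Y0 G.ncard_orb_B_Y0 (fs := fs1) (b := b1) (W := W1) (rs := rs1) (M := M1)
    (by decide +kernel)

noncomputable def fs2 : List Nat := [(nat_lit 36434487)]
noncomputable def W2 : List (List Nat) := [[(nat_lit 0), (nat_lit 4)],
  [(nat_lit 0), (nat_lit 0)],
  [(nat_lit 3), (nat_lit 5), (nat_lit 4)],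
  [(nat_lit 0), (nat_lit 0), (nat_lit 3)],
  [(nat_lit 1), (nat_lit 3), (nat_lit 0)],
  [(nat_lit 0), (nat_lit 7), (nat_lit 1)],
  [(nat_lit 10), (nat_lit 5)]]
noncomputable def rs2_m0 : Nat := (nat_lit 0x1)
noncomputable def rs2_m1 : Nat := (nat_lit 0x3)
noncomputable def rs2_m2 : Nat := (nat_lit 0xf)
noncomputable def rs2_m3 : Nat := (nat_lit 0xff)
noncomputable def rs2_m4 : Nat := (nat_lit 0xffff)
noncomputable def rs2_m5 : Nat := (nat_lit 0xffffffff)
noncomputable def rs2_m6 : Nat := (nat_lit 0xffffffffffffffff)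
noncomputable def rs2_m7 : Nat := (nat_lit 0xfbffffffcffffff7ffebffffffffffff)
noncomputable def rs2_m8 : Nat := (nat_lit 0x1cf7fffff7fffff3ffdf7e7ff7dff7fffff7fff7ffbebbefddffffffbfffff7)
noncomputable def rs2_m9 : Nat := (nat_lit 0x3fa7fdfef7d15fbff7ff7efffffbf2a9ebfefe77eef97ffeeff67377eef7f25dffbb3efbdfdff99ff7bff9fcebcb27ef13f73ffeffbcbe2eefe0fbc)
noncomputable def rs2_m10 : Nat := (nat_lit 0x11dfb2fd7e7bb331ba0edf8865e4182ab4d753fb7f662c2ffa57ae5d59074f43e981207b312f059a1c5f7d7d3c148f81a0ec535f6eb7cbfdf508fef4bf071bbf203ebcc0ab286dcfeffd881c34ebd9ff88ce0bbaaf5bd7ff27bc47f25fa55648af2881d193a4cf6bcc6)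
noncomputable def rs2_m11 : Nat := (nat_lit 0x298212a080209c150c00225281c00000903547f182088614480a00bc1411ca5118a0041904844d0496c0ca240920a0ac0225d551541142ca8020597e0009001280da3428628010002480f28f20009520123b8021016093142c6980400024184886282000400216af06084b04b282822006d51029441100000d20110080008d22e24828a45d44da4424e04120e0552d4022cd1420035800800a6285e000480c0893054001)
noncomputable def rs2_m12 : Nat := (nat_lit 0x4080080001000000000000010000040280000000000000824000010100200000000000000400020000000000000014000000000000000480044000000200001000240000000402000080080004081000420c000804008000000000000c0000000040000026002420000000000020000000800002004002000000001800400000022002080000810010102810000024a0010800008000800200018001200000410000000000000000800080000100000002000002038e01028000400080000002000000000200400000000010000600000)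
noncomputable def rs2 : List (Nat × Nat × Nat) := [((nat_lit 7), (nat_lit 1), rs2_m0), ((nat_lit 8), (nat_lit 2), rs2_m1), ((nat_lit 9), (nat_lit 4), rs2_m2), ((nat_lit 10), (nat_lit 8), rs2_m3), ((nat_lit 11), (nat_lit 16), rs2_m4), ((nat_lit 6), (nat_lit 32), rs2_m5), ((nat_lit 5), (nat_lit 64), rs2_m6), ((nat_lit 4), (nat_lit 128), rs2_m7), ((nat_lit 3), (nat_lit 249), rs2_m8), ((nat_lit 8), (nat_lit 474), rs2_m9), ((nat_lit 2), (nat_lit 841), rs2_m10), ((nat_lit 1), (nat_lit 1310), rs2_m11), ((nat_lit 0), (nat_lit 1667), rs2_m12)]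
noncomputable def M2 : List Nat := [(nat_lit 1782)]
noncomputable def b2 : Nat := (nat_lit 1)

theorem c2 : Cv G.PB Y0 (gensP.getD 2 []) (repsP.getD 2 []) (matP.getD 2 []) :=
  cover_small elB_PB lab_Y0 G.ncard_orb_B_Y0 (fs := fs2) (b := b2) (W := W2) (rs := rs2) (M := M2)
    (by decide +kernel)

noncomputable def fs3 : List Nat := [(nat_lit 37228679), (nat_lit 75424015), (nat_lit 102235495), (nat_lit 165416960), (nat_lit 182194176)]
noncomputable def W3 : List (List Nat) := [[(nat_lit 0), (nat_lit 1), (nat_lit 2)],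
  [(nat_lit 0), (nat_lit 5)],
  [(nat_lit 2), (nat_lit 1), (nat_lit 1)],
  [(nat_lit 7), (nat_lit 7), (nat_lit 5)],
  [(nat_lit 2), (nat_lit 6), (nat_lit 1)],
  [(nat_lit 9), (nat_lit 9)],
  [(nat_lit 1), (nat_lit 7)],
  [(nat_lit 3), (nat_lit 7), (nat_lit 11)]]
noncomputable def rs3_m0 : Nat := (nat_lit 0x7)
noncomputable def rs3_m1 : Nat := (nat_lit 0xe7)
noncomputable def rs3_m2 : Nat := (nat_lit 0x3fe7)
noncomputable def rs3_m3 : Nat := (nat_lit 0x3ffffe7)
noncomputable def rs3_m4 : Nat := (nat_lit 0x3ffffffffffe7)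
noncomputable def rs3_m5 : Nat := (nat_lit 0x3fdffffefffdeeffffffeeba7)
noncomputable def rs3_m6 : Nat := (nat_lit 0x1b7b6dfff6febfb6dffe55bfdb7fb6db7df7df6d769b7c4)
noncomputable def rs3_m7 : Nat := (nat_lit 0x7fffb3bf6fdffb6dfda79bfd67ddabecfefb7b4dbdb7d6a8b6d36d75b6db6d35db6596d36db4db4c6)
noncomputable def rs3_m8 : Nat := (nat_lit 0x49dfefa37efeaaebfb37a8fffffbfdfb62d1ffedffdd7ab9defd7afff7d951f750ef96dd1bedbdb772cc6e2ecfb7a053536dea9a6d94945b6d34536da2d96db4d34da6c6)
noncomputable def rs3_m9 : Nat := (nat_lit 0x10e206de7eb35b1ab336097165dc2ea36e99be6c67ffab8098955e7b9d1fb709553592d7f8d5ee6be133beecddcbe36dbe5b552d529c2d256606ac32f2d7776dfd6b518a478697681d5079c3b04da01ac8a083665148eed44f3124d3590968d2041295120d848a4c32436c36c8002484)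
noncomputable def rs3_m10 : Nat := (nat_lit 0xf0d120c1a054880020300010b08c2c06400049a008095006022481800024002142651a08d201e29b42329189bb0cb4185361070102489a60080440e0e1845250c365d66848090230008444005002b04084800016940032540001c1803a401290cb7606162ce18890051807000c0815056493033de8260a24041820088871948030000105b10149011200a4a10a8ac0280148202408040212405104080502002010004c0010400)
noncomputable def rs3_m11 : Nat := (nat_lit 0x2400000200400000208040001000100200002000002001000001280020004800800008000000000000081000000000260000004000009000000004000000100800800000900000000000600000000040001000800010000000000400001002040800a0200880885000002000000000280420200004004000000200004000408200000400200000000080001000040001020200000120a000000006030000000080001000000000000000000000100004840080000800001880000000100000000240000000081000000002010000000000)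
noncomputable def rs3_m12 : Nat := (nat_lit 0x10000000000000000000000000000000000000000000000000000000000000000000000000000000000000000000000000000000000000000000000010000000000000000000000000000000000000000000000000000000000000000000000)
noncomputable def rs3 : List (Nat × Nat × Nat) := [((nat_lit 8), (nat_lit 3), rs3_m0), ((nat_lit 9), (nat_lit 8), rs3_m1), ((nat_lit 10), (nat_lit 14), rs3_m2), ((nat_lit 11), (nat_lit 26), rs3_m3), ((nat_lit 7), (nat_lit 50), rs3_m4), ((nat_lit 6), (nat_lit 98), rs3_m5), ((nat_lit 5), (nat_lit 185), rs3_m6), ((nat_lit 4), (nat_lit 323), rs3_m7), ((nat_lit 3), (nat_lit 543), rs3_m8), ((nat_lit 2), (nat_lit 893), rs3_m9), ((nat_lit 1), (nat_lit 1332), rs3_m10), ((nat_lit 0), (nat_lit 1670), rs3_m11), ((nat_lit 10), (nat_lit 761), rs3_m12)]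
noncomputable def M3 : List Nat := [(nat_lit 84), (nat_lit 672), (nat_lit 1024), (nat_lit 1), (nat_lit 1)]
noncomputable def b3 : Nat := (nat_lit 3)

theorem c3 : Cv G.PB Y0 (gensP.getD 3 []) (repsP.getD 3 []) (matP.getD 3 []) :=
  cover_small elB_PB lab_Y0 G.ncard_orb_B_Y0 (fs := fs3) (b := b3) (W := W3) (rs := rs3) (M := M3)
    (by decide +kernel)

noncomputable def fs4 : List Nat := [(nat_lit 52431280), (nat_lit 93681400), (nat_lit 103543351)]
noncomputable def W4 : List (List Nat) := [[(nat_lit 0), (nat_lit 3)],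
  [(nat_lit 5), (nat_lit 1), (nat_lit 5)],
  [(nat_lit 6), (nat_lit 2), (nat_lit 0)],
  [(nat_lit 4), (nat_lit 1), (nat_lit 3)],
  [(nat_lit 6), (nat_lit 0)],
  [(nat_lit 3), (nat_lit 2), (nat_lit 2)],
  [(nat_lit 5), (nat_lit 6)],
  [(nat_lit 6), (nat_lit 11)]]
noncomputable def rs4_m0 : Nat := (nat_lit 0x7)
noncomputable def rs4_m1 : Nat := (nat_lit 0x3f)
noncomputable def rs4_m2 : Nat := (nat_lit 0xfff)
noncomputable def rs4_m3 : Nat := (nat_lit 0xffffff)
noncomputable def rs4_m4 : Nat := (nat_lit 0xffffffffffff)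
noncomputable def rs4_m5 : Nat := (nat_lit 0xffffffffefffffffffffffff)
noncomputable def rs4_m6 : Nat := (nat_lit 0x7fbf7ffeffbfffdfbfff7aeffdff7effffb7fffff5ffefef)
noncomputable def rs4_m7 : Nat := (nat_lit 0x3b14ffefbbfd9def7dfeffffaeaf4f3ff5bdfff1cffeceffbebfd6abe9ffffb7d1fdea9bf377d3dfbefb7be2dce)
noncomputable def rs4_m8 : Nat := (nat_lit 0x1b74d8bd2b8d89f46c9cf3662406917496b79cb58a949ec1e150d72815acf539bbf545d4cec39ca4b77f9e4a6f3ce09fa713ccd20f7f4f7a596ef70abc2ebe49e4b6eb26976f8ebef940d2cb9cb7edaf)
noncomputable def rs4_m9 : Nat := (nat_lit 0x1928fc6a02627370d04d6602c368ad0e4d30b913f30d66d22043c811a091dba7092b509151a24096f481b9110b04121060d9910f08088224ac20902594a282b42b90e2494952536d142c240259051090a08210b092f18042453024e56586a4ca09627b18092093812924822864920f249a0104014d641a0970af2904)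
noncomputable def rs4_m10 : Nat := (nat_lit 0x7809fa41800882d52c200826a110b63c114dd2208008211186151c063474688918903e28994005100246b3000c108146a00001e20740021b000082c1c000031409a806781001260888588022100a0009101004200d680b94100000010280085480000014284028000908002002004820008124200100081081005009080100420025082004104a0a00492a01208504808402002432900800124800800000024100920800800900000)
noncomputable def rs4_m11 : Nat := (nat_lit 0x600022000100084040a050e01021006040c4484000004620044c4210200000400100040001000808002201110000000000200120040820003080108000100018200002281200020000008000000000000008008000000c101040020000080814000808020000400020000118200000000880080040004084400000050024010020482108080020002000100000000000009480080000000000000001108000040400000400000048002000000000000000000008002000000004004000000000000000000000000000800000)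
noncomputable def rs4_m12 : Nat := (nat_lit 0x20000100000000000000000000000000000000000000400000000000000000000000000000000000000000000000080000000000000000000000000000000000000000000000000200000000000000000000000000000000000000000000000002000000000000000000000000000400000000000000000800000000000000400000000000000000000000000000000000000000000000000000000000000000000000000000000000000000000400000000000000000000000000000000000000000)
noncomputable def rs4 : List (Nat × Nat × Nat) := [((nat_lit 8), (nat_lit 3), rs4_m0), ((nat_lit 9), (nat_lit 6), rs4_m1), ((nat_lit 10), (nat_lit 12), rs4_m2), ((nat_lit 11), (nat_lit 24), rs4_m3), ((nat_lit 7), (nat_lit 48), rs4_m4), ((nat_lit 6), (nat_lit 96), rs4_m5), ((nat_lit 5), (nat_lit 191), rs4_m6), ((nat_lit 4), (nat_lit 362), rs4_m7), ((nat_lit 3), (nat_lit 637), rs4_m8), ((nat_lit 2), (nat_lit 989), rs4_m9), ((nat_lit 1), (nat_lit 1347), rs4_m10), ((nat_lit 0), (nat_lit 1631), rs4_m11), ((nat_lit 8), (nat_lit 1554), rs4_m12)]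
noncomputable def M4 : List Nat := [(nat_lit 324), (nat_lit 324), (nat_lit 1134)]
noncomputable def b4 : Nat := (nat_lit 2)

theorem c4 : Cv G.PB Y0 (gensP.getD 4 []) (repsP.getD 4 []) (matP.getD 4 []) :=
  cover_small elB_PB lab_Y0 G.ncard_orb_B_Y0 (fs := fs4) (b := b4) (W := W4) (rs := rs4) (M := M4)
    (by decide +kernel)

noncomputable def fs5 : List Nat := [(nat_lit 36434487)]
noncomputable def W5 : List (List Nat) := [[(nat_lit 2), (nat_lit 2)],
  [(nat_lit 4), (nat_lit 0)],
  [(nat_lit 0), (nat_lit 4), (nat_lit 5)],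
  [(nat_lit 4), (nat_lit 6), (nat_lit 3)],
  [(nat_lit 8), (nat_lit 5), (nat_lit 7)],
  [(nat_lit 8), (nat_lit 6)],
  [(nat_lit 10), (nat_lit 0), (nat_lit 8)]]
noncomputable def rs5_m0 : Nat := (nat_lit 0x1)
noncomputable def rs5_m1 : Nat := (nat_lit 0x3)
noncomputable def rs5_m2 : Nat := (nat_lit 0xf)
noncomputable def rs5_m3 : Nat := (nat_lit 0xff)
noncomputable def rs5_m4 : Nat := (nat_lit 0xffff)
noncomputable def rs5_m5 : Nat := (nat_lit 0xffffffff)
noncomputable def rs5_m6 : Nat := (nat_lit 0xffffffffffffffff)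
noncomputable def rs5_m7 : Nat := (nat_lit 0xfffffffdfdffffffffffffffffffffff)
noncomputable def rs5_m8 : Nat := (nat_lit 0x3ffbb9fbf7f7dffffbbfffffefbfeffffffffff7ff7fff77fbdfff7fffdffff7)
noncomputable def rs5_m9 : Nat := (nat_lit 0x197f73a7fbeffafeabff7effff9d949edfefdf7e6fffff5aeb777ff3935fbd687dfbae63efdea9fffe7dfebffdfdb7bedffff7f7e5ddf365ffff4fd77f)
noncomputable def rs5_m10 : Nat := (nat_lit 0x391f7f4542ea8747b92bd2bf5be4fdfeba55deb97e4daaa0b697450f8e2f69f5c27382f80a00c8b43bd627d8192c1852393b6303b6d5c05390be446df784a49bcc5538cb7fa7a91e3cec7d5c77a89fdf9ee157362bf0d0ca2d5f76adbcae1f7b352eed58bfd57cab4daf4ca4)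
noncomputable def rs5_m11 : Nat := (nat_lit 0x11000781a620a94c80982ab0000c00b0024769090a00407214600690a44aa0231e2046453440a5180b2324122ba4892a08710900040fd4206c250a3040856822c84b18a1113928c040c008443021421c051241a1bb06041020300184405400a1008a2800401e2080004080022408a8ae417a44105840001800883009011a0038500274104008021418950aa060a88e0d9a040410808818205444470e092b80a108309100cb000)
noncomputable def rs5_m12 : Nat := (nat_lit 0x401044220200000000000000000000000000000000000000020042001000000020200000000001001000058088001008200000000000044800000002000140002000000c010004000020000002001008000400002044000000021000010000000000040080112010008000002108000400000000000000000400000010080200002000400000040000101000002404000800000002400000100004000000002140000000001000000104010000004000008000000410000000010000000000000c0800000001004000000020000010000000)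
noncomputable def rs5 : List (Nat × Nat × Nat) := [((nat_lit 7), (nat_lit 1), rs5_m0), ((nat_lit 8), (nat_lit 2), rs5_m1), ((nat_lit 9), (nat_lit 4), rs5_m2), ((nat_lit 10), (nat_lit 8), rs5_m3), ((nat_lit 11), (nat_lit 16), rs5_m4), ((nat_lit 6), (nat_lit 32), rs5_m5), ((nat_lit 5), (nat_lit 64), rs5_m6), ((nat_lit 4), (nat_lit 128), rs5_m7), ((nat_lit 3), (nat_lit 254), rs5_m8), ((nat_lit 2), (nat_lit 485), rs5_m9), ((nat_lit 1), (nat_lit 862), rs5_m10), ((nat_lit 0), (nat_lit 1329), rs5_m11), ((nat_lit 9), (nat_lit 1679), rs5_m12)]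
noncomputable def M5 : List Nat := [(nat_lit 1782)]
noncomputable def b5 : Nat := (nat_lit 1)

theorem c5 : Cv G.PB Y0 (gensP.getD 5 []) (repsP.getD 5 []) (matP.getD 5 []) :=
  cover_small elB_PB lab_Y0 G.ncard_orb_B_Y0 (fs := fs5) (b := b5) (W := W5) (rs := rs5) (M := M5)
    (by decide +kernel)

noncomputable def fs6 : List Nat := [(nat_lit 34939447)]
noncomputable def W6 : List (List Nat) := [[(nat_lit 0), (nat_lit 0)],
  [(nat_lit 2), (nat_lit 0)],
  [(nat_lit 6), (nat_lit 6), (nat_lit 3)],
  [(nat_lit 2), (nat_lit 0)],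
  [(nat_lit 0), (nat_lit 0)],
  [(nat_lit 5), (nat_lit 0), (nat_lit 5)],
  [(nat_lit 9), (nat_lit 3), (nat_lit 7)],
  [(nat_lit 11), (nat_lit 3), (nat_lit 7)]]
noncomputable def rs6_m0 : Nat := (nat_lit 0x1)
noncomputable def rs6_m1 : Nat := (nat_lit 0x3)
noncomputable def rs6_m2 : Nat := (nat_lit 0xf)
noncomputable def rs6_m3 : Nat := (nat_lit 0xff)
noncomputable def rs6_m4 : Nat := (nat_lit 0xffff)
noncomputable def rs6_m5 : Nat := (nat_lit 0xffffffff)
noncomputable def rs6_m6 : Nat := (nat_lit 0xffffffffffffffff)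
noncomputable def rs6_m7 : Nat := (nat_lit 0xfffefff7ffffffffffffffffffffff7f)
noncomputable def rs6_m8 : Nat := (nat_lit 0x1f5fffff6fefffbffdffffdff67fff3ffffefceffff7edfdffbfbfefffefffff)
noncomputable def rs6_m9 : Nat := (nat_lit 0x166fffdf7ff7ffe06fdd5feffccfbf5dfd67ffbeee795f977cfdf7f78f75ffff767efbfbfa9fffadfe67fbb3dfeeef46bfff7adedfabfafefffeffbe7)
noncomputable def rs6_m10 : Nat := (nat_lit 0x5c6603bd6637b6d9117b171b8fcc3c5a7bc5d77fc39543d85eb9e8ddda971efe8b3e97d5561e63e4772b68279c6f5793bf68ea7d7c3fb1a2b34a67696229626eee9d1fd3b92d2f49e547b1ee2dc9c606ceb17379825361712ba61b41821ece8773ef7f4e7baea13d4154bfa)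
noncomputable def rs6_m11 : Nat := (nat_lit 0x7003d0212362286a608100e0a324000824114144100418c00180104a101440290010202040b0206604096e000200c92626049d040002280100541114886854fe441090000849081380e4004030b09521d400111f804986181090625a4008436881d9064832141650002a8e1024428210d2c30482a00821004361120008420000062610e038068209b85744b0a6046160414620fa821006006d43140a241581588001812023e815)
noncomputable def rs6_m12 : Nat := (nat_lit 0x201001088008010010000100000200803000100080020020008000001000000024000000200000400120000204005000040500000000000000000001000004000040000200020010000000000402008000004000000000000000000000000000020800000000800214008001000080080420001000800020000180010000a0000000000000000000800100008000000000000000000040000000208100000008000000000000000000400000000040000000040400080004002000000040120040001040040a088004000000200100000011)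
noncomputable def rs6 : List (Nat × Nat × Nat) := [((nat_lit 8), (nat_lit 1), rs6_m0), ((nat_lit 9), (nat_lit 2), rs6_m1), ((nat_lit 10), (nat_lit 4), rs6_m2), ((nat_lit 11), (nat_lit 8), rs6_m3), ((nat_lit 12), (nat_lit 16), rs6_m4), ((nat_lit 7), (nat_lit 32), rs6_m5), ((nat_lit 6), (nat_lit 64), rs6_m6), ((nat_lit 5), (nat_lit 128), rs6_m7), ((nat_lit 4), (nat_lit 253), rs6_m8), ((nat_lit 3), (nat_lit 481), rs6_m9), ((nat_lit 2), (nat_lit 859), rs6_m10), ((nat_lit 1), (nat_lit 1335), rs6_m11), ((nat_lit 0), (nat_lit 1678), rs6_m12)]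
noncomputable def M6 : List Nat := [(nat_lit 1782)]
noncomputable def b6 : Nat := (nat_lit 1)

theorem c6 : Cv G.PB Y0 (gensP.getD 6 []) (repsP.getD 6 []) (matP.getD 6 []) :=
  cover_small elB_PB lab_Y0 G.ncard_orb_B_Y0 (fs := fs6) (b := b6) (W := W6) (rs := rs6) (M := M6)
    (by decide +kernel)

end CF.Mon.Cov.P

theorem CF.Mon.Cov.coverP : ∀ i < 7, CF.Mon.Cov.Cv CF.Mon.G.PB CF.Mon.Y0 (CF.Mon.gensP.getD i [])
    (CF.Mon.repsP.getD i []) (CF.Mon.matP.getD i []) := fun i hi => by
  interval_cases i
  exacts [P.c0, P.c1, P.c2, P.c3, P.c4, P.c5, P.c6]
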