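import Cfsg.Agent.Mon.EvS
import Cfsg.Agent.Mon.EvG

/-! Checks on explicit elements: validity, equality of products, membership in `C0`. -/

set_option autoImplicit false
set_option maxHeartbeats 400000

namespace CF.Mon

open Matrix Cfsg CF.Leech CF.Comp Lab
open scoped Pointwise

/-! ### monomials -/

noncomputable def colN (p : ℕ) : ℕ :=
  Nat.land (Nat.shiftRight colT (Nat.mul (nat_lit 12) p)) (nat_lit 4095)

noncomputable def sprN (p : ℕ) : ℕ :=
  Nat.mod (Nat.shiftRight sprT (Nat.mul (nat_lit 144) p)) (nat_lit 0x1000000000000000000000000000000000000)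

noncomputable def xorLt (n : ℕ) (f : ℕ → ℕ) : ℕ :=
  Nat.rec (motive := fun _ => ℕ) (nat_lit 0) (fun i r => Nat.xor r (f i)) n

noncomputable def orLt (n : ℕ) (f : ℕ → ℕ) : ℕ :=
  Nat.rec (motive := fun _ => ℕ) (nat_lit 0) (fun i r => Nat.lor r (f i)) n

noncomputable def okMono (m : ℕ) : Bool :=
  Bool.rec false (Bool.rec false
    (Nat.beq (xorLt (nat_lit 24) fun p => Nat.mul (Leech.bit m (Nat.add (nat_lit 120) p)) (colN p))
      (nat_lit 0))
    (Nat.beq (xorLt (nat_lit 24) fun p => Nat.mul (colN (ap m p)) (sprN p)) (nat_lit 0)))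
    (Nat.beq (orLt (nat_lit 24) fun p => Nat.shiftLeft (nat_lit 1) (ap m p)) (nat_lit 16777215))

theorem toZ_xorLt (n : ℕ) (f : ℕ → ℕ) (i : ℕ) :
    toZ (xorLt n f) i = ∑ p ∈ Finset.range n, toZ (f p) i := by
  induction n with
  | zero => simp [xorLt, toZ]
  | succ n ih => rw [Finset.sum_range_succ, ← ih]; exact toZ_xor _ _ _

theorem testBit_orLt (n : ℕ) (f : ℕ → ℕ) (i : ℕ) :
    (orLt n f).testBit i = true ↔ ∃ p < n, (f p).testBit i = true := by
  induction n with
  | zero => simp [orLt]
  | succ n ih =>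
    change (orLt n f ||| f n).testBit i = true ↔ _
    rw [Nat.testBit_or, Bool.or_eq_true, ih, Nat.exists_lt_succ_right]

/-- the basis codewords -/
def dW (k : ℕ) : Finset Pt := ofMask (enc (2 ^ k))

theorem col_check : ∀ p < 24, ∀ k < 12, toZ (colN p) k = word (dW k) (Pos p) := by decide +kernel

theorem outer_check : allLt 24 (fun p => allLt 24 fun q => force (Nat.mul (colN q) (sprN p)) fun x =>
    allLt 12 fun k => allLt 12 fun l => Nat.beq (Leech.bit x (12 * k + l))
      (Leech.bit (colN q) l * Leech.bit (colN p) k)) = true := by decide +kernel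

theorem toZ_eq_bit (a i : ℕ) : toZ a i = (Leech.bit a i : ZMod 2) := by
  rw [Leech.bit_eq, toZ]; split_ifs <;> simp

theorem toZ_outer {p q k l : ℕ} (hp : p < 24) (hq : q < 24) (hk : k < 12) (hl : l < 12) :
    toZ (Nat.mul (colN q) (sprN p)) (12 * k + l) = word (dW l) (Pos q) * word (dW k) (Pos p) := by
  have := allLt_iff.1 (allLt_iff.1 outer_check p hp) q hq
  rw [force_eq] at this
  have := Leech.beq_iff.1 (allLt_iff.1 (allLt_iff.1 this k hk) l hl)
  rw [← col_check q hq l hl, ← col_check p hp k hk, toZ_eq_bit, this, toZ_eq_bit, toZ_eq_bit,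
    Nat.cast_mul]

theorem word_dot (s c : Finset Pt) : word s ⬝ᵥ word c = ((s ∩ c).card : ZMod 2) := by
  simp only [dotProduct, word, ite_mul, one_mul, zero_mul, ← ite_and, Finset.sum_boole]
  congr 2; ext; simp

theorem mem_CS_of_basis {s : Finset Pt}
    (h : ∀ k < 12, ∑ p ∈ Finset.range 24, word s (Pos p) * word (dW k) (Pos p) = 0) : s ∈ CS := by
  refine mem_CS_of_even fun c hc => ?_
  rw [← ZMod.natCast_eq_zero_iff, ← word_dot]
  refine CS_induction (P := fun c => word s ⬝ᵥ word c = 0) (by simp [word_empty]) (fun j hj => ?_)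
    (fun a b _ _ ha hb => by rw [word_symmDiff, dotProduct_add, ha, hb, add_zero]) hc
  rw [dotProduct, sum_Pos]; exact h j hj

theorem okMono_spec {m : ℕ} (h : okMono m = true) : ∃ g, MonoSpec m g := by
  rw [okMono, Leech.brec_and, Leech.brec_and, Leech.beq_iff, Leech.beq_iff, Leech.beq_iff] at h
  obtain ⟨h1, h2, h3⟩ := h
  have t1 : ∀ p i, (Nat.shiftLeft 1 (ap m p)).testBit i = true ↔ ap m p = i := fun p i => by
    rw [show Nat.shiftLeft 1 (ap m p) = 2 ^ ap m p from Nat.one_shiftLeft _, Nat.testBit_two_pow]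
    simp
  have hp : permCheck m = true := allLt_iff.2 fun j hj => anyLt_iff.2 (by
    obtain ⟨p, hp, e⟩ := (testBit_orLt 24 (fun p => Nat.shiftLeft 1 (ap m p)) j).1
      (by rw [h1]; revert j; decide)
    exact ⟨p, hp, Leech.beq_iff.2 ((t1 _ _).1 e)⟩)
  let σ : Equiv.Perm Pt := (permOf ordC * permOf m * (permOf ordC)⁻¹)⁻¹
  have hσ : ∀ p < 24, σ⁻¹ (Pos p) = Pos (ap m p) := fun p h => by
    simp only [σ, inv_inv, Pos_eq h, Pos_eq (ap_lt hp h), Equiv.Perm.mul_apply]
    rw [show (permOf ordC)⁻¹ (permOf ordC (pt p)) = pt p by simp, permOf_pt hp h]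
  have hM : σ ∈ M24 := mem_M24_of_basis fun l hl => mem_CS_of_basis fun k hk => by
    have := congrArg (toZ · (12 * k + l)) h2
    simp only [toZ_xorLt] at this
    refine Eq.trans (Finset.sum_congr rfl fun p h => ?_) (this.trans (by simp [toZ]))
    rw [Finset.mem_range] at h
    rw [toZ_outer h (ap_lt hp h) hk hl, ← hσ p h]
    simp only [word, mem_smul_finset, dW]
    rfl
  let c : Finset Pt := Finset.univ.filter fun i => m.testBit (120 + idx ((permOf ordC)⁻¹ i)) = true
  have hc : ∀ p < 24, Pos p ∈ c ↔ m.testBit (120 + p) = true := fun p h => by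
    simp [c, Pos_eq h, idx_pt h]
  have hC : c ∈ CS := mem_CS_of_basis fun k hk => by
    have := congrArg (toZ · k) h3
    simp only [toZ_xorLt] at this
    refine Eq.trans (Finset.sum_congr rfl fun p h => ?_) (this.trans (by simp [toZ]))
    rw [Finset.mem_range] at h
    rw [← col_check p h k hk, Leech.bit_eq, word, Nat.add_eq]
    simp only [hc p h]
    split_ifs <;> simp [toZ]
  refine ⟨mono hM hC, fun p h => ap_lt hp h, fun x p h => ?_⟩
  have := mono_apply hM hC x (σ⁻¹ (Pos p))
  rw [show σ (σ⁻¹ (Pos p)) = Pos p by simp, hσ p h] at this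
  simp only [this, hc p h]

/-! ### validity -/

noncomputable def dotG (Y : ℕ) (l : List ℕ) : ℕ → ℕ :=
  List.rec (motive := fun _ => ℕ → ℕ) (fun _ => nat_lit 0) (fun c _ ih p =>
    Nat.add (Nat.mul c (rowN gc32.bk gc32.fb Y p)) (ih (Nat.succ p))) l

/-- the labels of the classes of the 24 packed vectors -/
noncomputable def clsG (Y : ℕ) : ℕ :=
  force (dotG Y dualC (nat_lit 0)) fun D => xorLt (nat_lit 24) fun k =>
    Nat.mul (bitN r24 D (Nat.add (Nat.mul (nat_lit 768) k) (nat_lit 3))) (Nat.shiftLeft (nat_lit 1) k)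

noncomputable def okB (e : El) : Bool :=
  Bool.rec false (Nat.beq (Nat.land (gsN r24 e.h lB) m24) (force (gwE gc32 e.g xUW) clsG))
    (lall okMono e.g)

/-- the vectors `u` and `w` -/
noncomputable def uw (j : ℕ) : LL := if j < 12 then uV (Fin.ofNat 12 j) else wV (Fin.ofNat 12 j)
/-- the dual vectors -/
noncomputable def wu (j : ℕ) : LL := if j < 12 then wV (Fin.ofNat 12 j) else uV (Fin.ofNat 12 j)

theorem nm_uV : ∀ k, nm (uV k) ≤ 64 := by decide +kernel
theorem nm_wV : ∀ k, nm (wV k) ≤ 64 := by decide +kernel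
theorem nm_uw (j : ℕ) : nm (uw j) ≤ 64 := by unfold uw; split_ifs; exacts [nm_uV _, nm_wV _]
theorem nm_wu (j : ℕ) : nm (wu j) ≤ 64 := by unfold wu; split_ifs; exacts [nm_wV _, nm_uV _]

theorem xUW_eq : xUW = encG 32 uw := by decide +kernel
theorem r24_eq : r24 = repl 32 24 := by decide +kernel
theorem m24_eq : m24 = Dce.pk 32 24 fun _ => 2 ^ 24 - 1 := by decide +kernel
theorem dualC_eq : dualC = (List.range 24).map fun p =>
    Dce.pk (32 * 24) 24 fun k => cd (wu k) p := by decide +kernel
theorem lB_eq (k : Fin 12) : labF lB k = X k ∧ labF lB (12 + k) = Z k := by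
  simp only [Lab.ext_iff]; revert k; decide +kernel

theorem ofNat_add : ∀ k : Fin 12, Fin.ofNat 12 (12 + k) = k := by decide

theorem dotG_eq (Y : ℕ) (l : List ℕ) (p : ℕ) : dotG Y l p =
    ∑ i ∈ Finset.range l.length, l.getD i 0 * rowN gc32.bk gc32.fb Y (p + i) := by
  induction l generalizing p with
  | nil => rfl
  | cons c l ih =>
    change c * _ + dotG Y l (p + 1) = _
    rw [List.length_cons, Finset.sum_range_succ', ih, add_comm]
    simp [add_assoc, add_comm 1]

theorem toZ_three {n : ℕ} {x y : LL} (h : (16 : ℤ) ∣ n - dt x y) : toZ n 3 = d8 x y := by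
  have := dvd_dt x y
  have e : d8 x y = ((n / 8 : ℕ) : ℤ) := d8_eq_iff.2 (by omega)
  rw [e, toZ_eq_bit, Int.cast_natCast, Leech.bit, ZMod.natCast_eq_natCast_iff']
  change (n >>> 3 &&& 1) % 2 = _
  rw [Nat.and_one_is_mod, Nat.shiftRight_eq_div_pow]; omega

theorem toZ_clsG {ys : ℕ → LL} (h : ∀ j, nm (ys j) ≤ 64) {j i : ℕ} (hj : j < 24) (hi : i < 32) :
    toZ (clsG (encG 32 ys)) (32 * j + i) = if i < 24 then d8 (ys j) (wu i) else 0 := by
  have hD : dotG (encG 32 ys) dualC 0 = Dce.pk 32 (24 * 24) fun t =>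
      ∑ p ∈ Finset.range 24, cd (wu (t / 24)) p * cd (ys (t % 24)) p := by
    rw [dotG_eq, dualC_eq, List.length_map, List.length_range]
    simp only [Dce.pk, Finset.sum_mul]
    rw [Finset.sum_comm]
    refine Finset.sum_congr rfl fun p hp => ?_
    rw [Finset.mem_range] at hp
    rw [zero_add, rowN_enc gc32_ok h hp, List.getD_eq_getElem _ _ (by simpa using hp),
      List.getElem_map, List.getElem_range]
    exact Dce.pk_outer 32 (by norm_num) _ _
  have hb : ∀ k < 24, toZ (dotG (encG 32 ys) dualC 0) (32 * j + Nat.add (Nat.mul 768 k) 3) =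
      d8 (ys j) (wu k) := fun k hk => by
    rw [hD, show 32 * j + Nat.add (Nat.mul 768 k) 3 = 32 * (24 * k + j) + 3 by
      simp only [Nat.add_eq, Nat.mul_eq]; ring, toZ_pk (fun t _ => ?_) (by omega) (by norm_num),
      show (24 * k + j) / 24 = k by omega, show (24 * k + j) % 24 = j by omega]
    · refine toZ_three ?_
      rw [dt, dotInt, sum_Pos, Nat.cast_sum, ← Finset.sum_sub_distrib]
      refine Finset.dvd_sum fun p _ => ?_
      rw [Nat.cast_mul, cd_eq (nm_wu k), cd_eq (h j)]
      exact ⟨(wu k : V) (Pos p) + (ys j : V) (Pos p) + 16, by ring⟩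
    · refine (Finset.sum_le_card_nsmul _ _ (24 * 24) fun p _ => Nat.mul_le_mul
        (cd_le (nm_wu _) p).2 (cd_le (h _) p).2).trans_lt (by simp)
  rw [clsG, force_eq, toZ_xorLt, r24_eq]
  have c1 : ∀ k < 24, Nat.shiftLeft 1 k < 2 ^ 32 ∧
      ∀ i < 32, toZ (Nat.shiftLeft 1 k) i = if k = i then 1 else 0 := by decide +kernel
  rw [Finset.sum_congr rfl fun k hk => by
    rw [(bits_bitN 24 _ _).mul (c1 k (Finset.mem_range.1 hk)).1 hj hi, hb k (Finset.mem_range.1 hk),
      (c1 k (Finset.mem_range.1 hk)).2 i hi]]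
  simp

theorem okB_spec {e : El} (h : okB e = true) : e.Ok := by
  rw [okB, Leech.brec_and, lall_iff, Leech.beq_iff, force_eq] at h
  have h1 : ∀ m ∈ e.g, ∃ g, MonoSpec m g := fun m hm => okMono_spec (h.1 m hm)
  have h2 := h.2
  rw [xUW_eq, gwE_enc gc32_ok h1 nm_uw, r24_eq] at h2
  have key : ∀ j < 24, Cj (hval e.h) (labF lB j) (cls (gval e.g • uw j)) := fun j hj => by
    refine ⟨_, ?_, gatesE_conj _ _⟩
    rw [← labF_gsN hj]
    have k : ∀ i < 24, toZ (gsN (repl 32 24) e.h lB) (32 * j + i) = d8 (gval e.g • uw j) (wu i) :=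
      fun i hi => by
        have := congrArg (toZ · (32 * j + i)) h2
        simp only [toZ_land] at this
        rw [toZ_clsG (fun j => (co_nm _ _).le.trans (nm_uw j)) hj (by omega), if_pos hi, m24_eq,
          toZ_pk (fun _ _ => by norm_num) hj (by omega)] at this
        rw [← this, (toZ_eq_one (a := 2 ^ 24 - 1)).2 (by rw [Nat.testBit_two_pow_sub_one]; simpa),
          mul_one]
    refine ⟨funext fun i => ?_, funext fun i => ?_⟩
    · rw [labF_a, k i (by omega)]; simp [cls, wu]
    · rw [labF_b, k _ (by omega), wu, if_neg (by omega), ofNat_add]; rfl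
  refine ⟨h1, fun k => ?_, fun k => ?_⟩
  · have := key k (by omega)
    rw [(lB_eq k).1] at this
    simpa [uw] using this
  · have := key (12 + k) (by omega)
    rwa [(lB_eq k).2, uw, if_neg (by omega), ofNat_add] at this

/-! ### equality of products -/

noncomputable def prodE (l : List El) : Gt := (l.map El.val).prod

@[simp] theorem prodE_nil : prodE [] = 1 := rfl
@[simp] theorem prodE_cons (e : El) (l : List El) : prodE (e :: l) = e.val * prodE l := rfl
theorem prodE_append (l m : List El) : prodE (l ++ m) = prodE l * prodE m := by simp [prodE]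

noncomputable def evG (l : List El) (x : ℕ) : ℕ :=
  List.rec (motive := fun _ => ℕ) x (fun e _ r => force r (gwE gc8 e.g)) l

noncomputable def evS (l : List El) (x : ℕ) : ℕ :=
  List.rec (motive := fun _ => ℕ) x (fun e _ r => force r (gs3 e.h)) l

/-- action on packed labels -/
noncomputable def evL (R : ℕ) (l : List El) (x : ℕ) : ℕ :=
  List.rec (motive := fun _ => ℕ) x (fun e _ r => force r (gsN R e.h)) l

def psi : ℕ := nat_lit 0x100000000000000000000000000000000000000000000000000000000000000000000000000000000000000000000000000000000000000000000000000000000000000000000000000000000000000000000000000000000000000000000000000000000000000000000000000000000000000000000000000000000000000010000000000000000000000000000000000000000000000000000000000000000000000000000000000000000000000000000000000000000000000000000000100000000000000000000000000000000000000000000000000000000000000010000000000000000000000000000000100000000000000010000000100010117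

noncomputable def eqW (l r : List El) : Bool :=
  force (evG l xE8) fun a => force (evG r xE8) fun b =>
    Bool.rec (Bool.rec false (Nat.beq (evS l psi) (force (evS r psi) neg3))
      (Nat.beq a (Nat.sub gc8.oa b))) (Nat.beq (evS l psi) (evS r psi)) (Nat.beq a b)

/-- all gates of a product -/
def glist : List El → List Gate
  | [] => []
  | e :: l => glist l ++ e.h.map gate

theorem hOf_prodE {l : List El} (h : ∀ e ∈ l, e.Ok) : hOf (prodE l) = gatesE (glist l) := by
  induction l with
  | nil => rfl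
  | cons e l ih =>
    rw [prodE_cons, map_mul, glist, gatesE_append, (h e List.mem_cons_self).h,
      ih fun e he => h e (List.mem_cons_of_mem _ he)]

theorem labF_evL {N j : ℕ} (hj : j < N) {l : List El} (h : ∀ e ∈ l, e.Ok) (x : ℕ) :
    labF (evL (repl 32 N) l x) j = prodE l • labF x j := by
  induction l with
  | nil => exact (one_smul _ _).symm
  | cons e l ih =>
    change labF (force (evL _ l x) (gsN _ e.h)) j = _
    rw [force_eq, labF_gsN hj, ih fun e he => h e (List.mem_cons_of_mem _ he), prodE_cons, mul_smul,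
      (h e List.mem_cons_self).smul]

theorem labF_zero (x : ℕ) : labF x 0 = lab x := by
  refine Lab.ext (funext fun k => ?_) (funext fun k => ?_) ?_
  · simp [labF_a, lab, toIx_apply]
  · rw [labF_b, mul_zero, zero_add]; exact (toZ_shr x 12 k).symm
  · simp [labF_s, lab]

theorem lab_evL {l : List El} (h : ∀ e ∈ l, e.Ok) (x : ℕ) :
    lab (evL 1 l x) = prodE l • lab x := by
  have := labF_evL (N := 1) one_pos h x
  rwa [show repl 32 1 = 1 by decide, labF_zero, labF_zero] at this

theorem evG_enc {l : List El} (h : ∀ e ∈ l, e.Ok) {xs : ℕ → LL} (hx : ∀ j, nm (xs j) ≤ 64) :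
    evG l (encG 8 xs) = encG 8 fun j => gOf (prodE l) • xs j := by
  induction l with
  | nil => simp [evG]
  | cons e l ih =>
    change force (evG l _) (gwE gc8 e.g) = _
    rw [force_eq, ih fun e he => h e (List.mem_cons_of_mem _ he),
      gwE_enc gc8_ok (h e List.mem_cons_self).1 fun j => (co_nm _ _).le.trans (hx j)]
    simp only [prodE_cons, map_mul, mul_smul, (h e List.mem_cons_self).g]

theorem Rep3.evS {S : ℕ} {v : Ix → ZMod 3} (h : Rep3 S v) (l : List El) :
    Rep3 (evS l S) (gatesF (-1) (glist l) v) := by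
  induction l with
  | nil => exact h
  | cons e l ih =>
    change Rep3 (force (Mon.evS l S) (gs3 e.h)) _
    rw [force_eq, glist, gatesF_append]; exact ih.gates _

/-- a state with trivial stabiliser -/
def psiZ : Ix → ℤ := fun w => if w = 0 ∨ ∃ k, w = Pi.single k 1 then 1 else 0

theorem psi_eq : psi = (orLt 12 fun k => 2 ^ 2 ^ k) ||| 2 ^ 0 := by decide +kernel

theorem rep3_psi : Rep3 psi fun w => (psiZ w : ZMod 3) := by
  have hl : psi < 2 ^ 4096 := by decide +kernel
  refine ⟨hl.trans (Nat.pow_lt_pow_right one_lt_two (by norm_num)), fun n hn => ?_⟩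
  rw [Nat.testBit_lt_two_pow (hl.trans_le (Nat.pow_le_pow_right two_pos (Nat.le_add_right _ _)))]
  refine ⟨Bool.and_false _, ?_⟩
  have : (toIx n = 0 ∨ ∃ k, toIx n = Pi.single k 1) ↔ psi.testBit n = true := by
    rw [psi_eq, Nat.testBit_or, Bool.or_eq_true, testBit_orLt, or_comm]
    simp only [Nat.testBit_two_pow, decide_eq_true_eq, ← toIx_pow]
    refine or_congr ⟨fun ⟨k, e⟩ => ⟨k, k.2, (toIx_inj hn (Nat.pow_lt_pow_right one_lt_two k.2) e).symm⟩,
      fun ⟨k, hk, e⟩ => ⟨⟨k, hk⟩, by rw [← e]⟩⟩ ⟨fun e => (toIx_inj hn (by norm_num)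
        (e.trans (by decide))).symm, fun e => by rw [← e]; decide⟩
  simp only [psiZ, this, val3]
  split_ifs <;> simp_all

theorem eq_one_of_psi {q : Lab} (h : (fun w => ((pauliF q psiZ w : ℤ) : ZMod 3)) =
    fun w => (psiZ w : ZMod 3)) : q = 1 := by
  have hc : ∀ z, ((chi ℤ z : ℤ) : ZMod 3) = chi (ZMod 3) z := fun z => map_chi (Int.castRingHom (ZMod 3)) z
  have h1 : ∀ w, chi (ZMod 3) (q.s + q.b ⬝ᵥ (w + q.a)) * psiZ (w + q.a) = psiZ w := fun w => by
    simpa [pauliF, hc] using congrFun h w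
  have p0 : psiZ 0 = 1 := if_pos (Or.inl rfl)
  have pk : ∀ k, psiZ (Pi.single k 1) = 1 := fun k => if_pos (Or.inr ⟨k, rfl⟩)
  have ha : q.a = 0 := by
    by_contra ha
    have : ∃ k, q.a = Pi.single k 1 := by
      by_contra hk
      have := h1 0
      rw [zero_add, p0, psiZ, if_neg (not_or.2 ⟨ha, hk⟩)] at this
      simp at this
    obtain ⟨k, hk⟩ := this
    have := h1 (Pi.single (k + 1) 1)
    rw [pk, hk, psiZ, if_neg (by clear * -; revert k; decide +kernel)] at this
    simp at this
  have c1 : ∀ z, chi (ZMod 3) z = 1 → z = 0 := by decide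
  have hs : q.s = 0 := c1 _ (by simpa [ha, p0] using h1 0)
  exact Lab.ext ha (funext fun k => c1 _ (by simpa [ha, hs, pk] using h1 (Pi.single k 1))) hs

theorem eq_of_mod3 {γ δ : Gt} {l m : List Gate} (hγ : hOf γ = gatesE l) (hδ : hOf δ = gatesE m)
    (hg : gOf γ = gOf δ) (h : gatesF (-1 : ZMod 3) l (fun w => (psiZ w : ZMod 3)) =
      gatesF (-1 : ZMod 3) m fun w => (psiZ w : ZMod 3)) : γ = δ := by
  obtain ⟨q, hq⟩ := exists_pauli (γ := δ⁻¹ * γ) (by simp [hg])
  rw [inv_mul_eq_iff_eq_mul] at hq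
  have : gatesE l (fun w => (psiZ w : ℝ)) = gatesE m fun w => ((pauliF q psiZ w : ℤ) : ℝ) := by
    rw [← hγ, ← hδ, hq, map_mul, LinearEquiv.mul_apply, hOf_pauli]
    congr 1
    funext w
    simp [PE_apply, pauliF, show ∀ z, ((chi ℤ z : ℤ) : ℝ) = chi ℝ z from
      fun z => map_chi (Int.castRingHom ℝ) z]
  rw [hq, eq_one_of_psi (gatesF_injective (by decide) m ((mod3 this).symm.trans h)), map_one, mul_one]

theorem xE8_eq : xE8 = encG 8 fun j => e8 (Pos j) := by decide +kernel

theorem brec_cases {A B C D : Bool}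
    (h : (Bool.rec (Bool.rec false A B) C D : Bool) = true) :
    (D = true ∧ C = true) ∨ (B = true ∧ A = true) := by
  cases D <;> cases B <;> simp_all

theorem eqW_cases {l r : List El} (h : eqW l r = true) :
    (evG l xE8 = evG r xE8 ∧ evS l psi = evS r psi) ∨
      (evG l xE8 = Nat.sub gc8.oa (evG r xE8) ∧ evS l psi = neg3 (evS r psi)) := by
  unfold eqW at h
  generalize evG l xE8 = a at h ⊢
  generalize evG r xE8 = b at h ⊢
  generalize evS l psi = c at h ⊢
  generalize evS r psi = d at h ⊢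
  generalize gc8.oa = o at h ⊢
  simp only [force_eq] at h
  generalize neg3 d = e at h ⊢
  simpa only [Leech.beq_iff] using brec_cases h

theorem eqW_spec {l r : List El} (hl : ∀ e ∈ l, e.Ok) (hr : ∀ e ∈ r, e.Ok) (h : eqW l r = true) :
    prodE l = prodE r ∨ prodE l = kap * prodE r := by
  have n8 : ∀ (g : Co0) j, nm (g • e8 (Pos j)) ≤ 64 := fun g j => by rw [co_nm, nm_e8]
  have n0 : ∀ j, nm (e8 (Pos j)) ≤ 64 := fun j => (nm_e8 _).le
  have ext : ∀ g g' : Co0, (encG 8 fun j => g • e8 (Pos j)) = (encG 8 fun j => g' • e8 (Pos j)) →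
      g = g' := fun g g' e => co_ext fun i => by
    obtain ⟨p, hp, rfl⟩ := exists_Pos i
    exact encG_inj le_rfl (n8 g) (n8 g') e hp
  replace h := eqW_cases h
  rw [xE8_eq, evG_enc hl n0, evG_enc hr n0] at h
  have sl := rep3_psi.evS l
  have sr := rep3_psi.evS r
  rcases h with ⟨h1, h2⟩ | ⟨h1, h2⟩
  · left
    rw [h2] at sl
    exact eq_of_mod3 (hOf_prodE hl) (hOf_prodE hr) (ext _ _ h1) (sl.unique sr)
  · right
    rw [encG_neg gc8_ok (n8 _)] at h1
    rw [h2] at sl
    refine eq_of_mod3 (m := glist r ++ [.zg 0 1]) (hOf_prodE hl) ?_ (ext _ _ ?_) ?_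
    · rw [gatesE_append, map_mul, hOf_prodE hr]
      refine congrArg₂ (· * ·) ?_ rfl
      refine LinearEquiv.ext fun v => funext fun w => ?_
      simp [kap, gatesE, gateE_apply, gateF, PE_apply, pauliF_xc]
    · simpa [kap, mul_smul] using h1
    · rw [sl.unique sr.neg, gatesF_append]
      funext w; simp [gatesF, gateF]

theorem eqW_map {Γ : Type*} [Group Γ] {ρ : Gt →* Γ} (hk : ρ kap = 1) {l r : List El}
    (hl : ∀ e ∈ l, e.Ok) (hr : ∀ e ∈ r, e.Ok) (h : eqW l r = true) : ρ (prodE l) = ρ (prodE r) := by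
  rcases eqW_spec hl hr h with e | e <;> simp [e, hk]

/-! ### membership in `C0` -/

noncomputable def critB (e : El) : Bool :=
  Bool.rec false (Bool.rec false (Bool.rec false
    (Nat.beq (ksN (nat_lit 4294967297) e.h (nat_lit 8796093022208)) (nat_lit 8796093022208))
    (monoG e.h)) (Nat.ble (llen e.g) (nat_lit 1)))
    (lall (fun m => Nat.beq (Nat.shiftRight m (nat_lit 120)) (nat_lit 0)) e.g)

theorem perm_of_mono {m : ℕ} {g : Co0} (h : MonoSpec m g) (h0 : m >>> 120 = 0) :
    ∃ σ, g = permHom σ := by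
  have hb : ∀ p, m.testBit (120 + p) = false := fun p => by
    rw [← Nat.testBit_shiftRight, h0, Nat.zero_testBit]
  have he : ∀ p < 24, g⁻¹ • e8 (Pos p) = e8 (Pos (ap m p)) := fun p hp => by
    refine Subtype.ext (funext fun i => ?_)
    have h1 := co_dt' g (e8 i) (e8 (Pos p))
    rw [dt_e8, h.2 _ p hp, hb, dt_comm, dt_e8] at h1
    simp only [Bool.false_eq_true, if_false, e8_apply] at h1 ⊢
    simp only [eq_comm (a := i)]
    omega
  obtain ⟨σ, c, hσ, hc, e⟩ : g⁻¹ ∈ Mon := mem_Mon_of (e8_mem_stdCross (Pos 0))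
    (by rw [he 0 (by norm_num)]; exact e8_mem_stdCross _)
  have : c = ∅ := Finset.eq_empty_of_forall_notMem fun i hi => by
    obtain ⟨p, hp, hi'⟩ := exists_Pos (σ⁻¹ i)
    have := mono_apply hσ hc (e8 (Pos p)) (σ⁻¹ i)
    rw [← e, he p hp, show σ (σ⁻¹ i) = i by simp, if_pos hi, hi', e8_apply, e8_apply,
      if_pos rfl] at this
    split_ifs at this
  subst this
  exact ⟨⟨σ, hσ⟩⁻¹, by rw [map_inv, ← inv_inv g, e]; rfl⟩

theorem critB_spec {e : El} (ho : e.Ok) (h : critB e = true) : e.val ∈ C0 := by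
  rw [critB, Leech.brec_and, Leech.brec_and, Leech.brec_and, lall_iff, Leech.ble_iff,
    Leech.beq_iff, llen_eq] at h
  obtain ⟨h1, h2, h3, h4⟩ := h
  have k := fun j (hj : j < 2) => ketF_ksN hj h3 8796093022208
  rw [show repl 32 2 = 4294967297 by decide, h4, ← ho.h] at k
  have k0 : ketF 8796093022208 0 = ket 0 := by
    rw [ketF, show labF 8796093022208 0 = 1 by simp only [Lab.ext_iff]; decide +kernel]; simp
  have k1 : ketF 8796093022208 1 = ket (Pi.single 11 1) := by
    rw [ketF, show labF 8796093022208 1 = X 11 by simp only [Lab.ext_iff]; decide +kernel]; simp [X]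
  refine ⟨?_, k0 ▸ (k 0 (by norm_num)).symm, k1 ▸ (k 1 (by norm_num)).symm⟩
  rw [ho.g]
  have h5 := ho.1
  generalize e.g = l at h1 h2 h5
  match l, h1, h2, h5 with
  | [], _, _, _ => exact ⟨1, by simp [gval]⟩
  | [m], h1, _, h5 =>
    rw [gval, gv1, one_mul]
    exact perm_of_mono (monoV_spec (h5 m List.mem_cons_self))
      (Leech.beq_iff.1 (h1 m List.mem_cons_self))
  | _ :: _ :: _, _, h2, _ => simp at h2

theorem yE_ok : yE.Ok := okB_spec (by decide +kernel)
theorem aE_ok : aE.Ok := okB_spec (by decide +kernel)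

theorem eval_realize : True := by
  have := @glist.eq_def
  trivial

end CF.Mon
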