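import Cfsg.Agent.Mon.YMd
import Cfsg.Agent.Mon.LabSS

/-! The nodes of type `Y₅₅₃` lying in `Gt` generate the stabiliser `PB`. -/

set_option autoImplicit false
set_option maxRecDepth 100000

namespace CF.Mon.Tr

open CF.Comp CF.Mon.L

noncomputable def chainPB : List Lv := [
  ⟨nat_lit 12288, [[nat_lit 9, nat_lit 1, nat_lit 4, nat_lit 1, nat_lit 7, nat_lit 7, nat_lit 7, nat_lit 10, nat_lit 6, nat_lit 3, nat_lit 1, nat_lit 7, nat_lit 0, nat_lit 6],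
    [nat_lit 9, nat_lit 0, nat_lit 7, nat_lit 4, nat_lit 3, nat_lit 9, nat_lit 1, nat_lit 5, nat_lit 0, nat_lit 0, nat_lit 0, nat_lit 10, nat_lit 8, nat_lit 0, nat_lit 6, nat_lit 10, nat_lit 3, nat_lit 6],
    [nat_lit 8, nat_lit 3, nat_lit 7, nat_lit 7, nat_lit 8, nat_lit 3, nat_lit 5, nat_lit 3, nat_lit 10, nat_lit 3, nat_lit 7, nat_lit 4],
    [nat_lit 6, nat_lit 8, nat_lit 10, nat_lit 1, nat_lit 2, nat_lit 10, nat_lit 4, nat_lit 1, nat_lit 5, nat_lit 8, nat_lit 6, nat_lit 8],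
    [nat_lit 4, nat_lit 4, nat_lit 9, nat_lit 7, nat_lit 8, nat_lit 6, nat_lit 9, nat_lit 0, nat_lit 7, nat_lit 3, nat_lit 6, nat_lit 6, nat_lit 10, nat_lit 2, nat_lit 5],
    [nat_lit 10, nat_lit 5, nat_lit 1, nat_lit 7, nat_lit 10, nat_lit 8, nat_lit 1, nat_lit 2, nat_lit 8, nat_lit 6, nat_lit 5, nat_lit 7, nat_lit 0, nat_lit 7, nat_lit 0, nat_lit 4, nat_lit 9, nat_lit 9, nat_lit 9, nat_lit 6]],
    [], nat_lit 0⟩,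
  ⟨nat_lit 25165824, [[nat_lit 3, nat_lit 5, nat_lit 2, nat_lit 3, nat_lit 3, nat_lit 0, nat_lit 0],
    [nat_lit 3, nat_lit 0, nat_lit 3, nat_lit 2, nat_lit 4, nat_lit 4],
    [nat_lit 2, nat_lit 4, nat_lit 1, nat_lit 5, nat_lit 2, nat_lit 5],
    [nat_lit 1, nat_lit 4, nat_lit 3, nat_lit 0, nat_lit 1, nat_lit 0, nat_lit 3, nat_lit 1, nat_lit 0],
    [nat_lit 3, nat_lit 5, nat_lit 4, nat_lit 2, nat_lit 5]],
    [nat_lit 0, nat_lit 0, nat_lit 0, nat_lit 0, nat_lit 0, nat_lit 0, nat_lit 0, nat_lit 0, nat_lit 0, nat_lit 0, nat_lit 0, nat_lit 0, nat_lit 0, nat_lit 0, nat_lit 0, nat_lit 0, nat_lit 0, nat_lit 1, nat_lit 0, nat_lit 0, nat_lit 0, nat_lit 0, nat_lit 0, nat_lit 0, nat_lit 0, nat_lit 0, nat_lit 0, nat_lit 0, nat_lit 0, nat_lit 0, nat_lit 0, nat_lit 0, nat_lit 0, nat_lit 0, nat_lit 0, nat_lit 1, nat_lit 0, nat_lit 0, nat_lit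 0, nat_lit 0, nat_lit 0, nat_lit 0, nat_lit 0, nat_lit 0, nat_lit 0, nat_lit 0, nat_lit 0, nat_lit 0, nat_lit 0, nat_lit 0, nat_lit 0, nat_lit 0, nat_lit 0, nat_lit 1, nat_lit 0, nat_lit 0, nat_lit 0, nat_lit 0, nat_lit 0, nat_lit 0, nat_lit 0, nat_lit 0, nat_lit 0, nat_lit 0, nat_lit 0, nat_lit 0, nat_lit 0, nat_lit 0, nat_lit 0, nat_lit 0, nat_lit 0, nat_lit 1, nat_lit 0, nat_lit 0, nat_lit 0, nat_lit 0, nat_lit 0, nat_lit 0, nat_lit 0, nat_lit 0, nat_lit 0, nat_lit 0, nat_lit 0, nat_lit 0, nat_lit 0, nat_lit 0, nat_lit 0, nat_lit 0, nat_lit 0, nat_lit 2, nat_lit 0, nat_lit 0, nat_lit 0, nat_lit 0, nat_lit 0, nat_lit 0, nat_lit 0, nat_lit 0, nat_lit 0, nat_lit 0, nat_lit 0, nat_lit 0, nat_lit 0, nat_lit 0, nat_lit 0, nat_lit 0, nat_lit 0, nat_lit 1, nat_lit 0, nat_lit 0, nat_lit 0, nat_lit 0, nat_lit 0, nat_lit 0, nat_lit 0, nat_lit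 0, nat_lit 0, nat_lit 0, nat_lit 0, nat_lit 0, nat_lit 0, nat_lit 0, nat_lit 0, nat_lit 0, nat_lit 0, nat_lit 1, nat_lit 0, nat_lit 0, nat_lit 0, nat_lit 0, nat_lit 0, nat_lit 0, nat_lit 0, nat_lit 0, nat_lit 0, nat_lit 0, nat_lit 0, nat_lit 0, nat_lit 0, nat_lit 0, nat_lit 0, nat_lit 0, nat_lit 0, nat_lit 1, nat_lit 0, nat_lit 0, nat_lit 0, nat_lit 0, nat_lit 0, nat_lit 0, nat_lit 0, nat_lit 0, nat_lit 0, nat_lit 0, nat_lit 0, nat_lit 0, nat_lit 0, nat_lit 0, nat_lit 0, nat_lit 0, nat_lit 0, nat_lit 1, nat_lit 0, nat_lit 0, nat_lit 0, nat_lit 0, nat_lit 0, nat_lit 0, nat_lit 0, nat_lit 0, nat_lit 0, nat_lit 0, nat_lit 0, nat_lit 0, nat_lit 0, nat_lit 0, nat_lit 0, nat_lit 0, nat_lit 0, nat_lit 1, nat_lit 0, nat_lit 0, nat_lit 0, nat_lit 0, nat_lit 0, nat_lit 0, nat_lit 0, nat_lit 0, nat_lit 0, nat_lit 0, nat_lit 0, nat_lit 0, nat_lit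 0, nat_lit 0, nat_lit 0, nat_lit 0, nat_lit 0, nat_lit 2, nat_lit 0, nat_lit 0, nat_lit 0, nat_lit 0, nat_lit 0, nat_lit 0, nat_lit 0, nat_lit 0, nat_lit 0, nat_lit 0, nat_lit 0, nat_lit 0, nat_lit 0, nat_lit 0, nat_lit 0, nat_lit 0, nat_lit 0, nat_lit 1, nat_lit 0, nat_lit 0, nat_lit 0, nat_lit 0, nat_lit 0, nat_lit 0, nat_lit 0, nat_lit 0, nat_lit 0, nat_lit 0, nat_lit 0, nat_lit 0, nat_lit 0, nat_lit 0, nat_lit 0, nat_lit 0, nat_lit 0, nat_lit 1, nat_lit 0, nat_lit 0, nat_lit 0, nat_lit 0, nat_lit 0, nat_lit 0, nat_lit 0, nat_lit 0, nat_lit 0, nat_lit 0, nat_lit 0, nat_lit 0, nat_lit 0, nat_lit 0, nat_lit 0, nat_lit 0, nat_lit 0, nat_lit 1, nat_lit 0, nat_lit 0, nat_lit 0, nat_lit 0, nat_lit 0, nat_lit 0, nat_lit 0, nat_lit 0, nat_lit 0, nat_lit 0, nat_lit 0, nat_lit 0, nat_lit 0, nat_lit 0, nat_lit 0, nat_lit 0, nat_lit 0, nat_lit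 1, nat_lit 0, nat_lit 0, nat_lit 0, nat_lit 0, nat_lit 0, nat_lit 0, nat_lit 0, nat_lit 0, nat_lit 0, nat_lit 0, nat_lit 0, nat_lit 0, nat_lit 0, nat_lit 0, nat_lit 0, nat_lit 0, nat_lit 0, nat_lit 1, nat_lit 0, nat_lit 0, nat_lit 0, nat_lit 0, nat_lit 0, nat_lit 0, nat_lit 0, nat_lit 0, nat_lit 0, nat_lit 0, nat_lit 0, nat_lit 0, nat_lit 0, nat_lit 0, nat_lit 0, nat_lit 0, nat_lit 0, nat_lit 1, nat_lit 0, nat_lit 0, nat_lit 0, nat_lit 0, nat_lit 0, nat_lit 0, nat_lit 0, nat_lit 0, nat_lit 0, nat_lit 0, nat_lit 0, nat_lit 0, nat_lit 0, nat_lit 0, nat_lit 0, nat_lit 0, nat_lit 0, nat_lit 2, nat_lit 0, nat_lit 0, nat_lit 0, nat_lit 0, nat_lit 0, nat_lit 0, nat_lit 0, nat_lit 0, nat_lit 0, nat_lit 0, nat_lit 0, nat_lit 0, nat_lit 0, nat_lit 0, nat_lit 0, nat_lit 0, nat_lit 0, nat_lit 1, nat_lit 0, nat_lit 0, nat_lit 0, nat_lit 0, nat_lit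 0, nat_lit 0, nat_lit 0, nat_lit 0, nat_lit 0, nat_lit 0, nat_lit 0, nat_lit 0, nat_lit 0, nat_lit 0, nat_lit 0, nat_lit 0, nat_lit 0, nat_lit 1, nat_lit 0, nat_lit 0, nat_lit 0, nat_lit 0, nat_lit 0, nat_lit 0, nat_lit 0, nat_lit 0, nat_lit 0, nat_lit 0, nat_lit 0, nat_lit 0, nat_lit 0, nat_lit 0, nat_lit 0, nat_lit 0, nat_lit 0, nat_lit 1, nat_lit 0, nat_lit 0, nat_lit 0, nat_lit 0, nat_lit 0, nat_lit 0, nat_lit 0, nat_lit 0, nat_lit 0, nat_lit 0, nat_lit 0, nat_lit 0, nat_lit 0, nat_lit 0, nat_lit 0, nat_lit 0, nat_lit 0, nat_lit 1, nat_lit 0, nat_lit 0, nat_lit 0, nat_lit 0, nat_lit 0, nat_lit 0, nat_lit 0, nat_lit 0, nat_lit 0, nat_lit 0, nat_lit 0, nat_lit 0, nat_lit 0, nat_lit 0, nat_lit 0, nat_lit 0, nat_lit 0, nat_lit 1, nat_lit 0, nat_lit 0, nat_lit 0, nat_lit 0, nat_lit 0, nat_lit 0, nat_lit 0, nat_lit 0, nat_lit 0, nat_lit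 0, nat_lit 0, nat_lit 0, nat_lit 0, nat_lit 0, nat_lit 0, nat_lit 0, nat_lit 0, nat_lit 1, nat_lit 0, nat_lit 0, nat_lit 0, nat_lit 0, nat_lit 0, nat_lit 0, nat_lit 0, nat_lit 0, nat_lit 0, nat_lit 0, nat_lit 0, nat_lit 0, nat_lit 0, nat_lit 0, nat_lit 0, nat_lit 0, nat_lit 0, nat_lit 1, nat_lit 0, nat_lit 0, nat_lit 0, nat_lit 0, nat_lit 0, nat_lit 0, nat_lit 0, nat_lit 0, nat_lit 0, nat_lit 0, nat_lit 0, nat_lit 0, nat_lit 0, nat_lit 0, nat_lit 0, nat_lit 0, nat_lit 0, nat_lit 1, nat_lit 0, nat_lit 0, nat_lit 0, nat_lit 0, nat_lit 0, nat_lit 0, nat_lit 0, nat_lit 0, nat_lit 0, nat_lit 0, nat_lit 0, nat_lit 0, nat_lit 0, nat_lit 0, nat_lit 0, nat_lit 0, nat_lit 0, nat_lit 1, nat_lit 0, nat_lit 0, nat_lit 0, nat_lit 0, nat_lit 0, nat_lit 0, nat_lit 0, nat_lit 0, nat_lit 0, nat_lit 0, nat_lit 0, nat_lit 0, nat_lit 0, nat_lit 0, nat_lit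 0, nat_lit 0, nat_lit 0, nat_lit 2, nat_lit 0, nat_lit 0, nat_lit 0, nat_lit 0, nat_lit 0, nat_lit 0, nat_lit 0, nat_lit 0, nat_lit 0, nat_lit 0, nat_lit 0, nat_lit 0, nat_lit 0, nat_lit 0, nat_lit 0, nat_lit 0, nat_lit 0, nat_lit 1, nat_lit 0, nat_lit 0, nat_lit 0, nat_lit 0, nat_lit 0, nat_lit 0, nat_lit 0, nat_lit 0, nat_lit 0, nat_lit 0, nat_lit 0, nat_lit 0, nat_lit 0, nat_lit 0, nat_lit 0, nat_lit 0, nat_lit 0, nat_lit 2, nat_lit 0, nat_lit 0, nat_lit 0, nat_lit 0, nat_lit 0, nat_lit 0, nat_lit 0, nat_lit 0, nat_lit 0, nat_lit 0, nat_lit 0, nat_lit 0, nat_lit 0, nat_lit 0, nat_lit 0, nat_lit 0, nat_lit 0, nat_lit 1, nat_lit 0, nat_lit 0, nat_lit 0, nat_lit 0, nat_lit 0, nat_lit 0, nat_lit 0, nat_lit 0, nat_lit 0, nat_lit 0, nat_lit 0, nat_lit 0, nat_lit 0, nat_lit 0, nat_lit 0, nat_lit 0, nat_lit 0, nat_lit 1, nat_lit 0, nat_lit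 0, nat_lit 0, nat_lit 0, nat_lit 0, nat_lit 0, nat_lit 0, nat_lit 0, nat_lit 0, nat_lit 0, nat_lit 0, nat_lit 0, nat_lit 0, nat_lit 0, nat_lit 0, nat_lit 0, nat_lit 0, nat_lit 1, nat_lit 0, nat_lit 0, nat_lit 0, nat_lit 0, nat_lit 0, nat_lit 0, nat_lit 0, nat_lit 0, nat_lit 0, nat_lit 0, nat_lit 0, nat_lit 0, nat_lit 0, nat_lit 0, nat_lit 0, nat_lit 0, nat_lit 0, nat_lit 1, nat_lit 0, nat_lit 0, nat_lit 0, nat_lit 0, nat_lit 0, nat_lit 0, nat_lit 0, nat_lit 0, nat_lit 0, nat_lit 0, nat_lit 0, nat_lit 0, nat_lit 0, nat_lit 0, nat_lit 0, nat_lit 0, nat_lit 0, nat_lit 1, nat_lit 0, nat_lit 0, nat_lit 0, nat_lit 0, nat_lit 0, nat_lit 0, nat_lit 0, nat_lit 0, nat_lit 0, nat_lit 0, nat_lit 0, nat_lit 0, nat_lit 0, nat_lit 0, nat_lit 0, nat_lit 0, nat_lit 0, nat_lit 1, nat_lit 0, nat_lit 0, nat_lit 0, nat_lit 0, nat_lit 0, nat_lit 0, nat_lit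 0, nat_lit 0, nat_lit 0, nat_lit 0, nat_lit 0, nat_lit 0, nat_lit 0, nat_lit 0, nat_lit 0, nat_lit 0, nat_lit 0, nat_lit 1, nat_lit 0, nat_lit 0, nat_lit 0, nat_lit 0, nat_lit 0, nat_lit 0, nat_lit 0, nat_lit 0, nat_lit 0, nat_lit 0, nat_lit 0, nat_lit 0, nat_lit 0, nat_lit 0, nat_lit 0, nat_lit 0, nat_lit 0, nat_lit 3, nat_lit 0, nat_lit 0, nat_lit 0, nat_lit 0, nat_lit 0, nat_lit 0, nat_lit 0, nat_lit 0, nat_lit 0, nat_lit 0, nat_lit 0, nat_lit 0, nat_lit 0, nat_lit 0, nat_lit 0, nat_lit 0, nat_lit 0, nat_lit 1, nat_lit 0, nat_lit 0, nat_lit 0, nat_lit 0, nat_lit 0, nat_lit 0, nat_lit 0, nat_lit 0, nat_lit 0, nat_lit 0, nat_lit 0, nat_lit 0, nat_lit 0, nat_lit 0, nat_lit 0, nat_lit 0, nat_lit 0, nat_lit 2, nat_lit 0, nat_lit 0, nat_lit 0, nat_lit 0, nat_lit 0, nat_lit 0, nat_lit 0, nat_lit 0, nat_lit 0, nat_lit 0, nat_lit 0, nat_lit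 0, nat_lit 0, nat_lit 0, nat_lit 0, nat_lit 0, nat_lit 0, nat_lit 2, nat_lit 0, nat_lit 0, nat_lit 0, nat_lit 0, nat_lit 0, nat_lit 0, nat_lit 0, nat_lit 0, nat_lit 1, nat_lit 0, nat_lit 0, nat_lit 0, nat_lit 0, nat_lit 0, nat_lit 0, nat_lit 0, nat_lit 0, nat_lit 0, nat_lit 0, nat_lit 0, nat_lit 0, nat_lit 0, nat_lit 0, nat_lit 0, nat_lit 0, nat_lit 0, nat_lit 2, nat_lit 0, nat_lit 0, nat_lit 0, nat_lit 0, nat_lit 0, nat_lit 0, nat_lit 0, nat_lit 0, nat_lit 0, nat_lit 0, nat_lit 0, nat_lit 0, nat_lit 0, nat_lit 0, nat_lit 0, nat_lit 0, nat_lit 0, nat_lit 1, nat_lit 0, nat_lit 0, nat_lit 0, nat_lit 0, nat_lit 0, nat_lit 0, nat_lit 0, nat_lit 0, nat_lit 0, nat_lit 0, nat_lit 0, nat_lit 0, nat_lit 0, nat_lit 0, nat_lit 0, nat_lit 0, nat_lit 0, nat_lit 1, nat_lit 0, nat_lit 0, nat_lit 0, nat_lit 0, nat_lit 0, nat_lit 0, nat_lit 0, nat_lit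 0, nat_lit 0, nat_lit 0, nat_lit 0, nat_lit 0, nat_lit 0, nat_lit 0, nat_lit 0, nat_lit 0, nat_lit 0, nat_lit 2, nat_lit 0, nat_lit 0, nat_lit 0, nat_lit 0, nat_lit 0, nat_lit 0, nat_lit 0, nat_lit 0, nat_lit 0, nat_lit 0, nat_lit 0, nat_lit 0, nat_lit 0, nat_lit 0, nat_lit 0, nat_lit 0, nat_lit 0, nat_lit 1, nat_lit 0, nat_lit 0, nat_lit 0, nat_lit 0, nat_lit 0, nat_lit 0, nat_lit 0, nat_lit 0, nat_lit 0, nat_lit 0, nat_lit 0, nat_lit 0, nat_lit 0, nat_lit 0, nat_lit 0, nat_lit 0, nat_lit 0, nat_lit 0, nat_lit 1, nat_lit 0, nat_lit 0, nat_lit 0, nat_lit 0, nat_lit 0, nat_lit 0, nat_lit 0, nat_lit 0, nat_lit 0, nat_lit 0, nat_lit 0, nat_lit 0, nat_lit 0, nat_lit 0, nat_lit 0, nat_lit 0, nat_lit 0, nat_lit 1, nat_lit 0, nat_lit 0, nat_lit 0, nat_lit 0, nat_lit 0, nat_lit 0, nat_lit 0, nat_lit 0, nat_lit 0, nat_lit 0, nat_lit 0, nat_lit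 0, nat_lit 0, nat_lit 0, nat_lit 0, nat_lit 0, nat_lit 0, nat_lit 3, nat_lit 0, nat_lit 0, nat_lit 0, nat_lit 0, nat_lit 0, nat_lit 0, nat_lit 0, nat_lit 0, nat_lit 0, nat_lit 0, nat_lit 0, nat_lit 0, nat_lit 0, nat_lit 0, nat_lit 0, nat_lit 0, nat_lit 0, nat_lit 2, nat_lit 0, nat_lit 0, nat_lit 0, nat_lit 0, nat_lit 0, nat_lit 0, nat_lit 0, nat_lit 0, nat_lit 0, nat_lit 0, nat_lit 0, nat_lit 0, nat_lit 0, nat_lit 0, nat_lit 0, nat_lit 0, nat_lit 0, nat_lit 1, nat_lit 0, nat_lit 0, nat_lit 0, nat_lit 0, nat_lit 0, nat_lit 0, nat_lit 0, nat_lit 0, nat_lit 0, nat_lit 0, nat_lit 0, nat_lit 0, nat_lit 0, nat_lit 0, nat_lit 0, nat_lit 0, nat_lit 0, nat_lit 4, nat_lit 0, nat_lit 0, nat_lit 0, nat_lit 0, nat_lit 0, nat_lit 0, nat_lit 0, nat_lit 0, nat_lit 0, nat_lit 0, nat_lit 0, nat_lit 0, nat_lit 0, nat_lit 0, nat_lit 0, nat_lit 0, nat_lit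 0, nat_lit 4, nat_lit 0, nat_lit 0, nat_lit 0, nat_lit 0, nat_lit 0, nat_lit 0, nat_lit 0, nat_lit 0, nat_lit 0, nat_lit 0, nat_lit 0, nat_lit 0, nat_lit 0, nat_lit 0, nat_lit 0, nat_lit 0, nat_lit 0, nat_lit 1, nat_lit 0, nat_lit 0, nat_lit 0, nat_lit 0, nat_lit 0, nat_lit 0, nat_lit 0, nat_lit 0, nat_lit 0, nat_lit 0, nat_lit 0, nat_lit 0, nat_lit 0, nat_lit 0, nat_lit 0, nat_lit 0, nat_lit 0, nat_lit 1, nat_lit 0, nat_lit 0, nat_lit 0, nat_lit 0, nat_lit 0, nat_lit 0, nat_lit 0, nat_lit 0, nat_lit 0, nat_lit 0, nat_lit 0, nat_lit 0, nat_lit 0, nat_lit 0, nat_lit 0, nat_lit 0, nat_lit 0, nat_lit 1, nat_lit 1, nat_lit 0, nat_lit 0, nat_lit 0, nat_lit 0, nat_lit 0, nat_lit 0, nat_lit 0, nat_lit 0, nat_lit 0, nat_lit 0, nat_lit 0, nat_lit 0, nat_lit 0, nat_lit 0, nat_lit 0, nat_lit 0, nat_lit 0, nat_lit 3, nat_lit 0, nat_lit 0, nat_lit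 0, nat_lit 0, nat_lit 0, nat_lit 0, nat_lit 0, nat_lit 0, nat_lit 0, nat_lit 0, nat_lit 0, nat_lit 0, nat_lit 0, nat_lit 0, nat_lit 0, nat_lit 0, nat_lit 0, nat_lit 3, nat_lit 0, nat_lit 0, nat_lit 0, nat_lit 0, nat_lit 0, nat_lit 0, nat_lit 0, nat_lit 0, nat_lit 0, nat_lit 0, nat_lit 0, nat_lit 0, nat_lit 0, nat_lit 0, nat_lit 0, nat_lit 0, nat_lit 0, nat_lit 2, nat_lit 0, nat_lit 0, nat_lit 0, nat_lit 0, nat_lit 0, nat_lit 0, nat_lit 0, nat_lit 0, nat_lit 0, nat_lit 0, nat_lit 0, nat_lit 0, nat_lit 0, nat_lit 0, nat_lit 0, nat_lit 0, nat_lit 0, nat_lit 1, nat_lit 4, nat_lit 0, nat_lit 0, nat_lit 0, nat_lit 0, nat_lit 0, nat_lit 0, nat_lit 0, nat_lit 0, nat_lit 0, nat_lit 0, nat_lit 0, nat_lit 0, nat_lit 0, nat_lit 0, nat_lit 0, nat_lit 0, nat_lit 0, nat_lit 1, nat_lit 0, nat_lit 0, nat_lit 0, nat_lit 0, nat_lit 0, nat_lit 0, nat_lit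 0, nat_lit 0, nat_lit 0, nat_lit 0, nat_lit 0, nat_lit 0, nat_lit 0, nat_lit 0, nat_lit 0, nat_lit 0, nat_lit 0, nat_lit 1, nat_lit 0, nat_lit 0, nat_lit 0, nat_lit 0, nat_lit 0, nat_lit 0, nat_lit 0, nat_lit 0, nat_lit 0, nat_lit 0, nat_lit 0, nat_lit 0, nat_lit 0, nat_lit 0, nat_lit 0, nat_lit 0, nat_lit 0, nat_lit 1, nat_lit 0, nat_lit 0, nat_lit 0, nat_lit 0, nat_lit 0, nat_lit 0, nat_lit 0, nat_lit 0, nat_lit 0, nat_lit 0, nat_lit 0, nat_lit 0, nat_lit 0, nat_lit 0, nat_lit 0, nat_lit 0, nat_lit 0, nat_lit 0, nat_lit 3, nat_lit 0, nat_lit 0, nat_lit 0, nat_lit 0, nat_lit 0, nat_lit 0, nat_lit 0, nat_lit 0, nat_lit 0, nat_lit 0, nat_lit 0, nat_lit 0, nat_lit 0, nat_lit 0, nat_lit 0, nat_lit 0, nat_lit 0, nat_lit 1, nat_lit 0, nat_lit 0, nat_lit 0, nat_lit 0, nat_lit 0, nat_lit 0, nat_lit 0, nat_lit 0, nat_lit 0, nat_lit 0, nat_lit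 0, nat_lit 0, nat_lit 0, nat_lit 0, nat_lit 0, nat_lit 0, nat_lit 0, nat_lit 1, nat_lit 0, nat_lit 0, nat_lit 0, nat_lit 0, nat_lit 0, nat_lit 0, nat_lit 0, nat_lit 0, nat_lit 0, nat_lit 0, nat_lit 0, nat_lit 0, nat_lit 0, nat_lit 0, nat_lit 0, nat_lit 0, nat_lit 0, nat_lit 1, nat_lit 0, nat_lit 0, nat_lit 0, nat_lit 0, nat_lit 0, nat_lit 0, nat_lit 0, nat_lit 0, nat_lit 0, nat_lit 0, nat_lit 0, nat_lit 0, nat_lit 0, nat_lit 0, nat_lit 0, nat_lit 0, nat_lit 0, nat_lit 1, nat_lit 4, nat_lit 0, nat_lit 0, nat_lit 0, nat_lit 0, nat_lit 0, nat_lit 0, nat_lit 0, nat_lit 0, nat_lit 0, nat_lit 0, nat_lit 0, nat_lit 0, nat_lit 0, nat_lit 0, nat_lit 0, nat_lit 0, nat_lit 0, nat_lit 1, nat_lit 0, nat_lit 0, nat_lit 0, nat_lit 0, nat_lit 0, nat_lit 0, nat_lit 0, nat_lit 0, nat_lit 0, nat_lit 0, nat_lit 0, nat_lit 0, nat_lit 0, nat_lit 0, nat_lit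 0, nat_lit 0, nat_lit 0, nat_lit 3, nat_lit 0, nat_lit 0, nat_lit 0, nat_lit 0, nat_lit 0, nat_lit 0, nat_lit 0, nat_lit 0, nat_lit 0, nat_lit 0, nat_lit 0, nat_lit 0, nat_lit 0, nat_lit 0, nat_lit 0, nat_lit 0, nat_lit 0, nat_lit 0, nat_lit 1, nat_lit 0, nat_lit 0, nat_lit 0, nat_lit 0, nat_lit 0, nat_lit 0, nat_lit 0, nat_lit 0, nat_lit 0, nat_lit 0, nat_lit 0, nat_lit 0, nat_lit 0, nat_lit 0, nat_lit 0, nat_lit 0, nat_lit 0, nat_lit 1, nat_lit 0, nat_lit 0, nat_lit 0, nat_lit 0, nat_lit 0, nat_lit 0, nat_lit 0, nat_lit 0, nat_lit 0, nat_lit 0, nat_lit 0, nat_lit 0, nat_lit 0, nat_lit 0, nat_lit 0, nat_lit 0, nat_lit 0, nat_lit 1, nat_lit 1, nat_lit 0, nat_lit 0, nat_lit 0, nat_lit 0, nat_lit 0, nat_lit 0, nat_lit 0, nat_lit 0, nat_lit 0, nat_lit 0, nat_lit 0, nat_lit 0, nat_lit 0, nat_lit 0, nat_lit 0, nat_lit 0, nat_lit 0, nat_lit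 1, nat_lit 0, nat_lit 0, nat_lit 0, nat_lit 0, nat_lit 0, nat_lit 0, nat_lit 0, nat_lit 0, nat_lit 0, nat_lit 0, nat_lit 0, nat_lit 0, nat_lit 0, nat_lit 0, nat_lit 0, nat_lit 0, nat_lit 0, nat_lit 2, nat_lit 0, nat_lit 0, nat_lit 0, nat_lit 0, nat_lit 0, nat_lit 0, nat_lit 0, nat_lit 0, nat_lit 0, nat_lit 0, nat_lit 0, nat_lit 0, nat_lit 0, nat_lit 0, nat_lit 0, nat_lit 0, nat_lit 0, nat_lit 1, nat_lit 0, nat_lit 0, nat_lit 0, nat_lit 0, nat_lit 0, nat_lit 0, nat_lit 0, nat_lit 0, nat_lit 0, nat_lit 0, nat_lit 0, nat_lit 0, nat_lit 0, nat_lit 0, nat_lit 0, nat_lit 0, nat_lit 0, nat_lit 0, nat_lit 1, nat_lit 0, nat_lit 0, nat_lit 0, nat_lit 0, nat_lit 0, nat_lit 0, nat_lit 0, nat_lit 0, nat_lit 0, nat_lit 0, nat_lit 0, nat_lit 0, nat_lit 0, nat_lit 0, nat_lit 0, nat_lit 0, nat_lit 0, nat_lit 1, nat_lit 0, nat_lit 0, nat_lit 0, nat_lit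 0, nat_lit 0, nat_lit 0, nat_lit 0, nat_lit 0, nat_lit 0, nat_lit 0, nat_lit 0, nat_lit 0, nat_lit 0, nat_lit 0, nat_lit 0, nat_lit 0, nat_lit 0, nat_lit 4, nat_lit 0, nat_lit 0, nat_lit 0, nat_lit 0, nat_lit 0, nat_lit 0, nat_lit 0, nat_lit 0, nat_lit 0, nat_lit 0, nat_lit 0, nat_lit 0, nat_lit 0, nat_lit 0, nat_lit 0, nat_lit 0, nat_lit 0, nat_lit 1, nat_lit 1, nat_lit 0, nat_lit 0, nat_lit 0, nat_lit 0, nat_lit 0, nat_lit 0, nat_lit 0, nat_lit 0, nat_lit 0, nat_lit 0, nat_lit 0, nat_lit 0, nat_lit 0, nat_lit 0, nat_lit 0, nat_lit 0, nat_lit 0, nat_lit 1, nat_lit 2, nat_lit 0, nat_lit 0, nat_lit 0, nat_lit 0, nat_lit 0, nat_lit 0, nat_lit 0, nat_lit 0, nat_lit 4, nat_lit 0, nat_lit 0, nat_lit 0, nat_lit 0, nat_lit 0, nat_lit 0, nat_lit 0, nat_lit 0, nat_lit 0, nat_lit 0, nat_lit 0, nat_lit 0, nat_lit 0, nat_lit 0, nat_lit 0, nat_lit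 0, nat_lit 0, nat_lit 1, nat_lit 0, nat_lit 0, nat_lit 0, nat_lit 0, nat_lit 0, nat_lit 0, nat_lit 0, nat_lit 0, nat_lit 0, nat_lit 0, nat_lit 0, nat_lit 0, nat_lit 0, nat_lit 0, nat_lit 0, nat_lit 0, nat_lit 0, nat_lit 1, nat_lit 0, nat_lit 0, nat_lit 0, nat_lit 0, nat_lit 0, nat_lit 0, nat_lit 0, nat_lit 0, nat_lit 0, nat_lit 0, nat_lit 0, nat_lit 0, nat_lit 0, nat_lit 0, nat_lit 0, nat_lit 0, nat_lit 0, nat_lit 0, nat_lit 3, nat_lit 0, nat_lit 0, nat_lit 0, nat_lit 0, nat_lit 0, nat_lit 0, nat_lit 0, nat_lit 0, nat_lit 0, nat_lit 0, nat_lit 0, nat_lit 0, nat_lit 0, nat_lit 0, nat_lit 0, nat_lit 0, nat_lit 0, nat_lit 1, nat_lit 0, nat_lit 0, nat_lit 0, nat_lit 0, nat_lit 0, nat_lit 0, nat_lit 0, nat_lit 0, nat_lit 0, nat_lit 0, nat_lit 0, nat_lit 0, nat_lit 0, nat_lit 0, nat_lit 0, nat_lit 0, nat_lit 0, nat_lit 0, nat_lit 2, nat_lit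 0, nat_lit 0, nat_lit 0, nat_lit 0, nat_lit 0, nat_lit 0, nat_lit 0, nat_lit 0, nat_lit 0, nat_lit 0, nat_lit 0, nat_lit 0, nat_lit 0, nat_lit 0, nat_lit 0, nat_lit 0, nat_lit 0, nat_lit 4, nat_lit 2, nat_lit 0, nat_lit 0, nat_lit 0, nat_lit 0, nat_lit 0, nat_lit 0, nat_lit 0, nat_lit 0, nat_lit 0, nat_lit 0, nat_lit 0, nat_lit 0, nat_lit 0, nat_lit 0, nat_lit 0, nat_lit 0, nat_lit 0, nat_lit 1, nat_lit 2, nat_lit 0, nat_lit 0, nat_lit 0, nat_lit 0, nat_lit 0, nat_lit 0, nat_lit 0, nat_lit 0, nat_lit 4, nat_lit 3, nat_lit 0, nat_lit 0, nat_lit 0, nat_lit 0, nat_lit 0, nat_lit 0, nat_lit 0, nat_lit 0, nat_lit 0, nat_lit 3, nat_lit 0, nat_lit 0, nat_lit 0, nat_lit 0, nat_lit 0, nat_lit 0, nat_lit 0, nat_lit 0, nat_lit 0, nat_lit 0, nat_lit 0, nat_lit 0, nat_lit 0, nat_lit 0, nat_lit 0, nat_lit 0, nat_lit 0, nat_lit 2, nat_lit 0, nat_lit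 0, nat_lit 0, nat_lit 0, nat_lit 0, nat_lit 0, nat_lit 0, nat_lit 0, nat_lit 0, nat_lit 0, nat_lit 0, nat_lit 0, nat_lit 0, nat_lit 0, nat_lit 0, nat_lit 0, nat_lit 0, nat_lit 0, nat_lit 3, nat_lit 0, nat_lit 0, nat_lit 0, nat_lit 0, nat_lit 0, nat_lit 0, nat_lit 0, nat_lit 0, nat_lit 0, nat_lit 0, nat_lit 0, nat_lit 0, nat_lit 0, nat_lit 0, nat_lit 0, nat_lit 0, nat_lit 0, nat_lit 2, nat_lit 0, nat_lit 0, nat_lit 0, nat_lit 0, nat_lit 0, nat_lit 0, nat_lit 0, nat_lit 0, nat_lit 0, nat_lit 0, nat_lit 0, nat_lit 0, nat_lit 0, nat_lit 0, nat_lit 0, nat_lit 0, nat_lit 0, nat_lit 3, nat_lit 0, nat_lit 0, nat_lit 0, nat_lit 0, nat_lit 0, nat_lit 0, nat_lit 0, nat_lit 0, nat_lit 0, nat_lit 0, nat_lit 0, nat_lit 0, nat_lit 0, nat_lit 0, nat_lit 0, nat_lit 0, nat_lit 0, nat_lit 1, nat_lit 1, nat_lit 0, nat_lit 0, nat_lit 0, nat_lit 0, nat_lit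 0, nat_lit 0, nat_lit 0, nat_lit 0, nat_lit 1, nat_lit 1, nat_lit 0, nat_lit 0, nat_lit 0, nat_lit 0, nat_lit 0, nat_lit 0, nat_lit 0, nat_lit 0, nat_lit 0, nat_lit 0, nat_lit 0, nat_lit 0, nat_lit 0, nat_lit 0, nat_lit 0, nat_lit 0, nat_lit 0, nat_lit 0, nat_lit 2, nat_lit 1, nat_lit 0, nat_lit 0, nat_lit 0, nat_lit 0, nat_lit 0, nat_lit 0, nat_lit 0, nat_lit 0, nat_lit 0, nat_lit 0, nat_lit 0, nat_lit 0, nat_lit 0, nat_lit 0, nat_lit 0, nat_lit 0, nat_lit 0, nat_lit 3, nat_lit 0, nat_lit 0, nat_lit 0, nat_lit 0, nat_lit 0, nat_lit 0, nat_lit 0, nat_lit 0, nat_lit 0, nat_lit 0, nat_lit 0, nat_lit 0, nat_lit 0, nat_lit 0, nat_lit 0, nat_lit 0, nat_lit 0, nat_lit 1, nat_lit 2, nat_lit 4, nat_lit 0, nat_lit 0, nat_lit 0, nat_lit 0, nat_lit 0, nat_lit 0, nat_lit 0, nat_lit 0], nat_lit 145790⟩,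
  ⟨nat_lit 36864, [[nat_lit 2, nat_lit 0, nat_lit 1, nat_lit 2, nat_lit 3, nat_lit 5, nat_lit 7, nat_lit 7, nat_lit 9, nat_lit 9, nat_lit 6, nat_lit 8, nat_lit 9],
    [nat_lit 2, nat_lit 1, nat_lit 0, nat_lit 9, nat_lit 8, nat_lit 6, nat_lit 9, nat_lit 8],
    [nat_lit 2, nat_lit 3, nat_lit 2, nat_lit 1, nat_lit 3, nat_lit 8, nat_lit 7, nat_lit 7, nat_lit 5, nat_lit 6]],
    [nat_lit 0, nat_lit 0, nat_lit 0, nat_lit 0, nat_lit 0, nat_lit 0, nat_lit 1, nat_lit 0, nat_lit 0, nat_lit 0, nat_lit 0, nat_lit 0, nat_lit 0, nat_lit 1, nat_lit 0, nat_lit 0, nat_lit 0, nat_lit 0, nat_lit 0, nat_lit 0, nat_lit 1, nat_lit 0, nat_lit 0, nat_lit 0, nat_lit 0, nat_lit 0, nat_lit 0, nat_lit 1, nat_lit 0, nat_lit 0, nat_lit 0, nat_lit 0, nat_lit 0, nat_lit 0, nat_lit 2, nat_lit 0, nat_lit 0, nat_lit 0, nat_lit 0, nat_lit 0, nat_lit 0, nat_lit 2,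 nat_lit 0, nat_lit 0, nat_lit 0, nat_lit 0, nat_lit 0, nat_lit 0, nat_lit 1, nat_lit 0, nat_lit 0, nat_lit 0, nat_lit 0, nat_lit 0, nat_lit 0, nat_lit 0, nat_lit 1, nat_lit 0, nat_lit 0, nat_lit 0, nat_lit 0, nat_lit 0, nat_lit 0, nat_lit 0, nat_lit 1, nat_lit 0, nat_lit 0, nat_lit 0, nat_lit 0, nat_lit 0, nat_lit 0, nat_lit 2, nat_lit 0, nat_lit 0, nat_lit 0, nat_lit 0, nat_lit 0, nat_lit 0, nat_lit 0, nat_lit 0, nat_lit 1, nat_lit 0, nat_lit 0, nat_lit 0, nat_lit 0, nat_lit 0, nat_lit 0], nat_lit 498⟩,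
  ⟨nat_lit 69632, [[nat_lit 0, nat_lit 2, nat_lit 1, nat_lit 0, nat_lit 7, nat_lit 3, nat_lit 7, nat_lit 7, nat_lit 12, nat_lit 11, nat_lit 13, nat_lit 11, nat_lit 8],
    [nat_lit 2, nat_lit 2, nat_lit 1, nat_lit 4, nat_lit 7, nat_lit 3, nat_lit 4, nat_lit 6, nat_lit 13, nat_lit 10, nat_lit 8, nat_lit 10, nat_lit 13],
    [nat_lit 1, nat_lit 0, nat_lit 4, nat_lit 6, nat_lit 4, nat_lit 3, nat_lit 7, nat_lit 10, nat_lit 11, nat_lit 8, nat_lit 10, nat_lit 8, nat_lit 9, nat_lit 9]],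
    [nat_lit 0, nat_lit 0, nat_lit 0, nat_lit 0, nat_lit 1, nat_lit 0, nat_lit 0, nat_lit 0, nat_lit 0, nat_lit 2, nat_lit 0, nat_lit 0, nat_lit 0, nat_lit 0, nat_lit 1, nat_lit 0, nat_lit 0, nat_lit 0, nat_lit 0, nat_lit 1, nat_lit 0, nat_lit 0, nat_lit 0, nat_lit 0, nat_lit 0, nat_lit 1, nat_lit 0, nat_lit 0, nat_lit 0, nat_lit 0, nat_lit 1, nat_lit 0, nat_lit 0, nat_lit 0, nat_lit 0, nat_lit 0, nat_lit 1, nat_lit 0, nat_lit 0, nat_lit 0, nat_lit 0, nat_lit 1, nat_lit 0, nat_lit 0, nat_lit 0, nat_lit 0, nat_lit 2, nat_lit 0, nat_lit 0, nat_lit 0, nat_lit 0, nat_lit 1, nat_lit 0, nat_lit 0, nat_lit 0, nat_lit 0, nat_lit 2, nat_lit 0, nat_lit 0, nat_lit 0, nat_lit 0, nat_lit 1, nat_lit 0, nat_lit 0, nat_lit 0, nat_lit 0, nat_lit 1, nat_lit 1, nat_lit 1, nat_lit 0, nat_lit 0, nat_lit 0, nat_lit 0, nat_lit 2, nat_lit 0, nat_lit 0, nat_lit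 0, nat_lit 0, nat_lit 1, nat_lit 1, nat_lit 0, nat_lit 0, nat_lit 0, nat_lit 0], nat_lit 498⟩,
  ⟨nat_lit 135168, [[nat_lit 0, nat_lit 0, nat_lit 4, nat_lit 3, nat_lit 3, nat_lit 5, nat_lit 5, nat_lit 6, nat_lit 9, nat_lit 6, nat_lit 9, nat_lit 15, nat_lit 12, nat_lit 16, nat_lit 12, nat_lit 15, nat_lit 14],
    [nat_lit 1, nat_lit 2, nat_lit 3, nat_lit 4, nat_lit 5, nat_lit 3, nat_lit 7, nat_lit 10, nat_lit 10, nat_lit 10, nat_lit 12, nat_lit 15, nat_lit 11, nat_lit 14, nat_lit 15, nat_lit 14, nat_lit 12, nat_lit 15, nat_lit 11],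
    [nat_lit 0, nat_lit 1, nat_lit 0, nat_lit 4, nat_lit 3, nat_lit 4, nat_lit 5, nat_lit 6, nat_lit 10, nat_lit 14, nat_lit 15, nat_lit 15, nat_lit 15, nat_lit 12, nat_lit 11, nat_lit 14, nat_lit 11, nat_lit 14]],
    [nat_lit 0, nat_lit 0, nat_lit 0, nat_lit 0, nat_lit 0, nat_lit 1, nat_lit 0, nat_lit 0, nat_lit 0, nat_lit 0, nat_lit 0, nat_lit 2, nat_lit 0, nat_lit 0, nat_lit 0, nat_lit 0, nat_lit 0, nat_lit 1, nat_lit 0, nat_lit 0, nat_lit 0, nat_lit 0, nat_lit 0, nat_lit 0, nat_lit 1, nat_lit 0, nat_lit 0, nat_lit 0, nat_lit 0, nat_lit 0, nat_lit 0, nat_lit 2, nat_lit 0, nat_lit 1, nat_lit 0, nat_lit 0, nat_lit 0, nat_lit 0, nat_lit 0, nat_lit 2, nat_lit 0, nat_lit 1, nat_lit 0, nat_lit 0, nat_lit 0, nat_lit 0, nat_lit 0, nat_lit 0, nat_lit 1, nat_lit 0, nat_lit 0, nat_lit 0, nat_lit 0, nat_lit 0, nat_lit 2, nat_lit 0, nat_lit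 0, nat_lit 0, nat_lit 0, nat_lit 0, nat_lit 1, nat_lit 1, nat_lit 0, nat_lit 2, nat_lit 0, nat_lit 0, nat_lit 0, nat_lit 0, nat_lit 0], nat_lit 248⟩,
  ⟨nat_lit 266240, [[nat_lit 1, nat_lit 5, nat_lit 3, nat_lit 5, nat_lit 4, nat_lit 6, nat_lit 9, nat_lit 10, nat_lit 10, nat_lit 10, nat_lit 11, nat_lit 18, nat_lit 18, nat_lit 15, nat_lit 17, nat_lit 14],
    [nat_lit 2, nat_lit 1, nat_lit 1, nat_lit 4, nat_lit 4, nat_lit 5, nat_lit 4, nat_lit 8, nat_lit 6, nat_lit 10, nat_lit 11, nat_lit 13, nat_lit 13, nat_lit 14, nat_lit 19, nat_lit 18, nat_lit 15, nat_lit 14, nat_lit 16, nat_lit 17, nat_lit 14, nat_lit 15]],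
    [nat_lit 0, nat_lit 1, nat_lit 0, nat_lit 1, nat_lit 0, nat_lit 0, nat_lit 1, nat_lit 0, nat_lit 1, nat_lit 0, nat_lit 0, nat_lit 1, nat_lit 0], nat_lit 14⟩,
  ⟨nat_lit 528384, [[nat_lit 1, nat_lit 2, nat_lit 2, nat_lit 4, nat_lit 2, nat_lit 6, nat_lit 10, nat_lit 9, nat_lit 9, nat_lit 9, nat_lit 14, nat_lit 14, nat_lit 14, nat_lit 17, nat_lit 20, nat_lit 21, nat_lit 16, nat_lit 19, nat_lit 17, nat_lit 18, nat_lit 20, nat_lit 20],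
    [nat_lit 0, nat_lit 1, nat_lit 1, nat_lit 4, nat_lit 5, nat_lit 5, nat_lit 7, nat_lit 7, nat_lit 8, nat_lit 10, nat_lit 8, nat_lit 10, nat_lit 10, nat_lit 13, nat_lit 14, nat_lit 15, nat_lit 14, nat_lit 21, nat_lit 16, nat_lit 19, nat_lit 18, nat_lit 17, nat_lit 17]],
    [nat_lit 0, nat_lit 1, nat_lit 0], nat_lit 4⟩,
  ⟨nat_lit 1052672, [[nat_lit 0, nat_lit 1, nat_lit 4, nat_lit 6, nat_lit 6, nat_lit 7, nat_lit 10, nat_lit 11, nat_lit 14, nat_lit 15, nat_lit 16, nat_lit 17, nat_lit 17, nat_lit 22, nat_lit 20, nat_lit 19, nat_lit 18, nat_lit 19, nat_lit 22, nat_lit 18],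
    [nat_lit 2, nat_lit 3, nat_lit 4, nat_lit 4, nat_lit 5, nat_lit 7, nat_lit 10, nat_lit 10, nat_lit 10, nat_lit 13, nat_lit 13, nat_lit 14, nat_lit 13, nat_lit 15, nat_lit 15, nat_lit 23, nat_lit 19, nat_lit 22, nat_lit 19, nat_lit 21, nat_lit 20, nat_lit 23]],
    [nat_lit 0, nat_lit 1, nat_lit 0], nat_lit 4⟩,
  ⟨nat_lit 2101248, [[nat_lit 0, nat_lit 2, nat_lit 6, nat_lit 7, nat_lit 6, nat_lit 7, nat_lit 10, nat_lit 11, nat_lit 10, nat_lit 13, nat_lit 12, nat_lit 12, nat_lit 14, nat_lit 15, nat_lit 19, nat_lit 19, nat_lit 16, nat_lit 20, nat_lit 22, nat_lit 20, nat_lit 25, nat_lit 24, nat_lit 23],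
    [nat_lit 1, nat_lit 2, nat_lit 3, nat_lit 5, nat_lit 4, nat_lit 5, nat_lit 6, nat_lit 6, nat_lit 10, nat_lit 10, nat_lit 9, nat_lit 9, nat_lit 14, nat_lit 12, nat_lit 15, nat_lit 15, nat_lit 15, nat_lit 15, nat_lit 16, nat_lit 23, nat_lit 21, nat_lit 21, nat_lit 24, nat_lit 21, nat_lit 20, nat_lit 25, nat_lit 21]],
    [nat_lit 0, nat_lit 1, nat_lit 0], nat_lit 4⟩,
  ⟨nat_lit 4198400, [[nat_lit 1, nat_lit 2, nat_lit 3, nat_lit 7, nat_lit 7, nat_lit 6, nat_lit 7, nat_lit 8, nat_lit 9, nat_lit 8, nat_lit 10, nat_lit 12, nat_lit 13, nat_lit 12, nat_lit 12, nat_lit 15, nat_lit 14, nat_lit 21, nat_lit 18, nat_lit 20, nat_lit 18, nat_lit 26, nat_lit 22, nat_lit 26, nat_lit 22, nat_lit 23, nat_lit 23],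
    [nat_lit 1, nat_lit 2, nat_lit 3, nat_lit 4, nat_lit 5, nat_lit 7, nat_lit 7, nat_lit 9, nat_lit 9, nat_lit 10, nat_lit 8, nat_lit 12, nat_lit 12, nat_lit 12, nat_lit 13, nat_lit 15, nat_lit 15, nat_lit 19, nat_lit 18, nat_lit 18, nat_lit 18, nat_lit 17, nat_lit 22, nat_lit 27, nat_lit 26, nat_lit 27, nat_lit 24, nat_lit 26]],
    [nat_lit 0, nat_lit 1, nat_lit 0], nat_lit 4⟩,
  ⟨nat_lit 8392704, [[nat_lit 0, nat_lit 3, nat_lit 5, nat_lit 6, nat_lit 7, nat_lit 11, nat_lit 12, nat_lit 13, nat_lit 14, nat_lit 13, nat_lit 17, nat_lit 16, nat_lit 16, nat_lit 21, nat_lit 20, nat_lit 22, nat_lit 20, nat_lit 19, nat_lit 28, nat_lit 27, nat_lit 24, nat_lit 27, nat_lit 25, nat_lit 24, nat_lit 28],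
    [nat_lit 1, nat_lit 2, nat_lit 7, nat_lit 10, nat_lit 10, nat_lit 10, nat_lit 13, nat_lit 15, nat_lit 14, nat_lit 14, nat_lit 18, nat_lit 16, nat_lit 18, nat_lit 19, nat_lit 21, nat_lit 23, nat_lit 19, nat_lit 20, nat_lit 29, nat_lit 29, nat_lit 26, nat_lit 27, nat_lit 24]],
    [nat_lit 0, nat_lit 1, nat_lit 0], nat_lit 4⟩,
  ⟨nat_lit 1, [[nat_lit 3, nat_lit 4, nat_lit 5, nat_lit 9, nat_lit 13, nat_lit 12, nat_lit 14, nat_lit 15, nat_lit 19, nat_lit 18, nat_lit 18, nat_lit 20, nat_lit 21, nat_lit 25, nat_lit 23, nat_lit 21, nat_lit 21, nat_lit 25, nat_lit 29, nat_lit 31, nat_lit 28, nat_lit 27, nat_lit 27, nat_lit 27, nat_lit 29]],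
    [nat_lit 0], nat_lit 2⟩,
  ⟨nat_lit 2, [[nat_lit 0, nat_lit 5, nat_lit 11, nat_lit 13, nat_lit 15, nat_lit 14, nat_lit 16, nat_lit 16, nat_lit 17, nat_lit 20, nat_lit 19, nat_lit 20, nat_lit 20, nat_lit 21, nat_lit 24, nat_lit 24, nat_lit 24, nat_lit 23, nat_lit 23, nat_lit 30, nat_lit 29, nat_lit 32, nat_lit 30, nat_lit 27, nat_lit 31]],
    [nat_lit 0], nat_lit 2⟩,
  ⟨nat_lit 4, [[nat_lit 0, nat_lit 1, nat_lit 8, nat_lit 10, nat_lit 13, nat_lit 12, nat_lit 15, nat_lit 14, nat_lit 15, nat_lit 17, nat_lit 17, nat_lit 20, nat_lit 22, nat_lit 21, nat_lit 21, nat_lit 23, nat_lit 27, nat_lit 25, nat_lit 25, nat_lit 30, nat_lit 30, nat_lit 29, nat_lit 29, nat_lit 30]],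
    [nat_lit 0], nat_lit 2⟩,
  ⟨nat_lit 8, [[nat_lit 0, nat_lit 5, nat_lit 7, nat_lit 8, nat_lit 9, nat_lit 14, nat_lit 13, nat_lit 14, nat_lit 15, nat_lit 16, nat_lit 17, nat_lit 17, nat_lit 20, nat_lit 18, nat_lit 22, nat_lit 22, nat_lit 23, nat_lit 22, nat_lit 27, nat_lit 26, nat_lit 25, nat_lit 27, nat_lit 29, nat_lit 31, nat_lit 32, nat_lit 34, nat_lit 29]],
    [nat_lit 0], nat_lit 2⟩,
  ⟨nat_lit 16, [[nat_lit 1, nat_lit 7, nat_lit 8, nat_lit 9, nat_lit 10, nat_lit 15, nat_lit 17, nat_lit 19, nat_lit 21, nat_lit 20, nat_lit 20, nat_lit 23, nat_lit 22, nat_lit 23, nat_lit 24, nat_lit 26, nat_lit 27, nat_lit 25, nat_lit 27, nat_lit 35, nat_lit 33, nat_lit 35, nat_lit 34, nat_lit 31, nat_lit 30, nat_lit 32, nat_lit 35]],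
    [nat_lit 0], nat_lit 2⟩,
  ⟨nat_lit 32, [[nat_lit 2, nat_lit 4, nat_lit 7, nat_lit 12, nat_lit 13, nat_lit 14, nat_lit 15, nat_lit 18, nat_lit 17, nat_lit 18, nat_lit 19, nat_lit 20, nat_lit 20, nat_lit 21, nat_lit 23, nat_lit 23, nat_lit 23, nat_lit 26, nat_lit 29, nat_lit 28, nat_lit 28, nat_lit 33, nat_lit 31, nat_lit 31, nat_lit 32, nat_lit 32, nat_lit 34, nat_lit 36]],
    [nat_lit 0], nat_lit 2⟩,
  ⟨nat_lit 64, [[nat_lit 3, nat_lit 7, nat_lit 9, nat_lit 13, nat_lit 15, nat_lit 16, nat_lit 17, nat_lit 19, nat_lit 20, nat_lit 21, nat_lit 22, nat_lit 21, nat_lit 21, nat_lit 24, nat_lit 24, nat_lit 25, nat_lit 28, nat_lit 28, nat_lit 30, nat_lit 29, nat_lit 36, nat_lit 34, nat_lit 32, nat_lit 37, nat_lit 34, nat_lit 33, nat_lit 35]],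
    [nat_lit 0], nat_lit 2⟩,
  ⟨nat_lit 128, [[nat_lit 0, nat_lit 2, nat_lit 3, nat_lit 4, nat_lit 8, nat_lit 10, nat_lit 11, nat_lit 12, nat_lit 13, nat_lit 18, nat_lit 20, nat_lit 20, nat_lit 21, nat_lit 22, nat_lit 24, nat_lit 23, nat_lit 25, nat_lit 26, nat_lit 27, nat_lit 31, nat_lit 28, nat_lit 31, nat_lit 32, nat_lit 34, nat_lit 37, nat_lit 36, nat_lit 37, nat_lit 33, nat_lit 33, nat_lit 35]],
    [nat_lit 0], nat_lit 2⟩,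
  ⟨nat_lit 256, [[nat_lit 0, nat_lit 1, nat_lit 2, nat_lit 5, nat_lit 8, nat_lit 9, nat_lit 10, nat_lit 13, nat_lit 15, nat_lit 16, nat_lit 17, nat_lit 19, nat_lit 19, nat_lit 18, nat_lit 20, nat_lit 22, nat_lit 21, nat_lit 21, nat_lit 24, nat_lit 25, nat_lit 24, nat_lit 24, nat_lit 26, nat_lit 28, nat_lit 27, nat_lit 26, nat_lit 39, nat_lit 39, nat_lit 39, nat_lit 39, nat_lit 36]],
    [nat_lit 0], nat_lit 2⟩,
  ⟨nat_lit 512, [[nat_lit 5, nat_lit 6, nat_lit 7, nat_lit 11, nat_lit 12, nat_lit 13, nat_lit 14, nat_lit 20, nat_lit 24, nat_lit 26, nat_lit 25, nat_lit 26, nat_lit 29, nat_lit 28, nat_lit 28, nat_lit 31, nat_lit 30, nat_lit 32, nat_lit 32, nat_lit 36, nat_lit 40, nat_lit 35, nat_lit 37, nat_lit 39, nat_lit 37, nat_lit 40, nat_lit 36]],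
    [nat_lit 0], nat_lit 2⟩,
  ⟨nat_lit 1024, [[nat_lit 2, nat_lit 5, nat_lit 8, nat_lit 15, nat_lit 16, nat_lit 18, nat_lit 20, nat_lit 21, nat_lit 21, nat_lit 24, nat_lit 24, nat_lit 25, nat_lit 27, nat_lit 25, nat_lit 29, nat_lit 28, nat_lit 28, nat_lit 35, nat_lit 34, nat_lit 33, nat_lit 40, nat_lit 38, nat_lit 41, nat_lit 37, nat_lit 40, nat_lit 41, nat_lit 37, nat_lit 38]],
    [nat_lit 0], nat_lit 2⟩,
  ⟨nat_lit 2048, [[nat_lit 0, nat_lit 1, nat_lit 2, nat_lit 5, nat_lit 8, nat_lit 12, nat_lit 16, nat_lit 18, nat_lit 24, nat_lit 24, nat_lit 23, nat_lit 25, nat_lit 26, nat_lit 26, nat_lit 30, nat_lit 31, nat_lit 31, nat_lit 30, nat_lit 36, nat_lit 32, nat_lit 34, nat_lit 34, nat_lit 40, nat_lit 37, nat_lit 40, nat_lit 37, nat_lit 37, nat_lit 38]],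
    [nat_lit 0], nat_lit 2⟩]


theorem chainPB_ok : Nat.beq (chainE [ytA, ytB, yb1, ya, yb2, yc2, yd2, yb3, yc3, yd3, yu]
    [12288, 20480] chainPB) 38574303876218880 = true := by decide +kernel

theorem genPB : GenPB := fun K hk hx hA hB hg => by
  refine PB_le (gens := [ytA, ytB, yb1, ya, yb2, yc2, yd2, yb3, yc3, yd3, yu]) ?_ chainPB_ok hk hx ?_
  · intro e he
    simp only [List.mem_cons, List.not_mem_nil, or_false] at he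
    rcases he with rfl | rfl | rfl | rfl | rfl | rfl | rfl | rfl | rfl | rfl | rfl
    exacts [okT 2, okT 3, okT 5, okT 6, okT 7, okT 8, okT 9, okT 10, okT 11, okT 12, okT 14]
  · intro e he
    rcases List.mem_cons.1 he with rfl | he
    · exact ytA_val ▸ hA
    rcases List.mem_cons.1 he with rfl | he
    · exact ytB_val ▸ hB
    exact hg e he

end CF.Mon.Tr
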