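import Cfsg.Agent.Mon.Elem

/-! Node data of a double coset enumeration. -/

set_option autoImplicit false
set_option maxRecDepth 100000

namespace CF.Mon

open CF.Comp

noncomputable section

def ndBg0_0 : El := ⟨[nat_lit 0xe4bbd73b03445a776ae4e14009a8ccf2a891, nat_lit 0xf5a65f412c00b6634ba2bbd64c7c0c5508f4, nat_lit 0xfc3a6fa10cb988ec75da9400752be4185a2a, nat_lit 0x6f5905119d0ac64a224f62826ca0c2bbbd0d], [nat_lit 81920, nat_lit 86016, nat_lit 94208, nat_lit 98304, nat_lit 102400, nat_lit 110592, nat_lit 169984, nat_lit 164864, nat_lit 159872, nat_lit 158272, nat_lit 153344, nat_lit 148048, nat_lit 147032, nat_lit 142656, nat_lit 138788, nat_lit 134432, nat_lit 1902, nat_lit 4100, nat_lit 10088, nat_lit 14720, nat_lit 17536, nat_lit 22208, nat_lit 26368, nat_lit 34816, nat_lit 39936, nat_lit 43008, nat_lit 46957, nat_lit 41279, nat_lit 36994, nat_lit 32977, nat_lit 29054, nat_lit 24854, nat_lit 16651, nat_lit 12293, nat_lit 8195, nat_lit 4100, nat_lit 2, nat_lit 438282, nat_lit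 430088, nat_lit 421894, nat_lit 413700, nat_lit 405504, nat_lit 168960, nat_lit 167424, nat_lit 161280, nat_lit 156544, nat_lit 152768, nat_lit 148736, nat_lit 144064, nat_lit 132456, nat_lit 8193, nat_lit 4097, nat_lit 327680]⟩
def ndBg0_1 : El := ⟨[nat_lit 0x4b8de83da6ba28b21b58f4de26442a4009c1, nat_lit 0xe2b17421e54054331a8ce659f05a237488ad, nat_lit 0x5696a50807222dd73d94cabd0580a33325b4, nat_lit 0x5050ac54112609e07046d2d0955ce29b9ac7], [nat_lit 65536, nat_lit 69632, nat_lit 73728, nat_lit 77824, nat_lit 86016, nat_lit 102400, nat_lit 106496, nat_lit 175104, nat_lit 168960, nat_lit 167680, nat_lit 159872, nat_lit 158400, nat_lit 152896, nat_lit 147520, nat_lit 143816, nat_lit 141660, nat_lit 136594, nat_lit 134605, nat_lit 2176, nat_lit 6272, nat_lit 10368, nat_lit 13632, nat_lit 17632, nat_lit 22656, nat_lit 24704, nat_lit 33280, nat_lit 46235, nat_lit 41681, nat_lit 38015, nat_lit 32962, nat_lit 29016, nat_lit 24856, nat_lit 21019, nat_lit 16395, nat_lit 12309, nat_lit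 8193, nat_lit 4097, nat_lit 438282, nat_lit 430088, nat_lit 421894, nat_lit 413700, nat_lit 405504, nat_lit 174080, nat_lit 168960, nat_lit 165376, nat_lit 161280, nat_lit 158720, nat_lit 154944, nat_lit 151232, nat_lit 145008, nat_lit 132784, nat_lit 8193, nat_lit 4097]⟩
def ndBg0_2 : El := ⟨[nat_lit 0x22121b42563b926c7169202841b40cd3be35, nat_lit 0xa9695a03a96219812cd15bc9277c2225a86d, nat_lit 0x21278435d73b262763c2e820b410c0d95544, nat_lit 0xaaf6fc00ace59e619190383e91aa989b90ad], [nat_lit 77824, nat_lit 81920, nat_lit 86016, nat_lit 98304, nat_lit 102400, nat_lit 173056, nat_lit 170496, nat_lit 166144, nat_lit 162432, nat_lit 159616, nat_lit 154016, nat_lit 150464, nat_lit 147296, nat_lit 139964, nat_lit 138810, nat_lit 132467, nat_lit 2086, nat_lit 4100, nat_lit 10272, nat_lit 15456, nat_lit 18336, nat_lit 23552, nat_lit 27904, nat_lit 32512, nat_lit 35328, nat_lit 38912, nat_lit 43008, nat_lit 45886, nat_lit 41837, nat_lit 37199, nat_lit 33012, nat_lit 28695, nat_lit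 24589, nat_lit 20499, nat_lit 16396, nat_lit 12306, nat_lit 8195, nat_lit 4100, nat_lit 2, nat_lit 438282, nat_lit 430088, nat_lit 421894, nat_lit 413700, nat_lit 405504, nat_lit 174080, nat_lit 168960, nat_lit 166400, nat_lit 163584, nat_lit 158720, nat_lit 153024, nat_lit 149664, nat_lit 146720, nat_lit 132024, nat_lit 8193, nat_lit 4097]⟩
def ndBg0_3 : El := ⟨[nat_lit 0xe18be488eea232120b4a0126b33d1f63216e, nat_lit 0x481dbe35169236ee91e154458153c7328056, nat_lit 0xbb27de1d84b399552020ca22337ddc9915a1, nat_lit 0x128d21626c5141ed99c04a564171ae81c56a], [nat_lit 81920, nat_lit 86016, nat_lit 102400, nat_lit 110592, nat_lit 166912, nat_lit 160384, nat_lit 159424, nat_lit 155392, nat_lit 147520, nat_lit 145208, nat_lit 141992, nat_lit 138844, nat_lit 132049, nat_lit 3184, nat_lit 7280, nat_lit 11376, nat_lit 15680, nat_lit 18880, nat_lit 20672, nat_lit 24832, nat_lit 29440, nat_lit 35840, nat_lit 39936, nat_lit 43008, nat_lit 45951, nat_lit 41466, nat_lit 36954, nat_lit 32954,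 nat_lit 29002, nat_lit 24752, nat_lit 20502, nat_lit 16396, nat_lit 12294, nat_lit 8193, nat_lit 4097, nat_lit 438282, nat_lit 430088, nat_lit 421894, nat_lit 413700, nat_lit 405504, nat_lit 165376, nat_lit 161024, nat_lit 157056, nat_lit 153792, nat_lit 148192, nat_lit 144016, nat_lit 132024, nat_lit 8193, nat_lit 4097, nat_lit 327680]⟩
def ndBg0_4 : El := ⟨[nat_lit 0x96f99f00828a3e6695da74ac6a23a152b2d1, nat_lit 0xc6fa684a331882021cc56bdcc4292bbd6d4], [nat_lit 77824, nat_lit 81920, nat_lit 86016, nat_lit 90112, nat_lit 98304, nat_lit 171520, nat_lit 165376, nat_lit 162176, nat_lit 156608, nat_lit 153312, nat_lit 148512, nat_lit 145984, nat_lit 142888, nat_lit 135374, nat_lit 132489, nat_lit 2064, nat_lit 6160, nat_lit 10256, nat_lit 14000, nat_lit 18688, nat_lit 23680, nat_lit 27392, nat_lit 32000, nat_lit 33280, nat_lit 45079, nat_lit 41788, nat_lit 38076, nat_lit 32988, nat_lit 28777, nat_lit 24752, nat_lit 20617, nat_lit 16394, nat_lit 12307, nat_lit 8193, nat_lit 4097,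 nat_lit 425989, nat_lit 409600, nat_lit 151808, nat_lit 147744, nat_lit 131088, nat_lit 40976, nat_lit 28688, nat_lit 12289, nat_lit 8193, nat_lit 4097, nat_lit 327680]⟩
def ndBr0_0 : El := ⟨[], []⟩
def ndBr0_1 : El := ⟨[nat_lit 0x118b142b001a9dd71d26b8488d8d902325ea, nat_lit 0xebdd4b955265310368af63c174038859c5e1, nat_lit 0x539acc14e400c223bb9f551cc92ad04a59ac], [nat_lit 81920, nat_lit 86016, nat_lit 94208, nat_lit 162304, nat_lit 157696, nat_lit 155104, nat_lit 150928, nat_lit 143960, nat_lit 139508, nat_lit 135822, nat_lit 133842, nat_lit 2906, nat_lit 6636, nat_lit 11016, nat_lit 12624, nat_lit 19552, nat_lit 22080, nat_lit 27648, nat_lit 29184, nat_lit 38912, nat_lit 43008, nat_lit 46462, nat_lit 41127, nat_lit 37132, nat_lit 33413, nat_lit 28930, nat_lit 26627, nat_lit 20564, nat_lit 16449, nat_lit 12289, nat_lit 8209, nat_lit 4224, nat_lit 434184, nat_lit 417797, nat_lit 409603, nat_lit 401408, nat_lit 156928, nat_lit 151616, nat_lit 147488, nat_lit 144704, nat_lit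 139320, nat_lit 131076, nat_lit 46133, nat_lit 36972, nat_lit 28729, nat_lit 4097, nat_lit 327680]⟩
def ndBr0_2 : El := ⟨[nat_lit 0xd1287bb3ea75dc328b4d02b10a4ce8270c04, nat_lit 0x59cc9c94e0069aa861eeba152f5389688c22, nat_lit 0xbeb224716e40c1469d1927d56838d31136c0], [nat_lit 65536, nat_lit 69632, nat_lit 81920, nat_lit 98304, nat_lit 102400, nat_lit 178176, nat_lit 175104, nat_lit 165120, nat_lit 162560, nat_lit 158912, nat_lit 151648, nat_lit 151376, nat_lit 146912, nat_lit 143128, nat_lit 138928, nat_lit 134770, nat_lit 960, nat_lit 5056, nat_lit 10336, nat_lit 12512, nat_lit 19392, nat_lit 23040, nat_lit 26752, nat_lit 34816, nat_lit 39936, nat_lit 46380, nat_lit 41593, nat_lit 37998, nat_lit 32825, nat_lit 28723, nat_lit 24607, nat_lit 20488, nat_lit 16397, nat_lit 12308, nat_lit 8209, nat_lit 4097, nat_lit 2, nat_lit 421894, nat_lit 413700, nat_lit 401408, nat_lit 155776, nat_lit 151616, nat_lit 147552, nat_lit 139472, nat_lit 131284, nat_lit 45220, nat_lit 41125, nat_lit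 37088, nat_lit 32852, nat_lit 12289, nat_lit 4097]⟩
def ndBg1_0 : El := ⟨[nat_lit 0xf99635c5f6acdca39482a49a9822ec19820], [nat_lit 65536, nat_lit 69632, nat_lit 73728, nat_lit 102400, nat_lit 170496, nat_lit 166144, nat_lit 161536, nat_lit 158208, nat_lit 151872, nat_lit 151344, nat_lit 145256, nat_lit 141576, nat_lit 136552, nat_lit 132016, nat_lit 2, nat_lit 4684, nat_lit 11848, nat_lit 13312, nat_lit 18272, nat_lit 21888, nat_lit 27008, nat_lit 36352, nat_lit 37888, nat_lit 41733, nat_lit 37017, nat_lit 32911, nat_lit 28766, nat_lit 24628, nat_lit 20558, nat_lit 16391, nat_lit 12293, nat_lit 8193, nat_lit 4097, nat_lit 2]⟩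
def ndBg1_1 : El := ⟨[nat_lit 0x5f39c07ba95b5dac24e063c645129034ac20], [nat_lit 65536, nat_lit 69632, nat_lit 73728, nat_lit 86016, nat_lit 90112, nat_lit 94208, nat_lit 102400, nat_lit 173056, nat_lit 170496, nat_lit 167168, nat_lit 161152, nat_lit 158656, nat_lit 154240, nat_lit 149536, nat_lit 145376, nat_lit 143064, nat_lit 138894, nat_lit 132148, nat_lit 2, nat_lit 4104, nat_lit 12200, nat_lit 14944, nat_lit 18848, nat_lit 23424, nat_lit 25600, nat_lit 29696, nat_lit 35840, nat_lit 43008, nat_lit 41158, nat_lit 36952, nat_lit 32887, nat_lit 28791, nat_lit 24734, nat_lit 20575, nat_lit 16399, nat_lit 12310, nat_lit 8193, nat_lit 4112, nat_lit 2, nat_lit 327680]⟩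
def ndBg1_2 : El := ⟨[nat_lit 0x7ee1444dd8d291553cc4e30e2f951105d820], [nat_lit 73728, nat_lit 86016, nat_lit 90112, nat_lit 94208, nat_lit 98304, nat_lit 102400, nat_lit 106496, nat_lit 174080, nat_lit 171008, nat_lit 165632, nat_lit 161920, nat_lit 157824, nat_lit 153824, nat_lit 149072, nat_lit 145976, nat_lit 139876, nat_lit 138856, nat_lit 132880, nat_lit 2064, nat_lit 6160, nat_lit 9040, nat_lit 13264, nat_lit 18496, nat_lit 22848, nat_lit 28544, nat_lit 32256, nat_lit 33792, nat_lit 41264, nat_lit 37123, nat_lit 33387, nat_lit 28752, nat_lit 24627, nat_lit 20493, nat_lit 12290, nat_lit 8224, nat_lit 327680]⟩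
def ndBg1_3 : El := ⟨[nat_lit 0x1241745c5177d990688a93d2445186e9d420], [nat_lit 65536, nat_lit 69632, nat_lit 77824, nat_lit 81920, nat_lit 90112, nat_lit 94208, nat_lit 173056, nat_lit 168960, nat_lit 166912, nat_lit 160768, nat_lit 159040, nat_lit 155488, nat_lit 151056, nat_lit 146712, nat_lit 140972, nat_lit 139142, nat_lit 132837, nat_lit 2, nat_lit 7904, nat_lit 11432, nat_lit 12976, nat_lit 19200, nat_lit 21056, nat_lit 27776, nat_lit 29440, nat_lit 39936, nat_lit 43008, nat_lit 41899, nat_lit 37942, nat_lit 33318, nat_lit 28755, nat_lit 24619, nat_lit 20484, nat_lit 16516, nat_lit 12294, nat_lit 8200, nat_lit 4101, nat_lit 2]⟩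
def ndBg1_4 : El := ⟨[nat_lit 0x2e278b1197538ecaa3e3772133810ad64820], [nat_lit 81920, nat_lit 94208, nat_lit 102400, nat_lit 106496, nat_lit 178176, nat_lit 169984, nat_lit 165632, nat_lit 162560, nat_lit 157632, nat_lit 154400, nat_lit 147728, nat_lit 146272, nat_lit 141804, nat_lit 137402, nat_lit 133355, nat_lit 8, nat_lit 4104, nat_lit 10544, nat_lit 14336, nat_lit 18624, nat_lit 22208, nat_lit 28544, nat_lit 35840, nat_lit 39936, nat_lit 41816, nat_lit 38369, nat_lit 33967, nat_lit 28680, nat_lit 24603, nat_lit 20491, nat_lit 16397, nat_lit 12294, nat_lit 8202, nat_lit 327680]⟩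
def ndBr1_0 : El := ⟨[], [nat_lit 110592]⟩
def ndBr1_1 : El := ⟨[], []⟩
def ndBr1_2 : El := ⟨[nat_lit 0xfff0f4d0c3abad18308540ae752df393401, nat_lit 0x3c99ff9cae5a9d097508c09ac0509b078e2b, nat_lit 0xc0c5fc8a5d6bb5500b1e71d2a6988b201168], [nat_lit 81920, nat_lit 86016, nat_lit 94208, nat_lit 162304, nat_lit 157696, nat_lit 155104, nat_lit 150928, nat_lit 143960, nat_lit 139508, nat_lit 135822, nat_lit 133842, nat_lit 2906, nat_lit 6636, nat_lit 11016, nat_lit 12624, nat_lit 19552, nat_lit 22080, nat_lit 27648, nat_lit 29184, nat_lit 38912, nat_lit 43008, nat_lit 46462, nat_lit 41127, nat_lit 37132, nat_lit 33413, nat_lit 28930, nat_lit 26627, nat_lit 20564, nat_lit 16449, nat_lit 12289, nat_lit 8209, nat_lit 4224, nat_lit 434184, nat_lit 417797, nat_lit 409603, nat_lit 401408, nat_lit 156928, nat_lit 151616, nat_lit 147488, nat_lit 144704, nat_lit 139320, nat_lit 131076, nat_lit 46133, nat_lit 36972, nat_lit 28729, nat_lit 4097, nat_lit 327680]⟩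
def ndBr1_3 : El := ⟨[nat_lit 0xac9acc3222a641a59d687b25e20c880b8dcb, nat_lit 0xdb184792194b29d1208239bd756de09014e6, nat_lit 0x59665a398056de09a31125be7553ad111023], [nat_lit 65536, nat_lit 69632, nat_lit 81920, nat_lit 98304, nat_lit 102400, nat_lit 178176, nat_lit 175104, nat_lit 165120, nat_lit 162560, nat_lit 158912, nat_lit 151648, nat_lit 151376, nat_lit 146912, nat_lit 143128, nat_lit 138928, nat_lit 134770, nat_lit 960, nat_lit 5056, nat_lit 10336, nat_lit 12512, nat_lit 19392, nat_lit 23040, nat_lit 26752, nat_lit 34816, nat_lit 39936, nat_lit 46380, nat_lit 41593, nat_lit 37998, nat_lit 32825, nat_lit 28723, nat_lit 24607, nat_lit 20488, nat_lit 16397, nat_lit 12308, nat_lit 8209, nat_lit 4097, nat_lit 2, nat_lit 421894, nat_lit 413700, nat_lit 401408, nat_lit 155776, nat_lit 151616, nat_lit 147552, nat_lit 139472, nat_lit 131284, nat_lit 45220, nat_lit 41125, nat_lit 37088, nat_lit 32852, nat_lit 12289, nat_lit 4097]⟩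
def ndBr1_4 : El := ⟨[nat_lit 0x4784dd120eb626d2a968153ef368dc401a11, nat_lit 0x95aa6c0dca359aa9545a081e92231f6409d3, nat_lit 0xa0af5c052e609d6a65669240526c5167946e, nat_lit 0xf9a06544a0f206f369cab755365098089874], [nat_lit 73728, nat_lit 81920, nat_lit 86016, nat_lit 98304, nat_lit 102400, nat_lit 106496, nat_lit 110592, nat_lit 173056, nat_lit 169984, nat_lit 165888, nat_lit 161792, nat_lit 156352, nat_lit 154048, nat_lit 147904, nat_lit 143784, nat_lit 143228, nat_lit 138588, nat_lit 131870, nat_lit 2696, nat_lit 6792, nat_lit 11040, nat_lit 12352, nat_lit 16736, nat_lit 21504, nat_lit 25600, nat_lit 31744, nat_lit 35840, nat_lit 39936, nat_lit 45925, nat_lit 41151, nat_lit 37001, nat_lit 32817, nat_lit 28762, nat_lit 24624, nat_lit 20548, nat_lit 16386, nat_lit 12417, nat_lit 4097, nat_lit 2, nat_lit 438282, nat_lit 425991, nat_lit 417797, nat_lit 409603, nat_lit 401408, nat_lit 165888, nat_lit 163072, nat_lit 155776, nat_lit 153856, nat_lit 148512, nat_lit 143472, nat_lit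 141728, nat_lit 132576, nat_lit 36865, nat_lit 4097, nat_lit 327680]⟩
def ndBr1_5 : El := ⟨[nat_lit 0x12b184010274b94d94e95194c2bda307b168, nat_lit 0xfca3fc4d2211146f3310b502d3941c469ef5], [nat_lit 65536, nat_lit 69632, nat_lit 73728, nat_lit 77824, nat_lit 81920, nat_lit 90112, nat_lit 94208, nat_lit 98304, nat_lit 102400, nat_lit 178176, nat_lit 175104, nat_lit 168448, nat_lit 164096, nat_lit 160384, nat_lit 155840, nat_lit 153056, nat_lit 149904, nat_lit 145104, nat_lit 140816, nat_lit 137432, nat_lit 132119, nat_lit 1068, nat_lit 5164, nat_lit 12016, nat_lit 14912, nat_lit 16960, nat_lit 22784, nat_lit 25088, nat_lit 31744, nat_lit 34304, nat_lit 37888, nat_lit 45948, nat_lit 41835, nat_lit 38201, nat_lit 32798, nat_lit 28703, nat_lit 24604, nat_lit 21515, nat_lit 16460, nat_lit 8257, nat_lit 4097, nat_lit 2, nat_lit 425989, nat_lit 405504, nat_lit 143616, nat_lit 131368, nat_lit 41216, nat_lit 36896, nat_lit 28680, nat_lit 24584, nat_lit 4097, nat_lit 327680]⟩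
def ndBr1_6 : El := ⟨[nat_lit 0x8bde77bd571939897d0c244c012586d3c0aa, nat_lit 0xb8e24e22076a3af0644c72d5220066d93d4b], [nat_lit 73728, nat_lit 81920, nat_lit 94208, nat_lit 102400, nat_lit 174080, nat_lit 165632, nat_lit 160896, nat_lit 156160, nat_lit 155584, nat_lit 148384, nat_lit 143976, nat_lit 139616, nat_lit 137226, nat_lit 133889, nat_lit 310, nat_lit 6152, nat_lit 9216, nat_lit 15216, nat_lit 18688, nat_lit 24320, nat_lit 27520, nat_lit 30464, nat_lit 33792, nat_lit 37888, nat_lit 46652, nat_lit 41340, nat_lit 37202, nat_lit 32930, nat_lit 28680, nat_lit 25124, nat_lit 20481, nat_lit 16454, nat_lit 12420, nat_lit 4161, nat_lit 425989, nat_lit 405504, nat_lit 143616, nat_lit 131368, nat_lit 41216, nat_lit 36896, nat_lit 28680, nat_lit 24584, nat_lit 4097]⟩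
def ndBg2_0 : El := ⟨[nat_lit 0x30f6a64dcb459dec6da6332a51020241560e, nat_lit 0x556060bbd014d44c1b5749c8903162753ac0, nat_lit 0xb24b1e845cd63e535d6884deca30064088a7], [nat_lit 65536, nat_lit 69632, nat_lit 73728, nat_lit 81920, nat_lit 86016, nat_lit 90112, nat_lit 98304, nat_lit 173056, nat_lit 169472, nat_lit 165376, nat_lit 162944, nat_lit 158400, nat_lit 152000, nat_lit 147648, nat_lit 145608, nat_lit 139968, nat_lit 138692, nat_lit 132042, nat_lit 3572, nat_lit 7668, nat_lit 11688, nat_lit 14496, nat_lit 20416, nat_lit 23680, nat_lit 25088, nat_lit 39936, nat_lit 46781, nat_lit 43219, nat_lit 37121, nat_lit 32887, nat_lit 28773, nat_lit 24739, nat_lit 20483, nat_lit 16650, nat_lit 8211, nat_lit 4097, nat_lit 2, nat_lit 421894, nat_lit 409603, nat_lit 401408, nat_lit 143440, nat_lit 139352, nat_lit 131276, nat_lit 45073, nat_lit 41117, nat_lit 37064, nat_lit 32784, nat_lit 20492, nat_lit 4097, nat_lit 327680]⟩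
def ndBg2_1 : El := ⟨[nat_lit 0x1be1e121de06202bbaa456c053b55c389934, nat_lit 0xe742e213504b42510bcaa618099d2f570d67, nat_lit 0x590f390d6f618a80225d393d678a986434b0], [nat_lit 73728, nat_lit 77824, nat_lit 86016, nat_lit 90112, nat_lit 94208, nat_lit 110592, nat_lit 178176, nat_lit 171520, nat_lit 164352, nat_lit 163200, nat_lit 158848, nat_lit 152256, nat_lit 149936, nat_lit 144136, nat_lit 139536, nat_lit 138364, nat_lit 133014, nat_lit 1450, nat_lit 5716, nat_lit 9856, nat_lit 12928, nat_lit 20064, nat_lit 22272, nat_lit 26496, nat_lit 29952, nat_lit 46918, nat_lit 43423, nat_lit 38166, nat_lit 32990, nat_lit 28958, nat_lit 24633, nat_lit 20491, nat_lit 12292, nat_lit 8200, nat_lit 4128, nat_lit 2, nat_lit 421894, nat_lit 409603, nat_lit 401408, nat_lit 155776, nat_lit 147584, nat_lit 143504, nat_lit 139288, nat_lit 131164, nat_lit 45073, nat_lit 41100, nat_lit 37081, nat_lit 32769, nat_lit 20509, nat_lit 4097, nat_lit 327680]⟩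
def ndBg2_2 : El := ⟨[nat_lit 0x9f30693520d2bad27ad80a8eea21c2814669, nat_lit 0x56a50f311a70c1141cd3505a4b8aae263dc5, nat_lit 0xb87bdd425842be32034c2a38f5b41415cc77], [nat_lit 65536, nat_lit 69632, nat_lit 73728, nat_lit 77824, nat_lit 98304, nat_lit 178176, nat_lit 174080, nat_lit 170496, nat_lit 161280, nat_lit 158400, nat_lit 152096, nat_lit 148496, nat_lit 143632, nat_lit 143044, nat_lit 135300, nat_lit 131531, nat_lit 1948, nat_lit 6044, nat_lit 8584, nat_lit 15360, nat_lit 20416, nat_lit 20864, nat_lit 27264, nat_lit 30464, nat_lit 33280, nat_lit 45080, nat_lit 41477, nat_lit 37196, nat_lit 32793, nat_lit 28738, nat_lit 20508, nat_lit 16393, nat_lit 12306, nat_lit 8193, nat_lit 4097, nat_lit 2, nat_lit 421894, nat_lit 409603, nat_lit 401408, nat_lit 155776, nat_lit 147648, nat_lit 143424, nat_lit 139280, nat_lit 131092, nat_lit 45073, nat_lit 41117, nat_lit 37064, nat_lit 32784, nat_lit 20509, nat_lit 4097]⟩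
def ndBg2_3 : El := ⟨[nat_lit 0x5fc6c0a3ac6011818364541d6fb8a6a8d469, nat_lit 0x9003334c271382ae42d52b106fbb02533454, nat_lit 0xed271820d02341537823769d6e60654496b6], [nat_lit 65536, nat_lit 69632, nat_lit 86016, nat_lit 110592, nat_lit 178176, nat_lit 174080, nat_lit 169472, nat_lit 165120, nat_lit 159872, nat_lit 156288, nat_lit 152672, nat_lit 147712, nat_lit 146312, nat_lit 142752, nat_lit 139026, nat_lit 131351, nat_lit 2356, nat_lit 6452, nat_lit 8368, nat_lit 15840, nat_lit 17696, nat_lit 21696, nat_lit 27008, nat_lit 29952, nat_lit 46325, nat_lit 41965, nat_lit 37972, nat_lit 32880, nat_lit 28733, nat_lit 24589, nat_lit 20489, nat_lit 16388, nat_lit 12321, nat_lit 8208, nat_lit 4097, nat_lit 421894, nat_lit 409603, nat_lit 401408, nat_lit 155776, nat_lit 147648, nat_lit 143552, nat_lit 139456, nat_lit 45073, nat_lit 41100, nat_lit 37064, nat_lit 32784, nat_lit 20509, nat_lit 4097, nat_lit 327680]⟩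
def ndBg2_4 : El := ⟨[nat_lit 0xc5a0f6784e0a15b65b104748d0544559dc69, nat_lit 0xd81e8d02e45ad2ed24c485187063dd689d21, nat_lit 0x124e7ba21f758c2d23146382b028ad24ba71], [nat_lit 77824, nat_lit 86016, nat_lit 90112, nat_lit 94208, nat_lit 98304, nat_lit 102400, nat_lit 178176, nat_lit 174080, nat_lit 171008, nat_lit 164864, nat_lit 161536, nat_lit 158848, nat_lit 154976, nat_lit 151072, nat_lit 146192, nat_lit 139684, nat_lit 135758, nat_lit 131381, nat_lit 756, nat_lit 4852, nat_lit 10960, nat_lit 13424, nat_lit 17184, nat_lit 22528, nat_lit 28032, nat_lit 31488, nat_lit 34816, nat_lit 43008, nat_lit 46747, nat_lit 43189, nat_lit 37935, nat_lit 32826, nat_lit 28767, nat_lit 24598, nat_lit 20484, nat_lit 16397, nat_lit 12291, nat_lit 8193, nat_lit 4097, nat_lit 421894, nat_lit 413699, nat_lit 401408, nat_lit 155776, nat_lit 151680, nat_lit 143584, nat_lit 131308, nat_lit 45100, nat_lit 41120, nat_lit 37064, nat_lit 32769, nat_lit 16385, nat_lit 4097]⟩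
def ndBr2_0 : El := ⟨[nat_lit 0x7bb8eb288c3ace92380246b949b461762d0f, nat_lit 0xc603f5458aaa0c268dc9372c506a4123d5ec], [nat_lit 65536, nat_lit 69632, nat_lit 73728, nat_lit 81920, nat_lit 86016, nat_lit 94208, nat_lit 110592, nat_lit 168960, nat_lit 165632, nat_lit 163584, nat_lit 157504, nat_lit 154272, nat_lit 151344, nat_lit 146592, nat_lit 139284, nat_lit 136404, nat_lit 133202, nat_lit 476, nat_lit 4572, nat_lit 11152, nat_lit 15792, nat_lit 18208, nat_lit 22528, nat_lit 28032, nat_lit 29696, nat_lit 35840, nat_lit 37888, nat_lit 45740, nat_lit 41847, nat_lit 38165, nat_lit 33007, nat_lit 29045, nat_lit 24597, nat_lit 20739, nat_lit 12323, nat_lit 4097, nat_lit 2, nat_lit 409603, nat_lit 401408, nat_lit 139272, nat_lit 131096, nat_lit 40989, nat_lit 32784, nat_lit 24584, nat_lit 20509, nat_lit 4097, nat_lit 327680]⟩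
def ndBr2_1 : El := ⟨[nat_lit 0x2db7229b552b1871581e1752a9808b7230e8, nat_lit 0x993aca730619c087b550b5513734645009ed], [nat_lit 73728, nat_lit 77824, nat_lit 81920, nat_lit 86016, nat_lit 98304, nat_lit 102400, nat_lit 175104, nat_lit 171008, nat_lit 164352, nat_lit 160768, nat_lit 158272, nat_lit 155200, nat_lit 151136, nat_lit 146264, nat_lit 141392, nat_lit 136046, nat_lit 134902, nat_lit 1478, nat_lit 7816, nat_lit 9664, nat_lit 12608, nat_lit 17152, nat_lit 23168, nat_lit 28544, nat_lit 30208, nat_lit 33792, nat_lit 37888, nat_lit 43008, nat_lit 45439, nat_lit 41911, nat_lit 37115, nat_lit 34025, nat_lit 29307, nat_lit 24865, nat_lit 20559, nat_lit 16431, nat_lit 12289, nat_lit 8195, nat_lit 4100, nat_lit 425988, nat_lit 401408, nat_lit 147712, nat_lit 139520, nat_lit 36880, nat_lit 24592, nat_lit 20484, nat_lit 12292, nat_lit 4097, nat_lit 327680]⟩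
def ndBr2_2 : El := ⟨[nat_lit 0x8412d20a013931c97d046236c339550ac577, nat_lit 0xde14d145ca21b8336c569502a63920c93e96], [nat_lit 73728, nat_lit 81920, nat_lit 94208, nat_lit 102400, nat_lit 174080, nat_lit 165632, nat_lit 160896, nat_lit 156160, nat_lit 155584, nat_lit 148384, nat_lit 143976, nat_lit 139616, nat_lit 137226, nat_lit 133889, nat_lit 310, nat_lit 6152, nat_lit 9216, nat_lit 15216, nat_lit 18688, nat_lit 24320, nat_lit 27520, nat_lit 30464, nat_lit 33792, nat_lit 37888, nat_lit 46652, nat_lit 41340, nat_lit 37202, nat_lit 32930, nat_lit 28680, nat_lit 25124, nat_lit 20481, nat_lit 16454, nat_lit 12420, nat_lit 4161, nat_lit 425989, nat_lit 405504, nat_lit 143616, nat_lit 131368, nat_lit 41216, nat_lit 36896, nat_lit 28680, nat_lit 24584, nat_lit 4097]⟩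
def ndBr2_3 : El := ⟨[nat_lit 0xf0966c5a86983aa410408616d1934f77d266, nat_lit 0xcac66a24dea026a8bb86d14a34358e15c0ac, nat_lit 0x271e8d3916a4a0c51c66014a0175aeca55af], [nat_lit 81920, nat_lit 86016, nat_lit 94208, nat_lit 162304, nat_lit 157696, nat_lit 155104, nat_lit 150928, nat_lit 143960, nat_lit 139508, nat_lit 135822, nat_lit 133842, nat_lit 2906, nat_lit 6636, nat_lit 11016, nat_lit 12624, nat_lit 19552, nat_lit 22080, nat_lit 27648, nat_lit 29184, nat_lit 38912, nat_lit 43008, nat_lit 46462, nat_lit 41127, nat_lit 37132, nat_lit 33413, nat_lit 28930, nat_lit 26627, nat_lit 20564, nat_lit 16449, nat_lit 12289, nat_lit 8209, nat_lit 4224, nat_lit 434184, nat_lit 417797, nat_lit 409603, nat_lit 401408, nat_lit 156928, nat_lit 151616, nat_lit 147488, nat_lit 144704, nat_lit 139320, nat_lit 131076, nat_lit 46133, nat_lit 36972, nat_lit 28729, nat_lit 4097, nat_lit 327680]⟩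
def ndBr2_4 : El := ⟨[nat_lit 0x121bbd3bd6419af0896c294dc962001ad14d, nat_lit 0xe24e8b8aaf621513835c958052ab0261bcf4, nat_lit 0x2b174785ceba584d79066705282d62a03272], [nat_lit 77824, nat_lit 81920, nat_lit 102400, nat_lit 110592, nat_lit 175104, nat_lit 169984, nat_lit 164096, nat_lit 161920, nat_lit 157440, nat_lit 155008, nat_lit 148976, nat_lit 143840, nat_lit 142156, nat_lit 138998, nat_lit 132380, nat_lit 1764, nat_lit 5860, nat_lit 9656, nat_lit 15024, nat_lit 16416, nat_lit 22400, nat_lit 26112, nat_lit 31744, nat_lit 35328, nat_lit 43008, nat_lit 46815, nat_lit 41269, nat_lit 39397, nat_lit 32976, nat_lit 28677, nat_lit 24858, nat_lit 21014, nat_lit 16396, nat_lit 12292, nat_lit 8194, nat_lit 4097, nat_lit 2, nat_lit 430087, nat_lit 417797, nat_lit 409603, nat_lit 401408, nat_lit 160256, nat_lit 155776, nat_lit 151616, nat_lit 143584, nat_lit 139448, nat_lit 131148, nat_lit 45753, nat_lit 41548, nat_lit 32800, nat_lit 4097, nat_lit 327680]⟩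
def ndBg3_0 : El := ⟨[nat_lit 0x69ac593d093826ea8b5d67950305641130cb, nat_lit 0x5f5f5348113b5e022987123eaaa35679382c, nat_lit 0x6f55c3167284487b0417a08756256d521ee], [nat_lit 65536, nat_lit 69632, nat_lit 73728, nat_lit 81920, nat_lit 86016, nat_lit 90112, nat_lit 94208, nat_lit 102400, nat_lit 110592, nat_lit 178176, nat_lit 174080, nat_lit 168960, nat_lit 164352, nat_lit 160768, nat_lit 157504, nat_lit 154272, nat_lit 148848, nat_lit 144760, nat_lit 142736, nat_lit 139194, nat_lit 131128, nat_lit 538, nat_lit 6340, nat_lit 11080, nat_lit 12816, nat_lit 17728, nat_lit 22080, nat_lit 26112, nat_lit 29440, nat_lit 33280, nat_lit 38912, nat_lit 46983, nat_lit 43559, nat_lit 36948, nat_lit 33858, nat_lit 28950, nat_lit 24615, nat_lit 20566, nat_lit 16420, nat_lit 12291, nat_lit 8209, nat_lit 4104, nat_lit 438280, nat_lit 421894, nat_lit 409603, nat_lit 401408, nat_lit 147520, nat_lit 143424, nat_lit 139416, nat_lit 133376, nat_lit 41100, nat_lit 36940, nat_lit 20509, nat_lit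 4097, nat_lit 327680]⟩
def ndBg3_1 : El := ⟨[nat_lit 0x563c9c5c895b09d41b0e54b42832af37c220, nat_lit 0x7828bd7d128bce2e6d4a609e4a602c31408b, nat_lit 0xc563ac28aa7940169b88a7dda38992ca2d01, nat_lit 0x22848760ced34052aa9d1b2e6f48505a12e0], [nat_lit 77824, nat_lit 90112, nat_lit 94208, nat_lit 106496, nat_lit 178176, nat_lit 174080, nat_lit 168960, nat_lit 164864, nat_lit 162944, nat_lit 152608, nat_lit 151184, nat_lit 146832, nat_lit 143076, nat_lit 137988, nat_lit 131412, nat_lit 688, nat_lit 4784, nat_lit 8584, nat_lit 12672, nat_lit 17280, nat_lit 20736, nat_lit 27520, nat_lit 30976, nat_lit 36352, nat_lit 43008, nat_lit 46170, nat_lit 43047, nat_lit 37150, nat_lit 33535, nat_lit 28727, nat_lit 24843, nat_lit 20546, nat_lit 16392, nat_lit 12290, nat_lit 8321, nat_lit 4097, nat_lit 434185, nat_lit 425991, nat_lit 417797, nat_lit 409603, nat_lit 401408, nat_lit 168960, nat_lit 165376, nat_lit 160512, nat_lit 156544, nat_lit 153088, nat_lit 148128, nat_lit 144672, nat_lit 140064,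 nat_lit 132900, nat_lit 45065, nat_lit 4097, nat_lit 327680]⟩
def ndBg3_2 : El := ⟨[nat_lit 0xe2e44d85dc42982a7a40c6caa7458749ac51, nat_lit 0x55f90c011379ca2d5d4e2a1501641cf30d56, nat_lit 0xc550f90dc74156c06a1eb629c9940e524666], [nat_lit 73728, nat_lit 77824, nat_lit 86016, nat_lit 94208, nat_lit 98304, nat_lit 106496, nat_lit 178176, nat_lit 175104, nat_lit 168960, nat_lit 166144, nat_lit 161792, nat_lit 159424, nat_lit 153536, nat_lit 149824, nat_lit 145736, nat_lit 140836, nat_lit 138590, nat_lit 134593, nat_lit 158, nat_lit 6272, nat_lit 8344, nat_lit 13600, nat_lit 19104, nat_lit 23808, nat_lit 27392, nat_lit 32000, nat_lit 33792, nat_lit 43008, nat_lit 46287, nat_lit 41351, nat_lit 37233, nat_lit 32983, nat_lit 28985, nat_lit 24596, nat_lit 20510, nat_lit 16390, nat_lit 12322, nat_lit 8195, nat_lit 4100, nat_lit 2, nat_lit 430088, nat_lit 417797, nat_lit 405504, nat_lit 164352, nat_lit 155904, nat_lit 152384, nat_lit 143872, nat_lit 131424, nat_lit 45065, nat_lit 40961,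 nat_lit 28680, nat_lit 16392, nat_lit 8193, nat_lit 4097]⟩
def ndBg3_3 : El := ⟨[nat_lit 0x96f9609b627259d41564b7a545b8d1061820], [nat_lit 65536, nat_lit 69632, nat_lit 73728, nat_lit 77824, nat_lit 86016, nat_lit 94208, nat_lit 98304, nat_lit 102400, nat_lit 106496, nat_lit 175104, nat_lit 171520, nat_lit 166656, nat_lit 162176, nat_lit 152960, nat_lit 150288, nat_lit 145736, nat_lit 142540, nat_lit 137838, nat_lit 134424, nat_lit 2, nat_lit 5120, nat_lit 8504, nat_lit 15024, nat_lit 17504, nat_lit 22912, nat_lit 27008, nat_lit 28928, nat_lit 35840, nat_lit 38912, nat_lit 43008, nat_lit 41811, nat_lit 38276, nat_lit 32907, nat_lit 28928, nat_lit 25148, nat_lit 20494, nat_lit 16908, nat_lit 12293, nat_lit 8202, nat_lit 4100, nat_lit 2, nat_lit 327680]⟩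
def ndBg3_4 : El := ⟨[nat_lit 0x9fa9fa2ae930b003958ea822e613dae22635, nat_lit 0x6c9069c2371116e0a585ada92501e61a1a7, nat_lit 0x3359f02a41245065bdb3b0cec151c54c2f5], [nat_lit 65536, nat_lit 69632, nat_lit 73728, nat_lit 77824, nat_lit 86016, nat_lit 94208, nat_lit 102400, nat_lit 106496, nat_lit 110592, nat_lit 178176, nat_lit 169984, nat_lit 165376, nat_lit 161408, nat_lit 156864, nat_lit 154080, nat_lit 150112, nat_lit 144184, nat_lit 141564, nat_lit 136176, nat_lit 133880, nat_lit 2674, nat_lit 4476, nat_lit 9416, nat_lit 14752, nat_lit 19360, nat_lit 24192, nat_lit 27520, nat_lit 29440, nat_lit 36352, nat_lit 38912, nat_lit 47079, nat_lit 41093, nat_lit 37191, nat_lit 33515, nat_lit 29008, nat_lit 24753, nat_lit 20622, nat_lit 16419, nat_lit 12289, nat_lit 8256, nat_lit 4129, nat_lit 2, nat_lit 430086, nat_lit 413700, nat_lit 401408, nat_lit 151616, nat_lit 147552, nat_lit 139808, nat_lit 131684, nat_lit 45569, nat_lit 40961, nat_lit 32864, nat_lit 28720, nat_lit 12289,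 nat_lit 4097]⟩
def ndBr3_0 : El := ⟨[nat_lit 0x8b7b41200278ded0aca746b9497b168188c5, nat_lit 0xac5666759753952db98108cdea0b06824a82, nat_lit 0x4e4d2b015694560c20ded0c4f254dd711ad4], [nat_lit 65536, nat_lit 69632, nat_lit 77824, nat_lit 98304, nat_lit 102400, nat_lit 110592, nat_lit 178176, nat_lit 174080, nat_lit 171008, nat_lit 164352, nat_lit 160640, nat_lit 156416, nat_lit 151904, nat_lit 149376, nat_lit 145768, nat_lit 141020, nat_lit 137354, nat_lit 134850, nat_lit 3084, nat_lit 7180, nat_lit 8560, nat_lit 15536, nat_lit 19488, nat_lit 23040, nat_lit 24704, nat_lit 32256, nat_lit 33280, nat_lit 39936, nat_lit 43008, nat_lit 46558, nat_lit 43543, nat_lit 37190, nat_lit 32806, nat_lit 29775, nat_lit 25103, nat_lit 20741, nat_lit 18433, nat_lit 12311, nat_lit 8210, nat_lit 4097, nat_lit 2, nat_lit 434184, nat_lit 421894, nat_lit 413699, nat_lit 401408, nat_lit 156800, nat_lit 153024, nat_lit 140392, nat_lit 131488, nat_lit 46336, nat_lit 36972, nat_lit 4097, nat_lit 327680]⟩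
def ndBr3_1 : El := ⟨[nat_lit 0x55906f31d0983d93b003573632a5c6251564, nat_lit 0x635f3f7acf72d189b06553406440a6a881cd], [nat_lit 90112, nat_lit 94208, nat_lit 102400, nat_lit 106496, nat_lit 169984, nat_lit 165632, nat_lit 163072, nat_lit 156992, nat_lit 153024, nat_lit 148640, nat_lit 146408, nat_lit 141152, nat_lit 136092, nat_lit 132637, nat_lit 1796, nat_lit 5892, nat_lit 10152, nat_lit 13632, nat_lit 20384, nat_lit 24384, nat_lit 28288, nat_lit 31744, nat_lit 36352, nat_lit 38912, nat_lit 43008, nat_lit 47061, nat_lit 41253, nat_lit 39128, nat_lit 33499, nat_lit 28698, nat_lit 24617, nat_lit 20555, nat_lit 12355, nat_lit 8195, nat_lit 4097, nat_lit 2, nat_lit 409603, nat_lit 401408, nat_lit 143376, nat_lit 139288, nat_lit 131088, nat_lit 40964, nat_lit 36865, nat_lit 32797, nat_lit 28680, nat_lit 24592, nat_lit 4097]⟩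
def ndBr3_2 : El := ⟨[nat_lit 0x4ee81d594c8bce1422927705a01b04f8cad5, nat_lit 0x6f9a5f4cda123e8c3da128b9632d40235d48], [nat_lit 73728, nat_lit 77824, nat_lit 86016, nat_lit 98304, nat_lit 178176, nat_lit 165120, nat_lit 159872, nat_lit 159488, nat_lit 152576, nat_lit 147680, nat_lit 145144, nat_lit 139360, nat_lit 138842, nat_lit 134784, nat_lit 1142, nat_lit 4856, nat_lit 10536, nat_lit 12544, nat_lit 19520, nat_lit 23744, nat_lit 26880, nat_lit 32256, nat_lit 33280, nat_lit 37888, nat_lit 43008, nat_lit 46946, nat_lit 43392, nat_lit 38144, nat_lit 32866, nat_lit 29245, nat_lit 24633, nat_lit 20509, nat_lit 16399, nat_lit 12292, nat_lit 4112, nat_lit 2, nat_lit 409603, nat_lit 401408, nat_lit 40964, nat_lit 36868, nat_lit 32784, nat_lit 28688, nat_lit 20496, nat_lit 4097]⟩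
def ndBr3_3 : El := ⟨[nat_lit 0x6aaa93400615a542a3a27b366461af0a95f2, nat_lit 0x30f956b366014994404645c2257192f3aaf5], [nat_lit 65536, nat_lit 69632, nat_lit 77824, nat_lit 81920, nat_lit 86016, nat_lit 98304, nat_lit 106496, nat_lit 110592, nat_lit 174080, nat_lit 168960, nat_lit 165888, nat_lit 160128, nat_lit 158144, nat_lit 155136, nat_lit 148768, nat_lit 146808, nat_lit 142172, nat_lit 137728, nat_lit 134408, nat_lit 1692, nat_lit 5788, nat_lit 11744, nat_lit 15248, nat_lit 19904, nat_lit 23744, nat_lit 25088, nat_lit 28928, nat_lit 35328, nat_lit 43008, nat_lit 46939, nat_lit 43874, nat_lit 39375, nat_lit 34843, nat_lit 29185, nat_lit 24630, nat_lit 20506, nat_lit 16394, nat_lit 12308, nat_lit 8203, nat_lit 4097, nat_lit 409603, nat_lit 401408, nat_lit 139272, nat_lit 131096, nat_lit 40968, nat_lit 36880, nat_lit 32776, nat_lit 28676, nat_lit 24577, nat_lit 20509, nat_lit 4097, nat_lit 327680]⟩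
def ndBr3_4 : El := ⟨[nat_lit 0x747bbe7acc3749b5609058d8013de049a554, nat_lit 0xa5606fb35450cdcc0264839070b996f146b4, nat_lit 0x1e474e3a2223020b22433addd628d52651af], [nat_lit 65536, nat_lit 69632, nat_lit 86016, nat_lit 98304, nat_lit 102400, nat_lit 110592, nat_lit 161536, nat_lit 155840, nat_lit 152192, nat_lit 148288, nat_lit 141112, nat_lit 136158, nat_lit 134927, nat_lit 3770, nat_lit 7748, nat_lit 11968, nat_lit 12976, nat_lit 16768, nat_lit 22848, nat_lit 28032, nat_lit 31488, nat_lit 34816, nat_lit 39936, nat_lit 43008, nat_lit 46285, nat_lit 41403, nat_lit 37002, nat_lit 33870, nat_lit 28992, nat_lit 24865, nat_lit 20617, nat_lit 16422, nat_lit 12289, nat_lit 4113, nat_lit 430088, nat_lit 417797, nat_lit 409603, nat_lit 401408, nat_lit 164352, nat_lit 156160, nat_lit 147776, nat_lit 143888, nat_lit 139840, nat_lit 131672, nat_lit 45357, nat_lit 41229, nat_lit 28736, nat_lit 4097]⟩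
def ndBr3_5 : El := ⟨[nat_lit 0x241748a9cc99906d4041692e147a9d78b045, nat_lit 0x7242b75a50a394869427118022a5ab763dcd], [nat_lit 73728, nat_lit 77824, nat_lit 98304, nat_lit 102400, nat_lit 106496, nat_lit 178176, nat_lit 173056, nat_lit 171520, nat_lit 165888, nat_lit 162432, nat_lit 156928, nat_lit 152352, nat_lit 148016, nat_lit 146920, nat_lit 141288, nat_lit 138190, nat_lit 131155, nat_lit 2322, nat_lit 4352, nat_lit 10744, nat_lit 15360, nat_lit 16640, nat_lit 23232, nat_lit 25600, nat_lit 30464, nat_lit 33280, nat_lit 37888, nat_lit 43008, nat_lit 46970, nat_lit 43140, nat_lit 38231, nat_lit 33989, nat_lit 29208, nat_lit 24589, nat_lit 20615, nat_lit 16428, nat_lit 12304, nat_lit 8225, nat_lit 4100, nat_lit 425989, nat_lit 409600, nat_lit 131360, nat_lit 40976, nat_lit 28688, nat_lit 12289, nat_lit 8193, nat_lit 4097, nat_lit 327680]⟩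
def ndBg4_0 : El := ⟨[nat_lit 0x3ac9955d51704e2169ccc291cf18a12b2554, nat_lit 0x7828423c2cb4566415e8d0254f285861ba51], [nat_lit 73728, nat_lit 77824, nat_lit 81920, nat_lit 110592, nat_lit 174080, nat_lit 168960, nat_lit 166912, nat_lit 160768, nat_lit 158592, nat_lit 155456, nat_lit 151184, nat_lit 144072, nat_lit 140176, nat_lit 139214, nat_lit 132976, nat_lit 2698, nat_lit 4772, nat_lit 9208, nat_lit 14976, nat_lit 20288, nat_lit 23488, nat_lit 25984, nat_lit 30464, nat_lit 34304, nat_lit 37888, nat_lit 43008, nat_lit 45364, nat_lit 41922, nat_lit 37271, nat_lit 33006, nat_lit 28953, nat_lit 24636, nat_lit 20566, nat_lit 16386, nat_lit 12291, nat_lit 8256, nat_lit 4104, nat_lit 2, nat_lit 409603, nat_lit 401408, nat_lit 143376, nat_lit 131100, nat_lit 40968, nat_lit 36865, nat_lit 32772, nat_lit 28676, nat_lit 24592, nat_lit 20509, nat_lit 4097, nat_lit 327680]⟩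
def ndBg4_1 : El := ⟨[nat_lit 0x39656630868b3a40686b12ad8f51213a5d27, nat_lit 0x905905906cc3a8034d4b4321ed740579c564, nat_lit 0x2be748231a0b454f40926b8cf472e752c032, nat_lit 0xf936f9ac6c5481f77309009e6391968a09aa], [nat_lit 73728, nat_lit 94208, nat_lit 106496, nat_lit 175104, nat_lit 171008, nat_lit 164352, nat_lit 162048, nat_lit 159488, nat_lit 155104, nat_lit 148592, nat_lit 146472, nat_lit 141036, nat_lit 138124, nat_lit 133369, nat_lit 182, nat_lit 7752, nat_lit 11112, nat_lit 15312, nat_lit 16608, nat_lit 23744, nat_lit 26496, nat_lit 33792, nat_lit 39936, nat_lit 46521, nat_lit 41266, nat_lit 37303, nat_lit 33444, nat_lit 29237, nat_lit 24616, nat_lit 20492, nat_lit 16641, nat_lit 12294, nat_lit 8203, nat_lit 4105, nat_lit 438282, nat_lit 425991, nat_lit 417797, nat_lit 409603, nat_lit 401408, nat_lit 174080, nat_lit 164864, nat_lit 160768, nat_lit 158720, nat_lit 152832, nat_lit 148608, nat_lit 144448, nat_lit 141384, nat_lit 133476, nat_lit 36865, nat_lit 4097, nat_lit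 327680]⟩
def ndBg4_2 : El := ⟨[nat_lit 0x9c6c95625ab3c490b5c0143dcaad06231672, nat_lit 0x6a06584844446cd504ebacd2c73c6505cd4, nat_lit 0xfc3a6fb9a076468e45952a8a61480ad1bc8b, nat_lit 0xb8b777320ef4cd90286f168c0a112555bad4], [nat_lit 65536, nat_lit 69632, nat_lit 73728, nat_lit 81920, nat_lit 94208, nat_lit 98304, nat_lit 102400, nat_lit 178176, nat_lit 174080, nat_lit 168448, nat_lit 166144, nat_lit 163200, nat_lit 155904, nat_lit 153792, nat_lit 148976, nat_lit 143984, nat_lit 142756, nat_lit 137564, nat_lit 131250, nat_lit 1230, nat_lit 5616, nat_lit 9840, nat_lit 12976, nat_lit 16864, nat_lit 22656, nat_lit 27136, nat_lit 29696, nat_lit 34816, nat_lit 37888, nat_lit 43008, nat_lit 46496, nat_lit 40979, nat_lit 36895, nat_lit 33019, nat_lit 28686, nat_lit 24611, nat_lit 20566, nat_lit 16397, nat_lit 12294, nat_lit 4105, nat_lit 2, nat_lit 438282, nat_lit 425991, nat_lit 417797, nat_lit 409603, nat_lit 401408, nat_lit 143440, nat_lit 139592, nat_lit 131564, nat_lit 36865,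 nat_lit 4097]⟩
def ndBg4_3 : El := ⟨[nat_lit 0x53a999b402720237618ab788689a5b253ab4, nat_lit 0xf9a0656de2853e55611c11c0f34aca2a00d6, nat_lit 0xe2d817545a690ed3a3dc14aea021c5783105, nat_lit 0xed41744be604554433acd9169009c7760a2b], [nat_lit 65536, nat_lit 69632, nat_lit 73728, nat_lit 90112, nat_lit 102400, nat_lit 106496, nat_lit 110592, nat_lit 174080, nat_lit 169984, nat_lit 164864, nat_lit 162048, nat_lit 158144, nat_lit 155232, nat_lit 148208, nat_lit 147072, nat_lit 142888, nat_lit 135182, nat_lit 131618, nat_lit 252, nat_lit 4348, nat_lit 11448, nat_lit 13664, nat_lit 16608, nat_lit 21888, nat_lit 25088, nat_lit 28928, nat_lit 35328, nat_lit 39936, nat_lit 43008, nat_lit 46941, nat_lit 41710, nat_lit 38059, nat_lit 32954, nat_lit 29002, nat_lit 24578, nat_lit 20501, nat_lit 16386, nat_lit 12293, nat_lit 8203, nat_lit 4097, nat_lit 2, nat_lit 438282, nat_lit 425991, nat_lit 417797, nat_lit 409603, nat_lit 401408, nat_lit 174080, nat_lit 161024, nat_lit 158080, nat_lit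 153920, nat_lit 150560, nat_lit 144784, nat_lit 142392, nat_lit 133120, nat_lit 36865, nat_lit 4097, nat_lit 327680]⟩
def ndBg4_4 : El := ⟨[nat_lit 0x14888db99c91ca706d164620b651eaf08811, nat_lit 0x1e474e554d7a406d3bd2e606d124d7241402], [nat_lit 65536, nat_lit 69632, nat_lit 73728, nat_lit 81920, nat_lit 86016, nat_lit 102400, nat_lit 178176, nat_lit 171008, nat_lit 164352, nat_lit 160384, nat_lit 157120, nat_lit 153952, nat_lit 147808, nat_lit 145280, nat_lit 141112, nat_lit 137256, nat_lit 131508, nat_lit 2462, nat_lit 6344, nat_lit 9480, nat_lit 16192, nat_lit 19584, nat_lit 21888, nat_lit 27904, nat_lit 30976, nat_lit 34304, nat_lit 39936, nat_lit 46937, nat_lit 43601, nat_lit 39366, nat_lit 32785, nat_lit 26678, nat_lit 20544, nat_lit 16393, nat_lit 12311, nat_lit 8203, nat_lit 4105, nat_lit 413699, nat_lit 401408, nat_lit 131112, nat_lit 36865, nat_lit 28680, nat_lit 24621, nat_lit 4097]⟩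
def ndBr4_0 : El := ⟨[nat_lit 0x2bdbed6c12858ec6215d3bca8c11eaa8bc20, nat_lit 0xd17d4252cf5a11af021d29a5818dcb035862], [nat_lit 86016, nat_lit 90112, nat_lit 94208, nat_lit 98304, nat_lit 174080, nat_lit 168960, nat_lit 166144, nat_lit 163328, nat_lit 156864, nat_lit 153344, nat_lit 148416, nat_lit 144888, nat_lit 139548, nat_lit 137136, nat_lit 135084, nat_lit 464, nat_lit 4560, nat_lit 10408, nat_lit 14592, nat_lit 17056, nat_lit 21248, nat_lit 24960, nat_lit 31232, nat_lit 38912, nat_lit 43008, nat_lit 46315, nat_lit 41502, nat_lit 37095, nat_lit 33009, nat_lit 28752, nat_lit 24615, nat_lit 20501, nat_lit 16428, nat_lit 12309, nat_lit 8201, nat_lit 4097, nat_lit 2, nat_lit 417796, nat_lit 401408, nat_lit 147520, nat_lit 139344, nat_lit 131092, nat_lit 40964, nat_lit 36928, nat_lit 32769, nat_lit 20484, nat_lit 4097, nat_lit 327680]⟩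
def ndBr4_1 : El := ⟨[nat_lit 0x5a09f36351422ec533a63aa820389f14c2f2, nat_lit 0x877d7b4c4c0b4a0c44ca3706e26aaab7d0e4, nat_lit 0xb18e715b2333b8a820656a2aed7a40285466, nat_lit 0xa6665a116a74057423a6abbda38a4ccb0250], [nat_lit 73728, nat_lit 81920, nat_lit 86016, nat_lit 98304, nat_lit 102400, nat_lit 106496, nat_lit 110592, nat_lit 173056, nat_lit 169984, nat_lit 165888, nat_lit 161792, nat_lit 156352, nat_lit 154048, nat_lit 147904, nat_lit 143784, nat_lit 143228, nat_lit 138588, nat_lit 131870, nat_lit 2696, nat_lit 6792, nat_lit 11040, nat_lit 12352, nat_lit 16736, nat_lit 21504, nat_lit 25600, nat_lit 31744, nat_lit 35840, nat_lit 39936, nat_lit 45925, nat_lit 41151, nat_lit 37001, nat_lit 32817, nat_lit 28762, nat_lit 24624, nat_lit 20548, nat_lit 16386, nat_lit 12417, nat_lit 4097, nat_lit 2, nat_lit 438282, nat_lit 425991, nat_lit 417797, nat_lit 409603, nat_lit 401408, nat_lit 165888, nat_lit 163072, nat_lit 155776, nat_lit 153856, nat_lit 148512, nat_lit 143472, nat_lit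 141728, nat_lit 132576, nat_lit 36865, nat_lit 4097, nat_lit 327680]⟩
def ndBr4_2 : El := ⟨[nat_lit 0x1d72d11b6ea2803145982ac286711f391d2b, nat_lit 0xeb1eeeb54a68c9681382f00d8d3d2e452613], [nat_lit 73728, nat_lit 90112, nat_lit 94208, nat_lit 98304, nat_lit 102400, nat_lit 106496, nat_lit 110592, nat_lit 174080, nat_lit 171520, nat_lit 167424, nat_lit 161024, nat_lit 158400, nat_lit 154336, nat_lit 148880, nat_lit 143864, nat_lit 141832, nat_lit 137342, nat_lit 132819, nat_lit 128, nat_lit 4224, nat_lit 9400, nat_lit 14432, nat_lit 17440, nat_lit 22208, nat_lit 27264, nat_lit 32256, nat_lit 34816, nat_lit 38912, nat_lit 46211, nat_lit 41947, nat_lit 38296, nat_lit 33889, nat_lit 28712, nat_lit 24608, nat_lit 20487, nat_lit 16386, nat_lit 12416, nat_lit 8193, nat_lit 425991, nat_lit 409602, nat_lit 160000, nat_lit 147840, nat_lit 139536, nat_lit 41088, nat_lit 36868, nat_lit 24580, nat_lit 20496, nat_lit 12292]⟩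
def ndBr4_3 : El := ⟨[nat_lit 0xd1e4d174cd68c028954ec4bda01ac85a2ae2, nat_lit 0xedd818012af9422b1bac79a12abb426150ac, nat_lit 0x650faa056c321dcfb86829a5726b0c544550], [nat_lit 73728, nat_lit 102400, nat_lit 106496, nat_lit 110592, nat_lit 175104, nat_lit 170496, nat_lit 165888, nat_lit 161280, nat_lit 157440, nat_lit 152064, nat_lit 151280, nat_lit 143920, nat_lit 141184, nat_lit 137804, nat_lit 133575, nat_lit 234, nat_lit 4332, nat_lit 12136, nat_lit 12512, nat_lit 20160, nat_lit 21184, nat_lit 26752, nat_lit 29696, nat_lit 34304, nat_lit 43008, nat_lit 46982, nat_lit 43907, nat_lit 37319, nat_lit 32838, nat_lit 28792, nat_lit 24623, nat_lit 20571, nat_lit 16396, nat_lit 12294, nat_lit 8200, nat_lit 4101, nat_lit 2, nat_lit 421894, nat_lit 413700, nat_lit 401408, nat_lit 155776, nat_lit 151744, nat_lit 147584, nat_lit 131316, nat_lit 45061, nat_lit 41152, nat_lit 37072, nat_lit 32769, nat_lit 12289, nat_lit 4097, nat_lit 327680]⟩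
def ndBr4_4 : El := ⟨[nat_lit 0xf5950a58e6f61db63514943810946e5a9022, nat_lit 0x7d71ed03456099505d5e8bb8a41c4e9a4a6c, nat_lit 0xdbbd718dd8fa0412acc87325a3b220b2b942, nat_lit 0xa0630993069a4cf182de1428d528057712cd], [nat_lit 65536, nat_lit 69632, nat_lit 77824, nat_lit 90112, nat_lit 94208, nat_lit 98304, nat_lit 102400, nat_lit 110592, nat_lit 169472, nat_lit 167168, nat_lit 161024, nat_lit 157312, nat_lit 152864, nat_lit 148832, nat_lit 144528, nat_lit 141184, nat_lit 138168, nat_lit 133463, nat_lit 52, nat_lit 4148, nat_lit 8776, nat_lit 13488, nat_lit 19744, nat_lit 20608, nat_lit 24832, nat_lit 30976, nat_lit 38912, nat_lit 43008, nat_lit 46722, nat_lit 43588, nat_lit 39297, nat_lit 32928, nat_lit 28960, nat_lit 24606, nat_lit 20741, nat_lit 16451, nat_lit 12311, nat_lit 8195, nat_lit 4097, nat_lit 2, nat_lit 434185, nat_lit 425991, nat_lit 417797, nat_lit 409603, nat_lit 401408, nat_lit 164864, nat_lit 160768, nat_lit 157056, nat_lit 153408, nat_lit 148608, nat_lit 143952,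 nat_lit 141032, nat_lit 132732, nat_lit 45073, nat_lit 4097, nat_lit 327680]⟩

def gensB : List (List El) := [
  [ndBg0_0, ndBg0_1, ndBg0_2, ndBg0_3, ndBg0_4],
  [ndBg1_0, ndBg1_1, ndBg1_2, ndBg1_3, ndBg1_4],
  [ndBg2_0, ndBg2_1, ndBg2_2, ndBg2_3, ndBg2_4],
  [ndBg3_0, ndBg3_1, ndBg3_2, ndBg3_3, ndBg3_4],
  [ndBg4_0, ndBg4_1, ndBg4_2, ndBg4_3, ndBg4_4]]

def repsB : List (List (El × ℕ)) := [
  [(ndBr0_0, nat_lit 0), (ndBr0_1, nat_lit 2), (ndBr0_2, nat_lit 1)],
  [(ndBr1_0, nat_lit 0), (ndBr1_1, nat_lit 1), (ndBr1_2, nat_lit 3), (ndBr1_3, nat_lit 1), (ndBr1_4, nat_lit 4), (ndBr1_5, nat_lit 2), (ndBr1_6, nat_lit 1)],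
  [(ndBr2_0, nat_lit 2), (ndBr2_1, nat_lit 0), (ndBr2_2, nat_lit 1), (ndBr2_3, nat_lit 3), (ndBr2_4, nat_lit 2)],
  [(ndBr3_0, nat_lit 3), (ndBr3_1, nat_lit 3), (ndBr3_2, nat_lit 1), (ndBr3_3, nat_lit 3), (ndBr3_4, nat_lit 2), (ndBr3_5, nat_lit 4)],
  [(ndBr4_0, nat_lit 1), (ndBr4_1, nat_lit 4), (ndBr4_2, nat_lit 4), (ndBr4_3, nat_lit 3), (ndBr4_4, nat_lit 4)]]

def matB : List (List ℕ) := [
  [1782, 41472, 49896, 0, 0],
  [1, 5391, 462, 42240, 45056],
  [63, 24192, 4383, 64512, 0],
  [0, 2160, 63, 26415, 64512],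
  [0, 891, 0, 24948, 67311]]

end

end CF.Mon
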