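import Cfsg.Agent.Mon.Loc3
import Cfsg.Agent.S1553
import Cfsg.Agent.S0381

/-! Labels of the sublattice `√2 E₈` on an octad: coordinates, short representatives, fixer. -/

set_option autoImplicit false
set_option maxHeartbeats 400000

namespace CF.Mon.L

open Cfsg Subgroup CF.Leech CF.Comp Lab CF.Known.Mon MulAction CF.LX CF.Loc CF.Even CF.Mon.G
open Function Sum
open scoped Pointwise

abbrev V10 : Type := Fin 5 ⊕ Fin 5 → ZMod 2

/-- coordinates on the labels of the sublattice -/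
def e9 (v : V10) : Lab := ⟨fun k => if k = 0 then v (inr 1) else 0,
  ![0, v (inl 2) + v (inr 3) + v (inr 4), v (inl 2) + v (inl 3) + v (inr 2) + v (inr 3) + v (inr 4),
    v (inl 2) + v (inl 3) + v (inl 4), v (inl 3) + v (inl 4), v (inl 2) + v (inl 3),
    v (inl 2) + v (inl 4) + v (inr 2) + v (inr 4), v (inl 4) + v (inr 2),
    v (inl 2) + v (inl 3) + v (inr 3), v (inl 3), v (inl 2) + v (inl 3) + v (inr 4),
    v (inl 1) + v (inr 1)], v (inl 0) + v (inl 1)⟩

def d9 (p : Lab) : V10 := Sum.elim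
  ![p.s + p.b 11 + p.a 0, p.b 11 + p.a 0, p.b 5 + p.b 9, p.b 9, p.b 4 + p.b 9]
  ![0, p.a 0, p.b 7 + p.b 4 + p.b 9, p.b 8 + p.b 5, p.b 10 + p.b 5]

theorem z2two : (2 : ZMod 2) = 0 := rfl

theorem d9_e9 (v : V10) : d9 (e9 v) = update v (inr 0) 0 := by
  funext i
  rcases i with i | i <;> fin_cases i <;> simp [d9, e9] <;> grind

theorem e9_update (v : V10) (z : ZMod 2) : e9 (update v (inr 0) z) = e9 v := by simp [e9]

theorem e9_b0 (v : V10) : (e9 v).b 0 = 0 := rfl

theorem e9_a (v : V10) {k : Fin 12} (h : k ≠ 0) : (e9 v).a k = 0 := if_neg h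

theorem dot_a0 {a b : Ix} (h : ∀ k ≠ 0, a k = 0) : b ⬝ᵥ a = b 0 * a 0 :=
  Finset.sum_eq_single 0 (fun k _ e => by rw [h k e, mul_zero]) (by simp)

theorem e9_add (u v : V10) : e9 (u + v) = e9 u * e9 v := by
  refine Lab.ext (funext fun k => ?_) (funext fun k => ?_) ?_
  · by_cases h : k = 0 <;> simp [e9, h]
  · fin_cases k <;> simp [e9] <;> ring
  · rw [mul_s, dot_a0 fun k => e9_a v, e9_b0]; simp [e9]; ring

def R9 : Subgroup Lab := rng e9 e9_add

theorem e9_mem (v : V10) : e9 v ∈ R9 := ⟨v, rfl⟩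

theorem mem_R9 {p : Lab} : p ∈ R9 ↔ e9 (d9 p) = p :=
  ⟨by rintro ⟨v, rfl⟩; rw [d9_e9, e9_update], fun h => ⟨_, h⟩⟩

theorem mem_R9_of {p : Lab} (ha : ∀ k ≠ 0, p.a k = 0) (h0 : p.b 0 = 0)
    (h1 : p.b 1 + p.b 5 + p.b 8 + p.b 9 + p.b 10 = 0)
    (h2 : p.b 2 + p.b 4 + p.b 5 + p.b 7 + p.b 8 + p.b 9 + p.b 10 = 0)
    (h3 : p.b 3 + p.b 4 + p.b 5 + p.b 9 = 0) (h6 : p.b 6 + p.b 7 + p.b 9 + p.b 10 = 0) :
    p ∈ R9 := by
  refine mem_R9.2 (Lab.ext (funext fun k => ?_) (funext fun k => ?_) ?_)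
  · by_cases h : k = 0 <;> simp [e9, d9, h, ha]
  · fin_cases k <;> simp [e9, d9] <;> grind
  · simp [e9, d9]; grind

theorem card_R9 : Nat.card R9 = 2 ^ 9 := by
  have := Nat.card_eq_of_bijective (fun v : V10 => ((⟨_, e9_mem v⟩, v (inr 0)) : R9 × ZMod 2))
    ⟨fun u v h => by
      have a := congrArg (fun p => update (d9 p.1.1) (inr 0) p.2) h
      simpa [d9_e9] using a, by
      rintro ⟨⟨_, v, rfl⟩, z⟩
      exact ⟨update v (inr 0) z, by simp [e9_update]⟩⟩
  rw [Nat.card_prod, Nat.card_fun, Nat.card_zmod, Nat.card_sum, Nat.card_fin] at this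
  omega

theorem e9_zero : e9 0 = 1 := by decide +kernel
theorem e9_x : e9 (Pi.single (inl 0) 1) = xc := by decide +kernel
theorem e9_Y : e9 (Pi.single (inl 1) 1) = Y0 := by decide +kernel
theorem e9_s : e9 (Pi.single (inr 1) 1) = Z 11 * X 0 := by decide +kernel
theorem xc_R9 : xc ∈ R9 := e9_x ▸ e9_mem _
theorem Z11_R9 : Z 11 ∈ R9 := mem_R9.2 (by decide +kernel)
theorem X0_R9 : X 0 ∈ R9 := mem_R9.2 (by decide +kernel)

theorem ind_R9 {P : Lab → Prop} (h1 : P 1) (hm : ∀ p q, P p → P q → P (p * q))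
    (hs : ∀ i, P (e9 (Pi.single i 1))) : ∀ p ∈ R9, P p := by
  rintro _ ⟨v, rfl⟩
  exact ind2 (P := fun v => P (e9 v)) (e9_zero ▸ h1) (fun u v a b => e9_add u v ▸ hm _ _ a b) hs _

/-! ### short representatives -/

def TB : ℕ := 0x5535535155355355553535335535353753555333535553375355355153553555555333355553333155535557555355535333335753333353533355355333553144644644446442444464646244646466464446624644466646446444464424446664444266644446444644464446444264444464644444246444664264446646553355335533553755333355553333515353555153535555535333375353333355553557555535535555533155555335533535355335353153355353533553574466446244664466664444626644446646464444464244446464444464244444444464464444644244444664444446246446464264464646466446424664464653333555533335515333533753335333555335335553353755535351555353555355553153555535535533535355335755355557553555535535333555353331644446626444466664446444644424444446646244466466444646444446424446444464464444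2446446642464466464464444644644442664644426646444653353337533533335335555153355555555533515555335555555537555555335353535353535357535335355353353155335335553353315533355355333557644644446442444446644444462444444444664444446244444444664444446246464642464646466464464264644646664464426644644644666442446664465553335355533357555355315553553553333331533333355333555353335557553553335535533755353551553535555355535153555355535535335355353744466642444666464446446444464424644444466444444246664442466644464464466244644666446464444464244446444644464442444644646246446466555535315555353555555357555553535335355353353557533553355335533155335551553355555533333755333333535355335353553753533355535333514444646444446424444446464444464246646442466464466446644264466446446644444462444466444444624444444646446246464466646444626464446653555557535555535355333553553331553555315535553555353353553533575333353753333533533353555333535155533551555335555553533355535337464444464644444264664442646644464464446444644424446466424464664664444644644442446444646264446466444664444446244444464662444646665353533553535331535335535353355755335353553353575533353555333531533533555335335153355533533555375555333355553337555555555555555164646442646464464646644246466446446646424466464666444642664446466446446264464466466444624664446644446662444466664444444844444444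

noncomputable def tabN (v : V10) : ℕ := 0x422108210882208842108421084208 +
  sumLt 8 fun j => (2 * ((TB >>> (4 * (j + 8 * ((v (inl 1)).val + 2 * (v (inl 2)).val +
    4 * (v (inl 3)).val + 8 * (v (inl 4)).val + 16 * (v (inr 1)).val + 32 * (v (inr 2)).val +
    64 * (v (inr 3)).val + 128 * (v (inr 4)).val)))) % 16)) <<< (5 * ap 0xbda5183980 j)

def vF (a n : ℕ) : ℤ := (ap a n : ℤ) - 16

noncomputable def clsD (a : ℕ) : Lab :=
  ⟨(clsF (vF a)).a, fun k => toZ (dotV a (nth 0 uL k)) 3, 0⟩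

theorem vl_pt {a : ℕ} (h : isL a = true) : ∀ n < 24, (vl a h : V) (pt n) = vF a n := fun n hn => by
  rw [vF, ← idx_pt hn, pt_idx]; rfl

theorem cls_vl {a : ℕ} (h : isL a = true) : cls (vl a h) = clsD a := by
  refine Lab.ext (congrArg Lab.a (cls_eq_clsF (vl_pt h)) :) (funext fun k => ?_) rfl
  have e := dotV_eq a (nth 0 uL k)
  have d := dvd_dt (vl a h) (uV k)
  rw [cls_b, clsD]
  rw [dt, uV_coe, show (vl a h : V) = Leech.vec a from rfl] at d
  simp only [toZ, Nat.testBit_eq_decide_div_mod_eq, decide_eq_true_eq]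
  split_ifs with c
  · exact (d8_eq_iff (n := 1)).2 (by rw [dt, uV_coe, show (vl a h : V) = Leech.vec a from rfl]; omega)
  · exact (d8_eq_iff (n := 0)).2 (by rw [dt, uV_coe, show (vl a h : V) = Leech.vec a from rfl]; omega)

noncomputable def tabP (v : V10) (a : ℕ) : Prop := isL a = true ∧ clsD a ≈ₗ e9 v ∧
  allLt 24 (fun n => Bool.rec (Nat.beq (ap a n) 16) true ((13062145).testBit n)) = true ∧
  (a = 0x842108421084210842108421084210 ∨
    (dotV a a, ∑ i : Fin 4, v (inl i.succ) * v (inr i.succ)) ∈ [(32800, (1 : ZMod 2)), (32832, 0)])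

noncomputable instance decTabP (v : V10) (a : ℕ) : Decidable (tabP v a) :=
  inferInstanceAs (Decidable (_ ∧ _))

theorem tab_check : ∀ a b c d e f g h : ZMod 2,
    force (tabN (Sum.elim ![0, a, b, c, d] ![0, e, f, g, h])) (fun n =>
      decide (tabP (Sum.elim ![0, a, b, c, d] ![0, e, f, g, h]) n)) = true := by
  decide +kernel

/-- supported on the first octad -/
def OnO (u : LL) : Prop := ∀ i ∉ o1, (u : V) i = 0

theorem pt_mem_o1 {n : ℕ} (h : n < 24) : pt n ∈ o1 ↔ (13062145).testBit n = true := by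
  rw [o1, pt_mem_ofMask h, show enc 1 = 13062145 by decide +kernel]

theorem tab_P (v : V10) : tabP v (tabN v) := by
  have := tab_check (v (inl 1)) (v (inl 2)) (v (inl 3)) (v (inl 4)) (v (inr 1)) (v (inr 2))
    (v (inr 3)) (v (inr 4))
  rw [force_eq, decide_eq_true_eq] at this
  exact ⟨this.1, this.2.1, this.2.2.1, this.2.2.2.imp id (by simp only [Fin.sum_univ_four]; exact id)⟩

theorem tabP.vl {v : V10} {a : ℕ} (h : tabP v a) : e9 v ≈ₗ cls (vl a h.1) ∧ OnO (vl a h.1) ∧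
    (e9 v ≈ₗ 1 ∨ (nm (vl a h.1), ∑ i : Fin 4, v (inl i.succ) * v (inr i.succ)) ∈
      [((32 : ℤ), (1 : ZMod 2)), (64, 0)]) := by
  obtain ⟨h, e, b, c⟩ := h
  refine ⟨by rw [cls_vl]; exact e.symm, fun i hi => ?_, c.imp (fun c => ?_) fun c => ?_⟩
  · rw [← pt_idx i] at hi ⊢
    have := allLt_iff.1 b _ (idx_lt i)
    rw [pt_mem_o1 (idx_lt i), Bool.not_eq_true] at hi
    rw [hi, Nat.beq_eq] at this
    rw [vl_pt h _ (idx_lt i), vF, this]
    rfl
  · exact e.symm.trans (by rw [c]; decide +kernel)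
  · have := dotV_eq a a
    rw [← dt_self, dt, show (Leech.vl a h : V) = Leech.vec a from rfl]
    simp only [List.mem_cons, Prod.mk.injEq, List.not_mem_nil, or_false] at c ⊢
    exact c.imp (And.imp (by omega) id) (And.imp (by omega) id)

/-! ### monomial elements -/

def oP : Fin 8 → Pt := fun k => pt (ap 0xbda5183980 k)

theorem oP_inj : Injective oP := by decide +kernel

theorem mem_o1 {i : Pt} : i ∈ o1 ↔ ∃ k, oP k = i := by revert i; decide +kernel

def v8 (n : ℕ) : V10 :=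
  Sum.elim ![0, toZ n 0, toZ n 1, toZ n 2, toZ n 3] ![0, toZ n 4, toZ n 5, toZ n 6, toZ n 7]

/-- the coordinates of the duads through a point of the octad -/
def vv (k : Fin 8) : V10 := v8 (![76, 196, 0, 138, 168, 238, 98, 38] k)

theorem cls_m4_oP (k : Fin 8) : cls (m4 (oP k) (oP 2)) = e9 (vv k) := by
  refine (cls_eq_clsF fun n hn => m4_pt _ _ (by revert k; decide) (by decide) hn).trans ?_
  revert k
  decide +kernel

theorem mono_m4_gen {σ : Equiv.Perm Pt} {c : Finset Pt} (hσ : σ ∈ M24) (hc : c ∈ CS) {i j k l : Pt}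
    (hij : i ≠ j) (hkl : k ≠ l) (h : mono hσ hc • red (m4 i j) = red (m4 k l)) :
    (σ i = k ∨ σ i = l) ∧ (σ j = k ∨ σ j = l) := by
  have key : ∀ r, (m4 i j : V) r ≠ 0 → σ r = k ∨ σ r = l := fun r hr => by
    have h1 := mono_apply hσ hc (m4 i j) r
    by_contra hn
    push Not at hn
    rw [← red_smul] at h
    rcases eq_or_neg_of_red (by rw [co_nm, nm_m4 hij]; norm_num) (by rw [nm_m4 hkl]; norm_num) h
      with e | e <;> rw [e] at h1 <;> split_ifs at h1 <;> simp [m4_apply, hn.1, hn.2] at h1 hr <;>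
      omega
  exact ⟨key i (by simp [m4_apply, hij]), key j (by simp [m4_apply, hij.symm])⟩

/-- the code words constant on the octad -/
def D6 : Set (Finset Pt) := {c | c ∈ CS ∧ ∀ k, oP k ∈ c ↔ oP 2 ∈ c}

theorem mono_of_vv {σ : Equiv.Perm Pt} {c : Finset Pt} (hσ : σ ∈ M24) (hc : c ∈ CS)
    (h : ∀ k, mono hσ hc • lam (e9 (vv k)) = lam (e9 (vv k))) : (∀ i ∈ o1, σ i = i) ∧ c ∈ D6 := by
  simp only [← cls_m4_oP, lam_cls] at h
  have k := fun k (e : k ≠ 2) => mono_m4 hσ hc (oP_inj.ne e) (h k)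
  have a : σ (oP 2) = oP 2 := (k 0 (by decide)).2.1.elim (fun x => (k 1 (by decide)).2.1.elim
    (fun y => absurd (oP_inj (x.symm.trans y)) (by decide)) id) id
  have b : ∀ j, σ (oP j) = oP j := fun j => by
    by_cases e : j = 2
    exacts [e ▸ a, (k j e).1.resolve_right fun x => e (oP_inj (σ.injective (x.trans a.symm)))]
  refine ⟨fun i hi => (mem_o1.1 hi).elim fun j e => e ▸ b j, hc, fun j => ?_⟩
  by_cases e : j = 2
  exacts [e ▸ Iff.rfl, b j ▸ a ▸ (k j e).2.2]

theorem mono_onO {σ : Equiv.Perm Pt} {c : Finset Pt} (hσ : σ ∈ M24) (h1 : ∀ i ∈ o1, σ i = i)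
    (hc : c ∈ D6) {u : LL} (hu : OnO u) : mono hσ hc.1 • red u = red u := by
  have f : ∀ i, i ∉ o1 → σ i ∉ o1 := fun i a b => a (σ.injective (h1 _ b) ▸ b)
  rw [← red_smul]
  by_cases e : oP 2 ∈ c
  · rw [← red_neg u]
    refine congrArg _ (LL.ext (σ.surjective.forall.2 fun i => ?_))
    rw [mono_apply, AddSubgroup.coe_neg, Pi.neg_apply]
    by_cases a : i ∈ o1
    · obtain ⟨k, rfl⟩ := mem_o1.1 a
      rw [h1 _ a, if_pos ((hc.2 k).2 e)]
    · simp [hu i a, hu _ (f i a)]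
  · refine congrArg _ (LL.ext (σ.surjective.forall.2 fun i => ?_))
    rw [mono_apply]
    by_cases a : i ∈ o1
    · obtain ⟨k, rfl⟩ := mem_o1.1 a
      rw [h1 _ a, if_neg (mt (hc.2 k).1 e)]
    · simp [hu i a, hu _ (f i a)]

theorem mono_mem_R9 {σ : Equiv.Perm Pt} {c : Finset Pt} (hσ : σ ∈ M24) (hc : c ∈ CS) :
    mono hσ hc ∈ (Fx R9).map gOf ↔ (∀ i ∈ o1, σ i = i) ∧ c ∈ D6 := by
  rw [mem_map_Fx xc_R9]
  refine ⟨fun h => mono_of_vv hσ hc fun k => h _ (e9_mem _), ?_⟩
  rintro h _ ⟨v, rfl⟩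
  obtain ⟨a, b, -⟩ := (tab_P v).vl
  rw [lam_eq.2 a]
  exact mono_onO hσ h.1 h.2 b

theorem d6_iff {m : ℕ} (h : isCode m = true) : (∀ k, oP k ∈ ofMask m ↔ oP 2 ∈ ofMask m) ↔
    allLt 8 (fun k => m.testBit (ap 0xbda5183980 k) == m.testBit 14) = true := by
  have a : ∀ k : Fin 8, ap 0xbda5183980 k < 24 := by decide
  simp only [oP, pt_mem_ofMask (a _), allLt_iff, beq_iff_eq, ← Bool.eq_iff_iff]
  exact ⟨fun h k hk => h ⟨k, hk⟩, fun h k => h k k.2⟩

theorem ncard_D6 : D6.ncard = 64 := (ncard_CS fun _ => d6_iff).trans (by decide +kernel)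

theorem Fx_R9_le : Fx R9 ≤ Np := fun _ h => mem_Np.2 (h _ Z11_R9)

theorem card_Fx_R9 : Nat.card (Fx R9) = 2 ^ 27 := by
  have a := card_comap_Fx xc_R9
  have b : Nat.card ((Fx R9).map gOf) = 64 * 16 := by
    rw [← ncard_D6, ← (Cfsg.Agent.S0381.result _ o1_mem).1, ← Nat.card_coe_set_eq, ← Nat.card_prod]
    symm
    refine Nat.card_eq_of_bijective (fun p => ⟨mono p.2.2.1 p.1.2.1, (mono_mem_R9 _ _).2
      ⟨fun i hi => p.2.2.2 ⟨i, hi⟩, p.1.2⟩⟩) ⟨fun p q h => ?_, ?_⟩
    · have := mono_inj p.2.2.1 p.1.2.1 q.2.2.1 q.1.2.1 (congrArg Subtype.val h)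
      exact Prod.ext (Subtype.ext this.2) (Subtype.ext this.1)
    · rintro ⟨_, γ, a, rfl⟩
      obtain ⟨σ, c, hσ, hc, e⟩ := Np_mon (Fx_R9_le a)
      have := (mono_mem_R9 hσ hc).1 ⟨γ, a, e⟩
      exact ⟨(⟨c, this.2⟩, ⟨σ, hσ, fun i => this.1 i i.2⟩), Subtype.ext e.symm⟩
  rw [card_R9] at a
  rw [card_sub, b]
  omega

theorem eps_const {c : Finset Pt} (hc : c ∈ CS) (h : ∀ i, i ∈ c ↔ pt 1 ∈ c) :
    eps hc = 1 ∨ eps hc = negCo := by
  by_cases a : pt 1 ∈ c
  · obtain rfl : c = Finset.univ := Finset.eq_univ_of_forall fun i => (h i).2 a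
    exact Or.inr mono_neg
  · obtain rfl : c = ∅ := Finset.eq_empty_of_forall_notMem fun i b => a ((h i).1 b)
    exact Or.inl mono_one

theorem p1_o1 : pt 1 ∉ o1 := by decide +kernel

/-- central modulo the extraspecial group -/
def PMy (γ : Gt) : Prop := (gOf γ = 1 ∨ gOf γ = negCo) ∨
  (gOf (γ * yE.val) = 1 ∨ gOf (γ * yE.val) = negCo)

theorem pmy_of {γ : Gt} {c : Finset Pt} (hc : c ∈ D6) (e : gOf γ = eps hc.1)
    (h : ∀ i ∉ o1, i ∈ c ↔ pt 1 ∈ c) : PMy γ := by
  rw [PMy, map_mul, e, gOf_yE, eps_mul]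
  by_cases a : oP 2 ∈ c ↔ pt 1 ∈ c
  · refine Or.inl (eps_const _ fun i => ?_)
    by_cases b : i ∈ o1
    exacts [(mem_o1.1 b).elim fun k e => e ▸ (hc.2 k).trans a, h i b]
  · refine Or.inr (eps_const _ fun i => ?_)
    have := p1_o1
    by_cases b : i ∈ o1
    · obtain ⟨k, rfl⟩ := mem_o1.1 b
      have := hc.2 k
      simp only [Finset.mem_symmDiff]
      tauto
    · have := h i b
      simp only [Finset.mem_symmDiff]
      tauto

def t16 : List ℕ := [0, 0xbdab49ca307b9ac5a928398a418820, 0xbd933a4a303b88c41aab7a86d28440,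
  0xbd9ea34a30ab96c6d0e44cc4809460, 0xbd94f3ca30a384c2d4c39a56143480,
  0xbd8e654a304b90c24dedad02b10ca0, 0xbd9a51ca305baac78887406899a8c0,
  0xbd8ad24a3013a8c52c660a2b34bce0, 0xbda954ca30538ac13e6131da322d00,
  0xbd84b44a302b94ca3433191e63d520, 0xbd8832ca304392c385af58a75a1940,
  0xbda69aca303386c09e8253c856a160, 0, 0xbd8c77ca309b82c1a545a5502591a0, 0,
  0xbd8646ca300ba6c320aa12d34a9de0, 0, 0, 0, 0xbd9620ca306b9eca950920d4735260,
  0xbd90114a30238ec48d75694cf54e80, 0xbd8285ca301b8cc990542b4ea7a6a0]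

set_option maxRecDepth 100000 in
theorem t16_check : ∀ q < 24, (13062145).testBit q = false → isM24 (nth 0 t16 q) = true ∧
    (∀ k < 8, ap (nth 0 t16 q) (ap 0xbda5183980 k) = ap 0xbda5183980 k) ∧
    ap (nth 0 t16 q) 1 = q ∧ force (nth 0 t16 q) (fun g => allLt 4096 fun k => force (enc k) fun m =>
      Bool.rec true (allLt 24 fun n => (13062145).testBit n ||
        (Nat.xor m (img (ap g) m)).testBit n == (Nat.xor m (img (ap g) m)).testBit 1)
        (allLt 8 fun k => m.testBit (ap 0xbda5183980 k) == m.testBit 14)) = true := by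
  decide +kernel

theorem pmy_sq {γ : Gt} (h : γ ∈ Fx R9) : PMy (γ * γ) := by
  obtain ⟨σ, c, hσ, hc, e⟩ := Np_mon (Fx_R9_le h)
  obtain ⟨a, b⟩ := (mono_mem_R9 hσ hc).1 ⟨γ, h, e⟩
  have s := (Cfsg.Agent.S0381.result _ o1_mem).2 σ ⟨hσ, fun i => a i i.2⟩
  have e' : gOf (γ * γ) = eps (symmDiff_mem_CS hc (smul_mem_CS hσ hc)) := by
    rw [map_mul, e, mono_mul, eps]; congr 1
  refine pmy_of ((mono_mem_R9 _ _).1 ⟨_, mul_mem h h, e'⟩).2 e' fun i hi => ?_
  have f : σ (pt 1) ∉ o1 := fun b => p1_o1 (σ.injective (a _ b) ▸ b)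
  rw [← pt_idx (σ _), pt_mem_o1 (idx_lt _), Bool.not_eq_true] at f
  obtain ⟨c1, c2, c3, c4⟩ := t16_check _ (idx_lt _) f
  generalize nth 0 t16 _ = g at c1 c2 c3 c4
  have p := permCheck_of_isM24 c1
  obtain rfl : permOf g = σ := inv_mul_eq_one.1 (fix9
    (mul_mem (inv_mem (permOf_mem_M24 c1)) hσ) o1_mem p1_o1 (fun i hi => by
      obtain ⟨k, rfl⟩ := mem_o1.1 hi
      rw [Equiv.Perm.mul_apply, a _ hi, Equiv.Perm.inv_eq_iff_eq, oP,
        permOf_pt p (by revert k; decide), c2 k k.2]) (by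
      rw [Equiv.Perm.mul_apply, Equiv.Perm.inv_eq_iff_eq, permOf_pt p (by norm_num), c3, pt_idx]))
  obtain ⟨k, hk, rfl⟩ := exists_enc_of_mem_CS hc
  rw [force_eq] at c4
  have := allLt_iff.1 c4 k hk
  rw [force_eq, (d6_iff (isCode_enc hk)).1 b.2] at this
  have := allLt_iff.1 this _ (idx_lt i)
  rw [← pt_idx i, pt_mem_o1 (idx_lt _), Bool.not_eq_true] at hi
  rw [hi, Bool.false_or, beq_iff_eq] at this
  rw [permOf_smul_ofMask p, ← ofMask_xor, ← pt_idx i, pt_mem_ofMask (idx_lt _),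
    pt_mem_ofMask (by norm_num), this]

/-- no element of the Mathieu group induces a transposition on an octad -/
theorem not_swap {σ : Equiv.Perm Pt} (hσ : σ ∈ M24) :
    ¬ ∀ k, σ (oP k) = oP (Equiv.swap 0 1 k) := fun h => by
  have m : ∀ k, oP k ∈ o1 := fun k => mem_o1.2 ⟨k, rfl⟩
  have a : ∀ x, σ x ∈ o1 ↔ x ∈ o1 := fun x => ⟨fun hx => by
    obtain ⟨k, e⟩ := mem_o1.1 hx
    rw [← Equiv.swap_apply_self 0 1 k, ← h, σ.injective.eq_iff] at e
    exact e ▸ m _, fun hx => (mem_o1.1 hx).elim fun k e => e ▸ h k ▸ m _⟩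
  have b : σ.subtypePerm a ∈ alternatingGroup o1 :=
    (Cfsg.Agent.S1553.result _ o1_mem).le ⟨σ, hσ, a, rfl⟩
  have c : σ.subtypePerm a = Equiv.swap ⟨_, m 0⟩ ⟨_, m 1⟩ := Equiv.ext fun ⟨x, hx⟩ => by
    obtain ⟨k, rfl⟩ := mem_o1.1 hx
    exact Subtype.ext ((h k).trans (congrArg Subtype.val (Injective.map_swap
      (f := fun k => (⟨oP k, m k⟩ : o1)) (fun _ _ e => oP_inj (congrArg Subtype.val e)) 0 1 k)))
  rw [Equiv.Perm.mem_alternatingGroup, c, Equiv.Perm.sign_swap fun e =>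
    absurd (oP_inj (a₁ := 0) (a₂ := 1) (congrArg Subtype.val e)) (by decide)] at b
  exact absurd b (by decide)

theorem not_refl {γ : Gt} (h : γ ∈ Np) :
    ¬ ∀ k, γ • e9 (vv k) ≈ₗ e9 (vv (Equiv.swap 0 1 k)) := fun H => by
  obtain ⟨σ, c, hσ, hc, e⟩ := Np_mon h
  simp only [← cls_m4_oP, smul_eqv_iff (Eqv.refl _) (Eqv.refl _), e] at H
  have s : ∀ k : Fin 8, k ≠ 2 → Equiv.swap 0 1 k ≠ 2 := by decide
  have k := fun k (e : k ≠ 2) => mono_m4_gen hσ hc (oP_inj.ne e) (oP_inj.ne (s k e)) (H k)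
  have a : σ (oP 2) = oP 2 := (k 0 (by decide)).2.elim (fun x => (k 1 (by decide)).2.elim
    (fun y => absurd (oP_inj (x.symm.trans y)) (by decide)) id) id
  refine not_swap hσ fun j => ?_
  by_cases e : j = 2
  exacts [e ▸ a, (k j e).1.resolve_right fun x => e (oP_inj (σ.injective (x.trans a.symm)))]

/-! ### two conjugates of Conway's element -/

noncomputable def xwF (a b : ℕ) (f : ℕ → ℤ) (n : ℕ) : ℤ :=
  xiF (fun p => f (ap b (ap ordC p))) (ap ordI (ap a n))

theorem inv_pt {a : ℕ} (ha : isM24 a = true) {x : LL} {f : ℕ → ℤ}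
    (h : ∀ n < 24, (x : V) (pt n) = f n) :
    ∀ n < 24, ((permHom ⟨_, permOf_mem_M24 ha⟩⁻¹ • x : LL) : V) (pt n) = f (ap a n) := fun n hn => by
  have p := permCheck_of_isM24 ha
  rw [permHom_smul, ← h _ (idx_permOf p n hn ▸ idx_lt _), ← permOf_pt p hn]
  rfl

theorem exists_xw {a b : ℕ} (h : isM24 a = true ∧ isM24 b = true ∧ ∀ i, e9 (d9 (clsF (xwF a b
    (vF (tabN (Pi.single i 1)))))) = clsF (xwF a b (vF (tabN (Pi.single i 1))))) :
    ∃ δ : Gt, (∀ p ∈ R9, δ • p ∈ R9) ∧ ∃ g : Co0, gOf δ = g ∧ ∀ (x : LL) (f : ℕ → ℤ),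
      (∀ n < 24, (x : V) (pt n) = f n) → ∀ n < 24, ((g • x : LL) : V) (pt n) = xwF a b f n := by
  obtain ⟨δ, e⟩ := gOf_surjective
    (permHom ⟨_, permOf_mem_M24 h.1⟩⁻¹ * xi * permHom ⟨_, permOf_mem_M24 h.2.1⟩⁻¹)
  have k : ∀ (x : LL) (f : ℕ → ℤ), (∀ n < 24, (x : V) (pt n) = f n) →
      ∀ n < 24, ((gOf δ • x : LL) : V) (pt n) = xwF a b f n := fun x f hx => by
    rw [e, mul_smul, mul_smul]
    exact inv_pt h.1 (xi_pt (inv_pt h.2.1 hx))
  refine ⟨δ, ind_R9 (by simp [one_mem]) (fun p q a b => smul_mul' δ p q ▸ mul_mem a b) fun i => ?_,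
    _, rfl, k⟩
  refine mem_of_eqv xc_R9 (((tab_P _).vl.1.smul δ).trans (smul_cls _ _)) (mem_R9.2 ?_)
  rw [cls_eq_clsF (k _ _ (vl_pt _))]
  exact h.2.2 i

theorem exists_two : ∃ δ ε : Gt, (∀ p ∈ R9, δ • p ∈ R9) ∧ (∀ p ∈ R9, ε • p ∈ R9) ∧
    (ε • δ • Y0).a 0 = 1 ∧ δ • (Z 5 * Z 1) ≈ₗ lab 0x1de722 ∧ δ • (Z 5 * Z 2) ≈ₗ lab 0x2f07b4 ∧
    ε • (Z 9 * Z 3) ≈ₗ lab 0x388238 ∧ ε • (Z 9 * Z 6) ≈ₗ lab 0x3786c0 := by
  obtain ⟨δ, a, g, e, b⟩ := exists_xw (a := 0x60da549d423016193e1375511a5ec4)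
    (b := 0x104c342c8951eb76c66593e80b418e) (by decide +kernel)
  obtain ⟨ε, c, g', e', d⟩ := exists_xw (a := 0x208b171c616816a452ef95526b426c)
    (b := 0x48cca09e8244de06b0ab912b78da0e) (by decide +kernel)
  have k : ∀ (γ : Gt) {a b : ℕ}, (∀ (x : LL) (f : ℕ → ℤ), (∀ n < 24, (x : V) (pt n) = f n) →
      ∀ n < 24, ((gOf γ • x : LL) : V) (pt n) = xwF a b f n) → ∀ i j : Fin 12,
      γ • (Z i * Z j) ≈ₗ clsF (xwF a b fun n => wF i n + wF j n) := fun γ _ _ h i j => by
    rw [← cls_wV, ← cls_wV]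
    refine ((cls_add _ _).symm.smul γ).trans ((smul_cls _ _).trans ?_)
    rw [cls_eq_clsF (h _ _ fun n hn => by
      rw [AddSubgroup.coe_add, Pi.add_apply, wV_pt _ hn, wV_pt _ hn])]
    exact Eqv.refl _
  subst e e'
  refine ⟨δ, ε, a, c, ?_, (k δ b _ _).trans (by decide +kernel),
    (k δ b _ _).trans (by decide +kernel),
    (k ε d _ _).trans (by decide +kernel),
    (k ε d _ _).trans (by decide +kernel)⟩
  have y : Y0 ≈ₗ cls (e8 (pt 0)) := by rw [cls_e8]; exact xc_eqv _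
  rw [((((y.smul δ).trans (smul_cls _ _)).smul ε).trans (smul_cls _ _)).1,
    cls_eq_clsF (d _ _ (b _ _ (e8_pt 0 (by norm_num))))]
  decide +kernel

end CF.Mon.L
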