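import Cfsg.Agent.Mon.Dc2
import Cfsg.Agent.Mon.DcB

/-! Elements of `Gt` used in the identification of the presented groups. -/

set_option autoImplicit false
set_option maxRecDepth 100000

namespace CF.Mon

open CF.Comp Lab

noncomputable section

def gP : El := ⟨[nat_lit 0xc0caf3a258790e33412ae79577b34ca80801], [nat_lit 65536, nat_lit 69632, nat_lit 77824, nat_lit 81920, nat_lit 86016, nat_lit 94208, nat_lit 98304, nat_lit 102400, nat_lit 106496, nat_lit 173056, nat_lit 169472, nat_lit 164864, nat_lit 161024, nat_lit 157952, nat_lit 153120, nat_lit 150560, nat_lit 144152, nat_lit 139424, nat_lit 139248, nat_lit 133771, nat_lit 2, nat_lit 6152, nat_lit 8200, nat_lit 12352, nat_lit 20288, nat_lit 22720, nat_lit 28160, nat_lit 30976, nat_lit 35328, nat_lit 39936, nat_lit 43008, nat_lit 41767, nat_lit 38255, nat_lit 33944, nat_lit 29047, nat_lit 24709, nat_lit 20738, nat_lit 16393, nat_lit 4097, nat_lit 2, nat_lit 327680]⟩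

def bP : El := ⟨[nat_lit 0x81772788c1321d4b63af62a0c97d68d0ca02, nat_lit 0x4ebddb23e6b345a8bd0163c9c961550106a3, nat_lit 0x665c5959635635e135912a4d243de0a0086e], [nat_lit 90112, nat_lit 98304, nat_lit 106496, nat_lit 110592, nat_lit 173056, nat_lit 168448, nat_lit 166144, nat_lit 162432, nat_lit 156864, nat_lit 151968, nat_lit 149968, nat_lit 144016, nat_lit 140348, nat_lit 138134, nat_lit 132648, nat_lit 2520, nat_lit 6616, nat_lit 10712, nat_lit 12896, nat_lit 18464, nat_lit 21184, nat_lit 29952, nat_lit 38912, nat_lit 43008, nat_lit 47086, nat_lit 43882, nat_lit 37169, nat_lit 32908, nat_lit 29044, nat_lit 24719, nat_lit 20485, nat_lit 16453, nat_lit 12423, nat_lit 8193, nat_lit 4097, nat_lit 434184, nat_lit 421893, nat_lit 409600, nat_lit 151936, nat_lit 147840, nat_lit 131216, nat_lit 45057, nat_lit 36865, nat_lit 8193, nat_lit 4097]⟩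

def gG : El := ⟨[nat_lit 0x9a5b531c64646c8bbe0b7495428440], [nat_lit 174080, nat_lit 162304, nat_lit 155776, nat_lit 150496, nat_lit 146064, nat_lit 141336, nat_lit 138692, nat_lit 133392, nat_lit 4, nat_lit 5276, nat_lit 9240, nat_lit 13456, nat_lit 16416, nat_lit 22080, nat_lit 26240, nat_lit 30208, nat_lit 34304, nat_lit 41615, nat_lit 37111, nat_lit 32961, nat_lit 28981, nat_lit 24639, nat_lit 20484, nat_lit 16448, nat_lit 12295, nat_lit 8202, nat_lit 4097, nat_lit 2]⟩

def bG1 : El := ⟨[nat_lit 0x556a0abee612e342b21272927234011cd16, nat_lit 0xc6030a026ed29e06a09ea75468b056c24e51, nat_lit 0x3ca9f53691ad8a2799c1424649ad9738212], [nat_lit 73728, nat_lit 86016, nat_lit 102400, nat_lit 174080, nat_lit 169472, nat_lit 166912, nat_lit 163456, nat_lit 157056, nat_lit 152864, nat_lit 150672, nat_lit 144784, nat_lit 140692, nat_lit 138498, nat_lit 132864, nat_lit 2064, nat_lit 6160, nat_lit 10256, nat_lit 14176, nat_lit 18432, nat_lit 21760, nat_lit 25088, nat_lit 31744, nat_lit 38912,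 nat_lit 46389, nat_lit 43951, nat_lit 38393, nat_lit 33358, nat_lit 29788, nat_lit 24724, nat_lit 20751, nat_lit 16452, nat_lit 12548, nat_lit 8194, nat_lit 4097, nat_lit 2, nat_lit 430088, nat_lit 421892, nat_lit 405504, nat_lit 160256, nat_lit 144000, nat_lit 131584, nat_lit 45336, nat_lit 41112, nat_lit 24577, nat_lit 20481, nat_lit 8193, nat_lit 4097, nat_lit 327680]⟩

def bG2 : El := ⟨[nat_lit 0x4b1b8b394665c5b465d53839157c93620801], [nat_lit 65536, nat_lit 69632, nat_lit 86016, nat_lit 94208, nat_lit 98304, nat_lit 102400, nat_lit 106496, nat_lit 175104, nat_lit 170496, nat_lit 164608, nat_lit 162048, nat_lit 159168, nat_lit 154016, nat_lit 151072, nat_lit 144912, nat_lit 141240, nat_lit 139014, nat_lit 132984, nat_lit 2, nat_lit 6656, nat_lit 8704, nat_lit 12448, nat_lit 18944, nat_lit 23552, nat_lit 27008, nat_lit 31744, nat_lit 34816, nat_lit 37888, nat_lit 41472, nat_lit 37071, nat_lit 32865, nat_lit 29193, nat_lit 24742, nat_lit 20544, nat_lit 16395, nat_lit 12307, nat_lit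 4097, nat_lit 2]⟩

/-- the third label -/
def t2L : Lab := lab 58800

end

theorem smul_of_evL {e : El} (o : okB e = true) {a b : ℕ} (h : evL 1 [e] a = b) :
    e.val • lab a = lab b := by
  have := lab_evL (l := [e]) (by simpa using okB_spec o) a
  rw [h] at this; simpa using this.symm

theorem lab_tA : lab 12288 = tA := by simp only [Lab.ext_iff]; decide +kernel
theorem lab_tB : lab 20480 = tB := by simp only [Lab.ext_iff]; decide +kernel
theorem lab_xAB : lab 16801792 = xc * tA * tB := by simp only [Lab.ext_iff]; decide +kernel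
theorem lab_yAB : lab 25190400 = Y0 * tA * tB := by simp only [Lab.ext_iff]; decide +kernel

theorem gP_okB : okB gP = true := by decide +kernel
theorem bP_okB : okB bP = true := by decide +kernel
theorem gG_okB : okB gG = true := by decide +kernel
theorem bG1_okB : okB bG1 = true := by decide +kernel
theorem bG2_okB : okB bG2 = true := by decide +kernel

theorem gP_spec : gP.Ok ∧ gP.val ∈ G.PA ∧ gP.val • tB = Y0 * tA * tB ∧
    gP.val • (Y0 * tA * tB) = tB ∧ gP.val • t2L = t2L := by
  refine ⟨okB_spec gP_okB, ?_, ?_, ?_, smul_of_evL gP_okB (by decide +kernel)⟩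
  · change _ • tA = tA
    rw [← lab_tA]; exact smul_of_evL gP_okB (by decide +kernel)
  · rw [← lab_yAB, ← lab_tB]; exact smul_of_evL gP_okB (by decide +kernel)
  · rw [← lab_yAB, ← lab_tB]; exact smul_of_evL gP_okB (by decide +kernel)

theorem bP_spec : bP.Ok ∧ bP.val ∈ G.PB ∧ bP.val • (Y0 * tA * tB) = t2L ∧
    bP.val • t2L = Y0 * tA * tB := by
  refine ⟨okB_spec bP_okB, ⟨?_, ?_⟩, ?_, ?_⟩
  · exact lab_tA ▸ smul_of_evL bP_okB (by decide +kernel)
  · exact lab_tB ▸ smul_of_evL bP_okB (by decide +kernel)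
  · rw [← lab_yAB]; exact smul_of_evL bP_okB (by decide +kernel)
  · rw [← lab_yAB]; exact smul_of_evL bP_okB (by decide +kernel)

theorem gG_spec : gG.Ok ∧ gG.val ∈ C0 ∧ gG.val • tA = tB ∧ gG.val • tB = tA := by
  refine ⟨okB_spec gG_okB, critB_spec (okB_spec gG_okB) (by decide +kernel), ?_, ?_⟩
  · rw [← lab_tA, ← lab_tB]; exact smul_of_evL gG_okB (by decide +kernel)
  · rw [← lab_tA, ← lab_tB]; exact smul_of_evL gG_okB (by decide +kernel)

theorem bG1_spec : bG1.Ok ∧ bG1.val ∈ G.PA ∧ bG1.val • tB = xc * tA * tB ∧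
    bG1.val • (xc * tA * tB) = tB := by
  refine ⟨okB_spec bG1_okB, ?_, ?_, ?_⟩
  · change _ • tA = tA
    rw [← lab_tA]; exact smul_of_evL bG1_okB (by decide +kernel)
  · rw [← lab_xAB, ← lab_tB]; exact smul_of_evL bG1_okB (by decide +kernel)
  · rw [← lab_xAB, ← lab_tB]; exact smul_of_evL bG1_okB (by decide +kernel)

theorem bG2_spec : bG2.Ok ∧ bG2.val ∈ G.PA ∧ bG2.val • tB = Y0 * tA * tB ∧
    bG2.val • (Y0 * tA * tB) = tB := by
  refine ⟨okB_spec bG2_okB, ?_, ?_, ?_⟩
  · change _ • tA = tA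
    rw [← lab_tA]; exact smul_of_evL bG2_okB (by decide +kernel)
  · rw [← lab_yAB, ← lab_tB]; exact smul_of_evL bG2_okB (by decide +kernel)
  · rw [← lab_yAB, ← lab_tB]; exact smul_of_evL bG2_okB (by decide +kernel)

end CF.Mon
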