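import Cfsg.Agent.Mon.YW

set_option autoImplicit false
set_option maxRecDepth 100000

namespace CF.Mon.Tr

open CF.Comp

noncomputable section

def p98 : AP := ⟨[nat_lit 25, nat_lit 638], [], (nat_lit 68), ⟨[nat_lit 80, nat_lit 55], [nat_lit 5, nat_lit 53], ⟨[nat_lit 0xb35027243429a6702eaf946041b157], [nat_lit 174080, nat_lit 167168, nat_lit 163072, nat_lit 159296, nat_lit 152928, nat_lit 147984, nat_lit 144056, nat_lit 143336, nat_lit 138884, nat_lit 132462, nat_lit 434, nat_lit 4964, nat_lit 8792, nat_lit 13984, nat_lit 18080, nat_lit 21696, nat_lit 26240, nat_lit 28928, nat_lit 33792, nat_lit 37888, nat_lit 41954, nat_lit 37020, nat_lit 33864, nat_lit 28936, nat_lit 25632, nat_lit 20510, nat_lit 16386, nat_lit 12290, nat_lit 8226, nat_lit 4097]⟩⟩⟩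
def p99 : AP := ⟨[nat_lit 636, nat_lit 21, nat_lit 31, nat_lit 23], [], (nat_lit 88), ⟨[nat_lit 0, nat_lit 30, nat_lit 57], [nat_lit 23, nat_lit 52], ⟨[nat_lit 0x790f39256e656f1195145582683440], [nat_lit 175104, nat_lit 168448, nat_lit 166656, nat_lit 163584, nat_lit 158336, nat_lit 152640, nat_lit 148928, nat_lit 144976, nat_lit 141316, nat_lit 138886, nat_lit 132080, nat_lit 1478, nat_lit 5568, nat_lit 8680, nat_lit 12704, nat_lit 17376, nat_lit 22080, nat_lit 25600, nat_lit 29952, nat_lit 33792, nat_lit 41913, nat_lit 38317, nat_lit 33943, nat_lit 28684, nat_lit 24594, nat_lit 20487, nat_lit 16460, nat_lit 12294, nat_lit 8193]⟩⟩⟩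
def p100 : AP := ⟨[nat_lit 109, nat_lit 652, nat_lit 113], [], (nat_lit 254), ⟨[nat_lit 0, nat_lit 11, nat_lit 53], [nat_lit 10, nat_lit 49], ⟨[nat_lit 0x220caad9cd3952b1c2628c8017d197], [nat_lit 173056, nat_lit 171008, nat_lit 164864, nat_lit 162816, nat_lit 156224, nat_lit 155392, nat_lit 150032, nat_lit 146536, nat_lit 140720, nat_lit 137092, nat_lit 133459, nat_lit 1354, nat_lit 4380, nat_lit 9928, nat_lit 14144, nat_lit 18400, nat_lit 22464, nat_lit 25216, nat_lit 30208, nat_lit 34304, nat_lit 37888, nat_lit 41831, nat_lit 36923, nat_lit 33932, nat_lit 29043, nat_lit 24636, nat_lit 20546, nat_lit 16385, nat_lit 12295, nat_lit 8195, nat_lit 4100, nat_lit 2]⟩⟩⟩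
def p101 : AP := ⟨[nat_lit 26, nat_lit 30, nat_lit 21, nat_lit 26], [], (nat_lit 88), ⟨[nat_lit 75, nat_lit 46], [nat_lit 0, nat_lit 75, nat_lit 70], ⟨[nat_lit 0x2052c6be938d403b9e4655a082896e], [nat_lit 175104, nat_lit 171520, nat_lit 166400, nat_lit 160000, nat_lit 158272, nat_lit 153984, nat_lit 148928, nat_lit 145504, nat_lit 140556, nat_lit 135326, nat_lit 132694, nat_lit 1530, nat_lit 5296, nat_lit 10088, nat_lit 14304, nat_lit 17952, nat_lit 21056, nat_lit 24832, nat_lit 28928, nat_lit 33792, nat_lit 41051, nat_lit 37096, nat_lit 32904, nat_lit 28744, nat_lit 24733, nat_lit 20494, nat_lit 16461, nat_lit 64]⟩⟩⟩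
def p102 : AP := ⟨[], [], (nat_lit 255), ⟨[nat_lit 0, nat_lit 38, nat_lit 52], [nat_lit 0, nat_lit 79, nat_lit 61], ⟨[nat_lit 0x5848d6186ab3dd0b94f31468095509], [nat_lit 174080, nat_lit 169472, nat_lit 165376, nat_lit 161536, nat_lit 157632, nat_lit 152256, nat_lit 148496, nat_lit 143584, nat_lit 140716, nat_lit 135886, nat_lit 131901, nat_lit 804, nat_lit 5316, nat_lit 8736, nat_lit 12992, nat_lit 16864, nat_lit 25600, nat_lit 30208, nat_lit 33792, nat_lit 41472, nat_lit 38088, nat_lit 32847, nat_lit 29288, nat_lit 24860, nat_lit 20617, nat_lit 16454, nat_lit 12321, nat_lit 8210, nat_lit 4101, nat_lit 4]⟩⟩⟩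
def p103 : AP := ⟨[nat_lit 109, nat_lit 649, nat_lit 130], [], (nat_lit 246), ⟨[nat_lit 0, nat_lit 15, nat_lit 94], [nat_lit 38, nat_lit 61], ⟨[nat_lit 0x40ec0b94eb71a42686648c155a31e9], [nat_lit 173056, nat_lit 169472, nat_lit 164352, nat_lit 163712, nat_lit 156352, nat_lit 152256, nat_lit 147696, nat_lit 145008, nat_lit 139384, nat_lit 135714, nat_lit 131504, nat_lit 804, nat_lit 5716, nat_lit 9288, nat_lit 14144, nat_lit 17152, nat_lit 20608, nat_lit 24832, nat_lit 33280, nat_lit 37888, nat_lit 41920, nat_lit 37287, nat_lit 32912, nat_lit 29043, nat_lit 24582, nat_lit 20493, nat_lit 16387, nat_lit 12325, nat_lit 8227, nat_lit 4100, nat_lit 16]⟩⟩⟩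
def p104 : AP := ⟨[nat_lit 25, nat_lit 21, nat_lit 635, nat_lit 24], [], (nat_lit 88), ⟨[nat_lit 0, nat_lit 1, nat_lit 54], [nat_lit 0, nat_lit 41, nat_lit 68], ⟨[nat_lit 0x3dd0d8c07390402b25e4551c55d4cc], [nat_lit 173056, nat_lit 168448, nat_lit 165376, nat_lit 161280, nat_lit 159488, nat_lit 152320, nat_lit 147728, nat_lit 145104, nat_lit 140460, nat_lit 136174, nat_lit 132209, nat_lit 2012, nat_lit 5436, nat_lit 8928, nat_lit 13888, nat_lit 18080, nat_lit 21312, nat_lit 25600, nat_lit 29696, nat_lit 37888, nat_lit 41760, nat_lit 36872, nat_lit 32944, nat_lit 28788, nat_lit 24591, nat_lit 20613, nat_lit 16417, nat_lit 12353, nat_lit 8201, nat_lit 4101, nat_lit 4]⟩⟩⟩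
def p105 : AP := ⟨[nat_lit 649, nat_lit 110, nat_lit 112], [], (nat_lit 246), ⟨[nat_lit 0, nat_lit 78, nat_lit 58], [nat_lit 21, nat_lit 51], ⟨[nat_lit 0x3c02b8cdf4bb928a8da0359852484a], [nat_lit 173056, nat_lit 169984, nat_lit 164352, nat_lit 160384, nat_lit 158464, nat_lit 151808, nat_lit 148288, nat_lit 146456, nat_lit 143188, nat_lit 137504, nat_lit 134176, nat_lit 1814, nat_lit 5084, nat_lit 13632, nat_lit 16512, nat_lit 25216, nat_lit 41194, nat_lit 37041, nat_lit 32786, nat_lit 28795, nat_lit 24706, nat_lit 20550, nat_lit 16393, nat_lit 12289, nat_lit 8226, nat_lit 4128, nat_lit 2]⟩⟩⟩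
def p106 : AP := ⟨[], [], (nat_lit 254), ⟨[nat_lit 6, nat_lit 70], [nat_lit 39, nat_lit 67], ⟨[nat_lit 0x50a61898ab612e068e87ad912839e9], [nat_lit 174080, nat_lit 169472, nat_lit 164352, nat_lit 161152, nat_lit 156416, nat_lit 153024, nat_lit 148624, nat_lit 144520, nat_lit 140920, nat_lit 135454, nat_lit 132225, nat_lit 344, nat_lit 5992, nat_lit 9136, nat_lit 14112, nat_lit 17568, nat_lit 21376, nat_lit 29440, nat_lit 33792, nat_lit 41057, nat_lit 37248, nat_lit 32927, nat_lit 28959, nat_lit 25651, nat_lit 21515, nat_lit 16450, nat_lit 12322, nat_lit 4128, nat_lit 256]⟩⟩⟩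
def p107 : AP := ⟨[nat_lit 21, nat_lit 29, nat_lit 21, nat_lit 27, nat_lit 637], [], (nat_lit 216), ⟨[nat_lit 0, nat_lit 82, nat_lit 94], [nat_lit 0, nat_lit 27, nat_lit 94], ⟨[nat_lit 0xa56d24942c9de117116203cca38d0d], [nat_lit 168448, nat_lit 162048, nat_lit 157376, nat_lit 152864, nat_lit 148256, nat_lit 145296, nat_lit 140144, nat_lit 135886, nat_lit 132833, nat_lit 364, nat_lit 5360, nat_lit 8832, nat_lit 12544, nat_lit 17888, nat_lit 22080, nat_lit 26240, nat_lit 29696, nat_lit 34304, nat_lit 41128, nat_lit 37266, nat_lit 33430, nat_lit 24590, nat_lit 21512, nat_lit 16909, nat_lit 12308, nat_lit 8211, nat_lit 4105]⟩⟩⟩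
def p108 : AP := ⟨[nat_lit 117, nat_lit 130], [], (nat_lit 246), ⟨[nat_lit 0, nat_lit 44, nat_lit 60], [nat_lit 77, nat_lit 59], ⟨[nat_lit 0x99e882146f6812b65c368385289aaa], [nat_lit 168448, nat_lit 163584, nat_lit 156096, nat_lit 152864, nat_lit 149360, nat_lit 144064, nat_lit 140000, nat_lit 136196, nat_lit 132278, nat_lit 1938, nat_lit 5208, nat_lit 9216, nat_lit 13664, nat_lit 16736, nat_lit 21568, nat_lit 24704, nat_lit 29696, nat_lit 41684, nat_lit 38268, nat_lit 33339, nat_lit 28676, nat_lit 25628, nat_lit 21000, nat_lit 16643, nat_lit 12352, nat_lit 8320, nat_lit 4352]⟩⟩⟩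
def p109 : AP := ⟨[nat_lit 21, nat_lit 32, nat_lit 32, nat_lit 28], [], (nat_lit 88), ⟨[nat_lit 0, nat_lit 11, nat_lit 89], [nat_lit 0, nat_lit 83, nat_lit 53], ⟨[nat_lit 0xabe4e0b08abcc028213629e915b4c3], [nat_lit 173056, nat_lit 168448, nat_lit 165888, nat_lit 160640, nat_lit 155840, nat_lit 155264, nat_lit 151360, nat_lit 145408, nat_lit 142456, nat_lit 137954, nat_lit 131570, nat_lit 484, nat_lit 5436, nat_lit 9960, nat_lit 13312, nat_lit 18240, nat_lit 20992, nat_lit 25472, nat_lit 30208, nat_lit 34304, nat_lit 37888, nat_lit 41645, nat_lit 37074, nat_lit 32887, nat_lit 29296, nat_lit 24585, nat_lit 20636, nat_lit 16428, nat_lit 12292, nat_lit 8203, nat_lit 4]⟩⟩⟩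
def p110 : AP := ⟨[], [], (nat_lit 217), ⟨[nat_lit 0, nat_lit 81, nat_lit 61], [nat_lit 0, nat_lit 40, nat_lit 60], ⟨[nat_lit 0x61dee98154ba07212e15b4429214cd], [nat_lit 173056, nat_lit 169472, nat_lit 165120, nat_lit 160128, nat_lit 156736, nat_lit 153152, nat_lit 147520, nat_lit 140960, nat_lit 137158, nat_lit 133301, nat_lit 1516, nat_lit 4548, nat_lit 9576, nat_lit 12992, nat_lit 17408, nat_lit 21504, nat_lit 26112, nat_lit 29696, nat_lit 33280, nat_lit 41605, nat_lit 38395, nat_lit 33520, nat_lit 28779, nat_lit 24718, nat_lit 20572, nat_lit 16430, nat_lit 12324, nat_lit 8193, nat_lit 4112, nat_lit 2]⟩⟩⟩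
def l111 : List AP := [⟨[], [], (nat_lit 1034), ⟨[nat_lit 0, nat_lit 24, nat_lit 56], [nat_lit 0, nat_lit 85, nat_lit 55], ⟨[nat_lit 0x3ad90520749c817709f5286c64922d], [nat_lit 169472, nat_lit 166656, nat_lit 160640, nat_lit 156544, nat_lit 153216, nat_lit 149488, nat_lit 144344, nat_lit 140360, nat_lit 135752, nat_lit 131664, nat_lit 236, nat_lit 6084, nat_lit 8768, nat_lit 13248, nat_lit 17408, nat_lit 20544, nat_lit 24832, nat_lit 30208, nat_lit 33280, nat_lit 37888, nat_lit 41606, nat_lit 37320, nat_lit 32779, nat_lit 29277, nat_lit 24608, nat_lit 20544, nat_lit 16517, nat_lit 12545, nat_lit 8321, nat_lit 4104]⟩⟩⟩]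
theorem s111 : Suf yT 4096 (ldrop wS 161) (apW dcM p110) (tgtN dcM p110.e) := Suf.fin' (l := l111) (by decide +kernel)
def l110 : List AP := [⟨[nat_lit 637, nat_lit 22, nat_lit 637], [], (nat_lit 216), ⟨[nat_lit 0, nat_lit 40, nat_lit 59], [nat_lit 0, nat_lit 20, nat_lit 66], ⟨[nat_lit 0x5aa34021e59ddac81ac449dc218655], [nat_lit 173056, nat_lit 165888, nat_lit 159872, nat_lit 152960, nat_lit 144032, nat_lit 139400, nat_lit 136758, nat_lit 131349, nat_lit 2018, nat_lit 12544, nat_lit 18336, nat_lit 20736, nat_lit 26496, nat_lit 30208, nat_lit 37888, nat_lit 41821, nat_lit 37352, nat_lit 32944, nat_lit 28964, nat_lit 25128, nat_lit 16512, nat_lit 8210, nat_lit 4100]⟩⟩⟩,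
  ⟨[nat_lit 115, nat_lit 119, nat_lit 130], [], (nat_lit 254), ⟨[nat_lit 28, nat_lit 56], [nat_lit 0, nat_lit 1, nat_lit 48], ⟨[nat_lit 0x52204682eb1cc4689deeac8b40b2c9], [nat_lit 173056, nat_lit 164608, nat_lit 161408, nat_lit 155712, nat_lit 152256, nat_lit 147984, nat_lit 143640, nat_lit 139792, nat_lit 135664, nat_lit 134374, nat_lit 1478, nat_lit 5980, nat_lit 8504, nat_lit 13552, nat_lit 16416, nat_lit 20800, nat_lit 26112, nat_lit 30464, nat_lit 33280, nat_lit 37888, nat_lit 41259, nat_lit 37020, nat_lit 32887, nat_lit 28715, nat_lit 24613, nat_lit 20574, nat_lit 16416, nat_lit 12293, nat_lit 8200, nat_lit 4113]⟩⟩⟩]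
theorem s110 : Suf yT 4096 (ldrop wS 146) (apW dcM p109) (tgtN dcM p109.e) := Suf.seg (l := l110) (by decide +kernel) s111
def l109 : List AP := [⟨[nat_lit 637, nat_lit 634, nat_lit 26, nat_lit 634], [], (nat_lit 88), ⟨[nat_lit 0, nat_lit 40, nat_lit 49], [nat_lit 15, nat_lit 61], ⟨[nat_lit 0x622931b4ce3dec1124aa7ae5581220], [nat_lit 166144, nat_lit 161792, nat_lit 158592, nat_lit 154560, nat_lit 149152, nat_lit 146112, nat_lit 143200, nat_lit 137148, nat_lit 133797, nat_lit 512, nat_lit 5856, nat_lit 9208, nat_lit 13312, nat_lit 16896, nat_lit 22144, nat_lit 25088, nat_lit 29952, nat_lit 34304, nat_lit 37888, nat_lit 41647, nat_lit 36885, nat_lit 32870, nat_lit 29754, nat_lit 24601, nat_lit 20740, nat_lit 16390, nat_lit 12356, nat_lit 8193, nat_lit 4113, nat_lit 2]⟩⟩⟩,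
  ⟨[nat_lit 31, nat_lit 23, nat_lit 22, nat_lit 21], [], (nat_lit 88), ⟨[nat_lit 0, nat_lit 15, nat_lit 64], [nat_lit 30, nat_lit 65], ⟨[nat_lit 0x156746062e25d0d79ec91c8c582960], [nat_lit 173056, nat_lit 168448, nat_lit 164864, nat_lit 160128, nat_lit 155776, nat_lit 151584, nat_lit 149200, nat_lit 140356, nat_lit 138226, nat_lit 131123, nat_lit 2, nat_lit 5320, nat_lit 8352, nat_lit 13440, nat_lit 18304, nat_lit 20544, nat_lit 24704, nat_lit 29696, nat_lit 33792, nat_lit 37888, nat_lit 41162, nat_lit 37066, nat_lit 32804, nat_lit 28746, nat_lit 24606, nat_lit 20490, nat_lit 16452, nat_lit 12290, nat_lit 8257, nat_lit 4101]⟩⟩⟩]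
theorem s109 : Suf yT 4096 (ldrop wS 140) (apW dcM p108) (tgtN dcM p108.e) := Suf.seg (l := l109) (by decide +kernel) s110
def l108 : List AP := [⟨[], [], (nat_lit 255), ⟨[nat_lit 80, nat_lit 60], [nat_lit 13, nat_lit 66], ⟨[nat_lit 0x5baa6a30aa68df2204f1042d740a69], [nat_lit 167424, nat_lit 161536, nat_lit 157248, nat_lit 154528, nat_lit 151168, nat_lit 147088, nat_lit 141776, nat_lit 138918, nat_lit 132122, nat_lit 1928, nat_lit 5568, nat_lit 8448, nat_lit 13552, nat_lit 17184, nat_lit 21888, nat_lit 25600, nat_lit 30208, nat_lit 33280, nat_lit 41806, nat_lit 38080, nat_lit 32782, nat_lit 29201, nat_lit 25643, nat_lit 20555, nat_lit 16524, nat_lit 12294, nat_lit 8200, nat_lit 4101, nat_lit 2]⟩⟩⟩,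
  ⟨[nat_lit 114, nat_lit 137, nat_lit 111], [], (nat_lit 254), ⟨[nat_lit 0, nat_lit 44, nat_lit 58], [nat_lit 0, nat_lit 8, nat_lit 93], ⟨[nat_lit 0x891ea98a54b852b441c71d4c563416], [nat_lit 169472, nat_lit 164608, nat_lit 160384, nat_lit 156800, nat_lit 153504, nat_lit 148320, nat_lit 144312, nat_lit 142564, nat_lit 136730, nat_lit 132265, nat_lit 700, nat_lit 4992, nat_lit 9040, nat_lit 12976, nat_lit 17344, nat_lit 22464, nat_lit 26368, nat_lit 29696, nat_lit 41643, nat_lit 37951, nat_lit 33015, nat_lit 28692, nat_lit 24628, nat_lit 20559, nat_lit 16388, nat_lit 12290, nat_lit 8193, nat_lit 4105]⟩⟩⟩]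
theorem s108 : Suf yT 4096 (ldrop wS 125) (apW dcM p107) (tgtN dcM p107.e) := Suf.seg (l := l108) (by decide +kernel) s109
def l107 : List AP := [⟨[nat_lit 130, nat_lit 136, nat_lit 109], [], (nat_lit 246), ⟨[nat_lit 0, nat_lit 25, nat_lit 58], [nat_lit 0, nat_lit 79, nat_lit 52], ⟨[nat_lit 0x7314b14a636bd28354b40403121ef6], [nat_lit 168448, nat_lit 165120, nat_lit 161408, nat_lit 156544, nat_lit 152320, nat_lit 147712, nat_lit 144952, nat_lit 141188, nat_lit 135388, nat_lit 132298, nat_lit 696, nat_lit 4328, nat_lit 9928, nat_lit 12304, nat_lit 16672, nat_lit 21248, nat_lit 25472, nat_lit 28928, nat_lit 33280, nat_lit 37888, nat_lit 41664, nat_lit 38327, nat_lit 32800, nat_lit 29722, nat_lit 24738, nat_lit 20554, nat_lit 16418, nat_lit 12352, nat_lit 8195, nat_lit 4100]⟩⟩⟩,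
  ⟨[nat_lit 28, nat_lit 31, nat_lit 31], [], (nat_lit 89), ⟨[nat_lit 0, nat_lit 82, nat_lit 62], [nat_lit 0, nat_lit 37, nat_lit 58], ⟨[nat_lit 0xc66275594848036bef62212732d45], [nat_lit 175104, nat_lit 169984, nat_lit 164864, nat_lit 163072, nat_lit 159360, nat_lit 154464, nat_lit 147600, nat_lit 144448, nat_lit 139356, nat_lit 137296, nat_lit 133496, nat_lit 1634, nat_lit 4776, nat_lit 9096, nat_lit 14208, nat_lit 16864, nat_lit 21504, nat_lit 25728, nat_lit 29696, nat_lit 34304, nat_lit 37888, nat_lit 41857, nat_lit 36991, nat_lit 32786, nat_lit 28775, nat_lit 24710, nat_lit 20556, nat_lit 16388, nat_lit 12324, nat_lit 8211, nat_lit 4101]⟩⟩⟩]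
theorem s107 : Suf yT 4096 (ldrop wS 110) (apW dcM p106) (tgtN dcM p106.e) := Suf.seg (l := l107) (by decide +kernel) s108
def l106 : List AP := [⟨[nat_lit 27, nat_lit 638, nat_lit 22, nat_lit 22], [], (nat_lit 88), ⟨[nat_lit 0, nat_lit 81, nat_lit 70], [nat_lit 0, nat_lit 4, nat_lit 69], ⟨[nat_lit 0x8a24cb9a625b403b39542912f386b0], [nat_lit 174080, nat_lit 168960, nat_lit 164608, nat_lit 156800, nat_lit 152864, nat_lit 148432, nat_lit 145184, nat_lit 140684, nat_lit 137118, nat_lit 132904, nat_lit 1698, nat_lit 4160, nat_lit 8824, nat_lit 14112, nat_lit 17664, nat_lit 21248, nat_lit 25600, nat_lit 29952, nat_lit 34304, nat_lit 41744, nat_lit 37013, nat_lit 32800, nat_lit 28766, nat_lit 24604, nat_lit 20742, nat_lit 16452, nat_lit 12309, nat_lit 8203, nat_lit 4101, nat_lit 2]⟩⟩⟩,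
  ⟨[nat_lit 25, nat_lit 22, nat_lit 27, nat_lit 635, nat_lit 32], [], (nat_lit 247), ⟨[nat_lit 19, nat_lit 54], [nat_lit 27, nat_lit 66], ⟨[nat_lit 0x40cc13ce4b642e068ab1a594523dc9], [nat_lit 171520, nat_lit 164608, nat_lit 161280, nat_lit 157952, nat_lit 152928, nat_lit 145744, nat_lit 142112, nat_lit 137612, nat_lit 134300, nat_lit 1928, nat_lit 4720, nat_lit 8408, nat_lit 14192, nat_lit 16512, nat_lit 21056, nat_lit 26240, nat_lit 29952, nat_lit 34304, nat_lit 41198, nat_lit 37279, nat_lit 32927, nat_lit 28676, nat_lit 24581, nat_lit 20493, nat_lit 16399, nat_lit 12295, nat_lit 8195, nat_lit 4097]⟩⟩⟩]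
theorem s106 : Suf yT 4096 (ldrop wS 95) (apW dcM p105) (tgtN dcM p105.e) := Suf.seg (l := l106) (by decide +kernel) s107
def l105 : List AP := [⟨[nat_lit 27, nat_lit 27, nat_lit 31, nat_lit 26, nat_lit 23], [], (nat_lit 247), ⟨[nat_lit 10, nat_lit 60], [nat_lit 0, nat_lit 19, nat_lit 47], ⟨[nat_lit 0x4544f036cb21a479c4b0a386a0b2e9], [nat_lit 173056, nat_lit 166144, nat_lit 163328, nat_lit 159296, nat_lit 154080, nat_lit 148912, nat_lit 147120, nat_lit 142964, nat_lit 135256, nat_lit 134307, nat_lit 1066, nat_lit 4964, nat_lit 8504, nat_lit 13552, nat_lit 17472, nat_lit 20800, nat_lit 26112, nat_lit 28928, nat_lit 33280, nat_lit 37888, nat_lit 41887, nat_lit 37340, nat_lit 33407, nat_lit 28984, nat_lit 24613, nat_lit 20507, nat_lit 16417, nat_lit 12293, nat_lit 8200, nat_lit 4112]⟩⟩⟩,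
  ⟨[], [], (nat_lit 254), ⟨[nat_lit 0, nat_lit 30, nat_lit 59], [nat_lit 0, nat_lit 15, nat_lit 55], ⟨[nat_lit 0x5506e036cb84cb131e44abc480b2e9], [nat_lit 173056, nat_lit 168448, nat_lit 167424, nat_lit 162944, nat_lit 157824, nat_lit 155488, nat_lit 148688, nat_lit 147176, nat_lit 143008, nat_lit 137078, nat_lit 134031, nat_lit 1066, nat_lit 4444, nat_lit 8504, nat_lit 13552, nat_lit 17248, nat_lit 20800, nat_lit 26112, nat_lit 29184, nat_lit 33280, nat_lit 37888, nat_lit 41619, nat_lit 37052, nat_lit 32795, nat_lit 28775, nat_lit 24613, nat_lit 20503, nat_lit 16428, nat_lit 12293, nat_lit 8200, nat_lit 4113]⟩⟩⟩]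
theorem s105 : Suf yT 4096 (ldrop wS 89) (apW dcM p104) (tgtN dcM p104.e) := Suf.seg (l := l105) (by decide +kernel) s106
def l104 : List AP := [⟨[nat_lit 23, nat_lit 31, nat_lit 31, nat_lit 635, nat_lit 24, nat_lit 22], [], (nat_lit 216), ⟨[nat_lit 8, nat_lit 52], [nat_lit 0, nat_lit 87, nat_lit 64], ⟨[nat_lit 0xa1131bd84c2cd75798e07065040d4d], [nat_lit 173056, nat_lit 170496, nat_lit 164608, nat_lit 162688, nat_lit 156608, nat_lit 154496, nat_lit 149952, nat_lit 147080, nat_lit 139772, nat_lit 135184, nat_lit 133140, nat_lit 484, nat_lit 5544, nat_lit 9040, nat_lit 12544, nat_lit 17120, nat_lit 21376, nat_lit 26240, nat_lit 30208, nat_lit 41511, nat_lit 37177, nat_lit 32984, nat_lit 29013, nat_lit 24587, nat_lit 21012, nat_lit 16645, nat_lit 12293, nat_lit 8193, nat_lit 4]⟩⟩⟩,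
  ⟨[nat_lit 135, nat_lit 130, nat_lit 109], [], (nat_lit 246), ⟨[nat_lit 0, nat_lit 12, nat_lit 64], [nat_lit 41, nat_lit 57], ⟨[nat_lit 0x94668332e25412b03cf6a8dc46d0a1], [nat_lit 168448, nat_lit 167168, nat_lit 160000, nat_lit 155712, nat_lit 154528, nat_lit 150896, nat_lit 146648, nat_lit 141632, nat_lit 137500, nat_lit 131077, nat_lit 494, nat_lit 4540, nat_lit 8600, nat_lit 12720, nat_lit 16512, nat_lit 20736, nat_lit 25216, nat_lit 30464, nat_lit 33792, nat_lit 37888, nat_lit 41914, nat_lit 37261, nat_lit 33364, nat_lit 28702, nat_lit 24887, nat_lit 20556, nat_lit 16386, nat_lit 12355, nat_lit 8203, nat_lit 8]⟩⟩⟩]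
theorem s104 : Suf yT 4096 (ldrop wS 74) (apW dcM p103) (tgtN dcM p103.e) := Suf.seg (l := l104) (by decide +kernel) s105
def l103 : List AP := [⟨[nat_lit 650, nat_lit 649, nat_lit 110], [], (nat_lit 254), ⟨[nat_lit 79, nat_lit 61], [nat_lit 71, nat_lit 52], ⟨[nat_lit 0xc0aa8c9f66d12b25cce608753a013], [nat_lit 165376, nat_lit 157376, nat_lit 151776, nat_lit 147856, nat_lit 145248, nat_lit 139928, nat_lit 135176, nat_lit 132954, nat_lit 590, nat_lit 4684, nat_lit 9640, nat_lit 13408, nat_lit 16864, nat_lit 22016, nat_lit 25344, nat_lit 30208, nat_lit 41164, nat_lit 37128, nat_lit 32924, nat_lit 29044, nat_lit 24723, nat_lit 20558, nat_lit 16416, nat_lit 12354, nat_lit 8209, nat_lit 4097]⟩⟩⟩,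
  ⟨[nat_lit 113, nat_lit 116, nat_lit 130], [], (nat_lit 254), ⟨[nat_lit 0, nat_lit 15, nat_lit 93], [nat_lit 6, nat_lit 56], ⟨[nat_lit 0xb60a018562d12b1a1d27b0f725671], [nat_lit 174080, nat_lit 168960, nat_lit 164352, nat_lit 161152, nat_lit 156224, nat_lit 152416, nat_lit 149312, nat_lit 145248, nat_lit 140276, nat_lit 136230, nat_lit 132694, nat_lit 78, nat_lit 5688, nat_lit 8872, nat_lit 12976, nat_lit 18400, nat_lit 21568, nat_lit 25856, nat_lit 28928, nat_lit 33792, nat_lit 37888, nat_lit 41406, nat_lit 37052, nat_lit 33982, nat_lit 29261, nat_lit 24726, nat_lit 20562, nat_lit 16422, nat_lit 12804, nat_lit 8193, nat_lit 4112, nat_lit 2]⟩⟩⟩]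
theorem s103 : Suf yT 4096 (ldrop wS 59) (apW dcM p102) (tgtN dcM p102.e) := Suf.seg (l := l103) (by decide +kernel) s104
def l102 : List AP := [⟨[nat_lit 32, nat_lit 22, nat_lit 25, nat_lit 24], [], (nat_lit 88), ⟨[nat_lit 2, nat_lit 91], [nat_lit 0, nat_lit 10, nat_lit 46], ⟨[nat_lit 0x95aae998ec8840d28d575d08283d09], [nat_lit 174080, nat_lit 169472, nat_lit 165120, nat_lit 160384, nat_lit 157376, nat_lit 152192, nat_lit 148912, nat_lit 144984, nat_lit 140480, nat_lit 136176, nat_lit 131108, nat_lit 434, nat_lit 4156, nat_lit 10088, nat_lit 14112, nat_lit 18336, nat_lit 22464, nat_lit 24832, nat_lit 29440, nat_lit 33792, nat_lit 41440, nat_lit 37189, nat_lit 32955, nat_lit 29003, nat_lit 24754, nat_lit 20620, nat_lit 16416, nat_lit 12308, nat_lit 8208, nat_lit 4160, nat_lit 256]⟩⟩⟩,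
  ⟨[nat_lit 23, nat_lit 636, nat_lit 22, nat_lit 24, nat_lit 22, nat_lit 21], [], (nat_lit 216), ⟨[nat_lit 87, nat_lit 92], [nat_lit 0, nat_lit 85], ⟨[nat_lit 0xa11d32caec342af50568189208d8ed], [nat_lit 173056, nat_lit 165632, nat_lit 160256, nat_lit 156480, nat_lit 152384, nat_lit 148512, nat_lit 144232, nat_lit 140540, nat_lit 136484, nat_lit 131085, nat_lit 492, nat_lit 5488, nat_lit 9040, nat_lit 12464, nat_lit 17600, nat_lit 21888, nat_lit 25600, nat_lit 29184, nat_lit 41364, nat_lit 37033, nat_lit 29263, nat_lit 24712, nat_lit 20573, nat_lit 16430, nat_lit 12309, nat_lit 8193, nat_lit 4097]⟩⟩⟩]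
theorem s102 : Suf yT 4096 (ldrop wS 44) (apW dcM p101) (tgtN dcM p101.e) := Suf.seg (l := l102) (by decide +kernel) s103
def l101 : List AP := [⟨[nat_lit 650, nat_lit 130, nat_lit 109], [], (nat_lit 254), ⟨[nat_lit 0, nat_lit 77, nat_lit 66], [nat_lit 0, nat_lit 80, nat_lit 47], ⟨[nat_lit 0x59cc105e8a920732b216712b16bc49], [nat_lit 175104, nat_lit 168448, nat_lit 160768, nat_lit 159232, nat_lit 153760, nat_lit 150544, nat_lit 144768, nat_lit 142384, nat_lit 135990, nat_lit 133693, nat_lit 434, nat_lit 5568, nat_lit 10088, nat_lit 13712, nat_lit 16608, nat_lit 21312, nat_lit 26496, nat_lit 30464, nat_lit 33792, nat_lit 41647, nat_lit 38224, nat_lit 32868, nat_lit 29201, nat_lit 24638, nat_lit 20547, nat_lit 16399, nat_lit 8195, nat_lit 4097]⟩⟩⟩,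
  ⟨[], [], (nat_lit 217), ⟨[nat_lit 85, nat_lit 62], [nat_lit 0, nat_lit 86, nat_lit 90], ⟨[nat_lit 0xa2e440292c89ee8095e6abac29c06d], [nat_lit 174080, nat_lit 170496, nat_lit 166400, nat_lit 160384, nat_lit 155904, nat_lit 152128, nat_lit 150768, nat_lit 140184, nat_lit 138436, nat_lit 134073, nat_lit 484, nat_lit 5884, nat_lit 9488, nat_lit 12352, nat_lit 17728, nat_lit 21312, nat_lit 24960, nat_lit 30464, nat_lit 34304, nat_lit 41647, nat_lit 37169, nat_lit 33530, nat_lit 28742, nat_lit 24719, nat_lit 21002, nat_lit 16399, nat_lit 12292, nat_lit 8203, nat_lit 4097, nat_lit 2]⟩⟩⟩]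
theorem s101 : Suf yT 4096 (ldrop wS 38) (apW dcM p100) (tgtN dcM p100.e) := Suf.seg (l := l101) (by decide +kernel) s102
def l100 : List AP := [⟨[nat_lit 31, nat_lit 23, nat_lit 22, nat_lit 21], [], (nat_lit 88), ⟨[nat_lit 0, nat_lit 9, nat_lit 91], [nat_lit 0, nat_lit 1, nat_lit 58], ⟨[nat_lit 0x1a89431e4e116eb65ab34a1b1805e0], [nat_lit 175104, nat_lit 164864, nat_lit 162560, nat_lit 155968, nat_lit 152416, nat_lit 149840, nat_lit 146376, nat_lit 141456, nat_lit 138962, nat_lit 134442, nat_lit 1896, nat_lit 5276, nat_lit 9200, nat_lit 14112, nat_lit 18272, nat_lit 20544, nat_lit 26112, nat_lit 29440, nat_lit 33280, nat_lit 37888, nat_lit 41291, nat_lit 36939, nat_lit 33979, nat_lit 28974, nat_lit 24721, nat_lit 20491, nat_lit 16517, nat_lit 12291, nat_lit 8193, nat_lit 4097, nat_lit 2]⟩⟩⟩,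
  ⟨[nat_lit 637, nat_lit 26, nat_lit 636, nat_lit 29, nat_lit 634, nat_lit 21], [], (nat_lit 216), ⟨[nat_lit 44, nat_lit 57], [nat_lit 0, nat_lit 42, nat_lit 48], ⟨[nat_lit 0x2ccec55c66ac1b493c22492c072d11], [nat_lit 174080, nat_lit 168448, nat_lit 165376, nat_lit 160000, nat_lit 157696, nat_lit 154432, nat_lit 150992, nat_lit 143728, nat_lit 143236, nat_lit 136314, nat_lit 135064, nat_lit 1652, nat_lit 4824, nat_lit 9904, nat_lit 13168, nat_lit 17792, nat_lit 21440, nat_lit 25728, nat_lit 29696, nat_lit 37888, nat_lit 41873, nat_lit 37177, nat_lit 33356, nat_lit 29725, nat_lit 24884, nat_lit 20738, nat_lit 16419, nat_lit 12417, nat_lit 8202, nat_lit 4100]⟩⟩⟩]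
theorem s100 : Suf yT 4096 (ldrop wS 23) (apW dcM p99) (tgtN dcM p99.e) := Suf.seg (l := l100) (by decide +kernel) s101
def l99 : List AP := [⟨[nat_lit 634, nat_lit 637, nat_lit 637, nat_lit 21, nat_lit 23], [], (nat_lit 216), ⟨[nat_lit 0, nat_lit 76, nat_lit 52], [nat_lit 11, nat_lit 68], ⟨[nat_lit 0xbca0c50e24425b45cc07159c133ea5], [nat_lit 165376, nat_lit 160128, nat_lit 157504, nat_lit 151744, nat_lit 149424, nat_lit 146472, nat_lit 139504, nat_lit 136940, nat_lit 131511, nat_lit 1634, nat_lit 4224, nat_lit 9936, nat_lit 13312, nat_lit 16512, nat_lit 22336, nat_lit 26496, nat_lit 30208, nat_lit 37888, nat_lit 41811, nat_lit 36872, nat_lit 33974, nat_lit 29001, nat_lit 24893, nat_lit 20486, nat_lit 16450, nat_lit 8226, nat_lit 4113, nat_lit 2]⟩⟩⟩,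
  ⟨[nat_lit 135, nat_lit 118, nat_lit 109], [], (nat_lit 246), ⟨[nat_lit 0, nat_lit 1, nat_lit 63], [nat_lit 0, nat_lit 6, nat_lit 50], ⟨[nat_lit 0x8128bb44ca13d281b653a86ec2b8e0], [nat_lit 171520, nat_lit 164352, nat_lit 157440, nat_lit 152864, nat_lit 149232, nat_lit 143680, nat_lit 140516, nat_lit 136366, nat_lit 131765, nat_lit 512, nat_lit 5276, nat_lit 9648, nat_lit 13488, nat_lit 18240, nat_lit 22400, nat_lit 25344, nat_lit 29184, nat_lit 33280, nat_lit 37888, nat_lit 41950, nat_lit 32915, nat_lit 28741, nat_lit 24714, nat_lit 20502, nat_lit 16420, nat_lit 12359, nat_lit 4097]⟩⟩⟩]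
theorem s99 : Suf yT 4096 (ldrop wS 8) (apW dcM p98) (tgtN dcM p98.e) := Suf.seg (l := l99) (by decide +kernel) s100
def l98 : List AP := [⟨[nat_lit 624, nat_lit 3, nat_lit 5, nat_lit 625, nat_lit 627, nat_lit 1], [], (nat_lit 26), ⟨[nat_lit 0, nat_lit 22, nat_lit 50], [nat_lit 4, nat_lit 62], ⟨[nat_lit 0xb207469eb25cc512a826bc1c44bc0c], [nat_lit 175104, nat_lit 168960, nat_lit 164608, nat_lit 163712, nat_lit 155840, nat_lit 153120, nat_lit 150992, nat_lit 146944, nat_lit 142420, nat_lit 138824, nat_lit 133231, nat_lit 1440, nat_lit 5276, nat_lit 8408, nat_lit 13552, nat_lit 17824, nat_lit 29440, nat_lit 33280, nat_lit 41699, nat_lit 37284, nat_lit 33287, nat_lit 28703, nat_lit 25600, nat_lit 20544, nat_lit 16387, nat_lit 12289, nat_lit 8320]⟩⟩⟩,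
  ⟨[nat_lit 36, nat_lit 42, nat_lit 632, nat_lit 43, nat_lit 40, nat_lit 14], [], (nat_lit 70), ⟨[nat_lit 0, nat_lit 33, nat_lit 46], [nat_lit 41, nat_lit 68], ⟨[nat_lit 0x3aa1744ac66bc2ca4c890086eaae25], [nat_lit 173056, nat_lit 168960, nat_lit 161280, nat_lit 157312, nat_lit 152000, nat_lit 147872, nat_lit 144080, nat_lit 140548, nat_lit 136714, nat_lit 131089, nat_lit 1634, nat_lit 4568, nat_lit 9648, nat_lit 14064, nat_lit 17632, nat_lit 21248, nat_lit 25856, nat_lit 29184, nat_lit 34304, nat_lit 41044, nat_lit 37123, nat_lit 33469, nat_lit 28966, nat_lit 25620, nat_lit 20753, nat_lit 16524, nat_lit 12326, nat_lit 8210, nat_lit 4100, nat_lit 8]⟩⟩⟩]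
theorem rS0 : Suf yT 4096 wS [yT.get 34] 0 := Suf.seg (l := l98) (by decide +kernel) s99

def p112 : AP := ⟨[nat_lit 25, nat_lit 638], [], (nat_lit 68), ⟨[nat_lit 86, nat_lit 68], [nat_lit 0, nat_lit 16, nat_lit 63], ⟨[nat_lit 0xa864a14d16315a74c2e07b1c458e34], [nat_lit 169984, nat_lit 165376, nat_lit 160128, nat_lit 158400, nat_lit 153312, nat_lit 148256, nat_lit 147192, nat_lit 141964, nat_lit 138160, nat_lit 133307, nat_lit 622, nat_lit 4568, nat_lit 9584, nat_lit 12800, nat_lit 16416, nat_lit 20992, nat_lit 25600, nat_lit 29696, nat_lit 34304, nat_lit 41879, nat_lit 38070, nat_lit 33479, nat_lit 28773, nat_lit 24638, nat_lit 20492, nat_lit 16385, nat_lit 12327, nat_lit 8225, nat_lit 4104]⟩⟩⟩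
def p113 : AP := ⟨[nat_lit 635, nat_lit 22, nat_lit 24, nat_lit 24], [], (nat_lit 88), ⟨[nat_lit 0, nat_lit 5, nat_lit 49], [nat_lit 7, nat_lit 70], ⟨[nat_lit 0x1c4c89a4a0658877d250badcaa89a1], [nat_lit 175104, nat_lit 168960, nat_lit 167424, nat_lit 163072, nat_lit 159360, nat_lit 152512, nat_lit 148640, nat_lit 144240, nat_lit 142564, nat_lit 137382, nat_lit 132983, nat_lit 494, nat_lit 4100, nat_lit 9664, nat_lit 14080, nat_lit 16864, nat_lit 22464, nat_lit 25728, nat_lit 29184, nat_lit 34304, nat_lit 41596, nat_lit 38334, nat_lit 32898, nat_lit 28758, nat_lit 24617, nat_lit 20555, nat_lit 16399, nat_lit 12295, nat_lit 8194, nat_lit 4101, nat_lit 2]⟩⟩⟩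
def p114 : AP := ⟨[nat_lit 110, nat_lit 119, nat_lit 130], [], (nat_lit 254), ⟨[nat_lit 0, nat_lit 88, nat_lit 92], [nat_lit 44, nat_lit 61], ⟨[nat_lit 0x6350a24e477b969050352c0d118af6], [nat_lit 173056, nat_lit 171008, nat_lit 165376, nat_lit 160896, nat_lit 159232, nat_lit 153440, nat_lit 149360, nat_lit 145760, nat_lit 141452, nat_lit 139238, nat_lit 133492, nat_lit 700, nat_lit 5688, nat_lit 9928, nat_lit 12800, nat_lit 17728, nat_lit 21632, nat_lit 25344, nat_lit 29440, nat_lit 41867, nat_lit 38208, nat_lit 33903, nat_lit 28747, nat_lit 24731, nat_lit 20752, nat_lit 16431, nat_lit 12304, nat_lit 8195, nat_lit 4]⟩⟩⟩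
def p115 : AP := ⟨[nat_lit 638, nat_lit 31, nat_lit 21, nat_lit 24], [], (nat_lit 88), ⟨[nat_lit 32, nat_lit 50], [nat_lit 0, nat_lit 13, nat_lit 62], ⟨[nat_lit 0x5068c70ee9aa1a091a7089ca4b096f], [nat_lit 173056, nat_lit 159872, nat_lit 157184, nat_lit 152384, nat_lit 148064, nat_lit 147224, nat_lit 140132, nat_lit 136094, nat_lit 132296, nat_lit 1488, nat_lit 5072, nat_lit 8200, nat_lit 14192, nat_lit 17120, nat_lit 22336, nat_lit 26112, nat_lit 30208, nat_lit 33792, nat_lit 37888, nat_lit 41135, nat_lit 37093, nat_lit 32984, nat_lit 28992, nat_lit 24878, nat_lit 20510, nat_lit 16422, nat_lit 12305, nat_lit 8]⟩⟩⟩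
def p116 : AP := ⟨[], [], (nat_lit 255), ⟨[nat_lit 0, nat_lit 44, nat_lit 47], [nat_lit 82, nat_lit 67], ⟨[nat_lit 0x5dead84de9050b241d868d8647082a], [nat_lit 173056, nat_lit 171520, nat_lit 165376, nat_lit 161408, nat_lit 158400, nat_lit 152512, nat_lit 147920, nat_lit 146872, nat_lit 142696, nat_lit 137410, nat_lit 135058, nat_lit 1808, nat_lit 4100, nat_lit 9560, nat_lit 13040, nat_lit 18336, nat_lit 22080, nat_lit 24960, nat_lit 29696, nat_lit 33792, nat_lit 37888, nat_lit 41682, nat_lit 38209, nat_lit 33528, nat_lit 28723, nat_lit 24834, nat_lit 20551, nat_lit 16395, nat_lit 12308, nat_lit 8195, nat_lit 4100, nat_lit 2]⟩⟩⟩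
def p117 : AP := ⟨[nat_lit 651, nat_lit 135, nat_lit 113], [], (nat_lit 246), ⟨[nat_lit 0, nat_lit 29, nat_lit 48], [nat_lit 32, nat_lit 54], ⟨[nat_lit 0x44a9321ac900eea2c42d3ba027d58b], [nat_lit 175104, nat_lit 165376, nat_lit 160128, nat_lit 155776, nat_lit 152320, nat_lit 148608, nat_lit 144784, nat_lit 140656, nat_lit 135230, nat_lit 131282, nat_lit 1336, nat_lit 5436, nat_lit 8928, nat_lit 13152, nat_lit 16736, nat_lit 21760, nat_lit 25472, nat_lit 30464, nat_lit 34304, nat_lit 37888, nat_lit 41780, nat_lit 38325, nat_lit 32981, nat_lit 28736, nat_lit 24634, nat_lit 20491, nat_lit 16462, nat_lit 8195, nat_lit 4]⟩⟩⟩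
def p118 : AP := ⟨[nat_lit 25, nat_lit 24, nat_lit 636, nat_lit 22], [], (nat_lit 88), ⟨[nat_lit 0, nat_lit 33, nat_lit 94], [nat_lit 0, nat_lit 10, nat_lit 94], ⟨[nat_lit 0x31d43ad84b435e082431bcd85a124e], [nat_lit 169984, nat_lit 162432, nat_lit 156288, nat_lit 153824, nat_lit 150032, nat_lit 146872, nat_lit 139324, nat_lit 135170, nat_lit 133371, nat_lit 1292, nat_lit 5080, nat_lit 10144, nat_lit 12320, nat_lit 16512, nat_lit 20608, nat_lit 25856, nat_lit 33792, nat_lit 41006, nat_lit 37297, nat_lit 33316, nat_lit 28755, nat_lit 24708, nat_lit 20509, nat_lit 16389, nat_lit 12320, nat_lit 8193, nat_lit 4160]⟩⟩⟩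
def p119 : AP := ⟨[nat_lit 110, nat_lit 652, nat_lit 113], [], (nat_lit 246), ⟨[nat_lit 0, nat_lit 83, nat_lit 60], [nat_lit 0, nat_lit 16, nat_lit 61], ⟨[nat_lit 0x73148ac2776bd6911827a46d218085], [nat_lit 173056, nat_lit 169472, nat_lit 164096, nat_lit 161408, nat_lit 158080, nat_lit 152736, nat_lit 148944, nat_lit 144624, nat_lit 139372, nat_lit 135682, nat_lit 133041, nat_lit 128, nat_lit 5132, nat_lit 9328, nat_lit 12352, nat_lit 16992, nat_lit 21312, nat_lit 24704, nat_lit 37888, nat_lit 41664, nat_lit 36995, nat_lit 33011, nat_lit 28761, nat_lit 24581, nat_lit 20755, nat_lit 16521, nat_lit 8256, nat_lit 4353, nat_lit 4]⟩⟩⟩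
def p120 : AP := ⟨[], [], (nat_lit 255), ⟨[nat_lit 14, nat_lit 61], [nat_lit 0, nat_lit 27, nat_lit 49], ⟨[nat_lit 0x5bcec2d2e99d86d838550810434a2a], [nat_lit 169472, nat_lit 165632, nat_lit 161152, nat_lit 156736, nat_lit 155232, nat_lit 148272, nat_lit 143904, nat_lit 139808, nat_lit 136036, nat_lit 131879, nat_lit 1842, nat_lit 4924, nat_lit 9224, nat_lit 13040, nat_lit 16416, nat_lit 20992, nat_lit 26496, nat_lit 29440, nat_lit 33792, nat_lit 37888, nat_lit 41511, nat_lit 37291, nat_lit 33530, nat_lit 29195, nat_lit 24891, nat_lit 20482, nat_lit 12354, nat_lit 9219, nat_lit 4128]⟩⟩⟩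
def p121 : AP := ⟨[nat_lit 637, nat_lit 636, nat_lit 636, nat_lit 31, nat_lit 31], [], (nat_lit 247), ⟨[nat_lit 0, nat_lit 9, nat_lit 63], [nat_lit 22, nat_lit 70], ⟨[nat_lit 0x436817584931e040554c8ce451beeb], [nat_lit 169984, nat_lit 165632, nat_lit 163072, nat_lit 157312, nat_lit 154944, nat_lit 149984, nat_lit 145464, nat_lit 140356, nat_lit 136704, nat_lit 134517, nat_lit 354, nat_lit 4732, nat_lit 9928, nat_lit 12416, nat_lit 17440, nat_lit 22336, nat_lit 33280, nat_lit 37888, nat_lit 41482, nat_lit 37091, nat_lit 33005, nat_lit 28719, nat_lit 24856, nat_lit 20505, nat_lit 16422, nat_lit 12304, nat_lit 8195, nat_lit 4101]⟩⟩⟩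
def p122 : AP := ⟨[nat_lit 649, nat_lit 651, nat_lit 114], [], (nat_lit 246), ⟨[nat_lit 82, nat_lit 66], [nat_lit 8, nat_lit 56], ⟨[nat_lit 0x65e6b116d5191093c81033dc1a3551], [nat_lit 173056, nat_lit 164352, nat_lit 162816, nat_lit 156160, nat_lit 152032, nat_lit 149200, nat_lit 143760, nat_lit 140560, nat_lit 136272, nat_lit 132830, nat_lit 1298, nat_lit 5884, nat_lit 9464, nat_lit 12784, nat_lit 16864, nat_lit 20608, nat_lit 24832, nat_lit 29184, nat_lit 33280, nat_lit 41592, nat_lit 38343, nat_lit 32960, nat_lit 28764, nat_lit 24717, nat_lit 20494, nat_lit 16455, nat_lit 12326, nat_lit 8209, nat_lit 4100, nat_lit 2]⟩⟩⟩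
def p123 : AP := ⟨[nat_lit 634, nat_lit 23, nat_lit 31, nat_lit 28], [], (nat_lit 88), ⟨[nat_lit 0, nat_lit 4, nat_lit 90], [nat_lit 26, nat_lit 52], ⟨[nat_lit 0x5be036895144dc0a5aa521cd793121], [nat_lit 173056, nat_lit 168960, nat_lit 165376, nat_lit 161664, nat_lit 156288, nat_lit 151968, nat_lit 147776, nat_lit 144472, nat_lit 141480, nat_lit 137142, nat_lit 132106, nat_lit 1142, nat_lit 5568, nat_lit 9464, nat_lit 13552, nat_lit 16672, nat_lit 22144, nat_lit 26496, nat_lit 29696, nat_lit 33280, nat_lit 41397, nat_lit 36961, nat_lit 33849, nat_lit 28928, nat_lit 25133, nat_lit 21013, nat_lit 16427, nat_lit 12292, nat_lit 8202, nat_lit 16]⟩⟩⟩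
def p124 : AP := ⟨[], [], (nat_lit 217), ⟨[nat_lit 0, nat_lit 9, nat_lit 64], [nat_lit 0, nat_lit 78, nat_lit 65], ⟨[nat_lit 0xa3d0158eed51e4914cc0ac4962c1cc], [nat_lit 173056, nat_lit 168448, nat_lit 161024, nat_lit 157632, nat_lit 151808, nat_lit 149216, nat_lit 146160, nat_lit 139784, nat_lit 135668, nat_lit 132696, nat_lit 902, nat_lit 5768, nat_lit 10224, nat_lit 12416, nat_lit 16448, nat_lit 21184, nat_lit 26112, nat_lit 30208, nat_lit 33792, nat_lit 37888, nat_lit 41096, nat_lit 37363, nat_lit 33412, nat_lit 28760, nat_lit 24755, nat_lit 20553, nat_lit 16519, nat_lit 8211, nat_lit 4113, nat_lit 16]⟩⟩⟩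
def l125 : List AP := [⟨[], [], (nat_lit 1034), ⟨[nat_lit 0, nat_lit 22, nat_lit 68], [nat_lit 0, nat_lit 71, nat_lit 92], ⟨[nat_lit 0x890f7534c2b06009bd957246592e88], [nat_lit 173056, nat_lit 168448, nat_lit 166400, nat_lit 162432, nat_lit 157824, nat_lit 154880, nat_lit 148368, nat_lit 145552, nat_lit 143256, nat_lit 135192, nat_lit 134336, nat_lit 236, nat_lit 5112, nat_lit 8224, nat_lit 13456, nat_lit 17408, nat_lit 24960, nat_lit 28928, nat_lit 37888, nat_lit 41615, nat_lit 38286, nat_lit 32854, nat_lit 28697, nat_lit 24883, nat_lit 20557, nat_lit 16520, nat_lit 12321, nat_lit 8258, nat_lit 4100]⟩⟩⟩]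
theorem s125 : Suf yT 8192 (ldrop wS 161) (apW dcM p124) (tgtN dcM p124.e) := Suf.fin' (l := l125) (by decide +kernel)
def l124 : List AP := [⟨[nat_lit 635, nat_lit 27, nat_lit 634, nat_lit 634, nat_lit 28], [], (nat_lit 216), ⟨[nat_lit 5, nat_lit 48], [nat_lit 5, nat_lit 59], ⟨[nat_lit 0x44aec05aa44c28d0a8ab1bcee30a33], [nat_lit 171008, nat_lit 162816, nat_lit 156864, nat_lit 155200, nat_lit 149968, nat_lit 145648, nat_lit 139956, nat_lit 135234, nat_lit 133654, nat_lit 78, nat_lit 4340, nat_lit 8704, nat_lit 13760, nat_lit 18336, nat_lit 21376, nat_lit 25728, nat_lit 30464, nat_lit 33792, nat_lit 41771, nat_lit 38213, nat_lit 33990, nat_lit 28959, nat_lit 24705, nat_lit 20570, nat_lit 16391, nat_lit 12322, nat_lit 8195, nat_lit 4097, nat_lit 2]⟩⟩⟩,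
  ⟨[nat_lit 135, nat_lit 651], [], (nat_lit 254), ⟨[nat_lit 0, nat_lit 22, nat_lit 68], [nat_lit 0, nat_lit 11, nat_lit 63], ⟨[nat_lit 0x5c26538869ba0d48b6c07483563c8a], [nat_lit 168960, nat_lit 165120, nat_lit 160768, nat_lit 156608, nat_lit 153504, nat_lit 149232, nat_lit 145232, nat_lit 142400, nat_lit 136686, nat_lit 132596, nat_lit 1814, nat_lit 4396, nat_lit 10088, nat_lit 14192, nat_lit 16864, nat_lit 20800, nat_lit 25856, nat_lit 29440, nat_lit 34304, nat_lit 37888, nat_lit 41404, nat_lit 36900, nat_lit 33015, nat_lit 28794, nat_lit 24764, nat_lit 20508, nat_lit 16385, nat_lit 12294, nat_lit 4104]⟩⟩⟩]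
theorem s124 : Suf yT 8192 (ldrop wS 146) (apW dcM p123) (tgtN dcM p123.e) := Suf.seg (l := l124) (by decide +kernel) s125
def l123 : List AP := [⟨[nat_lit 636, nat_lit 32, nat_lit 24, nat_lit 27], [], (nat_lit 88), ⟨[nat_lit 0, nat_lit 45, nat_lit 50], [nat_lit 80, nat_lit 49], ⟨[nat_lit 0x6dcf2089002c6cc79a931ad49242ae], [nat_lit 173056, nat_lit 168960, nat_lit 164864, nat_lit 161152, nat_lit 157632, nat_lit 151680, nat_lit 148080, nat_lit 143624, nat_lit 142316, nat_lit 136612, nat_lit 132065, nat_lit 342, nat_lit 4720, nat_lit 8256, nat_lit 13056, nat_lit 18336, nat_lit 21312, nat_lit 29184, nat_lit 34304, nat_lit 37888, nat_lit 41390, nat_lit 37188, nat_lit 33529, nat_lit 29052, nat_lit 24611, nat_lit 20551, nat_lit 16386, nat_lit 12545, nat_lit 4113, nat_lit 2]⟩⟩⟩,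
  ⟨[nat_lit 31, nat_lit 23, nat_lit 22, nat_lit 21], [], (nat_lit 88), ⟨[nat_lit 40, nat_lit 49], [nat_lit 84, nat_lit 94], ⟨[nat_lit 0xdc866bea0b2d021c67464927540ae], [nat_lit 174080, nat_lit 169984, nat_lit 167168, nat_lit 161408, nat_lit 158848, nat_lit 155456, nat_lit 149408, nat_lit 145784, nat_lit 140684, nat_lit 136588, nat_lit 131597, nat_lit 166, nat_lit 4132, nat_lit 10224, nat_lit 14112, nat_lit 17216, nat_lit 20928, nat_lit 24704, nat_lit 29696, nat_lit 33792, nat_lit 41160, nat_lit 37373, nat_lit 32936, nat_lit 28778, nat_lit 24587, nat_lit 20610, nat_lit 16385, nat_lit 12293, nat_lit 8201, nat_lit 4161, nat_lit 8]⟩⟩⟩]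
theorem s123 : Suf yT 8192 (ldrop wS 140) (apW dcM p122) (tgtN dcM p122.e) := Suf.seg (l := l123) (by decide +kernel) s124
def l122 : List AP := [⟨[], [], (nat_lit 254), ⟨[nat_lit 0, nat_lit 8, nat_lit 60], [nat_lit 24, nat_lit 52], ⟨[nat_lit 0x536a17d8699c4900510c398b213aeb], [nat_lit 171520, nat_lit 164096, nat_lit 162048, nat_lit 156032, nat_lit 155040, nat_lit 150992, nat_lit 146032, nat_lit 141016, nat_lit 136012, nat_lit 134778, nat_lit 354, nat_lit 4768, nat_lit 9928, nat_lit 14016, nat_lit 18336, nat_lit 21120, nat_lit 25984, nat_lit 33792, nat_lit 37888, nat_lit 40987, nat_lit 37203, nat_lit 33005, nat_lit 28699, nat_lit 24629, nat_lit 20505, nat_lit 16395, nat_lit 12308, nat_lit 8195, nat_lit 4101]⟩⟩⟩,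
  ⟨[nat_lit 653, nat_lit 133, nat_lit 130], [], (nat_lit 254), ⟨[nat_lit 72, nat_lit 93], [nat_lit 0, nat_lit 25, nat_lit 92], ⟨[nat_lit 0x94e0b798568a1492d42e3b0176d083], [nat_lit 175104, nat_lit 165632, nat_lit 160128, nat_lit 156608, nat_lit 152064, nat_lit 148272, nat_lit 144016, nat_lit 141036, nat_lit 135870, nat_lit 131162, nat_lit 484, nat_lit 5064, nat_lit 9080, nat_lit 13312, nat_lit 16768, nat_lit 20864, nat_lit 24832, nat_lit 30208, nat_lit 33280, nat_lit 41358, nat_lit 36988, nat_lit 32972, nat_lit 29009, nat_lit 24873, nat_lit 20567, nat_lit 16385, nat_lit 12289, nat_lit 8257, nat_lit 4128, nat_lit 8]⟩⟩⟩]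
theorem s122 : Suf yT 8192 (ldrop wS 125) (apW dcM p121) (tgtN dcM p121.e) := Suf.seg (l := l122) (by decide +kernel) s123
def l121 : List AP := [⟨[nat_lit 112, nat_lit 130, nat_lit 113], [], (nat_lit 246), ⟨[nat_lit 28, nat_lit 94], [nat_lit 76, nat_lit 64], ⟨[nat_lit 0x25e6b8385160d09a3c169195569ca1], [nat_lit 175104, nat_lit 171520, nat_lit 166144, nat_lit 163712, nat_lit 157376, nat_lit 154784, nat_lit 149728, nat_lit 144824, nat_lit 142724, nat_lit 137142, nat_lit 132548, nat_lit 1180, nat_lit 4224, nat_lit 10032, nat_lit 12464, nat_lit 17888, nat_lit 21312, nat_lit 24704, nat_lit 30208, nat_lit 34304, nat_lit 37888, nat_lit 41604, nat_lit 37972, nat_lit 32817, nat_lit 29275, nat_lit 25108, nat_lit 20494, nat_lit 16395, nat_lit 12310, nat_lit 8195, nat_lit 4101, nat_lit 4]⟩⟩⟩,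
  ⟨[nat_lit 638, nat_lit 23, nat_lit 25, nat_lit 21], [], (nat_lit 88), ⟨[nat_lit 74, nat_lit 70], [nat_lit 86], ⟨[nat_lit 0x146836c9d7329800bca93c0959aec8], [nat_lit 173056, nat_lit 168960, nat_lit 155904, nat_lit 153248, nat_lit 149232, nat_lit 145216, nat_lit 140852, nat_lit 136112, nat_lit 131939, nat_lit 952, nat_lit 4824, nat_lit 8744, nat_lit 12544, nat_lit 18304, nat_lit 21696, nat_lit 26368, nat_lit 30464, nat_lit 41792, nat_lit 37148, nat_lit 32886, nat_lit 28688, nat_lit 24851, nat_lit 20557, nat_lit 16515, nat_lit 12327, nat_lit 8201, nat_lit 4101, nat_lit 2]⟩⟩⟩]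
theorem s121 : Suf yT 8192 (ldrop wS 110) (apW dcM p120) (tgtN dcM p120.e) := Suf.seg (l := l121) (by decide +kernel) s122
def l120 : List AP := [⟨[nat_lit 28, nat_lit 27, nat_lit 638, nat_lit 27], [], (nat_lit 88), ⟨[nat_lit 0, nat_lit 4, nat_lit 59], [nat_lit 0, nat_lit 24, nat_lit 52], ⟨[nat_lit 0x350ee8c2ecab440484b39288343d76], [nat_lit 168448, nat_lit 165376, nat_lit 160128, nat_lit 157760, nat_lit 153216, nat_lit 147760, nat_lit 143624, nat_lit 139284, nat_lit 136096, nat_lit 132195, nat_lit 760, nat_lit 5016, nat_lit 8408, nat_lit 12544, nat_lit 16992, nat_lit 22016, nat_lit 24832, nat_lit 29696, nat_lit 34304, nat_lit 37888, nat_lit 41811, nat_lit 37926, nat_lit 33442, nat_lit 29031, nat_lit 24606, nat_lit 20492, nat_lit 16454, nat_lit 12304, nat_lit 8224]⟩⟩⟩,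
  ⟨[nat_lit 22, nat_lit 28, nat_lit 32, nat_lit 635, nat_lit 635], [], (nat_lit 216), ⟨[nat_lit 0], [nat_lit 0, nat_lit 73, nat_lit 64], ⟨[nat_lit 0xa41650a54d41af37d476200ee9444c], [nat_lit 174080, nat_lit 169472, nat_lit 166400, nat_lit 163328, nat_lit 158464, nat_lit 153472, nat_lit 149472, nat_lit 143784, nat_lit 141588, nat_lit 138370, nat_lit 132718, nat_lit 210, nat_lit 5568, nat_lit 8704, nat_lit 14064, nat_lit 18336, nat_lit 22080, nat_lit 26496, nat_lit 30464, nat_lit 33792, nat_lit 41333, nat_lit 36935, nat_lit 32957, nat_lit 28966, nat_lit 25102, nat_lit 20763, nat_lit 16386, nat_lit 12359, nat_lit 8194, nat_lit 64]⟩⟩⟩]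
theorem s120 : Suf yT 8192 (ldrop wS 95) (apW dcM p119) (tgtN dcM p119.e) := Suf.seg (l := l120) (by decide +kernel) s121
def l119 : List AP := [⟨[nat_lit 27, nat_lit 25, nat_lit 28, nat_lit 22, nat_lit 25], [], (nat_lit 216), ⟨[nat_lit 37, nat_lit 67], [nat_lit 32, nat_lit 69], ⟨[nat_lit 0xa0aa6700ed90e65485448aeefb410c], [nat_lit 173056, nat_lit 169472, nat_lit 164352, nat_lit 161280, nat_lit 156608, nat_lit 151968, nat_lit 148432, nat_lit 143432, nat_lit 139820, nat_lit 135554, nat_lit 133361, nat_lit 318, nat_lit 4156, nat_lit 8360, nat_lit 12976, nat_lit 17600, nat_lit 21312, nat_lit 24832, nat_lit 28928, nat_lit 33792, nat_lit 41597, nat_lit 37346, nat_lit 32979, nat_lit 29055, nat_lit 24580, nat_lit 20623, nat_lit 16395, nat_lit 8259, nat_lit 4097]⟩⟩⟩,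
  ⟨[], [], (nat_lit 255), ⟨[nat_lit 33, nat_lit 55], [nat_lit 23, nat_lit 52], ⟨[nat_lit 0x5c5d620109309aca16e191c70abe6a], [nat_lit 168960, nat_lit 164096, nat_lit 161280, nat_lit 157504, nat_lit 153440, nat_lit 149424, nat_lit 143632, nat_lit 139784, nat_lit 135504, nat_lit 134138, nat_lit 122, nat_lit 4684, nat_lit 9560, nat_lit 14032, nat_lit 16864, nat_lit 21568, nat_lit 26112, nat_lit 30464, nat_lit 33280, nat_lit 41842, nat_lit 37933, nat_lit 33001, nat_lit 29006, nat_lit 24844, nat_lit 20488, nat_lit 16399, nat_lit 12305, nat_lit 8195, nat_lit 4]⟩⟩⟩]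
theorem s119 : Suf yT 8192 (ldrop wS 89) (apW dcM p118) (tgtN dcM p118.e) := Suf.seg (l := l119) (by decide +kernel) s120
def l118 : List AP := [⟨[nat_lit 23, nat_lit 31, nat_lit 31, nat_lit 635, nat_lit 24, nat_lit 22], [], (nat_lit 216), ⟨[nat_lit 88, nat_lit 50], [nat_lit 3, nat_lit 51], ⟨[nat_lit 0xa2d0704d2d892f2b38cf114355406c], [nat_lit 169984, nat_lit 164864, nat_lit 161664, nat_lit 158784, nat_lit 152160, nat_lit 149184, nat_lit 146352, nat_lit 143060, nat_lit 137420, nat_lit 134617, nat_lit 880, nat_lit 4404, nat_lit 9488, nat_lit 12352, nat_lit 16864, nat_lit 22272, nat_lit 25728, nat_lit 30464, nat_lit 33280, nat_lit 37888, nat_lit 41035, nat_lit 37081, nat_lit 32995, nat_lit 28781, nat_lit 24747, nat_lit 20496, nat_lit 16396, nat_lit 12292, nat_lit 8203, nat_lit 4097]⟩⟩⟩,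
  ⟨[nat_lit 130, nat_lit 117, nat_lit 109], [], (nat_lit 246), ⟨[nat_lit 0, nat_lit 11, nat_lit 53], [nat_lit 7, nat_lit 54], ⟨[nat_lit 0xabe286aa5719d69206d42cc50038cc], [nat_lit 174080, nat_lit 171008, nat_lit 165888, nat_lit 156160, nat_lit 153376, nat_lit 149776, nat_lit 144240, nat_lit 139840, nat_lit 137306, nat_lit 133391, nat_lit 1580, nat_lit 5436, nat_lit 9136, nat_lit 12688, nat_lit 17376, nat_lit 20736, nat_lit 26496, nat_lit 29440, nat_lit 33792, nat_lit 37888, nat_lit 41884, nat_lit 38303, nat_lit 32803, nat_lit 28759, nat_lit 24586, nat_lit 20736, nat_lit 16516, nat_lit 12294, nat_lit 8195, nat_lit 4097]⟩⟩⟩]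
theorem s118 : Suf yT 8192 (ldrop wS 74) (apW dcM p117) (tgtN dcM p117.e) := Suf.seg (l := l118) (by decide +kernel) s119
def l117 : List AP := [⟨[nat_lit 112, nat_lit 137], [], (nat_lit 255), ⟨[nat_lit 20, nat_lit 67], [nat_lit 17, nat_lit 54], ⟨[nat_lit 0x6b98ab066543d6920a9089c7504ae6], [nat_lit 168448, nat_lit 164864, nat_lit 160256, nat_lit 156096, nat_lit 153536, nat_lit 148768, nat_lit 144088, nat_lit 141272, nat_lit 137486, nat_lit 132313, nat_lit 116, nat_lit 5120, nat_lit 8304, nat_lit 16864, nat_lit 22208, nat_lit 24704, nat_lit 34304, nat_lit 37888, nat_lit 41513, nat_lit 38256, nat_lit 33435, nat_lit 29000, nat_lit 24832, nat_lit 20501, nat_lit 16416, nat_lit 12421, nat_lit 8201, nat_lit 4097, nat_lit 2]⟩⟩⟩,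
  ⟨[nat_lit 132, nat_lit 652, nat_lit 114], [], (nat_lit 254), ⟨[nat_lit 6, nat_lit 68], [nat_lit 0, nat_lit 80, nat_lit 67], ⟨[nat_lit 0xab40b9918e3454909c70bc8b4409f6], [nat_lit 168960, nat_lit 164096, nat_lit 157056, nat_lit 153504, nat_lit 151168, nat_lit 144912, nat_lit 140692, nat_lit 135296, nat_lit 680, nat_lit 5296, nat_lit 8208, nat_lit 13920, nat_lit 16416, nat_lit 20736, nat_lit 26240, nat_lit 28928, nat_lit 34304, nat_lit 41776, nat_lit 38238, nat_lit 33984, nat_lit 28720, nat_lit 24868, nat_lit 20506, nat_lit 12322, nat_lit 4128]⟩⟩⟩]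
theorem s117 : Suf yT 8192 (ldrop wS 59) (apW dcM p116) (tgtN dcM p116.e) := Suf.seg (l := l117) (by decide +kernel) s118
def l116 : List AP := [⟨[nat_lit 21, nat_lit 28, nat_lit 635], [], (nat_lit 89), ⟨[nat_lit 38, nat_lit 65], [nat_lit 0, nat_lit 23, nat_lit 48], ⟨[nat_lit 0x2c0e3a990e8b1e09069722acd58a69], [nat_lit 175104, nat_lit 168448, nat_lit 160896, nat_lit 157440, nat_lit 152608, nat_lit 147552, nat_lit 143552, nat_lit 140236, nat_lit 135212, nat_lit 132906, nat_lit 1928, nat_lit 4548, nat_lit 9216, nat_lit 12816, nat_lit 16480, nat_lit 22080, nat_lit 26496, nat_lit 30208, nat_lit 37888, nat_lit 41679, nat_lit 38351, nat_lit 32941, nat_lit 28753, nat_lit 24596, nat_lit 20504, nat_lit 16429, nat_lit 12294, nat_lit 4097, nat_lit 2]⟩⟩⟩,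
  ⟨[nat_lit 634, nat_lit 28, nat_lit 635, nat_lit 638, nat_lit 32], [], (nat_lit 216), ⟨[nat_lit 31, nat_lit 58], [nat_lit 5, nat_lit 47], ⟨[nat_lit 0xa2ad37a20d024313acb211aeea8c8c], [nat_lit 173056, nat_lit 168960, nat_lit 166400, nat_lit 159872, nat_lit 157312, nat_lit 153568, nat_lit 148208, nat_lit 143912, nat_lit 139468, nat_lit 135670, nat_lit 132762, nat_lit 2012, nat_lit 4396, nat_lit 10168, nat_lit 12304, nat_lit 16640, nat_lit 21504, nat_lit 25344, nat_lit 30464, nat_lit 41216, nat_lit 36928, nat_lit 28729, nat_lit 25137, nat_lit 20566, nat_lit 16396, nat_lit 12311, nat_lit 8208, nat_lit 4105, nat_lit 8]⟩⟩⟩]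
theorem s116 : Suf yT 8192 (ldrop wS 44) (apW dcM p115) (tgtN dcM p115.e) := Suf.seg (l := l116) (by decide +kernel) s117
def l115 : List AP := [⟨[nat_lit 135, nat_lit 118, nat_lit 130], [], (nat_lit 254), ⟨[nat_lit 71, nat_lit 57], [nat_lit 0, nat_lit 29, nat_lit 46], ⟨[nat_lit 0x5b5e02146983286454563ba370ce4a], [nat_lit 173056, nat_lit 168448, nat_lit 164608, nat_lit 163712, nat_lit 157568, nat_lit 152256, nat_lit 148112, nat_lit 145392, nat_lit 140584, nat_lit 135282, nat_lit 131775, nat_lit 1938, nat_lit 9560, nat_lit 14000, nat_lit 18304, nat_lit 22016, nat_lit 25472, nat_lit 29184, nat_lit 33280, nat_lit 37888, nat_lit 41692, nat_lit 37304, nat_lit 33315, nat_lit 25650, nat_lit 20573, nat_lit 16428, nat_lit 12309, nat_lit 8193, nat_lit 4104]⟩⟩⟩,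
  ⟨[], [], (nat_lit 217), ⟨[nat_lit 0, nat_lit 15, nat_lit 53], [nat_lit 55], ⟨[nat_lit 0xa4e00706ed795323d8665d44a2222c], [nat_lit 168960, nat_lit 164608, nat_lit 159872, nat_lit 152608, nat_lit 147712, nat_lit 144640, nat_lit 140308, nat_lit 138990, nat_lit 131530, nat_lit 1580, nat_lit 4608, nat_lit 8760, nat_lit 12832, nat_lit 17664, nat_lit 21568, nat_lit 25984, nat_lit 29696, nat_lit 33792, nat_lit 37888, nat_lit 41909, nat_lit 37179, nat_lit 33337, nat_lit 29739, nat_lit 24579, nat_lit 21004, nat_lit 16418, nat_lit 12420, nat_lit 8211, nat_lit 16]⟩⟩⟩]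
theorem s115 : Suf yT 8192 (ldrop wS 38) (apW dcM p114) (tgtN dcM p114.e) := Suf.seg (l := l115) (by decide +kernel) s116
def l114 : List AP := [⟨[nat_lit 31, nat_lit 23, nat_lit 22, nat_lit 21], [], (nat_lit 88), ⟨[nat_lit 0, nat_lit 41, nat_lit 64], [nat_lit 0, nat_lit 43, nat_lit 49], ⟨[nat_lit 0x62e35a1ec0121441ccd0bc9c92bc2d], [nat_lit 175104, nat_lit 168448, nat_lit 164096, nat_lit 162560, nat_lit 156160, nat_lit 152640, nat_lit 151264, nat_lit 146560, nat_lit 142464, nat_lit 138434, nat_lit 134617, nat_lit 494, nat_lit 5488, nat_lit 10200, nat_lit 14304, nat_lit 17888, nat_lit 21888, nat_lit 25472, nat_lit 30464, nat_lit 33280, nat_lit 37888, nat_lit 41361, nat_lit 37230, nat_lit 32849, nat_lit 29708, nat_lit 24598, nat_lit 20484, nat_lit 16399, nat_lit 12310, nat_lit 8210, nat_lit 4097, nat_lit 2]⟩⟩⟩,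
  ⟨[nat_lit 30, nat_lit 638, nat_lit 636, nat_lit 22, nat_lit 23], [], (nat_lit 216), ⟨[nat_lit 57], [nat_lit 0, nat_lit 81, nat_lit 62], ⟨[nat_lit 0x44ac80de77268d59897aca6a45841], [nat_lit 173056, nat_lit 161536, nat_lit 157120, nat_lit 152000, nat_lit 148288, nat_lit 145800, nat_lit 140320, nat_lit 136672, nat_lit 131435, nat_lit 698, nat_lit 4100, nat_lit 8200, nat_lit 12544, nat_lit 17536, nat_lit 21888, nat_lit 25088, nat_lit 29440, nat_lit 34304, nat_lit 41736, nat_lit 38120, nat_lit 32963, nat_lit 28789, nat_lit 24720, nat_lit 20498, nat_lit 16419, nat_lit 8195, nat_lit 4101, nat_lit 4]⟩⟩⟩]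
theorem s114 : Suf yT 8192 (ldrop wS 23) (apW dcM p113) (tgtN dcM p113.e) := Suf.seg (l := l114) (by decide +kernel) s115
def l113 : List AP := [⟨[nat_lit 24, nat_lit 24, nat_lit 636, nat_lit 25, nat_lit 31], [], (nat_lit 247), ⟨[nat_lit 0, nat_lit 73, nat_lit 50], [nat_lit 23, nat_lit 56], ⟨[nat_lit 0x898289ba16651699288029df76d462], [nat_lit 175104, nat_lit 169984, nat_lit 166144, nat_lit 161792, nat_lit 155968, nat_lit 155104, nat_lit 149632, nat_lit 143816, nat_lit 142092, nat_lit 136424, nat_lit 131959, nat_lit 1766, nat_lit 5888, nat_lit 8200, nat_lit 13712, nat_lit 18336, nat_lit 21248, nat_lit 26240, nat_lit 29184, nat_lit 37888, nat_lit 41797, nat_lit 38057, nat_lit 33439, nat_lit 28788, nat_lit 24603, nat_lit 20492, nat_lit 16399, nat_lit 12304, nat_lit 8202, nat_lit 4105, nat_lit 4]⟩⟩⟩,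
  ⟨[nat_lit 649, nat_lit 130], [], (nat_lit 217), ⟨[nat_lit 14, nat_lit 57], [nat_lit 0, nat_lit 9, nat_lit 68], ⟨[nat_lit 0x886d4502691c18d5dcae308f2221f5], [nat_lit 173056, nat_lit 168960, nat_lit 164352, nat_lit 160256, nat_lit 155904, nat_lit 152992, nat_lit 147760, nat_lit 145344, nat_lit 140200, nat_lit 136778, nat_lit 133236, nat_lit 394, nat_lit 5856, nat_lit 8736, nat_lit 14192, nat_lit 24704, nat_lit 29184, nat_lit 34304, nat_lit 37888, nat_lit 41535, nat_lit 37246, nat_lit 32911, nat_lit 28961, nat_lit 25123, nat_lit 20507, nat_lit 16395, nat_lit 12291, nat_lit 8258, nat_lit 4097, nat_lit 2]⟩⟩⟩]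
theorem s113 : Suf yT 8192 (ldrop wS 8) (apW dcM p112) (tgtN dcM p112.e) := Suf.seg (l := l113) (by decide +kernel) s114
def l112 : List AP := [⟨[nat_lit 0, nat_lit 5, nat_lit 4, nat_lit 4, nat_lit 1, nat_lit 626], [], (nat_lit 26), ⟨[nat_lit 7, nat_lit 89], [nat_lit 11, nat_lit 66], ⟨[nat_lit 0xbbd11190404cdd46caaa3942682ecc], [nat_lit 169472, nat_lit 164608, nat_lit 161152, nat_lit 156416, nat_lit 152992, nat_lit 150512, nat_lit 143512, nat_lit 140716, nat_lit 135876, nat_lit 131434, nat_lit 902, nat_lit 4396, nat_lit 8928, nat_lit 13024, nat_lit 17408, nat_lit 21248, nat_lit 25600, nat_lit 30464, nat_lit 37888, nat_lit 41872, nat_lit 37108, nat_lit 32869, nat_lit 29258, nat_lit 24603, nat_lit 20622, nat_lit 12355, nat_lit 8194, nat_lit 4097, nat_lit 2]⟩⟩⟩,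
  ⟨[nat_lit 39, nat_lit 43, nat_lit 43, nat_lit 37, nat_lit 630], [], (nat_lit 70), ⟨[nat_lit 0, nat_lit 1, nat_lit 64], [nat_lit 0, nat_lit 80, nat_lit 53], ⟨[nat_lit 0x25811b86077b54c90cb44ad0e9d446], [nat_lit 173056, nat_lit 168960, nat_lit 164864, nat_lit 160768, nat_lit 157568, nat_lit 153248, nat_lit 149040, nat_lit 144544, nat_lit 140644, nat_lit 137578, nat_lit 133072, nat_lit 738, nat_lit 4100, nat_lit 9216, nat_lit 12448, nat_lit 18336, nat_lit 22336, nat_lit 25856, nat_lit 29696, nat_lit 34304, nat_lit 37888, nat_lit 41944, nat_lit 37190, nat_lit 33312, nat_lit 29790, nat_lit 24861, nat_lit 20573, nat_lit 16386, nat_lit 12291, nat_lit 8195, nat_lit 4]⟩⟩⟩]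
theorem rS1 : Suf yT 8192 wS [yT.get 35] 0 := Suf.seg (l := l112) (by decide +kernel) s113

def p126 : AP := ⟨[nat_lit 25, nat_lit 638], [], (nat_lit 68), ⟨[nat_lit 0, nat_lit 13, nat_lit 69], [nat_lit 41, nat_lit 57], ⟨[nat_lit 0xb3a6b6413421865546af0082743657], [nat_lit 168448, nat_lit 164096, nat_lit 160256, nat_lit 159552, nat_lit 153152, nat_lit 147856, nat_lit 144024, nat_lit 140608, nat_lit 136338, nat_lit 131771, nat_lit 1076, nat_lit 4264, nat_lit 8368, nat_lit 12704, nat_lit 17248, nat_lit 30464, nat_lit 37888, nat_lit 41108, nat_lit 37214, nat_lit 32904, nat_lit 28994, nat_lit 24608, nat_lit 20562, nat_lit 16417, nat_lit 12418, nat_lit 8707, nat_lit 4113]⟩⟩⟩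
def p127 : AP := ⟨[nat_lit 21, nat_lit 27, nat_lit 24], [], (nat_lit 88), ⟨[nat_lit 83, nat_lit 63], [nat_lit 0, nat_lit 10, nat_lit 92], ⟨[nat_lit 0x5d0959a4f09494628f184c56ab86d], [nat_lit 174080, nat_lit 164096, nat_lit 157120, nat_lit 152032, nat_lit 147696, nat_lit 145128, nat_lit 140012, nat_lit 136046, nat_lit 131794, nat_lit 1516, nat_lit 4868, nat_lit 9136, nat_lit 13312, nat_lit 18240, nat_lit 21888, nat_lit 25216, nat_lit 30464, nat_lit 34304, nat_lit 41943, nat_lit 38359, nat_lit 34007, nat_lit 28788, nat_lit 24616, nat_lit 20554, nat_lit 16513, nat_lit 12291, nat_lit 4105]⟩⟩⟩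
def p128 : AP := ⟨[nat_lit 132, nat_lit 137, nat_lit 111], [], (nat_lit 254), ⟨[nat_lit 34, nat_lit 69], [nat_lit 0, nat_lit 37, nat_lit 49], ⟨[nat_lit 0x25e29341157854b29c6e6c813b3282], [nat_lit 173056, nat_lit 169472, nat_lit 165120, nat_lit 160640, nat_lit 158272, nat_lit 152160, nat_lit 149120, nat_lit 144832, nat_lit 139456, nat_lit 135902, nat_lit 131629, nat_lit 700, nat_lit 4380, nat_lit 8224, nat_lit 12768, nat_lit 17664, nat_lit 20544, nat_lit 25344, nat_lit 29696, nat_lit 33792, nat_lit 41792, nat_lit 36928, nat_lit 32980, nat_lit 28969, nat_lit 24766, nat_lit 20506, nat_lit 16421, nat_lit 12306, nat_lit 8203, nat_lit 4100, nat_lit 8]⟩⟩⟩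
def p129 : AP := ⟨[nat_lit 638, nat_lit 637, nat_lit 32], [], (nat_lit 88), ⟨[nat_lit 88, nat_lit 67], [nat_lit 0, nat_lit 5, nat_lit 61], ⟨[nat_lit 0x28d40638888dda1848cba26a7b0a6f], [nat_lit 174080, nat_lit 170496, nat_lit 167168, nat_lit 162688, nat_lit 156608, nat_lit 153792, nat_lit 151184, nat_lit 144864, nat_lit 142580, nat_lit 135588, nat_lit 131279, nat_lit 1318, nat_lit 4340, nat_lit 10088, nat_lit 12976, nat_lit 18112, nat_lit 20800, nat_lit 24960, nat_lit 29696, nat_lit 34304, nat_lit 37888, nat_lit 41886, nat_lit 38370, nat_lit 33908, nat_lit 28955, nat_lit 24733, nat_lit 20511, nat_lit 16426, nat_lit 12320, nat_lit 8203, nat_lit 4104, nat_lit 2]⟩⟩⟩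
def p130 : AP := ⟨[], [], (nat_lit 255), ⟨[nat_lit 13, nat_lit 68], [nat_lit 54], ⟨[nat_lit 0x4d2a22182a7da67444122ddd01b1ab], [nat_lit 175104, nat_lit 168960, nat_lit 164864, nat_lit 161536, nat_lit 155712, nat_lit 151648, nat_lit 149152, nat_lit 145112, nat_lit 140968, nat_lit 136806, nat_lit 133013, nat_lit 566, nat_lit 6104, nat_lit 8928, nat_lit 13312, nat_lit 17664, nat_lit 22208, nat_lit 25472, nat_lit 30464, nat_lit 33792, nat_lit 41883, nat_lit 38081, nat_lit 33370, nat_lit 28756, nat_lit 24581, nat_lit 20484, nat_lit 16516, nat_lit 8194, nat_lit 4097, nat_lit 2]⟩⟩⟩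
def p131 : AP := ⟨[nat_lit 120, nat_lit 137, nat_lit 112], [], (nat_lit 246), ⟨[nat_lit 0, nat_lit 3, nat_lit 64], [nat_lit 0, nat_lit 33, nat_lit 68], ⟨[nat_lit 0x4c985245e881d4eb5035008779b4cb], [nat_lit 169984, nat_lit 159872, nat_lit 157376, nat_lit 152992, nat_lit 148960, nat_lit 145128, nat_lit 140156, nat_lit 136118, nat_lit 132442, nat_lit 566, nat_lit 6104, nat_lit 8400, nat_lit 12912, nat_lit 16768, nat_lit 21312, nat_lit 29184, nat_lit 33792, nat_lit 41812, nat_lit 38348, nat_lit 33873, nat_lit 28728, nat_lit 25620, nat_lit 20632, nat_lit 16515, nat_lit 12289, nat_lit 8450, nat_lit 4101, nat_lit 4]⟩⟩⟩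
def p132 : AP := ⟨[nat_lit 24, nat_lit 24, nat_lit 25], [], (nat_lit 89), ⟨[nat_lit 0, nat_lit 79, nat_lit 65], [nat_lit 84, nat_lit 48], ⟨[nat_lit 0x44920bade69b02e559a58d45439203], [nat_lit 173056, nat_lit 169984, nat_lit 166400, nat_lit 162944, nat_lit 158016, nat_lit 152736, nat_lit 151152, nat_lit 145488, nat_lit 140560, nat_lit 138130, nat_lit 132830, nat_lit 1174, nat_lit 5016, nat_lit 10008, nat_lit 12352, nat_lit 16416, nat_lit 20544, nat_lit 25600, nat_lit 30464, nat_lit 33280, nat_lit 41775, nat_lit 37893, nat_lit 32962, nat_lit 28988, nat_lit 24578, nat_lit 20501, nat_lit 16423, nat_lit 12291, nat_lit 8227, nat_lit 8]⟩⟩⟩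
def p133 : AP := ⟨[nat_lit 118, nat_lit 651, nat_lit 130], [], (nat_lit 246), ⟨[nat_lit 0, nat_lit 43, nat_lit 52], [nat_lit 25, nat_lit 89], ⟨[nat_lit 0x3406961684b350b884eabba727d440], [nat_lit 168448, nat_lit 164352, nat_lit 161792, nat_lit 157632, nat_lit 153472, nat_lit 149296, nat_lit 145200, nat_lit 139336, nat_lit 137156, nat_lit 132392, nat_lit 128, nat_lit 5732, nat_lit 8320, nat_lit 14304, nat_lit 21248, nat_lit 25344, nat_lit 41140, nat_lit 37280, nat_lit 33015, nat_lit 28747, nat_lit 24731, nat_lit 20482, nat_lit 16448, nat_lit 8195, nat_lit 4101]⟩⟩⟩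
def p134 : AP := ⟨[], [], (nat_lit 255), ⟨[nat_lit 25, nat_lit 60], [nat_lit 0, nat_lit 29, nat_lit 58], ⟨[nat_lit 0x49cb71582a01a0d20e2e9a2557d18b], [nat_lit 173056, nat_lit 171008, nat_lit 165120, nat_lit 161792, nat_lit 155968, nat_lit 155232, nat_lit 149936, nat_lit 146936, nat_lit 140756, nat_lit 135802, nat_lit 133539, nat_lit 354, nat_lit 4380, nat_lit 8928, nat_lit 14144, nat_lit 16864, nat_lit 21312, nat_lit 25728, nat_lit 30464, nat_lit 33280, nat_lit 37888, nat_lit 41959, nat_lit 36921, nat_lit 32915, nat_lit 28775, nat_lit 24630, nat_lit 20492, nat_lit 16448, nat_lit 12295, nat_lit 8195, nat_lit 4100]⟩⟩⟩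
def p135 : AP := ⟨[nat_lit 24, nat_lit 27, nat_lit 24, nat_lit 25], [], (nat_lit 247), ⟨[nat_lit 73, nat_lit 66], [nat_lit 0, nat_lit 24, nat_lit 89], ⟨[nat_lit 0x4c69773e68a84ed60896518b21820b], [nat_lit 175104, nat_lit 170496, nat_lit 166912, nat_lit 160896, nat_lit 157952, nat_lit 155360, nat_lit 149472, nat_lit 146552, nat_lit 140420, nat_lit 135928, nat_lit 132634, nat_lit 986, nat_lit 5016, nat_lit 9328, nat_lit 17120, nat_lit 22272, nat_lit 24832, nat_lit 28928, nat_lit 41320, nat_lit 37261, nat_lit 32883, nat_lit 28776, nat_lit 24616, nat_lit 20495, nat_lit 16651, nat_lit 12304, nat_lit 8224, nat_lit 4101, nat_lit 4]⟩⟩⟩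
def p136 : AP := ⟨[nat_lit 650, nat_lit 137, nat_lit 131], [], (nat_lit 246), ⟨[nat_lit 14, nat_lit 50], [nat_lit 0, nat_lit 84, nat_lit 64], ⟨[nat_lit 0x35e49136b603d0b74c70610e1a1551], [nat_lit 173056, nat_lit 169472, nat_lit 166400, nat_lit 162944, nat_lit 157952, nat_lit 154272, nat_lit 149136, nat_lit 146040, nat_lit 142948, nat_lit 135732, nat_lit 133990, nat_lit 1004, nat_lit 5884, nat_lit 9848, nat_lit 13072, nat_lit 17568, nat_lit 20992, nat_lit 25472, nat_lit 29184, nat_lit 33280, nat_lit 41649, nat_lit 37987, nat_lit 32961, nat_lit 28758, nat_lit 24714, nat_lit 20491, nat_lit 16459, nat_lit 12322, nat_lit 8210]⟩⟩⟩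
def p137 : AP := ⟨[nat_lit 30, nat_lit 22, nat_lit 638, nat_lit 30], [], (nat_lit 89), ⟨[nat_lit 0, nat_lit 39, nat_lit 49], [nat_lit 0, nat_lit 81, nat_lit 50], ⟨[nat_lit 0xb30e06b9109282399125ac574bbcc2], [nat_lit 175104, nat_lit 171520, nat_lit 165888, nat_lit 163328, nat_lit 157504, nat_lit 154656, nat_lit 149920, nat_lit 144432, nat_lit 142472, nat_lit 131712, nat_lit 1136, nat_lit 6104, nat_lit 8408, nat_lit 12528, nat_lit 18336, nat_lit 21440, nat_lit 25600, nat_lit 29440, nat_lit 34304, nat_lit 41724, nat_lit 37372, nat_lit 32892, nat_lit 28798, nat_lit 24706, nat_lit 20493, nat_lit 16396, nat_lit 12309, nat_lit 4224, nat_lit 8]⟩⟩⟩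
def p138 : AP := ⟨[], [], (nat_lit 217), ⟨[nat_lit 0, nat_lit 18, nat_lit 57], [nat_lit 86, nat_lit 92], ⟨[nat_lit 0x69aa7101d4845f692825991235dd0c], [nat_lit 173056, nat_lit 168448, nat_lit 165120, nat_lit 161024, nat_lit 156096, nat_lit 153344, nat_lit 148224, nat_lit 144576, nat_lit 140092, nat_lit 136382, nat_lit 134438, nat_lit 318, nat_lit 4156, nat_lit 9328, nat_lit 14224, nat_lit 18048, nat_lit 21632, nat_lit 25088, nat_lit 29952, nat_lit 37888, nat_lit 41619, nat_lit 38228, nat_lit 33348, nat_lit 28777, nat_lit 24714, nat_lit 20482, nat_lit 16395, nat_lit 12310, nat_lit 4097]⟩⟩⟩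
def l139 : List AP := [⟨[], [], (nat_lit 1034), ⟨[nat_lit 0, nat_lit 10, nat_lit 55], [nat_lit 76, nat_lit 90], ⟨[nat_lit 0xb2cc00be23aba1721e4d64d0aa0925], [nat_lit 174080, nat_lit 170496, nat_lit 166400, nat_lit 160256, nat_lit 158400, nat_lit 154336, nat_lit 145856, nat_lit 141004, nat_lit 137088, nat_lit 131082, nat_lit 1938, nat_lit 4780, nat_lit 10088, nat_lit 14144, nat_lit 17088, nat_lit 20608, nat_lit 26496, nat_lit 28928, nat_lit 34304, nat_lit 41693, nat_lit 38261, nat_lit 32955, nat_lit 28712, nat_lit 24608, nat_lit 20511, nat_lit 16422, nat_lit 16]⟩⟩⟩]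
theorem s139 : Suf yT 16384 (ldrop wS 161) (apW dcM p138) (tgtN dcM p138.e) := Suf.fin' (l := l139) (by decide +kernel)
def l138 : List AP := [⟨[nat_lit 31, nat_lit 21, nat_lit 29, nat_lit 638, nat_lit 32], [], (nat_lit 216), ⟨[nat_lit 0, nat_lit 88, nat_lit 48], [nat_lit 74, nat_lit 57], ⟨[nat_lit 0x1dc8d920a601d947aa6e8aeb60a450], [nat_lit 173056, nat_lit 168960, nat_lit 167680, nat_lit 160128, nat_lit 155968, nat_lit 152864, nat_lit 148688, nat_lit 144840, nat_lit 140744, nat_lit 136648, nat_lit 132480, nat_lit 760, nat_lit 5568, nat_lit 8448, nat_lit 13328, nat_lit 16960, nat_lit 21632, nat_lit 24960, nat_lit 29952, nat_lit 33792, nat_lit 41738, nat_lit 38282, nat_lit 33012, nat_lit 28991, nat_lit 24715, nat_lit 20737, nat_lit 16420, nat_lit 12417, nat_lit 8194, nat_lit 4100, nat_lit 16]⟩⟩⟩,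
  ⟨[nat_lit 130, nat_lit 133, nat_lit 109], [], (nat_lit 254), ⟨[nat_lit 1, nat_lit 65], [nat_lit 74, nat_lit 52], ⟨[nat_lit 0x4d9c88808b7ca1535cac6868238e6a], [nat_lit 168448, nat_lit 165376, nat_lit 160000, nat_lit 155904, nat_lit 152544, nat_lit 148512, nat_lit 145296, nat_lit 140696, nat_lit 135702, nat_lit 134094, nat_lit 1818, nat_lit 4684, nat_lit 9560, nat_lit 14288, nat_lit 17728, nat_lit 20736, nat_lit 25728, nat_lit 29440, nat_lit 33792, nat_lit 37888, nat_lit 41033, nat_lit 37199, nat_lit 33506, nat_lit 28735, nat_lit 24577, nat_lit 20608, nat_lit 16387, nat_lit 12325, nat_lit 8195, nat_lit 4]⟩⟩⟩]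
theorem s138 : Suf yT 16384 (ldrop wS 146) (apW dcM p137) (tgtN dcM p137.e) := Suf.seg (l := l138) (by decide +kernel) s139
def l137 : List AP := [⟨[nat_lit 636, nat_lit 32, nat_lit 24, nat_lit 27], [], (nat_lit 88), ⟨[nat_lit 45, nat_lit 56], [nat_lit 0, nat_lit 81, nat_lit 48], ⟨[nat_lit 0x1ef20890d346a37948a62e70a26ce], [nat_lit 173056, nat_lit 168960, nat_lit 161536, nat_lit 157056, nat_lit 152704, nat_lit 148816, nat_lit 144976, nat_lit 142876, nat_lit 137182, nat_lit 131798, nat_lit 1292, nat_lit 4720, nat_lit 10128, nat_lit 14288, nat_lit 18368, nat_lit 21696, nat_lit 29184, nat_lit 34304, nat_lit 37888, nat_lit 41774, nat_lit 37204, nat_lit 33519, nat_lit 29020, nat_lit 24629, nat_lit 20545, nat_lit 16388, nat_lit 12551, nat_lit 8202, nat_lit 4101, nat_lit 2]⟩⟩⟩,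
  ⟨[nat_lit 31, nat_lit 23, nat_lit 22, nat_lit 21], [], (nat_lit 88), ⟨[nat_lit 0, nat_lit 44, nat_lit 50], [nat_lit 0, nat_lit 88, nat_lit 59], ⟨[nat_lit 0x12e66bea18acac1d94914a9099d0e], [nat_lit 175104, nat_lit 170496, nat_lit 167680, nat_lit 160512, nat_lit 158080, nat_lit 155040, nat_lit 147824, nat_lit 146008, nat_lit 140384, nat_lit 137004, nat_lit 131683, nat_lit 810, nat_lit 4352, nat_lit 8408, nat_lit 12784, nat_lit 18112, nat_lit 21504, nat_lit 24832, nat_lit 29696, nat_lit 33792, nat_lit 41304, nat_lit 37025, nat_lit 32950, nat_lit 29006, nat_lit 24602, nat_lit 20608, nat_lit 16392, nat_lit 12309, nat_lit 8193, nat_lit 4160, nat_lit 4]⟩⟩⟩]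
theorem s137 : Suf yT 16384 (ldrop wS 140) (apW dcM p136) (tgtN dcM p136.e) := Suf.seg (l := l137) (by decide +kernel) s138
def l136 : List AP := [⟨[], [], (nat_lit 254), ⟨[nat_lit 0, nat_lit 44, nat_lit 69], [nat_lit 31, nat_lit 46], ⟨[nat_lit 0x49eb77b8caa062d60e1644e451008b], [nat_lit 174080, nat_lit 171520, nat_lit 166656, nat_lit 163328, nat_lit 156800, nat_lit 155296, nat_lit 151504, nat_lit 144272, nat_lit 142836, nat_lit 137120, nat_lit 131870, nat_lit 986, nat_lit 5064, nat_lit 10144, nat_lit 13152, nat_lit 16512, nat_lit 21568, nat_lit 25344, nat_lit 33280, nat_lit 37888, nat_lit 41825, nat_lit 38389, nat_lit 33854, nat_lit 28692, nat_lit 24637, nat_lit 20558, nat_lit 16388, nat_lit 12357, nat_lit 8195, nat_lit 4101, nat_lit 4]⟩⟩⟩,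
  ⟨[nat_lit 650, nat_lit 653, nat_lit 116], [], (nat_lit 254), ⟨[nat_lit 79, nat_lit 57], [nat_lit 0, nat_lit 11, nat_lit 69], ⟨[nat_lit 0xac06944e817116ab5d871180f2c5b2], [nat_lit 173056, nat_lit 170496, nat_lit 165120, nat_lit 160512, nat_lit 157952, nat_lit 151776, nat_lit 148048, nat_lit 146616, nat_lit 141492, nat_lit 138546, nat_lit 134105, nat_lit 590, nat_lit 5024, nat_lit 9312, nat_lit 14304, nat_lit 17984, nat_lit 20864, nat_lit 24960, nat_lit 29184, nat_lit 40961, nat_lit 37281, nat_lit 33329, nat_lit 29054, nat_lit 24717, nat_lit 20548, nat_lit 16649, nat_lit 12304, nat_lit 8226]⟩⟩⟩]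
theorem s136 : Suf yT 16384 (ldrop wS 125) (apW dcM p135) (tgtN dcM p135.e) := Suf.seg (l := l136) (by decide +kernel) s137
def l135 : List AP := [⟨[nat_lit 649, nat_lit 651, nat_lit 109], [], (nat_lit 246), ⟨[nat_lit 0, nat_lit 18, nat_lit 68], [nat_lit 16, nat_lit 56], ⟨[nat_lit 0xaaae92918db510b8003210e3371de6], [nat_lit 173056, nat_lit 164352, nat_lit 160128, nat_lit 155712, nat_lit 153056, nat_lit 150112, nat_lit 144896, nat_lit 140764, nat_lit 136916, nat_lit 132736, nat_lit 158, nat_lit 4780, nat_lit 9136, nat_lit 13152, nat_lit 18112, nat_lit 22336, nat_lit 25984, nat_lit 29184, nat_lit 33280, nat_lit 41336, nat_lit 37250, nat_lit 32848, nat_lit 29266, nat_lit 24607, nat_lit 21506, nat_lit 16427, nat_lit 12326, nat_lit 8201, nat_lit 4128, nat_lit 4]⟩⟩⟩,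
  ⟨[nat_lit 27, nat_lit 25, nat_lit 638, nat_lit 24], [], (nat_lit 88), ⟨[nat_lit 0, nat_lit 79, nat_lit 47], [nat_lit 0, nat_lit 72, nat_lit 64], ⟨[nat_lit 0x155401c9a43c5e163936a2e13316e8], [nat_lit 164864, nat_lit 160384, nat_lit 156480, nat_lit 152416, nat_lit 149248, nat_lit 144432, nat_lit 140756, nat_lit 135570, nat_lit 131608, nat_lit 1396, nat_lit 5688, nat_lit 9712, nat_lit 13872, nat_lit 16640, nat_lit 20992, nat_lit 24832, nat_lit 28928, nat_lit 33792, nat_lit 37888, nat_lit 41954, nat_lit 37963, nat_lit 33444, nat_lit 29289, nat_lit 24720, nat_lit 21004, nat_lit 16451, nat_lit 12549, nat_lit 8225, nat_lit 4112, nat_lit 2]⟩⟩⟩]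
theorem s135 : Suf yT 16384 (ldrop wS 110) (apW dcM p134) (tgtN dcM p134.e) := Suf.seg (l := l135) (by decide +kernel) s136
def l134 : List AP := [⟨[nat_lit 637, nat_lit 637, nat_lit 27, nat_lit 28], [], (nat_lit 88), ⟨[nat_lit 0, nat_lit 42, nat_lit 70], [nat_lit 29, nat_lit 62], ⟨[nat_lit 0x340a04dced9898e58e4aa5621b3d04], [nat_lit 174080, nat_lit 169472, nat_lit 165376, nat_lit 160384, nat_lit 159104, nat_lit 154016, nat_lit 149504, nat_lit 144528, nat_lit 141680, nat_lit 136052, nat_lit 134234, nat_lit 1124, nat_lit 4352, nat_lit 8624, nat_lit 14192, nat_lit 16640, nat_lit 22272, nat_lit 25984, nat_lit 29696, nat_lit 34304, nat_lit 37888, nat_lit 41766, nat_lit 38076, nat_lit 32854, nat_lit 29195, nat_lit 24616, nat_lit 20556, nat_lit 16387, nat_lit 12292, nat_lit 8201, nat_lit 4112]⟩⟩⟩,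
  ⟨[nat_lit 24, nat_lit 22, nat_lit 636, nat_lit 29, nat_lit 27], [], (nat_lit 216), ⟨[nat_lit 0, nat_lit 82, nat_lit 53], [nat_lit 0, nat_lit 35, nat_lit 60], ⟨[nat_lit 0x6ac2a1988c049f375c5541e36824b4], [nat_lit 174080, nat_lit 168960, nat_lit 165632, nat_lit 160128, nat_lit 157632, nat_lit 153440, nat_lit 148368, nat_lit 143824, nat_lit 140660, nat_lit 135900, nat_lit 131382, nat_lit 664, nat_lit 5444, nat_lit 8264, nat_lit 13360, nat_lit 16704, nat_lit 20608, nat_lit 25600, nat_lit 29184, nat_lit 34304, nat_lit 37888, nat_lit 41283, nat_lit 37200, nat_lit 33511, nat_lit 28983, nat_lit 24586, nat_lit 20752, nat_lit 16646, nat_lit 12354, nat_lit 8225, nat_lit 4100, nat_lit 16]⟩⟩⟩]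
theorem s134 : Suf yT 16384 (ldrop wS 95) (apW dcM p133) (tgtN dcM p133.e) := Suf.seg (l := l134) (by decide +kernel) s135
def l133 : List AP := [⟨[nat_lit 32, nat_lit 26, nat_lit 32, nat_lit 22, nat_lit 21], [], (nat_lit 216), ⟨[nat_lit 53], [nat_lit 10, nat_lit 89], ⟨[nat_lit 0x69577ac814559e6204f38a0491c1cc], [nat_lit 173056, nat_lit 165632, nat_lit 161280, nat_lit 155968, nat_lit 153376, nat_lit 148112, nat_lit 143664, nat_lit 139784, nat_lit 136082, nat_lit 131904, nat_lit 1354, nat_lit 4720, nat_lit 10224, nat_lit 17632, nat_lit 20544, nat_lit 34304, nat_lit 41728, nat_lit 38107, nat_lit 33486, nat_lit 29263, nat_lit 24608, nat_lit 20575, nat_lit 16425, nat_lit 8210, nat_lit 4112, nat_lit 32]⟩⟩⟩,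
  ⟨[], [], (nat_lit 255), ⟨[nat_lit 0, nat_lit 18, nat_lit 57], [nat_lit 0, nat_lit 87, nat_lit 68], ⟨[nat_lit 0x4b0e37180bbd6160950d94e3413c8a], [nat_lit 174080, nat_lit 169472, nat_lit 160384, nat_lit 156992, nat_lit 152384, nat_lit 148240, nat_lit 144952, nat_lit 141048, nat_lit 136062, nat_lit 131193, nat_lit 786, nat_lit 5064, nat_lit 10088, nat_lit 13152, nat_lit 16416, nat_lit 22336, nat_lit 25344, nat_lit 28928, nat_lit 37888, nat_lit 41493, nat_lit 37019, nat_lit 32799, nat_lit 29211, nat_lit 24626, nat_lit 20488, nat_lit 16450, nat_lit 12292, nat_lit 8200, nat_lit 4160]⟩⟩⟩]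
theorem s133 : Suf yT 16384 (ldrop wS 89) (apW dcM p132) (tgtN dcM p132.e) := Suf.seg (l := l133) (by decide +kernel) s134
def l132 : List AP := [⟨[nat_lit 23, nat_lit 31, nat_lit 31, nat_lit 635, nat_lit 24, nat_lit 22], [], (nat_lit 216), ⟨[nat_lit 0, nat_lit 42, nat_lit 46], [nat_lit 0, nat_lit 37, nat_lit 47], ⟨[nat_lit 0x6ac760395408a454a0d08d4973be6c], [nat_lit 175104, nat_lit 169984, nat_lit 167680, nat_lit 161920, nat_lit 156032, nat_lit 154144, nat_lit 149968, nat_lit 145152, nat_lit 142104, nat_lit 135296, nat_lit 132065, nat_lit 880, nat_lit 5768, nat_lit 8408, nat_lit 12688, nat_lit 16544, nat_lit 22144, nat_lit 24704, nat_lit 33280, nat_lit 37888, nat_lit 41047, nat_lit 37255, nat_lit 33435, nat_lit 28780, nat_lit 24636, nat_lit 20485, nat_lit 16385, nat_lit 12359, nat_lit 4097, nat_lit 2]⟩⟩⟩,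
  ⟨[nat_lit 130, nat_lit 136, nat_lit 137], [], (nat_lit 246), ⟨[nat_lit 32, nat_lit 56], [nat_lit 0, nat_lit 39, nat_lit 66], ⟨[nat_lit 0x1a809a54a70890b74a2f9c1ac258d7], [nat_lit 174080, nat_lit 171520, nat_lit 164352, nat_lit 161920, nat_lit 159616, nat_lit 154144, nat_lit 149152, nat_lit 144360, nat_lit 139576, nat_lit 137848, nat_lit 133620, nat_lit 116, nat_lit 4756, nat_lit 9928, nat_lit 13232, nat_lit 17408, nat_lit 22464, nat_lit 26368, nat_lit 30208, nat_lit 33792, nat_lit 41795, nat_lit 36995, nat_lit 32987, nat_lit 28778, nat_lit 24628, nat_lit 20549, nat_lit 16393, nat_lit 12306, nat_lit 8194, nat_lit 4097, nat_lit 2]⟩⟩⟩]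
theorem s132 : Suf yT 16384 (ldrop wS 74) (apW dcM p131) (tgtN dcM p131.e) := Suf.seg (l := l132) (by decide +kernel) s133
def l131 : List AP := [⟨[nat_lit 650, nat_lit 130, nat_lit 116], [], (nat_lit 254), ⟨[nat_lit 0, nat_lit 36, nat_lit 89], [nat_lit 0, nat_lit 26, nat_lit 70], ⟨[nat_lit 0xb1269322541354b706f57c47001587], [nat_lit 173056, nat_lit 166400, nat_lit 157120, nat_lit 152960, nat_lit 147760, nat_lit 144864, nat_lit 141176, nat_lit 135372, nat_lit 132508, nat_lit 1438, nat_lit 4156, nat_lit 9208, nat_lit 12368, nat_lit 21632, nat_lit 25728, nat_lit 29952, nat_lit 33792, nat_lit 41728, nat_lit 37888, nat_lit 33413, nat_lit 28760, nat_lit 24760, nat_lit 20490, nat_lit 16520, nat_lit 12321, nat_lit 8449]⟩⟩⟩,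
  ⟨[nat_lit 137, nat_lit 113], [], (nat_lit 254), ⟨[nat_lit 38, nat_lit 91], [nat_lit 0, nat_lit 25, nat_lit 52], ⟨[nat_lit 0x11989939f4bc14ba94f12200d98476], [nat_lit 174080, nat_lit 171008, nat_lit 166912, nat_lit 163712, nat_lit 157632, nat_lit 154592, nat_lit 150800, nat_lit 145008, nat_lit 142180, nat_lit 136020, nat_lit 132048, nat_lit 1292, nat_lit 4104, nat_lit 10168, nat_lit 13216, nat_lit 18048, nat_lit 22208, nat_lit 25728, nat_lit 30464, nat_lit 33280, nat_lit 37888, nat_lit 41452, nat_lit 37028, nat_lit 33792, nat_lit 28697, nat_lit 24864, nat_lit 20758, nat_lit 16423, nat_lit 12306, nat_lit 8194, nat_lit 4100]⟩⟩⟩]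
theorem s131 : Suf yT 16384 (ldrop wS 59) (apW dcM p130) (tgtN dcM p130.e) := Suf.seg (l := l131) (by decide +kernel) s132
def l130 : List AP := [⟨[nat_lit 29, nat_lit 22, nat_lit 29, nat_lit 22], [], (nat_lit 89), ⟨[nat_lit 0, nat_lit 9, nat_lit 65], [nat_lit 6, nat_lit 94], ⟨[nat_lit 0x349209a8e2a0da18b216292ae43eeb], [nat_lit 174080, nat_lit 170496, nat_lit 166656, nat_lit 161408, nat_lit 155968, nat_lit 153472, nat_lit 150192, nat_lit 144648, nat_lit 139904, nat_lit 137496, nat_lit 133158, nat_lit 1224, nat_lit 4964, nat_lit 10192, nat_lit 13920, nat_lit 18336, nat_lit 21376, nat_lit 25216, nat_lit 29696, nat_lit 33280, nat_lit 41791, nat_lit 37276, nat_lit 33474, nat_lit 28752, nat_lit 24635, nat_lit 20486, nat_lit 16448, nat_lit 12295, nat_lit 8195]⟩⟩⟩,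
  ⟨[nat_lit 634, nat_lit 26, nat_lit 27, nat_lit 22, nat_lit 32], [], (nat_lit 216), ⟨[nat_lit 0, nat_lit 28, nat_lit 59], [nat_lit 0, nat_lit 43, nat_lit 56], ⟨[nat_lit 0x6a6c37488c8190b388110aaafb9674], [nat_lit 173056, nat_lit 161024, nat_lit 157184, nat_lit 152608, nat_lit 148272, nat_lit 144904, nat_lit 140384, nat_lit 136348, nat_lit 132799, nat_lit 622, nat_lit 5688, nat_lit 10112, nat_lit 14144, nat_lit 16416, nat_lit 22336, nat_lit 25728, nat_lit 41373, nat_lit 37360, nat_lit 33520, nat_lit 28749, nat_lit 24715, nat_lit 21016, nat_lit 16904, nat_lit 12307, nat_lit 8258, nat_lit 4104, nat_lit 2]⟩⟩⟩]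
theorem s130 : Suf yT 16384 (ldrop wS 44) (apW dcM p129) (tgtN dcM p129.e) := Suf.seg (l := l130) (by decide +kernel) s131
def l129 : List AP := [⟨[nat_lit 110, nat_lit 137, nat_lit 113], [], (nat_lit 254), ⟨[nat_lit 5, nat_lit 58], [nat_lit 55], ⟨[nat_lit 0x4866d88dcb15405651e4b1e1245cca], [nat_lit 168448, nat_lit 164096, nat_lit 161408, nat_lit 156416, nat_lit 152480, nat_lit 147824, nat_lit 146720, nat_lit 139648, nat_lit 135550, nat_lit 132826, nat_lit 1818, nat_lit 5996, nat_lit 8368, nat_lit 12544, nat_lit 16512, nat_lit 21376, nat_lit 25600, nat_lit 29696, nat_lit 33792, nat_lit 37888, nat_lit 41277, nat_lit 36876, nat_lit 32920, nat_lit 29008, nat_lit 24710, nat_lit 21518, nat_lit 16427, nat_lit 8257, nat_lit 4101]⟩⟩⟩,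
  ⟨[], [], (nat_lit 217), ⟨[nat_lit 0, nat_lit 35, nat_lit 53], [nat_lit 0, nat_lit 6, nat_lit 59], ⟨[nat_lit 0x6911315eb41d8012a60e32df13aa4c], [nat_lit 175104, nat_lit 168448, nat_lit 160896, nat_lit 157824, nat_lit 153760, nat_lit 149776, nat_lit 144064, nat_lit 142820, nat_lit 135934, nat_lit 134090, nat_lit 1354, nat_lit 4412, nat_lit 9096, nat_lit 12880, nat_lit 17600, nat_lit 20992, nat_lit 24960, nat_lit 30464, nat_lit 33792, nat_lit 41085, nat_lit 37178, nat_lit 33493, nat_lit 28948, nat_lit 24728, nat_lit 20573, nat_lit 16429, nat_lit 12294, nat_lit 8200, nat_lit 4097]⟩⟩⟩]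
theorem s129 : Suf yT 16384 (ldrop wS 38) (apW dcM p128) (tgtN dcM p128.e) := Suf.seg (l := l129) (by decide +kernel) s130
def l128 : List AP := [⟨[nat_lit 31, nat_lit 23, nat_lit 22, nat_lit 21], [], (nat_lit 88), ⟨[nat_lit 87, nat_lit 59], [nat_lit 0, nat_lit 13, nat_lit 58], ⟨[nat_lit 0x5ea7944c36d9531248b851e82b981], [nat_lit 169984, nat_lit 164608, nat_lit 161280, nat_lit 157568, nat_lit 153152, nat_lit 149008, nat_lit 144088, nat_lit 139880, nat_lit 135216, nat_lit 131903, nat_lit 1180, nat_lit 4924, nat_lit 9648, nat_lit 13824, nat_lit 17472, nat_lit 20928, nat_lit 26496, nat_lit 29184, nat_lit 33280, nat_lit 37888, nat_lit 41056, nat_lit 32790, nat_lit 28712, nat_lit 25640, nat_lit 20615, nat_lit 16646, nat_lit 12327, nat_lit 32]⟩⟩⟩,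
  ⟨[nat_lit 24, nat_lit 637, nat_lit 636, nat_lit 29], [], (nat_lit 247), ⟨[nat_lit 0, nat_lit 22, nat_lit 60], [nat_lit 34, nat_lit 58], ⟨[nat_lit 0x14289600e179168b49438cccdbd5c5], [nat_lit 173056, nat_lit 165632, nat_lit 159872, nat_lit 156608, nat_lit 153376, nat_lit 147808, nat_lit 144312, nat_lit 139476, nat_lit 135360, nat_lit 134106, nat_lit 128, nat_lit 4564, nat_lit 10032, nat_lit 13712, nat_lit 18368, nat_lit 21760, nat_lit 25344, nat_lit 29696, nat_lit 33792, nat_lit 41482, nat_lit 37146, nat_lit 32985, nat_lit 28673, nat_lit 24615, nat_lit 20564, nat_lit 16431, nat_lit 12304, nat_lit 8194, nat_lit 4101]⟩⟩⟩]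
theorem s128 : Suf yT 16384 (ldrop wS 23) (apW dcM p127) (tgtN dcM p127.e) := Suf.seg (l := l128) (by decide +kernel) s129
def l127 : List AP := [⟨[nat_lit 32, nat_lit 27, nat_lit 26, nat_lit 634, nat_lit 23], [], (nat_lit 216), ⟨[nat_lit 0, nat_lit 37, nat_lit 58], [nat_lit 0, nat_lit 41, nat_lit 69], ⟨[nat_lit 0x445edac95711d9408130716c399166], [nat_lit 173056, nat_lit 168960, nat_lit 164864, nat_lit 161152, nat_lit 156544, nat_lit 153568, nat_lit 147744, nat_lit 144184, nat_lit 139332, nat_lit 136202, nat_lit 131820, nat_lit 1614, nat_lit 5080, nat_lit 10040, nat_lit 13312, nat_lit 17504, nat_lit 21952, nat_lit 25600, nat_lit 28928, nat_lit 33792, nat_lit 41344, nat_lit 37029, nat_lit 33984, nat_lit 28727, nat_lit 24867, nat_lit 20568, nat_lit 16419, nat_lit 12305, nat_lit 8323, nat_lit 8]⟩⟩⟩,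
  ⟨[nat_lit 118, nat_lit 116, nat_lit 137], [], (nat_lit 246), ⟨[nat_lit 0, nat_lit 11, nat_lit 69], [nat_lit 41, nat_lit 70], ⟨[nat_lit 0x535c9aca9363d0bbda1130c4538404], [nat_lit 173056, nat_lit 169472, nat_lit 160384, nat_lit 147984, nat_lit 143960, nat_lit 139924, nat_lit 135824, nat_lit 131591, nat_lit 16, nat_lit 4112, nat_lit 9352, nat_lit 12608, nat_lit 16512, nat_lit 20608, nat_lit 26240, nat_lit 29440, nat_lit 41160, nat_lit 37280, nat_lit 33440, nat_lit 29292, nat_lit 24583, nat_lit 21022, nat_lit 16430, nat_lit 12321, nat_lit 8201, nat_lit 4101, nat_lit 2]⟩⟩⟩]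
theorem s127 : Suf yT 16384 (ldrop wS 8) (apW dcM p126) (tgtN dcM p126.e) := Suf.seg (l := l127) (by decide +kernel) s128
def l126 : List AP := [⟨[nat_lit 625, nat_lit 2, nat_lit 2, nat_lit 1, nat_lit 626, nat_lit 625], [], (nat_lit 1030), ⟨[nat_lit 20, nat_lit 53], [nat_lit 0, nat_lit 88, nat_lit 70], ⟨[nat_lit 0x106177940b31e7593acc491a38d10a], [nat_lit 168960, nat_lit 164864, nat_lit 162944, nat_lit 155968, nat_lit 152512, nat_lit 147904, nat_lit 144288, nat_lit 139480, nat_lit 136052, nat_lit 132846, nat_lit 1938, nat_lit 4836, nat_lit 8472, nat_lit 12800, nat_lit 17536, nat_lit 20736, nat_lit 25600, nat_lit 29184, nat_lit 33280, nat_lit 40976, nat_lit 37359, nat_lit 32986, nat_lit 28699, nat_lit 24892, nat_lit 20549, nat_lit 16515, nat_lit 12304, nat_lit 8258, nat_lit 4129]⟩⟩⟩,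
  ⟨[nat_lit 42, nat_lit 15, nat_lit 41, nat_lit 43, nat_lit 16], [], (nat_lit 70), ⟨[nat_lit 0, nat_lit 39, nat_lit 52], [nat_lit 0, nat_lit 6, nat_lit 68], ⟨[nat_lit 0x3a03358e4673ead88889a5ecc82805], [nat_lit 173056, nat_lit 168960, nat_lit 165632, nat_lit 160384, nat_lit 157504, nat_lit 151680, nat_lit 147664, nat_lit 146488, nat_lit 141272, nat_lit 136830, nat_lit 132282, nat_lit 128, nat_lit 5904, nat_lit 9896, nat_lit 12352, nat_lit 17376, nat_lit 20800, nat_lit 25600, nat_lit 29952, nat_lit 33280, nat_lit 37888, nat_lit 41973, nat_lit 38333, nat_lit 33891, nat_lit 28753, nat_lit 24584, nat_lit 21514, nat_lit 16417, nat_lit 8209, nat_lit 4100, nat_lit 2]⟩⟩⟩]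
theorem rS2 : Suf yT 16384 wS [yT.get 36] 0 := Suf.seg (l := l126) (by decide +kernel) s127

def p140 : AP := ⟨[nat_lit 72, nat_lit 66], [], (nat_lit 126), ⟨[nat_lit 77, nat_lit 57], [nat_lit 0, nat_lit 42, nat_lit 61], ⟨[nat_lit 0x352e084882b222d1b8af626b30a967], [nat_lit 168448, nat_lit 164352, nat_lit 157056, nat_lit 153344, nat_lit 148384, nat_lit 145368, nat_lit 139748, nat_lit 136070, nat_lit 131391, nat_lit 1182, nat_lit 5080, nat_lit 9096, nat_lit 13264, nat_lit 18112, nat_lit 22208, nat_lit 26368, nat_lit 30208, nat_lit 33792, nat_lit 41046, nat_lit 37328, nat_lit 33384, nat_lit 28789, nat_lit 24745, nat_lit 20618, nat_lit 16385, nat_lit 12290, nat_lit 8193]⟩⟩⟩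
def p141 : AP := ⟨[nat_lit 46, nat_lit 641, nat_lit 67, nat_lit 48, nat_lit 48], [], (nat_lit 1046), ⟨[nat_lit 77, nat_lit 49], [nat_lit 8, nat_lit 91], ⟨[nat_lit 0x75cc3386cd8ad0a4ce50051e565444], [nat_lit 169472, nat_lit 164352, nat_lit 161024, nat_lit 156864, nat_lit 152032, nat_lit 149120, nat_lit 143744, nat_lit 139724, nat_lit 139032, nat_lit 132181, nat_lit 1778, nat_lit 4100, nat_lit 8208, nat_lit 12576, nat_lit 16512, nat_lit 20864, nat_lit 24832, nat_lit 30464, nat_lit 34304, nat_lit 41782, nat_lit 37097, nat_lit 34016, nat_lit 28766, nat_lit 24755, nat_lit 20510, nat_lit 16390, nat_lit 12292, nat_lit 8195, nat_lit 4]⟩⟩⟩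
def p142 : AP := ⟨[nat_lit 172, nat_lit 219, nat_lit 170], [], (nat_lit 396), ⟨[nat_lit 39, nat_lit 55], [nat_lit 13, nat_lit 89], ⟨[nat_lit 0xa41843cacf129ae8cd002a4c30dd75], [nat_lit 173056, nat_lit 168960, nat_lit 165120, nat_lit 160896, nat_lit 155904, nat_lit 152064, nat_lit 148192, nat_lit 144088, nat_lit 140980, nat_lit 135890, nat_lit 133078, nat_lit 1762, nat_lit 5080, nat_lit 8520, nat_lit 13264, nat_lit 17344, nat_lit 21632, nat_lit 25472, nat_lit 29952, nat_lit 33792, nat_lit 41366, nat_lit 36995, nat_lit 33917, nat_lit 29035, nat_lit 24632, nat_lit 20552, nat_lit 16392, nat_lit 12290, nat_lit 8195]⟩⟩⟩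
def p143 : AP := ⟨[nat_lit 639, nat_lit 51, nat_lit 49], [], (nat_lit 120), ⟨[nat_lit 74, nat_lit 92], [nat_lit 0, nat_lit 32, nat_lit 70], ⟨[nat_lit 0x49df76a2c4538d590a110cc032b28b], [nat_lit 173056, nat_lit 167168, nat_lit 160000, nat_lit 156160, nat_lit 152768, nat_lit 148096, nat_lit 144912, nat_lit 139272, nat_lit 135472, nat_lit 131731, nat_lit 1966, nat_lit 4380, nat_lit 8928, nat_lit 12416, nat_lit 16512, nat_lit 20736, nat_lit 25600, nat_lit 29440, nat_lit 33280, nat_lit 37888, nat_lit 41697, nat_lit 37003, nat_lit 29240, nat_lit 25649, nat_lit 20487, nat_lit 16456, nat_lit 12304, nat_lit 8225, nat_lit 4100, nat_lit 32]⟩⟩⟩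
def p144 : AP := ⟨[nat_lit 641, nat_lit 46, nat_lit 54], [], (nat_lit 121), ⟨[nat_lit 73, nat_lit 46], [nat_lit 35, nat_lit 51], ⟨[nat_lit 0x3960da32758b8411a8967a24b4dc06], [nat_lit 173056, nat_lit 169472, nat_lit 166912, nat_lit 161024, nat_lit 157376, nat_lit 153664, nat_lit 150064, nat_lit 146256, nat_lit 141696, nat_lit 137808, nat_lit 133066, nat_lit 1024, nat_lit 5436, nat_lit 9328, nat_lit 13552, nat_lit 18048, nat_lit 20800, nat_lit 25984, nat_lit 30464, nat_lit 33280, nat_lit 41730, nat_lit 38067, nat_lit 33402, nat_lit 29001, nat_lit 24605, nat_lit 20495, nat_lit 16388, nat_lit 8195, nat_lit 4097, nat_lit 2]⟩⟩⟩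
def p145 : AP := ⟨[nat_lit 51, nat_lit 70, nat_lit 57, nat_lit 52], [], (nat_lit 120), ⟨[nat_lit 0, nat_lit 36, nat_lit 91], [nat_lit 86, nat_lit 69], ⟨[nat_lit 0xba8b338d8668a1202d2e8a096a3c35], [nat_lit 173056, nat_lit 164864, nat_lit 160896, nat_lit 156992, nat_lit 151872, nat_lit 148400, nat_lit 147216, nat_lit 140384, nat_lit 135392, nat_lit 131699, nat_lit 1770, nat_lit 4104, nat_lit 9160, nat_lit 12320, nat_lit 17472, nat_lit 22336, nat_lit 25344, nat_lit 28928, nat_lit 34304, nat_lit 37888, nat_lit 41832, nat_lit 38046, nat_lit 33410, nat_lit 29262, nat_lit 24616, nat_lit 20485, nat_lit 16387, nat_lit 8225]⟩⟩⟩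
def p146 : AP := ⟨[nat_lit 662], [], (nat_lit 419), ⟨[nat_lit 0, nat_lit 43, nat_lit 64], [nat_lit 0, nat_lit 28, nat_lit 56], ⟨[nat_lit 0x1b113734d4b1612ba48b154e00bd51], [nat_lit 173056, nat_lit 169472, nat_lit 165888, nat_lit 163456, nat_lit 158016, nat_lit 155360, nat_lit 148352, nat_lit 147024, nat_lit 142188, nat_lit 137144, nat_lit 133600, nat_lit 1004, nat_lit 5884, nat_lit 8592, nat_lit 13664, nat_lit 17664, nat_lit 20864, nat_lit 29440, nat_lit 34304, nat_lit 37888, nat_lit 41842, nat_lit 36865, nat_lit 33861, nat_lit 28798, nat_lit 24735, nat_lit 20494, nat_lit 16396, nat_lit 12295, nat_lit 8202]⟩⟩⟩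
def p147 : AP := ⟨[nat_lit 663, nat_lit 214, nat_lit 172], [], (nat_lit 418), ⟨[nat_lit 76, nat_lit 92], [nat_lit 41, nat_lit 67], ⟨[nat_lit 0xa89932dd762261270634181077b4ca], [nat_lit 174080, nat_lit 168448, nat_lit 164608, nat_lit 160384, nat_lit 157696, nat_lit 154912, nat_lit 151136, nat_lit 144952, nat_lit 142692, nat_lit 135322, nat_lit 133336, nat_lit 786, nat_lit 4964, nat_lit 9744, nat_lit 13152, nat_lit 18144, nat_lit 25856, nat_lit 28928, nat_lit 41828, nat_lit 38057, nat_lit 33518, nat_lit 29262, nat_lit 24604, nat_lit 20494, nat_lit 16398, nat_lit 12291, nat_lit 8210, nat_lit 4097, nat_lit 2]⟩⟩⟩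
def p148 : AP := ⟨[nat_lit 641, nat_lit 46, nat_lit 54], [], (nat_lit 121), ⟨[nat_lit 0, nat_lit 26, nat_lit 59], [nat_lit 0, nat_lit 87, nat_lit 48], ⟨[nat_lit 0xba6c40ba7530d4060a342c1727b507], [nat_lit 174080, nat_lit 171520, nat_lit 167424, nat_lit 162304, nat_lit 155776, nat_lit 154496, nat_lit 151280, nat_lit 145312, nat_lit 142284, nat_lit 135422, nat_lit 131654, nat_lit 810, nat_lit 5060, nat_lit 9904, nat_lit 13920, nat_lit 21376, nat_lit 24704, nat_lit 29440, nat_lit 37888, nat_lit 41668, nat_lit 36945, nat_lit 32932, nat_lit 29038, nat_lit 24743, nat_lit 20569, nat_lit 16416, nat_lit 12292, nat_lit 8195, nat_lit 4101]⟩⟩⟩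
def p149 : AP := ⟨[nat_lit 57, nat_lit 643, nat_lit 50, nat_lit 48], [], (nat_lit 120), ⟨[nat_lit 0, nat_lit 3, nat_lit 58], [nat_lit 45], ⟨[nat_lit 0x31611b08774314d94ce44bdcb05035], [nat_lit 168448, nat_lit 165376, nat_lit 161024, nat_lit 157056, nat_lit 152480, nat_lit 148512, nat_lit 144216, nat_lit 141724, nat_lit 135196, nat_lit 132722, nat_lit 1766, nat_lit 4100, nat_lit 8224, nat_lit 13584, nat_lit 17472, nat_lit 20992, nat_lit 26240, nat_lit 30464, nat_lit 34304, nat_lit 41500, nat_lit 37116, nat_lit 33012, nat_lit 28932, nat_lit 24595, nat_lit 20484, nat_lit 16457, nat_lit 12309]⟩⟩⟩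
def p150 : AP := ⟨[nat_lit 68, nat_lit 49, nat_lit 640], [], (nat_lit 121), ⟨[nat_lit 0, nat_lit 83, nat_lit 46], [nat_lit 0, nat_lit 31, nat_lit 49], ⟨[nat_lit 0x795676ca0804ea6b4444626f41a9c1], [nat_lit 168960, nat_lit 165120, nat_lit 161408, nat_lit 157632, nat_lit 152736, nat_lit 148448, nat_lit 144856, nat_lit 139640, nat_lit 136860, nat_lit 131600, nat_lit 1808, nat_lit 6068, nat_lit 10160, nat_lit 17408, nat_lit 24960, nat_lit 33792, nat_lit 37888, nat_lit 41970, nat_lit 37938, nat_lit 33488, nat_lit 29205, nat_lit 24725, nat_lit 20507, nat_lit 16427, nat_lit 8195, nat_lit 4101, nat_lit 4]⟩⟩⟩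
def p151 : AP := ⟨[nat_lit 215, nat_lit 170], [], (nat_lit 418), ⟨[nat_lit 77, nat_lit 90], [nat_lit 0, nat_lit 45, nat_lit 53], ⟨[nat_lit 0xc4534a0e400e50b35f763ab432caa], [nat_lit 173056, nat_lit 168960, nat_lit 167424, nat_lit 160512, nat_lit 155968, nat_lit 152672, nat_lit 147760, nat_lit 144592, nat_lit 140848, nat_lit 136158, nat_lit 132558, nat_lit 1554, nat_lit 4952, nat_lit 9432, nat_lit 14176, nat_lit 16416, nat_lit 20608, nat_lit 28928, nat_lit 37888, nat_lit 41228, nat_lit 37109, nat_lit 33899, nat_lit 28753, nat_lit 24737, nat_lit 20565, nat_lit 16448, nat_lit 13316, nat_lit 8227, nat_lit 4100]⟩⟩⟩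
def p152 : AP := ⟨[nat_lit 68], [], (nat_lit 122), ⟨[nat_lit 0, nat_lit 81, nat_lit 93], [nat_lit 0, nat_lit 83, nat_lit 65], ⟨[nat_lit 0x45d86aada71467204061726c57928a], [nat_lit 173056, nat_lit 171520, nat_lit 167424, nat_lit 162176, nat_lit 159296, nat_lit 153568, nat_lit 151008, nat_lit 145688, nat_lit 139440, nat_lit 137596, nat_lit 132272, nat_lit 1224, nat_lit 5112, nat_lit 9144, nat_lit 14144, nat_lit 16512, nat_lit 21504, nat_lit 25088, nat_lit 29696, nat_lit 33280, nat_lit 41892, nat_lit 38107, nat_lit 33383, nat_lit 28755, nat_lit 24742, nat_lit 20482, nat_lit 16455, nat_lit 12290, nat_lit 8259]⟩⟩⟩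
def l153 : List AP := [⟨[nat_lit 43, nat_lit 41], [], (nat_lit 1032), ⟨[nat_lit 56], [nat_lit 0, nat_lit 1, nat_lit 58], ⟨[nat_lit 0xaa0c364949b4df758094889a181cae], [nat_lit 165120, nat_lit 160256, nat_lit 153184, nat_lit 147808, nat_lit 143400, nat_lit 140116, nat_lit 136290, nat_lit 132173, nat_lit 810, nat_lit 4224, nat_lit 10160, nat_lit 12352, nat_lit 16992, nat_lit 20544, nat_lit 24704, nat_lit 30464, nat_lit 34304, nat_lit 37888, nat_lit 41812, nat_lit 36889, nat_lit 32992, nat_lit 28695, nat_lit 24886, nat_lit 20744, nat_lit 16452, nat_lit 12320, nat_lit 8193, nat_lit 4112, nat_lit 4]⟩⟩⟩]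
theorem s153 : Suf yT 32768 (ldrop wS 161) (apW dcM p152) (tgtN dcM p152.e) := Suf.fin' (l := l153) (by decide +kernel)
def l152 : List AP := [⟨[nat_lit 662], [], (nat_lit 396), ⟨[nat_lit 0, nat_lit 9, nat_lit 47], [nat_lit 29], ⟨[nat_lit 0x92cae38ae68a88d85661601f64a283], [nat_lit 173056, nat_lit 168960, nat_lit 161280, nat_lit 156288, nat_lit 152512, nat_lit 147488, nat_lit 144320, nat_lit 142812, nat_lit 136112, nat_lit 132370, nat_lit 688, nat_lit 5604, nat_lit 8448, nat_lit 12320, nat_lit 18048, nat_lit 20736, nat_lit 25344, nat_lit 29184, nat_lit 33792, nat_lit 41013, nat_lit 37313, nat_lit 32994, nat_lit 28974, nat_lit 24712, nat_lit 20496, nat_lit 16429, nat_lit 12307, nat_lit 4104, nat_lit 16]⟩⟩⟩,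
  ⟨[nat_lit 55, nat_lit 67], [], (nat_lit 126), ⟨[nat_lit 0, nat_lit 34, nat_lit 90], [nat_lit 33, nat_lit 57], ⟨[nat_lit 0x33a85b81e35a995942cd8910248667], [nat_lit 168960, nat_lit 164864, nat_lit 160000, nat_lit 156800, nat_lit 151584, nat_lit 148384, nat_lit 144512, nat_lit 140336, nat_lit 136880, nat_lit 133341, nat_lit 1180, nat_lit 4684, nat_lit 9664, nat_lit 12864, nat_lit 18112, nat_lit 21248, nat_lit 25344, nat_lit 30464, nat_lit 37888, nat_lit 41741, nat_lit 37365, nat_lit 33433, nat_lit 28765, nat_lit 24712, nat_lit 20753, nat_lit 16393, nat_lit 12310, nat_lit 8200, nat_lit 4]⟩⟩⟩]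
theorem s152 : Suf yT 32768 (ldrop wS 146) (apW dcM p151) (tgtN dcM p151.e) := Suf.seg (l := l152) (by decide +kernel) s153
def l151 : List AP := [⟨[nat_lit 51, nat_lit 73, nat_lit 57, nat_lit 50], [], (nat_lit 1046), ⟨[nat_lit 39, nat_lit 50], [nat_lit 0, nat_lit 6, nat_lit 58], ⟨[nat_lit 0x6a8053526411d8b4c916b8623855ee], [nat_lit 168960, nat_lit 159872, nat_lit 157440, nat_lit 155392, nat_lit 149408, nat_lit 143480, nat_lit 140752, nat_lit 135842, nat_lit 133102, nat_lit 342, nat_lit 5252, nat_lit 10128, nat_lit 12352, nat_lit 16448, nat_lit 20608, nat_lit 24704, nat_lit 29184, nat_lit 34304, nat_lit 37888, nat_lit 41334, nat_lit 37305, nat_lit 32779, nat_lit 28704, nat_lit 24624, nat_lit 16456, nat_lit 12304, nat_lit 8193, nat_lit 4353, nat_lit 4]⟩⟩⟩,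
  ⟨[nat_lit 661, nat_lit 171], [], (nat_lit 418), ⟨[nat_lit 44, nat_lit 93], [nat_lit 42, nat_lit 63], ⟨[nat_lit 0x9b5e5b5492031178a8e9a384b30470], [nat_lit 175104, nat_lit 171008, nat_lit 164352, nat_lit 162048, nat_lit 159616, nat_lit 154048, nat_lit 148672, nat_lit 143680, nat_lit 139964, nat_lit 138446, nat_lit 133863, nat_lit 1698, nat_lit 4104, nat_lit 8200, nat_lit 13312, nat_lit 17280, nat_lit 20608, nat_lit 28928, nat_lit 33792, nat_lit 41469, nat_lit 37073, nat_lit 33914, nat_lit 29002, nat_lit 24577, nat_lit 21532, nat_lit 16387, nat_lit 12420, nat_lit 8322, nat_lit 4100]⟩⟩⟩]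
theorem s151 : Suf yT 32768 (ldrop wS 140) (apW dcM p150) (tgtN dcM p150.e) := Suf.seg (l := l151) (by decide +kernel) s152
def l150 : List AP := [⟨[nat_lit 641, nat_lit 46, nat_lit 54], [], (nat_lit 121), ⟨[nat_lit 38, nat_lit 55], [nat_lit 18, nat_lit 69], ⟨[nat_lit 0xac0a00d2265a12c192f37b94d90ac7], [nat_lit 173056, nat_lit 169472, nat_lit 164864, nat_lit 160256, nat_lit 156864, nat_lit 154144, nat_lit 149040, nat_lit 144496, nat_lit 141060, nat_lit 136124, nat_lit 132969, nat_lit 1214, nat_lit 5668, nat_lit 8224, nat_lit 12944, nat_lit 17248, nat_lit 26112, nat_lit 28928, nat_lit 34304, nat_lit 41428, nat_lit 36896, nat_lit 33893, nat_lit 29036, nat_lit 24765, nat_lit 20491, nat_lit 16391, nat_lit 12323, nat_lit 4097]⟩⟩⟩,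
  ⟨[nat_lit 55, nat_lit 70, nat_lit 50], [], (nat_lit 120), ⟨[nat_lit 88, nat_lit 89], [nat_lit 80, nat_lit 46], ⟨[nat_lit 0x42875948e43ef5125811da66929b1], [nat_lit 173056, nat_lit 168960, nat_lit 165120, nat_lit 163200, nat_lit 155904, nat_lit 152096, nat_lit 149264, nat_lit 143784, nat_lit 140216, nat_lit 136542, nat_lit 132130, nat_lit 1004, nat_lit 5884, nat_lit 9096, nat_lit 13360, nat_lit 16576, nat_lit 22400, nat_lit 24704, nat_lit 29696, nat_lit 34304, nat_lit 41837, nat_lit 38333, nat_lit 34011, nat_lit 28695, nat_lit 25116, nat_lit 20753, nat_lit 16519, nat_lit 12356, nat_lit 8224, nat_lit 4100, nat_lit 2]⟩⟩⟩]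
theorem s150 : Suf yT 32768 (ldrop wS 125) (apW dcM p149) (tgtN dcM p149.e) := Suf.seg (l := l150) (by decide +kernel) s151
def l149 : List AP := [⟨[nat_lit 72, nat_lit 56, nat_lit 48], [], (nat_lit 120), ⟨[nat_lit 0, nat_lit 10, nat_lit 70], [nat_lit 34, nat_lit 92], ⟨[nat_lit 0xa04174910552ce618ab684dae8c9ec], [nat_lit 168448, nat_lit 160896, nat_lit 157632, nat_lit 152128, nat_lit 149888, nat_lit 144000, nat_lit 140296, nat_lit 135796, nat_lit 132422, nat_lit 1354, nat_lit 5716, nat_lit 10160, nat_lit 13664, nat_lit 20672, nat_lit 24704, nat_lit 29184, nat_lit 34304, nat_lit 37888, nat_lit 41701, nat_lit 37136, nat_lit 33303, nat_lit 29766, nat_lit 25653, nat_lit 20632, nat_lit 16388, nat_lit 12323, nat_lit 8208, nat_lit 4129, nat_lit 32]⟩⟩⟩,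
  ⟨[nat_lit 641, nat_lit 49, nat_lit 70], [], (nat_lit 121), ⟨[nat_lit 0, nat_lit 28, nat_lit 65], [nat_lit 0, nat_lit 71, nat_lit 91], ⟨[nat_lit 0x7080750ef06d2a67a4a8644929ac36], [nat_lit 168960, nat_lit 160640, nat_lit 156032, nat_lit 151840, nat_lit 148864, nat_lit 146952, nat_lit 139400, nat_lit 135506, nat_lit 132033, nat_lit 688, nat_lit 4104, nat_lit 8992, nat_lit 13264, nat_lit 17344, nat_lit 20672, nat_lit 29440, nat_lit 37888, nat_lit 41496, nat_lit 38181, nat_lit 32792, nat_lit 28744, nat_lit 24600, nat_lit 20994, nat_lit 16392, nat_lit 12295, nat_lit 8201]⟩⟩⟩]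
theorem s149 : Suf yT 32768 (ldrop wS 110) (apW dcM p148) (tgtN dcM p148.e) := Suf.seg (l := l149) (by decide +kernel) s150
def l148 : List AP := [⟨[nat_lit 662, nat_lit 660, nat_lit 170], [], (nat_lit 396), ⟨[nat_lit 0, nat_lit 42, nat_lit 57], [nat_lit 0, nat_lit 6, nat_lit 50], ⟨[nat_lit 0x280448c149b5dcd92e68ab1f4098e3], [nat_lit 168448, nat_lit 164864, nat_lit 159872, nat_lit 157696, nat_lit 152544, nat_lit 147984, nat_lit 143504, nat_lit 141164, nat_lit 135610, nat_lit 132510, nat_lit 1174, nat_lit 4104, nat_lit 8648, nat_lit 12352, nat_lit 16416, nat_lit 20544, nat_lit 25600, nat_lit 29440, nat_lit 33792, nat_lit 37888, nat_lit 41950, nat_lit 36941, nat_lit 32832, nat_lit 29814, nat_lit 24582, nat_lit 20496, nat_lit 16416, nat_lit 12290, nat_lit 8258, nat_lit 4105, nat_lit 2]⟩⟩⟩,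
  ⟨[nat_lit 55, nat_lit 642, nat_lit 51, nat_lit 54], [], (nat_lit 120), ⟨[nat_lit 81, nat_lit 65], [nat_lit 8, nat_lit 46], ⟨[nat_lit 0x3a833b3c86bc9d16d062815004ad95], [nat_lit 175104, nat_lit 171520, nat_lit 167680, nat_lit 160384, nat_lit 159168, nat_lit 154784, nat_lit 148864, nat_lit 146192, nat_lit 139312, nat_lit 135274, nat_lit 131085, nat_lit 394, nat_lit 5716, nat_lit 8928, nat_lit 13552, nat_lit 16960, nat_lit 20672, nat_lit 25984, nat_lit 30208, nat_lit 33280, nat_lit 37888, nat_lit 41688, nat_lit 37256, nat_lit 33524, nat_lit 29264, nat_lit 24600, nat_lit 20509, nat_lit 16391, nat_lit 12290, nat_lit 8194]⟩⟩⟩]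
theorem s148 : Suf yT 32768 (ldrop wS 95) (apW dcM p147) (tgtN dcM p147.e) := Suf.seg (l := l148) (by decide +kernel) s149
def l147 : List AP := [⟨[nat_lit 661, nat_lit 176], [], (nat_lit 396), ⟨[nat_lit 78, nat_lit 57], [nat_lit 78, nat_lit 48], ⟨[nat_lit 0x6d8609a024332a5488f184aef5516e], [nat_lit 168448, nat_lit 167168, nat_lit 160256, nat_lit 156160, nat_lit 153344, nat_lit 148784, nat_lit 144640, nat_lit 140304, nat_lit 135388, nat_lit 132785, nat_lit 166, nat_lit 4824, nat_lit 10128, nat_lit 14144, nat_lit 16416, nat_lit 21376, nat_lit 25216, nat_lit 29184, nat_lit 33280, nat_lit 37888, nat_lit 41728, nat_lit 37946, nat_lit 28747, nat_lit 24763, nat_lit 20495, nat_lit 16456, nat_lit 12309, nat_lit 8201, nat_lit 8]⟩⟩⟩,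
  ⟨[nat_lit 50], [], (nat_lit 1046), ⟨[nat_lit 0, nat_lit 11, nat_lit 89], [nat_lit 58], ⟨[nat_lit 0x6d8609a024332a5488f184aef5516e], [nat_lit 173056, nat_lit 168448, nat_lit 167168, nat_lit 160256, nat_lit 156160, nat_lit 153376, nat_lit 148768, nat_lit 144640, nat_lit 140308, nat_lit 135388, nat_lit 132785, nat_lit 166, nat_lit 4824, nat_lit 10128, nat_lit 14144, nat_lit 16416, nat_lit 21376, nat_lit 25216, nat_lit 29184, nat_lit 33280, nat_lit 37888, nat_lit 41728, nat_lit 37946, nat_lit 28747, nat_lit 24763, nat_lit 20495, nat_lit 16456, nat_lit 12309, nat_lit 8201, nat_lit 8]⟩⟩⟩]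
theorem s147 : Suf yT 32768 (ldrop wS 89) (apW dcM p146) (tgtN dcM p146.e) := Suf.seg (l := l147) (by decide +kernel) s148
def l146 : List AP := [⟨[nat_lit 641, nat_lit 46, nat_lit 54], [], (nat_lit 121), ⟨[nat_lit 20, nat_lit 58], [nat_lit 29, nat_lit 91], ⟨[nat_lit 0x32604bc515650a3935ea02e6113ac7], [nat_lit 173056, nat_lit 171008, nat_lit 165632, nat_lit 159872, nat_lit 156288, nat_lit 153056, nat_lit 148640, nat_lit 143768, nat_lit 139952, nat_lit 136732, nat_lit 131541, nat_lit 1694, nat_lit 5668, nat_lit 9648, nat_lit 12400, nat_lit 16768, nat_lit 21888, nat_lit 25728, nat_lit 29440, nat_lit 41534, nat_lit 37120, nat_lit 32973, nat_lit 28753, nat_lit 24748, nat_lit 20557, nat_lit 16390, nat_lit 12353, nat_lit 4097]⟩⟩⟩,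
  ⟨[nat_lit 66, nat_lit 55, nat_lit 641], [], (nat_lit 1046), ⟨[nat_lit 0, nat_lit 15, nat_lit 66], [nat_lit 0, nat_lit 17, nat_lit 55], ⟨[nat_lit 0x646ed800550a08ea2973914f6499e3], [nat_lit 169472, nat_lit 165632, nat_lit 160512, nat_lit 157440, nat_lit 151680, nat_lit 148256, nat_lit 144832, nat_lit 140332, nat_lit 135658, nat_lit 135076, nat_lit 8, nat_lit 4780, nat_lit 9696, nat_lit 13776, nat_lit 18080, nat_lit 22336, nat_lit 25216, nat_lit 34304, nat_lit 37888, nat_lit 41145, nat_lit 37021, nat_lit 32930, nat_lit 28690, nat_lit 24606, nat_lit 20508, nat_lit 16420, nat_lit 12307, nat_lit 8225, nat_lit 4104]⟩⟩⟩]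
theorem s146 : Suf yT 32768 (ldrop wS 74) (apW dcM p145) (tgtN dcM p145.e) := Suf.seg (l := l146) (by decide +kernel) s147
def l145 : List AP := [⟨[nat_lit 69, nat_lit 56, nat_lit 642, nat_lit 54], [], (nat_lit 120), ⟨[nat_lit 35, nat_lit 57], [nat_lit 45, nat_lit 92], ⟨[nat_lit 0x7040714ecb616f5446834b48a7c246], [nat_lit 173056, nat_lit 170496, nat_lit 164608, nat_lit 159872, nat_lit 157888, nat_lit 151616, nat_lit 149232, nat_lit 147072, nat_lit 141740, nat_lit 138004, nat_lit 133999, nat_lit 1614, nat_lit 5080, nat_lit 8472, nat_lit 13152, nat_lit 17024, nat_lit 21248, nat_lit 30208, nat_lit 41882, nat_lit 37932, nat_lit 33503, nat_lit 28689, nat_lit 24874, nat_lit 20761, nat_lit 16420, nat_lit 12289, nat_lit 8209, nat_lit 4160]⟩⟩⟩,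
  ⟨[nat_lit 72, nat_lit 56, nat_lit 49, nat_lit 55], [], (nat_lit 120), ⟨[nat_lit 71, nat_lit 48], [nat_lit 38, nat_lit 65], ⟨[nat_lit 0x549a75a477096a6159cf64d0405230], [nat_lit 175104, nat_lit 167424, nat_lit 161920, nat_lit 157760, nat_lit 151904, nat_lit 149120, nat_lit 144248, nat_lit 142920, nat_lit 137652, nat_lit 132639, nat_lit 64, nat_lit 6084, nat_lit 9232, nat_lit 13136, nat_lit 16896, nat_lit 20544, nat_lit 25088, nat_lit 29952, nat_lit 34304, nat_lit 37888, nat_lit 41369, nat_lit 37210, nat_lit 33312, nat_lit 29723, nat_lit 24615, nat_lit 20558, nat_lit 16386, nat_lit 12322, nat_lit 8257, nat_lit 8]⟩⟩⟩]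
theorem s145 : Suf yT 32768 (ldrop wS 59) (apW dcM p144) (tgtN dcM p144.e) := Suf.seg (l := l145) (by decide +kernel) s146
def l144 : List AP := [⟨[nat_lit 640, nat_lit 67, nat_lit 73, nat_lit 66], [], (nat_lit 120), ⟨[nat_lit 0, nat_lit 21, nat_lit 63], [nat_lit 85, nat_lit 69], ⟨[nat_lit 0xa3e1528ecb020f7219d35262c93422], [nat_lit 168448, nat_lit 165120, nat_lit 160640, nat_lit 157376, nat_lit 152992, nat_lit 148032, nat_lit 147064, nat_lit 139488, nat_lit 136542, nat_lit 132388, nat_lit 488, nat_lit 4104, nat_lit 8200, nat_lit 16672, nat_lit 21952, nat_lit 24832, nat_lit 29952, nat_lit 34304, nat_lit 41934, nat_lit 37049, nat_lit 32879, nat_lit 29233, nat_lit 24853, nat_lit 20561, nat_lit 16390, nat_lit 8193, nat_lit 4]⟩⟩⟩,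
  ⟨[nat_lit 66, nat_lit 68, nat_lit 49, nat_lit 46], [], (nat_lit 120), ⟨[nat_lit 0, nat_lit 34, nat_lit 63], [nat_lit 19, nat_lit 57], ⟨[nat_lit 0xac0ab134861be9693a614b00851e37], [nat_lit 169472, nat_lit 167168, nat_lit 162944, nat_lit 159232, nat_lit 155136, nat_lit 149296, nat_lit 147168, nat_lit 142600, nat_lit 136848, nat_lit 133302, nat_lit 1652, nat_lit 4328, nat_lit 9096, nat_lit 13712, nat_lit 16928, nat_lit 20800, nat_lit 25344, nat_lit 29952, nat_lit 33792, nat_lit 41927, nat_lit 36985, nat_lit 33940, nat_lit 29795, nat_lit 24858, nat_lit 20639, nat_lit 16418, nat_lit 12294, nat_lit 8200, nat_lit 4101, nat_lit 2]⟩⟩⟩]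
theorem s144 : Suf yT 32768 (ldrop wS 44) (apW dcM p143) (tgtN dcM p143.e) := Suf.seg (l := l144) (by decide +kernel) s145
def l143 : List AP := [⟨[nat_lit 56, nat_lit 48, nat_lit 643, nat_lit 50], [], (nat_lit 120), ⟨[nat_lit 0, nat_lit 3, nat_lit 93], [nat_lit 8], ⟨[nat_lit 0x3c831a58464321520daf2a40b54dd7], [nat_lit 170496, nat_lit 165376, nat_lit 162432, nat_lit 156992, nat_lit 153600, nat_lit 149648, nat_lit 147408, nat_lit 140960, nat_lit 136830, nat_lit 134943, nat_lit 960, nat_lit 5688, nat_lit 9928, nat_lit 14080, nat_lit 17280, nat_lit 22464, nat_lit 26496, nat_lit 29440, nat_lit 41935, nat_lit 38330, nat_lit 33886, nat_lit 29033, nat_lit 24705, nat_lit 20505, nat_lit 16395, nat_lit 12305, nat_lit 8194, nat_lit 4101, nat_lit 2]⟩⟩⟩,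
  ⟨[nat_lit 641, nat_lit 46, nat_lit 54], [], (nat_lit 121), ⟨[nat_lit 7], [nat_lit 15, nat_lit 64], ⟨[nat_lit 0xb8ec0106955a0a79c58e83e4d49146], [nat_lit 168448, nat_lit 165120, nat_lit 160896, nat_lit 156992, nat_lit 152480, nat_lit 147504, nat_lit 144112, nat_lit 139972, nat_lit 139200, nat_lit 133066, nat_lit 786, nat_lit 5120, nat_lit 8656, nat_lit 14128, nat_lit 17408, nat_lit 21184, nat_lit 24960, nat_lit 29696, nat_lit 33280, nat_lit 41946, nat_lit 38072, nat_lit 33476, nat_lit 28964, nat_lit 25105, nat_lit 20546, nat_lit 16397, nat_lit 12305, nat_lit 8202, nat_lit 4097, nat_lit 2]⟩⟩⟩]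
theorem s143 : Suf yT 32768 (ldrop wS 38) (apW dcM p142) (tgtN dcM p142.e) := Suf.seg (l := l143) (by decide +kernel) s144
def l142 : List AP := [⟨[nat_lit 661, nat_lit 171], [], (nat_lit 418), ⟨[nat_lit 0, nat_lit 83, nat_lit 55], [nat_lit 16, nat_lit 47], ⟨[nat_lit 0x852cb6393315ced891467d46540412], [nat_lit 174080, nat_lit 171008, nat_lit 167424, nat_lit 161792, nat_lit 156992, nat_lit 155456, nat_lit 149648, nat_lit 145312, nat_lit 141532, nat_lit 137092, nat_lit 131113, nat_lit 10160, nat_lit 13008, nat_lit 16960, nat_lit 22016, nat_lit 24960, nat_lit 33792, nat_lit 37888, nat_lit 41319, nat_lit 36914, nat_lit 33891, nat_lit 28700, nat_lit 25612, nat_lit 20549, nat_lit 16520, nat_lit 12322, nat_lit 8194, nat_lit 4101, nat_lit 2]⟩⟩⟩,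
  ⟨[nat_lit 174, nat_lit 218], [], (nat_lit 419), ⟨[nat_lit 0, nat_lit 86, nat_lit 89], [nat_lit 0, nat_lit 76, nat_lit 61], ⟨[nat_lit 0xa84b200d0f5ba70334ea4da8c246e2], [nat_lit 173056, nat_lit 168448, nat_lit 165632, nat_lit 159872, nat_lit 155968, nat_lit 151648, nat_lit 148672, nat_lit 146128, nat_lit 140808, nat_lit 135702, nat_lit 131086, nat_lit 1136, nat_lit 4408, nat_lit 8704, nat_lit 12304, nat_lit 16896, nat_lit 21824, nat_lit 25856, nat_lit 28928, nat_lit 33792, nat_lit 37888, nat_lit 41665, nat_lit 37144, nat_lit 32851, nat_lit 29753, nat_lit 24728, nat_lit 20568, nat_lit 16398, nat_lit 8210, nat_lit 4113, nat_lit 2]⟩⟩⟩]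
theorem s142 : Suf yT 32768 (ldrop wS 23) (apW dcM p141) (tgtN dcM p141.e) := Suf.seg (l := l142) (by decide +kernel) s143
def l141 : List AP := [⟨[nat_lit 643, nat_lit 73, nat_lit 66, nat_lit 46], [], (nat_lit 120), ⟨[nat_lit 42, nat_lit 47], [nat_lit 43, nat_lit 93], ⟨[nat_lit 0xb098784d5103cd79212ba0dc5205b5], [nat_lit 173056, nat_lit 169984, nat_lit 165120, nat_lit 159872, nat_lit 159552, nat_lit 151936, nat_lit 148640, nat_lit 145456, nat_lit 142960, nat_lit 138354, nat_lit 134215, nat_lit 1760, nat_lit 5024, nat_lit 9384, nat_lit 13056, nat_lit 17888, nat_lit 21248, nat_lit 25728, nat_lit 29184, nat_lit 34304, nat_lit 41903, nat_lit 38331, nat_lit 33938, nat_lit 28763, nat_lit 24764, nat_lit 20496, nat_lit 16423, nat_lit 12420, nat_lit 8193, nat_lit 4]⟩⟩⟩,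
  ⟨[nat_lit 51, nat_lit 73, nat_lit 642, nat_lit 47], [], (nat_lit 120), ⟨[nat_lit 22, nat_lit 90], [nat_lit 0, nat_lit 85, nat_lit 90], ⟨[nat_lit 0x7a92600585754f715911849a41d26b], [nat_lit 169472, nat_lit 164352, nat_lit 157056, nat_lit 152032, nat_lit 147840, nat_lit 143904, nat_lit 141292, nat_lit 137546, nat_lit 132227, nat_lit 404, nat_lit 5112, nat_lit 8928, nat_lit 12304, nat_lit 17376, nat_lit 22464, nat_lit 26368, nat_lit 29440, nat_lit 37888, nat_lit 41002, nat_lit 37324, nat_lit 33510, nat_lit 28675, nat_lit 25126, nat_lit 20490, nat_lit 16394, nat_lit 12304, nat_lit 8706, nat_lit 4101, nat_lit 2]⟩⟩⟩]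
theorem s141 : Suf yT 32768 (ldrop wS 8) (apW dcM p140) (tgtN dcM p140.e) := Suf.seg (l := l141) (by decide +kernel) s142
def l140 : List AP := [⟨[nat_lit 6, nat_lit 2, nat_lit 0, nat_lit 628, nat_lit 7, nat_lit 7], [], (nat_lit 26), ⟨[nat_lit 0, nat_lit 77, nat_lit 64], [nat_lit 36, nat_lit 59], ⟨[nat_lit 0x49c5702ea4351036b9937ca3055825], [nat_lit 173056, nat_lit 171008, nat_lit 166656, nat_lit 163456, nat_lit 159552, nat_lit 153280, nat_lit 149888, nat_lit 147440, nat_lit 140712, nat_lit 138012, nat_lit 131250, nat_lit 568, nat_lit 4224, nat_lit 9928, nat_lit 13792, nat_lit 18144, nat_lit 22080, nat_lit 24704, nat_lit 29184, nat_lit 33280, nat_lit 37888, nat_lit 41690, nat_lit 38363, nat_lit 32805, nat_lit 28762, nat_lit 24618, nat_lit 20565, nat_lit 16394, nat_lit 12307, nat_lit 8224, nat_lit 4101, nat_lit 4]⟩⟩⟩,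
  ⟨[nat_lit 630, nat_lit 633, nat_lit 630, nat_lit 43, nat_lit 43, nat_lit 17], [], (nat_lit 90), ⟨[nat_lit 0, nat_lit 44, nat_lit 59], [nat_lit 21, nat_lit 48], ⟨[nat_lit 0x1aa873d91b1c2994db055ca259283], [nat_lit 174080, nat_lit 171520, nat_lit 167168, nat_lit 160640, nat_lit 158464, nat_lit 154880, nat_lit 147904, nat_lit 146736, nat_lit 139856, nat_lit 136820, nat_lit 132274, nat_lit 1148, nat_lit 5112, nat_lit 8208, nat_lit 14144, nat_lit 16416, nat_lit 20736, nat_lit 25088, nat_lit 28928, nat_lit 33280, nat_lit 41057, nat_lit 37342, nat_lit 32872, nat_lit 28712, nat_lit 24832, nat_lit 20488, nat_lit 16396, nat_lit 12290, nat_lit 8208, nat_lit 4104, nat_lit 1024]⟩⟩⟩]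
theorem rS3 : Suf yT 32768 wS [yT.get 37] 0 := Suf.seg (l := l140) (by decide +kernel) s141

def p154 : AP := ⟨[], [], (nat_lit 393), ⟨[nat_lit 0, nat_lit 71, nat_lit 55], [nat_lit 4, nat_lit 70], ⟨[nat_lit 0xbb568399954c4452400aa0c2f94dd6], [nat_lit 174080, nat_lit 165120, nat_lit 159872, nat_lit 155904, nat_lit 153536, nat_lit 147744, nat_lit 143800, nat_lit 140280, nat_lit 136292, nat_lit 131543, nat_lit 1720, nat_lit 4928, nat_lit 9136, nat_lit 14176, nat_lit 17504, nat_lit 22400, nat_lit 25344, nat_lit 29952, nat_lit 37888, nat_lit 41704, nat_lit 38342, nat_lit 33445, nat_lit 29001, nat_lit 24729, nat_lit 21006, nat_lit 16451, nat_lit 12304, nat_lit 8195, nat_lit 4101]⟩⟩⟩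
def p155 : AP := ⟨[nat_lit 56, nat_lit 55, nat_lit 48, nat_lit 46], [], (nat_lit 1046), ⟨[nat_lit 0, nat_lit 14, nat_lit 52], [nat_lit 0, nat_lit 16, nat_lit 93], ⟨[nat_lit 0x200ccb502e78e538aee53c2aa4092d], [nat_lit 164608, nat_lit 161280, nat_lit 157248, nat_lit 154848, nat_lit 147936, nat_lit 143864, nat_lit 141000, nat_lit 135550, nat_lit 131420, nat_lit 460, nat_lit 5604, nat_lit 8224, nat_lit 12848, nat_lit 18048, nat_lit 22464, nat_lit 26240, nat_lit 41888, nat_lit 36902, nat_lit 32992, nat_lit 28763, nat_lit 24628, nat_lit 20574, nat_lit 16463, nat_lit 12307]⟩⟩⟩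
def p156 : AP := ⟨[nat_lit 54, nat_lit 73, nat_lit 69, nat_lit 641], [], (nat_lit 1046), ⟨[nat_lit 0, nat_lit 18, nat_lit 64], [nat_lit 0, nat_lit 9, nat_lit 65], ⟨[nat_lit 0x1da44a44a04b1ae0d4d0429eb14ee7], [nat_lit 171520, nat_lit 164608, nat_lit 160896, nat_lit 156480, nat_lit 152864, nat_lit 147536, nat_lit 145176, nat_lit 140812, nat_lit 136474, nat_lit 133022, nat_lit 1694, nat_lit 4328, nat_lit 9424, nat_lit 13232, nat_lit 16672, nat_lit 21248, nat_lit 26368, nat_lit 29440, nat_lit 33792, nat_lit 41965, nat_lit 37997, nat_lit 32832, nat_lit 28792, nat_lit 24735, nat_lit 20496, nat_lit 16386, nat_lit 12420, nat_lit 8201, nat_lit 4097]⟩⟩⟩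
def p157 : AP := ⟨[nat_lit 660, nat_lit 179], [], (nat_lit 396), ⟨[nat_lit 41, nat_lit 48], [nat_lit 0, nat_lit 42, nat_lit 59], ⟨[nat_lit 0x2a60d380d744c8e63c56ac643a2961], [nat_lit 173056, nat_lit 165120, nat_lit 160000, nat_lit 153216, nat_lit 144688, nat_lit 139780, nat_lit 135796, nat_lit 135153, nat_lit 2, nat_lit 5320, nat_lit 8752, nat_lit 13536, nat_lit 17376, nat_lit 21696, nat_lit 26112, nat_lit 29184, nat_lit 34304, nat_lit 37888, nat_lit 41707, nat_lit 37888, nat_lit 32888, nat_lit 28779, nat_lit 24580, nat_lit 20631, nat_lit 16431, nat_lit 12291, nat_lit 8226, nat_lit 4101]⟩⟩⟩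
def p158 : AP := ⟨[nat_lit 661, nat_lit 171], [], (nat_lit 418), ⟨[nat_lit 10, nat_lit 64], [nat_lit 44, nat_lit 63], ⟨[nat_lit 0x955c8192331158d58147a04d74bed0], [nat_lit 164864, nat_lit 160768, nat_lit 155840, nat_lit 152992, nat_lit 150272, nat_lit 143392, nat_lit 140728, nat_lit 135908, nat_lit 132332, nat_lit 760, nat_lit 5508, nat_lit 8672, nat_lit 14112, nat_lit 16448, nat_lit 21568, nat_lit 24832, nat_lit 29440, nat_lit 33792, nat_lit 37888, nat_lit 41334, nat_lit 37200, nat_lit 33011, nat_lit 28963, nat_lit 24611, nat_lit 20563, nat_lit 16397, nat_lit 12311, nat_lit 8209, nat_lit 4105, nat_lit 2]⟩⟩⟩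
def p159 : AP := ⟨[nat_lit 181, nat_lit 661], [], (nat_lit 418), ⟨[nat_lit 0, nat_lit 3, nat_lit 49], [nat_lit 17, nat_lit 53], ⟨[nat_lit 0x946c271533350e1a8d8f5dc0a23510], [nat_lit 164864, nat_lit 163200, nat_lit 156032, nat_lit 152096, nat_lit 148368, nat_lit 145280, nat_lit 139980, nat_lit 135994, nat_lit 132729, nat_lit 428, nat_lit 6076, nat_lit 8256, nat_lit 13312, nat_lit 16640, nat_lit 21888, nat_lit 24832, nat_lit 28928, nat_lit 34304, nat_lit 41817, nat_lit 37923, nat_lit 32872, nat_lit 28781, nat_lit 24754, nat_lit 20617, nat_lit 16460, nat_lit 12359, nat_lit 8225, nat_lit 4113, nat_lit 4]⟩⟩⟩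
def p160 : AP := ⟨[nat_lit 179, nat_lit 659, nat_lit 170], [], (nat_lit 396), ⟨[nat_lit 40, nat_lit 70], [nat_lit 0, nat_lit 38, nat_lit 93], ⟨[nat_lit 0xa5cc41cc315a5ae2d4f68480263d0a], [nat_lit 173056, nat_lit 169984, nat_lit 164864, nat_lit 161152, nat_lit 158592, nat_lit 151872, nat_lit 147920, nat_lit 146664, nat_lit 143032, nat_lit 137740, nat_lit 134994, nat_lit 1554, nat_lit 4156, nat_lit 9008, nat_lit 13920, nat_lit 16928, nat_lit 21248, nat_lit 25344, nat_lit 30208, nat_lit 33280, nat_lit 37888, nat_lit 41741, nat_lit 38254, nat_lit 32938, nat_lit 29048, nat_lit 24735, nat_lit 20509, nat_lit 16393, nat_lit 12295, nat_lit 8193, nat_lit 4104, nat_lit 2]⟩⟩⟩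
def p161 : AP := ⟨[nat_lit 175, nat_lit 173], [], (nat_lit 396), ⟨[nat_lit 0, nat_lit 36, nat_lit 53], [nat_lit 0, nat_lit 83, nat_lit 53], ⟨[nat_lit 0x7ae0d8a8430d9c4aa6f33500c3c905], [nat_lit 175104, nat_lit 171520, nat_lit 166656, nat_lit 160640, nat_lit 156864, nat_lit 152064, nat_lit 150032, nat_lit 144976, nat_lit 140744, nat_lit 138480, nat_lit 134863, nat_lit 1938, nat_lit 4156, nat_lit 8968, nat_lit 18368, nat_lit 21184, nat_lit 26112, nat_lit 41057, nat_lit 37261, nat_lit 32916, nat_lit 28774, nat_lit 24751, nat_lit 20612, nat_lit 16647, nat_lit 12357, nat_lit 8201, nat_lit 4112]⟩⟩⟩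
def p162 : AP := ⟨[nat_lit 50], [], (nat_lit 1046), ⟨[nat_lit 8, nat_lit 65], [nat_lit 0, nat_lit 82, nat_lit 48], ⟨[nat_lit 0x70956884643527760135440ab93ced], [nat_lit 173056, nat_lit 164608, nat_lit 160000, nat_lit 156160, nat_lit 152384, nat_lit 147968, nat_lit 143680, nat_lit 140308, nat_lit 137478, nat_lit 131122, nat_lit 494, nat_lit 5488, nat_lit 8520, nat_lit 13984, nat_lit 17760, nat_lit 21632, nat_lit 24960, nat_lit 34304, nat_lit 41938, nat_lit 36922, nat_lit 32983, nat_lit 28690, nat_lit 24610, nat_lit 20575, nat_lit 16392, nat_lit 12306, nat_lit 8227, nat_lit 4097]⟩⟩⟩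
def p163 : AP := ⟨[nat_lit 212, nat_lit 176], [], (nat_lit 396), ⟨[nat_lit 0, nat_lit 33, nat_lit 60], [nat_lit 43, nat_lit 46], ⟨[nat_lit 0x6dab20442e3a283324578298b995e4], [nat_lit 170496, nat_lit 164352, nat_lit 161024, nat_lit 155840, nat_lit 152864, nat_lit 148912, nat_lit 143536, nat_lit 139844, nat_lit 136372, nat_lit 132715, nat_lit 606, nat_lit 5296, nat_lit 10032, nat_lit 14192, nat_lit 16896, nat_lit 21952, nat_lit 25856, nat_lit 29184, nat_lit 33792, nat_lit 37888, nat_lit 41741, nat_lit 38271, nat_lit 33830, nat_lit 28750, nat_lit 24714, nat_lit 20747, nat_lit 16394, nat_lit 12307, nat_lit 8256, nat_lit 4112, nat_lit 8]⟩⟩⟩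
def p164 : AP := ⟨[nat_lit 659, nat_lit 178, nat_lit 171], [], (nat_lit 418), ⟨[nat_lit 0, nat_lit 80, nat_lit 66], [nat_lit 0, nat_lit 74, nat_lit 92], ⟨[nat_lit 0x450524823571e705a8cd60483b3ee5], [nat_lit 173056, nat_lit 164352, nat_lit 160256, nat_lit 155840, nat_lit 152736, nat_lit 147728, nat_lit 144632, nat_lit 139272, nat_lit 135170, nat_lit 133330, nat_lit 128, nat_lit 4756, nat_lit 9112, nat_lit 12976, nat_lit 16928, nat_lit 22464, nat_lit 25984, nat_lit 33792, nat_lit 41247, nat_lit 36993, nat_lit 32980, nat_lit 28785, nat_lit 24719, nat_lit 20575, nat_lit 16393, nat_lit 8259, nat_lit 4160]⟩⟩⟩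
def p165 : AP := ⟨[nat_lit 48, nat_lit 56, nat_lit 643, nat_lit 50], [], (nat_lit 1046), ⟨[nat_lit 72, nat_lit 54], [nat_lit 0, nat_lit 26, nat_lit 48], ⟨[nat_lit 0x11824a25559c9cd6422f180a745ecb], [nat_lit 175104, nat_lit 169472, nat_lit 166912, nat_lit 162688, nat_lit 159680, nat_lit 152096, nat_lit 145240, nat_lit 141704, nat_lit 137666, nat_lit 132155, nat_lit 354, nat_lit 4824, nat_lit 9928, nat_lit 13920, nat_lit 17568, nat_lit 21248, nat_lit 24960, nat_lit 28928, nat_lit 34304, nat_lit 40973, nat_lit 37287, nat_lit 33022, nat_lit 28936, nat_lit 24631, nat_lit 20561, nat_lit 16452, nat_lit 12544, nat_lit 8203, nat_lit 4105, nat_lit 2]⟩⟩⟩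
def p166 : AP := ⟨[nat_lit 68], [], (nat_lit 122), ⟨[nat_lit 0, nat_lit 75, nat_lit 94], [nat_lit 0, nat_lit 11, nat_lit 61], ⟨[nat_lit 0x59e86759e8b840a11193855321c5a5], [nat_lit 171520, nat_lit 164864, nat_lit 162304, nat_lit 155712, nat_lit 154560, nat_lit 150288, nat_lit 146496, nat_lit 140384, nat_lit 136630, nat_lit 134372, nat_lit 568, nat_lit 5648, nat_lit 8656, nat_lit 12416, nat_lit 18336, nat_lit 21440, nat_lit 25344, nat_lit 29184, nat_lit 37888, nat_lit 41930, nat_lit 37033, nat_lit 33884, nat_lit 28679, nat_lit 25611, nat_lit 21000, nat_lit 16647, nat_lit 12289, nat_lit 8322, nat_lit 4225]⟩⟩⟩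
def l167 : List AP := [⟨[nat_lit 15, nat_lit 630], [], (nat_lit 1032), ⟨[nat_lit 82, nat_lit 68], [nat_lit 11, nat_lit 89], ⟨[nat_lit 0x120ef954c45cd5708e162a40e63691], [nat_lit 174080, nat_lit 171008, nat_lit 164096, nat_lit 162304, nat_lit 158400, nat_lit 155360, nat_lit 149120, nat_lit 143992, nat_lit 140384, nat_lit 138680, nat_lit 134041, nat_lit 1250, nat_lit 5420, nat_lit 10128, nat_lit 13168, nat_lit 17440, nat_lit 20992, nat_lit 24704, nat_lit 29184, nat_lit 37888, nat_lit 41403, nat_lit 36865, nat_lit 34013, nat_lit 29717, nat_lit 24855, nat_lit 20505, nat_lit 16428, nat_lit 12322, nat_lit 8211, nat_lit 4101]⟩⟩⟩]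
theorem s167 : Suf yT 65536 (ldrop wS 161) (apW dcM p166) (tgtN dcM p166.e) := Suf.fin' (l := l167) (by decide +kernel)
def l166 : List AP := [⟨[nat_lit 663, nat_lit 170, nat_lit 171], [], (nat_lit 396), ⟨[nat_lit 71, nat_lit 93], [nat_lit 39], ⟨[nat_lit 0x11c6e616965a08d828174865589a6f], [nat_lit 173056, nat_lit 168448, nat_lit 165632, nat_lit 162944, nat_lit 157504, nat_lit 152288, nat_lit 147504, nat_lit 144848, nat_lit 139612, nat_lit 135414, nat_lit 131403, nat_lit 1318, nat_lit 4340, nat_lit 10176, nat_lit 13664, nat_lit 17504, nat_lit 21056, nat_lit 34304, nat_lit 41430, nat_lit 37088, nat_lit 33905, nat_lit 25131, nat_lit 20755, nat_lit 16417, nat_lit 12355, nat_lit 8209, nat_lit 4160, nat_lit 2]⟩⟩⟩,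
  ⟨[nat_lit 53], [], (nat_lit 126), ⟨[nat_lit 79, nat_lit 90], [nat_lit 19, nat_lit 69], ⟨[nat_lit 0xe658a126736475868c85c95b29e2], [nat_lit 168448, nat_lit 167168, nat_lit 160128, nat_lit 156800, nat_lit 152704, nat_lit 147968, nat_lit 144272, nat_lit 139528, nat_lit 136590, nat_lit 131215, nat_lit 1814, nat_lit 4804, nat_lit 8448, nat_lit 13920, nat_lit 16864, nat_lit 20800, nat_lit 25984, nat_lit 28928, nat_lit 37888, nat_lit 41319, nat_lit 36866, nat_lit 33885, nat_lit 28720, nat_lit 25639, nat_lit 20624, nat_lit 16389, nat_lit 12291, nat_lit 8193, nat_lit 4105, nat_lit 4]⟩⟩⟩]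
theorem s166 : Suf yT 65536 (ldrop wS 146) (apW dcM p165) (tgtN dcM p165.e) := Suf.seg (l := l166) (by decide +kernel) s167
def l165 : List AP := [⟨[nat_lit 219, nat_lit 180], [], (nat_lit 418), ⟨[nat_lit 20], [nat_lit 0, nat_lit 75, nat_lit 62], ⟨[nat_lit 0x85d61345b2ab2843a12e281e2b0d53], [nat_lit 173056, nat_lit 171520, nat_lit 164352, nat_lit 159872, nat_lit 157120, nat_lit 152160, nat_lit 148048, nat_lit 144904, nat_lit 139864, nat_lit 137038, nat_lit 131121, nat_lit 78, nat_lit 5544, nat_lit 10064, nat_lit 12800, nat_lit 17728, nat_lit 21888, nat_lit 24704, nat_lit 29952, nat_lit 34304, nat_lit 37888, nat_lit 41975, nat_lit 38396, nat_lit 33811, nat_lit 28940, nat_lit 24744, nat_lit 20490, nat_lit 16388, nat_lit 12295, nat_lit 8203, nat_lit 4104]⟩⟩⟩,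
  ⟨[nat_lit 179, nat_lit 216], [], (nat_lit 396), ⟨[nat_lit 43, nat_lit 90], [nat_lit 0, nat_lit 83, nat_lit 51], ⟨[nat_lit 0x75220624ad34d72b3c5019d01baaa4], [nat_lit 174080, nat_lit 168448, nat_lit 166400, nat_lit 163200, nat_lit 159168, nat_lit 152448, nat_lit 149472, nat_lit 144832, nat_lit 141928, nat_lit 137962, nat_lit 131308, nat_lit 1778, nat_lit 5588, nat_lit 9264, nat_lit 13712, nat_lit 16864, nat_lit 22464, nat_lit 26368, nat_lit 28928, nat_lit 37888, nat_lit 41983, nat_lit 37298, nat_lit 32882, nat_lit 29184, nat_lit 24585, nat_lit 20631, nat_lit 16388, nat_lit 12352, nat_lit 8211, nat_lit 4097, nat_lit 2]⟩⟩⟩]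
theorem s165 : Suf yT 65536 (ldrop wS 140) (apW dcM p164) (tgtN dcM p164.e) := Suf.seg (l := l165) (by decide +kernel) s166
def l164 : List AP := [⟨[nat_lit 50], [], (nat_lit 1046), ⟨[nat_lit 79, nat_lit 91], [nat_lit 0, nat_lit 14, nat_lit 59], ⟨[nat_lit 0x6dab20442e3a283324578298b995e4], [nat_lit 173056, nat_lit 170496, nat_lit 164352, nat_lit 161024, nat_lit 155840, nat_lit 152864, nat_lit 148912, nat_lit 143536, nat_lit 139844, nat_lit 136374, nat_lit 132715, nat_lit 606, nat_lit 5296, nat_lit 10032, nat_lit 14192, nat_lit 16896, nat_lit 21952, nat_lit 25856, nat_lit 29184, nat_lit 33792, nat_lit 37888, nat_lit 41741, nat_lit 38271, nat_lit 33830, nat_lit 28750, nat_lit 24714, nat_lit 20747, nat_lit 16394, nat_lit 12307, nat_lit 8256, nat_lit 4112, nat_lit 8]⟩⟩⟩,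
  ⟨[nat_lit 172, nat_lit 663], [], (nat_lit 418), ⟨[nat_lit 14, nat_lit 50], [nat_lit 82, nat_lit 70], ⟨[nat_lit 0x58db0004f52527265dc5325167c542], [nat_lit 165632, nat_lit 160768, nat_lit 153120, nat_lit 148112, nat_lit 144248, nat_lit 141076, nat_lit 139108, nat_lit 132470, nat_lit 1814, nat_lit 4100, nat_lit 8704, nat_lit 13664, nat_lit 17184, nat_lit 22144, nat_lit 25216, nat_lit 28928, nat_lit 33280, nat_lit 41796, nat_lit 37359, nat_lit 32902, nat_lit 28928, nat_lit 24595, nat_lit 21001, nat_lit 16462, nat_lit 12294, nat_lit 8194, nat_lit 4097, nat_lit 2]⟩⟩⟩]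
theorem s164 : Suf yT 65536 (ldrop wS 125) (apW dcM p163) (tgtN dcM p163.e) := Suf.seg (l := l164) (by decide +kernel) s165
def l163 : List AP := [⟨[nat_lit 177, nat_lit 216], [], (nat_lit 396), ⟨[nat_lit 0, nat_lit 26, nat_lit 91], [nat_lit 0, nat_lit 7, nat_lit 59], ⟨[nat_lit 0xb05e4bb0a35c1cd1013251e66ac688], [nat_lit 173056, nat_lit 165888, nat_lit 160512, nat_lit 155840, nat_lit 154336, nat_lit 150240, nat_lit 147000, nat_lit 142604, nat_lit 139040, nat_lit 132680, nat_lit 2018, nat_lit 4380, nat_lit 10152, nat_lit 12544, nat_lit 17408, nat_lit 21504, nat_lit 24960, nat_lit 29184, nat_lit 37888, nat_lit 41335, nat_lit 37026, nat_lit 33877, nat_lit 29189, nat_lit 25629, nat_lit 20498, nat_lit 16416, nat_lit 12353, nat_lit 8321, nat_lit 8]⟩⟩⟩,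
  ⟨[nat_lit 642, nat_lit 48, nat_lit 73, nat_lit 639], [], (nat_lit 1046), ⟨[nat_lit 0, nat_lit 16, nat_lit 70], [nat_lit 0, nat_lit 3, nat_lit 49], ⟨[nat_lit 0x33cae5c1313b1a4a5c6054e48a8456], [nat_lit 164608, nat_lit 159872, nat_lit 159424, nat_lit 152096, nat_lit 148048, nat_lit 143688, nat_lit 139496, nat_lit 135616, nat_lit 131962, nat_lit 760, nat_lit 4100, nat_lit 8256, nat_lit 13328, nat_lit 18144, nat_lit 22464, nat_lit 25088, nat_lit 30464, nat_lit 33280, nat_lit 41491, nat_lit 36994, nat_lit 32873, nat_lit 29250, nat_lit 20765, nat_lit 16420, nat_lit 12295, nat_lit 8194, nat_lit 4100]⟩⟩⟩]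
theorem s163 : Suf yT 65536 (ldrop wS 110) (apW dcM p162) (tgtN dcM p162.e) := Suf.seg (l := l163) (by decide +kernel) s164
def l162 : List AP := [⟨[nat_lit 72, nat_lit 56, nat_lit 639, nat_lit 68], [], (nat_lit 1046), ⟨[nat_lit 2, nat_lit 61], [nat_lit 0, nat_lit 8], ⟨[nat_lit 0x3158e9c04079c8d90471ad16ab26e8], [nat_lit 165376, nat_lit 161664, nat_lit 158272, nat_lit 153024, nat_lit 147632, nat_lit 145008, nat_lit 139940, nat_lit 136970, nat_lit 131294, nat_lit 1396, nat_lit 5316, nat_lit 9928, nat_lit 12400, nat_lit 18272, nat_lit 22400, nat_lit 25216, nat_lit 29440, nat_lit 33280, nat_lit 41824, nat_lit 37020, nat_lit 32960, nat_lit 28790, nat_lit 24763, nat_lit 20634, nat_lit 16517, nat_lit 12321, nat_lit 8203, nat_lit 4101, nat_lit 2]⟩⟩⟩,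
  ⟨[nat_lit 214, nat_lit 175, nat_lit 170], [], (nat_lit 396), ⟨[nat_lit 0, nat_lit 33, nat_lit 93], [nat_lit 75, nat_lit 94], ⟨[nat_lit 0x70956884643527760135440ab93ced], [nat_lit 173056, nat_lit 164608, nat_lit 160128, nat_lit 156160, nat_lit 152416, nat_lit 147968, nat_lit 143680, nat_lit 140304, nat_lit 137476, nat_lit 131122, nat_lit 494, nat_lit 5488, nat_lit 8520, nat_lit 13984, nat_lit 17760, nat_lit 21632, nat_lit 24960, nat_lit 34304, nat_lit 41938, nat_lit 36922, nat_lit 32983, nat_lit 28690, nat_lit 24610, nat_lit 20575, nat_lit 16392, nat_lit 12306, nat_lit 8227, nat_lit 4097]⟩⟩⟩]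
theorem s162 : Suf yT 65536 (ldrop wS 95) (apW dcM p161) (tgtN dcM p161.e) := Suf.seg (l := l162) (by decide +kernel) s163
def l161 : List AP := [⟨[nat_lit 640, nat_lit 67, nat_lit 56, nat_lit 46], [], (nat_lit 1046), ⟨[nat_lit 0, nat_lit 28, nat_lit 91], [nat_lit 10, nat_lit 67], ⟨[nat_lit 0x7451678cad30613b9c555329202564], [nat_lit 173056, nat_lit 168960, nat_lit 164096, nat_lit 159872, nat_lit 155712, nat_lit 152512, nat_lit 148624, nat_lit 147304, nat_lit 139912, nat_lit 135224, nat_lit 132643, nat_lit 16, nat_lit 5072, nat_lit 9752, nat_lit 12304, nat_lit 21120, nat_lit 25856, nat_lit 29184, nat_lit 33792, nat_lit 41838, nat_lit 37016, nat_lit 32955, nat_lit 28728, nat_lit 24637, nat_lit 20481, nat_lit 16392, nat_lit 12289, nat_lit 8194, nat_lit 8]⟩⟩⟩,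
  ⟨[nat_lit 661, nat_lit 171], [], (nat_lit 418), ⟨[nat_lit 0, nat_lit 7, nat_lit 53], [nat_lit 22, nat_lit 54], ⟨[nat_lit 0x808e91acb3b38c4a30016a2aa7c6f2], [nat_lit 173056, nat_lit 171008, nat_lit 167168, nat_lit 162304, nat_lit 158848, nat_lit 151904, nat_lit 149584, nat_lit 146152, nat_lit 139576, nat_lit 138258, nat_lit 131948, nat_lit 1140, nat_lit 5080, nat_lit 8888, nat_lit 14176, nat_lit 16864, nat_lit 21632, nat_lit 24832, nat_lit 29184, nat_lit 33792, nat_lit 41218, nat_lit 36994, nat_lit 33882, nat_lit 29207, nat_lit 24609, nat_lit 20484, nat_lit 16512, nat_lit 12290, nat_lit 8211, nat_lit 4097, nat_lit 2]⟩⟩⟩]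
theorem s161 : Suf yT 65536 (ldrop wS 89) (apW dcM p160) (tgtN dcM p160.e) := Suf.seg (l := l161) (by decide +kernel) s162
def l160 : List AP := [⟨[nat_lit 179, nat_lit 216], [], (nat_lit 396), ⟨[nat_lit 0, nat_lit 42, nat_lit 68], [nat_lit 25, nat_lit 52], ⟨[nat_lit 0x6a6e180c4462ec032a688d0f5915ee], [nat_lit 164352, nat_lit 159872, nat_lit 155968, nat_lit 152992, nat_lit 147208, nat_lit 139532, nat_lit 135262, nat_lit 131100, nat_lit 342, nat_lit 5992, nat_lit 10032, nat_lit 16512, nat_lit 22336, nat_lit 25856, nat_lit 37888, nat_lit 41576, nat_lit 38292, nat_lit 32776, nat_lit 28737, nat_lit 24729, nat_lit 20482, nat_lit 16453, nat_lit 8209, nat_lit 4128, nat_lit 16]⟩⟩⟩,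
  ⟨[nat_lit 56, nat_lit 54, nat_lit 52, nat_lit 54, nat_lit 46], [], (nat_lit 1046), ⟨[nat_lit 0, nat_lit 7, nat_lit 90], [nat_lit 87, nat_lit 60], ⟨[nat_lit 0xad94d3cee03208e8498b48c2f150b1], [nat_lit 169984, nat_lit 164864, nat_lit 161280, nat_lit 158400, nat_lit 151904, nat_lit 149344, nat_lit 147328, nat_lit 142688, nat_lit 139110, nat_lit 134082, nat_lit 78, nat_lit 4384, nat_lit 8224, nat_lit 14144, nat_lit 17792, nat_lit 20864, nat_lit 24960, nat_lit 29184, nat_lit 41673, nat_lit 38035, nat_lit 32955, nat_lit 28707, nat_lit 25108, nat_lit 20609, nat_lit 16642, nat_lit 12308, nat_lit 8200, nat_lit 4129]⟩⟩⟩]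
theorem s160 : Suf yT 65536 (ldrop wS 74) (apW dcM p159) (tgtN dcM p159.e) := Suf.seg (l := l160) (by decide +kernel) s161
def l159 : List AP := [⟨[nat_lit 214, nat_lit 212], [], (nat_lit 418), ⟨[nat_lit 10, nat_lit 63], [nat_lit 0, nat_lit 71, nat_lit 89], ⟨[nat_lit 0x68af3a2095516121acc0b3e214b987], [nat_lit 173056, nat_lit 167168, nat_lit 161152, nat_lit 157248, nat_lit 153312, nat_lit 149120, nat_lit 145280, nat_lit 140768, nat_lit 135540, nat_lit 131422, nat_lit 1438, nat_lit 4156, nat_lit 9904, nat_lit 13552, nat_lit 17248, nat_lit 21888, nat_lit 25344, nat_lit 30464, nat_lit 41848, nat_lit 37360, nat_lit 32803, nat_lit 29296, nat_lit 24605, nat_lit 20497, nat_lit 16398, nat_lit 12290]⟩⟩⟩,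
  ⟨[nat_lit 217], [], (nat_lit 393), ⟨[nat_lit 0, nat_lit 35, nat_lit 53], [nat_lit 71, nat_lit 53], ⟨[nat_lit 0x61c7602a414c2b72222613a855b5f3], [nat_lit 175104, nat_lit 169984, nat_lit 166656, nat_lit 156736, nat_lit 153408, nat_lit 150000, nat_lit 144200, nat_lit 139352, nat_lit 139090, nat_lit 133590, nat_lit 1318, nat_lit 5024, nat_lit 9560, nat_lit 12528, nat_lit 18176, nat_lit 20928, nat_lit 25216, nat_lit 29440, nat_lit 34304, nat_lit 41601, nat_lit 38172, nat_lit 32925, nat_lit 28797, nat_lit 24639, nat_lit 20506, nat_lit 16397, nat_lit 12306, nat_lit 8194, nat_lit 4101, nat_lit 2]⟩⟩⟩]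
theorem s159 : Suf yT 65536 (ldrop wS 59) (apW dcM p158) (tgtN dcM p158.e) := Suf.seg (l := l159) (by decide +kernel) s160
def l158 : List AP := [⟨[nat_lit 71, nat_lit 68, nat_lit 46], [], (nat_lit 120), ⟨[nat_lit 73, nat_lit 53], [nat_lit 28, nat_lit 51], ⟨[nat_lit 0x8914690408134f71d4afb520b9b1c9], [nat_lit 173056, nat_lit 168960, nat_lit 164096, nat_lit 161152, nat_lit 156480, nat_lit 153536, nat_lit 148288, nat_lit 145008, nat_lit 140160, nat_lit 137494, nat_lit 131361, nat_lit 1928, nat_lit 6068, nat_lit 8504, nat_lit 13552, nat_lit 16704, nat_lit 22272, nat_lit 24832, nat_lit 29184, nat_lit 33792, nat_lit 41758, nat_lit 37913, nat_lit 32998, nat_lit 28952, nat_lit 24704, nat_lit 20510, nat_lit 16422, nat_lit 12293, nat_lit 8]⟩⟩⟩,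
  ⟨[nat_lit 642, nat_lit 56, nat_lit 54, nat_lit 50], [], (nat_lit 1046), ⟨[nat_lit 0, nat_lit 41], [nat_lit 0, nat_lit 44, nat_lit 67], ⟨[nat_lit 0x2502c7cd2d894ea18a48bd60bb00ce], [nat_lit 173056, nat_lit 171520, nat_lit 164864, nat_lit 159872, nat_lit 157952, nat_lit 152480, nat_lit 148560, nat_lit 146024, nat_lit 142368, nat_lit 137798, nat_lit 134275, nat_lit 1530, nat_lit 4600, nat_lit 9136, nat_lit 12976, nat_lit 16704, nat_lit 22016, nat_lit 26240, nat_lit 29184, nat_lit 33792, nat_lit 41388, nat_lit 37115, nat_lit 32773, nat_lit 28741, nat_lit 24618, nat_lit 20499, nat_lit 16420, nat_lit 12294, nat_lit 8194, nat_lit 4101]⟩⟩⟩]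
theorem s158 : Suf yT 65536 (ldrop wS 44) (apW dcM p157) (tgtN dcM p157.e) := Suf.seg (l := l158) (by decide +kernel) s159
def l157 : List AP := [⟨[nat_lit 212], [], (nat_lit 396), ⟨[nat_lit 5, nat_lit 62], [nat_lit 81, nat_lit 46], ⟨[nat_lit 0x6c585a240e786abbcac73215014c64], [nat_lit 174080, nat_lit 168448, nat_lit 167680, nat_lit 162176, nat_lit 158464, nat_lit 152992, nat_lit 149248, nat_lit 143872, nat_lit 142960, nat_lit 137604, nat_lit 131548, nat_lit 606, nat_lit 5580, nat_lit 8208, nat_lit 12304, nat_lit 16448, nat_lit 22272, nat_lit 24704, nat_lit 29440, nat_lit 33792, nat_lit 37888, nat_lit 41690, nat_lit 37971, nat_lit 32923, nat_lit 28940, nat_lit 24638, nat_lit 20548, nat_lit 16394, nat_lit 12294, nat_lit 8201, nat_lit 4]⟩⟩⟩,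
  ⟨[nat_lit 50], [], (nat_lit 1046), ⟨[nat_lit 0, nat_lit 77, nat_lit 54], [nat_lit 41, nat_lit 61], ⟨[nat_lit 0x6c585a240e786abbcac73215014c64], [nat_lit 174080, nat_lit 167680, nat_lit 162176, nat_lit 158528, nat_lit 152992, nat_lit 149248, nat_lit 143880, nat_lit 142964, nat_lit 137606, nat_lit 131548, nat_lit 606, nat_lit 5580, nat_lit 8208, nat_lit 12304, nat_lit 16448, nat_lit 22272, nat_lit 24704, nat_lit 29440, nat_lit 33792, nat_lit 37888, nat_lit 41690, nat_lit 37971, nat_lit 32923, nat_lit 28940, nat_lit 24638, nat_lit 20548, nat_lit 16394, nat_lit 12294, nat_lit 8201, nat_lit 4]⟩⟩⟩]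
theorem s157 : Suf yT 65536 (ldrop wS 38) (apW dcM p156) (tgtN dcM p156.e) := Suf.seg (l := l157) (by decide +kernel) s158
def l156 : List AP := [⟨[nat_lit 661, nat_lit 171], [], (nat_lit 418), ⟨[nat_lit 0, nat_lit 42, nat_lit 55], [nat_lit 6, nat_lit 58], ⟨[nat_lit 0x93ec84d5d01ad4415e856182d38233], [nat_lit 175104, nat_lit 170496, nat_lit 161792, nat_lit 159552, nat_lit 154016, nat_lit 148560, nat_lit 143592, nat_lit 139118, nat_lit 133862, nat_lit 78, nat_lit 4684, nat_lit 9384, nat_lit 14272, nat_lit 17280, nat_lit 22464, nat_lit 25088, nat_lit 28928, nat_lit 33280, nat_lit 41477, nat_lit 38236, nat_lit 32901, nat_lit 28966, nat_lit 24581, nat_lit 20614, nat_lit 16907, nat_lit 12805, nat_lit 8194, nat_lit 4101, nat_lit 2]⟩⟩⟩,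
  ⟨[nat_lit 175, nat_lit 171], [], (nat_lit 396), ⟨[nat_lit 0, nat_lit 87, nat_lit 70], [nat_lit 75, nat_lit 48], ⟨[nat_lit 0x2a124b54439c1aeb828193d91598ea], [nat_lit 175104, nat_lit 171520, nat_lit 164864, nat_lit 162816, nat_lit 159168, nat_lit 154912, nat_lit 147888, nat_lit 145080, nat_lit 139400, nat_lit 137456, nat_lit 134946, nat_lit 786, nat_lit 5204, nat_lit 9096, nat_lit 13312, nat_lit 18400, nat_lit 21952, nat_lit 25984, nat_lit 30208, nat_lit 33792, nat_lit 37888, nat_lit 41657, nat_lit 37277, nat_lit 33522, nat_lit 28731, nat_lit 24886, nat_lit 20481, nat_lit 16385, nat_lit 12358, nat_lit 8202, nat_lit 4105, nat_lit 4]⟩⟩⟩]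
theorem s156 : Suf yT 65536 (ldrop wS 23) (apW dcM p155) (tgtN dcM p155.e) := Suf.seg (l := l156) (by decide +kernel) s157
def l155 : List AP := [⟨[nat_lit 181, nat_lit 171], [], (nat_lit 396), ⟨[nat_lit 0, nat_lit 5, nat_lit 68], [nat_lit 24, nat_lit 60], ⟨[nat_lit 0x9960e3bed7425a48d06aa864b0184c], [nat_lit 174080, nat_lit 170496, nat_lit 166656, nat_lit 159616, nat_lit 153792, nat_lit 148608, nat_lit 146336, nat_lit 139704, nat_lit 135776, nat_lit 131520, nat_lit 318, nat_lit 4408, nat_lit 9216, nat_lit 13152, nat_lit 16704, nat_lit 22208, nat_lit 26496, nat_lit 30208, nat_lit 33280, nat_lit 37888, nat_lit 41234, nat_lit 37015, nat_lit 34007, nat_lit 29005, nat_lit 24635, nat_lit 20508, nat_lit 16422, nat_lit 12295, nat_lit 8203, nat_lit 4105, nat_lit 8]⟩⟩⟩,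
  ⟨[nat_lit 67, nat_lit 55, nat_lit 69], [], (nat_lit 121), ⟨[nat_lit 0, nat_lit 14, nat_lit 65], [nat_lit 0, nat_lit 27, nat_lit 58], ⟨[nat_lit 0x72ae68a1637a6a7092050324d14ed4], [nat_lit 173056, nat_lit 168960, nat_lit 167168, nat_lit 161024, nat_lit 155840, nat_lit 153312, nat_lit 149200, nat_lit 143520, nat_lit 140064, nat_lit 135542, nat_lit 132287, nat_lit 664, nat_lit 4340, nat_lit 8224, nat_lit 12320, nat_lit 16960, nat_lit 21504, nat_lit 24960, nat_lit 37888, nat_lit 41322, nat_lit 36910, nat_lit 32896, nat_lit 28928, nat_lit 25602, nat_lit 20552, nat_lit 16389, nat_lit 12356, nat_lit 8203, nat_lit 4100, nat_lit 2]⟩⟩⟩]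
theorem s155 : Suf yT 65536 (ldrop wS 8) (apW dcM p154) (tgtN dcM p154.e) := Suf.seg (l := l155) (by decide +kernel) s156
def l154 : List AP := [⟨[nat_lit 8, nat_lit 2, nat_lit 9, nat_lit 3, nat_lit 6, nat_lit 1], [], (nat_lit 40), ⟨[nat_lit 23, nat_lit 53], [nat_lit 19, nat_lit 65], ⟨[nat_lit 0xaba4650a1120125b4ceca06e878d6d], [nat_lit 169472, nat_lit 165376, nat_lit 161152, nat_lit 156608, nat_lit 152992, nat_lit 147680, nat_lit 144576, nat_lit 142780, nat_lit 135774, nat_lit 131666, nat_lit 488, nat_lit 5084, nat_lit 8200, nat_lit 13920, nat_lit 17536, nat_lit 21056, nat_lit 25088, nat_lit 28928, nat_lit 33792, nat_lit 37888, nat_lit 41338, nat_lit 36972, nat_lit 32910, nat_lit 28983, nat_lit 25088, nat_lit 20492, nat_lit 16517, nat_lit 12304]⟩⟩⟩,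
  ⟨[nat_lit 24, nat_lit 22, nat_lit 29, nat_lit 31, nat_lit 25, nat_lit 22], [], (nat_lit 338), ⟨[nat_lit 0, nat_lit 16, nat_lit 67], [nat_lit 87, nat_lit 64], ⟨[nat_lit 0x5b24d88c083ba8120aef29a6955ab0], [nat_lit 164096, nat_lit 161024, nat_lit 157632, nat_lit 151680, nat_lit 148128, nat_lit 146312, nat_lit 140044, nat_lit 135384, nat_lit 132974, nat_lit 1698, nat_lit 5208, nat_lit 8664, nat_lit 12720, nat_lit 16864, nat_lit 21888, nat_lit 24832, nat_lit 29696, nat_lit 34304, nat_lit 37888, nat_lit 41816, nat_lit 37963, nat_lit 32992, nat_lit 28685, nat_lit 24600, nat_lit 20743, nat_lit 16398, nat_lit 12289, nat_lit 8209, nat_lit 4100, nat_lit 2]⟩⟩⟩]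
theorem rS4 : Suf yT 65536 wS [yT.get 38] 0 := Suf.seg (l := l154) (by decide +kernel) s155

def p168 : AP := ⟨[], [], (nat_lit 393), ⟨[nat_lit 28, nat_lit 92], [nat_lit 0, nat_lit 38, nat_lit 90], ⟨[nat_lit 0xb146f5d215348e95005343a2d23037], [nat_lit 173056, nat_lit 168960, nat_lit 165120, nat_lit 160128, nat_lit 156608, nat_lit 154208, nat_lit 148608, nat_lit 143552, nat_lit 140668, nat_lit 137144, nat_lit 132924, nat_lit 1108, nat_lit 4128, nat_lit 8504, nat_lit 13728, nat_lit 16416, nat_lit 21184, nat_lit 25728, nat_lit 30464, nat_lit 37888, nat_lit 41740, nat_lit 38060, nat_lit 33339, nat_lit 29051, nat_lit 24623, nat_lit 20488, nat_lit 16393, nat_lit 12305, nat_lit 8194]⟩⟩⟩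
def p169 : AP := ⟨[nat_lit 56, nat_lit 54, nat_lit 52, nat_lit 54, nat_lit 46], [], (nat_lit 1046), ⟨[nat_lit 78, nat_lit 55], [nat_lit 0, nat_lit 43, nat_lit 51], ⟨[nat_lit 0x25e763320d8a9057817438c520a6ae], [nat_lit 173056, nat_lit 168448, nat_lit 165888, nat_lit 161536, nat_lit 156480, nat_lit 154560, nat_lit 150848, nat_lit 146328, nat_lit 141912, nat_lit 138354, nat_lit 133007, nat_lit 342, nat_lit 5768, nat_lit 9664, nat_lit 13552, nat_lit 16992, nat_lit 20608, nat_lit 25600, nat_lit 28928, nat_lit 41870, nat_lit 38360, nat_lit 32950, nat_lit 28754, nat_lit 24581, nat_lit 20497, nat_lit 16390, nat_lit 12292, nat_lit 8200, nat_lit 4097, nat_lit 2]⟩⟩⟩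
def p170 : AP := ⟨[nat_lit 640, nat_lit 48, nat_lit 54, nat_lit 73, nat_lit 46], [], (nat_lit 1046), ⟨[nat_lit 0, nat_lit 40, nat_lit 49], [nat_lit 83, nat_lit 90], ⟨[nat_lit 0xbb1049ac69885cd7aa86808a7902d5], [nat_lit 169984, nat_lit 166400, nat_lit 162432, nat_lit 158336, nat_lit 152576, nat_lit 150560, nat_lit 145512, nat_lit 140276, nat_lit 137260, nat_lit 131076, nat_lit 1336, nat_lit 5208, nat_lit 8384, nat_lit 13616, nat_lit 21568, nat_lit 24832, nat_lit 29696, nat_lit 34304, nat_lit 41542, nat_lit 38332, nat_lit 32898, nat_lit 28928, nat_lit 25110, nat_lit 20574, nat_lit 16431, nat_lit 12311, nat_lit 8210, nat_lit 4097]⟩⟩⟩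
def p171 : AP := ⟨[nat_lit 69, nat_lit 52], [], (nat_lit 120), ⟨[nat_lit 0, nat_lit 79, nat_lit 64], [nat_lit 39, nat_lit 54], ⟨[nat_lit 0x5d5b772841620e691680b10719be09], [nat_lit 175104, nat_lit 170496, nat_lit 167168, nat_lit 156416, nat_lit 152864, nat_lit 151072, nat_lit 143960, nat_lit 139316, nat_lit 138772, nat_lit 134751, nat_lit 724, nat_lit 5508, nat_lit 8816, nat_lit 14112, nat_lit 17888, nat_lit 22208, nat_lit 25088, nat_lit 28928, nat_lit 34304, nat_lit 41843, nat_lit 38308, nat_lit 33877, nat_lit 28715, nat_lit 24597, nat_lit 20482, nat_lit 16454, nat_lit 12292, nat_lit 8203, nat_lit 4097]⟩⟩⟩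
def p172 : AP := ⟨[nat_lit 661, nat_lit 171], [], (nat_lit 418), ⟨[nat_lit 18, nat_lit 90], [nat_lit 0, nat_lit 73, nat_lit 47], ⟨[nat_lit 0x912c77b2904aab171501680cb15c73], [nat_lit 173056, nat_lit 168448, nat_lit 166656, nat_lit 160896, nat_lit 156480, nat_lit 154496, nat_lit 150256, nat_lit 147312, nat_lit 141768, nat_lit 138244, nat_lit 131991, nat_lit 880, nat_lit 4404, nat_lit 9992, nat_lit 13024, nat_lit 16832, nat_lit 21888, nat_lit 25600, nat_lit 28928, nat_lit 37888, nat_lit 41051, nat_lit 37322, nat_lit 33470, nat_lit 29216, nat_lit 24704, nat_lit 20571, nat_lit 16429, nat_lit 12306, nat_lit 8195]⟩⟩⟩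
def p173 : AP := ⟨[nat_lit 661, nat_lit 216], [], (nat_lit 396), ⟨[nat_lit 0, nat_lit 25, nat_lit 63], [nat_lit 0, nat_lit 30, nat_lit 51], ⟨[nat_lit 0x229e8088ada5d869d52090ecb81e2e], [nat_lit 173056, nat_lit 168448, nat_lit 165120, nat_lit 159872, nat_lit 156608, nat_lit 152864, nat_lit 147520, nat_lit 143960, nat_lit 143172, nat_lit 135268, nat_lit 131342, nat_lit 810, nat_lit 4568, nat_lit 10224, nat_lit 13472, nat_lit 17888, nat_lit 21952, nat_lit 25088, nat_lit 28928, nat_lit 33792, nat_lit 37888, nat_lit 41340, nat_lit 37268, nat_lit 32775, nat_lit 29227, nat_lit 24603, nat_lit 20619, nat_lit 16390, nat_lit 12359, nat_lit 8201, nat_lit 4112, nat_lit 4]⟩⟩⟩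
def p174 : AP := ⟨[nat_lit 174, nat_lit 212], [], (nat_lit 396), ⟨[nat_lit 16, nat_lit 91], [nat_lit 9, nat_lit 69], ⟨[nat_lit 0x95e0d621343d48eb0de054c45584d1], [nat_lit 169472, nat_lit 165888, nat_lit 161024, nat_lit 157440, nat_lit 151648, nat_lit 143648, nat_lit 140520, nat_lit 135616, nat_lit 132643, nat_lit 1004, nat_lit 5120, nat_lit 9216, nat_lit 14032, nat_lit 16800, nat_lit 20992, nat_lit 26496, nat_lit 29696, nat_lit 33792, nat_lit 37888, nat_lit 41635, nat_lit 37190, nat_lit 32925, nat_lit 28953, nat_lit 25126, nat_lit 20545, nat_lit 16653, nat_lit 12290, nat_lit 8322, nat_lit 4100, nat_lit 32]⟩⟩⟩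
def p175 : AP := ⟨[nat_lit 212, nat_lit 661], [], (nat_lit 418), ⟨[nat_lit 0, nat_lit 3, nat_lit 54], [nat_lit 0, nat_lit 32, nat_lit 54], ⟨[nat_lit 0x43ef335aa30921203585745343ad42], [nat_lit 170496, nat_lit 165632, nat_lit 162688, nat_lit 156672, nat_lit 153888, nat_lit 150176, nat_lit 145752, nat_lit 140156, nat_lit 136472, nat_lit 134504, nat_lit 700, nat_lit 5544, nat_lit 9840, nat_lit 13808, nat_lit 17984, nat_lit 29440, nat_lit 33280, nat_lit 37888, nat_lit 41525, nat_lit 38023, nat_lit 32949, nat_lit 28763, nat_lit 24726, nat_lit 20747, nat_lit 16389, nat_lit 12294, nat_lit 8195]⟩⟩⟩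
def p176 : AP := ⟨[nat_lit 50], [], (nat_lit 1046), ⟨[nat_lit 81, nat_lit 46], [nat_lit 26, nat_lit 64], ⟨[nat_lit 0x74d1695d6d5246784426a968078984], [nat_lit 174080, nat_lit 169472, nat_lit 165120, nat_lit 160896, nat_lit 159296, nat_lit 154496, nat_lit 150096, nat_lit 144648, nat_lit 141772, nat_lit 137010, nat_lit 133726, nat_lit 1124, nat_lit 4396, nat_lit 8208, nat_lit 14192, nat_lit 17472, nat_lit 20864, nat_lit 25344, nat_lit 30208, nat_lit 33280, nat_lit 37888, nat_lit 41937, nat_lit 38118, nat_lit 32849, nat_lit 28785, nat_lit 24616, nat_lit 20492, nat_lit 16517, nat_lit 12289, nat_lit 8193, nat_lit 4097]⟩⟩⟩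
def p177 : AP := ⟨[nat_lit 55, nat_lit 71, nat_lit 66, nat_lit 48], [], (nat_lit 120), ⟨[nat_lit 28, nat_lit 49], [nat_lit 0, nat_lit 75, nat_lit 64], ⟨[nat_lit 0x33eab0166742830492cc6b87288a97], [nat_lit 169472, nat_lit 164096, nat_lit 163072, nat_lit 156544, nat_lit 152640, nat_lit 147680, nat_lit 144856, nat_lit 140660, nat_lit 135652, nat_lit 131418, nat_lit 1268, nat_lit 5112, nat_lit 8320, nat_lit 12800, nat_lit 17280, nat_lit 20608, nat_lit 25088, nat_lit 29184, nat_lit 34304, nat_lit 41652, nat_lit 37315, nat_lit 33285, nat_lit 28680, nat_lit 24853, nat_lit 20482, nat_lit 16451, nat_lit 12416, nat_lit 4128]⟩⟩⟩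
def p178 : AP := ⟨[nat_lit 67, nat_lit 639, nat_lit 49, nat_lit 47], [], (nat_lit 120), ⟨[nat_lit 0, nat_lit 36, nat_lit 69], [nat_lit 0, nat_lit 22, nat_lit 55], ⟨[nat_lit 0x900667b2648d4f76d0295aa0575902], [nat_lit 173056, nat_lit 169472, nat_lit 167168, nat_lit 160896, nat_lit 156416, nat_lit 154272, nat_lit 151536, nat_lit 145560, nat_lit 141892, nat_lit 138468, nat_lit 132470, nat_lit 700, nat_lit 4156, nat_lit 8448, nat_lit 13120, nat_lit 16512, nat_lit 20992, nat_lit 24704, nat_lit 28928, nat_lit 33792, nat_lit 40977, nat_lit 37005, nat_lit 32824, nat_lit 28738, nat_lit 24720, nat_lit 20762, nat_lit 16448, nat_lit 12550, nat_lit 8195, nat_lit 4]⟩⟩⟩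
def p179 : AP := ⟨[nat_lit 66, nat_lit 54, nat_lit 67, nat_lit 51], [], (nat_lit 120), ⟨[nat_lit 8, nat_lit 46], [nat_lit 0, nat_lit 11, nat_lit 90], ⟨[nat_lit 0x424867b8618c2b7b4e92031a229d6a], [nat_lit 175104, nat_lit 169984, nat_lit 166656, nat_lit 162816, nat_lit 156352, nat_lit 155392, nat_lit 151264, nat_lit 145360, nat_lit 141620, nat_lit 135332, nat_lit 132412, nat_lit 166, nat_lit 5228, nat_lit 9096, nat_lit 13488, nat_lit 18336, nat_lit 21440, nat_lit 25088, nat_lit 29696, nat_lit 33280, nat_lit 41918, nat_lit 37930, nat_lit 33304, nat_lit 28787, nat_lit 24729, nat_lit 20550, nat_lit 12292, nat_lit 8193]⟩⟩⟩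
def p180 : AP := ⟨[], [], (nat_lit 339), ⟨[nat_lit 0, nat_lit 14, nat_lit 65], [nat_lit 6, nat_lit 60], ⟨[nat_lit 0x43d5711e6b6d65133284006ce2a470], [nat_lit 175104, nat_lit 169472, nat_lit 164608, nat_lit 163072, nat_lit 156032, nat_lit 152864, nat_lit 150032, nat_lit 147304, nat_lit 141668, nat_lit 137344, nat_lit 134275, nat_lit 1246, nat_lit 5580, nat_lit 10168, nat_lit 12416, nat_lit 17088, nat_lit 20864, nat_lit 24704, nat_lit 33280, nat_lit 37888, nat_lit 41975, nat_lit 38375, nat_lit 33894, nat_lit 29051, nat_lit 24623, nat_lit 20561, nat_lit 16419, nat_lit 12308, nat_lit 8210, nat_lit 4100]⟩⟩⟩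
def l181 : List AP := [⟨[], [], (nat_lit 1034), ⟨[nat_lit 76, nat_lit 90], [nat_lit 0, nat_lit 79, nat_lit 65], ⟨[nat_lit 0xb2990091093386f11e719556dbd0a0], [nat_lit 168448, nat_lit 156800, nat_lit 152544, nat_lit 150928, nat_lit 143528, nat_lit 141104, nat_lit 137194, nat_lit 131260, nat_lit 16, nat_lit 5444, nat_lit 9280, nat_lit 13712, nat_lit 16416, nat_lit 20544, nat_lit 24704, nat_lit 29952, nat_lit 34304, nat_lit 37888, nat_lit 41639, nat_lit 37975, nat_lit 33008, nat_lit 29006, nat_lit 24626, nat_lit 20496, nat_lit 16397, nat_lit 12304, nat_lit 8201, nat_lit 4160]⟩⟩⟩]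
theorem s181 : Suf yT 131072 (ldrop wS 161) (apW dcM p180) (tgtN dcM p180.e) := Suf.fin' (l := l181) (by decide +kernel)
def l180 : List AP := [⟨[nat_lit 643, nat_lit 56, nat_lit 50, nat_lit 46], [], (nat_lit 1046), ⟨[nat_lit 17, nat_lit 50], [nat_lit 0, nat_lit 83, nat_lit 62], ⟨[nat_lit 0x5c4ae15460549a43a193b86d433e09], [nat_lit 175104, nat_lit 171520, nat_lit 164352, nat_lit 161792, nat_lit 158528, nat_lit 155456, nat_lit 148944, nat_lit 144920, nat_lit 140080, nat_lit 138358, nat_lit 133249, nat_lit 804, nat_lit 5508, nat_lit 8408, nat_lit 13152, nat_lit 16544, nat_lit 21504, nat_lit 25600, nat_lit 28928, nat_lit 37888, nat_lit 41949, nat_lit 37163, nat_lit 32980, nat_lit 29010, nat_lit 24638, nat_lit 20561, nat_lit 16461, nat_lit 12324, nat_lit 8224, nat_lit 4097]⟩⟩⟩,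
  ⟨[nat_lit 173], [], (nat_lit 392), ⟨[nat_lit 37, nat_lit 68], [nat_lit 0, nat_lit 15, nat_lit 51], ⟨[nat_lit 0xaaa4082437439671b44461671a3cd6], [nat_lit 174080, nat_lit 168448, nat_lit 166912, nat_lit 162560, nat_lit 157696, nat_lit 152192, nat_lit 148784, nat_lit 144608, nat_lit 141832, nat_lit 138242, nat_lit 131126, nat_lit 1918, nat_lit 4548, nat_lit 9632, nat_lit 13968, nat_lit 17376, nat_lit 21504, nat_lit 25728, nat_lit 30208, nat_lit 34304, nat_lit 37888, nat_lit 41602, nat_lit 37092, nat_lit 32882, nat_lit 29239, nat_lit 24718, nat_lit 20489, nat_lit 16463, nat_lit 12323, nat_lit 8259]⟩⟩⟩]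
theorem s180 : Suf yT 131072 (ldrop wS 146) (apW dcM p179) (tgtN dcM p179.e) := Suf.seg (l := l180) (by decide +kernel) s181
def l179 : List AP := [⟨[nat_lit 57, nat_lit 642, nat_lit 56], [], (nat_lit 120), ⟨[nat_lit 5, nat_lit 57], [nat_lit 38, nat_lit 66], ⟨[nat_lit 0xac5a87aa5764ec97428b3948008866], [nat_lit 175104, nat_lit 169984, nat_lit 166400, nat_lit 161664, nat_lit 153376, nat_lit 150432, nat_lit 143616, nat_lit 140288, nat_lit 137680, nat_lit 133515, nat_lit 786, nat_lit 4104, nat_lit 9216, nat_lit 13312, nat_lit 17152, nat_lit 22080, nat_lit 24960, nat_lit 29440, nat_lit 33792, nat_lit 37888, nat_lit 41857, nat_lit 38272, nat_lit 32851, nat_lit 29712, nat_lit 24893, nat_lit 20559, nat_lit 16394, nat_lit 12291, nat_lit 8193, nat_lit 4104]⟩⟩⟩,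
  ⟨[nat_lit 641, nat_lit 46, nat_lit 54], [], (nat_lit 121), ⟨[nat_lit 0, nat_lit 34, nat_lit 62], [nat_lit 0, nat_lit 12, nat_lit 65], ⟨[nat_lit 0x3818b724664102f5144dbc272b5235], [nat_lit 174080, nat_lit 169472, nat_lit 166400, nat_lit 162048, nat_lit 158784, nat_lit 152960, nat_lit 147888, nat_lit 144400, nat_lit 143096, nat_lit 138088, nat_lit 131124, nat_lit 804, nat_lit 6084, nat_lit 8632, nat_lit 13024, nat_lit 18176, nat_lit 22400, nat_lit 24832, nat_lit 30464, nat_lit 37888, nat_lit 41794, nat_lit 36970, nat_lit 34025, nat_lit 28990, nat_lit 25128, nat_lit 20484, nat_lit 16519, nat_lit 12548, nat_lit 8201]⟩⟩⟩]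
theorem s179 : Suf yT 131072 (ldrop wS 140) (apW dcM p178) (tgtN dcM p178.e) := Suf.seg (l := l179) (by decide +kernel) s180
def l178 : List AP := [⟨[nat_lit 641, nat_lit 46, nat_lit 54], [], (nat_lit 121), ⟨[nat_lit 27, nat_lit 46], [nat_lit 0, nat_lit 84, nat_lit 93], ⟨[nat_lit 0xab8ed940975a6c57cc2862a2305046], [nat_lit 168448, nat_lit 159104, nat_lit 153152, nat_lit 147760, nat_lit 144472, nat_lit 140540, nat_lit 135234, nat_lit 132143, nat_lit 1024, nat_lit 4884, nat_lit 9672, nat_lit 13312, nat_lit 17824, nat_lit 20544, nat_lit 25600, nat_lit 29440, nat_lit 33792, nat_lit 37888, nat_lit 41615, nat_lit 37040, nat_lit 32832, nat_lit 29296, nat_lit 24605, nat_lit 20485, nat_lit 16453, nat_lit 12305, nat_lit 8225, nat_lit 5121, nat_lit 8]⟩⟩⟩,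
  ⟨[nat_lit 56, nat_lit 55, nat_lit 639, nat_lit 49], [], (nat_lit 120), ⟨[nat_lit 29, nat_lit 93], [nat_lit 0, nat_lit 82, nat_lit 53], ⟨[nat_lit 0x940b78a00e63cd519c34989aa5a6c4], [nat_lit 173056, nat_lit 168448, nat_lit 167680, nat_lit 161280, nat_lit 156544, nat_lit 151712, nat_lit 149344, nat_lit 143976, nat_lit 139432, nat_lit 136590, nat_lit 131185, nat_lit 680, nat_lit 5588, nat_lit 9752, nat_lit 12720, nat_lit 18272, nat_lit 22400, nat_lit 24960, nat_lit 29440, nat_lit 33792, nat_lit 37888, nat_lit 41260, nat_lit 37241, nat_lit 32928, nat_lit 28781, nat_lit 24636, nat_lit 20569, nat_lit 16391, nat_lit 12354, nat_lit 8200, nat_lit 4101, nat_lit 2]⟩⟩⟩]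
theorem s178 : Suf yT 131072 (ldrop wS 125) (apW dcM p177) (tgtN dcM p177.e) := Suf.seg (l := l178) (by decide +kernel) s179
def l177 : List AP := [⟨[nat_lit 217], [], (nat_lit 390), ⟨[nat_lit 0, nat_lit 22, nat_lit 46], [nat_lit 0, nat_lit 75, nat_lit 63], ⟨[nat_lit 0xb2873805778b4d213ca072127ad08c], [nat_lit 173056, nat_lit 164864, nat_lit 161536, nat_lit 155840, nat_lit 152576, nat_lit 147904, nat_lit 144888, nat_lit 141176, nat_lit 138886, nat_lit 131552, nat_lit 2012, nat_lit 4112, nat_lit 8456, nat_lit 13184, nat_lit 18112, nat_lit 21888, nat_lit 25344, nat_lit 28928, nat_lit 33280, nat_lit 41938, nat_lit 37962, nat_lit 33375, nat_lit 28939, nat_lit 24635, nat_lit 20554, nat_lit 16416, nat_lit 12358, nat_lit 8203, nat_lit 8]⟩⟩⟩,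
  ⟨[nat_lit 24, nat_lit 634, nat_lit 638, nat_lit 23], [], (nat_lit 116), ⟨[nat_lit 24, nat_lit 47], [nat_lit 6, nat_lit 55], ⟨[nat_lit 0x49996bb90579175a28ed10e6188250], [nat_lit 174080, nat_lit 170496, nat_lit 166656, nat_lit 163072, nat_lit 156288, nat_lit 153792, nat_lit 151392, nat_lit 144624, nat_lit 141964, nat_lit 136244, nat_lit 132489, nat_lit 64, nat_lit 10224, nat_lit 12528, nat_lit 16608, nat_lit 21632, nat_lit 24704, nat_lit 29952, nat_lit 34304, nat_lit 37888, nat_lit 41948, nat_lit 38168, nat_lit 33001, nat_lit 28747, nat_lit 24580, nat_lit 20740, nat_lit 17418, nat_lit 12321, nat_lit 8193, nat_lit 4112, nat_lit 4]⟩⟩⟩]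
theorem s177 : Suf yT 131072 (ldrop wS 110) (apW dcM p176) (tgtN dcM p176.e) := Suf.seg (l := l177) (by decide +kernel) s178
def l176 : List AP := [⟨[nat_lit 170, nat_lit 213], [], (nat_lit 418), ⟨[nat_lit 86, nat_lit 52], [nat_lit 0, nat_lit 72, nat_lit 92], ⟨[nat_lit 0xa1f2b31a6b921349e8a13971016a3], [nat_lit 173056, nat_lit 168448, nat_lit 167168, nat_lit 160768, nat_lit 156736, nat_lit 153856, nat_lit 151488, nat_lit 147360, nat_lit 141848, nat_lit 138304, nat_lit 132745, nat_lit 1770, nat_lit 4404, nat_lit 10072, nat_lit 12416, nat_lit 18336, nat_lit 20544, nat_lit 25216, nat_lit 29184, nat_lit 34304, nat_lit 37888, nat_lit 41638, nat_lit 37145, nat_lit 33482, nat_lit 28700, nat_lit 24857, nat_lit 21516, nat_lit 16518, nat_lit 12293, nat_lit 8203, nat_lit 4097, nat_lit 2]⟩⟩⟩,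
  ⟨[nat_lit 217, nat_lit 663], [], (nat_lit 396), ⟨[nat_lit 1, nat_lit 89], [nat_lit 0, nat_lit 27, nat_lit 61], ⟨[nat_lit 0x74d1695d6d5246784426a968078984], [nat_lit 175104, nat_lit 168960, nat_lit 165120, nat_lit 160768, nat_lit 159296, nat_lit 154496, nat_lit 150096, nat_lit 144648, nat_lit 141772, nat_lit 137010, nat_lit 133727, nat_lit 1124, nat_lit 4396, nat_lit 8208, nat_lit 14192, nat_lit 17472, nat_lit 20864, nat_lit 25344, nat_lit 30208, nat_lit 33280, nat_lit 37888, nat_lit 41937, nat_lit 38118, nat_lit 32849, nat_lit 28785, nat_lit 24616, nat_lit 20492, nat_lit 16517, nat_lit 12289, nat_lit 8193, nat_lit 4097]⟩⟩⟩]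
theorem s176 : Suf yT 131072 (ldrop wS 95) (apW dcM p175) (tgtN dcM p175.e) := Suf.seg (l := l176) (by decide +kernel) s177
def l175 : List AP := [⟨[nat_lit 68, nat_lit 56, nat_lit 57, nat_lit 53], [], (nat_lit 1046), ⟨[nat_lit 0, nat_lit 37, nat_lit 53], [nat_lit 37, nat_lit 89], ⟨[nat_lit 0x69c66bd82e8ae8513250021ea9d524], [nat_lit 173056, nat_lit 170496, nat_lit 165120, nat_lit 162432, nat_lit 156352, nat_lit 153664, nat_lit 150352, nat_lit 147416, nat_lit 140148, nat_lit 135652, nat_lit 134233, nat_lit 680, nat_lit 5588, nat_lit 8584, nat_lit 13056, nat_lit 16864, nat_lit 21952, nat_lit 24704, nat_lit 29952, nat_lit 41265, nat_lit 37071, nat_lit 33009, nat_lit 28697, nat_lit 24621, nat_lit 20497, nat_lit 16390, nat_lit 12359, nat_lit 8194, nat_lit 4097]⟩⟩⟩,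
  ⟨[nat_lit 661, nat_lit 171], [], (nat_lit 418), ⟨[nat_lit 88, nat_lit 56], [nat_lit 0, nat_lit 40, nat_lit 94], ⟨[nat_lit 0x9b176a25d015ea50214679c6d20632], [nat_lit 175104, nat_lit 168960, nat_lit 167680, nat_lit 162176, nat_lit 158720, nat_lit 153440, nat_lit 148272, nat_lit 144808, nat_lit 141768, nat_lit 139242, nat_lit 131107, nat_lit 492, nat_lit 6084, nat_lit 9664, nat_lit 12304, nat_lit 18048, nat_lit 21696, nat_lit 25088, nat_lit 29696, nat_lit 41781, nat_lit 36918, nat_lit 33847, nat_lit 28698, nat_lit 24578, nat_lit 20993, nat_lit 16420, nat_lit 12416, nat_lit 16]⟩⟩⟩]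
theorem s175 : Suf yT 131072 (ldrop wS 89) (apW dcM p174) (tgtN dcM p174.e) := Suf.seg (l := l175) (by decide +kernel) s176
def l174 : List AP := [⟨[nat_lit 50], [], (nat_lit 1046), ⟨[nat_lit 19, nat_lit 46], [nat_lit 0, nat_lit 85, nat_lit 61], ⟨[nat_lit 0x229e8088ada5d869d52090ecb81e2e], [nat_lit 168448, nat_lit 165120, nat_lit 159872, nat_lit 156544, nat_lit 152832, nat_lit 147536, nat_lit 143952, nat_lit 143168, nat_lit 135270, nat_lit 131343, nat_lit 810, nat_lit 4568, nat_lit 10224, nat_lit 13472, nat_lit 17888, nat_lit 21952, nat_lit 25088, nat_lit 28928, nat_lit 33792, nat_lit 37888, nat_lit 41340, nat_lit 37268, nat_lit 32775, nat_lit 29227, nat_lit 24603, nat_lit 20619, nat_lit 16390, nat_lit 12359, nat_lit 8201, nat_lit 4112, nat_lit 4]⟩⟩⟩,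
  ⟨[nat_lit 217, nat_lit 212, nat_lit 170], [], (nat_lit 418), ⟨[nat_lit 0, nat_lit 9, nat_lit 63], [nat_lit 0, nat_lit 18, nat_lit 49], ⟨[nat_lit 0x2d913ad1c01b2500ade9309a725d51], [nat_lit 173056, nat_lit 168448, nat_lit 164608, nat_lit 161152, nat_lit 156992, nat_lit 153984, nat_lit 148192, nat_lit 143728, nat_lit 140972, nat_lit 137132, nat_lit 132100, nat_lit 1298, nat_lit 4964, nat_lit 9096, nat_lit 13792, nat_lit 18112, nat_lit 20992, nat_lit 25728, nat_lit 29696, nat_lit 34304, nat_lit 41676, nat_lit 37180, nat_lit 33470, nat_lit 28699, nat_lit 24639, nat_lit 20501, nat_lit 16416, nat_lit 12359, nat_lit 8210, nat_lit 4100, nat_lit 2]⟩⟩⟩]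
theorem s174 : Suf yT 131072 (ldrop wS 74) (apW dcM p173) (tgtN dcM p173.e) := Suf.seg (l := l174) (by decide +kernel) s175
def l173 : List AP := [⟨[nat_lit 171, nat_lit 212], [], (nat_lit 419), ⟨[nat_lit 0, nat_lit 3, nat_lit 56], [nat_lit 0, nat_lit 34, nat_lit 48], ⟨[nat_lit 0x7d9700b48e11a5345e2cad0a352407], [nat_lit 173056, nat_lit 166144, nat_lit 162560, nat_lit 159296, nat_lit 154496, nat_lit 147568, nat_lit 146808, nat_lit 142932, nat_lit 137084, nat_lit 134060, nat_lit 344, nat_lit 5276, nat_lit 8680, nat_lit 13168, nat_lit 16704, nat_lit 21056, nat_lit 26496, nat_lit 34304, nat_lit 37888, nat_lit 41485, nat_lit 37181, nat_lit 32911, nat_lit 29026, nat_lit 24748, nat_lit 20493, nat_lit 16389, nat_lit 12327, nat_lit 8195, nat_lit 4101, nat_lit 4]⟩⟩⟩,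
  ⟨[nat_lit 180, nat_lit 218], [], (nat_lit 418), ⟨[nat_lit 19, nat_lit 67], [nat_lit 25, nat_lit 61], ⟨[nat_lit 0x7a2f3a3931092500158db0ea659d42], [nat_lit 175104, nat_lit 171520, nat_lit 165888, nat_lit 163712, nat_lit 156480, nat_lit 155104, nat_lit 151520, nat_lit 143936, nat_lit 141636, nat_lit 136536, nat_lit 132881, nat_lit 1814, nat_lit 5084, nat_lit 9272, nat_lit 12336, nat_lit 18336, nat_lit 20800, nat_lit 29952, nat_lit 34304, nat_lit 41604, nat_lit 38386, nat_lit 33285, nat_lit 29765, nat_lit 24733, nat_lit 20501, nat_lit 16396, nat_lit 12310, nat_lit 8193, nat_lit 4105, nat_lit 2]⟩⟩⟩]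
theorem s173 : Suf yT 131072 (ldrop wS 59) (apW dcM p172) (tgtN dcM p172.e) := Suf.seg (l := l173) (by decide +kernel) s174
def l172 : List AP := [⟨[nat_lit 72, nat_lit 46, nat_lit 73, nat_lit 47], [], (nat_lit 120), ⟨[nat_lit 81, nat_lit 62], [nat_lit 25, nat_lit 55], ⟨[nat_lit 0x1ac479500fb2aa68dd814348e2a670], [nat_lit 169472, nat_lit 165632, nat_lit 160256, nat_lit 157248, nat_lit 153856, nat_lit 149312, nat_lit 144464, nat_lit 139780, nat_lit 136960, nat_lit 131867, nat_lit 526, nat_lit 5508, nat_lit 10224, nat_lit 14304, nat_lit 18112, nat_lit 20544, nat_lit 24704, nat_lit 30208, nat_lit 33792, nat_lit 37888, nat_lit 41783, nat_lit 37067, nat_lit 33953, nat_lit 28720, nat_lit 24616, nat_lit 20497, nat_lit 16421, nat_lit 12352, nat_lit 8210, nat_lit 4101, nat_lit 2]⟩⟩⟩,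
  ⟨[nat_lit 71, nat_lit 641, nat_lit 52, nat_lit 46], [], (nat_lit 1046), ⟨[nat_lit 82, nat_lit 54], [nat_lit 0, nat_lit 74], ⟨[nat_lit 0x24cc801eeeb4a890959550a038aded], [nat_lit 174080, nat_lit 164864, nat_lit 162560, nat_lit 157440, nat_lit 152992, nat_lit 151296, nat_lit 146224, nat_lit 142696, nat_lit 139236, nat_lit 134765, nat_lit 1668, nat_lit 5488, nat_lit 8472, nat_lit 13664, nat_lit 18304, nat_lit 20544, nat_lit 24960, nat_lit 29440, nat_lit 33280, nat_lit 37888, nat_lit 41655, nat_lit 38285, nat_lit 32804, nat_lit 28747, nat_lit 24583, nat_lit 20751, nat_lit 16905, nat_lit 12291, nat_lit 8258, nat_lit 4097, nat_lit 2]⟩⟩⟩]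
theorem s172 : Suf yT 131072 (ldrop wS 44) (apW dcM p171) (tgtN dcM p171.e) := Suf.seg (l := l172) (by decide +kernel) s173
def l171 : List AP := [⟨[nat_lit 170], [], (nat_lit 418), ⟨[nat_lit 2, nat_lit 89], [nat_lit 29, nat_lit 47], ⟨[nat_lit 0x989ed21c1072e8532aac8dae142472], [nat_lit 175104, nat_lit 168960, nat_lit 165376, nat_lit 163712, nat_lit 155904, nat_lit 151648, nat_lit 151472, nat_lit 146176, nat_lit 142784, nat_lit 138022, nat_lit 133888, nat_lit 1182, nat_lit 5580, nat_lit 9664, nat_lit 12544, nat_lit 17760, nat_lit 20928, nat_lit 37888, nat_lit 41770, nat_lit 38104, nat_lit 32915, nat_lit 28981, nat_lit 24577, nat_lit 20632, nat_lit 16417, nat_lit 12310, nat_lit 8208, nat_lit 4100]⟩⟩⟩,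
  ⟨[nat_lit 179, nat_lit 216], [], (nat_lit 396), ⟨[nat_lit 0, nat_lit 5, nat_lit 70], [nat_lit 0, nat_lit 72, nat_lit 50], ⟨[nat_lit 0x20505958ee84563654d34de807894d], [nat_lit 173056, nat_lit 171520, nat_lit 165632, nat_lit 162304, nat_lit 155712, nat_lit 155392, nat_lit 151184, nat_lit 146536, nat_lit 139888, nat_lit 135550, nat_lit 134320, nat_lit 488, nat_lit 5544, nat_lit 9040, nat_lit 13360, nat_lit 17728, nat_lit 21568, nat_lit 25728, nat_lit 30208, nat_lit 33280, nat_lit 37888, nat_lit 41836, nat_lit 37038, nat_lit 32830, nat_lit 28785, nat_lit 24708, nat_lit 20548, nat_lit 16425, nat_lit 12289, nat_lit 8193, nat_lit 4]⟩⟩⟩]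
theorem s171 : Suf yT 131072 (ldrop wS 38) (apW dcM p170) (tgtN dcM p170.e) := Suf.seg (l := l171) (by decide +kernel) s172
def l170 : List AP := [⟨[nat_lit 661, nat_lit 171], [], (nat_lit 418), ⟨[nat_lit 0, nat_lit 84, nat_lit 61], [nat_lit 0, nat_lit 30, nat_lit 89], ⟨[nat_lit 0x95089b20d3134e51bef562c0a74430], [nat_lit 173056, nat_lit 168960, nat_lit 166912, nat_lit 160000, nat_lit 155904, nat_lit 152896, nat_lit 147872, nat_lit 144584, nat_lit 139656, nat_lit 137182, nat_lit 131255, nat_lit 1874, nat_lit 4352, nat_lit 9648, nat_lit 12960, nat_lit 16672, nat_lit 22272, nat_lit 25088, nat_lit 29184, nat_lit 33280, nat_lit 37888, nat_lit 41562, nat_lit 37120, nat_lit 32913, nat_lit 29026, nat_lit 24766, nat_lit 20613, nat_lit 16423, nat_lit 12353, nat_lit 8200, nat_lit 16]⟩⟩⟩,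
  ⟨[nat_lit 175, nat_lit 177], [], (nat_lit 396), ⟨[nat_lit 41, nat_lit 69], [nat_lit 0, nat_lit 79, nat_lit 46], ⟨[nat_lit 0xab26d508cf02c8e459311cae12c0f4], [nat_lit 173056, nat_lit 168960, nat_lit 161280, nat_lit 157312, nat_lit 152384, nat_lit 149136, nat_lit 144456, nat_lit 141540, nat_lit 136198, nat_lit 132955, nat_lit 1214, nat_lit 4128, nat_lit 8256, nat_lit 14304, nat_lit 17728, nat_lit 20544, nat_lit 24704, nat_lit 30464, nat_lit 33792, nat_lit 37888, nat_lit 41924, nat_lit 37316, nat_lit 32964, nat_lit 28751, nat_lit 24588, nat_lit 20503, nat_lit 16417, nat_lit 12352, nat_lit 4113, nat_lit 2]⟩⟩⟩]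
theorem s170 : Suf yT 131072 (ldrop wS 23) (apW dcM p169) (tgtN dcM p169.e) := Suf.seg (l := l170) (by decide +kernel) s171
def l169 : List AP := [⟨[nat_lit 661, nat_lit 660, nat_lit 173], [], (nat_lit 418), ⟨[nat_lit 37, nat_lit 57], [nat_lit 35, nat_lit 58], ⟨[nat_lit 0x15331a226a3e50089b5ba9cb3d88c], [nat_lit 168448, nat_lit 167168, nat_lit 160128, nat_lit 157376, nat_lit 153568, nat_lit 147920, nat_lit 144272, nat_lit 141220, nat_lit 135314, nat_lit 132193, nat_lit 902, nat_lit 4396, nat_lit 8928, nat_lit 13840, nat_lit 16640, nat_lit 20864, nat_lit 29440, nat_lit 33792, nat_lit 37888, nat_lit 41205, nat_lit 37120, nat_lit 32901, nat_lit 29009, nat_lit 24724, nat_lit 21516, nat_lit 16390, nat_lit 12289, nat_lit 8209, nat_lit 4101, nat_lit 4]⟩⟩⟩,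
  ⟨[nat_lit 176, nat_lit 213, nat_lit 171], [], (nat_lit 396), ⟨[nat_lit 26, nat_lit 90], [nat_lit 0, nat_lit 30, nat_lit 54], ⟨[nat_lit 0x32eee785934d08d29c521a15105ab0], [nat_lit 173056, nat_lit 168448, nat_lit 164608, nat_lit 155904, nat_lit 151712, nat_lit 148512, nat_lit 144080, nat_lit 141288, nat_lit 138552, nat_lit 132518, nat_lit 1698, nat_lit 4160, nat_lit 9192, nat_lit 12976, nat_lit 17312, nat_lit 22144, nat_lit 26368, nat_lit 29952, nat_lit 34304, nat_lit 41538, nat_lit 37364, nat_lit 32834, nat_lit 29223, nat_lit 24583, nat_lit 20494, nat_lit 16513, nat_lit 12327, nat_lit 8227, nat_lit 4097, nat_lit 2]⟩⟩⟩]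
theorem s169 : Suf yT 131072 (ldrop wS 8) (apW dcM p168) (tgtN dcM p168.e) := Suf.seg (l := l169) (by decide +kernel) s170
def l168 : List AP := [⟨[nat_lit 4, nat_lit 628, nat_lit 628, nat_lit 6, nat_lit 7, nat_lit 0], [], (nat_lit 40), ⟨[nat_lit 18, nat_lit 65], [nat_lit 0, nat_lit 78, nat_lit 90], ⟨[nat_lit 0xd0b1854064365310d2f3b08a75977], [nat_lit 174080, nat_lit 171520, nat_lit 165376, nat_lit 161920, nat_lit 157760, nat_lit 154336, nat_lit 148672, nat_lit 144688, nat_lit 140320, nat_lit 137742, nat_lit 135010, nat_lit 1966, nat_lit 4756, nat_lit 9928, nat_lit 14064, nat_lit 16864, nat_lit 21440, nat_lit 26496, nat_lit 29952, nat_lit 33280, nat_lit 37888, nat_lit 41343, nat_lit 37070, nat_lit 33858, nat_lit 28725, nat_lit 25099, nat_lit 20624, nat_lit 12289, nat_lit 8194, nat_lit 4097, nat_lit 2]⟩⟩⟩,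
  ⟨[nat_lit 26, nat_lit 28, nat_lit 27, nat_lit 28, nat_lit 635, nat_lit 21], [], (nat_lit 338), ⟨[nat_lit 0, nat_lit 8, nat_lit 55], [nat_lit 0, nat_lit 24, nat_lit 59], ⟨[nat_lit 0x804c9914481aa277de966d5cc2026b], [nat_lit 168960, nat_lit 164608, nat_lit 162944, nat_lit 157184, nat_lit 152544, nat_lit 147648, nat_lit 143416, nat_lit 139556, nat_lit 136336, nat_lit 132350, nat_lit 404, nat_lit 4952, nat_lit 8464, nat_lit 14224, nat_lit 17376, nat_lit 21312, nat_lit 25728, nat_lit 28928, nat_lit 33280, nat_lit 41199, nat_lit 37172, nat_lit 33005, nat_lit 28772, nat_lit 24740, nat_lit 20510, nat_lit 16390, nat_lit 12326, nat_lit 8193, nat_lit 4097, nat_lit 2]⟩⟩⟩]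
theorem rS5 : Suf yT 131072 wS [yT.get 39] 0 := Suf.seg (l := l168) (by decide +kernel) s169


end

end CF.Mon.Tr
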