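import Cfsg.Agent.Mon.YW

set_option autoImplicit false
set_option maxRecDepth 100000

namespace CF.Mon.Tr

open CF.Comp

noncomputable section

def p182 : AP := ⟨[], [], (nat_lit 393), ⟨[nat_lit 0, nat_lit 36, nat_lit 49], [nat_lit 90], ⟨[nat_lit 0xb90e15207591989a384f5966d04236], [nat_lit 169472, nat_lit 166656, nat_lit 160640, nat_lit 156928, nat_lit 147472, nat_lit 143904, nat_lit 141288, nat_lit 136718, nat_lit 131427, nat_lit 952, nat_lit 4608, nat_lit 8720, nat_lit 12976, nat_lit 17792, nat_lit 22464, nat_lit 25088, nat_lit 29696, nat_lit 33280, nat_lit 41856, nat_lit 38008, nat_lit 32856, nat_lit 29279, nat_lit 24883, nat_lit 20553, nat_lit 16653, nat_lit 12289, nat_lit 8209, nat_lit 4128]⟩⟩⟩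
def p183 : AP := ⟨[nat_lit 219, nat_lit 173, nat_lit 171], [], (nat_lit 418), ⟨[nat_lit 0, nat_lit 78, nat_lit 65], [nat_lit 0, nat_lit 39, nat_lit 67], ⟨[nat_lit 0x914d563ef00112e8aec869c2aa0c53], [nat_lit 175104, nat_lit 171520, nat_lit 167424, nat_lit 160768, nat_lit 159232, nat_lit 154048, nat_lit 148608, nat_lit 147288, nat_lit 139472, nat_lit 135476, nat_lit 133093, nat_lit 1318, nat_lit 4100, nat_lit 8760, nat_lit 14144, nat_lit 16864, nat_lit 22336, nat_lit 25728, nat_lit 29952, nat_lit 34304, nat_lit 41969, nat_lit 38390, nat_lit 33000, nat_lit 28958, nat_lit 24734, nat_lit 20501, nat_lit 16416, nat_lit 8209, nat_lit 4224]⟩⟩⟩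
def p184 : AP := ⟨[nat_lit 47, nat_lit 66, nat_lit 68, nat_lit 55], [], (nat_lit 120), ⟨[nat_lit 10, nat_lit 63], [nat_lit 0, nat_lit 31, nat_lit 65], ⟨[nat_lit 0x83e879588c402f56b923518458866b], [nat_lit 169984, nat_lit 165632, nat_lit 162432, nat_lit 155840, nat_lit 155392, nat_lit 149712, nat_lit 146304, nat_lit 140616, nat_lit 136904, nat_lit 134098, nat_lit 354, nat_lit 4340, nat_lit 8944, nat_lit 13264, nat_lit 17472, nat_lit 22016, nat_lit 25600, nat_lit 29184, nat_lit 34304, nat_lit 41487, nat_lit 36959, nat_lit 32919, nat_lit 28731, nat_lit 24597, nat_lit 20617, nat_lit 16429, nat_lit 12295, nat_lit 8202]⟩⟩⟩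
def p185 : AP := ⟨[nat_lit 660], [], (nat_lit 396), ⟨[nat_lit 0, nat_lit 31, nat_lit 94], [nat_lit 0, nat_lit 6, nat_lit 59], ⟨[nat_lit 0x3a40d9a28b5048e8d86264aaf342e5], [nat_lit 168960, nat_lit 166144, nat_lit 160896, nat_lit 155904, nat_lit 152032, nat_lit 149024, nat_lit 143600, nat_lit 140528, nat_lit 136304, nat_lit 132131, nat_lit 1268, nat_lit 4952, nat_lit 8456, nat_lit 13152, nat_lit 16992, nat_lit 22080, nat_lit 24704, nat_lit 28928, nat_lit 33792, nat_lit 37888, nat_lit 41216, nat_lit 37088, nat_lit 32812, nat_lit 28743, nat_lit 24709, nat_lit 20757, nat_lit 16417, nat_lit 12304, nat_lit 8323, nat_lit 4161, nat_lit 2]⟩⟩⟩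
def p186 : AP := ⟨[nat_lit 641, nat_lit 46, nat_lit 54], [], (nat_lit 121), ⟨[nat_lit 40, nat_lit 67], [nat_lit 0, nat_lit 30, nat_lit 47], ⟨[nat_lit 0xbb4346144603a131bd0b55a444d627], [nat_lit 168448, nat_lit 165632, nat_lit 162304, nat_lit 157376, nat_lit 149360, nat_lit 144288, nat_lit 140932, nat_lit 136242, nat_lit 132736, nat_lit 1054, nat_lit 6084, nat_lit 8824, nat_lit 12400, nat_lit 16512, nat_lit 20608, nat_lit 25216, nat_lit 34304, nat_lit 41443, nat_lit 37004, nat_lit 33797, nat_lit 24870, nat_lit 12806, nat_lit 8193, nat_lit 4104]⟩⟩⟩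
def p187 : AP := ⟨[nat_lit 662, nat_lit 661], [], (nat_lit 419), ⟨[nat_lit 0, nat_lit 24, nat_lit 93], [nat_lit 0, nat_lit 7, nat_lit 51], ⟨[nat_lit 0x92cb788df36d6800b10a138e6226d0], [nat_lit 169472, nat_lit 165376, nat_lit 161152, nat_lit 157632, nat_lit 151936, nat_lit 147968, nat_lit 145768, nat_lit 140948, nat_lit 135626, nat_lit 131358, nat_lit 760, nat_lit 5508, nat_lit 9928, nat_lit 12304, nat_lit 17408, nat_lit 20800, nat_lit 25600, nat_lit 30208, nat_lit 37888, nat_lit 41012, nat_lit 36896, nat_lit 33023, nat_lit 28731, nat_lit 24619, nat_lit 20566, nat_lit 16392, nat_lit 8227, nat_lit 4101, nat_lit 2]⟩⟩⟩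
def p188 : AP := ⟨[nat_lit 66, nat_lit 68, nat_lit 46, nat_lit 55, nat_lit 46], [], (nat_lit 1046), ⟨[nat_lit 0, nat_lit 8, nat_lit 48], [nat_lit 0, nat_lit 30, nat_lit 55], ⟨[nat_lit 0x3b0adb4a3733c8ea4eb002c4a08d09], [nat_lit 168960, nat_lit 161152, nat_lit 156672, nat_lit 153088, nat_lit 148704, nat_lit 145200, nat_lit 140448, nat_lit 135480, nat_lit 133087, nat_lit 724, nat_lit 4352, nat_lit 9416, nat_lit 12544, nat_lit 17184, nat_lit 22400, nat_lit 25728, nat_lit 29952, nat_lit 41722, nat_lit 32960, nat_lit 28940, nat_lit 24749, nat_lit 20568, nat_lit 16422, nat_lit 12309, nat_lit 8211, nat_lit 4104, nat_lit 16]⟩⟩⟩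
def p189 : AP := ⟨[nat_lit 175, nat_lit 175, nat_lit 172], [], (nat_lit 396), ⟨[nat_lit 86, nat_lit 67], [nat_lit 45], ⟨[nat_lit 0x34e44aad57105aeb2134814f11b1e0], [nat_lit 173056, nat_lit 171520, nat_lit 166400, nat_lit 163328, nat_lit 159104, nat_lit 152928, nat_lit 150656, nat_lit 146264, nat_lit 140776, nat_lit 138592, nat_lit 132166, nat_lit 986, nat_lit 5296, nat_lit 8928, nat_lit 12800, nat_lit 16896, nat_lit 22336, nat_lit 25600, nat_lit 29696, nat_lit 41642, nat_lit 37961, nat_lit 32842, nat_lit 28751, nat_lit 24730, nat_lit 20506, nat_lit 16416, nat_lit 12304]⟩⟩⟩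
def p190 : AP := ⟨[nat_lit 179, nat_lit 216], [], (nat_lit 396), ⟨[nat_lit 0, nat_lit 26, nat_lit 52], [nat_lit 81, nat_lit 68], ⟨[nat_lit 0x2182a62c6d48a959d9e704911b960e], [nat_lit 173056, nat_lit 170496, nat_lit 166912, nat_lit 162048, nat_lit 158208, nat_lit 152416, nat_lit 150064, nat_lit 145904, nat_lit 140320, nat_lit 138846, nat_lit 131267, nat_lit 960, nat_lit 5016, nat_lit 10032, nat_lit 14272, nat_lit 16576, nat_lit 21376, nat_lit 25088, nat_lit 28928, nat_lit 33280, nat_lit 37888, nat_lit 41538, nat_lit 37002, nat_lit 33013, nat_lit 28983, nat_lit 24607, nat_lit 20764, nat_lit 16461, nat_lit 12326, nat_lit 8201, nat_lit 8]⟩⟩⟩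
def p191 : AP := ⟨[nat_lit 71, nat_lit 48, nat_lit 56, nat_lit 640], [], (nat_lit 1046), ⟨[nat_lit 82, nat_lit 58], [nat_lit 0, nat_lit 1, nat_lit 90], ⟨[nat_lit 0x68aea898e4996500512f1d9880d56e], [nat_lit 174080, nat_lit 168448, nat_lit 164096, nat_lit 156864, nat_lit 152064, nat_lit 147472, nat_lit 144728, nat_lit 140344, nat_lit 136062, nat_lit 131399, nat_lit 342, nat_lit 6104, nat_lit 9136, nat_lit 13264, nat_lit 17632, nat_lit 21952, nat_lit 25856, nat_lit 30208, nat_lit 41351, nat_lit 37177, nat_lit 32856, nat_lit 29809, nat_lit 24710, nat_lit 20549, nat_lit 16421, nat_lit 12290, nat_lit 8193, nat_lit 4]⟩⟩⟩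
def p192 : AP := ⟨[nat_lit 46, nat_lit 51, nat_lit 56], [], (nat_lit 120), ⟨[nat_lit 0, nat_lit 42, nat_lit 56], [nat_lit 0, nat_lit 74, nat_lit 91], ⟨[nat_lit 0x831c650ecf8d0f74488b486ad04c45], [nat_lit 164352, nat_lit 161152, nat_lit 156416, nat_lit 151840, nat_lit 147952, nat_lit 145424, nat_lit 141264, nat_lit 135512, nat_lit 131163, nat_lit 718, nat_lit 4808, nat_lit 8320, nat_lit 12416, nat_lit 16480, nat_lit 21440, nat_lit 25472, nat_lit 29696, nat_lit 34304, nat_lit 41794, nat_lit 37335, nat_lit 33517, nat_lit 28773, nat_lit 24709, nat_lit 20552, nat_lit 16649, nat_lit 12295, nat_lit 8202, nat_lit 4105, nat_lit 4]⟩⟩⟩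
def p193 : AP := ⟨[nat_lit 67, nat_lit 643, nat_lit 50, nat_lit 46], [], (nat_lit 1046), ⟨[nat_lit 0, nat_lit 70], [nat_lit 26, nat_lit 63], ⟨[nat_lit 0x8a5ee65827155a445e9332cb004943], [nat_lit 173056, nat_lit 171008, nat_lit 164864, nat_lit 163072, nat_lit 157120, nat_lit 153696, nat_lit 150848, nat_lit 145728, nat_lit 140976, nat_lit 135272, nat_lit 133955, nat_lit 688, nat_lit 5544, nat_lit 10160, nat_lit 12976, nat_lit 17120, nat_lit 21184, nat_lit 26112, nat_lit 30208, nat_lit 34304, nat_lit 37888, nat_lit 41163, nat_lit 37219, nat_lit 33309, nat_lit 28761, nat_lit 24727, nat_lit 20739, nat_lit 16393, nat_lit 8224]⟩⟩⟩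
def p194 : AP := ⟨[nat_lit 68], [], (nat_lit 122), ⟨[nat_lit 0, nat_lit 88, nat_lit 94], [nat_lit 0, nat_lit 80, nat_lit 52], ⟨[nat_lit 0x5d046026c5185d0ade2f61e64929a8], [nat_lit 175104, nat_lit 168448, nat_lit 165888, nat_lit 162048, nat_lit 159552, nat_lit 153280, nat_lit 148736, nat_lit 144696, nat_lit 141912, nat_lit 137998, nat_lit 131458, nat_lit 236, nat_lit 5316, nat_lit 9560, nat_lit 13104, nat_lit 16640, nat_lit 20736, nat_lit 25984, nat_lit 37888, nat_lit 41821, nat_lit 37986, nat_lit 32986, nat_lit 29015, nat_lit 24856, nat_lit 21021, nat_lit 16386, nat_lit 12423, nat_lit 8320, nat_lit 4097, nat_lit 2]⟩⟩⟩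
def l195 : List AP := [⟨[nat_lit 15, nat_lit 630], [], (nat_lit 1032), ⟨[nat_lit 0, nat_lit 14, nat_lit 51], [nat_lit 0, nat_lit 82, nat_lit 53], ⟨[nat_lit 0x8cccf926a1802ea6a16411c6e2da8c], [nat_lit 174080, nat_lit 168960, nat_lit 167680, nat_lit 163072, nat_lit 159168, nat_lit 152704, nat_lit 149216, nat_lit 145248, nat_lit 141964, nat_lit 137550, nat_lit 132774, nat_lit 902, nat_lit 5604, nat_lit 9064, nat_lit 13392, nat_lit 17312, nat_lit 20608, nat_lit 24832, nat_lit 30208, nat_lit 33792, nat_lit 37888, nat_lit 41195, nat_lit 37087, nat_lit 32914, nat_lit 28762, nat_lit 24604, nat_lit 20506, nat_lit 16420, nat_lit 12308, nat_lit 8211, nat_lit 4]⟩⟩⟩]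
theorem s195 : Suf yT 262144 (ldrop wS 161) (apW dcM p194) (tgtN dcM p194.e) := Suf.fin' (l := l195) (by decide +kernel)
def l194 : List AP := [⟨[nat_lit 174, nat_lit 214], [], (nat_lit 396), ⟨[nat_lit 0, nat_lit 30, nat_lit 46], [nat_lit 0, nat_lit 24, nat_lit 64], ⟨[nat_lit 0x7a28e604b0049a431d7610d554de71], [nat_lit 168960, nat_lit 165632, nat_lit 161664, nat_lit 157184, nat_lit 152736, nat_lit 147920, nat_lit 144560, nat_lit 140044, nat_lit 137738, nat_lit 131079, nat_lit 78, nat_lit 4608, nat_lit 8696, nat_lit 13360, nat_lit 17728, nat_lit 21760, nat_lit 25088, nat_lit 28928, nat_lit 33792, nat_lit 37888, nat_lit 41082, nat_lit 37250, nat_lit 32893, nat_lit 28711, nat_lit 24578, nat_lit 20510, nat_lit 16391, nat_lit 12292, nat_lit 8201, nat_lit 4097, nat_lit 2]⟩⟩⟩,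
  ⟨[nat_lit 53], [], (nat_lit 126), ⟨[nat_lit 4, nat_lit 94], [nat_lit 36, nat_lit 54], ⟨[nat_lit 0x4d6591102b3630bb949a0d81a9de6], [nat_lit 173056, nat_lit 168960, nat_lit 160128, nat_lit 155712, nat_lit 151712, nat_lit 150432, nat_lit 144704, nat_lit 139416, nat_lit 136258, nat_lit 131681, nat_lit 158, nat_lit 5992, nat_lit 8824, nat_lit 13152, nat_lit 17408, nat_lit 21440, nat_lit 25088, nat_lit 29440, nat_lit 41912, nat_lit 38056, nat_lit 32966, nat_lit 28952, nat_lit 24722, nat_lit 21512, nat_lit 16394, nat_lit 12311, nat_lit 8200, nat_lit 4112, nat_lit 4]⟩⟩⟩]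
theorem s194 : Suf yT 262144 (ldrop wS 146) (apW dcM p193) (tgtN dcM p193.e) := Suf.seg (l := l194) (by decide +kernel) s195
def l193 : List AP := [⟨[nat_lit 54, nat_lit 55], [], (nat_lit 121), ⟨[nat_lit 38, nat_lit 58], [nat_lit 38, nat_lit 89], ⟨[nat_lit 0x3219252475b342fb8a3372c90050a7], [nat_lit 175104, nat_lit 168448, nat_lit 167424, nat_lit 161792, nat_lit 158784, nat_lit 152704, nat_lit 148912, nat_lit 143560, nat_lit 142320, nat_lit 138268, nat_lit 132070, nat_lit 344, nat_lit 5444, nat_lit 8920, nat_lit 12752, nat_lit 16448, nat_lit 34304, nat_lit 37888, nat_lit 41156, nat_lit 37146, nat_lit 33419, nat_lit 28754, nat_lit 24759, nat_lit 20551, nat_lit 16512, nat_lit 12291, nat_lit 8259]⟩⟩⟩,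
  ⟨[nat_lit 50], [], (nat_lit 120), ⟨[nat_lit 0, nat_lit 35], [nat_lit 53], ⟨[nat_lit 0x3219252475b342fb8a3372c90050a7], [nat_lit 174080, nat_lit 168448, nat_lit 167424, nat_lit 161792, nat_lit 158784, nat_lit 152736, nat_lit 148912, nat_lit 143552, nat_lit 142320, nat_lit 138268, nat_lit 132070, nat_lit 344, nat_lit 5444, nat_lit 8920, nat_lit 12752, nat_lit 16448, nat_lit 34304, nat_lit 37888, nat_lit 41156, nat_lit 37146, nat_lit 33419, nat_lit 28754, nat_lit 24759, nat_lit 20551, nat_lit 16512, nat_lit 12291, nat_lit 8259]⟩⟩⟩]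
theorem s193 : Suf yT 262144 (ldrop wS 140) (apW dcM p192) (tgtN dcM p192.e) := Suf.seg (l := l193) (by decide +kernel) s194
def l192 : List AP := [⟨[nat_lit 661, nat_lit 171], [], (nat_lit 418), ⟨[nat_lit 75, nat_lit 47], [nat_lit 0, nat_lit 42, nat_lit 92], ⟨[nat_lit 0x9828d15992215467d6235a507706f0], [nat_lit 173056, nat_lit 169984, nat_lit 161920, nat_lit 156992, nat_lit 155104, nat_lit 150912, nat_lit 146048, nat_lit 140836, nat_lit 135582, nat_lit 133242, nat_lit 760, nat_lit 5772, nat_lit 9928, nat_lit 12592, nat_lit 16768, nat_lit 21632, nat_lit 29440, nat_lit 33792, nat_lit 37888, nat_lit 41787, nat_lit 38088, nat_lit 33418, nat_lit 29234, nat_lit 24577, nat_lit 20492, nat_lit 16394, nat_lit 12293, nat_lit 8195, nat_lit 4101]⟩⟩⟩,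
  ⟨[nat_lit 217, nat_lit 175, nat_lit 170], [], (nat_lit 396), ⟨[nat_lit 0, nat_lit 81, nat_lit 93], [nat_lit 0, nat_lit 23, nat_lit 52], ⟨[nat_lit 0x885849cacb45dcd3d0aaa8c0979a02], [nat_lit 164096, nat_lit 160128, nat_lit 157056, nat_lit 152512, nat_lit 149216, nat_lit 145088, nat_lit 140484, nat_lit 135378, nat_lit 132038, nat_lit 4, nat_lit 5508, nat_lit 8792, nat_lit 14176, nat_lit 16448, nat_lit 21760, nat_lit 25600, nat_lit 29184, nat_lit 34304, nat_lit 41576, nat_lit 38285, nat_lit 33334, nat_lit 28974, nat_lit 24763, nat_lit 20621, nat_lit 16418, nat_lit 8258, nat_lit 4112, nat_lit 128]⟩⟩⟩]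
theorem s192 : Suf yT 262144 (ldrop wS 125) (apW dcM p191) (tgtN dcM p191.e) := Suf.seg (l := l192) (by decide +kernel) s193
def l191 : List AP := [⟨[nat_lit 643, nat_lit 54, nat_lit 66, nat_lit 52], [], (nat_lit 120), ⟨[nat_lit 0, nat_lit 24, nat_lit 92], [nat_lit 0, nat_lit 72, nat_lit 64], ⟨[nat_lit 0x70c466a8a9612f59c4ef902c80c174], [nat_lit 175104, nat_lit 169984, nat_lit 167424, nat_lit 160512, nat_lit 156800, nat_lit 153472, nat_lit 151376, nat_lit 143712, nat_lit 140816, nat_lit 137798, nat_lit 134030, nat_lit 1842, nat_lit 5112, nat_lit 9848, nat_lit 13264, nat_lit 18272, nat_lit 21504, nat_lit 25600, nat_lit 30208, nat_lit 33792, nat_lit 41050, nat_lit 37025, nat_lit 33017, nat_lit 29003, nat_lit 24615, nat_lit 20481, nat_lit 16515, nat_lit 12291, nat_lit 8258, nat_lit 4097]⟩⟩⟩,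
  ⟨[nat_lit 66, nat_lit 71], [], (nat_lit 121), ⟨[nat_lit 0, nat_lit 24, nat_lit 69], [nat_lit 0, nat_lit 43, nat_lit 67], ⟨[nat_lit 0x58a26400f0a3eb76b1d620d329942a], [nat_lit 169472, nat_lit 165120, nat_lit 160128, nat_lit 156608, nat_lit 153376, nat_lit 148976, nat_lit 144472, nat_lit 140240, nat_lit 136150, nat_lit 133719, nat_lit 1808, nat_lit 5904, nat_lit 8904, nat_lit 12432, nat_lit 18176, nat_lit 22016, nat_lit 33792, nat_lit 37888, nat_lit 41865, nat_lit 38095, nat_lit 33390, nat_lit 28703, nat_lit 24593, nat_lit 20761, nat_lit 16385, nat_lit 12417, nat_lit 8203, nat_lit 4097, nat_lit 2]⟩⟩⟩]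
theorem s191 : Suf yT 262144 (ldrop wS 110) (apW dcM p190) (tgtN dcM p190.e) := Suf.seg (l := l191) (by decide +kernel) s192
def l190 : List AP := [⟨[nat_lit 53, nat_lit 47, nat_lit 46, nat_lit 57], [], (nat_lit 1046), ⟨[nat_lit 0, nat_lit 33, nat_lit 67], [nat_lit 0, nat_lit 82, nat_lit 53], ⟨[nat_lit 0xb1e24ac9499d1ae419837944b0dc10], [nat_lit 169472, nat_lit 164352, nat_lit 160256, nat_lit 157376, nat_lit 147664, nat_lit 144080, nat_lit 140056, nat_lit 135734, nat_lit 132180, nat_lit 64, nat_lit 4160, nat_lit 9264, nat_lit 13264, nat_lit 16448, nat_lit 20864, nat_lit 29952, nat_lit 37888, nat_lit 41344, nat_lit 37203, nat_lit 33483, nat_lit 28788, nat_lit 24630, nat_lit 20550, nat_lit 16426, nat_lit 12304, nat_lit 8193, nat_lit 4105, nat_lit 2]⟩⟩⟩,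
  ⟨[nat_lit 171, nat_lit 219], [], (nat_lit 418), ⟨[nat_lit 3, nat_lit 56], [nat_lit 0, nat_lit 29, nat_lit 49], ⟨[nat_lit 0x9d443350b28a6ea61d00091ebb35d0], [nat_lit 164352, nat_lit 160640, nat_lit 156352, nat_lit 154976, nat_lit 149072, nat_lit 144360, nat_lit 139796, nat_lit 135170, nat_lit 131324, nat_lit 428, nat_lit 5228, nat_lit 9040, nat_lit 12352, nat_lit 17984, nat_lit 20544, nat_lit 29440, nat_lit 34304, nat_lit 41520, nat_lit 38352, nat_lit 32989, nat_lit 29013, nat_lit 24608, nat_lit 20488, nat_lit 16651, nat_lit 12325, nat_lit 8200, nat_lit 4112, nat_lit 4]⟩⟩⟩]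
theorem s190 : Suf yT 262144 (ldrop wS 95) (apW dcM p189) (tgtN dcM p189.e) := Suf.seg (l := l190) (by decide +kernel) s191
def l189 : List AP := [⟨[nat_lit 212, nat_lit 180, nat_lit 171], [], (nat_lit 396), ⟨[nat_lit 16, nat_lit 49], [nat_lit 0, nat_lit 14, nat_lit 67], ⟨[nat_lit 0x25e83822ce09a334be552ad4261c0d], [nat_lit 168960, nat_lit 166656, nat_lit 161664, nat_lit 155968, nat_lit 151968, nat_lit 148960, nat_lit 144448, nat_lit 139700, nat_lit 136244, nat_lit 131931, nat_lit 236, nat_lit 5276, nat_lit 8680, nat_lit 13376, nat_lit 18336, nat_lit 20928, nat_lit 25856, nat_lit 29440, nat_lit 33280, nat_lit 37888, nat_lit 41518, nat_lit 38003, nat_lit 33011, nat_lit 28707, nat_lit 24636, nat_lit 20564, nat_lit 16448, nat_lit 12310, nat_lit 8195, nat_lit 4100]⟩⟩⟩,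
  ⟨[nat_lit 50], [], (nat_lit 1046), ⟨[nat_lit 1, nat_lit 46], [nat_lit 0, nat_lit 2, nat_lit 93], ⟨[nat_lit 0x25e83822ce09a334be552ad4261c0d], [nat_lit 173056, nat_lit 169472, nat_lit 166400, nat_lit 161664, nat_lit 155968, nat_lit 151936, nat_lit 148976, nat_lit 144456, nat_lit 139696, nat_lit 136246, nat_lit 131931, nat_lit 236, nat_lit 5276, nat_lit 8680, nat_lit 13376, nat_lit 18336, nat_lit 20928, nat_lit 25856, nat_lit 29440, nat_lit 33280, nat_lit 37888, nat_lit 41518, nat_lit 38003, nat_lit 33011, nat_lit 28707, nat_lit 24636, nat_lit 20564, nat_lit 16448, nat_lit 12310, nat_lit 8195, nat_lit 4100]⟩⟩⟩]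
theorem s189 : Suf yT 262144 (ldrop wS 89) (apW dcM p188) (tgtN dcM p188.e) := Suf.seg (l := l189) (by decide +kernel) s190
def l188 : List AP := [⟨[nat_lit 217, nat_lit 172], [], (nat_lit 396), ⟨[nat_lit 86, nat_lit 56], [nat_lit 26, nat_lit 90], ⟨[nat_lit 0x75aa14cee4a28f042d83299e28c80d], [nat_lit 173056, nat_lit 171008, nat_lit 164096, nat_lit 159872, nat_lit 157952, nat_lit 152064, nat_lit 147984, nat_lit 145928, nat_lit 143144, nat_lit 137254, nat_lit 134776, nat_lit 492, nat_lit 4684, nat_lit 8680, nat_lit 13280, nat_lit 16896, nat_lit 21376, nat_lit 25088, nat_lit 29696, nat_lit 33280, nat_lit 40967, nat_lit 37374, nat_lit 33425, nat_lit 28687, nat_lit 24888, nat_lit 20481, nat_lit 16460, nat_lit 12308, nat_lit 8195, nat_lit 4]⟩⟩⟩,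
  ⟨[nat_lit 73, nat_lit 47, nat_lit 70, nat_lit 48], [], (nat_lit 120), ⟨[nat_lit 0, nat_lit 12, nat_lit 62], [nat_lit 0, nat_lit 13, nat_lit 57], ⟨[nat_lit 0x4a2152816c892e608e747da4e389aa], [nat_lit 173056, nat_lit 168448, nat_lit 165120, nat_lit 161408, nat_lit 157248, nat_lit 153440, nat_lit 147728, nat_lit 144032, nat_lit 141072, nat_lit 135402, nat_lit 134597, nat_lit 1814, nat_lit 5884, nat_lit 8680, nat_lit 13376, nat_lit 18336, nat_lit 21504, nat_lit 26112, nat_lit 28928, nat_lit 33792, nat_lit 37888, nat_lit 41816, nat_lit 38013, nat_lit 33454, nat_lit 28715, nat_lit 24617, nat_lit 20575, nat_lit 16391, nat_lit 12355, nat_lit 8195, nat_lit 4101, nat_lit 4]⟩⟩⟩]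
theorem s188 : Suf yT 262144 (ldrop wS 74) (apW dcM p187) (tgtN dcM p187.e) := Suf.seg (l := l188) (by decide +kernel) s189
def l187 : List AP := [⟨[nat_lit 643, nat_lit 57, nat_lit 639, nat_lit 55, nat_lit 46], [], (nat_lit 1046), ⟨[nat_lit 7, nat_lit 90], [nat_lit 0, nat_lit 20, nat_lit 64], ⟨[nat_lit 0x2c96db0c415448e05eb481de89b0c9], [nat_lit 173056, nat_lit 160768, nat_lit 157504, nat_lit 152704, nat_lit 149104, nat_lit 145768, nat_lit 139864, nat_lit 135334, nat_lit 133091, nat_lit 1928, nat_lit 5436, nat_lit 8800, nat_lit 12784, nat_lit 16608, nat_lit 21120, nat_lit 24704, nat_lit 30208, nat_lit 33792, nat_lit 37888, nat_lit 41635, nat_lit 38367, nat_lit 32952, nat_lit 29016, nat_lit 24726, nat_lit 20555, nat_lit 16392, nat_lit 12307, nat_lit 8227, nat_lit 4100, nat_lit 8]⟩⟩⟩,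
  ⟨[nat_lit 215, nat_lit 216, nat_lit 172], [], (nat_lit 418), ⟨[nat_lit 0, nat_lit 1, nat_lit 69], [nat_lit 0, nat_lit 44, nat_lit 50], ⟨[nat_lit 0x5133506d179650710625b507b9aac], [nat_lit 173056, nat_lit 164608, nat_lit 160128, nat_lit 156608, nat_lit 151616, nat_lit 148752, nat_lit 144064, nat_lit 140996, nat_lit 138662, nat_lit 131471, nat_lit 2012, nat_lit 5436, nat_lit 8504, nat_lit 14240, nat_lit 18112, nat_lit 21056, nat_lit 25088, nat_lit 29440, nat_lit 34304, nat_lit 37888, nat_lit 41911, nat_lit 37243, nat_lit 33313, nat_lit 29745, nat_lit 24860, nat_lit 21002, nat_lit 16416, nat_lit 12295, nat_lit 8194, nat_lit 4101, nat_lit 2]⟩⟩⟩]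
theorem s187 : Suf yT 262144 (ldrop wS 59) (apW dcM p186) (tgtN dcM p186.e) := Suf.seg (l := l187) (by decide +kernel) s188
def l186 : List AP := [⟨[nat_lit 640, nat_lit 46, nat_lit 67, nat_lit 51], [], (nat_lit 120), ⟨[nat_lit 24, nat_lit 63], [nat_lit 85, nat_lit 50], ⟨[nat_lit 0x845a71142eb3ea69dc6804a8a2256c], [nat_lit 168960, nat_lit 164096, nat_lit 161920, nat_lit 156736, nat_lit 151712, nat_lit 148832, nat_lit 145000, nat_lit 141048, nat_lit 135170, nat_lit 131699, nat_lit 1580, nat_lit 4952, nat_lit 9752, nat_lit 13408, nat_lit 16512, nat_lit 21888, nat_lit 25856, nat_lit 29696, nat_lit 33792, nat_lit 37888, nat_lit 41088, nat_lit 37050, nat_lit 32896, nat_lit 28960, nat_lit 24588, nat_lit 20619, nat_lit 16399, nat_lit 12311, nat_lit 8194, nat_lit 16]⟩⟩⟩,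
  ⟨[nat_lit 70, nat_lit 52, nat_lit 49, nat_lit 46], [], (nat_lit 120), ⟨[nat_lit 32, nat_lit 64], [nat_lit 23], ⟨[nat_lit 0x3aec26c2978bca4925887041351875], [nat_lit 169472, nat_lit 164864, nat_lit 159296, nat_lit 152864, nat_lit 147808, nat_lit 143968, nat_lit 139840, nat_lit 136060, nat_lit 132164, nat_lit 1698, nat_lit 4828, nat_lit 8424, nat_lit 12624, nat_lit 17824, nat_lit 20672, nat_lit 25600, nat_lit 28928, nat_lit 33792, nat_lit 37888, nat_lit 41686, nat_lit 38262, nat_lit 32832, nat_lit 28727, nat_lit 24635, nat_lit 20551, nat_lit 16425, nat_lit 12325, nat_lit 8209, nat_lit 4161]⟩⟩⟩]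
theorem s186 : Suf yT 262144 (ldrop wS 44) (apW dcM p185) (tgtN dcM p185.e) := Suf.seg (l := l186) (by decide +kernel) s187
def l185 : List AP := [⟨[nat_lit 47, nat_lit 72, nat_lit 54, nat_lit 71, nat_lit 46], [], (nat_lit 1046), ⟨[nat_lit 0, nat_lit 23, nat_lit 60], [nat_lit 0, nat_lit 23, nat_lit 68], ⟨[nat_lit 0x208ef9c00d60d49456462ae36a06ee], [nat_lit 173056, nat_lit 168448, nat_lit 164864, nat_lit 161152, nat_lit 158272, nat_lit 151840, nat_lit 148080, nat_lit 145080, nat_lit 140360, nat_lit 135416, nat_lit 132845, nat_lit 960, nat_lit 6068, nat_lit 10224, nat_lit 12624, nat_lit 17920, nat_lit 20544, nat_lit 25728, nat_lit 30208, nat_lit 33280, nat_lit 37888, nat_lit 41102, nat_lit 37249, nat_lit 33345, nat_lit 28736, nat_lit 24589, nat_lit 20504, nat_lit 16417, nat_lit 12305, nat_lit 8194, nat_lit 4101, nat_lit 2]⟩⟩⟩,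
  ⟨[nat_lit 661, nat_lit 171], [], (nat_lit 418), ⟨[nat_lit 39, nat_lit 56], [nat_lit 0, nat_lit 10, nat_lit 65], ⟨[nat_lit 0x90183219f342db1385562dc49aba90], [nat_lit 175104, nat_lit 165632, nat_lit 160768, nat_lit 157568, nat_lit 153024, nat_lit 143496, nat_lit 140408, nat_lit 136996, nat_lit 132467, nat_lit 1698, nat_lit 5604, nat_lit 9136, nat_lit 12352, nat_lit 18208, nat_lit 20544, nat_lit 25600, nat_lit 37888, nat_lit 40979, nat_lit 37224, nat_lit 33383, nat_lit 28692, nat_lit 24637, nat_lit 20565, nat_lit 16463, nat_lit 12321, nat_lit 4112, nat_lit 8]⟩⟩⟩]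
theorem s185 : Suf yT 262144 (ldrop wS 38) (apW dcM p184) (tgtN dcM p184.e) := Suf.seg (l := l185) (by decide +kernel) s186
def l184 : List AP := [⟨[nat_lit 179, nat_lit 216], [], (nat_lit 396), ⟨[nat_lit 13, nat_lit 64], [nat_lit 32, nat_lit 63], ⟨[nat_lit 0x68d869a28e3c8504c6ef2d8155a824], [nat_lit 173056, nat_lit 168960, nat_lit 167424, nat_lit 159872, nat_lit 156352, nat_lit 152576, nat_lit 148336, nat_lit 144424, nat_lit 141280, nat_lit 135196, nat_lit 131574, nat_lit 1794, nat_lit 4352, nat_lit 10144, nat_lit 13264, nat_lit 16864, nat_lit 21952, nat_lit 24832, nat_lit 29184, nat_lit 33792, nat_lit 41387, nat_lit 37344, nat_lit 32856, nat_lit 29283, nat_lit 24876, nat_lit 20564, nat_lit 16453, nat_lit 12290, nat_lit 8257, nat_lit 4]⟩⟩⟩,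
  ⟨[nat_lit 51, nat_lit 72, nat_lit 641, nat_lit 47], [], (nat_lit 120), ⟨[nat_lit 78, nat_lit 68], [nat_lit 0, nat_lit 2, nat_lit 92], ⟨[nat_lit 0x23a155246b934f70a0408d8ac99a8f], [nat_lit 174080, nat_lit 166144, nat_lit 162560, nat_lit 158016, nat_lit 152512, nat_lit 147920, nat_lit 144304, nat_lit 141512, nat_lit 139056, nat_lit 132388, nat_lit 1318, nat_lit 5604, nat_lit 10176, nat_lit 14144, nat_lit 17312, nat_lit 21504, nat_lit 25984, nat_lit 29696, nat_lit 41657, nat_lit 37098, nat_lit 32865, nat_lit 28706, nat_lit 24861, nat_lit 20487, nat_lit 16392, nat_lit 12291, nat_lit 8225, nat_lit 8]⟩⟩⟩]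
theorem s184 : Suf yT 262144 (ldrop wS 23) (apW dcM p183) (tgtN dcM p183.e) := Suf.seg (l := l184) (by decide +kernel) s185
def l183 : List AP := [⟨[nat_lit 216, nat_lit 170], [], (nat_lit 396), ⟨[nat_lit 0, nat_lit 16, nat_lit 90], [nat_lit 34, nat_lit 67], ⟨[nat_lit 0xb214499637355cda1c401adf264029], [nat_lit 168448, nat_lit 165376, nat_lit 163200, nat_lit 156736, nat_lit 153440, nat_lit 149456, nat_lit 144080, nat_lit 140792, nat_lit 135610, nat_lit 132695, nat_lit 434, nat_lit 4224, nat_lit 8696, nat_lit 13552, nat_lit 20736, nat_lit 24704, nat_lit 29440, nat_lit 33280, nat_lit 41514, nat_lit 37248, nat_lit 32947, nat_lit 28971, nat_lit 24591, nat_lit 20739, nat_lit 16416, nat_lit 12353, nat_lit 8202, nat_lit 64]⟩⟩⟩,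
  ⟨[nat_lit 47, nat_lit 51, nat_lit 56, nat_lit 69, nat_lit 46], [], (nat_lit 1046), ⟨[nat_lit 0, nat_lit 18, nat_lit 94], [nat_lit 0, nat_lit 12, nat_lit 92], ⟨[nat_lit 0x385441d517025cd12e127da6665225], [nat_lit 175104, nat_lit 169984, nat_lit 165632, nat_lit 163072, nat_lit 158464, nat_lit 153728, nat_lit 149216, nat_lit 144784, nat_lit 140640, nat_lit 138478, nat_lit 134639, nat_lit 1634, nat_lit 4924, nat_lit 9224, nat_lit 13088, nat_lit 17408, nat_lit 21504, nat_lit 25216, nat_lit 29696, nat_lit 41678, nat_lit 38223, nat_lit 33280, nat_lit 28708, nat_lit 25604, nat_lit 20629, nat_lit 16416, nat_lit 12353, nat_lit 8321, nat_lit 4104]⟩⟩⟩]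
theorem s183 : Suf yT 262144 (ldrop wS 8) (apW dcM p182) (tgtN dcM p182.e) := Suf.seg (l := l183) (by decide +kernel) s184
def l182 : List AP := [⟨[nat_lit 625, nat_lit 3, nat_lit 6, nat_lit 627, nat_lit 5, nat_lit 625], [], (nat_lit 40), ⟨[nat_lit 0, nat_lit 38, nat_lit 93], [nat_lit 3, nat_lit 92], ⟨[nat_lit 0x69a8a1217280eb70b9f13a59699480], [nat_lit 169472, nat_lit 167680, nat_lit 161664, nat_lit 157056, nat_lit 151712, nat_lit 149488, nat_lit 143440, nat_lit 139824, nat_lit 136418, nat_lit 131375, nat_lit 256, nat_lit 4956, nat_lit 9672, nat_lit 13216, nat_lit 16640, nat_lit 21184, nat_lit 26240, nat_lit 28928, nat_lit 33280, nat_lit 37888, nat_lit 41850, nat_lit 37166, nat_lit 28706, nat_lit 25658, nat_lit 20613, nat_lit 16393, nat_lit 12306, nat_lit 8227, nat_lit 4105]⟩⟩⟩,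
  ⟨[nat_lit 28, nat_lit 27, nat_lit 24, nat_lit 29, nat_lit 25], [], (nat_lit 338), ⟨[nat_lit 0, nat_lit 40, nat_lit 53], [nat_lit 81, nat_lit 59], ⟨[nat_lit 0x592337b4c850c072d689906ccb89d0], [nat_lit 165888, nat_lit 162176, nat_lit 159552, nat_lit 155456, nat_lit 149280, nat_lit 146032, nat_lit 141656, nat_lit 136808, nat_lit 134140, nat_lit 428, nat_lit 5768, nat_lit 8256, nat_lit 13712, nat_lit 18336, nat_lit 21376, nat_lit 24832, nat_lit 29696, nat_lit 34304, nat_lit 41595, nat_lit 37185, nat_lit 33023, nat_lit 29003, nat_lit 24577, nat_lit 20622, nat_lit 16391, nat_lit 8193, nat_lit 4112]⟩⟩⟩]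
theorem rS6 : Suf yT 262144 wS [yT.get 40] 0 := Suf.seg (l := l182) (by decide +kernel) s183

def p196 : AP := ⟨[], [], (nat_lit 393), ⟨[nat_lit 0, nat_lit 45, nat_lit 53], [nat_lit 0, nat_lit 23, nat_lit 94], ⟨[nat_lit 0xbb047301f64149058c3174d2d92a95], [nat_lit 173056, nat_lit 168960, nat_lit 164352, nat_lit 157056, nat_lit 153024, nat_lit 147568, nat_lit 145360, nat_lit 139352, nat_lit 136278, nat_lit 133796, nat_lit 1730, nat_lit 5856, nat_lit 8216, nat_lit 12944, nat_lit 16864, nat_lit 21056, nat_lit 25088, nat_lit 28928, nat_lit 33792, nat_lit 37888, nat_lit 41814, nat_lit 38189, nat_lit 33845, nat_lit 28685, nat_lit 24616, nat_lit 20486, nat_lit 16388, nat_lit 12355, nat_lit 8210, nat_lit 4097, nat_lit 2]⟩⟩⟩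
def p197 : AP := ⟨[nat_lit 219, nat_lit 216], [], (nat_lit 418), ⟨[nat_lit 0, nat_lit 6, nat_lit 48], [nat_lit 3, nat_lit 60], ⟨[nat_lit 0x926c058eb371ef46950a205e234590], [nat_lit 173056, nat_lit 164608, nat_lit 160384, nat_lit 156480, nat_lit 152128, nat_lit 147472, nat_lit 146144, nat_lit 139572, nat_lit 136516, nat_lit 132984, nat_lit 64, nat_lit 4404, nat_lit 8704, nat_lit 13312, nat_lit 17696, nat_lit 21248, nat_lit 25088, nat_lit 28928, nat_lit 37888, nat_lit 41502, nat_lit 37055, nat_lit 32879, nat_lit 29279, nat_lit 24755, nat_lit 20617, nat_lit 16463, nat_lit 8208, nat_lit 32]⟩⟩⟩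
def p198 : AP := ⟨[nat_lit 643, nat_lit 49, nat_lit 55, nat_lit 72], [], (nat_lit 1046), ⟨[nat_lit 0, nat_lit 18, nat_lit 93], [nat_lit 19, nat_lit 92], ⟨[nat_lit 0x8b1042be490ddcd52ea298214b1867], [nat_lit 175104, nat_lit 171008, nat_lit 167680, nat_lit 161536, nat_lit 159296, nat_lit 153920, nat_lit 147904, nat_lit 145808, nat_lit 139936, nat_lit 136060, nat_lit 131405, nat_lit 1014, nat_lit 4420, nat_lit 9216, nat_lit 12320, nat_lit 16416, nat_lit 22336, nat_lit 25472, nat_lit 30464, nat_lit 34304, nat_lit 41563, nat_lit 38291, nat_lit 32972, nat_lit 28996, nat_lit 24586, nat_lit 20504, nat_lit 16416, nat_lit 12307, nat_lit 8448, nat_lit 4105]⟩⟩⟩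
def p199 : AP := ⟨[nat_lit 661, nat_lit 219, nat_lit 170], [], (nat_lit 396), ⟨[nat_lit 0, nat_lit 44, nat_lit 55], [nat_lit 86, nat_lit 70], ⟨[nat_lit 0x254d60e7009dc45d62613e972c916], [nat_lit 168448, nat_lit 165632, nat_lit 161152, nat_lit 156032, nat_lit 151808, nat_lit 148272, nat_lit 145696, nat_lit 139876, nat_lit 135176, nat_lit 131369, nat_lit 688, nat_lit 4604, nat_lit 9920, nat_lit 12416, nat_lit 17664, nat_lit 24704, nat_lit 33792, nat_lit 37888, nat_lit 41952, nat_lit 37995, nat_lit 33283, nat_lit 28712, nat_lit 24584, nat_lit 20637, nat_lit 16424, nat_lit 8209, nat_lit 4609]⟩⟩⟩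
def p200 : AP := ⟨[nat_lit 641, nat_lit 46, nat_lit 54], [], (nat_lit 121), ⟨[nat_lit 72, nat_lit 60], [nat_lit 0, nat_lit 44, nat_lit 70], ⟨[nat_lit 0xab428b16171c446a300a225727cdc7], [nat_lit 173056, nat_lit 169472, nat_lit 164096, nat_lit 161792, nat_lit 157568, nat_lit 153088, nat_lit 148992, nat_lit 144272, nat_lit 139384, nat_lit 136022, nat_lit 133057, nat_lit 1054, nat_lit 6108, nat_lit 8672, nat_lit 14304, nat_lit 17984, nat_lit 21696, nat_lit 28928, nat_lit 33792, nat_lit 41722, nat_lit 38202, nat_lit 33357, nat_lit 28710, nat_lit 25111, nat_lit 20614, nat_lit 16455, nat_lit 8258, nat_lit 4161]⟩⟩⟩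
def p201 : AP := ⟨[nat_lit 73, nat_lit 67, nat_lit 54], [], (nat_lit 120), ⟨[nat_lit 45, nat_lit 52], [nat_lit 0, nat_lit 12, nat_lit 56], ⟨[nat_lit 0xab8ab5518600c51412ef9c0326a6c7], [nat_lit 164608, nat_lit 161408, nat_lit 157184, nat_lit 153984, nat_lit 147552, nat_lit 144152, nat_lit 140644, nat_lit 136100, nat_lit 131452, nat_lit 1214, nat_lit 5668, nat_lit 8336, nat_lit 13952, nat_lit 18080, nat_lit 22464, nat_lit 25472, nat_lit 29440, nat_lit 33792, nat_lit 41120, nat_lit 37146, nat_lit 33362, nat_lit 29782, nat_lit 24608, nat_lit 20558, nat_lit 16518, nat_lit 12321, nat_lit 8201, nat_lit 4097]⟩⟩⟩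
def p202 : AP := ⟨[nat_lit 218, nat_lit 175], [], (nat_lit 396), ⟨[nat_lit 0, nat_lit 17, nat_lit 50], [nat_lit 44, nat_lit 47], ⟨[nat_lit 0x19d0d61521589c4b4ab4bc2335180f], [nat_lit 173056, nat_lit 169472, nat_lit 165632, nat_lit 163200, nat_lit 155712, nat_lit 153216, nat_lit 147472, nat_lit 145088, nat_lit 139488, nat_lit 135914, nat_lit 132751, nat_lit 1896, nat_lit 5904, nat_lit 9776, nat_lit 14304, nat_lit 17568, nat_lit 22400, nat_lit 26368, nat_lit 29184, nat_lit 34304, nat_lit 37888, nat_lit 41920, nat_lit 37094, nat_lit 32800, nat_lit 25108, nat_lit 20551, nat_lit 16418, nat_lit 12291, nat_lit 8211, nat_lit 4104, nat_lit 2]⟩⟩⟩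
def p203 : AP := ⟨[nat_lit 73, nat_lit 639, nat_lit 642], [], (nat_lit 1046), ⟨[nat_lit 19, nat_lit 49], [nat_lit 0, nat_lit 84, nat_lit 57], ⟨[nat_lit 0xb2904bccb1a99cd100f40a59058e4f], [nat_lit 173056, nat_lit 171008, nat_lit 160512, nat_lit 158336, nat_lit 152576, nat_lit 147680, nat_lit 146024, nat_lit 142600, nat_lit 139040, nat_lit 134729, nat_lit 1318, nat_lit 5080, nat_lit 8936, nat_lit 14176, nat_lit 16448, nat_lit 22272, nat_lit 25088, nat_lit 29184, nat_lit 34304, nat_lit 41919, nat_lit 37001, nat_lit 32809, nat_lit 29294, nat_lit 24750, nat_lit 20638, nat_lit 16416, nat_lit 12291, nat_lit 8322, nat_lit 4104]⟩⟩⟩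
def p204 : AP := ⟨[nat_lit 50], [], (nat_lit 1046), ⟨[nat_lit 7, nat_lit 93], [nat_lit 0, nat_lit 31, nat_lit 62], ⟨[nat_lit 0x7280540d84ba66b3c4d6106547d60d], [nat_lit 173056, nat_lit 168448, nat_lit 164096, nat_lit 160768, nat_lit 156608, nat_lit 151744, nat_lit 149328, nat_lit 147304, nat_lit 140024, nat_lit 135304, nat_lit 132358, nat_lit 484, nat_lit 5956, nat_lit 8984, nat_lit 14144, nat_lit 16416, nat_lit 20608, nat_lit 26496, nat_lit 34304, nat_lit 37888, nat_lit 41334, nat_lit 37330, nat_lit 32781, nat_lit 28744, nat_lit 24632, nat_lit 20560, nat_lit 16448, nat_lit 12304, nat_lit 8450, nat_lit 4101]⟩⟩⟩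
def p205 : AP := ⟨[nat_lit 214, nat_lit 219, nat_lit 171], [], (nat_lit 396), ⟨[nat_lit 1, nat_lit 48], [nat_lit 0, nat_lit 38, nat_lit 61], ⟨[nat_lit 0x68920321843c476a966153ef45ca0e], [nat_lit 173056, nat_lit 168448, nat_lit 167424, nat_lit 160640, nat_lit 156480, nat_lit 153120, nat_lit 148112, nat_lit 144880, nat_lit 140216, nat_lit 135678, nat_lit 132746, nat_lit 1972, nat_lit 5016, nat_lit 10160, nat_lit 13264, nat_lit 16416, nat_lit 25472, nat_lit 29440, nat_lit 41624, nat_lit 38062, nat_lit 32970, nat_lit 28939, nat_lit 24753, nat_lit 20565, nat_lit 16448, nat_lit 12544, nat_lit 8225, nat_lit 4104, nat_lit 32]⟩⟩⟩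
def p206 : AP := ⟨[nat_lit 67, nat_lit 66, nat_lit 50], [], (nat_lit 120), ⟨[nat_lit 40, nat_lit 47], [nat_lit 0, nat_lit 42, nat_lit 65], ⟨[nat_lit 0x6b1172be6059cd57442455843a4930], [nat_lit 174080, nat_lit 170496, nat_lit 165888, nat_lit 160512, nat_lit 159104, nat_lit 154464, nat_lit 148880, nat_lit 146664, nat_lit 140156, nat_lit 136028, nat_lit 131220, nat_lit 1076, nat_lit 4780, nat_lit 9264, nat_lit 14144, nat_lit 17248, nat_lit 20544, nat_lit 30464, nat_lit 33280, nat_lit 37888, nat_lit 41973, nat_lit 37946, nat_lit 32856, nat_lit 29299, nat_lit 24621, nat_lit 20489, nat_lit 16524, nat_lit 8257, nat_lit 32]⟩⟩⟩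
def p207 : AP := ⟨[nat_lit 177, nat_lit 661], [], (nat_lit 419), ⟨[nat_lit 35, nat_lit 57], [nat_lit 30, nat_lit 67], ⟨[nat_lit 0xb311373c8228e12501663de814c6ad], [nat_lit 174080, nat_lit 169984, nat_lit 166656, nat_lit 160896, nat_lit 159104, nat_lit 154464, nat_lit 149056, nat_lit 147064, nat_lit 139932, nat_lit 137212, nat_lit 131226, nat_lit 1668, nat_lit 5900, nat_lit 9480, nat_lit 12480, nat_lit 16896, nat_lit 20864, nat_lit 25472, nat_lit 30464, nat_lit 37888, nat_lit 41945, nat_lit 38369, nat_lit 34033, nat_lit 28680, nat_lit 24612, nat_lit 20487, nat_lit 16902, nat_lit 12308, nat_lit 8210, nat_lit 4097]⟩⟩⟩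
def p208 : AP := ⟨[nat_lit 68], [], (nat_lit 122), ⟨[nat_lit 0, nat_lit 9, nat_lit 58], [nat_lit 0, nat_lit 5, nat_lit 50], ⟨[nat_lit 0x2882600ce4bb68c4493073ed55c66a], [nat_lit 173056, nat_lit 168448, nat_lit 160000, nat_lit 156736, nat_lit 152000, nat_lit 148368, nat_lit 146608, nat_lit 140044, nat_lit 136718, nat_lit 133053, nat_lit 1818, nat_lit 5772, nat_lit 10064, nat_lit 12800, nat_lit 16864, nat_lit 21952, nat_lit 25600, nat_lit 29952, nat_lit 33792, nat_lit 37888, nat_lit 41888, nat_lit 37373, nat_lit 33461, nat_lit 28695, nat_lit 24880, nat_lit 20560, nat_lit 16385, nat_lit 12294, nat_lit 8202, nat_lit 4105]⟩⟩⟩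
def l209 : List AP := [⟨[nat_lit 629, nat_lit 14, nat_lit 36], [], (nat_lit 1032), ⟨[nat_lit 32, nat_lit 49], [nat_lit 36, nat_lit 62], ⟨[nat_lit 0x1016444a65b3203519cf8b434aa6e7], [nat_lit 164096, nat_lit 160256, nat_lit 156736, nat_lit 152768, nat_lit 147696, nat_lit 144384, nat_lit 139340, nat_lit 135472, nat_lit 131145, nat_lit 1182, nat_lit 4328, nat_lit 9512, nat_lit 14256, nat_lit 16416, nat_lit 26496, nat_lit 34304, nat_lit 37888, nat_lit 41515, nat_lit 37233, nat_lit 32888, nat_lit 28794, nat_lit 24762, nat_lit 20496, nat_lit 16416, nat_lit 12423, nat_lit 8194, nat_lit 4097]⟩⟩⟩]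
theorem s209 : Suf yT 524288 (ldrop wS 161) (apW dcM p208) (tgtN dcM p208.e) := Suf.fin' (l := l209) (by decide +kernel)
def l208 : List AP := [⟨[nat_lit 178, nat_lit 174, nat_lit 171], [], (nat_lit 396), ⟨[nat_lit 41, nat_lit 69], [nat_lit 71, nat_lit 46], ⟨[nat_lit 0x7860e01e465d9a4a21858dc7512a69], [nat_lit 174080, nat_lit 162688, nat_lit 153376, nat_lit 151536, nat_lit 146696, nat_lit 143180, nat_lit 138560, nat_lit 133842, nat_lit 344, nat_lit 4880, nat_lit 9096, nat_lit 14208, nat_lit 16864, nat_lit 20800, nat_lit 26112, nat_lit 29440, nat_lit 34304, nat_lit 41626, nat_lit 38117, nat_lit 33023, nat_lit 28791, nat_lit 24639, nat_lit 20483, nat_lit 16388, nat_lit 12356, nat_lit 4105]⟩⟩⟩,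
  ⟨[nat_lit 51], [], (nat_lit 126), ⟨[nat_lit 0, nat_lit 77, nat_lit 94], [nat_lit 0, nat_lit 1, nat_lit 68], ⟨[nat_lit 0x12da59586173e74354908a51702987], [nat_lit 173056, nat_lit 171520, nat_lit 165120, nat_lit 162048, nat_lit 156800, nat_lit 155424, nat_lit 151312, nat_lit 145944, nat_lit 140240, nat_lit 136230, nat_lit 134253, nat_lit 1440, nat_lit 5668, nat_lit 9096, nat_lit 12976, nat_lit 18400, nat_lit 21760, nat_lit 25856, nat_lit 28928, nat_lit 33792, nat_lit 41803, nat_lit 38074, nat_lit 33304, nat_lit 28713, nat_lit 24599, nat_lit 20489, nat_lit 16451, nat_lit 8194, nat_lit 4097, nat_lit 2]⟩⟩⟩]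
theorem s208 : Suf yT 524288 (ldrop wS 146) (apW dcM p207) (tgtN dcM p207.e) := Suf.seg (l := l208) (by decide +kernel) s209
def l207 : List AP := [⟨[nat_lit 46, nat_lit 66, nat_lit 643, nat_lit 56], [], (nat_lit 1046), ⟨[nat_lit 0, nat_lit 28, nat_lit 69], [nat_lit 0, nat_lit 45, nat_lit 69], ⟨[nat_lit 0x6bd661caaea400cb1557484e244e24], [nat_lit 168448, nat_lit 164352, nat_lit 160640, nat_lit 157248, nat_lit 152768, nat_lit 148928, nat_lit 144016, nat_lit 139548, nat_lit 136918, nat_lit 132887, nat_lit 606, nat_lit 5160, nat_lit 8208, nat_lit 13728, nat_lit 21376, nat_lit 25216, nat_lit 29952, nat_lit 33280, nat_lit 41098, nat_lit 37133, nat_lit 33294, nat_lit 29771, nat_lit 24741, nat_lit 20548, nat_lit 16388, nat_lit 12805, nat_lit 8209, nat_lit 4353, nat_lit 4]⟩⟩⟩,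
  ⟨[nat_lit 661, nat_lit 171], [], (nat_lit 418), ⟨[nat_lit 43, nat_lit 68], [nat_lit 0, nat_lit 41, nat_lit 49], ⟨[nat_lit 0x98ef65a830a99e8495b48b98039052], [nat_lit 174080, nat_lit 171520, nat_lit 165888, nat_lit 160768, nat_lit 157504, nat_lit 152480, nat_lit 150064, nat_lit 143400, nat_lit 140296, nat_lit 138972, nat_lit 133150, nat_lit 1810, nat_lit 5908, nat_lit 9112, nat_lit 13184, nat_lit 20736, nat_lit 29696, nat_lit 37888, nat_lit 41645, nat_lit 37135, nat_lit 32801, nat_lit 28715, nat_lit 24577, nat_lit 20486, nat_lit 16398, nat_lit 12306, nat_lit 8201, nat_lit 4113]⟩⟩⟩]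
theorem s207 : Suf yT 524288 (ldrop wS 140) (apW dcM p206) (tgtN dcM p206.e) := Suf.seg (l := l207) (by decide +kernel) s208
def l206 : List AP := [⟨[nat_lit 50], [], (nat_lit 1046), ⟨[nat_lit 25, nat_lit 94], [nat_lit 0, nat_lit 39, nat_lit 60], ⟨[nat_lit 0x68920321843c476a966153ef45ca0e], [nat_lit 167424, nat_lit 160640, nat_lit 156480, nat_lit 153120, nat_lit 148112, nat_lit 144888, nat_lit 140220, nat_lit 135676, nat_lit 132746, nat_lit 1972, nat_lit 5016, nat_lit 10160, nat_lit 13264, nat_lit 16416, nat_lit 25472, nat_lit 29440, nat_lit 41624, nat_lit 38062, nat_lit 32970, nat_lit 28939, nat_lit 24753, nat_lit 20565, nat_lit 16448, nat_lit 12544, nat_lit 8225, nat_lit 4104, nat_lit 32]⟩⟩⟩,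
  ⟨[nat_lit 180, nat_lit 219, nat_lit 170], [], (nat_lit 396), ⟨[nat_lit 0, nat_lit 44, nat_lit 55], [nat_lit 16, nat_lit 67], ⟨[nat_lit 0x5b26da2af1055c432645b0cef08910], [nat_lit 174080, nat_lit 170496, nat_lit 166144, nat_lit 161664, nat_lit 156352, nat_lit 153248, nat_lit 149744, nat_lit 144760, nat_lit 139412, nat_lit 138126, nat_lit 134079, nat_lit 1874, nat_lit 4352, nat_lit 8256, nat_lit 13920, nat_lit 16512, nat_lit 21696, nat_lit 25088, nat_lit 28928, nat_lit 33280, nat_lit 37888, nat_lit 41961, nat_lit 37350, nat_lit 32961, nat_lit 28973, nat_lit 24577, nat_lit 20626, nat_lit 16423, nat_lit 12306, nat_lit 8193, nat_lit 4104]⟩⟩⟩]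
theorem s206 : Suf yT 524288 (ldrop wS 125) (apW dcM p205) (tgtN dcM p205.e) := Suf.seg (l := l206) (by decide +kernel) s207
def l205 : List AP := [⟨[nat_lit 177], [], (nat_lit 390), ⟨[nat_lit 82, nat_lit 61], [nat_lit 0, nat_lit 45, nat_lit 62], ⟨[nat_lit 0x40473852a93ae460349670ae57b22a], [nat_lit 165632, nat_lit 161024, nat_lit 156352, nat_lit 155328, nat_lit 149472, nat_lit 144568, nat_lit 139936, nat_lit 136850, nat_lit 131994, nat_lit 1842, nat_lit 4924, nat_lit 10104, nat_lit 14144, nat_lit 16672, nat_lit 20992, nat_lit 25088, nat_lit 34304, nat_lit 41276, nat_lit 37073, nat_lit 33939, nat_lit 28948, nat_lit 25131, nat_lit 20485, nat_lit 16458, nat_lit 8227, nat_lit 4100]⟩⟩⟩,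
  ⟨[nat_lit 636, nat_lit 29, nat_lit 32, nat_lit 31, nat_lit 21, nat_lit 24], [], (nat_lit 338), ⟨[nat_lit 77, nat_lit 57], [nat_lit 0, nat_lit 7, nat_lit 52], ⟨[nat_lit 0x9daa8a00ae21e0b35de38b1a950452], [nat_lit 164352, nat_lit 161280, nat_lit 155712, nat_lit 152544, nat_lit 149360, nat_lit 143392, nat_lit 139616, nat_lit 137164, nat_lit 134804, nat_lit 4100, nat_lit 14064, nat_lit 16992, nat_lit 21568, nat_lit 25984, nat_lit 29952, nat_lit 37888, nat_lit 41547, nat_lit 38346, nat_lit 32921, nat_lit 28965, nat_lit 24597, nat_lit 20637, nat_lit 16454, nat_lit 12418, nat_lit 8195, nat_lit 4100]⟩⟩⟩]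
theorem s205 : Suf yT 524288 (ldrop wS 110) (apW dcM p204) (tgtN dcM p204.e) := Suf.seg (l := l205) (by decide +kernel) s206
def l204 : List AP := [⟨[nat_lit 216, nat_lit 662], [], (nat_lit 419), ⟨[nat_lit 9, nat_lit 55], [nat_lit 0, nat_lit 27, nat_lit 46], ⟨[nat_lit 0x70572b2546a9613012e37a05161e8d], [nat_lit 175104, nat_lit 166656, nat_lit 163328, nat_lit 159552, nat_lit 152576, nat_lit 147680, nat_lit 144904, nat_lit 142908, nat_lit 138128, nat_lit 131125, nat_lit 1066, nat_lit 5604, nat_lit 8336, nat_lit 13552, nat_lit 17024, nat_lit 25088, nat_lit 30464, nat_lit 33792, nat_lit 41250, nat_lit 37099, nat_lit 33912, nat_lit 29277, nat_lit 24888, nat_lit 20482, nat_lit 16516, nat_lit 8195]⟩⟩⟩,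
  ⟨[nat_lit 661, nat_lit 216], [], (nat_lit 396), ⟨[nat_lit 43, nat_lit 55], [nat_lit 76, nat_lit 66], ⟨[nat_lit 0x7280540d84ba66b3c4d6106547d60d], [nat_lit 173056, nat_lit 168448, nat_lit 164096, nat_lit 160896, nat_lit 156608, nat_lit 151744, nat_lit 149312, nat_lit 147296, nat_lit 140024, nat_lit 135304, nat_lit 132358, nat_lit 484, nat_lit 5956, nat_lit 8984, nat_lit 14144, nat_lit 16416, nat_lit 20608, nat_lit 26496, nat_lit 34304, nat_lit 37888, nat_lit 41334, nat_lit 37330, nat_lit 32781, nat_lit 28744, nat_lit 24632, nat_lit 20560, nat_lit 16448, nat_lit 12304, nat_lit 8450, nat_lit 4101]⟩⟩⟩]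
theorem s204 : Suf yT 524288 (ldrop wS 95) (apW dcM p203) (tgtN dcM p203.e) := Suf.seg (l := l204) (by decide +kernel) s205
def l203 : List AP := [⟨[nat_lit 642, nat_lit 643, nat_lit 47, nat_lit 46], [], (nat_lit 120), ⟨[nat_lit 0, nat_lit 18, nat_lit 47], [nat_lit 29], ⟨[nat_lit 0x395321bec60822b8394c2345444eb7], [nat_lit 175104, nat_lit 169984, nat_lit 167424, nat_lit 161280, nat_lit 158912, nat_lit 154528, nat_lit 149120, nat_lit 147040, nat_lit 139400, nat_lit 135738, nat_lit 131546, nat_lit 796, nat_lit 4756, nat_lit 9384, nat_lit 13920, nat_lit 17088, nat_lit 21312, nat_lit 26240, nat_lit 28928, nat_lit 33280, nat_lit 41977, nat_lit 37157, nat_lit 33383, nat_lit 29757, nat_lit 24716, nat_lit 21005, nat_lit 17409, nat_lit 8195, nat_lit 4097]⟩⟩⟩,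
  ⟨[nat_lit 641, nat_lit 46, nat_lit 54], [], (nat_lit 121), ⟨[nat_lit 0, nat_lit 24, nat_lit 90], [nat_lit 2, nat_lit 59], ⟨[nat_lit 0xbc1e38b835b480d2a9289b282590e6], [nat_lit 174080, nat_lit 170496, nat_lit 167424, nat_lit 162176, nat_lit 157632, nat_lit 154368, nat_lit 150752, nat_lit 144720, nat_lit 143256, nat_lit 135482, nat_lit 133022, nat_lit 158, nat_lit 6104, nat_lit 10144, nat_lit 13312, nat_lit 18336, nat_lit 21376, nat_lit 25984, nat_lit 30464, nat_lit 33792, nat_lit 37888, nat_lit 41970, nat_lit 36942, nat_lit 32820, nat_lit 28692, nat_lit 24585, nat_lit 20508, nat_lit 12322, nat_lit 4105, nat_lit 2]⟩⟩⟩]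
theorem s203 : Suf yT 524288 (ldrop wS 89) (apW dcM p202) (tgtN dcM p202.e) := Suf.seg (l := l203) (by decide +kernel) s204
def l202 : List AP := [⟨[nat_lit 641, nat_lit 46, nat_lit 54], [], (nat_lit 121), ⟨[nat_lit 0, nat_lit 87, nat_lit 55], [nat_lit 0, nat_lit 84, nat_lit 55], ⟨[nat_lit 0x3aa0d48915946805ccce216c363c37], [nat_lit 169472, nat_lit 161536, nat_lit 156864, nat_lit 153120, nat_lit 147824, nat_lit 145088, nat_lit 141676, nat_lit 135776, nat_lit 131979, nat_lit 1136, nat_lit 4100, nat_lit 10088, nat_lit 13248, nat_lit 16672, nat_lit 22336, nat_lit 25728, nat_lit 29696, nat_lit 37888, nat_lit 41964, nat_lit 36972, nat_lit 33916, nat_lit 29045, nat_lit 24627, nat_lit 20505, nat_lit 16429, nat_lit 12327]⟩⟩⟩,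
  ⟨[nat_lit 53, nat_lit 67, nat_lit 53, nat_lit 70, nat_lit 47], [], (nat_lit 1046), ⟨[nat_lit 1, nat_lit 58], [nat_lit 0, nat_lit 83, nat_lit 90], ⟨[nat_lit 0x1bd44ac4a6bcdaea0600b2d12608e9], [nat_lit 170496, nat_lit 164608, nat_lit 160896, nat_lit 157312, nat_lit 151584, nat_lit 147856, nat_lit 144336, nat_lit 140872, nat_lit 137186, nat_lit 131089, nat_lit 344, nat_lit 6084, nat_lit 8704, nat_lit 13552, nat_lit 21888, nat_lit 25344, nat_lit 28928, nat_lit 41582, nat_lit 37248, nat_lit 33449, nat_lit 29184, nat_lit 25646, nat_lit 20761, nat_lit 16416, nat_lit 12290, nat_lit 4097, nat_lit 2]⟩⟩⟩]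
theorem s202 : Suf yT 524288 (ldrop wS 74) (apW dcM p201) (tgtN dcM p201.e) := Suf.seg (l := l202) (by decide +kernel) s203
def l201 : List AP := [⟨[nat_lit 640, nat_lit 48, nat_lit 67, nat_lit 47], [], (nat_lit 120), ⟨[nat_lit 25, nat_lit 52], [nat_lit 36, nat_lit 66], ⟨[nat_lit 0xa0d275903640ae6502a58ca6c73db0], [nat_lit 168448, nat_lit 165376, nat_lit 160384, nat_lit 157632, nat_lit 153408, nat_lit 150944, nat_lit 143872, nat_lit 140372, nat_lit 136966, nat_lit 131488, nat_lit 428, nat_lit 4476, nat_lit 8408, nat_lit 14192, nat_lit 16448, nat_lit 25600, nat_lit 30208, nat_lit 41040, nat_lit 37366, nat_lit 33318, nat_lit 28999, nat_lit 24893, nat_lit 20554, nat_lit 16386, nat_lit 12292, nat_lit 8200, nat_lit 4113, nat_lit 2]⟩⟩⟩,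
  ⟨[nat_lit 69, nat_lit 642, nat_lit 50], [], (nat_lit 120), ⟨[nat_lit 19, nat_lit 59], [nat_lit 0, nat_lit 29, nat_lit 50], ⟨[nat_lit 0xb05a76105570ee6782855a9119ca09], [nat_lit 168448, nat_lit 165632, nat_lit 160000, nat_lit 156160, nat_lit 152064, nat_lit 151088, nat_lit 145296, nat_lit 139604, nat_lit 135608, nat_lit 132760, nat_lit 1928, nat_lit 5508, nat_lit 9448, nat_lit 13472, nat_lit 16896, nat_lit 22336, nat_lit 28928, nat_lit 33280, nat_lit 41383, nat_lit 36956, nat_lit 32912, nat_lit 28928, nat_lit 25099, nat_lit 21508, nat_lit 12807, nat_lit 8259, nat_lit 4105, nat_lit 8]⟩⟩⟩]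
theorem s201 : Suf yT 524288 (ldrop wS 59) (apW dcM p200) (tgtN dcM p200.e) := Suf.seg (l := l201) (by decide +kernel) s202
def l200 : List AP := [⟨[nat_lit 70, nat_lit 71, nat_lit 71, nat_lit 47], [], (nat_lit 120), ⟨[nat_lit 0, nat_lit 5, nat_lit 63], [nat_lit 0, nat_lit 86, nat_lit 94], ⟨[nat_lit 0x60e874416a0bea66dc048ca6913ac5], [nat_lit 164096, nat_lit 160384, nat_lit 157952, nat_lit 153376, nat_lit 149264, nat_lit 144912, nat_lit 140040, nat_lit 136224, nat_lit 131373, nat_lit 568, nat_lit 5444, nat_lit 10224, nat_lit 12384, nat_lit 18272, nat_lit 21376, nat_lit 24704, nat_lit 30208, nat_lit 33792, nat_lit 41664, nat_lit 37326, nat_lit 33406, nat_lit 28963, nat_lit 24607, nat_lit 20483, nat_lit 16461, nat_lit 12355, nat_lit 4113, nat_lit 2]⟩⟩⟩,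
  ⟨[nat_lit 643, nat_lit 643, nat_lit 70, nat_lit 46], [], (nat_lit 120), ⟨[nat_lit 0, nat_lit 75, nat_lit 91], [nat_lit 0, nat_lit 23, nat_lit 54], ⟨[nat_lit 0x32ecc0c0a790e971362e9a900491f5], [nat_lit 173056, nat_lit 168448, nat_lit 164608, nat_lit 161408, nat_lit 158720, nat_lit 151808, nat_lit 147760, nat_lit 145280, nat_lit 139988, nat_lit 136430, nat_lit 132392, nat_lit 1698, nat_lit 4780, nat_lit 9240, nat_lit 14112, nat_lit 16448, nat_lit 21952, nat_lit 25216, nat_lit 29440, nat_lit 33280, nat_lit 41969, nat_lit 36928, nat_lit 33981, nat_lit 28736, nat_lit 24741, nat_lit 20567, nat_lit 16391, nat_lit 12290, nat_lit 8211, nat_lit 4104]⟩⟩⟩]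
theorem s200 : Suf yT 524288 (ldrop wS 44) (apW dcM p199) (tgtN dcM p199.e) := Suf.seg (l := l200) (by decide +kernel) s201
def l199 : List AP := [⟨[nat_lit 173, nat_lit 173], [], (nat_lit 396), ⟨[nat_lit 0, nat_lit 27, nat_lit 70], [nat_lit 83, nat_lit 63], ⟨[nat_lit 0x24905b986d9804ba2ab04be2c09ece], [nat_lit 175104, nat_lit 168448, nat_lit 164352, nat_lit 161408, nat_lit 152096, nat_lit 149344, nat_lit 143408, nat_lit 141188, nat_lit 135772, nat_lit 131201, nat_lit 1292, nat_lit 5668, nat_lit 9136, nat_lit 12928, nat_lit 16768, nat_lit 21568, nat_lit 24704, nat_lit 29184, nat_lit 41896, nat_lit 38176, nat_lit 33896, nat_lit 28992, nat_lit 24865, nat_lit 20545, nat_lit 16394, nat_lit 12308, nat_lit 8195, nat_lit 4100, nat_lit 2]⟩⟩⟩,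
  ⟨[nat_lit 50], [], (nat_lit 1046), ⟨[nat_lit 26, nat_lit 47], [nat_lit 18, nat_lit 55], ⟨[nat_lit 0x24905b986d9804ba2ab04be2c09ece], [nat_lit 174080, nat_lit 168448, nat_lit 164352, nat_lit 161408, nat_lit 152064, nat_lit 149344, nat_lit 143408, nat_lit 141188, nat_lit 135772, nat_lit 131200, nat_lit 1292, nat_lit 5668, nat_lit 9136, nat_lit 12928, nat_lit 16768, nat_lit 21568, nat_lit 24704, nat_lit 29184, nat_lit 41896, nat_lit 38176, nat_lit 33896, nat_lit 28992, nat_lit 24865, nat_lit 20545, nat_lit 16394, nat_lit 12308, nat_lit 8195, nat_lit 4100, nat_lit 2]⟩⟩⟩]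
theorem s199 : Suf yT 524288 (ldrop wS 38) (apW dcM p198) (tgtN dcM p198.e) := Suf.seg (l := l199) (by decide +kernel) s200
def l198 : List AP := [⟨[nat_lit 179, nat_lit 216], [], (nat_lit 396), ⟨[nat_lit 0, nat_lit 25, nat_lit 68], [nat_lit 9, nat_lit 60], ⟨[nat_lit 0x68ae78a8c485a8b28df5901016266e], [nat_lit 175104, nat_lit 171008, nat_lit 166912, nat_lit 160768, nat_lit 156736, nat_lit 151936, nat_lit 150896, nat_lit 143384, nat_lit 140764, nat_lit 138552, nat_lit 133439, nat_lit 166, nat_lit 5932, nat_lit 9560, nat_lit 13552, nat_lit 17056, nat_lit 21568, nat_lit 26496, nat_lit 29184, nat_lit 33792, nat_lit 37888, nat_lit 41254, nat_lit 37245, nat_lit 33453, nat_lit 28973, nat_lit 24752, nat_lit 20500, nat_lit 16431, nat_lit 12295, nat_lit 8195, nat_lit 4101]⟩⟩⟩,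
  ⟨[nat_lit 70, nat_lit 71, nat_lit 71, nat_lit 47], [], (nat_lit 120), ⟨[nat_lit 0, nat_lit 61], [nat_lit 0, nat_lit 10, nat_lit 64], ⟨[nat_lit 0x20a47495b47a2a61cef68056a045cc], [nat_lit 164096, nat_lit 162688, nat_lit 156608, nat_lit 152608, nat_lit 147536, nat_lit 144584, nat_lit 141036, nat_lit 136204, nat_lit 132401, nat_lit 318, nat_lit 5768, nat_lit 9648, nat_lit 12688, nat_lit 18240, nat_lit 21760, nat_lit 25216, nat_lit 29184, nat_lit 37888, nat_lit 41562, nat_lit 37323, nat_lit 33380, nat_lit 28690, nat_lit 25131, nat_lit 20481, nat_lit 16527, nat_lit 12306, nat_lit 8203, nat_lit 4105, nat_lit 8]⟩⟩⟩]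
theorem s198 : Suf yT 524288 (ldrop wS 23) (apW dcM p197) (tgtN dcM p197.e) := Suf.seg (l := l198) (by decide +kernel) s199
def l197 : List AP := [⟨[nat_lit 174, nat_lit 173, nat_lit 171], [], (nat_lit 396), ⟨[nat_lit 79, nat_lit 56], [nat_lit 0, nat_lit 87, nat_lit 63], ⟨[nat_lit 0xad8c47ad2c521ae146603d0b790470], [nat_lit 173056, nat_lit 171520, nat_lit 165888, nat_lit 161792, nat_lit 159552, nat_lit 152672, nat_lit 149984, nat_lit 147072, nat_lit 141136, nat_lit 137316, nat_lit 132907, nat_lit 1076, nat_lit 5072, nat_lit 8504, nat_lit 16448, nat_lit 22336, nat_lit 25472, nat_lit 33792, nat_lit 37888, nat_lit 41194, nat_lit 37348, nat_lit 32775, nat_lit 28682, nat_lit 25144, nat_lit 21022, nat_lit 16417, nat_lit 12290, nat_lit 8256, nat_lit 16]⟩⟩⟩,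
  ⟨[nat_lit 51, nat_lit 642, nat_lit 640, nat_lit 55, nat_lit 46], [], (nat_lit 1046), ⟨[nat_lit 0, nat_lit 1, nat_lit 51], [nat_lit 57], ⟨[nat_lit 0x9c0ad652a74a08e02ed1784c3b8a4a], [nat_lit 173056, nat_lit 168448, nat_lit 164352, nat_lit 161664, nat_lit 156288, nat_lit 154400, nat_lit 147744, nat_lit 143848, nat_lit 140568, nat_lit 136630, nat_lit 131173, nat_lit 1842, nat_lit 4932, nat_lit 8224, nat_lit 17792, nat_lit 26496, nat_lit 30464, nat_lit 37888, nat_lit 41926, nat_lit 38199, nat_lit 34022, nat_lit 29265, nat_lit 25116, nat_lit 20507, nat_lit 16419, nat_lit 12307, nat_lit 4105]⟩⟩⟩]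
theorem s197 : Suf yT 524288 (ldrop wS 8) (apW dcM p196) (tgtN dcM p196.e) := Suf.seg (l := l197) (by decide +kernel) s198
def l196 : List AP := [⟨[nat_lit 3, nat_lit 6, nat_lit 628, nat_lit 8, nat_lit 625, nat_lit 11], [], (nat_lit 40), ⟨[nat_lit 9, nat_lit 54], [nat_lit 17, nat_lit 92], ⟨[nat_lit 0x99e9681803abd2245c2c5164b6ba24], [nat_lit 174080, nat_lit 164864, nat_lit 160128, nat_lit 156352, nat_lit 152352, nat_lit 148080, nat_lit 145264, nat_lit 140812, nat_lit 136712, nat_lit 132098, nat_lit 508, nat_lit 4568, nat_lit 9136, nat_lit 12304, nat_lit 17120, nat_lit 20672, nat_lit 25344, nat_lit 37888, nat_lit 41088, nat_lit 37245, nat_lit 33291, nat_lit 29696, nat_lit 24846, nat_lit 20557, nat_lit 16423, nat_lit 12353, nat_lit 4112, nat_lit 8]⟩⟩⟩,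
  ⟨[nat_lit 634, nat_lit 638, nat_lit 21, nat_lit 30, nat_lit 27, nat_lit 21], [], (nat_lit 338), ⟨[nat_lit 0, nat_lit 38, nat_lit 67], [nat_lit 0, nat_lit 71, nat_lit 92], ⟨[nat_lit 0x582911dd306848291a6ead8ec53ca8], [nat_lit 175104, nat_lit 165376, nat_lit 160256, nat_lit 158720, nat_lit 155392, nat_lit 150512, nat_lit 145088, nat_lit 143064, nat_lit 135214, nat_lit 135127, nat_lit 1396, nat_lit 4836, nat_lit 9312, nat_lit 13136, nat_lit 17568, nat_lit 21824, nat_lit 24832, nat_lit 28928, nat_lit 33280, nat_lit 41052, nat_lit 36963, nat_lit 32821, nat_lit 28702, nat_lit 24577, nat_lit 20756, nat_lit 16517, nat_lit 12305, nat_lit 8323, nat_lit 4105]⟩⟩⟩]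
theorem rS7 : Suf yT 524288 wS [yT.get 41] 0 := Suf.seg (l := l196) (by decide +kernel) s197

def p210 : AP := ⟨[nat_lit 72, nat_lit 66], [], (nat_lit 126), ⟨[nat_lit 32, nat_lit 48], [nat_lit 14, nat_lit 49], ⟨[nat_lit 0x3269352de3385c5920968362265ea0], [nat_lit 173056, nat_lit 170496, nat_lit 167424, nat_lit 162304, nat_lit 159232, nat_lit 151744, nat_lit 150288, nat_lit 145616, nat_lit 141076, nat_lit 138702, nat_lit 131660, nat_lit 986, nat_lit 5856, nat_lit 9328, nat_lit 14288, nat_lit 18048, nat_lit 21632, nat_lit 25344, nat_lit 29952, nat_lit 34304, nat_lit 41805, nat_lit 37074, nat_lit 33001, nat_lit 28931, nat_lit 24728, nat_lit 20573, nat_lit 16398, nat_lit 12306, nat_lit 8193, nat_lit 4097]⟩⟩⟩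
def p211 : AP := ⟨[nat_lit 173, nat_lit 663], [], (nat_lit 396), ⟨[nat_lit 0, nat_lit 25, nat_lit 94], [nat_lit 0, nat_lit 7, nat_lit 92], ⟨[nat_lit 0x23d8292eed818312d41451d23b226e], [nat_lit 173056, nat_lit 170496, nat_lit 167424, nat_lit 163456, nat_lit 159040, nat_lit 152800, nat_lit 151520, nat_lit 146432, nat_lit 139968, nat_lit 138480, nat_lit 131297, nat_lit 1530, nat_lit 5228, nat_lit 9904, nat_lit 13456, nat_lit 17792, nat_lit 20992, nat_lit 26496, nat_lit 29440, nat_lit 33280, nat_lit 41427, nat_lit 37221, nat_lit 32806, nat_lit 28732, nat_lit 24621, nat_lit 20498, nat_lit 16398, nat_lit 12289, nat_lit 8194, nat_lit 4097, nat_lit 2]⟩⟩⟩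
def p212 : AP := ⟨[nat_lit 660, nat_lit 660, nat_lit 170], [], (nat_lit 396), ⟨[nat_lit 38, nat_lit 67], [nat_lit 25, nat_lit 50], ⟨[nat_lit 0x3896d0154c1a1c4484cf9cab1a5e16], [nat_lit 168448, nat_lit 165120, nat_lit 162176, nat_lit 156160, nat_lit 153536, nat_lit 148496, nat_lit 145376, nat_lit 141224, nat_lit 135888, nat_lit 131897, nat_lit 568, nat_lit 4476, nat_lit 9928, nat_lit 13616, nat_lit 17472, nat_lit 20608, nat_lit 24704, nat_lit 29184, nat_lit 37888, nat_lit 41600, nat_lit 38191, nat_lit 33335, nat_lit 28703, nat_lit 24578, nat_lit 20493, nat_lit 16527, nat_lit 12325, nat_lit 8193, nat_lit 4160]⟩⟩⟩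
def p213 : AP := ⟨[nat_lit 46, nat_lit 55, nat_lit 54, nat_lit 47], [], (nat_lit 120), ⟨[nat_lit 0, nat_lit 86, nat_lit 69], [nat_lit 79, nat_lit 48], ⟨[nat_lit 0x81847724960cef59358342e20a28af], [nat_lit 174080, nat_lit 168448, nat_lit 165888, nat_lit 162176, nat_lit 157760, nat_lit 152384, nat_lit 149328, nat_lit 143624, nat_lit 141316, nat_lit 138750, nat_lit 132053, nat_lit 122, nat_lit 5444, nat_lit 8784, nat_lit 14144, nat_lit 18048, nat_lit 20608, nat_lit 25472, nat_lit 29184, nat_lit 34304, nat_lit 37888, nat_lit 41228, nat_lit 36882, nat_lit 33862, nat_lit 28674, nat_lit 24597, nat_lit 20503, nat_lit 16426, nat_lit 12311, nat_lit 8210, nat_lit 4]⟩⟩⟩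
def p214 : AP := ⟨[nat_lit 217, nat_lit 172], [], (nat_lit 396), ⟨[nat_lit 0, nat_lit 45, nat_lit 91], [nat_lit 0, nat_lit 86, nat_lit 62], ⟨[nat_lit 0x72d331c42d2dd40354488519691de4], [nat_lit 169984, nat_lit 164352, nat_lit 159872, nat_lit 156672, nat_lit 152512, nat_lit 147488, nat_lit 143456, nat_lit 140484, nat_lit 135552, nat_lit 132199, nat_lit 1166, nat_lit 4444, nat_lit 9256, nat_lit 14176, nat_lit 22144, nat_lit 26240, nat_lit 30208, nat_lit 33280, nat_lit 37888, nat_lit 41632, nat_lit 38358, nat_lit 29762, nat_lit 24757, nat_lit 20611, nat_lit 16460, nat_lit 12307, nat_lit 8258, nat_lit 4113, nat_lit 4]⟩⟩⟩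
def p215 : AP := ⟨[nat_lit 176, nat_lit 663], [], (nat_lit 418), ⟨[nat_lit 0, nat_lit 12, nat_lit 62], [nat_lit 0, nat_lit 78, nat_lit 93], ⟨[nat_lit 0x9054b11c9049acea5471430b7681f3], [nat_lit 174080, nat_lit 168448, nat_lit 164352, nat_lit 162176, nat_lit 156672, nat_lit 152256, nat_lit 150432, nat_lit 145440, nat_lit 143028, nat_lit 137862, nat_lit 134528, nat_lit 1318, nat_lit 4684, nat_lit 8680, nat_lit 13712, nat_lit 18112, nat_lit 21888, nat_lit 24960, nat_lit 29184, nat_lit 37888, nat_lit 41883, nat_lit 38242, nat_lit 32937, nat_lit 28928, nat_lit 24617, nat_lit 20558, nat_lit 16398, nat_lit 12304, nat_lit 8200, nat_lit 4101, nat_lit 2]⟩⟩⟩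
def p216 : AP := ⟨[nat_lit 70, nat_lit 643, nat_lit 53, nat_lit 55], [], (nat_lit 120), ⟨[nat_lit 16, nat_lit 66], [nat_lit 44, nat_lit 57], ⟨[nat_lit 0x1aa67245602b2e683eb27251608a8d], [nat_lit 171520, nat_lit 165120, nat_lit 161024, nat_lit 156736, nat_lit 152032, nat_lit 149472, nat_lit 144160, nat_lit 139928, nat_lit 136884, nat_lit 132738, nat_lit 1004, nat_lit 4128, nat_lit 8704, nat_lit 12736, nat_lit 16704, nat_lit 22016, nat_lit 25344, nat_lit 29440, nat_lit 37888, nat_lit 41958, nat_lit 38300, nat_lit 34022, nat_lit 29798, nat_lit 25111, nat_lit 20574, nat_lit 16389, nat_lit 12359, nat_lit 4104]⟩⟩⟩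
def p217 : AP := ⟨[nat_lit 641, nat_lit 66], [], (nat_lit 1046), ⟨[nat_lit 83, nat_lit 70], [nat_lit 0, nat_lit 3, nat_lit 63], ⟨[nat_lit 0x1262e99656abc8d304173aa8b1c188], [nat_lit 169472, nat_lit 164352, nat_lit 163072, nat_lit 157632, nat_lit 147680, nat_lit 144728, nat_lit 140876, nat_lit 136342, nat_lit 132559, nat_lit 952, nat_lit 4540, nat_lit 8736, nat_lit 12416, nat_lit 17856, nat_lit 20544, nat_lit 24832, nat_lit 28928, nat_lit 33792, nat_lit 37888, nat_lit 41527, nat_lit 38327, nat_lit 33325, nat_lit 28768, nat_lit 24737, nat_lit 20628, nat_lit 16418, nat_lit 8210, nat_lit 64]⟩⟩⟩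
def p218 : AP := ⟨[nat_lit 50], [], (nat_lit 1046), ⟨[nat_lit 16, nat_lit 54], [nat_lit 0, nat_lit 14, nat_lit 94], ⟨[nat_lit 0x688140ae2441470b32727dd4939aae], [nat_lit 173056, nat_lit 170496, nat_lit 167680, nat_lit 162176, nat_lit 158144, nat_lit 153184, nat_lit 150336, nat_lit 145432, nat_lit 140516, nat_lit 137794, nat_lit 132931, nat_lit 342, nat_lit 5228, nat_lit 9136, nat_lit 12736, nat_lit 16480, nat_lit 21504, nat_lit 28928, nat_lit 33280, nat_lit 37888, nat_lit 41305, nat_lit 36870, nat_lit 33887, nat_lit 28691, nat_lit 24630, nat_lit 20486, nat_lit 16458, nat_lit 12295, nat_lit 8194, nat_lit 4097, nat_lit 2]⟩⟩⟩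
def p219 : AP := ⟨[nat_lit 72, nat_lit 53, nat_lit 66, nat_lit 48], [], (nat_lit 120), ⟨[nat_lit 0, nat_lit 76, nat_lit 58], [nat_lit 22, nat_lit 67], ⟨[nat_lit 0xba8830592664a305d0a274daf0a0f5], [nat_lit 173056, nat_lit 170496, nat_lit 165632, nat_lit 162432, nat_lit 156928, nat_lit 153728, nat_lit 150160, nat_lit 146968, nat_lit 140932, nat_lit 135746, nat_lit 133905, nat_lit 2018, nat_lit 5668, nat_lit 8824, nat_lit 13648, nat_lit 17184, nat_lit 22336, nat_lit 25088, nat_lit 33280, nat_lit 37888, nat_lit 41650, nat_lit 37285, nat_lit 32875, nat_lit 29305, nat_lit 24731, nat_lit 20511, nat_lit 16399, nat_lit 12289, nat_lit 8195, nat_lit 4]⟩⟩⟩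
def p220 : AP := ⟨[nat_lit 215, nat_lit 178], [], (nat_lit 419), ⟨[nat_lit 0, nat_lit 19, nat_lit 50], [nat_lit 0, nat_lit 33, nat_lit 58], ⟨[nat_lit 0x4d4926a02b60a133da2aa5c6f299c0], [nat_lit 173056, nat_lit 167168, nat_lit 160384, nat_lit 157440, nat_lit 152064, nat_lit 149488, nat_lit 144288, nat_lit 139528, nat_lit 136906, nat_lit 132277, nat_lit 256, nat_lit 5228, nat_lit 9136, nat_lit 14304, nat_lit 16544, nat_lit 22464, nat_lit 25984, nat_lit 33792, nat_lit 37888, nat_lit 41541, nat_lit 38363, nat_lit 32879, nat_lit 29238, nat_lit 24873, nat_lit 20616, nat_lit 16902, nat_lit 12304, nat_lit 8258, nat_lit 4160]⟩⟩⟩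
def p221 : AP := ⟨[nat_lit 639, nat_lit 640, nat_lit 47], [], (nat_lit 121), ⟨[nat_lit 0, nat_lit 10, nat_lit 60], [nat_lit 5, nat_lit 67], ⟨[nat_lit 0x62a9733d04148f55b671b00b01b829], [nat_lit 175104, nat_lit 170496, nat_lit 166656, nat_lit 161280, nat_lit 159168, nat_lit 154272, nat_lit 148832, nat_lit 145936, nat_lit 140704, nat_lit 137076, nat_lit 131345, nat_lit 434, nat_lit 5992, nat_lit 8408, nat_lit 12352, nat_lit 16928, nat_lit 22336, nat_lit 25984, nat_lit 29184, nat_lit 33792, nat_lit 37888, nat_lit 41363, nat_lit 37096, nat_lit 33000, nat_lit 28928, nat_lit 24752, nat_lit 20511, nat_lit 16423, nat_lit 12304, nat_lit 32]⟩⟩⟩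
def p222 : AP := ⟨[nat_lit 67, nat_lit 51], [], (nat_lit 122), ⟨[nat_lit 17, nat_lit 63], [nat_lit 0, nat_lit 2, nat_lit 63], ⟨[nat_lit 0x2c1069d2eb23c16904495359170ea7], [nat_lit 173056, nat_lit 168960, nat_lit 164096, nat_lit 160768, nat_lit 155968, nat_lit 154688, nat_lit 148192, nat_lit 143560, nat_lit 140144, nat_lit 136896, nat_lit 132444, nat_lit 1214, nat_lit 4484, nat_lit 10168, nat_lit 12320, nat_lit 17024, nat_lit 21504, nat_lit 25984, nat_lit 29440, nat_lit 34304, nat_lit 41967, nat_lit 37079, nat_lit 33805, nat_lit 29016, nat_lit 24582, nat_lit 16522, nat_lit 12292, nat_lit 8200, nat_lit 4161]⟩⟩⟩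
def l223 : List AP := [⟨[nat_lit 630, nat_lit 629], [], (nat_lit 1032), ⟨[nat_lit 0, nat_lit 29, nat_lit 92], [nat_lit 0, nat_lit 44, nat_lit 50], ⟨[nat_lit 0x95c0f2154742d26834768b281a89d3], [nat_lit 169472, nat_lit 164096, nat_lit 163712, nat_lit 156032, nat_lit 153120, nat_lit 148640, nat_lit 144136, nat_lit 140368, nat_lit 136306, nat_lit 131715, nat_lit 718, nat_lit 6068, nat_lit 8320, nat_lit 13344, nat_lit 18336, nat_lit 21120, nat_lit 25472, nat_lit 30208, nat_lit 41642, nat_lit 37341, nat_lit 33310, nat_lit 29027, nat_lit 24625, nat_lit 20569, nat_lit 16390, nat_lit 12293, nat_lit 4112]⟩⟩⟩]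
theorem s223 : Suf yT 1048576 (ldrop wS 161) (apW dcM p222) (tgtN dcM p222.e) := Suf.fin' (l := l223) (by decide +kernel)
def l222 : List AP := [⟨[nat_lit 56, nat_lit 51, nat_lit 54, nat_lit 46], [], (nat_lit 120), ⟨[nat_lit 0, nat_lit 17], [nat_lit 33], ⟨[nat_lit 0x3589580c322d0f798a20721aa7b169], [nat_lit 173056, nat_lit 169472, nat_lit 164096, nat_lit 160384, nat_lit 156480, nat_lit 153120, nat_lit 149472, nat_lit 147160, nat_lit 141280, nat_lit 136886, nat_lit 132897, nat_lit 724, nat_lit 5072, nat_lit 8928, nat_lit 13200, nat_lit 16864, nat_lit 22336, nat_lit 26496, nat_lit 29184, nat_lit 33280, nat_lit 37888, nat_lit 41016, nat_lit 37322, nat_lit 32877, nat_lit 29211, nat_lit 24745, nat_lit 20511, nat_lit 16416, nat_lit 12311, nat_lit 8194, nat_lit 16]⟩⟩⟩,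
  ⟨[nat_lit 643], [], (nat_lit 127), ⟨[nat_lit 8, nat_lit 93], [nat_lit 0, nat_lit 42, nat_lit 60], ⟨[nat_lit 0x346593a67122907a5640aaf1ad986], [nat_lit 174080, nat_lit 171008, nat_lit 166656, nat_lit 162304, nat_lit 156352, nat_lit 155456, nat_lit 149568, nat_lit 143520, nat_lit 141524, nat_lit 137084, nat_lit 132484, nat_lit 1720, nat_lit 5768, nat_lit 9136, nat_lit 12736, nat_lit 17600, nat_lit 21696, nat_lit 26240, nat_lit 29696, nat_lit 34304, nat_lit 41831, nat_lit 38252, nat_lit 33843, nat_lit 28729, nat_lit 24847, nat_lit 20637, nat_lit 16463, nat_lit 12356, nat_lit 8193, nat_lit 4]⟩⟩⟩]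
theorem s222 : Suf yT 1048576 (ldrop wS 146) (apW dcM p221) (tgtN dcM p221.e) := Suf.seg (l := l222) (by decide +kernel) s223
def l221 : List AP := [⟨[nat_lit 177, nat_lit 173], [], (nat_lit 419), ⟨[nat_lit 21, nat_lit 60], [nat_lit 10, nat_lit 59], ⟨[nat_lit 0x83aef52e9208eb14b004419a22d8f3], [nat_lit 173056, nat_lit 171520, nat_lit 166400, nat_lit 162688, nat_lit 158208, nat_lit 152224, nat_lit 151392, nat_lit 145672, nat_lit 140420, nat_lit 138264, nat_lit 132225, nat_lit 404, nat_lit 5668, nat_lit 9128, nat_lit 13088, nat_lit 18112, nat_lit 21568, nat_lit 26240, nat_lit 29952, nat_lit 33792, nat_lit 41366, nat_lit 36982, nat_lit 32966, nat_lit 29001, nat_lit 24848, nat_lit 21000, nat_lit 16394, nat_lit 12308, nat_lit 8201, nat_lit 4100]⟩⟩⟩,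
  ⟨[nat_lit 217, nat_lit 172], [], (nat_lit 396), ⟨[nat_lit 0, nat_lit 28, nat_lit 60], [nat_lit 0, nat_lit 9, nat_lit 64], ⟨[nat_lit 0x698371d8ee44d4992e1160a85a81e4], [nat_lit 171008, nat_lit 164352, nat_lit 163456, nat_lit 156480, nat_lit 154560, nat_lit 150320, nat_lit 146576, nat_lit 139820, nat_lit 137138, nat_lit 134148, nat_lit 680, nat_lit 4896, nat_lit 9328, nat_lit 14192, nat_lit 16512, nat_lit 21824, nat_lit 25344, nat_lit 30208, nat_lit 33792, nat_lit 41253, nat_lit 37046, nat_lit 33972, nat_lit 28785, nat_lit 24597, nat_lit 20637, nat_lit 16385, nat_lit 12290, nat_lit 8224, nat_lit 4105]⟩⟩⟩]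
theorem s221 : Suf yT 1048576 (ldrop wS 140) (apW dcM p220) (tgtN dcM p220.e) := Suf.seg (l := l221) (by decide +kernel) s222
def l220 : List AP := [⟨[nat_lit 641, nat_lit 46, nat_lit 54], [], (nat_lit 121), ⟨[nat_lit 21, nat_lit 64], [nat_lit 0, nat_lit 29, nat_lit 60], ⟨[nat_lit 0x32671905f540c0568a145118eb2ee7], [nat_lit 173056, nat_lit 169472, nat_lit 165632, nat_lit 159872, nat_lit 156992, nat_lit 152832, nat_lit 148656, nat_lit 144816, nat_lit 139948, nat_lit 138696, nat_lit 131844, nat_lit 1180, nat_lit 4328, nat_lit 9488, nat_lit 13264, nat_lit 16768, nat_lit 20608, nat_lit 25344, nat_lit 29952, nat_lit 34304, nat_lit 41642, nat_lit 36994, nat_lit 32922, nat_lit 28796, nat_lit 24705, nat_lit 20506, nat_lit 16398, nat_lit 12295, nat_lit 8203, nat_lit 4097]⟩⟩⟩,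
  ⟨[nat_lit 53, nat_lit 66, nat_lit 46, nat_lit 48, nat_lit 46], [], (nat_lit 1046), ⟨[nat_lit 71, nat_lit 93], [nat_lit 0, nat_lit 88, nat_lit 60], ⟨[nat_lit 0x3802419845525cd5a1eca4ab3b42f1], [nat_lit 175104, nat_lit 169472, nat_lit 165376, nat_lit 160256, nat_lit 156352, nat_lit 152768, nat_lit 149120, nat_lit 143480, nat_lit 140856, nat_lit 135182, nat_lit 132604, nat_lit 1652, nat_lit 5688, nat_lit 9352, nat_lit 13248, nat_lit 16896, nat_lit 24704, nat_lit 29184, nat_lit 34304, nat_lit 37888, nat_lit 37324, nat_lit 33282, nat_lit 29033, nat_lit 24846, nat_lit 20631, nat_lit 16419, nat_lit 12547, nat_lit 8201, nat_lit 4112, nat_lit 2]⟩⟩⟩]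
theorem s220 : Suf yT 1048576 (ldrop wS 125) (apW dcM p219) (tgtN dcM p219.e) := Suf.seg (l := l220) (by decide +kernel) s221
def l219 : List AP := [⟨[nat_lit 175, nat_lit 174], [], (nat_lit 396), ⟨[nat_lit 0, nat_lit 83, nat_lit 49], [nat_lit 40, nat_lit 49], ⟨[nat_lit 0x34604b514b181ae455377882c2ce47], [nat_lit 173056, nat_lit 164096, nat_lit 160256, nat_lit 156032, nat_lit 155552, nat_lit 147520, nat_lit 144120, nat_lit 140912, nat_lit 137192, nat_lit 131380, nat_lit 1214, nat_lit 4412, nat_lit 9232, nat_lit 13728, nat_lit 26240, nat_lit 33280, nat_lit 41012, nat_lit 36925, nat_lit 32839, nat_lit 28718, nat_lit 24598, nat_lit 20496, nat_lit 16418, nat_lit 12422, nat_lit 8259, nat_lit 4112]⟩⟩⟩,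
  ⟨[nat_lit 54, nat_lit 639, nat_lit 57, nat_lit 72], [], (nat_lit 120), ⟨[nat_lit 1, nat_lit 46], [nat_lit 0, nat_lit 44, nat_lit 57], ⟨[nat_lit 0x7b047742abb02e64a8642ce41451b1], [nat_lit 168960, nat_lit 159872, nat_lit 159168, nat_lit 151936, nat_lit 148416, nat_lit 143592, nat_lit 140964, nat_lit 136302, nat_lit 132490, nat_lit 1004, nat_lit 4608, nat_lit 10024, nat_lit 12496, nat_lit 18272, nat_lit 21824, nat_lit 24832, nat_lit 30464, nat_lit 33280, nat_lit 37888, nat_lit 41891, nat_lit 37159, nat_lit 32880, nat_lit 29795, nat_lit 24586, nat_lit 20739, nat_lit 16417, nat_lit 12354, nat_lit 8707, nat_lit 4113, nat_lit 2]⟩⟩⟩]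
theorem s219 : Suf yT 1048576 (ldrop wS 110) (apW dcM p218) (tgtN dcM p218.e) := Suf.seg (l := l219) (by decide +kernel) s220
def l218 : List AP := [⟨[nat_lit 663, nat_lit 216, nat_lit 171], [], (nat_lit 418), ⟨[nat_lit 31, nat_lit 69], [nat_lit 0, nat_lit 39, nat_lit 58], ⟨[nat_lit 0x31cb278ec92467012eee032886a835], [nat_lit 165376, nat_lit 161152, nat_lit 156736, nat_lit 153440, nat_lit 149056, nat_lit 146864, nat_lit 139852, nat_lit 135980, nat_lit 132293, nat_lit 1770, nat_lit 4104, nat_lit 9968, nat_lit 12528, nat_lit 16864, nat_lit 25216, nat_lit 29440, nat_lit 37888, nat_lit 41054, nat_lit 37043, nat_lit 32988, nat_lit 29028, nat_lit 24598, nat_lit 20608, nat_lit 16392, nat_lit 12311, nat_lit 8202]⟩⟩⟩,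
  ⟨[nat_lit 170, nat_lit 175], [], (nat_lit 396), ⟨[nat_lit 12, nat_lit 49], [nat_lit 0, nat_lit 24, nat_lit 68], ⟨[nat_lit 0x688140ae2441470b32727dd4939aae], [nat_lit 169984, nat_lit 167424, nat_lit 162048, nat_lit 158080, nat_lit 153184, nat_lit 150336, nat_lit 145424, nat_lit 140512, nat_lit 137794, nat_lit 132930, nat_lit 342, nat_lit 5228, nat_lit 9136, nat_lit 12736, nat_lit 16480, nat_lit 21504, nat_lit 28928, nat_lit 33280, nat_lit 37888, nat_lit 41305, nat_lit 36870, nat_lit 33887, nat_lit 28691, nat_lit 24630, nat_lit 20486, nat_lit 16458, nat_lit 12295, nat_lit 8194, nat_lit 4097, nat_lit 2]⟩⟩⟩]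
theorem s218 : Suf yT 1048576 (ldrop wS 95) (apW dcM p217) (tgtN dcM p217.e) := Suf.seg (l := l218) (by decide +kernel) s219
def l217 : List AP := [⟨[nat_lit 640, nat_lit 54, nat_lit 52], [], (nat_lit 121), ⟨[nat_lit 0, nat_lit 25, nat_lit 50], [nat_lit 0, nat_lit 30, nat_lit 68], ⟨[nat_lit 0xa91ee5951734e908b44953241b0067], [nat_lit 173056, nat_lit 169472, nat_lit 164864, nat_lit 163328, nat_lit 156352, nat_lit 153440, nat_lit 149248, nat_lit 145400, nat_lit 140052, nat_lit 136324, nat_lit 131150, nat_lit 1054, nat_lit 5140, nat_lit 9240, nat_lit 12976, nat_lit 16928, nat_lit 21376, nat_lit 25344, nat_lit 33280, nat_lit 41658, nat_lit 37248, nat_lit 33010, nat_lit 24615, nat_lit 20508, nat_lit 16398, nat_lit 12309, nat_lit 8209, nat_lit 4101]⟩⟩⟩,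
  ⟨[nat_lit 50], [], (nat_lit 120), ⟨[nat_lit 83, nat_lit 56], [nat_lit 85, nat_lit 70], ⟨[nat_lit 0xa91ee5951734e908b44953241b0067], [nat_lit 169472, nat_lit 164864, nat_lit 163328, nat_lit 156288, nat_lit 153408, nat_lit 149264, nat_lit 145392, nat_lit 140052, nat_lit 136326, nat_lit 131150, nat_lit 1054, nat_lit 5140, nat_lit 9240, nat_lit 12976, nat_lit 16928, nat_lit 21376, nat_lit 25344, nat_lit 33280, nat_lit 41658, nat_lit 37248, nat_lit 33010, nat_lit 24615, nat_lit 20508, nat_lit 16398, nat_lit 12309, nat_lit 8209, nat_lit 4101]⟩⟩⟩]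
theorem s217 : Suf yT 1048576 (ldrop wS 89) (apW dcM p216) (tgtN dcM p216.e) := Suf.seg (l := l217) (by decide +kernel) s218
def l216 : List AP := [⟨[nat_lit 179, nat_lit 216], [], (nat_lit 396), ⟨[nat_lit 0, nat_lit 22, nat_lit 56], [nat_lit 0, nat_lit 47], ⟨[nat_lit 0x682b10da4e132f0599497cc7429d04], [nat_lit 170496, nat_lit 164608, nat_lit 162304, nat_lit 156288, nat_lit 154048, nat_lit 151056, nat_lit 145768, nat_lit 139448, nat_lit 135176, nat_lit 134371, nat_lit 680, nat_lit 5940, nat_lit 9904, nat_lit 12416, nat_lit 16416, nat_lit 20992, nat_lit 25472, nat_lit 29184, nat_lit 33280, nat_lit 41026, nat_lit 36913, nat_lit 32867, nat_lit 28729, nat_lit 24854, nat_lit 20497, nat_lit 16385, nat_lit 12416, nat_lit 8259, nat_lit 4101]⟩⟩⟩,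
  ⟨[nat_lit 641, nat_lit 643, nat_lit 70, nat_lit 48], [], (nat_lit 120), ⟨[nat_lit 6, nat_lit 66], [nat_lit 22, nat_lit 47], ⟨[nat_lit 0x38e5711276880d50c2856a92b439ec], [nat_lit 173056, nat_lit 168960, nat_lit 164352, nat_lit 160512, nat_lit 156992, nat_lit 152000, nat_lit 151536, nat_lit 143832, nat_lit 139560, nat_lit 136204, nat_lit 131831, nat_lit 1354, nat_lit 5296, nat_lit 10144, nat_lit 13920, nat_lit 16640, nat_lit 21696, nat_lit 25088, nat_lit 29696, nat_lit 33792, nat_lit 41705, nat_lit 37237, nat_lit 32912, nat_lit 28742, nat_lit 24595, nat_lit 21002, nat_lit 16394, nat_lit 12306, nat_lit 4112, nat_lit 32]⟩⟩⟩]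
theorem s216 : Suf yT 1048576 (ldrop wS 74) (apW dcM p215) (tgtN dcM p215.e) := Suf.seg (l := l216) (by decide +kernel) s217
def l215 : List AP := [⟨[nat_lit 642, nat_lit 640, nat_lit 73, nat_lit 53], [], (nat_lit 1046), ⟨[nat_lit 41, nat_lit 52], [nat_lit 86, nat_lit 93], ⟨[nat_lit 0x9a9e4455201ddcd8156c946820d8e6], [nat_lit 175104, nat_lit 171520, nat_lit 164352, nat_lit 163328, nat_lit 158784, nat_lit 154272, nat_lit 148576, nat_lit 144088, nat_lit 139660, nat_lit 137234, nat_lit 134041, nat_lit 738, nat_lit 5668, nat_lit 8824, nat_lit 12368, nat_lit 16928, nat_lit 22016, nat_lit 25728, nat_lit 29952, nat_lit 34304, nat_lit 41473, nat_lit 37219, nat_lit 33448, nat_lit 29034, nat_lit 24622, nat_lit 20497, nat_lit 16428, nat_lit 12295, nat_lit 8194, nat_lit 4100]⟩⟩⟩,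
  ⟨[nat_lit 214, nat_lit 172], [], (nat_lit 418), ⟨[nat_lit 10, nat_lit 54], [nat_lit 68], ⟨[nat_lit 0x61a90bb8f10aa5302dedb0aa82a483], [nat_lit 175104, nat_lit 170496, nat_lit 167680, nat_lit 162816, nat_lit 156288, nat_lit 154496, nat_lit 150784, nat_lit 143696, nat_lit 142000, nat_lit 135396, nat_lit 131661, nat_lit 1770, nat_lit 5588, nat_lit 10144, nat_lit 12416, nat_lit 16640, nat_lit 22464, nat_lit 24960, nat_lit 28928, nat_lit 33280, nat_lit 37888, nat_lit 41968, nat_lit 38321, nat_lit 32839, nat_lit 28701, nat_lit 24851, nat_lit 21508, nat_lit 16388, nat_lit 12417, nat_lit 8194, nat_lit 4100, nat_lit 128]⟩⟩⟩]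
theorem s215 : Suf yT 1048576 (ldrop wS 59) (apW dcM p214) (tgtN dcM p214.e) := Suf.seg (l := l215) (by decide +kernel) s216
def l214 : List AP := [⟨[nat_lit 643, nat_lit 639, nat_lit 46, nat_lit 47, nat_lit 46], [], (nat_lit 1046), ⟨[nat_lit 0, nat_lit 80, nat_lit 51], [nat_lit 30, nat_lit 65], ⟨[nat_lit 0xade4e101f33c1a48a56c3502851476], [nat_lit 173056, nat_lit 168960, nat_lit 165120, nat_lit 161536, nat_lit 157440, nat_lit 152480, nat_lit 149296, nat_lit 144216, nat_lit 139692, nat_lit 136414, nat_lit 134503, nat_lit 688, nat_lit 5544, nat_lit 10032, nat_lit 12976, nat_lit 17312, nat_lit 21184, nat_lit 26240, nat_lit 28928, nat_lit 34304, nat_lit 37888, nat_lit 41841, nat_lit 38360, nat_lit 33015, nat_lit 28779, nat_lit 24733, nat_lit 20547, nat_lit 16385, nat_lit 12290, nat_lit 8224, nat_lit 4105, nat_lit 2]⟩⟩⟩,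
  ⟨[nat_lit 176, nat_lit 663], [], (nat_lit 419), ⟨[nat_lit 0, nat_lit 14, nat_lit 64], [nat_lit 17, nat_lit 61], ⟨[nat_lit 0x93223512f013eb6714c10350b4d0f3], [nat_lit 173056, nat_lit 165632, nat_lit 161536, nat_lit 155904, nat_lit 152320, nat_lit 151216, nat_lit 145392, nat_lit 140376, nat_lit 136188, nat_lit 132883, nat_lit 606, nat_lit 4868, nat_lit 8440, nat_lit 14016, nat_lit 16416, nat_lit 22208, nat_lit 24832, nat_lit 30208, nat_lit 33792, nat_lit 41343, nat_lit 37063, nat_lit 33937, nat_lit 28784, nat_lit 24704, nat_lit 20504, nat_lit 16390, nat_lit 12322, nat_lit 8210, nat_lit 4105]⟩⟩⟩]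
theorem s214 : Suf yT 1048576 (ldrop wS 44) (apW dcM p213) (tgtN dcM p213.e) := Suf.seg (l := l214) (by decide +kernel) s215
def l213 : List AP := [⟨[nat_lit 641, nat_lit 641, nat_lit 52, nat_lit 55], [], (nat_lit 120), ⟨[nat_lit 37], [nat_lit 13, nat_lit 62], ⟨[nat_lit 0xa8920b9167446542b661b31ca7c066], [nat_lit 173056, nat_lit 168448, nat_lit 164352, nat_lit 161664, nat_lit 156992, nat_lit 152032, nat_lit 151296, nat_lit 144888, nat_lit 139308, nat_lit 136122, nat_lit 133019, nat_lit 786, nat_lit 4888, nat_lit 10184, nat_lit 14192, nat_lit 17408, nat_lit 22336, nat_lit 25600, nat_lit 29440, nat_lit 34304, nat_lit 41870, nat_lit 37980, nat_lit 32826, nat_lit 29262, nat_lit 24597, nat_lit 20491, nat_lit 16385, nat_lit 8257, nat_lit 4129, nat_lit 16]⟩⟩⟩,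
  ⟨[nat_lit 641, nat_lit 46, nat_lit 54], [], (nat_lit 121), ⟨[nat_lit 2, nat_lit 48], [nat_lit 0, nat_lit 41, nat_lit 66], ⟨[nat_lit 0x3d1f234db758062830960a14971635], [nat_lit 173056, nat_lit 171520, nat_lit 164352, nat_lit 161280, nat_lit 157888, nat_lit 152352, nat_lit 148384, nat_lit 145856, nat_lit 143012, nat_lit 139172, nat_lit 134208, nat_lit 1250, nat_lit 6084, nat_lit 9768, nat_lit 12560, nat_lit 17728, nat_lit 22144, nat_lit 26112, nat_lit 33280, nat_lit 37888, nat_lit 41861, nat_lit 36894, nat_lit 33911, nat_lit 28724, nat_lit 24868, nat_lit 20625, nat_lit 16449, nat_lit 12289, nat_lit 8193, nat_lit 4112, nat_lit 2]⟩⟩⟩]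
theorem s213 : Suf yT 1048576 (ldrop wS 38) (apW dcM p212) (tgtN dcM p212.e) := Suf.seg (l := l213) (by decide +kernel) s214
def l212 : List AP := [⟨[nat_lit 50], [], (nat_lit 1046), ⟨[nat_lit 0, nat_lit 30, nat_lit 90], [nat_lit 0, nat_lit 23, nat_lit 47], ⟨[nat_lit 0x23d8292eed818312d41451d23b226e], [nat_lit 173056, nat_lit 170496, nat_lit 167424, nat_lit 163456, nat_lit 158976, nat_lit 152768, nat_lit 151536, nat_lit 146440, nat_lit 139972, nat_lit 138482, nat_lit 131296, nat_lit 1530, nat_lit 5228, nat_lit 9904, nat_lit 13456, nat_lit 17792, nat_lit 20992, nat_lit 26496, nat_lit 29440, nat_lit 33280, nat_lit 41427, nat_lit 37221, nat_lit 32806, nat_lit 28732, nat_lit 24621, nat_lit 20498, nat_lit 16398, nat_lit 12289, nat_lit 8194, nat_lit 4097, nat_lit 2]⟩⟩⟩,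
  ⟨[nat_lit 660, nat_lit 178], [], (nat_lit 418), ⟨[nat_lit 0, nat_lit 4, nat_lit 49], [nat_lit 0, nat_lit 74, nat_lit 69], ⟨[nat_lit 0x15f00ac57a265388d87458866b955], [nat_lit 173056, nat_lit 169984, nat_lit 165888, nat_lit 163072, nat_lit 159296, nat_lit 153248, nat_lit 150384, nat_lit 145464, nat_lit 141020, nat_lit 137350, nat_lit 133085, nat_lit 1336, nat_lit 5532, nat_lit 9136, nat_lit 13712, nat_lit 16864, nat_lit 22272, nat_lit 25600, nat_lit 30208, nat_lit 41367, nat_lit 36930, nat_lit 33834, nat_lit 28774, nat_lit 24635, nat_lit 20557, nat_lit 16390, nat_lit 12352, nat_lit 8208, nat_lit 4101]⟩⟩⟩]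
theorem s212 : Suf yT 1048576 (ldrop wS 23) (apW dcM p211) (tgtN dcM p211.e) := Suf.seg (l := l212) (by decide +kernel) s213
def l211 : List AP := [⟨[nat_lit 46, nat_lit 67, nat_lit 640, nat_lit 73], [], (nat_lit 1046), ⟨[nat_lit 43, nat_lit 63], [nat_lit 2, nat_lit 91], ⟨[nat_lit 0x1c00dbc9f63448e54d2c2a05409d75], [nat_lit 168448, nat_lit 160256, nat_lit 157440, nat_lit 153344, nat_lit 149200, nat_lit 144136, nat_lit 140436, nat_lit 135218, nat_lit 131901, nat_lit 1762, nat_lit 5080, nat_lit 8824, nat_lit 13264, nat_lit 17728, nat_lit 25728, nat_lit 28928, nat_lit 33280, nat_lit 37888, nat_lit 41728, nat_lit 37240, nat_lit 33462, nat_lit 28716, nat_lit 24845, nat_lit 20511, nat_lit 16431, nat_lit 12290, nat_lit 8193]⟩⟩⟩,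
  ⟨[nat_lit 214, nat_lit 175], [], (nat_lit 418), ⟨[nat_lit 0, nat_lit 21, nat_lit 55], [nat_lit 0, nat_lit 33, nat_lit 70], ⟨[nat_lit 0x445363d6908e123de85ad8864394d], [nat_lit 175104, nat_lit 169984, nat_lit 166912, nat_lit 160512, nat_lit 158976, nat_lit 154080, nat_lit 148784, nat_lit 147208, nat_lit 141028, nat_lit 135280, nat_lit 133072, nat_lit 1668, nat_lit 5884, nat_lit 8408, nat_lit 13920, nat_lit 16704, nat_lit 20544, nat_lit 25856, nat_lit 29696, nat_lit 33792, nat_lit 41389, nat_lit 37078, nat_lit 32904, nat_lit 29008, nat_lit 24714, nat_lit 21514, nat_lit 16458, nat_lit 4097]⟩⟩⟩]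
theorem s211 : Suf yT 1048576 (ldrop wS 8) (apW dcM p210) (tgtN dcM p210.e) := Suf.seg (l := l211) (by decide +kernel) s212
def l210 : List AP := [⟨[nat_lit 627, nat_lit 8, nat_lit 10, nat_lit 6, nat_lit 7], [], (nat_lit 1030), ⟨[nat_lit 0, nat_lit 41, nat_lit 89], [nat_lit 0, nat_lit 27, nat_lit 55], ⟨[nat_lit 0x7cdcb80c08a34a20dd86b555122647], [nat_lit 168960, nat_lit 164352, nat_lit 160640, nat_lit 156160, nat_lit 151584, nat_lit 148464, nat_lit 145704, nat_lit 140560, nat_lit 137074, nat_lit 132621, nat_lit 1174, nat_lit 5572, nat_lit 9752, nat_lit 12304, nat_lit 16896, nat_lit 22080, nat_lit 25088, nat_lit 30464, nat_lit 33792, nat_lit 37888, nat_lit 41509, nat_lit 37195, nat_lit 33363, nat_lit 28693, nat_lit 25107, nat_lit 21531, nat_lit 16392, nat_lit 8224, nat_lit 4100]⟩⟩⟩,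
  ⟨[nat_lit 36, nat_lit 631, nat_lit 39, nat_lit 38, nat_lit 16], [], (nat_lit 90), ⟨[nat_lit 0, nat_lit 40, nat_lit 59], [nat_lit 0, nat_lit 73, nat_lit 61], ⟨[nat_lit 0x5cc2252121ae6d79d9672431554a8], [nat_lit 173056, nat_lit 165632, nat_lit 161280, nat_lit 156672, nat_lit 154560, nat_lit 148976, nat_lit 143648, nat_lit 139328, nat_lit 135538, nat_lit 131234, nat_lit 2018, nat_lit 4224, nat_lit 8448, nat_lit 13600, nat_lit 17120, nat_lit 20736, nat_lit 28928, nat_lit 33280, nat_lit 41830, nat_lit 37216, nat_lit 32827, nat_lit 28706, nat_lit 25088, nat_lit 20484, nat_lit 16651, nat_lit 12546, nat_lit 8225, nat_lit 4224, nat_lit 4]⟩⟩⟩]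
theorem rS8 : Suf yT 1048576 wS [yT.get 42] 0 := Suf.seg (l := l210) (by decide +kernel) s211

def p224 : AP := ⟨[nat_lit 72, nat_lit 66], [], (nat_lit 126), ⟨[nat_lit 0, nat_lit 58], [nat_lit 0, nat_lit 80, nat_lit 50], ⟨[nat_lit 0x32676c426a3d4e224b68497715503], [nat_lit 169984, nat_lit 164352, nat_lit 161152, nat_lit 157248, nat_lit 151776, nat_lit 149488, nat_lit 145304, nat_lit 140676, nat_lit 136490, nat_lit 131603, nat_lit 1770, nat_lit 5020, nat_lit 8200, nat_lit 12800, nat_lit 16736, nat_lit 21440, nat_lit 26112, nat_lit 29952, nat_lit 33792, nat_lit 37888, nat_lit 41472, nat_lit 37174, nat_lit 33521, nat_lit 28937, nat_lit 24718, nat_lit 21003, nat_lit 16430, nat_lit 12292, nat_lit 8201, nat_lit 4113, nat_lit 4]⟩⟩⟩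
def p225 : AP := ⟨[nat_lit 67, nat_lit 641, nat_lit 642, nat_lit 47], [], (nat_lit 120), ⟨[nat_lit 25, nat_lit 47], [nat_lit 0, nat_lit 13, nat_lit 67], ⟨[nat_lit 0xa860325a46509853ac0da4d288bdd7], [nat_lit 171520, nat_lit 164352, nat_lit 163200, nat_lit 155712, nat_lit 153760, nat_lit 151456, nat_lit 146304, nat_lit 139952, nat_lit 135388, nat_lit 134177, nat_lit 960, nat_lit 4720, nat_lit 8408, nat_lit 13168, nat_lit 16992, nat_lit 22336, nat_lit 28928, nat_lit 33280, nat_lit 41582, nat_lit 36873, nat_lit 32924, nat_lit 28971, nat_lit 25639, nat_lit 20614, nat_lit 16424, nat_lit 12289, nat_lit 8322, nat_lit 4224, nat_lit 2]⟩⟩⟩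
def p226 : AP := ⟨[nat_lit 661, nat_lit 213, nat_lit 178], [], (nat_lit 418), ⟨[nat_lit 0, nat_lit 45, nat_lit 57], [nat_lit 20, nat_lit 64], ⟨[nat_lit 0x60ed235e8b4167050407145f5239a9], [nat_lit 175104, nat_lit 168960, nat_lit 165120, nat_lit 159872, nat_lit 158528, nat_lit 153888, nat_lit 151424, nat_lit 144920, nat_lit 142572, nat_lit 135218, nat_lit 133150, nat_lit 434, nat_lit 6120, nat_lit 10144, nat_lit 13712, nat_lit 18240, nat_lit 21312, nat_lit 26368, nat_lit 28928, nat_lit 34304, nat_lit 37888, nat_lit 41567, nat_lit 37984, nat_lit 32770, nat_lit 28711, nat_lit 24621, nat_lit 20562, nat_lit 16417, nat_lit 12295, nat_lit 8200, nat_lit 4101]⟩⟩⟩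
def p227 : AP := ⟨[nat_lit 171, nat_lit 213, nat_lit 174], [], (nat_lit 396), ⟨[nat_lit 0, nat_lit 40, nat_lit 89], [nat_lit 0, nat_lit 31, nat_lit 69], ⟨[nat_lit 0xaa62d90e05789c43de81599409d90c], [nat_lit 169472, nat_lit 165376, nat_lit 161024, nat_lit 152672, nat_lit 148832, nat_lit 145872, nat_lit 140092, nat_lit 135838, nat_lit 132669, nat_lit 902, nat_lit 4156, nat_lit 9040, nat_lit 12480, nat_lit 17312, nat_lit 21120, nat_lit 30208, nat_lit 34304, nat_lit 37888, nat_lit 41672, nat_lit 37000, nat_lit 32998, nat_lit 29035, nat_lit 24584, nat_lit 20745, nat_lit 16387, nat_lit 12326, nat_lit 8224, nat_lit 4101, nat_lit 4]⟩⟩⟩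
def p228 : AP := ⟨[nat_lit 50], [], (nat_lit 1046), ⟨[nat_lit 6, nat_lit 58], [nat_lit 26, nat_lit 92], ⟨[nat_lit 0x684b65326ebd510a3ce010d728a4c4], [nat_lit 173056, nat_lit 169472, nat_lit 166144, nat_lit 160896, nat_lit 155712, nat_lit 155488, nat_lit 151168, nat_lit 145928, nat_lit 141368, nat_lit 138770, nat_lit 132341, nat_lit 680, nat_lit 5436, nat_lit 10056, nat_lit 13040, nat_lit 22272, nat_lit 24832, nat_lit 30208, nat_lit 33792, nat_lit 41722, nat_lit 38099, nat_lit 32859, nat_lit 29734, nat_lit 24722, nat_lit 21018, nat_lit 16417, nat_lit 12356, nat_lit 8258, nat_lit 32]⟩⟩⟩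
def p229 : AP := ⟨[nat_lit 212, nat_lit 217], [], (nat_lit 419), ⟨[nat_lit 81, nat_lit 52], [nat_lit 0, nat_lit 44, nat_lit 55], ⟨[nat_lit 0x9ac5589db265ae53390923c2302a90], [nat_lit 175104, nat_lit 169472, nat_lit 164864, nat_lit 162176, nat_lit 156928, nat_lit 151968, nat_lit 150640, nat_lit 147256, nat_lit 141976, nat_lit 138440, nat_lit 134323, nat_lit 1246, nat_lit 5372, nat_lit 9096, nat_lit 12320, nat_lit 16768, nat_lit 20544, nat_lit 30208, nat_lit 41737, nat_lit 36870, nat_lit 34002, nat_lit 28791, nat_lit 24577, nat_lit 20500, nat_lit 16429, nat_lit 12307, nat_lit 4105]⟩⟩⟩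
def p230 : AP := ⟨[nat_lit 662, nat_lit 660, nat_lit 172], [], (nat_lit 418), ⟨[nat_lit 0, nat_lit 73, nat_lit 58], [nat_lit 0, nat_lit 41, nat_lit 65], ⟨[nat_lit 0xa153331c2e7825062848bb476a9171], [nat_lit 174080, nat_lit 168448, nat_lit 165376, nat_lit 162944, nat_lit 155904, nat_lit 151616, nat_lit 150336, nat_lit 146032, nat_lit 141328, nat_lit 137582, nat_lit 134079, nat_lit 1694, nat_lit 4568, nat_lit 8296, nat_lit 14272, nat_lit 18304, nat_lit 20992, nat_lit 29952, nat_lit 33280, nat_lit 37888, nat_lit 41834, nat_lit 37019, nat_lit 32769, nat_lit 28745, nat_lit 24724, nat_lit 21530, nat_lit 16390, nat_lit 12353, nat_lit 8201, nat_lit 4097]⟩⟩⟩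
def p231 : AP := ⟨[nat_lit 643, nat_lit 643, nat_lit 71, nat_lit 50], [], (nat_lit 120), ⟨[nat_lit 0, nat_lit 22, nat_lit 54], [nat_lit 18, nat_lit 94], ⟨[nat_lit 0x4b0a60282f88aa7b22ee5b672a1070], [nat_lit 175104, nat_lit 170496, nat_lit 166912, nat_lit 161536, nat_lit 156736, nat_lit 152640, nat_lit 149728, nat_lit 143712, nat_lit 139280, nat_lit 138250, nat_lit 133276, nat_lit 1874, nat_lit 4104, nat_lit 9480, nat_lit 14144, nat_lit 21504, nat_lit 25600, nat_lit 29952, nat_lit 33280, nat_lit 41918, nat_lit 38069, nat_lit 33462, nat_lit 29033, nat_lit 24617, nat_lit 20552, nat_lit 16517, nat_lit 12352, nat_lit 8321, nat_lit 4608]⟩⟩⟩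
def p232 : AP := ⟨[nat_lit 50], [], (nat_lit 120), ⟨[nat_lit 0, nat_lit 76, nat_lit 54], [nat_lit 0, nat_lit 31, nat_lit 93], ⟨[nat_lit 0xbd0307d9263c8a342a229b9a022d95], [nat_lit 169984, nat_lit 164608, nat_lit 162176, nat_lit 156480, nat_lit 154432, nat_lit 150320, nat_lit 145456, nat_lit 140932, nat_lit 136162, nat_lit 133649, nat_lit 2012, nat_lit 5208, nat_lit 8928, nat_lit 13600, nat_lit 18304, nat_lit 20928, nat_lit 25600, nat_lit 29440, nat_lit 34304, nat_lit 41809, nat_lit 36955, nat_lit 32929, nat_lit 28788, nat_lit 24753, nat_lit 20625, nat_lit 16392, nat_lit 12309, nat_lit 8195, nat_lit 4097, nat_lit 2]⟩⟩⟩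
def p233 : AP := ⟨[nat_lit 643, nat_lit 54, nat_lit 55], [], (nat_lit 120), ⟨[nat_lit 0, nat_lit 28, nat_lit 61], [nat_lit 85, nat_lit 70], ⟨[nat_lit 0x3102a2c1d75b06d48ab404a287da67], [nat_lit 173056, nat_lit 168448, nat_lit 164608, nat_lit 161536, nat_lit 158400, nat_lit 152928, nat_lit 147840, nat_lit 145104, nat_lit 141144, nat_lit 137084, nat_lit 131959, nat_lit 1246, nat_lit 4340, nat_lit 9560, nat_lit 14112, nat_lit 18304, nat_lit 20736, nat_lit 25856, nat_lit 29184, nat_lit 33280, nat_lit 41792, nat_lit 38092, nat_lit 33516, nat_lit 29260, nat_lit 24583, nat_lit 20757, nat_lit 16421, nat_lit 8226, nat_lit 4100]⟩⟩⟩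
def p234 : AP := ⟨[nat_lit 662, nat_lit 214, nat_lit 170], [], (nat_lit 396), ⟨[nat_lit 0, nat_lit 24, nat_lit 68], [nat_lit 0, nat_lit 27, nat_lit 94], ⟨[nat_lit 0x41aae7b011b288da483714d2b19607], [nat_lit 169472, nat_lit 167168, nat_lit 160000, nat_lit 156736, nat_lit 154560, nat_lit 151168, nat_lit 146048, nat_lit 142592, nat_lit 137858, nat_lit 132158, nat_lit 1440, nat_lit 4476, nat_lit 8736, nat_lit 12352, nat_lit 17664, nat_lit 20800, nat_lit 25088, nat_lit 29184, nat_lit 34304, nat_lit 37888, nat_lit 41425, nat_lit 37027, nat_lit 33015, nat_lit 28792, nat_lit 24578, nat_lit 20622, nat_lit 16418, nat_lit 12290, nat_lit 8210]⟩⟩⟩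
def p235 : AP := ⟨[nat_lit 642, nat_lit 46, nat_lit 56, nat_lit 51], [], (nat_lit 1046), ⟨[nat_lit 0, nat_lit 12, nat_lit 89], [nat_lit 0, nat_lit 4, nat_lit 70], ⟨[nat_lit 0x524ee5d2220808d9160c44c76adde6], [nat_lit 173056, nat_lit 168448, nat_lit 165376, nat_lit 161152, nat_lit 157568, nat_lit 153792, nat_lit 147552, nat_lit 144728, nat_lit 139292, nat_lit 135900, nat_lit 132851, nat_lit 116, nat_lit 4604, nat_lit 9928, nat_lit 14144, nat_lit 16928, nat_lit 21504, nat_lit 26240, nat_lit 29952, nat_lit 34304, nat_lit 37888, nat_lit 41967, nat_lit 36896, nat_lit 33933, nat_lit 28776, nat_lit 24708, nat_lit 20508, nat_lit 16425, nat_lit 12291, nat_lit 8208, nat_lit 4105, nat_lit 4]⟩⟩⟩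
def p236 : AP := ⟨[nat_lit 68], [], (nat_lit 122), ⟨[nat_lit 0, nat_lit 43, nat_lit 92], [nat_lit 0, nat_lit 28, nat_lit 61], ⟨[nat_lit 0x250696a22a95eaf138130aec781985], [nat_lit 173056, nat_lit 167168, nat_lit 161536, nat_lit 156352, nat_lit 151584, nat_lit 149312, nat_lit 143736, nat_lit 140448, nat_lit 135758, nat_lit 132719, nat_lit 1054, nat_lit 4156, nat_lit 9992, nat_lit 13744, nat_lit 18112, nat_lit 21312, nat_lit 25600, nat_lit 29696, nat_lit 33792, nat_lit 37888, nat_lit 41630, nat_lit 37120, nat_lit 32913, nat_lit 29050, nat_lit 24750, nat_lit 20609, nat_lit 16640, nat_lit 12322, nat_lit 8257, nat_lit 16]⟩⟩⟩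
def l237 : List AP := [⟨[nat_lit 629, nat_lit 14, nat_lit 36], [], (nat_lit 1032), ⟨[nat_lit 0, nat_lit 19, nat_lit 51], [nat_lit 78, nat_lit 94], ⟨[nat_lit 0x9a0c32c40912890bd5f66368e3ae41], [nat_lit 171520, nat_lit 164864, nat_lit 160256, nat_lit 156864, nat_lit 153440, nat_lit 147968, nat_lit 144784, nat_lit 141152, nat_lit 135324, nat_lit 131908, nat_lit 1180, nat_lit 5080, nat_lit 10160, nat_lit 12752, nat_lit 16832, nat_lit 20864, nat_lit 29440, nat_lit 41777, nat_lit 37309, nat_lit 33512, nat_lit 28704, nat_lit 24875, nat_lit 20550, nat_lit 16428, nat_lit 12291, nat_lit 8210, nat_lit 4100, nat_lit 8]⟩⟩⟩]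
theorem s237 : Suf yT 2097152 (ldrop wS 161) (apW dcM p236) (tgtN dcM p236.e) := Suf.fin' (l := l237) (by decide +kernel)
def l236 : List AP := [⟨[nat_lit 212, nat_lit 179, nat_lit 170], [], (nat_lit 396), ⟨[nat_lit 0, nat_lit 38, nat_lit 60], [nat_lit 0, nat_lit 29, nat_lit 69], ⟨[nat_lit 0x901043442a7d1cd988abb5eac4c0e3], [nat_lit 170496, nat_lit 165632, nat_lit 160896, nat_lit 156736, nat_lit 153248, nat_lit 147824, nat_lit 143616, nat_lit 140972, nat_lit 135482, nat_lit 131319, nat_lit 1174, nat_lit 5580, nat_lit 9152, nat_lit 12800, nat_lit 18144, nat_lit 21696, nat_lit 25088, nat_lit 34304, nat_lit 37888, nat_lit 41519, nat_lit 36878, nat_lit 33014, nat_lit 28963, nat_lit 24581, nat_lit 20496, nat_lit 16386, nat_lit 12290, nat_lit 8257, nat_lit 4105, nat_lit 2]⟩⟩⟩,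
  ⟨[nat_lit 51], [], (nat_lit 126), ⟨[nat_lit 0, nat_lit 87, nat_lit 53], [nat_lit 44, nat_lit 91], ⟨[nat_lit 0xcec479947abae95c64c6810381682], [nat_lit 175104, nat_lit 169472, nat_lit 164864, nat_lit 161664, nat_lit 155712, nat_lit 151584, nat_lit 147680, nat_lit 143672, nat_lit 140948, nat_lit 136614, nat_lit 131479, nat_lit 1178, nat_lit 4380, nat_lit 8320, nat_lit 12352, nat_lit 16448, nat_lit 20544, nat_lit 24704, nat_lit 28928, nat_lit 33792, nat_lit 41223, nat_lit 37193, nat_lit 32994, nat_lit 29026, nat_lit 24871, nat_lit 20754, nat_lit 16424, nat_lit 12304, nat_lit 8257, nat_lit 4352, nat_lit 64]⟩⟩⟩]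
theorem s236 : Suf yT 2097152 (ldrop wS 146) (apW dcM p235) (tgtN dcM p235.e) := Suf.seg (l := l236) (by decide +kernel) s237
def l235 : List AP := [⟨[nat_lit 54, nat_lit 67, nat_lit 46, nat_lit 46], [], (nat_lit 120), ⟨[nat_lit 0, nat_lit 76, nat_lit 70], [nat_lit 0, nat_lit 81, nat_lit 91], ⟨[nat_lit 0x3968a6a1d70922ca8d205da727c046], [nat_lit 173056, nat_lit 168448, nat_lit 166912, nat_lit 161664, nat_lit 156992, nat_lit 151808, nat_lit 148448, nat_lit 144416, nat_lit 140584, nat_lit 136116, nat_lit 131965, nat_lit 786, nat_lit 5984, nat_lit 8256, nat_lit 13920, nat_lit 18272, nat_lit 21632, nat_lit 24832, nat_lit 33280, nat_lit 41771, nat_lit 37268, nat_lit 33415, nat_lit 29193, nat_lit 24583, nat_lit 21514, nat_lit 16525, nat_lit 8259, nat_lit 4161, nat_lit 32]⟩⟩⟩,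
  ⟨[nat_lit 641, nat_lit 46, nat_lit 54], [], (nat_lit 121), ⟨[nat_lit 0, nat_lit 35, nat_lit 91], [nat_lit 73], ⟨[nat_lit 0xbc04962d46b4c083c5f26848371695], [nat_lit 173056, nat_lit 171008, nat_lit 167424, nat_lit 162048, nat_lit 158080, nat_lit 153376, nat_lit 150864, nat_lit 145912, nat_lit 139006, nat_lit 131105, nat_lit 1336, nat_lit 5112, nat_lit 10032, nat_lit 12416, nat_lit 16512, nat_lit 20864, nat_lit 25856, nat_lit 41688, nat_lit 38185, nat_lit 32930, nat_lit 28944, nat_lit 25107, nat_lit 20492, nat_lit 16520, nat_lit 12308, nat_lit 8200]⟩⟩⟩]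
theorem s235 : Suf yT 2097152 (ldrop wS 140) (apW dcM p234) (tgtN dcM p234.e) := Suf.seg (l := l235) (by decide +kernel) s236
def l234 : List AP := [⟨[nat_lit 641, nat_lit 46, nat_lit 54], [], (nat_lit 121), ⟨[nat_lit 0, nat_lit 22, nat_lit 63], [nat_lit 6, nat_lit 58], ⟨[nat_lit 0xacec9815466a22c7d0e290c0b70497], [nat_lit 173056, nat_lit 169472, nat_lit 163200, nat_lit 156864, nat_lit 151584, nat_lit 149264, nat_lit 143608, nat_lit 140456, nat_lit 136156, nat_lit 132220, nat_lit 1268, nat_lit 4112, nat_lit 10144, nat_lit 13264, nat_lit 16512, nat_lit 21056, nat_lit 26496, nat_lit 29696, nat_lit 37888, nat_lit 41048, nat_lit 37335, nat_lit 33331, nat_lit 28757, nat_lit 24725, nat_lit 20502, nat_lit 16394, nat_lit 12310, nat_lit 8202, nat_lit 4100]⟩⟩⟩,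
  ⟨[nat_lit 641, nat_lit 73, nat_lit 643, nat_lit 641], [], (nat_lit 1046), ⟨[nat_lit 82, nat_lit 50], [nat_lit 0, nat_lit 92], ⟨[nat_lit 0xb96ce54875009a49bcf033109a442b], [nat_lit 164096, nat_lit 159872, nat_lit 156480, nat_lit 153504, nat_lit 148704, nat_lit 143384, nat_lit 140560, nat_lit 136542, nat_lit 132551, nat_lit 1336, nat_lit 10176, nat_lit 13296, nat_lit 16992, nat_lit 20992, nat_lit 25088, nat_lit 33280, nat_lit 41742, nat_lit 37272, nat_lit 33496, nat_lit 29208, nat_lit 24875, nat_lit 20575, nat_lit 16418, nat_lit 12355, nat_lit 8210, nat_lit 64]⟩⟩⟩]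
theorem s234 : Suf yT 2097152 (ldrop wS 125) (apW dcM p233) (tgtN dcM p233.e) := Suf.seg (l := l234) (by decide +kernel) s235
def l233 : List AP := [⟨[nat_lit 52, nat_lit 67, nat_lit 51, nat_lit 50], [], (nat_lit 120), ⟨[nat_lit 0, nat_lit 81, nat_lit 69], [nat_lit 0, nat_lit 20, nat_lit 57], ⟨[nat_lit 0x905555c683694e64c2e014ec87b984], [nat_lit 173056, nat_lit 169984, nat_lit 165632, nat_lit 159872, nat_lit 155840, nat_lit 152384, nat_lit 148768, nat_lit 144384, nat_lit 139540, nat_lit 135192, nat_lit 132050, nat_lit 1778, nat_lit 4924, nat_lit 9648, nat_lit 13664, nat_lit 16640, nat_lit 21568, nat_lit 25472, nat_lit 30208, nat_lit 33792, nat_lit 37888, nat_lit 41517, nat_lit 37344, nat_lit 33535, nat_lit 29223, nat_lit 24751, nat_lit 20569, nat_lit 16417, nat_lit 32]⟩⟩⟩,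
  ⟨[nat_lit 69, nat_lit 53, nat_lit 51, nat_lit 67], [], (nat_lit 120), ⟨[nat_lit 0, nat_lit 20, nat_lit 93], [nat_lit 14, nat_lit 68], ⟨[nat_lit 0x791a6730e5082f54aa509ae28b0a83], [nat_lit 173056, nat_lit 167424, nat_lit 161664, nat_lit 157056, nat_lit 153664, nat_lit 150640, nat_lit 145576, nat_lit 141696, nat_lit 138504, nat_lit 131930, nat_lit 688, nat_lit 4380, nat_lit 8224, nat_lit 12320, nat_lit 17952, nat_lit 21504, nat_lit 24704, nat_lit 29184, nat_lit 33280, nat_lit 37888, nat_lit 41540, nat_lit 37169, nat_lit 33491, nat_lit 28992, nat_lit 24832, nat_lit 20482, nat_lit 16899, nat_lit 12291, nat_lit 8194, nat_lit 8]⟩⟩⟩]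
theorem s233 : Suf yT 2097152 (ldrop wS 110) (apW dcM p232) (tgtN dcM p232.e) := Suf.seg (l := l233) (by decide +kernel) s234
def l232 : List AP := [⟨[nat_lit 71, nat_lit 73, nat_lit 46, nat_lit 68], [], (nat_lit 120), ⟨[nat_lit 36, nat_lit 69], [nat_lit 31, nat_lit 55], ⟨[nat_lit 0x285176da158bce6024946496a9b843], [nat_lit 171520, nat_lit 165376, nat_lit 161792, nat_lit 155904, nat_lit 155328, nat_lit 149760, nat_lit 147248, nat_lit 139788, nat_lit 135454, nat_lit 133577, nat_lit 688, nat_lit 4344, nat_lit 10168, nat_lit 13456, nat_lit 17728, nat_lit 21504, nat_lit 26112, nat_lit 33280, nat_lit 41433, nat_lit 37273, nat_lit 33017, nat_lit 28795, nat_lit 24729, nat_lit 20500, nat_lit 16386, nat_lit 12421, nat_lit 8193, nat_lit 4105]⟩⟩⟩,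
  ⟨[nat_lit 68, nat_lit 73, nat_lit 641], [], (nat_lit 121), ⟨[nat_lit 0, nat_lit 81, nat_lit 52], [nat_lit 19, nat_lit 64], ⟨[nat_lit 0xbd0307d9263c8a342a229b9a022d95], [nat_lit 170496, nat_lit 164352, nat_lit 162176, nat_lit 156480, nat_lit 154464, nat_lit 150304, nat_lit 145456, nat_lit 140932, nat_lit 136160, nat_lit 133649, nat_lit 2012, nat_lit 5208, nat_lit 8928, nat_lit 13600, nat_lit 18304, nat_lit 20928, nat_lit 25600, nat_lit 29440, nat_lit 34304, nat_lit 41809, nat_lit 36955, nat_lit 32929, nat_lit 28788, nat_lit 24753, nat_lit 20625, nat_lit 16392, nat_lit 12309, nat_lit 8195, nat_lit 4097, nat_lit 2]⟩⟩⟩]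
theorem s232 : Suf yT 2097152 (ldrop wS 95) (apW dcM p231) (tgtN dcM p231.e) := Suf.seg (l := l232) (by decide +kernel) s233
def l231 : List AP := [⟨[nat_lit 216, nat_lit 662], [], (nat_lit 419), ⟨[nat_lit 86, nat_lit 60], [nat_lit 0, nat_lit 42, nat_lit 70], ⟨[nat_lit 0x935e652490b3028880a25baa33de93], [nat_lit 175104, nat_lit 169472, nat_lit 167680, nat_lit 163456, nat_lit 158976, nat_lit 152320, nat_lit 148144, nat_lit 144936, nat_lit 142952, nat_lit 139160, nat_lit 131880, nat_lit 1928, nat_lit 5604, nat_lit 9176, nat_lit 14064, nat_lit 18112, nat_lit 21504, nat_lit 25600, nat_lit 29952, nat_lit 33792, nat_lit 37888, nat_lit 41086, nat_lit 37362, nat_lit 32782, nat_lit 28725, nat_lit 24610, nat_lit 20482, nat_lit 16394, nat_lit 12307, nat_lit 8195]⟩⟩⟩,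
  ⟨[nat_lit 217, nat_lit 172], [], (nat_lit 396), ⟨[nat_lit 10, nat_lit 68], [nat_lit 26, nat_lit 62], ⟨[nat_lit 0x752e21ca2d02d0c4c2a5b1953784e4], [nat_lit 168960, nat_lit 165632, nat_lit 161152, nat_lit 156352, nat_lit 153248, nat_lit 148608, nat_lit 144768, nat_lit 141056, nat_lit 136042, nat_lit 132697, nat_lit 1166, nat_lit 4112, nat_lit 8208, nat_lit 14176, nat_lit 18112, nat_lit 21824, nat_lit 26240, nat_lit 28928, nat_lit 32896, nat_lit 28717, nat_lit 24627, nat_lit 20551, nat_lit 16421, nat_lit 8226, nat_lit 4101, nat_lit 2]⟩⟩⟩]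
theorem s231 : Suf yT 2097152 (ldrop wS 89) (apW dcM p230) (tgtN dcM p230.e) := Suf.seg (l := l231) (by decide +kernel) s232
def l230 : List AP := [⟨[nat_lit 217, nat_lit 172], [], (nat_lit 396), ⟨[nat_lit 0, nat_lit 44, nat_lit 66], [nat_lit 0, nat_lit 4, nat_lit 48], ⟨[nat_lit 0x258aa4be8e58035119928dd1380ced], [nat_lit 175104, nat_lit 171520, nat_lit 166912, nat_lit 161664, nat_lit 158592, nat_lit 153888, nat_lit 149024, nat_lit 147192, nat_lit 139636, nat_lit 135480, nat_lit 133024, nat_lit 1668, nat_lit 5488, nat_lit 9448, nat_lit 14112, nat_lit 18112, nat_lit 22336, nat_lit 25728, nat_lit 29952, nat_lit 37888, nat_lit 41785, nat_lit 37160, nat_lit 32968, nat_lit 28744, nat_lit 24764, nat_lit 20487, nat_lit 16387, nat_lit 8227, nat_lit 4097]⟩⟩⟩,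
  ⟨[nat_lit 49, nat_lit 51, nat_lit 51, nat_lit 48, nat_lit 46], [], (nat_lit 1046), ⟨[nat_lit 0, nat_lit 42, nat_lit 93], [nat_lit 0, nat_lit 8, nat_lit 62], ⟨[nat_lit 0xd68e64e2228da4ba0d255a074ade0], [nat_lit 169984, nat_lit 165120, nat_lit 161152, nat_lit 159168, nat_lit 151584, nat_lit 149248, nat_lit 146376, nat_lit 141860, nat_lit 139158, nat_lit 134326, nat_lit 1896, nat_lit 4684, nat_lit 9976, nat_lit 14272, nat_lit 18112, nat_lit 22016, nat_lit 26368, nat_lit 28928, nat_lit 34304, nat_lit 41146, nat_lit 37291, nat_lit 32939, nat_lit 28779, nat_lit 24599, nat_lit 20487, nat_lit 12418, nat_lit 8193, nat_lit 4097, nat_lit 2]⟩⟩⟩]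
theorem s230 : Suf yT 2097152 (ldrop wS 74) (apW dcM p229) (tgtN dcM p229.e) := Suf.seg (l := l230) (by decide +kernel) s231
def l229 : List AP := [⟨[nat_lit 663, nat_lit 179], [], (nat_lit 419), ⟨[nat_lit 0, nat_lit 71, nat_lit 48], [nat_lit 0, nat_lit 24, nat_lit 57], ⟨[nat_lit 0x5d092ad9c21b670095e64818a45cf1], [nat_lit 171008, nat_lit 165632, nat_lit 163072, nat_lit 153728, nat_lit 150976, nat_lit 147000, nat_lit 140852, nat_lit 136112, nat_lit 134659, nat_lit 184, nat_lit 5668, nat_lit 9928, nat_lit 14272, nat_lit 18304, nat_lit 20736, nat_lit 26112, nat_lit 30208, nat_lit 33792, nat_lit 41976, nat_lit 36925, nat_lit 34041, nat_lit 29731, nat_lit 24726, nat_lit 21020, nat_lit 16525, nat_lit 12356]⟩⟩⟩,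
  ⟨[nat_lit 179, nat_lit 212], [], (nat_lit 418), ⟨[nat_lit 38, nat_lit 52], [nat_lit 13, nat_lit 94], ⟨[nat_lit 0x21b3709513561225861615f75d127], [nat_lit 165376, nat_lit 160384, nat_lit 156608, nat_lit 153216, nat_lit 149312, nat_lit 143448, nat_lit 141484, nat_lit 136872, nat_lit 131722, nat_lit 1178, nat_lit 5568, nat_lit 8224, nat_lit 13872, nat_lit 17152, nat_lit 22464, nat_lit 25984, nat_lit 29952, nat_lit 41956, nat_lit 37277, nat_lit 33467, nat_lit 28732, nat_lit 24612, nat_lit 20565, nat_lit 16395, nat_lit 12294]⟩⟩⟩]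
theorem s229 : Suf yT 2097152 (ldrop wS 59) (apW dcM p228) (tgtN dcM p228.e) := Suf.seg (l := l229) (by decide +kernel) s230
def l228 : List AP := [⟨[nat_lit 68, nat_lit 642, nat_lit 55, nat_lit 53], [], (nat_lit 1046), ⟨[nat_lit 0, nat_lit 10, nat_lit 58], [nat_lit 0, nat_lit 17, nat_lit 56], ⟨[nat_lit 0x4322d29a0ab848e9a6d590d60a1c4f], [nat_lit 175104, nat_lit 169472, nat_lit 165120, nat_lit 161280, nat_lit 155776, nat_lit 151936, nat_lit 149360, nat_lit 144672, nat_lit 139928, nat_lit 136548, nat_lit 131479, nat_lit 1014, nat_lit 5104, nat_lit 10088, nat_lit 14144, nat_lit 17664, nat_lit 21120, nat_lit 24704, nat_lit 30464, nat_lit 41160, nat_lit 37312, nat_lit 32957, nat_lit 29015, nat_lit 24589, nat_lit 20491, nat_lit 16642, nat_lit 12311, nat_lit 8210, nat_lit 4113, nat_lit 4]⟩⟩⟩,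
  ⟨[nat_lit 180, nat_lit 171], [], (nat_lit 396), ⟨[nat_lit 21, nat_lit 46], [nat_lit 84, nat_lit 93], ⟨[nat_lit 0x684b65326ebd510a3ce010d728a4c4], [nat_lit 168960, nat_lit 166144, nat_lit 160768, nat_lit 155488, nat_lit 151168, nat_lit 145920, nat_lit 141372, nat_lit 138770, nat_lit 132341, nat_lit 680, nat_lit 5436, nat_lit 10056, nat_lit 13040, nat_lit 22272, nat_lit 24832, nat_lit 30208, nat_lit 33792, nat_lit 41722, nat_lit 38099, nat_lit 32859, nat_lit 29734, nat_lit 24722, nat_lit 21018, nat_lit 16417, nat_lit 12356, nat_lit 8258, nat_lit 32]⟩⟩⟩]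
theorem s228 : Suf yT 2097152 (ldrop wS 44) (apW dcM p227) (tgtN dcM p227.e) := Suf.seg (l := l228) (by decide +kernel) s229
def l227 : List AP := [⟨[nat_lit 214, nat_lit 659, nat_lit 170], [], (nat_lit 396), ⟨[nat_lit 0, nat_lit 79, nat_lit 91], [nat_lit 0, nat_lit 38, nat_lit 62], ⟨[nat_lit 0x258eca882d2cc0988d067d250ba96e], [nat_lit 168448, nat_lit 164608, nat_lit 161280, nat_lit 156608, nat_lit 151616, nat_lit 148528, nat_lit 145328, nat_lit 141904, nat_lit 137076, nat_lit 133016, nat_lit 166, nat_lit 5084, nat_lit 10224, nat_lit 14080, nat_lit 18336, nat_lit 21120, nat_lit 26496, nat_lit 30464, nat_lit 37888, nat_lit 41332, nat_lit 36986, nat_lit 33952, nat_lit 28756, nat_lit 24743, nat_lit 20502, nat_lit 16388, nat_lit 12291, nat_lit 8209, nat_lit 4]⟩⟩⟩,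
  ⟨[nat_lit 50], [], (nat_lit 1046), ⟨[nat_lit 42, nat_lit 59], [nat_lit 74, nat_lit 49], ⟨[nat_lit 0x258eca882d2cc0988d067d250ba96e], [nat_lit 164352, nat_lit 161408, nat_lit 156608, nat_lit 151616, nat_lit 148528, nat_lit 145328, nat_lit 141904, nat_lit 137076, nat_lit 133017, nat_lit 166, nat_lit 5084, nat_lit 10224, nat_lit 14080, nat_lit 18336, nat_lit 21120, nat_lit 26496, nat_lit 30464, nat_lit 37888, nat_lit 41332, nat_lit 36986, nat_lit 33952, nat_lit 28756, nat_lit 24743, nat_lit 20502, nat_lit 16388, nat_lit 12291, nat_lit 8209, nat_lit 4]⟩⟩⟩]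
theorem s227 : Suf yT 2097152 (ldrop wS 38) (apW dcM p226) (tgtN dcM p226.e) := Suf.seg (l := l227) (by decide +kernel) s228
def l226 : List AP := [⟨[nat_lit 641, nat_lit 46, nat_lit 54], [], (nat_lit 121), ⟨[nat_lit 0, nat_lit 8, nat_lit 91], [nat_lit 81, nat_lit 91], ⟨[nat_lit 0x3d8b1984754d110bb64c111eb03946], [nat_lit 164096, nat_lit 155712, nat_lit 151648, nat_lit 148192, nat_lit 144608, nat_lit 140640, nat_lit 138620, nat_lit 131552, nat_lit 786, nat_lit 5120, nat_lit 9136, nat_lit 12480, nat_lit 17152, nat_lit 21696, nat_lit 24832, nat_lit 29440, nat_lit 33280, nat_lit 37888, nat_lit 41234, nat_lit 37066, nat_lit 32844, nat_lit 29216, nat_lit 24729, nat_lit 20561, nat_lit 16392, nat_lit 12305, nat_lit 8194, nat_lit 4097, nat_lit 2]⟩⟩⟩,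
  ⟨[nat_lit 66, nat_lit 72, nat_lit 640, nat_lit 66], [], (nat_lit 1046), ⟨[nat_lit 0, nat_lit 3, nat_lit 52], [nat_lit 0, nat_lit 9, nat_lit 53], ⟨[nat_lit 0xde2435263431ae14aa581c167a54b], [nat_lit 173056, nat_lit 165376, nat_lit 161664, nat_lit 157056, nat_lit 153824, nat_lit 147600, nat_lit 143792, nat_lit 139828, nat_lit 136792, nat_lit 131726, nat_lit 1224, nat_lit 5112, nat_lit 9752, nat_lit 14144, nat_lit 17984, nat_lit 22080, nat_lit 25728, nat_lit 30208, nat_lit 33280, nat_lit 41303, nat_lit 37319, nat_lit 33447, nat_lit 29230, nat_lit 24705, nat_lit 20496, nat_lit 16385, nat_lit 8194, nat_lit 4097, nat_lit 2]⟩⟩⟩]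
theorem s226 : Suf yT 2097152 (ldrop wS 23) (apW dcM p225) (tgtN dcM p225.e) := Suf.seg (l := l226) (by decide +kernel) s227
def l225 : List AP := [⟨[nat_lit 71, nat_lit 72, nat_lit 640, nat_lit 72], [], (nat_lit 1046), ⟨[nat_lit 0, nat_lit 12, nat_lit 49], [nat_lit 0, nat_lit 22, nat_lit 47], ⟨[nat_lit 0x1514e35e766408d904a0a8d0f8ace9], [nat_lit 174080, nat_lit 169472, nat_lit 164352, nat_lit 161024, nat_lit 157760, nat_lit 155264, nat_lit 150800, nat_lit 143912, nat_lit 143340, nat_lit 137030, nat_lit 134592, nat_lit 434, nat_lit 4328, nat_lit 9752, nat_lit 13664, nat_lit 16672, nat_lit 22272, nat_lit 26240, nat_lit 29952, nat_lit 34304, nat_lit 37888, nat_lit 41471, nat_lit 36978, nat_lit 32780, nat_lit 29800, nat_lit 24628, nat_lit 20559, nat_lit 16399, nat_lit 12304, nat_lit 8193]⟩⟩⟩,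
  ⟨[nat_lit 217, nat_lit 216], [], (nat_lit 396), ⟨[nat_lit 0, nat_lit 86, nat_lit 61], [nat_lit 69], ⟨[nat_lit 0x2ce0491a27425ae5a9ecb8ea0b0682], [nat_lit 174080, nat_lit 168960, nat_lit 165120, nat_lit 161280, nat_lit 155712, nat_lit 151712, nat_lit 147568, nat_lit 143920, nat_lit 140172, nat_lit 136218, nat_lit 132876, nat_lit 700, nat_lit 4128, nat_lit 8224, nat_lit 12976, nat_lit 16416, nat_lit 21504, nat_lit 25728, nat_lit 29952, nat_lit 37888, nat_lit 41880, nat_lit 33814, nat_lit 29025, nat_lit 24748, nat_lit 20496, nat_lit 16429, nat_lit 12304, nat_lit 8203, nat_lit 4100, nat_lit 8]⟩⟩⟩]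
theorem s225 : Suf yT 2097152 (ldrop wS 8) (apW dcM p224) (tgtN dcM p224.e) := Suf.seg (l := l225) (by decide +kernel) s226
def l224 : List AP := [⟨[nat_lit 3, nat_lit 624, nat_lit 2, nat_lit 1, nat_lit 3], [], (nat_lit 1030), ⟨[nat_lit 0, nat_lit 22, nat_lit 58], [nat_lit 82, nat_lit 54], ⟨[nat_lit 0x1818fadd4b81e25312720b9a2a5909], [nat_lit 175104, nat_lit 168448, nat_lit 164608, nat_lit 161280, nat_lit 157760, nat_lit 155424, nat_lit 149552, nat_lit 144584, nat_lit 142944, nat_lit 135994, nat_lit 134370, nat_lit 434, nat_lit 5316, nat_lit 9928, nat_lit 14048, nat_lit 16864, nat_lit 20864, nat_lit 26112, nat_lit 29184, nat_lit 37888, nat_lit 41727, nat_lit 36898, nat_lit 32771, nat_lit 28696, nat_lit 25610, nat_lit 20574, nat_lit 16458, nat_lit 12308, nat_lit 4097]⟩⟩⟩,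
  ⟨[nat_lit 633, nat_lit 38, nat_lit 633, nat_lit 631, nat_lit 15, nat_lit 16], [], (nat_lit 90), ⟨[nat_lit 0, nat_lit 78, nat_lit 53], [nat_lit 75, nat_lit 91], ⟨[nat_lit 0x42843485603409365db673e95894f2], [nat_lit 173056, nat_lit 168960, nat_lit 164352, nat_lit 160000, nat_lit 156160, nat_lit 151904, nat_lit 149472, nat_lit 143600, nat_lit 138266, nat_lit 132626, nat_lit 1182, nat_lit 8952, nat_lit 12800, nat_lit 17984, nat_lit 21568, nat_lit 26112, nat_lit 29184, nat_lit 34304, nat_lit 41770, nat_lit 37272, nat_lit 33285, nat_lit 29055, nat_lit 24711, nat_lit 20559, nat_lit 16650, nat_lit 12320, nat_lit 8209, nat_lit 4097, nat_lit 2]⟩⟩⟩]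
theorem rS9 : Suf yT 2097152 wS [yT.get 43] 0 := Suf.seg (l := l224) (by decide +kernel) s225

def p238 : AP := ⟨[nat_lit 72, nat_lit 66], [], (nat_lit 126), ⟨[nat_lit 0, nat_lit 6, nat_lit 66], [nat_lit 0, nat_lit 94], ⟨[nat_lit 0x19a573d620726706a0a45d196509e1], [nat_lit 175104, nat_lit 170496, nat_lit 162432, nat_lit 157760, nat_lit 155520, nat_lit 148096, nat_lit 143928, nat_lit 139540, nat_lit 138720, nat_lit 133643, nat_lit 1760, nat_lit 5992, nat_lit 10088, nat_lit 12400, nat_lit 17184, nat_lit 20864, nat_lit 25216, nat_lit 28928, nat_lit 34304, nat_lit 37888, nat_lit 40987, nat_lit 37051, nat_lit 32779, nat_lit 29262, nat_lit 24602, nat_lit 20502, nat_lit 16386, nat_lit 12354, nat_lit 8195, nat_lit 4097]⟩⟩⟩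
def p239 : AP := ⟨[nat_lit 52, nat_lit 49, nat_lit 66, nat_lit 56], [], (nat_lit 1046), ⟨[nat_lit 36, nat_lit 59], [nat_lit 9, nat_lit 55], ⟨[nat_lit 0x6968bb21844860aac81730e27989ee], [nat_lit 173056, nat_lit 168448, nat_lit 166656, nat_lit 160896, nat_lit 157120, nat_lit 153056, nat_lit 148960, nat_lit 145208, nat_lit 140216, nat_lit 136300, nat_lit 132672, nat_lit 1530, nat_lit 5296, nat_lit 8448, nat_lit 12752, nat_lit 18112, nat_lit 20800, nat_lit 26496, nat_lit 30208, nat_lit 33280, nat_lit 41496, nat_lit 38022, nat_lit 32943, nat_lit 28975, nat_lit 24592, nat_lit 20506, nat_lit 16431, nat_lit 12327, nat_lit 4128, nat_lit 8]⟩⟩⟩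
def p240 : AP := ⟨[nat_lit 212, nat_lit 213], [], (nat_lit 418), ⟨[nat_lit 0, nat_lit 26], [nat_lit 40, nat_lit 67], ⟨[nat_lit 0x202d010d8b53a724d5b4321e5386f1], [nat_lit 168448, nat_lit 164096, nat_lit 160768, nat_lit 157184, nat_lit 151904, nat_lit 148592, nat_lit 145464, nat_lit 139908, nat_lit 135400, nat_lit 131523, nat_lit 1652, nat_lit 4608, nat_lit 8504, nat_lit 12384, nat_lit 16672, nat_lit 24704, nat_lit 30464, nat_lit 34304, nat_lit 41704, nat_lit 37358, nat_lit 32968, nat_lit 28768, nat_lit 24626, nat_lit 20488, nat_lit 16458, nat_lit 12307, nat_lit 8704, nat_lit 4101, nat_lit 2]⟩⟩⟩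
def p241 : AP := ⟨[nat_lit 172], [], (nat_lit 390), ⟨[nat_lit 27, nat_lit 56], [nat_lit 24, nat_lit 56], ⟨[nat_lit 0xb96d22416908266aa9c343e8261db1], [nat_lit 168960, nat_lit 165632, nat_lit 160512, nat_lit 158656, nat_lit 152384, nat_lit 148976, nat_lit 144360, nat_lit 140512, nat_lit 136396, nat_lit 131748, nat_lit 1004, nat_lit 5488, nat_lit 9800, nat_lit 13376, nat_lit 16544, nat_lit 25088, nat_lit 33792, nat_lit 41320, nat_lit 37034, nat_lit 33888, nat_lit 29258, nat_lit 24606, nat_lit 20608, nat_lit 16450, nat_lit 12306, nat_lit 8201, nat_lit 4100, nat_lit 2]⟩⟩⟩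
def p242 : AP := ⟨[nat_lit 179, nat_lit 216], [], (nat_lit 396), ⟨[nat_lit 0, nat_lit 41, nat_lit 56], [nat_lit 30, nat_lit 70], ⟨[nat_lit 0x6d2a89dc443152f1c8f65040c5c60e], [nat_lit 174080, nat_lit 164096, nat_lit 159872, nat_lit 157952, nat_lit 155200, nat_lit 149712, nat_lit 144088, nat_lit 142444, nat_lit 135826, nat_lit 133878, nat_lit 960, nat_lit 5016, nat_lit 9648, nat_lit 12592, nat_lit 17664, nat_lit 20864, nat_lit 26240, nat_lit 29440, nat_lit 34304, nat_lit 41775, nat_lit 37918, nat_lit 32972, nat_lit 28936, nat_lit 24721, nat_lit 21012, nat_lit 16387, nat_lit 12547, nat_lit 8193, nat_lit 4104]⟩⟩⟩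
def p243 : AP := ⟨[nat_lit 57, nat_lit 46, nat_lit 46], [], (nat_lit 121), ⟨[nat_lit 28, nat_lit 68], [nat_lit 0, nat_lit 4, nat_lit 50], ⟨[nat_lit 0xab1415cd27249eea01a8188b089ad7], [nat_lit 171008, nat_lit 164096, nat_lit 158464, nat_lit 152800, nat_lit 149120, nat_lit 147088, nat_lit 142144, nat_lit 138862, nat_lit 133911, nat_lit 116, nat_lit 4340, nat_lit 9928, nat_lit 13360, nat_lit 17024, nat_lit 21888, nat_lit 25600, nat_lit 29696, nat_lit 33792, nat_lit 37888, nat_lit 41467, nat_lit 36917, nat_lit 32775, nat_lit 28679, nat_lit 24592, nat_lit 21020, nat_lit 16455, nat_lit 12326, nat_lit 8195, nat_lit 4]⟩⟩⟩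
def p244 : AP := ⟨[nat_lit 214, nat_lit 175], [], (nat_lit 418), ⟨[nat_lit 9, nat_lit 93], [nat_lit 0, nat_lit 17, nat_lit 48], ⟨[nat_lit 0x322b0b3054682725bc2ab9229714e3], [nat_lit 169472, nat_lit 166144, nat_lit 160000, nat_lit 155840, nat_lit 155232, nat_lit 151136, nat_lit 147240, nat_lit 142244, nat_lit 138664, nat_lit 132486, nat_lit 1174, nat_lit 4404, nat_lit 10032, nat_lit 12416, nat_lit 17504, nat_lit 20544, nat_lit 24704, nat_lit 29184, nat_lit 41658, nat_lit 37214, nat_lit 33409, nat_lit 28682, nat_lit 24618, nat_lit 20544, nat_lit 16392, nat_lit 12294, nat_lit 8200, nat_lit 4097, nat_lit 2]⟩⟩⟩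
def p245 : AP := ⟨[nat_lit 217, nat_lit 663, nat_lit 171], [], (nat_lit 418), ⟨[nat_lit 0, nat_lit 81], [nat_lit 3, nat_lit 67], ⟨[nat_lit 0x3d9b27284f0a670452a38dd8530164], [nat_lit 174080, nat_lit 170496, nat_lit 167168, nat_lit 160640, nat_lit 156544, nat_lit 152480, nat_lit 151152, nat_lit 144160, nat_lit 141140, nat_lit 138060, nat_lit 133969, nat_lit 1794, nat_lit 5064, nat_lit 9784, nat_lit 13152, nat_lit 16512, nat_lit 22400, nat_lit 24704, nat_lit 41494, nat_lit 38363, nat_lit 33332, nat_lit 28735, nat_lit 24864, nat_lit 20622, nat_lit 16385, nat_lit 12352, nat_lit 8321, nat_lit 4097]⟩⟩⟩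
def p246 : AP := ⟨[nat_lit 217, nat_lit 172], [], (nat_lit 396), ⟨[nat_lit 41, nat_lit 49], [nat_lit 13, nat_lit 47], ⟨[nat_lit 0x70047352ad415e9baa035d83394584], [nat_lit 169472, nat_lit 164352, nat_lit 161280, nat_lit 155968, nat_lit 154656, nat_lit 148784, nat_lit 144336, nat_lit 140052, nat_lit 137134, nat_lit 132898, nat_lit 606, nat_lit 4380, nat_lit 8360, nat_lit 16416, nat_lit 22208, nat_lit 25728, nat_lit 29440, nat_lit 33792, nat_lit 37888, nat_lit 41787, nat_lit 38190, nat_lit 33875, nat_lit 28790, nat_lit 24615, nat_lit 20481, nat_lit 16385, nat_lit 12544, nat_lit 8259, nat_lit 16]⟩⟩⟩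
def p247 : AP := ⟨[nat_lit 214, nat_lit 177, nat_lit 170], [], (nat_lit 418), ⟨[nat_lit 0, nat_lit 88, nat_lit 48], [nat_lit 0, nat_lit 15, nat_lit 55], ⟨[nat_lit 0x836875441270de95dae241026616b3], [nat_lit 173056, nat_lit 169984, nat_lit 164096, nat_lit 160896, nat_lit 156800, nat_lit 148048, nat_lit 144992, nat_lit 139308, nat_lit 136412, nat_lit 132524, nat_lit 78, nat_lit 6032, nat_lit 9768, nat_lit 13984, nat_lit 16576, nat_lit 21760, nat_lit 26368, nat_lit 34304, nat_lit 37888, nat_lit 41936, nat_lit 36919, nat_lit 33884, nat_lit 29022, nat_lit 24722, nat_lit 20998, nat_lit 16417, nat_lit 12546, nat_lit 8202, nat_lit 4105]⟩⟩⟩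
def p248 : AP := ⟨[nat_lit 46, nat_lit 69, nat_lit 54, nat_lit 48], [], (nat_lit 1046), ⟨[nat_lit 7, nat_lit 49], [nat_lit 0, nat_lit 73, nat_lit 54], ⟨[nat_lit 0x8cecd8140ba1c8e30d527dc22aa189], [nat_lit 168960, nat_lit 165120, nat_lit 163328, nat_lit 156160, nat_lit 152064, nat_lit 148032, nat_lit 144720, nat_lit 140764, nat_lit 135236, nat_lit 132273, nat_lit 804, nat_lit 4540, nat_lit 8448, nat_lit 13552, nat_lit 18208, nat_lit 21056, nat_lit 25856, nat_lit 28928, nat_lit 37888, nat_lit 41905, nat_lit 38228, nat_lit 32896, nat_lit 28750, nat_lit 24744, nat_lit 20575, nat_lit 16429, nat_lit 12291, nat_lit 8208, nat_lit 8]⟩⟩⟩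
def p249 : AP := ⟨[nat_lit 178, nat_lit 213], [], (nat_lit 396), ⟨[nat_lit 0, nat_lit 82, nat_lit 58], [nat_lit 0, nat_lit 75, nat_lit 94], ⟨[nat_lit 0x401ed3a866a49c458ad52dd9380629], [nat_lit 174080, nat_lit 170496, nat_lit 167168, nat_lit 161280, nat_lit 156160, nat_lit 151680, nat_lit 150880, nat_lit 143544, nat_lit 140452, nat_lit 138390, nat_lit 135142, nat_lit 724, nat_lit 6084, nat_lit 9664, nat_lit 13008, nat_lit 17312, nat_lit 21440, nat_lit 25472, nat_lit 30464, nat_lit 37888, nat_lit 41954, nat_lit 37307, nat_lit 33387, nat_lit 28985, nat_lit 24746, nat_lit 20490, nat_lit 16652, nat_lit 12311, nat_lit 8193, nat_lit 4097]⟩⟩⟩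
def p250 : AP := ⟨[nat_lit 67, nat_lit 51], [], (nat_lit 122), ⟨[nat_lit 0, nat_lit 24, nat_lit 55], [nat_lit 0, nat_lit 37, nat_lit 58], ⟨[nat_lit 0x3d8262c18b0213588a54bb46e7cc8a], [nat_lit 160512, nat_lit 157952, nat_lit 152480, nat_lit 148880, nat_lit 143896, nat_lit 140052, nat_lit 135528, nat_lit 131970, nat_lit 1874, nat_lit 5064, nat_lit 9560, nat_lit 14112, nat_lit 17856, nat_lit 21248, nat_lit 24960, nat_lit 29952, nat_lit 34304, nat_lit 37888, nat_lit 41423, nat_lit 37198, nat_lit 32992, nat_lit 28776, nat_lit 24762, nat_lit 20616, nat_lit 16462, nat_lit 8193, nat_lit 4160]⟩⟩⟩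
def l251 : List AP := [⟨[nat_lit 39, nat_lit 39], [], (nat_lit 1032), ⟨[nat_lit 7, nat_lit 53], [nat_lit 0, nat_lit 72, nat_lit 55], ⟨[nat_lit 0x62916395f55ccc0b89a30c124a464e], [nat_lit 168448, nat_lit 164352, nat_lit 163456, nat_lit 155712, nat_lit 152992, nat_lit 147936, nat_lit 144064, nat_lit 139792, nat_lit 135178, nat_lit 133109, nat_lit 1292, nat_lit 5100, nat_lit 9648, nat_lit 13824, nat_lit 16512, nat_lit 20992, nat_lit 25344, nat_lit 29184, nat_lit 33792, nat_lit 41408, nat_lit 37096, nat_lit 33864, nat_lit 28714, nat_lit 25131, nat_lit 20623, nat_lit 12418, nat_lit 8225, nat_lit 4161, nat_lit 32]⟩⟩⟩]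
theorem s251 : Suf yT 4194304 (ldrop wS 161) (apW dcM p250) (tgtN dcM p250.e) := Suf.fin' (l := l251) (by decide +kernel)
def l250 : List AP := [⟨[nat_lit 73, nat_lit 640, nat_lit 67, nat_lit 71], [], (nat_lit 120), ⟨[nat_lit 12, nat_lit 69], [nat_lit 41, nat_lit 56], ⟨[nat_lit 0x68877a4a2e2bea70a4905826642acc], [nat_lit 164608, nat_lit 160896, nat_lit 157248, nat_lit 152448, nat_lit 148416, nat_lit 143552, nat_lit 140116, nat_lit 136064, nat_lit 132424, nat_lit 902, nat_lit 4412, nat_lit 9360, nat_lit 13136, nat_lit 18048, nat_lit 20992, nat_lit 24832, nat_lit 30208, nat_lit 41195, nat_lit 32832, nat_lit 29810, nat_lit 24868, nat_lit 20555, nat_lit 16521, nat_lit 12327, nat_lit 8193, nat_lit 4097, nat_lit 2]⟩⟩⟩,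
  ⟨[nat_lit 73], [], (nat_lit 127), ⟨[nat_lit 17, nat_lit 90], [nat_lit 26, nat_lit 58], ⟨[nat_lit 0x34125036e7a0c8c8adee9aad544841], [nat_lit 168960, nat_lit 166656, nat_lit 162048, nat_lit 159488, nat_lit 155520, nat_lit 148016, nat_lit 145832, nat_lit 142808, nat_lit 136866, nat_lit 134939, nat_lit 494, nat_lit 4100, nat_lit 13824, nat_lit 17504, nat_lit 22400, nat_lit 25216, nat_lit 41114, nat_lit 37112, nat_lit 32851, nat_lit 28724, nat_lit 24837, nat_lit 20627, nat_lit 16460, nat_lit 12309, nat_lit 8195, nat_lit 4097]⟩⟩⟩]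
theorem s250 : Suf yT 4194304 (ldrop wS 146) (apW dcM p249) (tgtN dcM p249.e) := Suf.seg (l := l250) (by decide +kernel) s251
def l249 : List AP := [⟨[nat_lit 174, nat_lit 219], [], (nat_lit 396), ⟨[nat_lit 0, nat_lit 68], [nat_lit 29, nat_lit 59], ⟨[nat_lit 0x6c4234cd6ea32d0418552dc0a3be44], [nat_lit 171008, nat_lit 160384, nat_lit 158208, nat_lit 152480, nat_lit 148848, nat_lit 147056, nat_lit 142376, nat_lit 138914, nat_lit 134382, nat_lit 606, nat_lit 4700, nat_lit 8736, nat_lit 12704, nat_lit 18112, nat_lit 22336, nat_lit 25344, nat_lit 29952, nat_lit 33280, nat_lit 41798, nat_lit 36919, nat_lit 32876, nat_lit 28754, nat_lit 24727, nat_lit 20505, nat_lit 16396, nat_lit 12308, nat_lit 8209, nat_lit 4225]⟩⟩⟩,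
  ⟨[nat_lit 50], [], (nat_lit 1046), ⟨[nat_lit 5, nat_lit 70], [nat_lit 29, nat_lit 54], ⟨[nat_lit 0x6c4234cd6ea32d0418552dc0a3be44], [nat_lit 173056, nat_lit 171520, nat_lit 160384, nat_lit 158272, nat_lit 152480, nat_lit 148848, nat_lit 147056, nat_lit 142376, nat_lit 138914, nat_lit 134383, nat_lit 606, nat_lit 4700, nat_lit 8736, nat_lit 12704, nat_lit 18112, nat_lit 22336, nat_lit 25344, nat_lit 29952, nat_lit 33280, nat_lit 41798, nat_lit 36919, nat_lit 32876, nat_lit 28754, nat_lit 24727, nat_lit 20505, nat_lit 16396, nat_lit 12308, nat_lit 8209, nat_lit 4225]⟩⟩⟩]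
theorem s249 : Suf yT 4194304 (ldrop wS 140) (apW dcM p248) (tgtN dcM p248.e) := Suf.seg (l := l249) (by decide +kernel) s250
def l248 : List AP := [⟨[nat_lit 179, nat_lit 216], [], (nat_lit 396), ⟨[nat_lit 0, nat_lit 19, nat_lit 55], [nat_lit 0, nat_lit 89], ⟨[nat_lit 0x71576aa4ed829028de817c80c98cc4], [nat_lit 174080, nat_lit 168448, nat_lit 167168, nat_lit 163200, nat_lit 158144, nat_lit 152960, nat_lit 147904, nat_lit 143376, nat_lit 143292, nat_lit 139230, nat_lit 131576, nat_lit 606, nat_lit 4548, nat_lit 8824, nat_lit 12512, nat_lit 17408, nat_lit 21760, nat_lit 24960, nat_lit 30464, nat_lit 33792, nat_lit 37888, nat_lit 40962, nat_lit 37187, nat_lit 32988, nat_lit 28793, nat_lit 24621, nat_lit 20481, nat_lit 16392, nat_lit 12307, nat_lit 8259, nat_lit 8]⟩⟩⟩,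
  ⟨[nat_lit 642, nat_lit 643, nat_lit 46, nat_lit 47], [], (nat_lit 120), ⟨[nat_lit 0, nat_lit 10, nat_lit 92], [nat_lit 0, nat_lit 22, nat_lit 48], ⟨[nat_lit 0x13e5504dd7220c7a36018d86c4ad45], [nat_lit 171008, nat_lit 164352, nat_lit 161280, nat_lit 159168, nat_lit 152672, nat_lit 148112, nat_lit 146992, nat_lit 143172, nat_lit 138396, nat_lit 133902, nat_lit 718, nat_lit 5636, nat_lit 9560, nat_lit 13552, nat_lit 17056, nat_lit 22016, nat_lit 25344, nat_lit 29952, nat_lit 41810, nat_lit 36925, nat_lit 32815, nat_lit 28761, nat_lit 24614, nat_lit 20562, nat_lit 16431, nat_lit 12304, nat_lit 8195, nat_lit 4101]⟩⟩⟩]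
theorem s248 : Suf yT 4194304 (ldrop wS 125) (apW dcM p247) (tgtN dcM p247.e) := Suf.seg (l := l248) (by decide +kernel) s249
def l247 : List AP := [⟨[nat_lit 46, nat_lit 66, nat_lit 643], [], (nat_lit 121), ⟨[nat_lit 14, nat_lit 58], [nat_lit 0, nat_lit 15, nat_lit 50], ⟨[nat_lit 0xa20475580448cd70aea56b22f9c1d2], [nat_lit 171520, nat_lit 162432, nat_lit 157632, nat_lit 155488, nat_lit 150352, nat_lit 146696, nat_lit 139936, nat_lit 135306, nat_lit 134230, nat_lit 696, nat_lit 5952, nat_lit 10224, nat_lit 14112, nat_lit 18112, nat_lit 22208, nat_lit 26240, nat_lit 29184, nat_lit 33792, nat_lit 41199, nat_lit 37336, nat_lit 33369, nat_lit 28928, nat_lit 24593, nat_lit 21529, nat_lit 16431, nat_lit 12311, nat_lit 8203, nat_lit 4105]⟩⟩⟩,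
  ⟨[nat_lit 642, nat_lit 56, nat_lit 46, nat_lit 51], [], (nat_lit 1046), ⟨[nat_lit 0, nat_lit 3, nat_lit 55], [nat_lit 0, nat_lit 35, nat_lit 55], ⟨[nat_lit 0x12d047c13438dae8d58a04e45b84d6], [nat_lit 168960, nat_lit 164608, nat_lit 160000, nat_lit 158528, nat_lit 152064, nat_lit 148688, nat_lit 144336, nat_lit 139700, nat_lit 137210, nat_lit 132200, nat_lit 760, nat_lit 5120, nat_lit 8840, nat_lit 13792, nat_lit 16512, nat_lit 20608, nat_lit 24704, nat_lit 34304, nat_lit 37888, nat_lit 41247, nat_lit 37102, nat_lit 34004, nat_lit 28736, nat_lit 24608, nat_lit 20560, nat_lit 16416, nat_lit 12550, nat_lit 8203, nat_lit 4100]⟩⟩⟩]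
theorem s247 : Suf yT 4194304 (ldrop wS 110) (apW dcM p246) (tgtN dcM p246.e) := Suf.seg (l := l247) (by decide +kernel) s248
def l246 : List AP := [⟨[nat_lit 212, nat_lit 217], [], (nat_lit 419), ⟨[nat_lit 36, nat_lit 49], [nat_lit 26, nat_lit 63], ⟨[nat_lit 0xb3d72a9ee130a70a45a9730a020d0a], [nat_lit 174080, nat_lit 168448, nat_lit 162176, nat_lit 155968, nat_lit 153056, nat_lit 150784, nat_lit 145608, nat_lit 142072, nat_lit 138332, nat_lit 133320, nat_lit 1554, nat_lit 5904, nat_lit 8832, nat_lit 12304, nat_lit 16640, nat_lit 22208, nat_lit 26368, nat_lit 28928, nat_lit 34304, nat_lit 37888, nat_lit 41827, nat_lit 37162, nat_lit 32843, nat_lit 28701, nat_lit 24836, nat_lit 21015, nat_lit 16398, nat_lit 12293, nat_lit 8193, nat_lit 4113, nat_lit 2]⟩⟩⟩,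
  ⟨[nat_lit 219], [], (nat_lit 419), ⟨[nat_lit 22, nat_lit 91], [nat_lit 0, nat_lit 15, nat_lit 61], ⟨[nat_lit 0x958d4734b0088f17d40a62ee349113], [nat_lit 173056, nat_lit 168448, nat_lit 167168, nat_lit 163456, nat_lit 159296, nat_lit 153760, nat_lit 148912, nat_lit 147016, nat_lit 142784, nat_lit 135336, nat_lit 134367, nat_lit 846, nat_lit 5024, nat_lit 9840, nat_lit 12304, nat_lit 16640, nat_lit 20736, nat_lit 24832, nat_lit 29952, nat_lit 33280, nat_lit 37888, nat_lit 41833, nat_lit 38378, nat_lit 32830, nat_lit 28680, nat_lit 24579, nat_lit 20483, nat_lit 16395, nat_lit 12310, nat_lit 8202, nat_lit 4097, nat_lit 2]⟩⟩⟩]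
theorem s246 : Suf yT 4194304 (ldrop wS 95) (apW dcM p245) (tgtN dcM p245.e) := Suf.seg (l := l246) (by decide +kernel) s247
def l245 : List AP := [⟨[nat_lit 663, nat_lit 177], [], (nat_lit 396), ⟨[nat_lit 0, nat_lit 30, nat_lit 46], [nat_lit 6, nat_lit 58], ⟨[nat_lit 0x6cd70a48640b048016367d53731d4e], [nat_lit 169472, nat_lit 164864, nat_lit 160256, nat_lit 157632, nat_lit 153216, nat_lit 148320, nat_lit 143800, nat_lit 140000, nat_lit 136876, nat_lit 131492, nat_lit 166, nat_lit 4964, nat_lit 9096, nat_lit 12336, nat_lit 17408, nat_lit 22208, nat_lit 25600, nat_lit 29184, nat_lit 33792, nat_lit 37888, nat_lit 41789, nat_lit 38341, nat_lit 32843, nat_lit 29210, nat_lit 24754, nat_lit 20610, nat_lit 16463, nat_lit 12311, nat_lit 8210, nat_lit 4112, nat_lit 2]⟩⟩⟩,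
  ⟨[nat_lit 50], [], (nat_lit 1046), ⟨[nat_lit 33, nat_lit 69], [nat_lit 0, nat_lit 28, nat_lit 90], ⟨[nat_lit 0x6cd70a48640b048016367d53731d4e], [nat_lit 173056, nat_lit 169472, nat_lit 165120, nat_lit 160384, nat_lit 157632, nat_lit 153248, nat_lit 148336, nat_lit 143800, nat_lit 140000, nat_lit 136878, nat_lit 131493, nat_lit 166, nat_lit 4964, nat_lit 9096, nat_lit 12336, nat_lit 17408, nat_lit 22208, nat_lit 25600, nat_lit 29184, nat_lit 33792, nat_lit 37888, nat_lit 41789, nat_lit 38341, nat_lit 32843, nat_lit 29210, nat_lit 24754, nat_lit 20610, nat_lit 16463, nat_lit 12311, nat_lit 8210, nat_lit 4112, nat_lit 2]⟩⟩⟩]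
theorem s245 : Suf yT 4194304 (ldrop wS 89) (apW dcM p244) (tgtN dcM p244.e) := Suf.seg (l := l245) (by decide +kernel) s246
def l244 : List AP := [⟨[nat_lit 50], [], (nat_lit 120), ⟨[nat_lit 0, nat_lit 87, nat_lit 46], [nat_lit 0, nat_lit 78, nat_lit 70], ⟨[nat_lit 0xab1415cd27249eea01a8188b089ad7], [nat_lit 173056, nat_lit 171520, nat_lit 159872, nat_lit 158528, nat_lit 152800, nat_lit 149120, nat_lit 147096, nat_lit 142144, nat_lit 138862, nat_lit 133910, nat_lit 116, nat_lit 4340, nat_lit 9928, nat_lit 13360, nat_lit 17024, nat_lit 21888, nat_lit 25600, nat_lit 29696, nat_lit 33792, nat_lit 37888, nat_lit 41467, nat_lit 36917, nat_lit 32775, nat_lit 28679, nat_lit 24592, nat_lit 21020, nat_lit 16455, nat_lit 12326, nat_lit 8195, nat_lit 4]⟩⟩⟩,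
  ⟨[nat_lit 71, nat_lit 72, nat_lit 68, nat_lit 52, nat_lit 46], [], (nat_lit 1046), ⟨[nat_lit 43, nat_lit 90], [nat_lit 6, nat_lit 51], ⟨[nat_lit 0x7de640a21250dae5d814114c9ab0f1], [nat_lit 168960, nat_lit 166656, nat_lit 161536, nat_lit 157056, nat_lit 151968, nat_lit 149216, nat_lit 145336, nat_lit 139696, nat_lit 136090, nat_lit 132201, nat_lit 1694, nat_lit 4924, nat_lit 8824, nat_lit 13552, nat_lit 16896, nat_lit 20992, nat_lit 29696, nat_lit 33280, nat_lit 41856, nat_lit 37184, nat_lit 32800, nat_lit 29696, nat_lit 25088, nat_lit 20752, nat_lit 16426, nat_lit 12311, nat_lit 8203, nat_lit 4101, nat_lit 2]⟩⟩⟩]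
theorem s244 : Suf yT 4194304 (ldrop wS 74) (apW dcM p243) (tgtN dcM p243.e) := Suf.seg (l := l244) (by decide +kernel) s245
def l243 : List AP := [⟨[nat_lit 53, nat_lit 52, nat_lit 48, nat_lit 46], [], (nat_lit 120), ⟨[nat_lit 35, nat_lit 64], [nat_lit 0, nat_lit 31, nat_lit 48], ⟨[nat_lit 0x1ca350aa8b05cc77b2c274c8883525], [nat_lit 174080, nat_lit 170496, nat_lit 166656, nat_lit 161536, nat_lit 156096, nat_lit 152256, nat_lit 150160, nat_lit 144952, nat_lit 141248, nat_lit 137694, nat_lit 133151, nat_lit 1938, nat_lit 5444, nat_lit 9632, nat_lit 13168, nat_lit 16480, nat_lit 20800, nat_lit 24704, nat_lit 28928, nat_lit 33792, nat_lit 37888, nat_lit 41612, nat_lit 38381, nat_lit 32997, nat_lit 28721, nat_lit 24591, nat_lit 20609, nat_lit 16417, nat_lit 12358, nat_lit 8257, nat_lit 4097]⟩⟩⟩,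
  ⟨[nat_lit 67, nat_lit 640], [], (nat_lit 120), ⟨[nat_lit 0, nat_lit 5, nat_lit 58], [nat_lit 0, nat_lit 36, nat_lit 51], ⟨[nat_lit 0xb4197692661a6a7028b45c50f0b852], [nat_lit 173056, nat_lit 168960, nat_lit 165376, nat_lit 159872, nat_lit 156224, nat_lit 151616, nat_lit 150832, nat_lit 144688, nat_lit 140900, nat_lit 136706, nat_lit 131840, nat_lit 1140, nat_lit 4100, nat_lit 10144, nat_lit 12480, nat_lit 18336, nat_lit 22400, nat_lit 25856, nat_lit 30208, nat_lit 37888, nat_lit 41520, nat_lit 38015, nat_lit 32912, nat_lit 28960, nat_lit 25151, nat_lit 20497, nat_lit 16392, nat_lit 12310, nat_lit 4104, nat_lit 32]⟩⟩⟩]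
theorem s243 : Suf yT 4194304 (ldrop wS 59) (apW dcM p242) (tgtN dcM p242.e) := Suf.seg (l := l243) (by decide +kernel) s244
def l242 : List AP := [⟨[nat_lit 23, nat_lit 25, nat_lit 32, nat_lit 21, nat_lit 29], [], (nat_lit 391), ⟨[nat_lit 0, nat_lit 35, nat_lit 68], [nat_lit 19, nat_lit 58], ⟨[nat_lit 0x1a02665c1059e537912ea5945ac5a2], [nat_lit 174080, nat_lit 164096, nat_lit 160896, nat_lit 157888, nat_lit 154464, nat_lit 150512, nat_lit 145248, nat_lit 141568, nat_lit 136776, nat_lit 134244, nat_lit 1136, nat_lit 5900, nat_lit 8704, nat_lit 13712, nat_lit 17248, nat_lit 21504, nat_lit 25088, nat_lit 29184, nat_lit 41532, nat_lit 38184, nat_lit 33477, nat_lit 28698, nat_lit 24581, nat_lit 21529, nat_lit 16527, nat_lit 12290, nat_lit 8193, nat_lit 4104]⟩⟩⟩,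
  ⟨[nat_lit 175, nat_lit 661, nat_lit 171], [], (nat_lit 418), ⟨[nat_lit 0, nat_lit 82, nat_lit 50], [nat_lit 30, nat_lit 69], ⟨[nat_lit 0x95d4f65933ab6282900718826a2dd0], [nat_lit 173056, nat_lit 170496, nat_lit 164608, nat_lit 162048, nat_lit 155712, nat_lit 155456, nat_lit 150048, nat_lit 146968, nat_lit 140384, nat_lit 135296, nat_lit 134261, nat_lit 760, nat_lit 5228, nat_lit 10224, nat_lit 14144, nat_lit 18304, nat_lit 20544, nat_lit 25600, nat_lit 28928, nat_lit 33792, nat_lit 37888, nat_lit 41077, nat_lit 37355, nat_lit 32778, nat_lit 29300, nat_lit 24602, nat_lit 20489, nat_lit 16459, nat_lit 12320, nat_lit 8195, nat_lit 4100]⟩⟩⟩]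
theorem s242 : Suf yT 4194304 (ldrop wS 44) (apW dcM p241) (tgtN dcM p241.e) := Suf.seg (l := l242) (by decide +kernel) s243
def l241 : List AP := [⟨[nat_lit 170, nat_lit 214], [], (nat_lit 396), ⟨[nat_lit 0, nat_lit 19, nat_lit 90], [nat_lit 0, nat_lit 13, nat_lit 69], ⟨[nat_lit 0x684f37d50ea28624ca16880cc2aee4], [nat_lit 174080, nat_lit 169984, nat_lit 162304, nat_lit 159680, nat_lit 154688, nat_lit 148112, nat_lit 143904, nat_lit 141292, nat_lit 137924, nat_lit 133760, nat_lit 1778, nat_lit 4756, nat_lit 8536, nat_lit 13088, nat_lit 16512, nat_lit 21824, nat_lit 25856, nat_lit 29696, nat_lit 34304, nat_lit 41486, nat_lit 37265, nat_lit 32790, nat_lit 28689, nat_lit 24605, nat_lit 20500, nat_lit 16395, nat_lit 12306, nat_lit 8195]⟩⟩⟩,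
  ⟨[nat_lit 50], [], (nat_lit 1046), ⟨[nat_lit 42, nat_lit 65], [nat_lit 0, nat_lit 73, nat_lit 63], ⟨[nat_lit 0x684f37d50ea28624ca16880cc2aee4], [nat_lit 175104, nat_lit 170496, nat_lit 162432, nat_lit 159680, nat_lit 154688, nat_lit 148096, nat_lit 143912, nat_lit 141288, nat_lit 137926, nat_lit 133761, nat_lit 1778, nat_lit 4756, nat_lit 8536, nat_lit 13088, nat_lit 16512, nat_lit 21824, nat_lit 25856, nat_lit 29696, nat_lit 34304, nat_lit 41486, nat_lit 37265, nat_lit 32790, nat_lit 28689, nat_lit 24605, nat_lit 20500, nat_lit 16395, nat_lit 12306, nat_lit 8195]⟩⟩⟩]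
theorem s241 : Suf yT 4194304 (ldrop wS 38) (apW dcM p240) (tgtN dcM p240.e) := Suf.seg (l := l241) (by decide +kernel) s242
def l240 : List AP := [⟨[nat_lit 661, nat_lit 171], [], (nat_lit 418), ⟨[nat_lit 27, nat_lit 92], [nat_lit 42, nat_lit 66], ⟨[nat_lit 0x996b749d128b8cd0a9f4b2c4c20070], [nat_lit 175104, nat_lit 168960, nat_lit 164864, nat_lit 162432, nat_lit 153024, nat_lit 150720, nat_lit 146024, nat_lit 142376, nat_lit 138834, nat_lit 133669, nat_lit 1246, nat_lit 5332, nat_lit 9328, nat_lit 13808, nat_lit 16448, nat_lit 21952, nat_lit 28928, nat_lit 33792, nat_lit 37888, nat_lit 41935, nat_lit 38030, nat_lit 33504, nat_lit 28725, nat_lit 24577, nat_lit 20510, nat_lit 16395, nat_lit 12306, nat_lit 8224, nat_lit 4101]⟩⟩⟩,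
  ⟨[nat_lit 213, nat_lit 661], [], (nat_lit 419), ⟨[nat_lit 0, nat_lit 14, nat_lit 48], [nat_lit 80, nat_lit 94], ⟨[nat_lit 0x2ad33310b71212ab6e7115e38d121], [nat_lit 173056, nat_lit 166400, nat_lit 161152, nat_lit 156608, nat_lit 154848, nat_lit 150384, nat_lit 145472, nat_lit 142096, nat_lit 138998, nat_lit 131617, nat_lit 588, nat_lit 5604, nat_lit 9664, nat_lit 14032, nat_lit 17600, nat_lit 20992, nat_lit 30464, nat_lit 41354, nat_lit 37130, nat_lit 33335, nat_lit 29816, nat_lit 24726, nat_lit 20493, nat_lit 16386, nat_lit 12290, nat_lit 8227, nat_lit 4100, nat_lit 32]⟩⟩⟩]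
theorem s240 : Suf yT 4194304 (ldrop wS 23) (apW dcM p239) (tgtN dcM p239.e) := Suf.seg (l := l240) (by decide +kernel) s241
def l239 : List AP := [⟨[nat_lit 67, nat_lit 55, nat_lit 72, nat_lit 47], [], (nat_lit 1046), ⟨[nat_lit 7, nat_lit 92], [nat_lit 8, nat_lit 59], ⟨[nat_lit 0x42ace65232355a40dde01cd275c0a2], [nat_lit 173056, nat_lit 168960, nat_lit 165632, nat_lit 160384, nat_lit 156224, nat_lit 153760, nat_lit 148912, nat_lit 144224, nat_lit 140732, nat_lit 137042, nat_lit 131898, nat_lit 1178, nat_lit 4952, nat_lit 8256, nat_lit 13904, nat_lit 18336, nat_lit 20544, nat_lit 34304, nat_lit 41749, nat_lit 36960, nat_lit 32931, nat_lit 28782, nat_lit 24608, nat_lit 20500, nat_lit 16417, nat_lit 12420, nat_lit 8209, nat_lit 4104, nat_lit 16]⟩⟩⟩,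
  ⟨[nat_lit 177, nat_lit 179], [], (nat_lit 396), ⟨[nat_lit 0, nat_lit 38, nat_lit 47], [nat_lit 0, nat_lit 27, nat_lit 58], ⟨[nat_lit 0x481448c04509dcdabd139516cb1ae3], [nat_lit 173056, nat_lit 169472, nat_lit 164608, nat_lit 160768, nat_lit 159552, nat_lit 153536, nat_lit 147888, nat_lit 144264, nat_lit 140652, nat_lit 135686, nat_lit 132249, nat_lit 1148, nat_lit 4404, nat_lit 8896, nat_lit 13312, nat_lit 17408, nat_lit 24704, nat_lit 29696, nat_lit 37888, nat_lit 41184, nat_lit 36996, nat_lit 32903, nat_lit 28782, nat_lit 20638, nat_lit 16426, nat_lit 12311, nat_lit 8201, nat_lit 4113, nat_lit 2]⟩⟩⟩]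
theorem s239 : Suf yT 4194304 (ldrop wS 8) (apW dcM p238) (tgtN dcM p238.e) := Suf.seg (l := l239) (by decide +kernel) s240
def l238 : List AP := [⟨[nat_lit 626, nat_lit 6, nat_lit 624, nat_lit 1, nat_lit 5, nat_lit 6], [], (nat_lit 26), ⟨[nat_lit 0, nat_lit 15, nat_lit 48], [nat_lit 0, nat_lit 37, nat_lit 64], ⟨[nat_lit 0xc0175944f1b0c8b12274d64a6d1d3], [nat_lit 173056, nat_lit 168448, nat_lit 165632, nat_lit 162560, nat_lit 157440, nat_lit 152064, nat_lit 148960, nat_lit 144040, nat_lit 140192, nat_lit 135848, nat_lit 133108, nat_lit 718, nat_lit 5268, nat_lit 10128, nat_lit 12896, nat_lit 18400, nat_lit 20608, nat_lit 25984, nat_lit 41533, nat_lit 38345, nat_lit 32945, nat_lit 25148, nat_lit 20511, nat_lit 16418, nat_lit 12306, nat_lit 8203, nat_lit 4105]⟩⟩⟩,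
  ⟨[nat_lit 37, nat_lit 15, nat_lit 38, nat_lit 631, nat_lit 37], [], (nat_lit 90), ⟨[nat_lit 0, nat_lit 4, nat_lit 46], [nat_lit 22, nat_lit 64], ⟨[nat_lit 0x901f5194289dc4e49daca19562460b], [nat_lit 168448, nat_lit 163712, nat_lit 156800, nat_lit 152416, nat_lit 147664, nat_lit 143840, nat_lit 140124, nat_lit 136318, nat_lit 131466, nat_lit 354, nat_lit 5016, nat_lit 8352, nat_lit 13184, nat_lit 17952, nat_lit 20864, nat_lit 24832, nat_lit 28928, nat_lit 33280, nat_lit 41856, nat_lit 38074, nat_lit 32902, nat_lit 28753, nat_lit 24721, nat_lit 21019, nat_lit 16514, nat_lit 12802, nat_lit 8450, nat_lit 4113, nat_lit 16]⟩⟩⟩]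
theorem rS10 : Suf yT 4194304 wS [yT.get 44] 0 := Suf.seg (l := l238) (by decide +kernel) s239

def p252 : AP := ⟨[], [], (nat_lit 254), ⟨[nat_lit 13, nat_lit 47], [nat_lit 0, nat_lit 79, nat_lit 57], ⟨[nat_lit 0x55c62a148b01dd06b2c80c8cf9d629], [nat_lit 173056, nat_lit 169472, nat_lit 162048, nat_lit 156928, nat_lit 152544, nat_lit 147536, nat_lit 144056, nat_lit 140856, nat_lit 137104, nat_lit 133078, nat_lit 804, nat_lit 6084, nat_lit 9384, nat_lit 13664, nat_lit 17056, nat_lit 21312, nat_lit 25472, nat_lit 29696, nat_lit 33792, nat_lit 37888, nat_lit 41088, nat_lit 37104, nat_lit 32896, nat_lit 25126, nat_lit 21020, nat_lit 16462, nat_lit 12311, nat_lit 8200, nat_lit 4101, nat_lit 4]⟩⟩⟩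
def p253 : AP := ⟨[nat_lit 109, nat_lit 130], [], (nat_lit 254), ⟨[nat_lit 75, nat_lit 60], [nat_lit 85], ⟨[nat_lit 0x59608b384a9d2e609071934ef032a9], [nat_lit 175104, nat_lit 171520, nat_lit 166912, nat_lit 163200, nat_lit 156160, nat_lit 155328, nat_lit 150016, nat_lit 144576, nat_lit 141924, nat_lit 137140, nat_lit 132224, nat_lit 804, nat_lit 4720, nat_lit 9248, nat_lit 12384, nat_lit 17536, nat_lit 21312, nat_lit 26496, nat_lit 28928, nat_lit 33792, nat_lit 37888, nat_lit 41341, nat_lit 37104, nat_lit 32788, nat_lit 29199, nat_lit 24716, nat_lit 20551, nat_lit 16396, nat_lit 12309, nat_lit 8210, nat_lit 4097, nat_lit 2]⟩⟩⟩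
def p254 : AP := ⟨[nat_lit 130, nat_lit 135], [], (nat_lit 217), ⟨[nat_lit 0, nat_lit 71, nat_lit 66], [nat_lit 0, nat_lit 4, nat_lit 49], ⟨[nat_lit 0x8046c24dc7b45b4508b5b980893d69], [nat_lit 169984, nat_lit 160896, nat_lit 159040, nat_lit 153472, nat_lit 147776, nat_lit 145424, nat_lit 142160, nat_lit 138432, nat_lit 133640, nat_lit 1928, nat_lit 5296, nat_lit 9752, nat_lit 14176, nat_lit 17024, nat_lit 20928, nat_lit 25600, nat_lit 29696, nat_lit 37888, nat_lit 40975, nat_lit 37059, nat_lit 33012, nat_lit 29010, nat_lit 24592, nat_lit 20639, nat_lit 16422, nat_lit 12295, nat_lit 8195, nat_lit 4100]⟩⟩⟩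
def p255 : AP := ⟨[nat_lit 130], [], (nat_lit 246), ⟨[nat_lit 0, nat_lit 1, nat_lit 49], [nat_lit 7, nat_lit 47], ⟨[nat_lit 0x1b6088dcf3b192b7d48c9054ea0805], [nat_lit 175104, nat_lit 169472, nat_lit 164864, nat_lit 160384, nat_lit 158336, nat_lit 154656, nat_lit 151424, nat_lit 144352, nat_lit 143060, nat_lit 137170, nat_lit 133613, nat_lit 1268, nat_lit 4684, nat_lit 8320, nat_lit 12672, nat_lit 18336, nat_lit 20736, nat_lit 25344, nat_lit 28928, nat_lit 34304, nat_lit 41935, nat_lit 38121, nat_lit 32851, nat_lit 28714, nat_lit 24598, nat_lit 20619, nat_lit 16389, nat_lit 12419, nat_lit 8193, nat_lit 4160]⟩⟩⟩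
def p256 : AP := ⟨[nat_lit 23, nat_lit 31, nat_lit 31, nat_lit 635, nat_lit 24, nat_lit 22], [], (nat_lit 216), ⟨[nat_lit 0, nat_lit 16, nat_lit 63], [nat_lit 34, nat_lit 93], ⟨[nat_lit 0xa192b0c50ca9e50b00a21a9f325dcd], [nat_lit 173056, nat_lit 169984, nat_lit 164864, nat_lit 160768, nat_lit 156224, nat_lit 152096, nat_lit 148944, nat_lit 144888, nat_lit 139292, nat_lit 136736, nat_lit 133002, nat_lit 1004, nat_lit 5652, nat_lit 8232, nat_lit 14208, nat_lit 16896, nat_lit 22464, nat_lit 25856, nat_lit 29952, nat_lit 34304, nat_lit 37888, nat_lit 41899, nat_lit 38059, nat_lit 32876, nat_lit 29699, nat_lit 24618, nat_lit 20486, nat_lit 16399, nat_lit 12311, nat_lit 8210, nat_lit 4113]⟩⟩⟩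
def p257 : AP := ⟨[nat_lit 30, nat_lit 29, nat_lit 24, nat_lit 22], [], (nat_lit 88), ⟨[nat_lit 0, nat_lit 85, nat_lit 68], [nat_lit 19, nat_lit 64], ⟨[nat_lit 0x1057719e2ca4933aa9ae4189683ca0], [nat_lit 175104, nat_lit 168448, nat_lit 164608, nat_lit 163456, nat_lit 156352, nat_lit 152640, nat_lit 151424, nat_lit 146544, nat_lit 142856, nat_lit 137992, nat_lit 133785, nat_lit 128, nat_lit 5276, nat_lit 9112, nat_lit 12912, nat_lit 17728, nat_lit 21952, nat_lit 24704, nat_lit 30208, nat_lit 33792, nat_lit 37888, nat_lit 41603, nat_lit 37888, nat_lit 32927, nat_lit 29004, nat_lit 24609, nat_lit 20575, nat_lit 16420, nat_lit 12305, nat_lit 8225, nat_lit 4097, nat_lit 2]⟩⟩⟩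
def p258 : AP := ⟨[nat_lit 135, nat_lit 132, nat_lit 130], [], (nat_lit 246), ⟨[nat_lit 0, nat_lit 29, nat_lit 60], [nat_lit 82, nat_lit 92], ⟨[nat_lit 0xb9a487543403d2b3c2ca1b4a460a33], [nat_lit 174080, nat_lit 171008, nat_lit 163072, nat_lit 159104, nat_lit 154080, nat_lit 148736, nat_lit 144784, nat_lit 140176, nat_lit 138808, nat_lit 133160, nat_lit 78, nat_lit 4924, nat_lit 8704, nat_lit 13984, nat_lit 16896, nat_lit 20736, nat_lit 24960, nat_lit 29184, nat_lit 33280, nat_lit 37888, nat_lit 41266, nat_lit 37267, nat_lit 32880, nat_lit 28685, nat_lit 24861, nat_lit 20544, nat_lit 16397, nat_lit 12295, nat_lit 8202, nat_lit 4104, nat_lit 2]⟩⟩⟩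
def p259 : AP := ⟨[nat_lit 116, nat_lit 652, nat_lit 109], [], (nat_lit 254), ⟨[nat_lit 77, nat_lit 92], [nat_lit 34], ⟨[nat_lit 0x33e6a438b2a0d2b21ec180237136ac], [nat_lit 175104, nat_lit 171008, nat_lit 165888, nat_lit 163712, nat_lit 155776, nat_lit 155584, nat_lit 150880, nat_lit 143488, nat_lit 142920, nat_lit 137144, nat_lit 131345, nat_lit 2012, nat_lit 5768, nat_lit 8576, nat_lit 12832, nat_lit 18336, nat_lit 21312, nat_lit 26496, nat_lit 29440, nat_lit 33280, nat_lit 41673, nat_lit 37140, nat_lit 33514, nat_lit 28692, nat_lit 24874, nat_lit 20749, nat_lit 16397, nat_lit 12309, nat_lit 8193, nat_lit 4097, nat_lit 2]⟩⟩⟩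
def p260 : AP := ⟨[], [], (nat_lit 217), ⟨[nat_lit 8, nat_lit 90], [nat_lit 0, nat_lit 13, nat_lit 68], ⟨[nat_lit 0x6100a4c974a9cd0b8a6140dc58becd], [nat_lit 173056, nat_lit 168448, nat_lit 164096, nat_lit 160128, nat_lit 156160, nat_lit 151840, nat_lit 147728, nat_lit 144448, nat_lit 140560, nat_lit 136800, nat_lit 131861, nat_lit 492, nat_lit 5544, nat_lit 9272, nat_lit 13664, nat_lit 18144, nat_lit 20992, nat_lit 26240, nat_lit 29184, nat_lit 33792, nat_lit 41960, nat_lit 37010, nat_lit 33954, nat_lit 29310, nat_lit 24716, nat_lit 20559, nat_lit 16898, nat_lit 12327, nat_lit 8227, nat_lit 4128]⟩⟩⟩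
def p261 : AP := ⟨[nat_lit 652, nat_lit 109, nat_lit 130], [], (nat_lit 254), ⟨[nat_lit 76, nat_lit 66], [nat_lit 21, nat_lit 53], ⟨[nat_lit 0x552083b06b914950dc519b6cf038c9], [nat_lit 167680, nat_lit 161536, nat_lit 156928, nat_lit 154848, nat_lit 150032, nat_lit 145992, nat_lit 142860, nat_lit 137820, nat_lit 131975, nat_lit 1478, nat_lit 5436, nat_lit 9136, nat_lit 13552, nat_lit 18304, nat_lit 21056, nat_lit 26240, nat_lit 33280, nat_lit 37888, nat_lit 41573, nat_lit 37178, nat_lit 33336, nat_lit 28737, nat_lit 24596, nat_lit 21016, nat_lit 16394, nat_lit 12289, nat_lit 8194, nat_lit 8]⟩⟩⟩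
def p262 : AP := ⟨[nat_lit 110, nat_lit 135, nat_lit 114], [], (nat_lit 246), ⟨[nat_lit 81, nat_lit 89], [nat_lit 0, nat_lit 29, nat_lit 55], ⟨[nat_lit 0xa15cbbc6c11c92855586800e47b662], [nat_lit 173056, nat_lit 169984, nat_lit 164096, nat_lit 160256, nat_lit 155776, nat_lit 152704, nat_lit 147792, nat_lit 144464, nat_lit 141164, nat_lit 136234, nat_lit 132974, nat_lit 586, nat_lit 5024, nat_lit 8704, nat_lit 13664, nat_lit 16896, nat_lit 21632, nat_lit 24960, nat_lit 30464, nat_lit 33280, nat_lit 37888, nat_lit 41867, nat_lit 37331, nat_lit 33491, nat_lit 29190, nat_lit 24759, nat_lit 20568, nat_lit 8195, nat_lit 4100, nat_lit 2]⟩⟩⟩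
def p263 : AP := ⟨[nat_lit 132, nat_lit 130, nat_lit 109], [], (nat_lit 246), ⟨[nat_lit 18, nat_lit 63], [nat_lit 45, nat_lit 50], ⟨[nat_lit 0x39148b00543152b649b3a86e37ba11], [nat_lit 168960, nat_lit 164608, nat_lit 159872, nat_lit 156224, nat_lit 151648, nat_lit 148048, nat_lit 145240, nat_lit 140320, nat_lit 135172, nat_lit 134978, nat_lit 512, nat_lit 4108, nat_lit 9648, nat_lit 13664, nat_lit 16576, nat_lit 20736, nat_lit 25216, nat_lit 29440, nat_lit 33280, nat_lit 37888, nat_lit 41503, nat_lit 38378, nat_lit 32962, nat_lit 28934, nat_lit 24741, nat_lit 20544, nat_lit 16908, nat_lit 12289, nat_lit 8193, nat_lit 4353]⟩⟩⟩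
def p264 : AP := ⟨[nat_lit 637, nat_lit 28, nat_lit 25, nat_lit 21], [], (nat_lit 1036), ⟨[nat_lit 0, nat_lit 23, nat_lit 47], [nat_lit 8, nat_lit 46], ⟨[nat_lit 0x3262403e879086baa2f09b14eb3425], [nat_lit 175104, nat_lit 171008, nat_lit 167168, nat_lit 161664, nat_lit 159616, nat_lit 153856, nat_lit 148672, nat_lit 147056, nat_lit 140548, nat_lit 136364, nat_lit 131100, nat_lit 364, nat_lit 5992, nat_lit 9040, nat_lit 14304, nat_lit 17632, nat_lit 21568, nat_lit 25472, nat_lit 29696, nat_lit 33280, nat_lit 37888, nat_lit 41870, nat_lit 38118, nat_lit 32840, nat_lit 29761, nat_lit 24732, nat_lit 20504, nat_lit 16420, nat_lit 12293, nat_lit 8200, nat_lit 4]⟩⟩⟩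
def l265 : List AP := [⟨[nat_lit 41, nat_lit 629], [], (nat_lit 1032), ⟨[nat_lit 30, nat_lit 91], [nat_lit 0, nat_lit 29, nat_lit 90], ⟨[nat_lit 0x999f185c0ab168c411abac92111c6e], [nat_lit 175104, nat_lit 168448, nat_lit 164352, nat_lit 161152, nat_lit 159488, nat_lit 154880, nat_lit 150304, nat_lit 144392, nat_lit 142800, nat_lit 136102, nat_lit 134510, nat_lit 960, nat_lit 5972, nat_lit 10168, nat_lit 13744, nat_lit 18240, nat_lit 20672, nat_lit 25600, nat_lit 29440, nat_lit 33792, nat_lit 37888, nat_lit 41533, nat_lit 37116, nat_lit 32907, nat_lit 28783, nat_lit 24733, nat_lit 20509, nat_lit 16430, nat_lit 12324, nat_lit 8194, nat_lit 4101]⟩⟩⟩]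
theorem s265 : Suf yT 8392704 (ldrop wS 161) (apW dcM p264) (tgtN dcM p264.e) := Suf.fin' (l := l265) (by decide +kernel)
def l264 : List AP := [⟨[nat_lit 22, nat_lit 634, nat_lit 23, nat_lit 28], [], (nat_lit 88), ⟨[nat_lit 37, nat_lit 60], [nat_lit 1, nat_lit 64], ⟨[nat_lit 0x7268c5da702c40d254e87c8c21dd41], [nat_lit 173056, nat_lit 171008, nat_lit 165632, nat_lit 163328, nat_lit 157184, nat_lit 155104, nat_lit 150928, nat_lit 146432, nat_lit 139804, nat_lit 135224, nat_lit 134343, nat_lit 698, nat_lit 5544, nat_lit 9928, nat_lit 12352, nat_lit 17536, nat_lit 21312, nat_lit 26240, nat_lit 29184, nat_lit 33792, nat_lit 41131, nat_lit 37142, nat_lit 32939, nat_lit 28715, nat_lit 24619, nat_lit 20501, nat_lit 16418, nat_lit 12352]⟩⟩⟩,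
  ⟨[nat_lit 29, nat_lit 637], [], (nat_lit 68), ⟨[nat_lit 2, nat_lit 68], [nat_lit 0, nat_lit 83, nat_lit 69], ⟨[nat_lit 0xb4d3579c54435911c80b51606091d7], [nat_lit 175104, nat_lit 169472, nat_lit 164608, nat_lit 163584, nat_lit 156416, nat_lit 151840, nat_lit 151232, nat_lit 146992, nat_lit 141436, nat_lit 137560, nat_lit 134800, nat_lit 960, nat_lit 4328, nat_lit 10144, nat_lit 12528, nat_lit 17408, nat_lit 21760, nat_lit 25856, nat_lit 30464, nat_lit 34304, nat_lit 37888, nat_lit 41367, nat_lit 37299, nat_lit 33430, nat_lit 29284, nat_lit 24736, nat_lit 20492, nat_lit 16391, nat_lit 12293, nat_lit 8195, nat_lit 4097, nat_lit 2]⟩⟩⟩]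
theorem s264 : Suf yT 8392704 (ldrop wS 146) (apW dcM p263) (tgtN dcM p263.e) := Suf.seg (l := l264) (by decide +kernel) s265
def l263 : List AP := [⟨[nat_lit 637, nat_lit 32, nat_lit 21, nat_lit 636, nat_lit 21], [], (nat_lit 216), ⟨[nat_lit 0, nat_lit 71, nat_lit 58], [nat_lit 6, nat_lit 49], ⟨[nat_lit 0x62e28498347de16512a23ccae00e4d], [nat_lit 174080, nat_lit 168960, nat_lit 165376, nat_lit 161536, nat_lit 156608, nat_lit 152896, nat_lit 144552, nat_lit 140672, nat_lit 135428, nat_lit 131716, nat_lit 1516, nat_lit 9696, nat_lit 13312, nat_lit 17984, nat_lit 20736, nat_lit 25984, nat_lit 29696, nat_lit 33792, nat_lit 41635, nat_lit 38049, nat_lit 32868, nat_lit 24836, nat_lit 20544, nat_lit 16388, nat_lit 12293, nat_lit 8201, nat_lit 4608]⟩⟩⟩,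
  ⟨[], [], (nat_lit 255), ⟨[nat_lit 7, nat_lit 51], [nat_lit 0, nat_lit 79, nat_lit 61], ⟨[nat_lit 0x51e53a58ab80df5b85d143584008c9], [nat_lit 173056, nat_lit 169984, nat_lit 165376, nat_lit 161792, nat_lit 156544, nat_lit 154656, nat_lit 149952, nat_lit 146728, nat_lit 139688, nat_lit 136502, nat_lit 133983, nat_lit 1918, nat_lit 4548, nat_lit 9216, nat_lit 12976, nat_lit 17408, nat_lit 21760, nat_lit 25472, nat_lit 29952, nat_lit 34304, nat_lit 37888, nat_lit 41940, nat_lit 37251, nat_lit 33408, nat_lit 28745, nat_lit 24740, nat_lit 20498, nat_lit 16387, nat_lit 8195, nat_lit 4097]⟩⟩⟩]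
theorem s263 : Suf yT 8392704 (ldrop wS 140) (apW dcM p262) (tgtN dcM p262.e) := Suf.seg (l := l263) (by decide +kernel) s264
def l262 : List AP := [⟨[], [], (nat_lit 217), ⟨[nat_lit 0, nat_lit 23, nat_lit 51], [nat_lit 0, nat_lit 86, nat_lit 53], ⟨[nat_lit 0x625e7596f4885d62286244cd00564d], [nat_lit 163328, nat_lit 155776, nat_lit 153248, nat_lit 149056, nat_lit 143416, nat_lit 140344, nat_lit 135248, nat_lit 132048, nat_lit 364, nat_lit 6028, nat_lit 8552, nat_lit 12640, nat_lit 17216, nat_lit 20544, nat_lit 24704, nat_lit 29696, nat_lit 33280, nat_lit 37888, nat_lit 41927, nat_lit 38078, nat_lit 33525, nat_lit 24608, nat_lit 20567, nat_lit 16423, nat_lit 12545, nat_lit 8202, nat_lit 4101]⟩⟩⟩,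
  ⟨[nat_lit 636, nat_lit 21, nat_lit 635, nat_lit 26, nat_lit 32], [], (nat_lit 247), ⟨[nat_lit 83, nat_lit 50], [nat_lit 33, nat_lit 94], ⟨[nat_lit 0x919e8a888705d2b685968d070538b3], [nat_lit 173056, nat_lit 169472, nat_lit 164352, nat_lit 160384, nat_lit 157184, nat_lit 152576, nat_lit 148032, nat_lit 143656, nat_lit 141588, nat_lit 136166, nat_lit 132751, nat_lit 586, nat_lit 4208, nat_lit 8936, nat_lit 13584, nat_lit 18336, nat_lit 24832, nat_lit 29440, nat_lit 34304, nat_lit 41852, nat_lit 37356, nat_lit 33331, nat_lit 28772, nat_lit 24625, nat_lit 20557, nat_lit 16396, nat_lit 12305, nat_lit 8201, nat_lit 4353]⟩⟩⟩]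
theorem s262 : Suf yT 8392704 (ldrop wS 125) (apW dcM p261) (tgtN dcM p261.e) := Suf.seg (l := l262) (by decide +kernel) s263
def l261 : List AP := [⟨[nat_lit 635, nat_lit 21, nat_lit 28, nat_lit 31], [], (nat_lit 88), ⟨[nat_lit 8, nat_lit 65], [nat_lit 76, nat_lit 63], ⟨[nat_lit 0x9c5220a0877ac0cba875a1a0d915d6], [nat_lit 173056, nat_lit 169472, nat_lit 167168, nat_lit 159872, nat_lit 151712, nat_lit 148752, nat_lit 144928, nat_lit 140564, nat_lit 135234, nat_lit 131101, nat_lit 952, nat_lit 4240, nat_lit 8912, nat_lit 13760, nat_lit 16960, nat_lit 21952, nat_lit 24704, nat_lit 28928, nat_lit 41216, nat_lit 37072, nat_lit 32779, nat_lit 28736, nat_lit 24743, nat_lit 20563, nat_lit 16417, nat_lit 12547, nat_lit 8209, nat_lit 4161]⟩⟩⟩,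
  ⟨[nat_lit 32, nat_lit 26, nat_lit 26, nat_lit 25, nat_lit 26], [], (nat_lit 216), ⟨[nat_lit 0, nat_lit 12, nat_lit 66], [nat_lit 39, nat_lit 69], ⟨[nat_lit 0x138945cab6541ac48e60418b1786e7], [nat_lit 164096, nat_lit 161280, nat_lit 157312, nat_lit 152064, nat_lit 149152, nat_lit 144448, nat_lit 139968, nat_lit 136414, nat_lit 132579, nat_lit 1182, nat_lit 4328, nat_lit 9760, nat_lit 14176, nat_lit 16448, nat_lit 25728, nat_lit 33792, nat_lit 37373, nat_lit 33514, nat_lit 25138, nat_lit 16647, nat_lit 8257, nat_lit 4097]⟩⟩⟩]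
theorem s261 : Suf yT 8392704 (ldrop wS 110) (apW dcM p260) (tgtN dcM p260.e) := Suf.seg (l := l261) (by decide +kernel) s262
def l260 : List AP := [⟨[nat_lit 118, nat_lit 114, nat_lit 130], [], (nat_lit 254), ⟨[nat_lit 0, nat_lit 80, nat_lit 69], [nat_lit 0, nat_lit 12, nat_lit 58], ⟨[nat_lit 0x7d44a044e19152bb40971b9149b586], [nat_lit 171520, nat_lit 165632, nat_lit 160768, nat_lit 156160, nat_lit 153152, nat_lit 148384, nat_lit 143736, nat_lit 139752, nat_lit 136636, nat_lit 132541, nat_lit 1516, nat_lit 4924, nat_lit 8344, nat_lit 13712, nat_lit 17120, nat_lit 21056, nat_lit 25472, nat_lit 33792, nat_lit 37888, nat_lit 41436, nat_lit 37367, nat_lit 33534, nat_lit 29303, nat_lit 24614, nat_lit 20549, nat_lit 16903, nat_lit 12550, nat_lit 8202, nat_lit 4]⟩⟩⟩,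
  ⟨[nat_lit 109, nat_lit 649, nat_lit 109], [], (nat_lit 254), ⟨[nat_lit 36, nat_lit 55], [nat_lit 13, nat_lit 64], ⟨[nat_lit 0x50417a18eb722cf1c5a59888c942a9], [nat_lit 174080, nat_lit 168960, nat_lit 164096, nat_lit 161536, nat_lit 157632, nat_lit 152512, nat_lit 149344, nat_lit 144112, nat_lit 139940, nat_lit 136874, nat_lit 132436, nat_lit 804, nat_lit 4548, nat_lit 8792, nat_lit 12528, nat_lit 18240, nat_lit 21504, nat_lit 25600, nat_lit 29440, nat_lit 34304, nat_lit 41900, nat_lit 38283, nat_lit 32896, nat_lit 29008, nat_lit 24582, nat_lit 21014, nat_lit 16427, nat_lit 12306, nat_lit 8258, nat_lit 4097, nat_lit 2]⟩⟩⟩]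
theorem s260 : Suf yT 8392704 (ldrop wS 95) (apW dcM p259) (tgtN dcM p259.e) := Suf.seg (l := l260) (by decide +kernel) s261
def l259 : List AP := [⟨[nat_lit 31, nat_lit 27, nat_lit 22, nat_lit 23, nat_lit 24], [], (nat_lit 216), ⟨[nat_lit 82, nat_lit 61], [nat_lit 8, nat_lit 62], ⟨[nat_lit 0xa3a3242acc2260102e66a94ef10eed], [nat_lit 175104, nat_lit 171008, nat_lit 166144, nat_lit 160768, nat_lit 156032, nat_lit 152032, nat_lit 150480, nat_lit 145120, nat_lit 140908, nat_lit 138602, nat_lit 134555, nat_lit 484, nat_lit 4964, nat_lit 8200, nat_lit 13712, nat_lit 17120, nat_lit 22336, nat_lit 26496, nat_lit 29440, nat_lit 33792, nat_lit 41907, nat_lit 38133, nat_lit 33397, nat_lit 28676, nat_lit 24633, nat_lit 20499, nat_lit 16424, nat_lit 12295, nat_lit 8200, nat_lit 4]⟩⟩⟩,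
  ⟨[], [], (nat_lit 255), ⟨[nat_lit 85, nat_lit 64], [nat_lit 0, nat_lit 15, nat_lit 63], ⟨[nat_lit 0x592469deaa0d1e501db67311088869], [nat_lit 174080, nat_lit 165376, nat_lit 160896, nat_lit 159104, nat_lit 154624, nat_lit 151120, nat_lit 144800, nat_lit 142928, nat_lit 135738, nat_lit 134591, nat_lit 434, nat_lit 5580, nat_lit 8200, nat_lit 12800, nat_lit 18176, nat_lit 21120, nat_lit 24704, nat_lit 28928, nat_lit 33792, nat_lit 37888, nat_lit 41721, nat_lit 37338, nat_lit 33438, nat_lit 29265, nat_lit 24878, nat_lit 20545, nat_lit 16897, nat_lit 12291, nat_lit 8195, nat_lit 4097]⟩⟩⟩]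
theorem s259 : Suf yT 8392704 (ldrop wS 89) (apW dcM p258) (tgtN dcM p258.e) := Suf.seg (l := l259) (by decide +kernel) s260
def l258 : List AP := [⟨[nat_lit 31, nat_lit 23, nat_lit 22, nat_lit 21], [], (nat_lit 88), ⟨[nat_lit 0, nat_lit 78, nat_lit 50], [nat_lit 0, nat_lit 25, nat_lit 49], ⟨[nat_lit 0x7b65761162998f42a42eac54880ec0], [nat_lit 173056, nat_lit 164864, nat_lit 160256, nat_lit 155712, nat_lit 152832, nat_lit 150416, nat_lit 145056, nat_lit 140976, nat_lit 136566, nat_lit 132619, nat_lit 16, nat_lit 5544, nat_lit 9320, nat_lit 12352, nat_lit 16640, nat_lit 21568, nat_lit 24832, nat_lit 30464, nat_lit 34304, nat_lit 41232, nat_lit 36898, nat_lit 33948, nat_lit 28731, nat_lit 24636, nat_lit 20545, nat_lit 12325, nat_lit 8225, nat_lit 4224]⟩⟩⟩,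
  ⟨[nat_lit 24, nat_lit 28, nat_lit 26, nat_lit 24, nat_lit 21], [], (nat_lit 247), ⟨[nat_lit 0, nat_lit 29, nat_lit 67], [nat_lit 0, nat_lit 7, nat_lit 55], ⟨[nat_lit 0xbbc08112239192b2b59353836ac0f4], [nat_lit 173056, nat_lit 169472, nat_lit 164608, nat_lit 160384, nat_lit 156800, nat_lit 153216, nat_lit 150112, nat_lit 144184, nat_lit 140888, nat_lit 135810, nat_lit 131419, nat_lit 1214, nat_lit 5668, nat_lit 8728, nat_lit 12352, nat_lit 16416, nat_lit 20736, nat_lit 24832, nat_lit 29184, nat_lit 34304, nat_lit 41692, nat_lit 38380, nat_lit 33489, nat_lit 28943, nat_lit 24632, nat_lit 20496, nat_lit 16387, nat_lit 12357, nat_lit 8201, nat_lit 4112, nat_lit 2]⟩⟩⟩]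
theorem s258 : Suf yT 8392704 (ldrop wS 74) (apW dcM p257) (tgtN dcM p257.e) := Suf.seg (l := l258) (by decide +kernel) s259
def l257 : List AP := [⟨[nat_lit 134, nat_lit 135, nat_lit 110], [], (nat_lit 246), ⟨[nat_lit 0, nat_lit 29, nat_lit 67], [nat_lit 42, nat_lit 55], ⟨[nat_lit 0x355c86022f14d2ba065769156194f0], [nat_lit 173056, nat_lit 165120, nat_lit 161024, nat_lit 157056, nat_lit 152192, nat_lit 148240, nat_lit 143656, nat_lit 140216, nat_lit 136824, nat_lit 134486, nat_lit 64, nat_lit 5276, nat_lit 9032, nat_lit 12352, nat_lit 17120, nat_lit 22016, nat_lit 24832, nat_lit 28928, nat_lit 34304, nat_lit 37888, nat_lit 41905, nat_lit 38128, nat_lit 33501, nat_lit 28742, nat_lit 24617, nat_lit 20552, nat_lit 16392, nat_lit 12289, nat_lit 8323]⟩⟩⟩,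
  ⟨[nat_lit 31, nat_lit 26, nat_lit 635, nat_lit 637], [], (nat_lit 88), ⟨[nat_lit 0, nat_lit 14, nat_lit 91], [nat_lit 0, nat_lit 9, nat_lit 64], ⟨[nat_lit 0x5d58f0962dba803b1924141c7a2272], [nat_lit 173056, nat_lit 169472, nat_lit 165632, nat_lit 162560, nat_lit 157056, nat_lit 153280, nat_lit 147968, nat_lit 144072, nat_lit 140996, nat_lit 136884, nat_lit 132490, nat_lit 590, nat_lit 5024, nat_lit 9904, nat_lit 14144, nat_lit 17984, nat_lit 20608, nat_lit 26112, nat_lit 28928, nat_lit 41920, nat_lit 37248, nat_lit 32976, nat_lit 28676, nat_lit 24851, nat_lit 20488, nat_lit 16385, nat_lit 12320, nat_lit 8320, nat_lit 4160, nat_lit 2]⟩⟩⟩]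
theorem s257 : Suf yT 8392704 (ldrop wS 59) (apW dcM p256) (tgtN dcM p256.e) := Suf.seg (l := l257) (by decide +kernel) s258
def l256 : List AP := [⟨[nat_lit 637, nat_lit 24, nat_lit 27, nat_lit 30], [], (nat_lit 216), ⟨[nat_lit 0, nat_lit 41, nat_lit 90], [nat_lit 0, nat_lit 41, nat_lit 52], ⟨[nat_lit 0x28af422963305ac45a4f04cf14c2ae], [nat_lit 175104, nat_lit 171008, nat_lit 165888, nat_lit 160000, nat_lit 152288, nat_lit 151472, nat_lit 144376, nat_lit 139364, nat_lit 139164, nat_lit 133882, nat_lit 166, nat_lit 4992, nat_lit 10224, nat_lit 12720, nat_lit 17312, nat_lit 20544, nat_lit 25088, nat_lit 30464, nat_lit 34304, nat_lit 37888, nat_lit 41980, nat_lit 38163, nat_lit 32893, nat_lit 28748, nat_lit 24605, nat_lit 20485, nat_lit 16456, nat_lit 12358, nat_lit 8193, nat_lit 4105]⟩⟩⟩,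
  ⟨[nat_lit 130, nat_lit 131], [], (nat_lit 246), ⟨[nat_lit 0, nat_lit 21, nat_lit 49], [nat_lit 0, nat_lit 86, nat_lit 51], ⟨[nat_lit 0x406d28028b14d55291c763da61de29], [nat_lit 173056, nat_lit 165632, nat_lit 161280, nat_lit 157312, nat_lit 153216, nat_lit 148480, nat_lit 145336, nat_lit 140428, nat_lit 135694, nat_lit 135024, nat_lit 1478, nat_lit 6084, nat_lit 9328, nat_lit 12800, nat_lit 16768, nat_lit 21056, nat_lit 25216, nat_lit 29696, nat_lit 34304, nat_lit 37888, nat_lit 41771, nat_lit 37091, nat_lit 33905, nat_lit 29311, nat_lit 24887, nat_lit 20558, nat_lit 16527, nat_lit 12291, nat_lit 4097]⟩⟩⟩]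
theorem s256 : Suf yT 8392704 (ldrop wS 44) (apW dcM p255) (tgtN dcM p255.e) := Suf.seg (l := l256) (by decide +kernel) s257
def l255 : List AP := [⟨[nat_lit 637, nat_lit 31, nat_lit 24, nat_lit 638, nat_lit 635], [], (nat_lit 216), ⟨[nat_lit 45, nat_lit 90], [nat_lit 0, nat_lit 81, nat_lit 56], ⟨[nat_lit 0xa04432224cadc162c5e959a0e54ced], [nat_lit 169472, nat_lit 167424, nat_lit 160384, nat_lit 153536, nat_lit 148576, nat_lit 144696, nat_lit 140488, nat_lit 136496, nat_lit 132982, nat_lit 236, nat_lit 5488, nat_lit 9560, nat_lit 13616, nat_lit 18112, nat_lit 21184, nat_lit 26240, nat_lit 30464, nat_lit 34304, nat_lit 37888, nat_lit 41728, nat_lit 37120, nat_lit 32798, nat_lit 28736, nat_lit 24598, nat_lit 20504, nat_lit 16396, nat_lit 12307, nat_lit 8200, nat_lit 4097]⟩⟩⟩,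
  ⟨[], [], (nat_lit 255), ⟨[nat_lit 28, nat_lit 50], [nat_lit 88, nat_lit 68], ⟨[nat_lit 0x596220ccca70c1564a143d9e4bb509], [nat_lit 173056, nat_lit 170496, nat_lit 165632, nat_lit 160640, nat_lit 159552, nat_lit 151680, nat_lit 147856, nat_lit 146504, nat_lit 142540, nat_lit 137748, nat_lit 133960, nat_lit 1928, nat_lit 5316, nat_lit 10080, nat_lit 13712, nat_lit 16640, nat_lit 22080, nat_lit 24960, nat_lit 29696, nat_lit 34304, nat_lit 41714, nat_lit 37123, nat_lit 33504, nat_lit 28731, nat_lit 24620, nat_lit 20487, nat_lit 16387, nat_lit 12294, nat_lit 8194, nat_lit 4097]⟩⟩⟩]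
theorem s255 : Suf yT 8392704 (ldrop wS 38) (apW dcM p254) (tgtN dcM p254.e) := Suf.seg (l := l255) (by decide +kernel) s256
def l254 : List AP := [⟨[], [], (nat_lit 217), ⟨[nat_lit 0, nat_lit 12, nat_lit 61], [nat_lit 0, nat_lit 79, nat_lit 94], ⟨[nat_lit 0xa05e73546c4255223ae28cd70016cd], [nat_lit 174080, nat_lit 169984, nat_lit 165120, nat_lit 162688, nat_lit 159296, nat_lit 154144, nat_lit 148320, nat_lit 144656, nat_lit 140032, nat_lit 138066, nat_lit 133169, nat_lit 364, nat_lit 5208, nat_lit 9040, nat_lit 12976, nat_lit 17216, nat_lit 21760, nat_lit 24704, nat_lit 30464, nat_lit 34304, nat_lit 37888, nat_lit 41676, nat_lit 38195, nat_lit 32915, nat_lit 28950, nat_lit 24625, nat_lit 20557, nat_lit 16427, nat_lit 12290, nat_lit 8195, nat_lit 4]⟩⟩⟩,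
  ⟨[nat_lit 32, nat_lit 28, nat_lit 21, nat_lit 26, nat_lit 27], [], (nat_lit 216), ⟨[nat_lit 31, nat_lit 52], [nat_lit 18, nat_lit 48], ⟨[nat_lit 0x88c2c2c9c6b41b448095b9c4b9bd0a], [nat_lit 173056, nat_lit 168448, nat_lit 160640, nat_lit 157440, nat_lit 152928, nat_lit 149104, nat_lit 144704, nat_lit 141004, nat_lit 135432, nat_lit 132416, nat_lit 1810, nat_lit 4824, nat_lit 8752, nat_lit 14176, nat_lit 16576, nat_lit 21440, nat_lit 26240, nat_lit 29696, nat_lit 33792, nat_lit 41501, nat_lit 38297, nat_lit 33525, nat_lit 29232, nat_lit 24881, nat_lit 20610, nat_lit 16420, nat_lit 12293, nat_lit 8201, nat_lit 4112]⟩⟩⟩]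
theorem s254 : Suf yT 8392704 (ldrop wS 23) (apW dcM p253) (tgtN dcM p253.e) := Suf.seg (l := l254) (by decide +kernel) s255
def l253 : List AP := [⟨[nat_lit 114, nat_lit 653, nat_lit 109], [], (nat_lit 254), ⟨[nat_lit 0, nat_lit 26, nat_lit 48], [nat_lit 0, nat_lit 23, nat_lit 48], ⟨[nat_lit 0xdc8b2cda77c52a852ac458c21ba40], [nat_lit 173056, nat_lit 171520, nat_lit 164352, nat_lit 161280, nat_lit 157696, nat_lit 153440, nat_lit 149216, nat_lit 146104, nat_lit 142448, nat_lit 137686, nat_lit 133321, nat_lit 4684, nat_lit 10160, nat_lit 18336, nat_lit 22016, nat_lit 26368, nat_lit 30464, nat_lit 33280, nat_lit 41754, nat_lit 38116, nat_lit 33327, nat_lit 29010, nat_lit 24624, nat_lit 20485, nat_lit 16391, nat_lit 12291, nat_lit 8195, nat_lit 4097, nat_lit 2]⟩⟩⟩,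
  ⟨[nat_lit 114, nat_lit 649, nat_lit 110], [], (nat_lit 254), ⟨[nat_lit 0, nat_lit 52], [nat_lit 0, nat_lit 80, nat_lit 93], ⟨[nat_lit 0x394cb6d0714112a95dc204eafb0590], [nat_lit 173056, nat_lit 164352, nat_lit 161280, nat_lit 156608, nat_lit 154368, nat_lit 149424, nat_lit 144544, nat_lit 140088, nat_lit 135636, nat_lit 132475, nat_lit 760, nat_lit 4380, nat_lit 8504, nat_lit 14112, nat_lit 17536, nat_lit 20544, nat_lit 25088, nat_lit 29952, nat_lit 33792, nat_lit 41451, nat_lit 37128, nat_lit 33020, nat_lit 28799, nat_lit 24608, nat_lit 20510, nat_lit 16422, nat_lit 12305, nat_lit 8194, nat_lit 8]⟩⟩⟩]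
theorem s253 : Suf yT 8392704 (ldrop wS 8) (apW dcM p252) (tgtN dcM p252.e) := Suf.seg (l := l253) (by decide +kernel) s254
def l252 : List AP := [⟨[nat_lit 0, nat_lit 625, nat_lit 6, nat_lit 1, nat_lit 624, nat_lit 7], [], (nat_lit 40), ⟨[nat_lit 0, nat_lit 31, nat_lit 55], [nat_lit 83, nat_lit 59], ⟨[nat_lit 0x18a163a1e15b004ab9b3b96264d24a], [nat_lit 173056, nat_lit 168960, nat_lit 166400, nat_lit 160640, nat_lit 155712, nat_lit 153088, nat_lit 147792, nat_lit 144856, nat_lit 140092, nat_lit 135364, nat_lit 131614, nat_lit 1554, nat_lit 5572, nat_lit 8520, nat_lit 13440, nat_lit 16640, nat_lit 20736, nat_lit 25216, nat_lit 29184, nat_lit 33792, nat_lit 41856, nat_lit 38120, nat_lit 32789, nat_lit 29696, nat_lit 25126, nat_lit 20487, nat_lit 16645, nat_lit 12356, nat_lit 8227, nat_lit 4104]⟩⟩⟩,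
  ⟨[nat_lit 25, nat_lit 637, nat_lit 24], [], (nat_lit 247), ⟨[nat_lit 0, nat_lit 23, nat_lit 92], [nat_lit 0, nat_lit 32, nat_lit 48], ⟨[nat_lit 0x45c43aca0b045e46b2ca0966e350e9], [nat_lit 173056, nat_lit 168448, nat_lit 165632, nat_lit 161536, nat_lit 156480, nat_lit 152320, nat_lit 148336, nat_lit 145048, nat_lit 140420, nat_lit 135882, nat_lit 131795, nat_lit 344, nat_lit 5572, nat_lit 10128, nat_lit 13312, nat_lit 18144, nat_lit 21504, nat_lit 26368, nat_lit 28928, nat_lit 33280, nat_lit 37888, nat_lit 41856, nat_lit 38080, nat_lit 33471, nat_lit 29004, nat_lit 24881, nat_lit 20635, nat_lit 16519, nat_lit 12320, nat_lit 8208, nat_lit 4097, nat_lit 2]⟩⟩⟩]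
theorem rS11 : Suf yT 8392704 wS [yT.get 45] 0 := Suf.seg (l := l252) (by decide +kernel) s253


end

end CF.Mon.Tr
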