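import Cfsg.Agent.Mon.YW

set_option autoImplicit false
set_option maxRecDepth 100000

namespace CF.Mon.Tr

open CF.Comp

noncomputable section

def p266 : AP := ⟨[], [], (nat_lit 393), ⟨[nat_lit 0, nat_lit 73, nat_lit 91], [nat_lit 0, nat_lit 20, nat_lit 67], ⟨[nat_lit 0xb14105519733c884846e5c5b33c855], [nat_lit 169472, nat_lit 161024, nat_lit 155968, nat_lit 154304, nat_lit 148848, nat_lit 145048, nat_lit 140272, nat_lit 135662, nat_lit 132519, nat_lit 1730, nat_lit 4784, nat_lit 8792, nat_lit 12880, nat_lit 18144, nat_lit 20544, nat_lit 30464, nat_lit 37888, nat_lit 41568, nat_lit 37142, nat_lit 32828, nat_lit 28711, nat_lit 24623, nat_lit 16389, nat_lit 12354, nat_lit 8201, nat_lit 4161]⟩⟩⟩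
def p267 : AP := ⟨[nat_lit 179, nat_lit 172], [], (nat_lit 396), ⟨[nat_lit 0, nat_lit 84, nat_lit 60], [nat_lit 77, nat_lit 47], ⟨[nat_lit 0x68ef231504acc2c7d8103a92ba444e], [nat_lit 165376, nat_lit 161792, nat_lit 156928, nat_lit 151712, nat_lit 149088, nat_lit 143368, nat_lit 139572, nat_lit 136752, nat_lit 131232, nat_lit 166, nat_lit 5084, nat_lit 8704, nat_lit 13872, nat_lit 16896, nat_lit 25088, nat_lit 33280, nat_lit 41269, nat_lit 37248, nat_lit 33344, nat_lit 28714, nat_lit 24848, nat_lit 20618, nat_lit 16454, nat_lit 12418, nat_lit 8210, nat_lit 4112, nat_lit 1024]⟩⟩⟩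
def p268 : AP := ⟨[nat_lit 181, nat_lit 172], [], (nat_lit 396), ⟨[nat_lit 0, nat_lit 6, nat_lit 57], [nat_lit 11, nat_lit 50], ⟨[nat_lit 0x5040d858463a48e652a8196379ae4f], [nat_lit 169984, nat_lit 162816, nat_lit 156352, nat_lit 154176, nat_lit 150928, nat_lit 146240, nat_lit 140132, nat_lit 137196, nat_lit 134108, nat_lit 1488, nat_lit 5080, nat_lit 9280, nat_lit 14176, nat_lit 17120, nat_lit 21952, nat_lit 29184, nat_lit 37888, nat_lit 41609, nat_lit 38084, nat_lit 32777, nat_lit 29696, nat_lit 25092, nat_lit 20500, nat_lit 16424, nat_lit 12294, nat_lit 8201, nat_lit 4100]⟩⟩⟩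
def p269 : AP := ⟨[nat_lit 660, nat_lit 170], [], (nat_lit 396), ⟨[nat_lit 0, nat_lit 16, nat_lit 92], [nat_lit 73, nat_lit 56], ⟨[nat_lit 0x8266415592415cda28f7080cbb446f], [nat_lit 174080, nat_lit 171520, nat_lit 164864, nat_lit 162688, nat_lit 159232, nat_lit 154720, nat_lit 147744, nat_lit 143664, nat_lit 140248, nat_lit 139108, nat_lit 134271, nat_lit 394, nat_lit 4920, nat_lit 9408, nat_lit 12512, nat_lit 16608, nat_lit 22336, nat_lit 26240, nat_lit 29440, nat_lit 33792, nat_lit 41818, nat_lit 38293, nat_lit 34004, nat_lit 28681, nat_lit 25094, nat_lit 20505, nat_lit 16418, nat_lit 12305, nat_lit 8451, nat_lit 4105]⟩⟩⟩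
def p270 : AP := ⟨[nat_lit 179, nat_lit 216], [], (nat_lit 396), ⟨[nat_lit 0, nat_lit 45, nat_lit 62], [nat_lit 24, nat_lit 67], ⟨[nat_lit 0x20d2baaa0ebb268b1c34348517940d], [nat_lit 174080, nat_lit 171008, nat_lit 165888, nat_lit 160000, nat_lit 157568, nat_lit 153504, nat_lit 150032, nat_lit 145168, nat_lit 139996, nat_lit 138870, nat_lit 134826, nat_lit 364, nat_lit 5904, nat_lit 8680, nat_lit 14304, nat_lit 17312, nat_lit 21376, nat_lit 25088, nat_lit 30208, nat_lit 33280, nat_lit 41607, nat_lit 37952, nat_lit 32807, nat_lit 28683, nat_lit 25116, nat_lit 20493, nat_lit 16460, nat_lit 12295, nat_lit 8195, nat_lit 4]⟩⟩⟩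
def p271 : AP := ⟨[nat_lit 661, nat_lit 213, nat_lit 171], [], (nat_lit 418), ⟨[nat_lit 24, nat_lit 46], [nat_lit 88, nat_lit 57], ⟨[nat_lit 0x9b6205d8b00b0e67d6831390a492f2], [nat_lit 169984, nat_lit 165632, nat_lit 163072, nat_lit 156608, nat_lit 153664, nat_lit 151392, nat_lit 146952, nat_lit 140040, nat_lit 135808, nat_lit 133722, nat_lit 696, nat_lit 4872, nat_lit 9944, nat_lit 12960, nat_lit 18080, nat_lit 22144, nat_lit 28928, nat_lit 33792, nat_lit 37888, nat_lit 41677, nat_lit 38220, nat_lit 33448, nat_lit 29184, nat_lit 24577, nat_lit 20504, nat_lit 16426, nat_lit 12327, nat_lit 8202, nat_lit 4105]⟩⟩⟩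
def p272 : AP := ⟨[nat_lit 212, nat_lit 213], [], (nat_lit 396), ⟨[nat_lit 0, nat_lit 74, nat_lit 47], [nat_lit 0, nat_lit 75, nat_lit 89], ⟨[nat_lit 0x51ac400d37aa1ae3866f148aca4570], [nat_lit 173056, nat_lit 165632, nat_lit 160512, nat_lit 156608, nat_lit 151968, nat_lit 148528, nat_lit 146464, nat_lit 139756, nat_lit 136860, nat_lit 131383, nat_lit 1076, nat_lit 5072, nat_lit 8424, nat_lit 12320, nat_lit 16896, nat_lit 20992, nat_lit 25088, nat_lit 29184, nat_lit 34304, nat_lit 37888, nat_lit 41512, nat_lit 37110, nat_lit 32864, nat_lit 28712, nat_lit 24617, nat_lit 20504, nat_lit 16422, nat_lit 8210, nat_lit 64]⟩⟩⟩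
def p273 : AP := ⟨[nat_lit 48, nat_lit 69, nat_lit 641], [], (nat_lit 121), ⟨[nat_lit 0, nat_lit 2, nat_lit 94], [nat_lit 0, nat_lit 3, nat_lit 64], ⟨[nat_lit 0x6a6075c584280d7aa04a1d1ee0ce56], [nat_lit 170496, nat_lit 165120, nat_lit 161664, nat_lit 156672, nat_lit 152064, nat_lit 147696, nat_lit 144232, nat_lit 140004, nat_lit 135848, nat_lit 131313, nat_lit 184, nat_lit 4852, nat_lit 8944, nat_lit 14176, nat_lit 17280, nat_lit 20928, nat_lit 25344, nat_lit 29440, nat_lit 37888, nat_lit 41952, nat_lit 38282, nat_lit 33839, nat_lit 28999, nat_lit 24863, nat_lit 21017, nat_lit 16423, nat_lit 12422, nat_lit 8201, nat_lit 4101]⟩⟩⟩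
def p274 : AP := ⟨[nat_lit 179, nat_lit 216], [], (nat_lit 396), ⟨[nat_lit 25, nat_lit 65], [nat_lit 40, nat_lit 89], ⟨[nat_lit 0x258758dd6d2a44862a740c8d001dee], [nat_lit 174080, nat_lit 168448, nat_lit 164352, nat_lit 161152, nat_lit 157824, nat_lit 154176, nat_lit 150448, nat_lit 144608, nat_lit 141992, nat_lit 136982, nat_lit 134105, nat_lit 960, nat_lit 4148, nat_lit 8408, nat_lit 13472, nat_lit 17056, nat_lit 21120, nat_lit 25600, nat_lit 29440, nat_lit 33792, nat_lit 37888, nat_lit 41165, nat_lit 36955, nat_lit 32877, nat_lit 28749, nat_lit 24725, nat_lit 20482, nat_lit 16453, nat_lit 12292, nat_lit 8194, nat_lit 4101]⟩⟩⟩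
def p275 : AP := ⟨[nat_lit 48, nat_lit 52, nat_lit 643, nat_lit 51], [], (nat_lit 120), ⟨[nat_lit 1, nat_lit 67], [nat_lit 86, nat_lit 50], ⟨[nat_lit 0x34280096357250a912e26ad8f1cec7], [nat_lit 173056, nat_lit 168960, nat_lit 164864, nat_lit 162176, nat_lit 157312, nat_lit 153056, nat_lit 148592, nat_lit 145112, nat_lit 141092, nat_lit 136512, nat_lit 132473, nat_lit 1054, nat_lit 5668, nat_lit 9384, nat_lit 12416, nat_lit 17728, nat_lit 22336, nat_lit 24960, nat_lit 29440, nat_lit 33280, nat_lit 41366, nat_lit 37248, nat_lit 33516, nat_lit 28762, nat_lit 24719, nat_lit 20507, nat_lit 16419, nat_lit 8256, nat_lit 4097]⟩⟩⟩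
def p276 : AP := ⟨[nat_lit 173, nat_lit 177, nat_lit 173], [], (nat_lit 396), ⟨[nat_lit 0, nat_lit 2, nat_lit 47], [nat_lit 0, nat_lit 43, nat_lit 57], ⟨[nat_lit 0x82ecd655520bdc4152e74986828233], [nat_lit 174080, nat_lit 170496, nat_lit 164864, nat_lit 161920, nat_lit 158976, nat_lit 153888, nat_lit 148736, nat_lit 145280, nat_lit 139652, nat_lit 137348, nat_lit 134091, nat_lit 78, nat_lit 4684, nat_lit 9384, nat_lit 12416, nat_lit 17856, nat_lit 20800, nat_lit 26368, nat_lit 29184, nat_lit 33280, nat_lit 41477, nat_lit 36976, nat_lit 32788, nat_lit 28685, nat_lit 25141, nat_lit 21010, nat_lit 16641, nat_lit 12416, nat_lit 8194, nat_lit 4101, nat_lit 2]⟩⟩⟩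
def p277 : AP := ⟨[nat_lit 661, nat_lit 180], [], (nat_lit 396), ⟨[nat_lit 35, nat_lit 56], [nat_lit 2, nat_lit 60], ⟨[nat_lit 0x120e48159758daea2ac0a9a4f8cc29], [nat_lit 173056, nat_lit 165632, nat_lit 163712, nat_lit 157504, nat_lit 152576, nat_lit 148080, nat_lit 144864, nat_lit 139752, nat_lit 135790, nat_lit 132601, nat_lit 1928, nat_lit 4224, nat_lit 9664, nat_lit 13664, nat_lit 16896, nat_lit 20672, nat_lit 24960, nat_lit 41088, nat_lit 37278, nat_lit 33335, nat_lit 24605, nat_lit 20761, nat_lit 16424, nat_lit 12304, nat_lit 8195, nat_lit 4]⟩⟩⟩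
def p278 : AP := ⟨[nat_lit 67, nat_lit 51], [], (nat_lit 122), ⟨[nat_lit 0, nat_lit 18, nat_lit 65], [nat_lit 0, nat_lit 24, nat_lit 67], ⟨[nat_lit 0x436f1abe4a050d62ac49638241c267], [nat_lit 175104, nat_lit 169984, nat_lit 166400, nat_lit 161664, nat_lit 158976, nat_lit 154336, nat_lit 148784, nat_lit 147232, nat_lit 139296, nat_lit 135932, nat_lit 131726, nat_lit 1014, nat_lit 4536, nat_lit 9376, nat_lit 12304, nat_lit 16896, nat_lit 22336, nat_lit 25088, nat_lit 30208, nat_lit 33792, nat_lit 41772, nat_lit 36920, nat_lit 34010, nat_lit 28754, nat_lit 24637, nat_lit 20504, nat_lit 16416, nat_lit 12304, nat_lit 8257, nat_lit 4225]⟩⟩⟩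
def l279 : List AP := [⟨[nat_lit 43, nat_lit 41], [], (nat_lit 1032), ⟨[nat_lit 45, nat_lit 49], [nat_lit 52], ⟨[nat_lit 0x62c0331d2e556ef6c6482ce81b4044], [nat_lit 174080, nat_lit 168960, nat_lit 165376, nat_lit 162688, nat_lit 156864, nat_lit 151872, nat_lit 149520, nat_lit 145968, nat_lit 142704, nat_lit 137982, nat_lit 133933, nat_lit 1166, nat_lit 5680, nat_lit 8256, nat_lit 12352, nat_lit 18016, nat_lit 22016, nat_lit 24960, nat_lit 30464, nat_lit 34304, nat_lit 41904, nat_lit 37031, nat_lit 33009, nat_lit 28753, nat_lit 24613, nat_lit 20505, nat_lit 16426, nat_lit 12327, nat_lit 8203, nat_lit 4105]⟩⟩⟩]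
theorem s279 : Suf yT 2048 (ldrop wS 161) (apW dcM p278) (tgtN dcM p278.e) := Suf.fin' (l := l279) (by decide +kernel)
def l278 : List AP := [⟨[nat_lit 53, nat_lit 52, nat_lit 48, nat_lit 46], [], (nat_lit 120), ⟨[nat_lit 0, nat_lit 79, nat_lit 67], [nat_lit 0, nat_lit 7, nat_lit 55], ⟨[nat_lit 0x54e871046d8a2a6b2cb203dcc25d30], [nat_lit 173056, nat_lit 168448, nat_lit 165376, nat_lit 160256, nat_lit 156096, nat_lit 152256, nat_lit 148176, nat_lit 143824, nat_lit 141160, nat_lit 139256, nat_lit 131756, nat_lit 1076, nat_lit 5508, nat_lit 9664, nat_lit 13472, nat_lit 16448, nat_lit 21824, nat_lit 25600, nat_lit 30208, nat_lit 33280, nat_lit 41870, nat_lit 37920, nat_lit 33512, nat_lit 29212, nat_lit 24889, nat_lit 20566, nat_lit 16396, nat_lit 12306, nat_lit 8195, nat_lit 4101, nat_lit 4]⟩⟩⟩,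
  ⟨[nat_lit 55], [], (nat_lit 127), ⟨[nat_lit 0, nat_lit 78, nat_lit 68], [nat_lit 0, nat_lit 13, nat_lit 54], ⟨[nat_lit 0x1aa71621e1a38b001d64bd522b3646], [nat_lit 168448, nat_lit 167424, nat_lit 160512, nat_lit 156864, nat_lit 152384, nat_lit 148976, nat_lit 144864, nat_lit 141248, nat_lit 135234, nat_lit 131701, nat_lit 1516, nat_lit 9040, nat_lit 13152, nat_lit 16960, nat_lit 21312, nat_lit 25728, nat_lit 30208, nat_lit 37888, nat_lit 41791, nat_lit 37943, nat_lit 32976, nat_lit 28934, nat_lit 24724, nat_lit 21535, nat_lit 16388, nat_lit 12805, nat_lit 8200, nat_lit 4160, nat_lit 4]⟩⟩⟩]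
theorem s278 : Suf yT 2048 (ldrop wS 146) (apW dcM p277) (tgtN dcM p277.e) := Suf.seg (l := l278) (by decide +kernel) s279
def l277 : List AP := [⟨[nat_lit 69, nat_lit 56, nat_lit 57, nat_lit 66, nat_lit 46], [], (nat_lit 1046), ⟨[nat_lit 0, nat_lit 9, nat_lit 46], [nat_lit 0, nat_lit 39, nat_lit 94], ⟨[nat_lit 0x220f08bd4e90c0911597aae76a04cd], [nat_lit 174080, nat_lit 170496, nat_lit 167680, nat_lit 160384, nat_lit 159360, nat_lit 154880, nat_lit 149216, nat_lit 145448, nat_lit 140168, nat_lit 135414, nat_lit 132474, nat_lit 1668, nat_lit 5120, nat_lit 8248, nat_lit 14144, nat_lit 18144, nat_lit 20544, nat_lit 26368, nat_lit 33280, nat_lit 37888, nat_lit 41810, nat_lit 37319, nat_lit 32889, nat_lit 28771, nat_lit 24711, nat_lit 20488, nat_lit 16644, nat_lit 8211, nat_lit 4100]⟩⟩⟩,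
  ⟨[nat_lit 661, nat_lit 171], [], (nat_lit 418), ⟨[nat_lit 0, nat_lit 23, nat_lit 47], [nat_lit 0, nat_lit 81, nat_lit 48], ⟨[nat_lit 0x91d8610db052df1015140dc89abad3], [nat_lit 173056, nat_lit 168448, nat_lit 164352, nat_lit 156416, nat_lit 152032, nat_lit 147936, nat_lit 147424, nat_lit 141192, nat_lit 135538, nat_lit 132457, nat_lit 582, nat_lit 4340, nat_lit 10168, nat_lit 13856, nat_lit 17152, nat_lit 20992, nat_lit 25600, nat_lit 28928, nat_lit 37888, nat_lit 41079, nat_lit 37327, nat_lit 33479, nat_lit 29303, nat_lit 24616, nat_lit 20488, nat_lit 16394, nat_lit 12311, nat_lit 4097]⟩⟩⟩]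
theorem s277 : Suf yT 2048 (ldrop wS 140) (apW dcM p276) (tgtN dcM p276.e) := Suf.seg (l := l277) (by decide +kernel) s278
def l276 : List AP := [⟨[nat_lit 641, nat_lit 46, nat_lit 54], [], (nat_lit 121), ⟨[nat_lit 0, nat_lit 31, nat_lit 64], [nat_lit 11, nat_lit 65], ⟨[nat_lit 0xa9452b400753d691ccd46350e89037], [nat_lit 169472, nat_lit 164864, nat_lit 160768, nat_lit 158400, nat_lit 152384, nat_lit 148416, nat_lit 143432, nat_lit 140116, nat_lit 135488, nat_lit 132582, nat_lit 1076, nat_lit 4160, nat_lit 10144, nat_lit 13024, nat_lit 16448, nat_lit 25088, nat_lit 41785, nat_lit 37269, nat_lit 33525, nat_lit 29269, nat_lit 24587, nat_lit 20736, nat_lit 16388, nat_lit 12355, nat_lit 8208]⟩⟩⟩,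
  ⟨[nat_lit 643, nat_lit 70, nat_lit 47, nat_lit 56, nat_lit 52], [], (nat_lit 1046), ⟨[nat_lit 0, nat_lit 5, nat_lit 68], [nat_lit 34, nat_lit 50], ⟨[nat_lit 0x614ee8255233da415076a86e05a233], [nat_lit 174080, nat_lit 168960, nat_lit 165888, nat_lit 162048, nat_lit 157824, nat_lit 153280, nat_lit 149136, nat_lit 144504, nat_lit 141328, nat_lit 137578, nat_lit 132537, nat_lit 1928, nat_lit 6084, nat_lit 9496, nat_lit 13952, nat_lit 17440, nat_lit 22016, nat_lit 24704, nat_lit 29184, nat_lit 33280, nat_lit 41724, nat_lit 37061, nat_lit 32787, nat_lit 29218, nat_lit 24741, nat_lit 20494, nat_lit 16648, nat_lit 12311, nat_lit 8202]⟩⟩⟩]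
theorem s276 : Suf yT 2048 (ldrop wS 125) (apW dcM p275) (tgtN dcM p275.e) := Suf.seg (l := l276) (by decide +kernel) s277
def l275 : List AP := [⟨[nat_lit 72, nat_lit 66, nat_lit 71, nat_lit 47], [], (nat_lit 120), ⟨[nat_lit 29, nat_lit 46], [nat_lit 0, nat_lit 5, nat_lit 58], ⟨[nat_lit 0x9da47485b0730d5192e2a156a881e8], [nat_lit 160384, nat_lit 157376, nat_lit 153024, nat_lit 148592, nat_lit 143416, nat_lit 139424, nat_lit 138094, nat_lit 132919, nat_lit 256, nat_lit 5992, nat_lit 9200, nat_lit 13664, nat_lit 17920, nat_lit 21376, nat_lit 25088, nat_lit 33792, nat_lit 37888, nat_lit 41610, nat_lit 37367, nat_lit 33417, nat_lit 29263, nat_lit 24586, nat_lit 20629, nat_lit 16385, nat_lit 12290, nat_lit 8226, nat_lit 4]⟩⟩⟩,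
  ⟨[nat_lit 73, nat_lit 55, nat_lit 73, nat_lit 54], [], (nat_lit 120), ⟨[nat_lit 82, nat_lit 49], [nat_lit 47], ⟨[nat_lit 0x54c774c6a2614e67b88d4029282c36], [nat_lit 170496, nat_lit 164096, nat_lit 160000, nat_lit 156224, nat_lit 152896, nat_lit 148352, nat_lit 144600, nat_lit 139772, nat_lit 135512, nat_lit 132956, nat_lit 184, nat_lit 4608, nat_lit 9488, nat_lit 12688, nat_lit 17664, nat_lit 20544, nat_lit 29952, nat_lit 33792, nat_lit 41833, nat_lit 37067, nat_lit 33836, nat_lit 29227, nat_lit 24756, nat_lit 20621, nat_lit 16452, nat_lit 12325, nat_lit 8227]⟩⟩⟩]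
theorem s275 : Suf yT 2048 (ldrop wS 110) (apW dcM p274) (tgtN dcM p274.e) := Suf.seg (l := l275) (by decide +kernel) s276
def l274 : List AP := [⟨[nat_lit 55, nat_lit 642, nat_lit 54, nat_lit 72, nat_lit 46], [], (nat_lit 1046), ⟨[nat_lit 0, nat_lit 1, nat_lit 64], [nat_lit 33, nat_lit 62], ⟨[nat_lit 0xaa14d60414b188e9ac6511e097de51], [nat_lit 173056, nat_lit 168448, nat_lit 164864, nat_lit 160000, nat_lit 155712, nat_lit 153408, nat_lit 148880, nat_lit 145024, nat_lit 141236, nat_lit 139200, nat_lit 132122, nat_lit 1652, nat_lit 10176, nat_lit 14176, nat_lit 17120, nat_lit 20992, nat_lit 25088, nat_lit 29184, nat_lit 33280, nat_lit 41353, nat_lit 37207, nat_lit 33493, nat_lit 28992, nat_lit 24736, nat_lit 20569, nat_lit 16431, nat_lit 12290, nat_lit 8211, nat_lit 4]⟩⟩⟩,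
  ⟨[nat_lit 173, nat_lit 212], [], (nat_lit 418), ⟨[nat_lit 0, nat_lit 33, nat_lit 94], [nat_lit 23, nat_lit 53], ⟨[nat_lit 0x99caa5da926c52f30d97112ae08110], [nat_lit 169984, nat_lit 165120, nat_lit 162560, nat_lit 156672, nat_lit 155296, nat_lit 150176, nat_lit 146864, nat_lit 140188, nat_lit 135904, nat_lit 134302, nat_lit 760, nat_lit 4352, nat_lit 9544, nat_lit 13296, nat_lit 17920, nat_lit 22464, nat_lit 29184, nat_lit 41553, nat_lit 38384, nat_lit 32900, nat_lit 29038, nat_lit 24577, nat_lit 20624, nat_lit 16423, nat_lit 12310, nat_lit 8209, nat_lit 4104]⟩⟩⟩]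
theorem s274 : Suf yT 2048 (ldrop wS 95) (apW dcM p273) (tgtN dcM p273.e) := Suf.seg (l := l274) (by decide +kernel) s275
def l273 : List AP := [⟨[nat_lit 639, nat_lit 67, nat_lit 49, nat_lit 46], [], (nat_lit 120), ⟨[nat_lit 0, nat_lit 41, nat_lit 91], [nat_lit 0, nat_lit 83, nat_lit 89], ⟨[nat_lit 0x3459252de74c2c0a55a40b86598917], [nat_lit 173056, nat_lit 170496, nat_lit 166656, nat_lit 161920, nat_lit 158464, nat_lit 151840, nat_lit 151488, nat_lit 146448, nat_lit 140120, nat_lit 137378, nat_lit 132138, nat_lit 1966, nat_lit 4824, nat_lit 8448, nat_lit 13792, nat_lit 17312, nat_lit 21952, nat_lit 26240, nat_lit 40982, nat_lit 37258, nat_lit 33010, nat_lit 29016, nat_lit 24865, nat_lit 20616, nat_lit 16449, nat_lit 12417, nat_lit 8194]⟩⟩⟩,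
  ⟨[nat_lit 641, nat_lit 46, nat_lit 54], [], (nat_lit 121), ⟨[nat_lit 9, nat_lit 62], [nat_lit 8, nat_lit 92], ⟨[nat_lit 0xa81034b5d77943211d93b2a3025166], [nat_lit 173056, nat_lit 168960, nat_lit 166400, nat_lit 162560, nat_lit 159616, nat_lit 153952, nat_lit 147680, nat_lit 146208, nat_lit 142876, nat_lit 136678, nat_lit 134933, nat_lit 1516, nat_lit 6104, nat_lit 10128, nat_lit 12304, nat_lit 16448, nat_lit 24960, nat_lit 29440, nat_lit 41846, nat_lit 38227, nat_lit 33948, nat_lit 29035, nat_lit 24866, nat_lit 20755, nat_lit 16424, nat_lit 12320, nat_lit 8704, nat_lit 4097]⟩⟩⟩]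
theorem s273 : Suf yT 2048 (ldrop wS 89) (apW dcM p272) (tgtN dcM p272.e) := Suf.seg (l := l273) (by decide +kernel) s274
def l272 : List AP := [⟨[nat_lit 179, nat_lit 216], [], (nat_lit 396), ⟨[nat_lit 41, nat_lit 54], [nat_lit 78, nat_lit 58], ⟨[nat_lit 0x215278dc6e04ecc4196a0c1f514a8d], [nat_lit 174080, nat_lit 169472, nat_lit 164864, nat_lit 161024, nat_lit 158656, nat_lit 153696, nat_lit 149520, nat_lit 145352, nat_lit 143356, nat_lit 136596, nat_lit 134973, nat_lit 460, nat_lit 5900, nat_lit 13744, nat_lit 18304, nat_lit 22464, nat_lit 26496, nat_lit 29184, nat_lit 33280, nat_lit 41929, nat_lit 36977, nat_lit 32986, nat_lit 28753, nat_lit 24637, nat_lit 20486, nat_lit 16455, nat_lit 12293, nat_lit 8200, nat_lit 4113, nat_lit 2]⟩⟩⟩,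
  ⟨[nat_lit 48, nat_lit 56, nat_lit 643, nat_lit 50], [], (nat_lit 1046), ⟨[nat_lit 0, nat_lit 73, nat_lit 69], [nat_lit 34, nat_lit 50], ⟨[nat_lit 0x4302eb0eab8dda4518e27961402672], [nat_lit 168960, nat_lit 164608, nat_lit 161024, nat_lit 155904, nat_lit 152256, nat_lit 147584, nat_lit 146496, nat_lit 140940, nat_lit 136072, nat_lit 131104, nat_lit 590, nat_lit 5572, nat_lit 10160, nat_lit 14240, nat_lit 18304, nat_lit 22400, nat_lit 26112, nat_lit 28928, nat_lit 33280, nat_lit 37888, nat_lit 41896, nat_lit 37269, nat_lit 33289, nat_lit 29044, nat_lit 24718, nat_lit 20492, nat_lit 16644, nat_lit 12307, nat_lit 8226, nat_lit 4101, nat_lit 2]⟩⟩⟩]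
theorem s272 : Suf yT 2048 (ldrop wS 74) (apW dcM p271) (tgtN dcM p271.e) := Suf.seg (l := l272) (by decide +kernel) s273
def l271 : List AP := [⟨[nat_lit 49, nat_lit 57, nat_lit 68, nat_lit 54, nat_lit 46], [], (nat_lit 1046), ⟨[nat_lit 9, nat_lit 68], [nat_lit 0, nat_lit 45, nat_lit 51], ⟨[nat_lit 0x4c10d786202cdc4154ea95e8c1acd6], [nat_lit 168960, nat_lit 165632, nat_lit 160384, nat_lit 155904, nat_lit 151904, nat_lit 149280, nat_lit 144960, nat_lit 140464, nat_lit 139262, nat_lit 131200, nat_lit 698, nat_lit 5120, nat_lit 8928, nat_lit 13312, nat_lit 18368, nat_lit 22080, nat_lit 25856, nat_lit 28928, nat_lit 34304, nat_lit 37888, nat_lit 41325, nat_lit 36866, nat_lit 33003, nat_lit 28937, nat_lit 24731, nat_lit 20501, nat_lit 16396, nat_lit 12290, nat_lit 8208]⟩⟩⟩,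
  ⟨[nat_lit 214, nat_lit 177], [], (nat_lit 418), ⟨[nat_lit 17, nat_lit 92], [nat_lit 7, nat_lit 46], ⟨[nat_lit 0x45c338d560792124a9a61146e3d994], [nat_lit 174080, nat_lit 169984, nat_lit 164096, nat_lit 163584, nat_lit 158144, nat_lit 154880, nat_lit 147680, nat_lit 144152, nat_lit 140608, nat_lit 138486, nat_lit 134110, nat_lit 1730, nat_lit 4380, nat_lit 9536, nat_lit 14128, nat_lit 17088, nat_lit 29952, nat_lit 41377, nat_lit 37031, nat_lit 33920, nat_lit 28761, nat_lit 24727, nat_lit 20765, nat_lit 16389, nat_lit 12292, nat_lit 8194, nat_lit 4097]⟩⟩⟩]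
theorem s271 : Suf yT 2048 (ldrop wS 59) (apW dcM p270) (tgtN dcM p270.e) := Suf.seg (l := l271) (by decide +kernel) s272
def l270 : List AP := [⟨[nat_lit 55, nat_lit 55, nat_lit 70, nat_lit 47], [], (nat_lit 1046), ⟨[nat_lit 0, nat_lit 76, nat_lit 57], [nat_lit 82, nat_lit 70], ⟨[nat_lit 0x286ad859171d08e9a4023aa4662e2f], [nat_lit 173056, nat_lit 170496, nat_lit 164352, nat_lit 162944, nat_lit 156608, nat_lit 155616, nat_lit 150720, nat_lit 146600, nat_lit 139304, nat_lit 135252, nat_lit 133866, nat_lit 1488, nat_lit 4568, nat_lit 8928, nat_lit 13664, nat_lit 18336, nat_lit 22208, nat_lit 24832, nat_lit 33792, nat_lit 37888, nat_lit 41682, nat_lit 37129, nat_lit 33316, nat_lit 29787, nat_lit 24588, nat_lit 20761, nat_lit 16429, nat_lit 12295, nat_lit 8200, nat_lit 4100]⟩⟩⟩,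
  ⟨[nat_lit 217, nat_lit 663, nat_lit 173], [], (nat_lit 418), ⟨[nat_lit 0, nat_lit 36, nat_lit 89], [nat_lit 36, nat_lit 58], ⟨[nat_lit 0x9963450dd0b198f38057a912b43432], [nat_lit 168448, nat_lit 164608, nat_lit 160384, nat_lit 157440, nat_lit 153152, nat_lit 149392, nat_lit 146976, nat_lit 140012, nat_lit 136080, nat_lit 131675, nat_lit 492, nat_lit 4104, nat_lit 9672, nat_lit 12544, nat_lit 17088, nat_lit 20736, nat_lit 24832, nat_lit 34304, nat_lit 37888, nat_lit 41688, nat_lit 37300, nat_lit 33509, nat_lit 29242, nat_lit 24584, nat_lit 20488, nat_lit 16394, nat_lit 8323, nat_lit 4]⟩⟩⟩]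
theorem s270 : Suf yT 2048 (ldrop wS 44) (apW dcM p269) (tgtN dcM p269.e) := Suf.seg (l := l270) (by decide +kernel) s271
def l269 : List AP := [⟨[nat_lit 643, nat_lit 72, nat_lit 72, nat_lit 49, nat_lit 46], [], (nat_lit 1046), ⟨[nat_lit 81, nat_lit 50], [nat_lit 0, nat_lit 36, nat_lit 62], ⟨[nat_lit 0x722f50246d8326a09a923c6c22bd64], [nat_lit 175104, nat_lit 168960, nat_lit 166912, nat_lit 162432, nat_lit 158336, nat_lit 152544, nat_lit 149392, nat_lit 144744, nat_lit 143292, nat_lit 137232, nat_lit 131597, nat_lit 1778, nat_lit 5296, nat_lit 9752, nat_lit 14304, nat_lit 16736, nat_lit 20928, nat_lit 25600, nat_lit 30464, nat_lit 34304, nat_lit 37888, nat_lit 41870, nat_lit 37286, nat_lit 32910, nat_lit 28987, nat_lit 24601, nat_lit 20511, nat_lit 16386, nat_lit 12294, nat_lit 8194, nat_lit 4100, nat_lit 32]⟩⟩⟩,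
  ⟨[nat_lit 661, nat_lit 171], [], (nat_lit 418), ⟨[nat_lit 8, nat_lit 58], [nat_lit 0, nat_lit 32], ⟨[nat_lit 0x81e817c5733208d75aaa6092028ef2], [nat_lit 173056, nat_lit 170496, nat_lit 164352, nat_lit 160384, nat_lit 156544, nat_lit 147520, nat_lit 144200, nat_lit 140936, nat_lit 135804, nat_lit 132753, nat_lit 1140, nat_lit 9336, nat_lit 12416, nat_lit 17952, nat_lit 20864, nat_lit 25600, nat_lit 30464, nat_lit 34304, nat_lit 41436, nat_lit 37370, nat_lit 33477, nat_lit 29284, nat_lit 25121, nat_lit 20765, nat_lit 16454, nat_lit 12309, nat_lit 8209, nat_lit 4129, nat_lit 2]⟩⟩⟩]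
theorem s269 : Suf yT 2048 (ldrop wS 38) (apW dcM p268) (tgtN dcM p268.e) := Suf.seg (l := l269) (by decide +kernel) s270
def l268 : List AP := [⟨[nat_lit 50], [], (nat_lit 1046), ⟨[nat_lit 40, nat_lit 59], [nat_lit 0, nat_lit 19, nat_lit 62], ⟨[nat_lit 0x68ef231504acc2c7d8103a92ba444e], [nat_lit 173056, nat_lit 165376, nat_lit 161792, nat_lit 156928, nat_lit 151712, nat_lit 149088, nat_lit 143368, nat_lit 139568, nat_lit 136752, nat_lit 131233, nat_lit 166, nat_lit 5084, nat_lit 8704, nat_lit 13872, nat_lit 16896, nat_lit 25088, nat_lit 33280, nat_lit 41269, nat_lit 37248, nat_lit 33344, nat_lit 28714, nat_lit 24848, nat_lit 20618, nat_lit 16454, nat_lit 12418, nat_lit 8210, nat_lit 4112, nat_lit 1024]⟩⟩⟩,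
  ⟨[nat_lit 212, nat_lit 659], [], (nat_lit 418), ⟨[nat_lit 0, nat_lit 73, nat_lit 60], [nat_lit 0, nat_lit 3, nat_lit 54], ⟨[nat_lit 0x2bab2b28770ae13431a28be8730124], [nat_lit 175104, nat_lit 170496, nat_lit 167168, nat_lit 157568, nat_lit 153472, nat_lit 150160, nat_lit 144440, nat_lit 140116, nat_lit 139040, nat_lit 135093, nat_lit 1794, nat_lit 5588, nat_lit 8896, nat_lit 13648, nat_lit 17408, nat_lit 22144, nat_lit 25216, nat_lit 29184, nat_lit 41641, nat_lit 38240, nat_lit 33436, nat_lit 28721, nat_lit 24871, nat_lit 20547, nat_lit 16396, nat_lit 12309, nat_lit 8194, nat_lit 4097]⟩⟩⟩]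
theorem s268 : Suf yT 2048 (ldrop wS 23) (apW dcM p267) (tgtN dcM p267.e) := Suf.seg (l := l268) (by decide +kernel) s269
def l267 : List AP := [⟨[nat_lit 218, nat_lit 660, nat_lit 173], [], (nat_lit 396), ⟨[nat_lit 8], [nat_lit 0, nat_lit 34, nat_lit 60], ⟨[nat_lit 0xbc0e4a2933ac9cd5986f882c1408ac], [nat_lit 175104, nat_lit 171520, nat_lit 167168, nat_lit 161408, nat_lit 156736, nat_lit 151712, nat_lit 150432, nat_lit 144008, nat_lit 140328, nat_lit 139192, nat_lit 134989, nat_lit 1580, nat_lit 4540, nat_lit 8320, nat_lit 12336, nat_lit 16640, nat_lit 21568, nat_lit 26368, nat_lit 29952, nat_lit 33280, nat_lit 37888, nat_lit 41246, nat_lit 37065, nat_lit 33989, nat_lit 28694, nat_lit 24887, nat_lit 20575, nat_lit 16430, nat_lit 12310, nat_lit 8195, nat_lit 4097]⟩⟩⟩,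
  ⟨[nat_lit 47, nat_lit 51, nat_lit 56, nat_lit 69, nat_lit 46], [], (nat_lit 1046), ⟨[nat_lit 76, nat_lit 65], [nat_lit 5, nat_lit 60], ⟨[nat_lit 0x9d40488ac65b1cda1e4185c6543d49], [nat_lit 173056, nat_lit 165376, nat_lit 160768, nat_lit 156416, nat_lit 147504, nat_lit 144736, nat_lit 141944, nat_lit 136548, nat_lit 131698, nat_lit 724, nat_lit 5568, nat_lit 10088, nat_lit 13920, nat_lit 16512, nat_lit 22208, nat_lit 24960, nat_lit 28928, nat_lit 33792, nat_lit 37888, nat_lit 41453, nat_lit 36873, nat_lit 32846, nat_lit 28708, nat_lit 24834, nat_lit 20632, nat_lit 16416, nat_lit 12292, nat_lit 4097, nat_lit 2]⟩⟩⟩]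
theorem s267 : Suf yT 2048 (ldrop wS 8) (apW dcM p266) (tgtN dcM p266.e) := Suf.seg (l := l267) (by decide +kernel) s268
def l266 : List AP := [⟨[nat_lit 6, nat_lit 8, nat_lit 625, nat_lit 8, nat_lit 5, nat_lit 0], [], (nat_lit 40), ⟨[nat_lit 18, nat_lit 60], [nat_lit 0, nat_lit 23, nat_lit 58], ⟨[nat_lit 0x2456d104143c1893226fad8772c9ca], [nat_lit 168960, nat_lit 164096, nat_lit 161536, nat_lit 157568, nat_lit 151968, nat_lit 148096, nat_lit 143400, nat_lit 139288, nat_lit 139010, nat_lit 132534, nat_lit 1808, nat_lit 6068, nat_lit 10160, nat_lit 12736, nat_lit 17600, nat_lit 20608, nat_lit 24832, nat_lit 33280, nat_lit 41967, nat_lit 37079, nat_lit 33985, nat_lit 28750, nat_lit 24744, nat_lit 20557, nat_lit 16387, nat_lit 12325, nat_lit 8194]⟩⟩⟩,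
  ⟨[nat_lit 638, nat_lit 636, nat_lit 24, nat_lit 21, nat_lit 28, nat_lit 31], [], (nat_lit 338), ⟨[nat_lit 0, nat_lit 8, nat_lit 69], [nat_lit 4, nat_lit 58], ⟨[nat_lit 0x806e27940b1a48d3ccd5939968aa88], [nat_lit 173056, nat_lit 165120, nat_lit 162176, nat_lit 156416, nat_lit 153312, nat_lit 148624, nat_lit 144192, nat_lit 141260, nat_lit 135256, nat_lit 131613, nat_lit 1554, nat_lit 5256, nat_lit 8448, nat_lit 12432, nat_lit 18272, nat_lit 20736, nat_lit 25216, nat_lit 28928, nat_lit 34304, nat_lit 37888, nat_lit 41684, nat_lit 38239, nat_lit 32785, nat_lit 28758, nat_lit 24740, nat_lit 20566, nat_lit 16449, nat_lit 12803, nat_lit 8225, nat_lit 4113, nat_lit 4]⟩⟩⟩]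
theorem rS12 : Suf yT 2048 wS [yT.get 46] 0 := Suf.seg (l := l266) (by decide +kernel) s267

def p280 : AP := ⟨[], [], (nat_lit 393), ⟨[nat_lit 0, nat_lit 23, nat_lit 66], [nat_lit 0, nat_lit 18, nat_lit 57], ⟨[nat_lit 0xaac4988616915ea6506d34d0e39017], [nat_lit 173056, nat_lit 164864, nat_lit 159872, nat_lit 156352, nat_lit 151808, nat_lit 148192, nat_lit 144984, nat_lit 140252, nat_lit 137966, nat_lit 132598, nat_lit 1142, nat_lit 5220, nat_lit 9328, nat_lit 12528, nat_lit 17344, nat_lit 21056, nat_lit 25088, nat_lit 34304, nat_lit 37888, nat_lit 41759, nat_lit 38025, nat_lit 32809, nat_lit 28758, nat_lit 24589, nat_lit 20500, nat_lit 16386, nat_lit 12295, nat_lit 8194, nat_lit 4101]⟩⟩⟩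
def p281 : AP := ⟨[nat_lit 416, nat_lit 677, nat_lit 411], [], (nat_lit 1230), ⟨[nat_lit 0, nat_lit 87, nat_lit 61], [nat_lit 0, nat_lit 35, nat_lit 67], ⟨[nat_lit 0x9d16c43eb2b25d0ba9b1208c719401], [nat_lit 175104, nat_lit 171008, nat_lit 167424, nat_lit 160384, nat_lit 158400, nat_lit 154080, nat_lit 147584, nat_lit 147016, nat_lit 139652, nat_lit 136170, nat_lit 132066, nat_lit 2, nat_lit 5992, nat_lit 9240, nat_lit 12416, nat_lit 17408, nat_lit 21760, nat_lit 25216, nat_lit 29696, nat_lit 33280, nat_lit 41204, nat_lit 37129, nat_lit 33377, nat_lit 29724, nat_lit 24616, nat_lit 20486, nat_lit 17417, nat_lit 12309, nat_lit 8209, nat_lit 4097, nat_lit 2]⟩⟩⟩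
def p282 : AP := ⟨[nat_lit 675, nat_lit 467, nat_lit 678, nat_lit 410], [], (nat_lit 1236), ⟨[nat_lit 0, nat_lit 82, nat_lit 68], [nat_lit 34, nat_lit 69], ⟨[nat_lit 0x6ac169c4b0121f5248e60dd891ba8a], [nat_lit 171520, nat_lit 165120, nat_lit 161408, nat_lit 156032, nat_lit 152000, nat_lit 148416, nat_lit 143712, nat_lit 140604, nat_lit 136270, nat_lit 132208, nat_lit 1298, nat_lit 5604, nat_lit 9648, nat_lit 12800, nat_lit 17856, nat_lit 20992, nat_lit 25088, nat_lit 29440, nat_lit 34304, nat_lit 37888, nat_lit 41859, nat_lit 37248, nat_lit 33408, nat_lit 29210, nat_lit 20511, nat_lit 16429, nat_lit 4112]⟩⟩⟩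
def p283 : AP := ⟨[nat_lit 103], [], (nat_lit 190), ⟨[nat_lit 15, nat_lit 68], [nat_lit 2, nat_lit 60], ⟨[nat_lit 0x8ada350a0f9b921398b4adec462240], [nat_lit 168448, nat_lit 164096, nat_lit 155904, nat_lit 152384, nat_lit 147744, nat_lit 143408, nat_lit 142864, nat_lit 135170, nat_lit 131356, nat_lit 4, nat_lit 4412, nat_lit 8448, nat_lit 16640, nat_lit 22336, nat_lit 25984, nat_lit 29184, nat_lit 37888, nat_lit 41781, nat_lit 37060, nat_lit 32996, nat_lit 28957, nat_lit 24725, nat_lit 20544, nat_lit 16388, nat_lit 12322, nat_lit 4104]⟩⟩⟩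
def p284 : AP := ⟨[nat_lit 177, nat_lit 173, nat_lit 173], [], (nat_lit 371), ⟨[nat_lit 0, nat_lit 5, nat_lit 69], [nat_lit 0, nat_lit 77, nat_lit 69], ⟨[nat_lit 0x8c86879a909b895b05376ad8028947], [nat_lit 175104, nat_lit 160256, nat_lit 155776, nat_lit 153120, nat_lit 147648, nat_lit 144648, nat_lit 139836, nat_lit 135474, nat_lit 131626, nat_lit 158, nat_lit 5904, nat_lit 9216, nat_lit 13056, nat_lit 16480, nat_lit 25600, nat_lit 28928, nat_lit 33792, nat_lit 41674, nat_lit 38122, nat_lit 32923, nat_lit 28981, nat_lit 20622, nat_lit 16644, nat_lit 12311, nat_lit 4112]⟩⟩⟩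
def p285 : AP := ⟨[nat_lit 674, nat_lit 415, nat_lit 410], [], (nat_lit 942), ⟨[nat_lit 45, nat_lit 90], [nat_lit 0, nat_lit 21, nat_lit 63], ⟨[nat_lit 0x9411561c31b8c4b3026d550854bacf], [nat_lit 174080, nat_lit 168960, nat_lit 165120, nat_lit 162432, nat_lit 155904, nat_lit 152960, nat_lit 150912, nat_lit 145472, nat_lit 141968, nat_lit 139226, nat_lit 133796, nat_lit 1014, nat_lit 5668, nat_lit 8408, nat_lit 13440, nat_lit 16512, nat_lit 21120, nat_lit 25344, nat_lit 29184, nat_lit 34304, nat_lit 37888, nat_lit 41673, nat_lit 37143, nat_lit 32782, nat_lit 28793, nat_lit 24617, nat_lit 20484, nat_lit 16512, nat_lit 12291, nat_lit 8193]⟩⟩⟩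
def p286 : AP := ⟨[nat_lit 466, nat_lit 462, nat_lit 421], [], (nat_lit 941), ⟨[nat_lit 0, nat_lit 33, nat_lit 69], [nat_lit 0, nat_lit 77, nat_lit 47], ⟨[nat_lit 0x431f23dc6ea5573306cd2452514140], [nat_lit 174080, nat_lit 169472, nat_lit 164864, nat_lit 160256, nat_lit 158208, nat_lit 154496, nat_lit 150352, nat_lit 144008, nat_lit 142948, nat_lit 135618, nat_lit 133431, nat_lit 64, nat_lit 4964, nat_lit 9328, nat_lit 12704, nat_lit 17632, nat_lit 22144, nat_lit 25472, nat_lit 29440, nat_lit 33280, nat_lit 37888, nat_lit 41669, nat_lit 38184, nat_lit 32856, nat_lit 28775, nat_lit 24742, nat_lit 20610, nat_lit 16653, nat_lit 12545, nat_lit 8193, nat_lit 4]⟩⟩⟩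
def p287 : AP := ⟨[nat_lit 410, nat_lit 677, nat_lit 421, nat_lit 419], [], (nat_lit 940), ⟨[nat_lit 72, nat_lit 69], [nat_lit 0, nat_lit 28, nat_lit 94], ⟨[nat_lit 0x750121c19589973128a1b1d37411ed], [nat_lit 168960, nat_lit 160256, nat_lit 159040, nat_lit 153152, nat_lit 148464, nat_lit 144048, nat_lit 141300, nat_lit 136548, nat_lit 132521, nat_lit 428, nat_lit 4132, nat_lit 8240, nat_lit 13520, nat_lit 17056, nat_lit 21952, nat_lit 24832, nat_lit 29696, nat_lit 34304, nat_lit 37888, nat_lit 41127, nat_lit 37258, nat_lit 32822, nat_lit 29288, nat_lit 24603, nat_lit 20610, nat_lit 16450, nat_lit 12305, nat_lit 8450, nat_lit 4161]⟩⟩⟩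
def p288 : AP := ⟨[nat_lit 171, nat_lit 173], [], (nat_lit 413), ⟨[nat_lit 84], [nat_lit 0, nat_lit 86, nat_lit 64], ⟨[nat_lit 0x1ad249a2ec7b4a0ac1ca3d2c134a22], [nat_lit 173056, nat_lit 166912, nat_lit 159872, nat_lit 155968, nat_lit 153376, nat_lit 148592, nat_lit 144656, nat_lit 140560, nat_lit 136990, nat_lit 131338, nat_lit 700, nat_lit 4608, nat_lit 9016, nat_lit 14128, nat_lit 16896, nat_lit 20928, nat_lit 24960, nat_lit 29184, nat_lit 33792, nat_lit 37888, nat_lit 41312, nat_lit 37177, nat_lit 32919, nat_lit 28954, nat_lit 25638, nat_lit 21001, nat_lit 16418, nat_lit 12421, nat_lit 8258, nat_lit 4112, nat_lit 128]⟩⟩⟩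
def p289 : AP := ⟨[nat_lit 77, nat_lit 101, nat_lit 82, nat_lit 77], [], (nat_lit 383), ⟨[nat_lit 0, nat_lit 11, nat_lit 91], [nat_lit 84, nat_lit 69], ⟨[nat_lit 0x59c92bd22812830336c09a5eea8d85], [nat_lit 168448, nat_lit 165120, nat_lit 161536, nat_lit 156096, nat_lit 154176, nat_lit 149488, nat_lit 145344, nat_lit 141120, nat_lit 137210, nat_lit 132326, nat_lit 1634, nat_lit 4380, nat_lit 10168, nat_lit 12416, nat_lit 17600, nat_lit 26240, nat_lit 28928, nat_lit 34304, nat_lit 41914, nat_lit 36896, nat_lit 34013, nat_lit 29810, nat_lit 24744, nat_lit 17414, nat_lit 12309, nat_lit 8208, nat_lit 8]⟩⟩⟩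
def p290 : AP := ⟨[nat_lit 676, nat_lit 412, nat_lit 410], [], (nat_lit 940), ⟨[nat_lit 31, nat_lit 70], [nat_lit 79, nat_lit 65], ⟨[nat_lit 0x547289cd74d973a3a0c285e823542], [nat_lit 174080, nat_lit 168448, nat_lit 164864, nat_lit 163456, nat_lit 157248, nat_lit 153248, nat_lit 150832, nat_lit 147360, nat_lit 142312, nat_lit 137644, nat_lit 133360, nat_lit 1178, nat_lit 5884, nat_lit 9096, nat_lit 13200, nat_lit 16640, nat_lit 21952, nat_lit 24704, nat_lit 28928, nat_lit 33280, nat_lit 37888, nat_lit 41899, nat_lit 37149, nat_lit 33346, nat_lit 29710, nat_lit 24849, nat_lit 20632, nat_lit 16397, nat_lit 12293, nat_lit 8194, nat_lit 4100]⟩⟩⟩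
def p291 : AP := ⟨[nat_lit 675, nat_lit 674], [], (nat_lit 942), ⟨[nat_lit 0, nat_lit 10, nat_lit 62], [nat_lit 16, nat_lit 92], ⟨[nat_lit 0x385511c126bba72650a46a2cba81e2], [nat_lit 173056, nat_lit 168960, nat_lit 165376, nat_lit 161664, nat_lit 157952, nat_lit 152864, nat_lit 148928, nat_lit 143568, nat_lit 141176, nat_lit 136056, nat_lit 132515, nat_lit 4, nat_lit 4492, nat_lit 8256, nat_lit 14112, nat_lit 16960, nat_lit 20800, nat_lit 25600, nat_lit 29440, nat_lit 34304, nat_lit 37888, nat_lit 41792, nat_lit 36970, nat_lit 33872, nat_lit 28765, nat_lit 21002, nat_lit 16390, nat_lit 12291, nat_lit 8193, nat_lit 4105, nat_lit 4]⟩⟩⟩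
def p292 : AP := ⟨[nat_lit 76], [], (nat_lit 196), ⟨[nat_lit 22, nat_lit 90], [nat_lit 0, nat_lit 19, nat_lit 47], ⟨[nat_lit 0x4c1c59b48815eb45c4cf006c353247], [nat_lit 168448, nat_lit 165888, nat_lit 162048, nat_lit 159488, nat_lit 155040, nat_lit 148272, nat_lit 147224, nat_lit 142156, nat_lit 135728, nat_lit 135010, nat_lit 1182, nat_lit 5488, nat_lit 9288, nat_lit 14272, nat_lit 18176, nat_lit 26240, nat_lit 28928, nat_lit 37888, nat_lit 41457, nat_lit 37139, nat_lit 32939, nat_lit 29047, nat_lit 24735, nat_lit 20744, nat_lit 16519, nat_lit 12309, nat_lit 8193, nat_lit 4097, nat_lit 2]⟩⟩⟩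
def l293 : List AP := [⟨[nat_lit 42, nat_lit 15, nat_lit 36], [], (nat_lit 1032), ⟨[nat_lit 5, nat_lit 57], [nat_lit 0, nat_lit 72, nat_lit 60], ⟨[nat_lit 0x5c83559269382b40a2f61db42c2b3], [nat_lit 173056, nat_lit 169984, nat_lit 164608, nat_lit 163584, nat_lit 157056, nat_lit 155328, nat_lit 150512, nat_lit 145840, nat_lit 140844, nat_lit 136750, nat_lit 135143, nat_lit 526, nat_lit 5208, nat_lit 9384, nat_lit 12416, nat_lit 18176, nat_lit 20608, nat_lit 25600, nat_lit 29696, nat_lit 34304, nat_lit 41942, nat_lit 37105, nat_lit 32815, nat_lit 28796, nat_lit 24583, nat_lit 20627, nat_lit 16523, nat_lit 12320, nat_lit 8195, nat_lit 4]⟩⟩⟩]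
theorem s293 : Suf yT 2049 (ldrop wS 161) (apW dcM p292) (tgtN dcM p292.e) := Suf.fin' (l := l293) (by decide +kernel)
def l292 : List AP := [⟨[nat_lit 463, nat_lit 421, nat_lit 464], [], (nat_lit 1228), ⟨[nat_lit 41, nat_lit 67], [nat_lit 0, nat_lit 22, nat_lit 91], ⟨[nat_lit 0x3086a0ddf224e08aaec7715a904594], [nat_lit 175104, nat_lit 169472, nat_lit 161152, nat_lit 158912, nat_lit 155392, nat_lit 150800, nat_lit 145376, nat_lit 141436, nat_lit 137016, nat_lit 133863, nat_lit 1108, nat_lit 4380, nat_lit 9808, nat_lit 14032, nat_lit 17312, nat_lit 21632, nat_lit 26496, nat_lit 29696, nat_lit 33280, nat_lit 40993, nat_lit 37049, nat_lit 32806, nat_lit 28744, nat_lit 24745, nat_lit 20490, nat_lit 16898, nat_lit 12311, nat_lit 8201, nat_lit 4097]⟩⟩⟩,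
  ⟨[nat_lit 647], [], (nat_lit 192), ⟨[nat_lit 18, nat_lit 61], [nat_lit 36, nat_lit 66], ⟨[nat_lit 0xb068983cd71ac877090d9c54065645], [nat_lit 174080, nat_lit 170496, nat_lit 167168, nat_lit 161408, nat_lit 158400, nat_lit 154944, nat_lit 148448, nat_lit 146640, nat_lit 140484, nat_lit 136708, nat_lit 132230, nat_lit 1634, nat_lit 4412, nat_lit 10200, nat_lit 14176, nat_lit 17152, nat_lit 21184, nat_lit 25600, nat_lit 33280, nat_lit 37888, nat_lit 41480, nat_lit 37888, nat_lit 32891, nat_lit 28729, nat_lit 24579, nat_lit 20619, nat_lit 16429, nat_lit 12290, nat_lit 8210, nat_lit 4104, nat_lit 4]⟩⟩⟩]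
theorem s292 : Suf yT 2049 (ldrop wS 146) (apW dcM p291) (tgtN dcM p291.e) := Suf.seg (l := l292) (by decide +kernel) s293
def l291 : List AP := [⟨[nat_lit 676, nat_lit 466, nat_lit 416], [], (nat_lit 1236), ⟨[nat_lit 0, nat_lit 39, nat_lit 63], [nat_lit 30, nat_lit 64], ⟨[nat_lit 0xac245100f622a88585d37b2e648e2d], [nat_lit 168448, nat_lit 165120, nat_lit 160256, nat_lit 156800, nat_lit 152416, nat_lit 148288, nat_lit 144856, nat_lit 140404, nat_lit 135506, nat_lit 134110, nat_lit 1004, nat_lit 6084, nat_lit 9184, nat_lit 12800, nat_lit 18080, nat_lit 21376, nat_lit 25088, nat_lit 29184, nat_lit 33792, nat_lit 37888, nat_lit 41559, nat_lit 36986, nat_lit 32906, nat_lit 28724, nat_lit 25122, nat_lit 20633, nat_lit 16453, nat_lit 12295, nat_lit 8193, nat_lit 4104, nat_lit 2]⟩⟩⟩,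
  ⟨[nat_lit 171, nat_lit 177, nat_lit 178], [], (nat_lit 858), ⟨[nat_lit 0, nat_lit 72, nat_lit 61], [nat_lit 1, nat_lit 62], ⟨[nat_lit 0xb1c924aa3598ae30a1c57b29002ccd], [nat_lit 175104, nat_lit 169984, nat_lit 166912, nat_lit 161024, nat_lit 156544, nat_lit 152672, nat_lit 151184, nat_lit 144848, nat_lit 140244, nat_lit 137396, nat_lit 134133, nat_lit 1516, nat_lit 5884, nat_lit 8480, nat_lit 12480, nat_lit 17824, nat_lit 25600, nat_lit 33280, nat_lit 37888, nat_lit 41409, nat_lit 36867, nat_lit 33858, nat_lit 28960, nat_lit 24592, nat_lit 20608, nat_lit 16451, nat_lit 12294, nat_lit 8193, nat_lit 4097, nat_lit 2]⟩⟩⟩]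
theorem s291 : Suf yT 2049 (ldrop wS 140) (apW dcM p290) (tgtN dcM p290.e) := Suf.seg (l := l291) (by decide +kernel) s292
def l290 : List AP := [⟨[nat_lit 216, nat_lit 663, nat_lit 176], [], (nat_lit 412), ⟨[nat_lit 0, nat_lit 78, nat_lit 94], [nat_lit 0, nat_lit 40, nat_lit 68], ⟨[nat_lit 0x1c1aa4826cb1c85905c8b9ab45c5e2], [nat_lit 164864, nat_lit 160896, nat_lit 156480, nat_lit 152480, nat_lit 147712, nat_lit 143968, nat_lit 140524, nat_lit 137050, nat_lit 135115, nat_lit 4, nat_lit 5296, nat_lit 8704, nat_lit 13664, nat_lit 16480, nat_lit 21376, nat_lit 25344, nat_lit 28928, nat_lit 33280, nat_lit 41477, nat_lit 37246, nat_lit 32773, nat_lit 28722, nat_lit 24619, nat_lit 20482, nat_lit 16519, nat_lit 12295, nat_lit 8193, nat_lit 4104]⟩⟩⟩,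
  ⟨[nat_lit 218, nat_lit 181, nat_lit 175, nat_lit 170], [], (nat_lit 858), ⟨[nat_lit 0, nat_lit 28, nat_lit 51], [nat_lit 34, nat_lit 47], ⟨[nat_lit 0x80a757a2251b9b631c3723249a2d40], [nat_lit 168960, nat_lit 167680, nat_lit 161536, nat_lit 157184, nat_lit 151648, nat_lit 147744, nat_lit 145096, nat_lit 140776, nat_lit 136042, nat_lit 132629, nat_lit 256, nat_lit 5904, nat_lit 9752, nat_lit 13536, nat_lit 16576, nat_lit 20736, nat_lit 24832, nat_lit 30464, nat_lit 41718, nat_lit 37120, nat_lit 32909, nat_lit 28941, nat_lit 25654, nat_lit 20499, nat_lit 16429, nat_lit 12310, nat_lit 8208, nat_lit 4097]⟩⟩⟩]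
theorem s290 : Suf yT 2049 (ldrop wS 125) (apW dcM p289) (tgtN dcM p289.e) := Suf.seg (l := l290) (by decide +kernel) s291
def l289 : List AP := [⟨[nat_lit 217], [], (nat_lit 390), ⟨[nat_lit 38, nat_lit 68], [nat_lit 0, nat_lit 37, nat_lit 51], ⟨[nat_lit 0x60c26820172ba324da626a964abcf4], [nat_lit 168960, nat_lit 166912, nat_lit 160896, nat_lit 155968, nat_lit 153312, nat_lit 144272, nat_lit 141248, nat_lit 137134, nat_lit 132355, nat_lit 1214, nat_lit 4328, nat_lit 9520, nat_lit 13920, nat_lit 16640, nat_lit 21504, nat_lit 24832, nat_lit 29184, nat_lit 41981, nat_lit 38042, nat_lit 32820, nat_lit 29775, nat_lit 25092, nat_lit 20547, nat_lit 12293, nat_lit 8201, nat_lit 4160, nat_lit 2]⟩⟩⟩,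
  ⟨[nat_lit 23, nat_lit 24, nat_lit 31, nat_lit 22], [], (nat_lit 176), ⟨[nat_lit 1, nat_lit 48], [nat_lit 72, nat_lit 92], ⟨[nat_lit 0x1502901d90b39a83115588de5bce4b], [nat_lit 174080, nat_lit 164096, nat_lit 162560, nat_lit 157248, nat_lit 151872, nat_lit 151472, nat_lit 146776, nat_lit 141356, nat_lit 137504, nat_lit 135097, nat_lit 1860, nat_lit 5080, nat_lit 8392, nat_lit 13392, nat_lit 17984, nat_lit 21952, nat_lit 37888, nat_lit 41499, nat_lit 38374, nat_lit 32820, nat_lit 28731, nat_lit 24579, nat_lit 20622, nat_lit 16422, nat_lit 12417, nat_lit 8225, nat_lit 4097]⟩⟩⟩]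
theorem s289 : Suf yT 2049 (ldrop wS 110) (apW dcM p288) (tgtN dcM p288.e) := Suf.seg (l := l289) (by decide +kernel) s290
def l288 : List AP := [⟨[nat_lit 675, nat_lit 464, nat_lit 411], [], (nat_lit 1228), ⟨[nat_lit 0, nat_lit 71, nat_lit 58], [nat_lit 0, nat_lit 18, nat_lit 57], ⟨[nat_lit 0xb3daa612209c28893847a8c29598b7], [nat_lit 173056, nat_lit 168448, nat_lit 164096, nat_lit 160000, nat_lit 156800, nat_lit 151056, nat_lit 144856, nat_lit 139652, nat_lit 136382, nat_lit 131230, nat_lit 1124, nat_lit 4952, nat_lit 8856, nat_lit 13936, nat_lit 17408, nat_lit 21120, nat_lit 29440, nat_lit 33792, nat_lit 37888, nat_lit 41960, nat_lit 36880, nat_lit 32819, nat_lit 28730, nat_lit 25653, nat_lit 20487, nat_lit 16390, nat_lit 12359, nat_lit 8210, nat_lit 4104]⟩⟩⟩,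
  ⟨[nat_lit 100, nat_lit 80, nat_lit 101, nat_lit 102, nat_lit 87], [], (nat_lit 370), ⟨[nat_lit 0, nat_lit 3, nat_lit 89], [nat_lit 0, nat_lit 27, nat_lit 92], ⟨[nat_lit 0x8b912282f0a92637ac4162ad44b4c7], [nat_lit 173056, nat_lit 168960, nat_lit 164352, nat_lit 160512, nat_lit 157632, nat_lit 152064, nat_lit 147504, nat_lit 145240, nat_lit 140388, nat_lit 136272, nat_lit 134779, nat_lit 158, nat_lit 5276, nat_lit 8680, nat_lit 13648, nat_lit 17728, nat_lit 21440, nat_lit 25600, nat_lit 30464, nat_lit 34304, nat_lit 41638, nat_lit 38250, nat_lit 33337, nat_lit 29021, nat_lit 24579, nat_lit 20619, nat_lit 16646, nat_lit 12289, nat_lit 4097, nat_lit 2]⟩⟩⟩]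
theorem s288 : Suf yT 2049 (ldrop wS 95) (apW dcM p287) (tgtN dcM p287.e) := Suf.seg (l := l288) (by decide +kernel) s289
def l287 : List AP := [⟨[nat_lit 675, nat_lit 677, nat_lit 674, nat_lit 410], [], (nat_lit 1228), ⟨[nat_lit 0, nat_lit 33, nat_lit 91], [nat_lit 36, nat_lit 61], ⟨[nat_lit 0x42d220806a2de2da99d365a4779214], [nat_lit 168960, nat_lit 161664, nat_lit 157504, nat_lit 153568, nat_lit 148816, nat_lit 144680, nat_lit 141120, nat_lit 137202, nat_lit 133733, nat_lit 32, nat_lit 5372, nat_lit 8208, nat_lit 14144, nat_lit 16448, nat_lit 20544, nat_lit 25728, nat_lit 29696, nat_lit 33792, nat_lit 41336, nat_lit 37161, nat_lit 33435, nat_lit 28769, nat_lit 24735, nat_lit 20501, nat_lit 16423, nat_lit 12289, nat_lit 8224, nat_lit 4113]⟩⟩⟩,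
  ⟨[nat_lit 76, nat_lit 79, nat_lit 79, nat_lit 80], [], (nat_lit 844), ⟨[nat_lit 34, nat_lit 52], [nat_lit 82, nat_lit 67], ⟨[nat_lit 0x54261014e8236b17892e5dae391994], [nat_lit 168960, nat_lit 164864, nat_lit 162944, nat_lit 155712, nat_lit 152832, nat_lit 148432, nat_lit 144280, nat_lit 140584, nat_lit 136096, nat_lit 132738, nat_lit 1108, nat_lit 4540, nat_lit 9656, nat_lit 17216, nat_lit 21504, nat_lit 25984, nat_lit 29696, nat_lit 33280, nat_lit 37888, nat_lit 41109, nat_lit 37327, nat_lit 33347, nat_lit 28705, nat_lit 25103, nat_lit 20615, nat_lit 17421, nat_lit 12304, nat_lit 8226, nat_lit 128]⟩⟩⟩]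
theorem s287 : Suf yT 2049 (ldrop wS 89) (apW dcM p286) (tgtN dcM p286.e) := Suf.seg (l := l287) (by decide +kernel) s288
def l286 : List AP := [⟨[], [], (nat_lit 1228), ⟨[nat_lit 71, nat_lit 94], [nat_lit 78, nat_lit 63], ⟨[nat_lit 0x42e257828a356d215d2d810239b8ec], [nat_lit 173056, nat_lit 169472, nat_lit 165632, nat_lit 159872, nat_lit 157568, nat_lit 151680, nat_lit 149104, nat_lit 144144, nat_lit 139956, nat_lit 137056, nat_lit 133420, nat_lit 318, nat_lit 5276, nat_lit 8720, nat_lit 13168, nat_lit 18112, nat_lit 21760, nat_lit 26496, nat_lit 30208, nat_lit 33792, nat_lit 37888, nat_lit 41971, nat_lit 37251, nat_lit 33295, nat_lit 28701, nat_lit 24622, nat_lit 20483, nat_lit 16395, nat_lit 12305, nat_lit 8195]⟩⟩⟩,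
  ⟨[nat_lit 106, nat_lit 84, nat_lit 87, nat_lit 107], [], (nat_lit 844), ⟨[nat_lit 72], [nat_lit 0, nat_lit 30, nat_lit 91], ⟨[nat_lit 0x8daa8dca0941c8aa6cf99c542198b], [nat_lit 175104, nat_lit 168448, nat_lit 165120, nat_lit 159872, nat_lit 157760, nat_lit 155552, nat_lit 151280, nat_lit 143552, nat_lit 142280, nat_lit 135394, nat_lit 134005, nat_lit 1966, nat_lit 5436, nat_lit 8928, nat_lit 12864, nat_lit 16416, nat_lit 21504, nat_lit 29184, nat_lit 33792, nat_lit 37888, nat_lit 41750, nat_lit 36999, nat_lit 32815, nat_lit 28771, nat_lit 24727, nat_lit 20506, nat_lit 16429, nat_lit 12325, nat_lit 8195, nat_lit 4100]⟩⟩⟩]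
theorem s286 : Suf yT 2049 (ldrop wS 74) (apW dcM p285) (tgtN dcM p285.e) := Suf.seg (l := l286) (by decide +kernel) s287
def l285 : List AP := [⟨[nat_lit 100, nat_lit 86, nat_lit 647, nat_lit 101], [], (nat_lit 844), ⟨[nat_lit 0, nat_lit 14, nat_lit 52], [nat_lit 35, nat_lit 59], ⟨[nat_lit 0x101a84988c9c5cabc8e15d5f62d070], [nat_lit 174080, nat_lit 169472, nat_lit 165120, nat_lit 160896, nat_lit 157632, nat_lit 151712, nat_lit 148096, nat_lit 145272, nat_lit 140984, nat_lit 135296, nat_lit 132447, nat_lit 760, nat_lit 4404, nat_lit 8464, nat_lit 12416, nat_lit 16448, nat_lit 22208, nat_lit 26112, nat_lit 28928, nat_lit 33792, nat_lit 41535, nat_lit 36944, nat_lit 32998, nat_lit 29006, nat_lit 24876, nat_lit 20616, nat_lit 16897, nat_lit 12354, nat_lit 8450, nat_lit 4160, nat_lit 16]⟩⟩⟩,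
  ⟨[nat_lit 468, nat_lit 678, nat_lit 417, nat_lit 410], [], (nat_lit 940), ⟨[nat_lit 0, nat_lit 6, nat_lit 49], [nat_lit 35, nat_lit 89], ⟨[nat_lit 0x129723c08163873bda20335142bd35], [nat_lit 173056, nat_lit 168448, nat_lit 165120, nat_lit 161536, nat_lit 157696, nat_lit 153056, nat_lit 149296, nat_lit 143736, nat_lit 141220, nat_lit 137188, nat_lit 132999, nat_lit 1698, nat_lit 5508, nat_lit 8936, nat_lit 14304, nat_lit 16416, nat_lit 22016, nat_lit 24704, nat_lit 28928, nat_lit 37888, nat_lit 41707, nat_lit 37360, nat_lit 33007, nat_lit 28736, nat_lit 24590, nat_lit 20751, nat_lit 16896, nat_lit 12358, nat_lit 8258]⟩⟩⟩]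
theorem s285 : Suf yT 2049 (ldrop wS 59) (apW dcM p284) (tgtN dcM p284.e) := Suf.seg (l := l285) (by decide +kernel) s286
def l284 : List AP := [⟨[nat_lit 24, nat_lit 29, nat_lit 21, nat_lit 28, nat_lit 30, nat_lit 26], [], (nat_lit 338), ⟨[nat_lit 0, nat_lit 25, nat_lit 66], [nat_lit 24, nat_lit 89], ⟨[nat_lit 0x6062b25a534d0c8741407d5a51dce2], [nat_lit 169984, nat_lit 164096, nat_lit 162944, nat_lit 156352, nat_lit 153792, nat_lit 150096, nat_lit 146608, nat_lit 140756, nat_lit 135402, nat_lit 134079, nat_lit 700, nat_lit 5668, nat_lit 9928, nat_lit 12416, nat_lit 17312, nat_lit 21376, nat_lit 26240, nat_lit 29696, nat_lit 33792, nat_lit 37888, nat_lit 41750, nat_lit 38363, nat_lit 32920, nat_lit 28964, nat_lit 24626, nat_lit 20553, nat_lit 16422, nat_lit 12304]⟩⟩⟩,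
  ⟨[nat_lit 175, nat_lit 660, nat_lit 178], [], (nat_lit 412), ⟨[nat_lit 14, nat_lit 59], [nat_lit 0, nat_lit 19, nat_lit 70], ⟨[nat_lit 0x62c36455c34dda03c0a69c492a3d42], [nat_lit 175104, nat_lit 170496, nat_lit 164608, nat_lit 162048, nat_lit 158592, nat_lit 154080, nat_lit 148704, nat_lit 145400, nat_lit 140052, nat_lit 137942, nat_lit 134148, nat_lit 1766, nat_lit 5544, nat_lit 10088, nat_lit 14144, nat_lit 16832, nat_lit 26368, nat_lit 30208, nat_lit 33792, nat_lit 37888, nat_lit 41517, nat_lit 38236, nat_lit 33372, nat_lit 28797, nat_lit 24613, nat_lit 20498, nat_lit 16431, nat_lit 12293, nat_lit 8193, nat_lit 4128]⟩⟩⟩]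
theorem s284 : Suf yT 2049 (ldrop wS 44) (apW dcM p283) (tgtN dcM p283.e) := Suf.seg (l := l284) (by decide +kernel) s285
def l283 : List AP := [⟨[nat_lit 218, nat_lit 219], [], (nat_lit 412), ⟨[nat_lit 0, nat_lit 35], [nat_lit 0, nat_lit 36, nat_lit 46], ⟨[nat_lit 0x64ab678a2334cee0a68505c888296d], [nat_lit 169472, nat_lit 164864, nat_lit 160384, nat_lit 156224, nat_lit 152416, nat_lit 149296, nat_lit 144968, nat_lit 142656, nat_lit 135420, nat_lit 131731, nat_lit 488, nat_lit 5084, nat_lit 9568, nat_lit 12352, nat_lit 16960, nat_lit 21568, nat_lit 24832, nat_lit 29440, nat_lit 41113, nat_lit 37156, nat_lit 33408, nat_lit 29008, nat_lit 24620, nat_lit 20501, nat_lit 16417, nat_lit 12352, nat_lit 8203]⟩⟩⟩,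
  ⟨[nat_lit 177, nat_lit 173, nat_lit 173], [], (nat_lit 371), ⟨[nat_lit 36, nat_lit 67], [nat_lit 9, nat_lit 65], ⟨[nat_lit 0x880c811d70bb6d41cca9ab98f0aa44], [nat_lit 174080, nat_lit 168448, nat_lit 165632, nat_lit 163072, nat_lit 157504, nat_lit 153408, nat_lit 149552, nat_lit 146888, nat_lit 142436, nat_lit 138362, nat_lit 134002, nat_lit 1166, nat_lit 9096, nat_lit 14176, nat_lit 21376, nat_lit 29440, nat_lit 37888, nat_lit 41805, nat_lit 37163, nat_lit 32959, nat_lit 28952, nat_lit 24593, nat_lit 20630, nat_lit 16393, nat_lit 12306, nat_lit 4104]⟩⟩⟩]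
theorem s283 : Suf yT 2049 (ldrop wS 38) (apW dcM p282) (tgtN dcM p282.e) := Suf.seg (l := l283) (by decide +kernel) s284
def l282 : List AP := [⟨[nat_lit 111, nat_lit 135, nat_lit 134, nat_lit 109], [], (nat_lit 846), ⟨[nat_lit 0, nat_lit 19, nat_lit 92], [nat_lit 0, nat_lit 80, nat_lit 50], ⟨[nat_lit 0x93e2d839934d17655517008a638464], [nat_lit 175104, nat_lit 170496, nat_lit 166656, nat_lit 162048, nat_lit 156480, nat_lit 154944, nat_lit 150320, nat_lit 143992, nat_lit 142492, nat_lit 136188, nat_lit 131598, nat_lit 1166, nat_lit 4104, nat_lit 10168, nat_lit 12304, nat_lit 17408, nat_lit 21824, nat_lit 25216, nat_lit 29696, nat_lit 41072, nat_lit 36994, nat_lit 32943, nat_lit 28700, nat_lit 24605, nat_lit 20487, nat_lit 16396, nat_lit 12293, nat_lit 8194, nat_lit 4100, nat_lit 8]⟩⟩⟩,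
  ⟨[nat_lit 463, nat_lit 419, nat_lit 678, nat_lit 677], [], (nat_lit 940), ⟨[nat_lit 31, nat_lit 63], [nat_lit 66], ⟨[nat_lit 0x238f31b2014bd72a36d145cc02aaa2], [nat_lit 168448, nat_lit 166400, nat_lit 160000, nat_lit 157504, nat_lit 154304, nat_lit 149792, nat_lit 146880, nat_lit 142876, nat_lit 138248, nat_lit 131113, nat_lit 1766, nat_lit 4408, nat_lit 8560, nat_lit 13856, nat_lit 16864, nat_lit 21568, nat_lit 25216, nat_lit 29696, nat_lit 33280, nat_lit 41757, nat_lit 36950, nat_lit 33931, nat_lit 28694, nat_lit 25146, nat_lit 20563, nat_lit 16393, nat_lit 12311, nat_lit 8201, nat_lit 4097, nat_lit 2]⟩⟩⟩]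
theorem s282 : Suf yT 2049 (ldrop wS 23) (apW dcM p281) (tgtN dcM p281.e) := Suf.seg (l := l282) (by decide +kernel) s283
def l281 : List AP := [⟨[nat_lit 178, nat_lit 212, nat_lit 663, nat_lit 170], [], (nat_lit 858), ⟨[nat_lit 0, nat_lit 34], [nat_lit 30, nat_lit 50], ⟨[nat_lit 0x4c9150ada4741f61a8cca02229dca7], [nat_lit 171520, nat_lit 166400, nat_lit 162688, nat_lit 157760, nat_lit 153120, nat_lit 150480, nat_lit 145848, nat_lit 141208, nat_lit 139136, nat_lit 132290, nat_lit 1860, nat_lit 4952, nat_lit 9008, nat_lit 14224, nat_lit 17312, nat_lit 21824, nat_lit 26112, nat_lit 29184, nat_lit 34304, nat_lit 41815, nat_lit 36891, nat_lit 32820, nat_lit 28674, nat_lit 24626, nat_lit 20509, nat_lit 16390, nat_lit 12324, nat_lit 8209]⟩⟩⟩,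
  ⟨[nat_lit 415, nat_lit 411, nat_lit 417], [], (nat_lit 940), ⟨[nat_lit 18, nat_lit 49], [nat_lit 0, nat_lit 33, nat_lit 52], ⟨[nat_lit 0x2bef3758f05c4726818831122a8554], [nat_lit 173056, nat_lit 171008, nat_lit 163328, nat_lit 157248, nat_lit 155104, nat_lit 150912, nat_lit 145576, nat_lit 140764, nat_lit 136566, nat_lit 135032, nat_lit 664, nat_lit 5544, nat_lit 9640, nat_lit 13424, nat_lit 16864, nat_lit 20800, nat_lit 24832, nat_lit 29696, nat_lit 37888, nat_lit 41169, nat_lit 36966, nat_lit 32865, nat_lit 28711, nat_lit 24832, nat_lit 20567, nat_lit 16397, nat_lit 12311, nat_lit 8210]⟩⟩⟩]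
theorem s281 : Suf yT 2049 (ldrop wS 8) (apW dcM p280) (tgtN dcM p280.e) := Suf.seg (l := l281) (by decide +kernel) s282
def l280 : List AP := [⟨[nat_lit 4, nat_lit 4, nat_lit 9, nat_lit 627, nat_lit 4, nat_lit 1], [], (nat_lit 40), ⟨[nat_lit 0, nat_lit 4, nat_lit 48], [nat_lit 0, nat_lit 18, nat_lit 57], ⟨[nat_lit 0x32af17c0134386bb06ac950a9234e2], [nat_lit 173056, nat_lit 168448, nat_lit 165120, nat_lit 159872, nat_lit 158976, nat_lit 153504, nat_lit 147872, nat_lit 144640, nat_lit 139284, nat_lit 135512, nat_lit 132448, nat_lit 1178, nat_lit 5488, nat_lit 8256, nat_lit 13328, nat_lit 16544, nat_lit 21504, nat_lit 25088, nat_lit 29184, nat_lit 41568, nat_lit 38267, nat_lit 33509, nat_lit 28736, nat_lit 24629, nat_lit 20565, nat_lit 16390, nat_lit 12550, nat_lit 8195, nat_lit 4100, nat_lit 2]⟩⟩⟩,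
  ⟨[nat_lit 30, nat_lit 32, nat_lit 27, nat_lit 30, nat_lit 31, nat_lit 26], [], (nat_lit 338), ⟨[nat_lit 28, nat_lit 51], [nat_lit 13, nat_lit 68], ⟨[nat_lit 0x44a8774c505052f014cc1d9b5892eb], [nat_lit 173056, nat_lit 170496, nat_lit 161536, nat_lit 159616, nat_lit 152928, nat_lit 149312, nat_lit 145800, nat_lit 141372, nat_lit 137302, nat_lit 134565, nat_lit 404, nat_lit 5688, nat_lit 8536, nat_lit 12912, nat_lit 17888, nat_lit 21248, nat_lit 25088, nat_lit 30208, nat_lit 33792, nat_lit 41846, nat_lit 37071, nat_lit 32973, nat_lit 28778, nat_lit 24713, nat_lit 20496, nat_lit 16388, nat_lit 12417, nat_lit 8211]⟩⟩⟩]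
theorem rS13 : Suf yT 2049 wS [yT.get 47] 0 := Suf.seg (l := l280) (by decide +kernel) s281

def p294 : AP := ⟨[nat_lit 644], [], (nat_lit 193), ⟨[nat_lit 0, nat_lit 29, nat_lit 51], [nat_lit 44, nat_lit 66], ⟨[nat_lit 0x9b8a01c9a7bad49640c2a22b60bc91], [nat_lit 165632, nat_lit 160768, nat_lit 156032, nat_lit 152960, nat_lit 147680, nat_lit 143488, nat_lit 139928, nat_lit 136190, nat_lit 132423, nat_lit 184, nat_lit 4112, nat_lit 9048, nat_lit 12448, nat_lit 16896, nat_lit 21696, nat_lit 26496, nat_lit 29440, nat_lit 33792, nat_lit 41216, nat_lit 37101, nat_lit 32828, nat_lit 29254, nat_lit 24591, nat_lit 20626, nat_lit 16424, nat_lit 12323, nat_lit 8259, nat_lit 4104, nat_lit 16]⟩⟩⟩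
def p295 : AP := ⟨[nat_lit 463, nat_lit 411], [], (nat_lit 1228), ⟨[nat_lit 75, nat_lit 94], [nat_lit 50], ⟨[nat_lit 0x51e4430e8e4d6d15c022b81e59b1a8], [nat_lit 164864, nat_lit 161280, nat_lit 157632, nat_lit 152960, nat_lit 147952, nat_lit 145768, nat_lit 139652, nat_lit 135374, nat_lit 132717, nat_lit 236, nat_lit 4156, nat_lit 9112, nat_lit 12544, nat_lit 16512, nat_lit 21888, nat_lit 25344, nat_lit 28928, nat_lit 33280, nat_lit 37888, nat_lit 41085, nat_lit 37288, nat_lit 32788, nat_lit 28768, nat_lit 24708, nat_lit 20572, nat_lit 16416, nat_lit 12295, nat_lit 8201, nat_lit 4101, nat_lit 2]⟩⟩⟩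
def p296 : AP := ⟨[nat_lit 675, nat_lit 414, nat_lit 462], [], (nat_lit 1226), ⟨[nat_lit 0, nat_lit 81, nat_lit 60], [nat_lit 10, nat_lit 55], ⟨[nat_lit 0x538f78865343685326af140032598b], [nat_lit 173056, nat_lit 168960, nat_lit 164608, nat_lit 161024, nat_lit 155904, nat_lit 152704, nat_lit 148160, nat_lit 143384, nat_lit 140284, nat_lit 138146, nat_lit 132485, nat_lit 354, nat_lit 4396, nat_lit 8928, nat_lit 13264, nat_lit 17440, nat_lit 21120, nat_lit 24960, nat_lit 29696, nat_lit 41854, nat_lit 37054, nat_lit 33880, nat_lit 29279, nat_lit 24738, nat_lit 20628, nat_lit 16419, nat_lit 12294, nat_lit 8203, nat_lit 4104, nat_lit 4]⟩⟩⟩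
def p297 : AP := ⟨[nat_lit 78, nat_lit 79, nat_lit 644], [], (nat_lit 179), ⟨[nat_lit 0, nat_lit 74, nat_lit 52], [nat_lit 0, nat_lit 23, nat_lit 70], ⟨[nat_lit 0x9be48b8604299ca6568b10d2d8d8e0], [nat_lit 173056, nat_lit 165632, nat_lit 159872, nat_lit 156480, nat_lit 151904, nat_lit 148528, nat_lit 143920, nat_lit 140160, nat_lit 139174, nat_lit 131592, nat_lit 2, nat_lit 5276, nat_lit 9248, nat_lit 12976, nat_lit 18272, nat_lit 22080, nat_lit 24832, nat_lit 30464, nat_lit 34304, nat_lit 41942, nat_lit 38040, nat_lit 32808, nat_lit 28708, nat_lit 25136, nat_lit 20560, nat_lit 16397, nat_lit 12294, nat_lit 8203, nat_lit 4097]⟩⟩⟩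
def p298 : AP := ⟨[nat_lit 171, nat_lit 173], [], (nat_lit 413), ⟨[nat_lit 34, nat_lit 90], [nat_lit 27, nat_lit 59], ⟨[nat_lit 0x1d5d3b41a251820222325dcf42bd2c], [nat_lit 168448, nat_lit 164608, nat_lit 161664, nat_lit 158720, nat_lit 151840, nat_lit 148800, nat_lit 145344, nat_lit 140728, nat_lit 136478, nat_lit 131935, nat_lit 880, nat_lit 5508, nat_lit 10088, nat_lit 13360, nat_lit 17248, nat_lit 20608, nat_lit 24704, nat_lit 29952, nat_lit 33792, nat_lit 37888, nat_lit 41853, nat_lit 36949, nat_lit 32960, nat_lit 28987, nat_lit 24636, nat_lit 20567, nat_lit 16460, nat_lit 12323, nat_lit 8256, nat_lit 32]⟩⟩⟩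
def p299 : AP := ⟨[nat_lit 678, nat_lit 421, nat_lit 411], [], (nat_lit 942), ⟨[nat_lit 7, nat_lit 63], [nat_lit 19, nat_lit 52], ⟨[nat_lit 0x9289005a6ea1515699e90ac4760ef1], [nat_lit 171520, nat_lit 164096, nat_lit 163584, nat_lit 155904, nat_lit 155616, nat_lit 149632, nat_lit 146688, nat_lit 140740, nat_lit 136710, nat_lit 134869, nat_lit 184, nat_lit 5616, nat_lit 9408, nat_lit 12800, nat_lit 18176, nat_lit 21504, nat_lit 25088, nat_lit 29696, nat_lit 33280, nat_lit 37888, nat_lit 41515, nat_lit 38381, nat_lit 33015, nat_lit 28741, nat_lit 24629, nat_lit 20564, nat_lit 16390, nat_lit 12295, nat_lit 8202, nat_lit 4105]⟩⟩⟩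
def p300 : AP := ⟨[nat_lit 462, nat_lit 421, nat_lit 411], [], (nat_lit 942), ⟨[nat_lit 0, nat_lit 12, nat_lit 50], [nat_lit 0, nat_lit 23, nat_lit 90], ⟨[nat_lit 0x35d724a1e06c221acd443b8a2a0d96], [nat_lit 173056, nat_lit 168448, nat_lit 166656, nat_lit 160000, nat_lit 155904, nat_lit 152096, nat_lit 149072, nat_lit 145344, nat_lit 139672, nat_lit 131353, nat_lit 952, nat_lit 4156, nat_lit 8200, nat_lit 12320, nat_lit 17312, nat_lit 26368, nat_lit 28928, nat_lit 33280, nat_lit 41788, nat_lit 37192, nat_lit 32944, nat_lit 25137, nat_lit 20569, nat_lit 16453, nat_lit 12308, nat_lit 8208]⟩⟩⟩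
def p301 : AP := ⟨[nat_lit 410, nat_lit 462, nat_lit 674], [], (nat_lit 940), ⟨[nat_lit 20, nat_lit 93], [nat_lit 0, nat_lit 31, nat_lit 66], ⟨[nat_lit 0x208f37b410b5e4361a8ba954e8a428], [nat_lit 173056, nat_lit 168960, nat_lit 167424, nat_lit 163712, nat_lit 158592, nat_lit 154176, nat_lit 149360, nat_lit 146864, nat_lit 142540, nat_lit 136070, nat_lit 134078, nat_lit 236, nat_lit 4352, nat_lit 9664, nat_lit 12592, nat_lit 17248, nat_lit 21120, nat_lit 24832, nat_lit 30208, nat_lit 41857, nat_lit 37372, nat_lit 32875, nat_lit 29298, nat_lit 24577, nat_lit 20482, nat_lit 16389, nat_lit 12423, nat_lit 8195, nat_lit 4097]⟩⟩⟩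
def p302 : AP := ⟨[nat_lit 216, nat_lit 663, nat_lit 176], [], (nat_lit 412), ⟨[nat_lit 31, nat_lit 91], [nat_lit 0, nat_lit 12], ⟨[nat_lit 0x19666956820b60f8a009b116e55cec], [nat_lit 175104, nat_lit 171008, nat_lit 164608, nat_lit 162944, nat_lit 158208, nat_lit 154784, nat_lit 148288, nat_lit 144176, nat_lit 140712, nat_lit 138844, nat_lit 133979, nat_lit 2012, nat_lit 4328, nat_lit 8824, nat_lit 13904, nat_lit 18304, nat_lit 22080, nat_lit 26112, nat_lit 37888, nat_lit 41903, nat_lit 38384, nat_lit 33862, nat_lit 28749, nat_lit 24595, nat_lit 20511, nat_lit 16428, nat_lit 12327, nat_lit 8194, nat_lit 4100]⟩⟩⟩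
def p303 : AP := ⟨[nat_lit 82, nat_lit 105, nat_lit 81, nat_lit 103], [], (nat_lit 370), ⟨[nat_lit 0, nat_lit 9, nat_lit 68], [nat_lit 33, nat_lit 64], ⟨[nat_lit 0x894667d5447059259e8d02269b5c50], [nat_lit 174080, nat_lit 171520, nat_lit 165376, nat_lit 162688, nat_lit 158720, nat_lit 154368, nat_lit 149072, nat_lit 144208, nat_lit 141024, nat_lit 138884, nat_lit 133891, nat_lit 1698, nat_lit 4816, nat_lit 8256, nat_lit 13952, nat_lit 18176, nat_lit 22016, nat_lit 26368, nat_lit 29696, nat_lit 34304, nat_lit 41537, nat_lit 38321, nat_lit 33518, nat_lit 29212, nat_lit 24593, nat_lit 20621, nat_lit 16391, nat_lit 12290, nat_lit 8194, nat_lit 4101]⟩⟩⟩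
def p304 : AP := ⟨[nat_lit 412, nat_lit 417, nat_lit 411], [], (nat_lit 952), ⟨[nat_lit 0, nat_lit 35, nat_lit 92], [nat_lit 73, nat_lit 94], ⟨[nat_lit 0x349707d8536de212310e3d6891940a], [nat_lit 171520, nat_lit 164608, nat_lit 162944, nat_lit 157568, nat_lit 153984, nat_lit 151136, nat_lit 146832, nat_lit 141308, nat_lit 135764, nat_lit 133587, nat_lit 1938, nat_lit 5904, nat_lit 8784, nat_lit 12416, nat_lit 16928, nat_lit 20544, nat_lit 26368, nat_lit 30464, nat_lit 33792, nat_lit 41930, nat_lit 37295, nat_lit 32831, nat_lit 28795, nat_lit 24749, nat_lit 20608, nat_lit 16397, nat_lit 12310, nat_lit 8210, nat_lit 4101, nat_lit 4]⟩⟩⟩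
def p305 : AP := ⟨[nat_lit 462, nat_lit 415, nat_lit 464], [], (nat_lit 942), ⟨[nat_lit 0, nat_lit 78, nat_lit 58], [nat_lit 6, nat_lit 60], ⟨[nat_lit 0x638b24c14730e21136a80596fb9274], [nat_lit 173056, nat_lit 169472, nat_lit 165376, nat_lit 160384, nat_lit 159360, nat_lit 151584, nat_lit 148512, nat_lit 145328, nat_lit 139916, nat_lit 136204, nat_lit 131267, nat_lit 622, nat_lit 5688, nat_lit 9576, nat_lit 14144, nat_lit 18112, nat_lit 29952, nat_lit 41671, nat_lit 37269, nat_lit 32832, nat_lit 28706, nat_lit 24625, nat_lit 20561, nat_lit 16457, nat_lit 12307, nat_lit 8705, nat_lit 4104, nat_lit 2]⟩⟩⟩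
def p306 : AP := ⟨[nat_lit 76], [], (nat_lit 196), ⟨[nat_lit 0, nat_lit 4, nat_lit 61], [nat_lit 0, nat_lit 27, nat_lit 94], ⟨[nat_lit 0x4d5649c685541c300ae7332cf0c9a8], [nat_lit 171520, nat_lit 165120, nat_lit 160512, nat_lit 156736, nat_lit 152064, nat_lit 148160, nat_lit 143696, nat_lit 140788, nat_lit 135582, nat_lit 132950, nat_lit 236, nat_lit 4352, nat_lit 8784, nat_lit 13920, nat_lit 16640, nat_lit 21824, nat_lit 25984, nat_lit 33280, nat_lit 41486, nat_lit 37088, nat_lit 32819, nat_lit 29285, nat_lit 25120, nat_lit 20739, nat_lit 16424, nat_lit 12306, nat_lit 8321, nat_lit 4105, nat_lit 2]⟩⟩⟩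
def l307 : List AP := [⟨[nat_lit 17, nat_lit 39], [], (nat_lit 1032), ⟨[nat_lit 0, nat_lit 14, nat_lit 59], [nat_lit 0, nat_lit 86, nat_lit 69], ⟨[nat_lit 0xa19255d654b8137b4d6ac22720c54], [nat_lit 175104, nat_lit 168448, nat_lit 165120, nat_lit 160384, nat_lit 158528, nat_lit 154496, nat_lit 149968, nat_lit 144848, nat_lit 142232, nat_lit 136270, nat_lit 134221, nat_lit 1108, nat_lit 4300, nat_lit 8200, nat_lit 12304, nat_lit 16416, nat_lit 26112, nat_lit 29184, nat_lit 41569, nat_lit 37167, nat_lit 33515, nat_lit 29029, nat_lit 24869, nat_lit 20481, nat_lit 16398, nat_lit 12311, nat_lit 8211, nat_lit 4113]⟩⟩⟩]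
theorem s307 : Suf yT 2050 (ldrop wS 161) (apW dcM p306) (tgtN dcM p306.e) := Suf.fin' (l := l307) (by decide +kernel)
def l306 : List AP := [⟨[nat_lit 678, nat_lit 466, nat_lit 467], [], (nat_lit 1228), ⟨[nat_lit 0, nat_lit 22, nat_lit 52], [nat_lit 0, nat_lit 21, nat_lit 50], ⟨[nat_lit 0x65e6a08044ac10e31ca3a357193d36], [nat_lit 168448, nat_lit 164096, nat_lit 160768, nat_lit 156928, nat_lit 153120, nat_lit 147600, nat_lit 144496, nat_lit 140216, nat_lit 135592, nat_lit 133871, nat_lit 1918, nat_lit 4780, nat_lit 9984, nat_lit 14176, nat_lit 18368, nat_lit 20864, nat_lit 25984, nat_lit 29440, nat_lit 37888, nat_lit 41612, nat_lit 38299, nat_lit 32891, nat_lit 29737, nat_lit 24579, nat_lit 20635, nat_lit 16387, nat_lit 12325, nat_lit 8225, nat_lit 4100, nat_lit 2]⟩⟩⟩,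
  ⟨[nat_lit 107, nat_lit 77], [], (nat_lit 192), ⟨[nat_lit 86, nat_lit 91], [nat_lit 6, nat_lit 48], ⟨[nat_lit 0xb11c6808e96068098d654554d8c9f7], [nat_lit 173056, nat_lit 168960, nat_lit 165376, nat_lit 159872, nat_lit 156416, nat_lit 153280, nat_lit 148608, nat_lit 144552, nat_lit 142332, nat_lit 135296, nat_lit 131187, nat_lit 1136, nat_lit 4780, nat_lit 14224, nat_lit 17120, nat_lit 20608, nat_lit 29696, nat_lit 33280, nat_lit 41259, nat_lit 36935, nat_lit 33967, nat_lit 28991, nat_lit 25113, nat_lit 20639, nat_lit 16455, nat_lit 12309, nat_lit 4160]⟩⟩⟩]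
theorem s306 : Suf yT 2050 (ldrop wS 146) (apW dcM p305) (tgtN dcM p305.e) := Suf.seg (l := l306) (by decide +kernel) s307
def l305 : List AP := [⟨[nat_lit 411, nat_lit 678], [], (nat_lit 1228), ⟨[nat_lit 0, nat_lit 14, nat_lit 64], [nat_lit 0, nat_lit 76, nat_lit 55], ⟨[nat_lit 0x50ecf339906d42901453a46e791168], [nat_lit 175104, nat_lit 169984, nat_lit 166912, nat_lit 162944, nat_lit 155840, nat_lit 154144, nat_lit 149952, nat_lit 144656, nat_lit 143004, nat_lit 136524, nat_lit 132415, nat_lit 1438, nat_lit 5228, nat_lit 10144, nat_lit 14176, nat_lit 16640, nat_lit 20992, nat_lit 24832, nat_lit 30464, nat_lit 37888, nat_lit 41748, nat_lit 38226, nat_lit 32965, nat_lit 29046, nat_lit 24596, nat_lit 20623, nat_lit 16389, nat_lit 12320, nat_lit 16]⟩⟩⟩,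
  ⟨[nat_lit 76, nat_lit 79, nat_lit 79, nat_lit 80], [], (nat_lit 844), ⟨[nat_lit 0, nat_lit 78, nat_lit 63], [nat_lit 26, nat_lit 65], ⟨[nat_lit 0x41ed21256c8bc132902ea55a3b9a0a], [nat_lit 174080, nat_lit 165888, nat_lit 163200, nat_lit 159296, nat_lit 152704, nat_lit 148720, nat_lit 145016, nat_lit 143216, nat_lit 138418, nat_lit 131946, nat_lit 724, nat_lit 5508, nat_lit 9136, nat_lit 13984, nat_lit 17568, nat_lit 22144, nat_lit 30464, nat_lit 34304, nat_lit 37888, nat_lit 41809, nat_lit 37981, nat_lit 33354, nat_lit 28795, nat_lit 24632, nat_lit 20570, nat_lit 16450, nat_lit 12305, nat_lit 8448]⟩⟩⟩]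
theorem s305 : Suf yT 2050 (ldrop wS 140) (apW dcM p304) (tgtN dcM p304.e) := Suf.seg (l := l305) (by decide +kernel) s306
def l304 : List AP := [⟨[nat_lit 171, nat_lit 173], [], (nat_lit 413), ⟨[nat_lit 0, nat_lit 73, nat_lit 53], [nat_lit 28, nat_lit 50], ⟨[nat_lit 0x1cc11abe8d5a8e480832424a6b5dcc], [nat_lit 175104, nat_lit 171520, nat_lit 167168, nat_lit 160256, nat_lit 159616, nat_lit 155392, nat_lit 149136, nat_lit 145840, nat_lit 140984, nat_lit 136414, nat_lit 131989, nat_lit 1354, nat_lit 5768, nat_lit 8408, nat_lit 13680, nat_lit 17920, nat_lit 22208, nat_lit 25728, nat_lit 29696, nat_lit 37888, nat_lit 41358, nat_lit 36984, nat_lit 33942, nat_lit 28696, nat_lit 25111, nat_lit 20567, nat_lit 16392, nat_lit 12307, nat_lit 8195, nat_lit 4101, nat_lit 4]⟩⟩⟩,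
  ⟨[nat_lit 181, nat_lit 181, nat_lit 215, nat_lit 173], [], (nat_lit 858), ⟨[nat_lit 0, nat_lit 45, nat_lit 56], [nat_lit 0, nat_lit 30, nat_lit 91], ⟨[nat_lit 0x20c164a8d73baaf5b0508c8b443661], [nat_lit 174080, nat_lit 169984, nat_lit 166144, nat_lit 160000, nat_lit 157632, nat_lit 152800, nat_lit 149680, nat_lit 144560, nat_lit 139952, nat_lit 138114, nat_lit 134470, nat_lit 1808, nat_lit 5024, nat_lit 9560, nat_lit 13472, nat_lit 17056, nat_lit 21120, nat_lit 25216, nat_lit 28928, nat_lit 34304, nat_lit 41763, nat_lit 37155, nat_lit 33472, nat_lit 28707, nat_lit 24893, nat_lit 20490, nat_lit 16461, nat_lit 12321, nat_lit 8194, nat_lit 4100]⟩⟩⟩]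
theorem s304 : Suf yT 2050 (ldrop wS 125) (apW dcM p303) (tgtN dcM p303.e) := Suf.seg (l := l304) (by decide +kernel) s305
def l303 : List AP := [⟨[nat_lit 216], [], (nat_lit 339), ⟨[nat_lit 0, nat_lit 84, nat_lit 60], [nat_lit 23, nat_lit 63], ⟨[nat_lit 0x159eb29c919ca06ab50048dd75068c], [nat_lit 174080, nat_lit 169472, nat_lit 165376, nat_lit 161920, nat_lit 156160, nat_lit 153344, nat_lit 151008, nat_lit 147256, nat_lit 142868, nat_lit 137926, nat_lit 133164, nat_lit 1440, nat_lit 4380, nat_lit 8504, nat_lit 12912, nat_lit 17056, nat_lit 20864, nat_lit 25600, nat_lit 29440, nat_lit 34304, nat_lit 37888, nat_lit 41851, nat_lit 37267, nat_lit 33297, nat_lit 28799, nat_lit 24732, nat_lit 20493, nat_lit 16398, nat_lit 12306, nat_lit 8193, nat_lit 4097]⟩⟩⟩,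
  ⟨[nat_lit 21, nat_lit 23, nat_lit 27, nat_lit 27, nat_lit 31], [], (nat_lit 176), ⟨[nat_lit 39, nat_lit 89], [nat_lit 0, nat_lit 14, nat_lit 60], ⟨[nat_lit 0x45e84155b37a8cc024253c971b3a03], [nat_lit 175104, nat_lit 169984, nat_lit 164608, nat_lit 163712, nat_lit 158784, nat_lit 153824, nat_lit 149024, nat_lit 144784, nat_lit 139496, nat_lit 137776, nat_lit 133363, nat_lit 1770, nat_lit 5136, nat_lit 10168, nat_lit 12352, nat_lit 16896, nat_lit 22208, nat_lit 26240, nat_lit 29952, nat_lit 34304, nat_lit 37888, nat_lit 41417, nat_lit 37350, nat_lit 33455, nat_lit 29221, nat_lit 24727, nat_lit 21023, nat_lit 16416, nat_lit 12290, nat_lit 8193, nat_lit 4105]⟩⟩⟩]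
theorem s303 : Suf yT 2050 (ldrop wS 110) (apW dcM p302) (tgtN dcM p302.e) := Suf.seg (l := l303) (by decide +kernel) s304
def l302 : List AP := [⟨[nat_lit 410, nat_lit 414, nat_lit 677, nat_lit 411], [], (nat_lit 1228), ⟨[nat_lit 0, nat_lit 82, nat_lit 62], [nat_lit 72], ⟨[nat_lit 0x4bea8a34a6201531303788ceb959d0], [nat_lit 173056, nat_lit 169472, nat_lit 166912, nat_lit 162304, nat_lit 158016, nat_lit 154880, nat_lit 148464, nat_lit 145744, nat_lit 142096, nat_lit 136558, nat_lit 133175, nat_lit 428, nat_lit 5228, nat_lit 9040, nat_lit 12800, nat_lit 17184, nat_lit 21952, nat_lit 25600, nat_lit 33792, nat_lit 41545, nat_lit 38024, nat_lit 32888, nat_lit 29199, nat_lit 24577, nat_lit 20761, nat_lit 16655, nat_lit 12423, nat_lit 4112]⟩⟩⟩,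
  ⟨[nat_lit 79, nat_lit 86, nat_lit 104, nat_lit 645], [], (nat_lit 383), ⟨[nat_lit 38, nat_lit 52], [nat_lit 0, nat_lit 84, nat_lit 60], ⟨[nat_lit 0x5c22933dc5690ec18297106b694d48], [nat_lit 175104, nat_lit 169984, nat_lit 166656, nat_lit 160512, nat_lit 158272, nat_lit 154272, nat_lit 148976, nat_lit 147192, nat_lit 139980, nat_lit 136398, nat_lit 132973, nat_lit 1554, nat_lit 5544, nat_lit 9008, nat_lit 14176, nat_lit 17696, nat_lit 22400, nat_lit 25856, nat_lit 41922, nat_lit 38222, nat_lit 32823, nat_lit 28761, nat_lit 24721, nat_lit 20737, nat_lit 16429, nat_lit 8193, nat_lit 4112, nat_lit 2]⟩⟩⟩]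
theorem s302 : Suf yT 2050 (ldrop wS 95) (apW dcM p301) (tgtN dcM p301.e) := Suf.seg (l := l302) (by decide +kernel) s303
def l301 : List AP := [⟨[nat_lit 466, nat_lit 468, nat_lit 418], [], (nat_lit 1236), ⟨[nat_lit 34, nat_lit 55], [nat_lit 0, nat_lit 19, nat_lit 62], ⟨[nat_lit 0xa92417298fb94519d0075b50980cd6], [nat_lit 175104, nat_lit 171008, nat_lit 167424, nat_lit 160512, nat_lit 156608, nat_lit 153216, nat_lit 150896, nat_lit 144560, nat_lit 140532, nat_lit 137370, nat_lit 134323, nat_lit 1720, nat_lit 5544, nat_lit 8288, nat_lit 12352, nat_lit 17568, nat_lit 20928, nat_lit 25216, nat_lit 29952, nat_lit 33792, nat_lit 37888, nat_lit 41622, nat_lit 37333, nat_lit 33004, nat_lit 29039, nat_lit 24619, nat_lit 20489, nat_lit 16904, nat_lit 12310, nat_lit 8210, nat_lit 4097, nat_lit 2]⟩⟩⟩,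
  ⟨[nat_lit 171, nat_lit 177, nat_lit 178], [], (nat_lit 858), ⟨[nat_lit 23, nat_lit 46], [nat_lit 15, nat_lit 46], ⟨[nat_lit 0xb4c887098fa49262dd510b4603ae15], [nat_lit 173056, nat_lit 168960, nat_lit 164096, nat_lit 160128, nat_lit 156096, nat_lit 153120, nat_lit 149328, nat_lit 145352, nat_lit 142148, nat_lit 136744, nat_lit 132826, nat_lit 1766, nat_lit 5016, nat_lit 8256, nat_lit 12848, nat_lit 16960, nat_lit 20800, nat_lit 26368, nat_lit 29184, nat_lit 33792, nat_lit 37888, nat_lit 41111, nat_lit 37090, nat_lit 32836, nat_lit 29214, nat_lit 24604, nat_lit 20632, nat_lit 16455, nat_lit 12293, nat_lit 8194, nat_lit 4100]⟩⟩⟩]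
theorem s301 : Suf yT 2050 (ldrop wS 89) (apW dcM p300) (tgtN dcM p300.e) := Suf.seg (l := l301) (by decide +kernel) s302
def l300 : List AP := [⟨[], [], (nat_lit 1228), ⟨[nat_lit 41, nat_lit 60], [nat_lit 0, nat_lit 74, nat_lit 53], ⟨[nat_lit 0x4402bb9d2e20e2568993a4ac07d4ca], [nat_lit 175104, nat_lit 169472, nat_lit 165376, nat_lit 163328, nat_lit 156864, nat_lit 152000, nat_lit 149840, nat_lit 147400, nat_lit 142168, nat_lit 137410, nat_lit 135001, nat_lit 786, nat_lit 5904, nat_lit 8824, nat_lit 12944, nat_lit 16864, nat_lit 21376, nat_lit 26240, nat_lit 29440, nat_lit 34304, nat_lit 37888, nat_lit 40981, nat_lit 37195, nat_lit 32944, nat_lit 28734, nat_lit 25122, nat_lit 20495, nat_lit 16390, nat_lit 12293, nat_lit 4113, nat_lit 2]⟩⟩⟩,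
  ⟨[nat_lit 77, nat_lit 80, nat_lit 85, nat_lit 84], [], (nat_lit 844), ⟨[nat_lit 73, nat_lit 94], [nat_lit 18, nat_lit 64], ⟨[nat_lit 0xa05c83822322d5335657b092d79590], [nat_lit 168448, nat_lit 164096, nat_lit 156672, nat_lit 152672, nat_lit 147696, nat_lit 144376, nat_lit 140784, nat_lit 135436, nat_lit 133563, nat_lit 64, nat_lit 4476, nat_lit 8488, nat_lit 14112, nat_lit 17152, nat_lit 22016, nat_lit 24832, nat_lit 28928, nat_lit 33792, nat_lit 37888, nat_lit 41805, nat_lit 37185, nat_lit 33341, nat_lit 28763, nat_lit 24617, nat_lit 20552, nat_lit 16527, nat_lit 12289, nat_lit 8209, nat_lit 4097]⟩⟩⟩]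
theorem s300 : Suf yT 2050 (ldrop wS 74) (apW dcM p299) (tgtN dcM p299.e) := Suf.seg (l := l300) (by decide +kernel) s301
def l299 : List AP := [⟨[nat_lit 172, nat_lit 219, nat_lit 178], [], (nat_lit 858), ⟨[nat_lit 42, nat_lit 92], [nat_lit 83, nat_lit 56], ⟨[nat_lit 0x50d352d0e0686cf4324688af37408b], [nat_lit 168960, nat_lit 164096, nat_lit 160768, nat_lit 156160, nat_lit 155456, nat_lit 148832, nat_lit 143368, nat_lit 139424, nat_lit 136196, nat_lit 131759, nat_lit 404, nat_lit 5064, nat_lit 10224, nat_lit 13056, nat_lit 16416, nat_lit 20544, nat_lit 26112, nat_lit 29440, nat_lit 34304, nat_lit 41140, nat_lit 37283, nat_lit 33475, nat_lit 28737, nat_lit 24581, nat_lit 20495, nat_lit 16387, nat_lit 12323, nat_lit 8200, nat_lit 4113, nat_lit 16]⟩⟩⟩,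
  ⟨[nat_lit 466, nat_lit 421, nat_lit 468], [], (nat_lit 942), ⟨[nat_lit 0, nat_lit 7, nat_lit 48], [nat_lit 71, nat_lit 94], ⟨[nat_lit 0x651f1b1a6505e41591c382555409a7], [nat_lit 174080, nat_lit 168960, nat_lit 164096, nat_lit 161024, nat_lit 157056, nat_lit 152448, nat_lit 149264, nat_lit 143672, nat_lit 136940, nat_lit 132160, nat_lit 158, nat_lit 5488, nat_lit 9216, nat_lit 13168, nat_lit 16864, nat_lit 20736, nat_lit 25984, nat_lit 29440, nat_lit 33792, nat_lit 37888, nat_lit 41942, nat_lit 36913, nat_lit 32920, nat_lit 28933, nat_lit 25622, nat_lit 21009, nat_lit 16512, nat_lit 12309, nat_lit 4097]⟩⟩⟩]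
theorem s299 : Suf yT 2050 (ldrop wS 59) (apW dcM p298) (tgtN dcM p298.e) := Suf.seg (l := l299) (by decide +kernel) s300
def l298 : List AP := [⟨[nat_lit 69, nat_lit 51, nat_lit 71, nat_lit 50], [], (nat_lit 178), ⟨[nat_lit 44, nat_lit 70], [nat_lit 0, nat_lit 24, nat_lit 59], ⟨[nat_lit 0x2198f88a01a5d483b8ad9c860ad969], [nat_lit 168448, nat_lit 164352, nat_lit 161536, nat_lit 156224, nat_lit 152064, nat_lit 147904, nat_lit 143480, nat_lit 142360, nat_lit 135932, nat_lit 131441, nat_lit 1918, nat_lit 5084, nat_lit 9752, nat_lit 12688, nat_lit 16960, nat_lit 21248, nat_lit 25088, nat_lit 33280, nat_lit 37888, nat_lit 41356, nat_lit 37324, nat_lit 33367, nat_lit 29007, nat_lit 24586, nat_lit 20500, nat_lit 16427, nat_lit 12289, nat_lit 8195, nat_lit 4]⟩⟩⟩,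
  ⟨[nat_lit 103, nat_lit 100, nat_lit 87, nat_lit 645, nat_lit 82], [], (nat_lit 370), ⟨[nat_lit 85, nat_lit 55], [nat_lit 24, nat_lit 50], ⟨[nat_lit 0x8bc45b2c870a683900cd75d8a9d510], [nat_lit 169984, nat_lit 167424, nat_lit 163072, nat_lit 157696, nat_lit 153504, nat_lit 151024, nat_lit 146000, nat_lit 140140, nat_lit 137632, nat_lit 131859, nat_lit 1698, nat_lit 4824, nat_lit 9384, nat_lit 14080, nat_lit 16544, nat_lit 22144, nat_lit 24704, nat_lit 28928, nat_lit 37888, nat_lit 41765, nat_lit 37170, nat_lit 33455, nat_lit 28748, nat_lit 24763, nat_lit 20565, nat_lit 16387, nat_lit 12419, nat_lit 8200, nat_lit 4]⟩⟩⟩]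
theorem s298 : Suf yT 2050 (ldrop wS 44) (apW dcM p297) (tgtN dcM p297.e) := Suf.seg (l := l298) (by decide +kernel) s299
def l297 : List AP := [⟨[nat_lit 643, nat_lit 46, nat_lit 51], [], (nat_lit 178), ⟨[nat_lit 29, nat_lit 93], [nat_lit 0, nat_lit 3, nat_lit 54], ⟨[nat_lit 0x44cb155c966d241019237d60259d8e], [nat_lit 174080, nat_lit 169472, nat_lit 165376, nat_lit 160128, nat_lit 158208, nat_lit 153856, nat_lit 150944, nat_lit 144528, nat_lit 141608, nat_lit 135478, nat_lit 133353, nat_lit 960, nat_lit 5768, nat_lit 9344, nat_lit 13344, nat_lit 18336, nat_lit 20672, nat_lit 25088, nat_lit 30208, nat_lit 33792, nat_lit 41758, nat_lit 37349, nat_lit 33432, nat_lit 28757, nat_lit 24761, nat_lit 20569, nat_lit 16385, nat_lit 12355, nat_lit 8201, nat_lit 4097]⟩⟩⟩,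
  ⟨[], [], (nat_lit 195), ⟨[nat_lit 32, nat_lit 56], [nat_lit 0, nat_lit 17, nat_lit 60], ⟨[nat_lit 0x6ded04ba2a9988c59c54414351824f], [nat_lit 174080, nat_lit 171008, nat_lit 166144, nat_lit 163200, nat_lit 153792, nat_lit 150224, nat_lit 143520, nat_lit 142836, nat_lit 135352, nat_lit 131725, nat_lit 1896, nat_lit 4488, nat_lit 8408, nat_lit 16864, nat_lit 22272, nat_lit 28928, nat_lit 34304, nat_lit 41964, nat_lit 36972, nat_lit 32844, nat_lit 28774, nat_lit 24639, nat_lit 20492, nat_lit 16448, nat_lit 12307, nat_lit 8193, nat_lit 4113, nat_lit 4]⟩⟩⟩]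
theorem s297 : Suf yT 2050 (ldrop wS 38) (apW dcM p296) (tgtN dcM p296.e) := Suf.seg (l := l297) (by decide +kernel) s298
def l296 : List AP := [⟨[nat_lit 76, nat_lit 79, nat_lit 79, nat_lit 80], [], (nat_lit 844), ⟨[nat_lit 0, nat_lit 35, nat_lit 53], [nat_lit 34, nat_lit 53], ⟨[nat_lit 0x40ee611e899bed5830016964472e2a], [nat_lit 174080, nat_lit 168448, nat_lit 164864, nat_lit 162176, nat_lit 157440, nat_lit 152928, nat_lit 151440, nat_lit 147080, nat_lit 142000, nat_lit 137550, nat_lit 133462, nat_lit 1298, nat_lit 4568, nat_lit 9096, nat_lit 13872, nat_lit 16896, nat_lit 21440, nat_lit 26112, nat_lit 29952, nat_lit 41861, nat_lit 37093, nat_lit 33962, nat_lit 29280, nat_lit 25142, nat_lit 20746, nat_lit 16389, nat_lit 12289, nat_lit 8195, nat_lit 4100, nat_lit 2]⟩⟩⟩,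
  ⟨[nat_lit 418, nat_lit 467, nat_lit 675], [], (nat_lit 942), ⟨[nat_lit 0, nat_lit 38, nat_lit 62], [nat_lit 0, nat_lit 77, nat_lit 62], ⟨[nat_lit 0x1cc527316a08230b1c97316b44352f], [nat_lit 173056, nat_lit 169472, nat_lit 166144, nat_lit 160000, nat_lit 156800, nat_lit 155040, nat_lit 149712, nat_lit 147072, nat_lit 143120, nat_lit 139144, nat_lit 132618, nat_lit 1668, nat_lit 4780, nat_lit 9752, nat_lit 12848, nat_lit 17312, nat_lit 25088, nat_lit 29952, nat_lit 33280, nat_lit 41906, nat_lit 37324, nat_lit 32867, nat_lit 29221, nat_lit 24720, nat_lit 20498, nat_lit 16386, nat_lit 12355, nat_lit 8707, nat_lit 4101, nat_lit 4]⟩⟩⟩]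
theorem s296 : Suf yT 2050 (ldrop wS 23) (apW dcM p295) (tgtN dcM p295.e) := Suf.seg (l := l296) (by decide +kernel) s297
def l295 : List AP := [⟨[nat_lit 84, nat_lit 79, nat_lit 86, nat_lit 646, nat_lit 76], [], (nat_lit 844), ⟨[nat_lit 7, nat_lit 47], [nat_lit 0, nat_lit 27, nat_lit 93], ⟨[nat_lit 0xabcaa489723b116bd2616c00e24466], [nat_lit 168960, nat_lit 159872, nat_lit 157504, nat_lit 151584, nat_lit 147984, nat_lit 144144, nat_lit 143256, nat_lit 136104, nat_lit 133082, nat_lit 786, nat_lit 4888, nat_lit 8704, nat_lit 12304, nat_lit 18336, nat_lit 21376, nat_lit 24704, nat_lit 29696, nat_lit 41668, nat_lit 36934, nat_lit 32782, nat_lit 29819, nat_lit 25090, nat_lit 20634, nat_lit 12419, nat_lit 4225, nat_lit 32]⟩⟩⟩,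
  ⟨[nat_lit 678, nat_lit 465, nat_lit 677, nat_lit 411], [], (nat_lit 940), ⟨[nat_lit 78, nat_lit 54], [nat_lit 10, nat_lit 53], ⟨[nat_lit 0x8ddf3722891964b01950254ec0b456], [nat_lit 173056, nat_lit 168960, nat_lit 167424, nat_lit 161280, nat_lit 156800, nat_lit 151968, nat_lit 148864, nat_lit 143640, nat_lit 141040, nat_lit 137030, nat_lit 131846, nat_lit 952, nat_lit 4100, nat_lit 9040, nat_lit 12896, nat_lit 16960, nat_lit 21120, nat_lit 25728, nat_lit 29696, nat_lit 37888, nat_lit 41839, nat_lit 37280, nat_lit 32960, nat_lit 28707, nat_lit 24578, nat_lit 20499, nat_lit 16394, nat_lit 12308, nat_lit 8193, nat_lit 4104]⟩⟩⟩]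
theorem s295 : Suf yT 2050 (ldrop wS 8) (apW dcM p294) (tgtN dcM p294.e) := Suf.seg (l := l295) (by decide +kernel) s296
def l294 : List AP := [⟨[nat_lit 624, nat_lit 4, nat_lit 9, nat_lit 624, nat_lit 625, nat_lit 2], [], (nat_lit 26), ⟨[nat_lit 0, nat_lit 34, nat_lit 58], [nat_lit 12, nat_lit 49], ⟨[nat_lit 0x19567a1a2d9309580a69539e145817], [nat_lit 174080, nat_lit 168960, nat_lit 164608, nat_lit 161536, nat_lit 156480, nat_lit 151776, nat_lit 147696, nat_lit 143792, nat_lit 141072, nat_lit 136054, nat_lit 131654, nat_lit 116, nat_lit 4212, nat_lit 9928, nat_lit 14256, nat_lit 17216, nat_lit 22272, nat_lit 24704, nat_lit 30464, nat_lit 33792, nat_lit 37888, nat_lit 41548, nat_lit 32882, nat_lit 28696, nat_lit 24859, nat_lit 20574, nat_lit 16425, nat_lit 12310, nat_lit 8193, nat_lit 4113]⟩⟩⟩,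
  ⟨[nat_lit 630, nat_lit 38, nat_lit 43, nat_lit 43, nat_lit 43, nat_lit 15], [], (nat_lit 150), ⟨[nat_lit 0, nat_lit 18, nat_lit 65], [nat_lit 0, nat_lit 9, nat_lit 46], ⟨[nat_lit 0xbb87094d26500477c4356958bb2094], [nat_lit 173056, nat_lit 171008, nat_lit 161536, nat_lit 159360, nat_lit 152288, nat_lit 147744, nat_lit 146848, nat_lit 141392, nat_lit 137698, nat_lit 134627, nat_lit 622, nat_lit 4292, nat_lit 8728, nat_lit 12768, nat_lit 16640, nat_lit 20544, nat_lit 25600, nat_lit 30208, nat_lit 33792, nat_lit 37888, nat_lit 41697, nat_lit 38274, nat_lit 33012, nat_lit 28943, nat_lit 24609, nat_lit 20481, nat_lit 16524, nat_lit 12417, nat_lit 8210, nat_lit 4105]⟩⟩⟩]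
theorem rS14 : Suf yT 2050 wS [yT.get 48] 0 := Suf.seg (l := l294) (by decide +kernel) s295

def p308 : AP := ⟨[nat_lit 644], [], (nat_lit 193), ⟨[nat_lit 0, nat_lit 6, nat_lit 56], [nat_lit 0, nat_lit 1, nat_lit 64], ⟨[nat_lit 0x25a75344021d14c81d0b795b275d21], [nat_lit 171008, nat_lit 164608, nat_lit 160256, nat_lit 156352, nat_lit 152608, nat_lit 149040, nat_lit 144504, nat_lit 140276, nat_lit 136592, nat_lit 132441, nat_lit 1142, nat_lit 6084, nat_lit 9664, nat_lit 13792, nat_lit 18240, nat_lit 21760, nat_lit 26496, nat_lit 28928, nat_lit 37888, nat_lit 41856, nat_lit 38387, nat_lit 33918, nat_lit 28993, nat_lit 24580, nat_lit 20618, nat_lit 16421, nat_lit 12419, nat_lit 8195, nat_lit 4]⟩⟩⟩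
def p309 : AP := ⟨[nat_lit 467, nat_lit 675, nat_lit 467], [], (nat_lit 1228), ⟨[nat_lit 71, nat_lit 48], [nat_lit 0, nat_lit 25, nat_lit 48], ⟨[nat_lit 0x6183700e0891d2473e6b28a8dada2a], [nat_lit 169472, nat_lit 160128, nat_lit 156864, nat_lit 153280, nat_lit 147712, nat_lit 147368, nat_lit 139960, nat_lit 136848, nat_lit 132680, nat_lit 1818, nat_lit 6048, nat_lit 9040, nat_lit 13296, nat_lit 16864, nat_lit 22080, nat_lit 26368, nat_lit 30208, nat_lit 33280, nat_lit 37888, nat_lit 41452, nat_lit 37208, nat_lit 32914, nat_lit 29034, nat_lit 24736, nat_lit 20503, nat_lit 16399, nat_lit 12310, nat_lit 8208, nat_lit 4101]⟩⟩⟩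
def p310 : AP := ⟨[nat_lit 466, nat_lit 465, nat_lit 678, nat_lit 462], [], (nat_lit 1226), ⟨[nat_lit 72, nat_lit 91], [nat_lit 0, nat_lit 34, nat_lit 92], ⟨[nat_lit 0x58c4570235512f40d9b24ce076190f], [nat_lit 173056, nat_lit 164864, nat_lit 161152, nat_lit 156672, nat_lit 153152, nat_lit 148976, nat_lit 144560, nat_lit 139952, nat_lit 136198, nat_lit 134599, nat_lit 1896, nat_lit 4156, nat_lit 9648, nat_lit 13920, nat_lit 18112, nat_lit 21760, nat_lit 25600, nat_lit 29696, nat_lit 41394, nat_lit 37129, nat_lit 32777, nat_lit 29819, nat_lit 24711, nat_lit 21531, nat_lit 17408, nat_lit 12291, nat_lit 8259, nat_lit 4104]⟩⟩⟩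
def p311 : AP := ⟨[nat_lit 81, nat_lit 85, nat_lit 77], [], (nat_lit 182), ⟨[nat_lit 37, nat_lit 48], [nat_lit 0, nat_lit 34, nat_lit 48], ⟨[nat_lit 0x348b17302321e70b2175526970344f], [nat_lit 173056, nat_lit 168960, nat_lit 166912, nat_lit 156480, nat_lit 154304, nat_lit 150608, nat_lit 146200, nat_lit 141620, nat_lit 137276, nat_lit 132179, nat_lit 1668, nat_lit 4408, nat_lit 10088, nat_lit 13072, nat_lit 16608, nat_lit 20928, nat_lit 25472, nat_lit 30208, nat_lit 34304, nat_lit 41512, nat_lit 37108, nat_lit 32969, nat_lit 28798, nat_lit 24728, nat_lit 20568, nat_lit 16417, nat_lit 12308, nat_lit 8195, nat_lit 4]⟩⟩⟩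
def p312 : AP := ⟨[nat_lit 177, nat_lit 173, nat_lit 173], [], (nat_lit 371), ⟨[nat_lit 0, nat_lit 41, nat_lit 52], [nat_lit 0, nat_lit 43, nat_lit 61], ⟨[nat_lit 0x3a045bb0900aeb435a6d7012f90d51], [nat_lit 173056, nat_lit 168448, nat_lit 167168, nat_lit 161664, nat_lit 156352, nat_lit 154976, nat_lit 150624, nat_lit 145488, nat_lit 143148, nat_lit 137960, nat_lit 131774, nat_lit 1298, nat_lit 4924, nat_lit 9760, nat_lit 14176, nat_lit 16768, nat_lit 22464, nat_lit 25088, nat_lit 29952, nat_lit 33792, nat_lit 37888, nat_lit 41901, nat_lit 37010, nat_lit 33900, nat_lit 29017, nat_lit 24578, nat_lit 21519, nat_lit 16514, nat_lit 12304, nat_lit 9219, nat_lit 4097, nat_lit 2]⟩⟩⟩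
def p313 : AP := ⟨[nat_lit 464, nat_lit 675, nat_lit 410], [], (nat_lit 942), ⟨[nat_lit 3, nat_lit 58], [nat_lit 82, nat_lit 56], ⟨[nat_lit 0x984aa32c51636cea5df5020f022472], [nat_lit 171008, nat_lit 167168, nat_lit 162304, nat_lit 158400, nat_lit 152544, nat_lit 149984, nat_lit 147048, nat_lit 140932, nat_lit 138694, nat_lit 131613, nat_lit 1810, nat_lit 5072, nat_lit 9752, nat_lit 12304, nat_lit 16448, nat_lit 20864, nat_lit 25088, nat_lit 29952, nat_lit 37888, nat_lit 41818, nat_lit 38156, nat_lit 33841, nat_lit 28687, nat_lit 24602, nat_lit 20752, nat_lit 16394, nat_lit 12290, nat_lit 32]⟩⟩⟩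
def p314 : AP := ⟨[nat_lit 463, nat_lit 466, nat_lit 410], [], (nat_lit 943), ⟨[nat_lit 0, nat_lit 34, nat_lit 59], [nat_lit 34, nat_lit 60], ⟨[nat_lit 0xb30931d1555863269af0409cf024a7], [nat_lit 173056, nat_lit 164864, nat_lit 160128, nat_lit 155968, nat_lit 154048, nat_lit 148016, nat_lit 144432, nat_lit 139800, nat_lit 135282, nat_lit 132184, nat_lit 1214, nat_lit 5444, nat_lit 8920, nat_lit 12752, nat_lit 18048, nat_lit 20672, nat_lit 29184, nat_lit 34304, nat_lit 41964, nat_lit 37333, nat_lit 33397, nat_lit 28988, nat_lit 24613, nat_lit 20564, nat_lit 16392, nat_lit 12291, nat_lit 8259, nat_lit 4100]⟩⟩⟩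
def p315 : AP := ⟨[nat_lit 465, nat_lit 677, nat_lit 415, nat_lit 410], [], (nat_lit 940), ⟨[nat_lit 3, nat_lit 89], [nat_lit 0, nat_lit 7, nat_lit 59], ⟨[nat_lit 0x19d0bb141730672aa5f1711a26520a], [nat_lit 165632, nat_lit 161920, nat_lit 157184, nat_lit 152992, nat_lit 148528, nat_lit 143944, nat_lit 139576, nat_lit 136724, nat_lit 132030, nat_lit 1938, nat_lit 4476, nat_lit 8224, nat_lit 13008, nat_lit 17440, nat_lit 21120, nat_lit 24704, nat_lit 30464, nat_lit 33792, nat_lit 41520, nat_lit 36927, nat_lit 32896, nat_lit 28675, nat_lit 24587, nat_lit 21017, nat_lit 16907, nat_lit 12353, nat_lit 8208, nat_lit 4104]⟩⟩⟩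
def p316 : AP := ⟨[nat_lit 641, nat_lit 69, nat_lit 640, nat_lit 642], [], (nat_lit 178), ⟨[nat_lit 0, nat_lit 38, nat_lit 50], [nat_lit 4], ⟨[nat_lit 0x4ca3345285584fac2e46516169e4e], [nat_lit 171520, nat_lit 165120, nat_lit 161408, nat_lit 156160, nat_lit 152416, nat_lit 148816, nat_lit 144800, nat_lit 139532, nat_lit 136406, nat_lit 131666, nat_lit 810, nat_lit 4804, nat_lit 9648, nat_lit 17760, nat_lit 21632, nat_lit 24704, nat_lit 29696, nat_lit 33280, nat_lit 37888, nat_lit 41632, nat_lit 37122, nat_lit 32880, nat_lit 29710, nat_lit 24880, nat_lit 20614, nat_lit 16390, nat_lit 12323, nat_lit 8193, nat_lit 4105, nat_lit 4]⟩⟩⟩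
def p317 : AP := ⟨[nat_lit 212, nat_lit 660, nat_lit 214], [], (nat_lit 382), ⟨[nat_lit 83], [nat_lit 37, nat_lit 67], ⟨[nat_lit 0x24d80852280dd42496c778e46755ab], [nat_lit 168960, nat_lit 164096, nat_lit 160640, nat_lit 156480, nat_lit 154208, nat_lit 148688, nat_lit 145016, nat_lit 140344, nat_lit 136602, nat_lit 131243, nat_lit 566, nat_lit 5112, nat_lit 9456, nat_lit 13936, nat_lit 17600, nat_lit 21312, nat_lit 25088, nat_lit 29440, nat_lit 33792, nat_lit 37888, nat_lit 41368, nat_lit 37216, nat_lit 32889, nat_lit 29816, nat_lit 24608, nat_lit 20495, nat_lit 16649, nat_lit 12323, nat_lit 8193, nat_lit 4097, nat_lit 2]⟩⟩⟩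
def p318 : AP := ⟨[nat_lit 410, nat_lit 675, nat_lit 677, nat_lit 414], [], (nat_lit 940), ⟨[nat_lit 30, nat_lit 93], [nat_lit 0, nat_lit 5, nat_lit 53], ⟨[nat_lit 0x816ab69882706721d2cf3aa370250c], [nat_lit 175104, nat_lit 168448, nat_lit 164352, nat_lit 161536, nat_lit 156480, nat_lit 152352, nat_lit 147536, nat_lit 144328, nat_lit 140220, nat_lit 136562, nat_lit 133056, nat_lit 318, nat_lit 5316, nat_lit 8328, nat_lit 12784, nat_lit 18048, nat_lit 22208, nat_lit 24832, nat_lit 29696, nat_lit 37888, nat_lit 41317, nat_lit 37008, nat_lit 33917, nat_lit 29200, nat_lit 25625, nat_lit 20554, nat_lit 16417, nat_lit 12291, nat_lit 8209, nat_lit 4100, nat_lit 8]⟩⟩⟩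
def p319 : AP := ⟨[nat_lit 420, nat_lit 464, nat_lit 467], [], (nat_lit 942), ⟨[nat_lit 23, nat_lit 64], [nat_lit 0, nat_lit 44, nat_lit 50], ⟨[nat_lit 0x5c0eea898f1da324dd012828469a6a], [nat_lit 169472, nat_lit 165376, nat_lit 159872, nat_lit 156672, nat_lit 151648, nat_lit 149088, nat_lit 145208, nat_lit 141380, nat_lit 136666, nat_lit 131765, nat_lit 1814, nat_lit 5024, nat_lit 9216, nat_lit 12624, nat_lit 17408, nat_lit 21376, nat_lit 26112, nat_lit 30464, nat_lit 34304, nat_lit 41267, nat_lit 37066, nat_lit 33813, nat_lit 28708, nat_lit 25142, nat_lit 20496, nat_lit 16388, nat_lit 12295, nat_lit 4104]⟩⟩⟩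
def p320 : AP := ⟨[nat_lit 76], [], (nat_lit 196), ⟨[nat_lit 0, nat_lit 10, nat_lit 91], [nat_lit 0, nat_lit 27, nat_lit 67], ⟨[nat_lit 0x29d7730a4e1a2c09848d846aaa3d2c], [nat_lit 169472, nat_lit 164096, nat_lit 160384, nat_lit 156928, nat_lit 151904, nat_lit 147504, nat_lit 144976, nat_lit 142004, nat_lit 135714, nat_lit 131985, nat_lit 1580, nat_lit 5568, nat_lit 10088, nat_lit 14144, nat_lit 17312, nat_lit 20800, nat_lit 26112, nat_lit 29184, nat_lit 33280, nat_lit 41836, nat_lit 37888, nat_lit 33473, nat_lit 29030, nat_lit 24731, nat_lit 20760, nat_lit 16395, nat_lit 12292, nat_lit 16]⟩⟩⟩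
def l321 : List AP := [⟨[nat_lit 16, nat_lit 630], [], (nat_lit 1032), ⟨[nat_lit 0, nat_lit 21, nat_lit 61], [nat_lit 71, nat_lit 52], ⟨[nat_lit 0x7812c85c8eb5103ab6478ac53518a1], [nat_lit 175104, nat_lit 165376, nat_lit 161024, nat_lit 158912, nat_lit 154176, nat_lit 150720, nat_lit 145400, nat_lit 141580, nat_lit 135298, nat_lit 134163, nat_lit 1142, nat_lit 4224, nat_lit 10080, nat_lit 12848, nat_lit 17600, nat_lit 21568, nat_lit 24704, nat_lit 29440, nat_lit 33792, nat_lit 41641, nat_lit 37331, nat_lit 32922, nat_lit 28711, nat_lit 25092, nat_lit 20493, nat_lit 16461, nat_lit 12308, nat_lit 8201, nat_lit 4097]⟩⟩⟩]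
theorem s321 : Suf yT 2052 (ldrop wS 161) (apW dcM p320) (tgtN dcM p320.e) := Suf.fin' (l := l321) (by decide +kernel)
def l320 : List AP := [⟨[nat_lit 418, nat_lit 462, nat_lit 466, nat_lit 411], [], (nat_lit 1228), ⟨[nat_lit 26, nat_lit 48], [nat_lit 11, nat_lit 90], ⟨[nat_lit 0xbc4ec1844b0250ab34b281a8eabc93], [nat_lit 164096, nat_lit 161152, nat_lit 155712, nat_lit 152256, nat_lit 148736, nat_lit 144160, nat_lit 141148, nat_lit 137598, nat_lit 131912, nat_lit 588, nat_lit 4112, nat_lit 9168, nat_lit 14192, nat_lit 17504, nat_lit 20928, nat_lit 25856, nat_lit 29696, nat_lit 41394, nat_lit 37062, nat_lit 32946, nat_lit 29024, nat_lit 24616, nat_lit 20508, nat_lit 16390, nat_lit 12293, nat_lit 8203]⟩⟩⟩,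
  ⟨[nat_lit 77], [], (nat_lit 192), ⟨[nat_lit 0, nat_lit 6, nat_lit 49], [nat_lit 0, nat_lit 79, nat_lit 68], ⟨[nat_lit 0x495cb40e5405d53844cf0888c3b6d5], [nat_lit 168448, nat_lit 164096, nat_lit 160384, nat_lit 157632, nat_lit 152736, nat_lit 148640, nat_lit 146720, nat_lit 141244, nat_lit 135850, nat_lit 131567, nat_lit 1770, nat_lit 5208, nat_lit 9040, nat_lit 12576, nat_lit 18176, nat_lit 22144, nat_lit 24704, nat_lit 37888, nat_lit 41852, nat_lit 37288, nat_lit 32864, nat_lit 28728, nat_lit 24872, nat_lit 20490, nat_lit 16398, nat_lit 12293, nat_lit 8195, nat_lit 4097]⟩⟩⟩]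
theorem s320 : Suf yT 2052 (ldrop wS 146) (apW dcM p319) (tgtN dcM p319.e) := Suf.seg (l := l320) (by decide +kernel) s321
def l319 : List AP := [⟨[nat_lit 418, nat_lit 466, nat_lit 468, nat_lit 410], [], (nat_lit 1236), ⟨[nat_lit 0, nat_lit 23, nat_lit 52], [nat_lit 0, nat_lit 4, nat_lit 94], ⟨[nat_lit 0x699d303d36828eb4518311032896f5], [nat_lit 174080, nat_lit 171520, nat_lit 167680, nat_lit 160128, nat_lit 157760, nat_lit 155424, nat_lit 148480, nat_lit 146112, nat_lit 140012, nat_lit 137200, nat_lit 132743, nat_lit 394, nat_lit 4756, nat_lit 9024, nat_lit 13664, nat_lit 16832, nat_lit 21056, nat_lit 24832, nat_lit 30208, nat_lit 33792, nat_lit 41176, nat_lit 37018, nat_lit 32800, nat_lit 29188, nat_lit 25655, nat_lit 20546, nat_lit 16518, nat_lit 8225, nat_lit 4097]⟩⟩⟩,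
  ⟨[nat_lit 171, nat_lit 177, nat_lit 178], [], (nat_lit 858), ⟨[nat_lit 0, nat_lit 23, nat_lit 63], [nat_lit 0, nat_lit 38, nat_lit 70], ⟨[nat_lit 0x6c1c553c1538a211dd8b4cd0434a96], [nat_lit 174080, nat_lit 169984, nat_lit 166144, nat_lit 161152, nat_lit 157696, nat_lit 153984, nat_lit 149440, nat_lit 146208, nat_lit 140136, nat_lit 136258, nat_lit 132057, nat_lit 1488, nat_lit 4880, nat_lit 9352, nat_lit 13152, nat_lit 17408, nat_lit 20608, nat_lit 24832, nat_lit 28928, nat_lit 34304, nat_lit 40975, nat_lit 37337, nat_lit 32802, nat_lit 29265, nat_lit 25138, nat_lit 20547, nat_lit 16392, nat_lit 9219, nat_lit 4161]⟩⟩⟩]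
theorem s319 : Suf yT 2052 (ldrop wS 140) (apW dcM p318) (tgtN dcM p318.e) := Suf.seg (l := l319) (by decide +kernel) s320
def l318 : List AP := [⟨[nat_lit 105, nat_lit 105, nat_lit 105], [], (nat_lit 383), ⟨[nat_lit 6, nat_lit 50], [nat_lit 0, nat_lit 10, nat_lit 91], ⟨[nat_lit 0x29ec98d2080dc4a0119378cd2ab9ab], [nat_lit 168448, nat_lit 164096, nat_lit 160384, nat_lit 157504, nat_lit 153760, nat_lit 148960, nat_lit 143408, nat_lit 139324, nat_lit 135820, nat_lit 131240, nat_lit 566, nat_lit 5112, nat_lit 10128, nat_lit 13024, nat_lit 17024, nat_lit 21312, nat_lit 25088, nat_lit 29952, nat_lit 41416, nat_lit 37152, nat_lit 32889, nat_lit 29736, nat_lit 24608, nat_lit 20494, nat_lit 16649, nat_lit 12323, nat_lit 4097, nat_lit 2]⟩⟩⟩,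
  ⟨[nat_lit 174, nat_lit 177, nat_lit 180], [], (nat_lit 858), ⟨[nat_lit 21, nat_lit 90], [nat_lit 0, nat_lit 42, nat_lit 60], ⟨[nat_lit 0x6196f89e4a226b610d059ddc103690], [nat_lit 174080, nat_lit 169472, nat_lit 164096, nat_lit 162560, nat_lit 157440, nat_lit 152384, nat_lit 151200, nat_lit 145456, nat_lit 141452, nat_lit 138046, nat_lit 134973, nat_lit 1246, nat_lit 5392, nat_lit 8680, nat_lit 14144, nat_lit 17728, nat_lit 20544, nat_lit 25216, nat_lit 30208, nat_lit 33280, nat_lit 37888, nat_lit 41914, nat_lit 38267, nat_lit 34043, nat_lit 29276, nat_lit 24869, nat_lit 20489, nat_lit 16387, nat_lit 12327, nat_lit 8200, nat_lit 4101]⟩⟩⟩]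
theorem s318 : Suf yT 2052 (ldrop wS 125) (apW dcM p317) (tgtN dcM p317.e) := Suf.seg (l := l318) (by decide +kernel) s319
def l317 : List AP := [⟨[nat_lit 106, nat_lit 81, nat_lit 102], [], (nat_lit 179), ⟨[nat_lit 74, nat_lit 52], [nat_lit 39, nat_lit 70], ⟨[nat_lit 0x1126f08d75b310e945543c1a029ae9], [nat_lit 173056, nat_lit 165120, nat_lit 161280, nat_lit 156928, nat_lit 152320, nat_lit 148544, nat_lit 145856, nat_lit 139988, nat_lit 137184, nat_lit 132182, nat_lit 434, nat_lit 5580, nat_lit 8312, nat_lit 12416, nat_lit 17216, nat_lit 22336, nat_lit 25216, nat_lit 29696, nat_lit 33792, nat_lit 37888, nat_lit 41544, nat_lit 38254, nat_lit 32872, nat_lit 28763, nat_lit 24706, nat_lit 16454, nat_lit 8211, nat_lit 4097, nat_lit 2]⟩⟩⟩,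
  ⟨[nat_lit 642, nat_lit 52, nat_lit 640, nat_lit 49], [], (nat_lit 1046), ⟨[nat_lit 0, nat_lit 32, nat_lit 49], [nat_lit 18, nat_lit 51], ⟨[nat_lit 0x42d8998c977a9ae2c015148f6a44c1], [nat_lit 173056, nat_lit 165120, nat_lit 161280, nat_lit 155712, nat_lit 152640, nat_lit 147664, nat_lit 145760, nat_lit 140360, nat_lit 135406, nat_lit 132921, nat_lit 698, nat_lit 5120, nat_lit 9152, nat_lit 12320, nat_lit 16480, nat_lit 20992, nat_lit 25728, nat_lit 29952, nat_lit 34304, nat_lit 37888, nat_lit 41512, nat_lit 37336, nat_lit 33513, nat_lit 29205, nat_lit 24714, nat_lit 20494, nat_lit 16650, nat_lit 8226, nat_lit 4113, nat_lit 16]⟩⟩⟩]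
theorem s317 : Suf yT 2052 (ldrop wS 110) (apW dcM p316) (tgtN dcM p316.e) := Suf.seg (l := l317) (by decide +kernel) s318
def l316 : List AP := [⟨[nat_lit 413, nat_lit 675, nat_lit 411], [], (nat_lit 1228), ⟨[nat_lit 21, nat_lit 93], [nat_lit 0, nat_lit 86, nat_lit 67], ⟨[nat_lit 0x8dc965d5a32cd0a09e00919ee62454], [nat_lit 175104, nat_lit 171520, nat_lit 164096, nat_lit 162560, nat_lit 159360, nat_lit 154048, nat_lit 148560, nat_lit 143440, nat_lit 139860, nat_lit 138058, nat_lit 134666, nat_lit 1730, nat_lit 5568, nat_lit 8224, nat_lit 13552, nat_lit 18336, nat_lit 21824, nat_lit 34304, nat_lit 41825, nat_lit 38303, nat_lit 33795, nat_lit 29287, nat_lit 24859, nat_lit 20490, nat_lit 16389, nat_lit 12295, nat_lit 8195, nat_lit 4100]⟩⟩⟩,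
  ⟨[nat_lit 79, nat_lit 107, nat_lit 101, nat_lit 78], [], (nat_lit 182), ⟨[nat_lit 25, nat_lit 92], [nat_lit 0, nat_lit 77, nat_lit 57], ⟨[nat_lit 0x352aeb0d31811f3680e253165406f2], [nat_lit 173056, nat_lit 168960, nat_lit 164864, nat_lit 161152, nat_lit 157248, nat_lit 153088, nat_lit 149056, nat_lit 146056, nat_lit 140460, nat_lit 136240, nat_lit 1140, nat_lit 10160, nat_lit 12544, nat_lit 16960, nat_lit 21952, nat_lit 26496, nat_lit 28928, nat_lit 41862, nat_lit 37246, nat_lit 32828, nat_lit 28690, nat_lit 25142, nat_lit 20752, nat_lit 16522, nat_lit 8226, nat_lit 4101, nat_lit 2]⟩⟩⟩]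
theorem s316 : Suf yT 2052 (ldrop wS 95) (apW dcM p315) (tgtN dcM p315.e) := Suf.seg (l := l316) (by decide +kernel) s317
def l315 : List AP := [⟨[nat_lit 463, nat_lit 466, nat_lit 468], [], (nat_lit 1228), ⟨[nat_lit 0, nat_lit 6, nat_lit 47], [nat_lit 0, nat_lit 33, nat_lit 56], ⟨[nat_lit 0xa56d32306a6ac26bc6507a4e2015c8], [nat_lit 173056, nat_lit 169472, nat_lit 167168, nat_lit 160256, nat_lit 155904, nat_lit 154208, nat_lit 151008, nat_lit 145848, nat_lit 142960, nat_lit 137972, nat_lit 132849, nat_lit 256, nat_lit 5768, nat_lit 10032, nat_lit 12688, nat_lit 18336, nat_lit 20800, nat_lit 25600, nat_lit 28928, nat_lit 33792, nat_lit 41000, nat_lit 37118, nat_lit 32966, nat_lit 28769, nat_lit 24748, nat_lit 20624, nat_lit 16386, nat_lit 12354, nat_lit 8194, nat_lit 8]⟩⟩⟩,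
  ⟨[nat_lit 76, nat_lit 79, nat_lit 79, nat_lit 80], [], (nat_lit 844), ⟨[nat_lit 77, nat_lit 47], [nat_lit 0, nat_lit 75, nat_lit 59], ⟨[nat_lit 0xa3ece32ce88c0026d6ec94c612912a], [nat_lit 173056, nat_lit 171520, nat_lit 167424, nat_lit 163072, nat_lit 158720, nat_lit 151712, nat_lit 151392, nat_lit 146704, nat_lit 140436, nat_lit 138218, nat_lit 132546, nat_lit 1224, nat_lit 5588, nat_lit 9752, nat_lit 13120, nat_lit 16512, nat_lit 21056, nat_lit 25088, nat_lit 28928, nat_lit 34304, nat_lit 41797, nat_lit 37141, nat_lit 32892, nat_lit 28766, nat_lit 24712, nat_lit 20506, nat_lit 16392, nat_lit 12310, nat_lit 8194, nat_lit 4100]⟩⟩⟩]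
theorem s315 : Suf yT 2052 (ldrop wS 89) (apW dcM p314) (tgtN dcM p314.e) := Suf.seg (l := l315) (by decide +kernel) s316
def l314 : List AP := [⟨[], [], (nat_lit 1228), ⟨[nat_lit 0, nat_lit 9, nat_lit 69], [nat_lit 0, nat_lit 5, nat_lit 92], ⟨[nat_lit 0x4d07014aca7b4ee21985bc40b0cea8], [nat_lit 173056, nat_lit 169472, nat_lit 164352, nat_lit 161664, nat_lit 157504, nat_lit 153152, nat_lit 149232, nat_lit 143768, nat_lit 135440, nat_lit 131497, nat_lit 2018, nat_lit 4352, nat_lit 9640, nat_lit 13264, nat_lit 16864, nat_lit 22144, nat_lit 24832, nat_lit 28928, nat_lit 37888, nat_lit 41472, nat_lit 37003, nat_lit 32896, nat_lit 29027, nat_lit 24754, nat_lit 20611, nat_lit 16459, nat_lit 12304, nat_lit 8193, nat_lit 4105, nat_lit 2]⟩⟩⟩,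
  ⟨[nat_lit 648, nat_lit 106, nat_lit 79, nat_lit 83], [], (nat_lit 844), ⟨[nat_lit 0, nat_lit 13, nat_lit 91], [nat_lit 0, nat_lit 19, nat_lit 69], ⟨[nat_lit 0x954c9010ae1b10ab345781e8b8bc33], [nat_lit 168960, nat_lit 164864, nat_lit 161024, nat_lit 156608, nat_lit 151904, nat_lit 151168, nat_lit 144952, nat_lit 139340, nat_lit 135546, nat_lit 132561, nat_lit 606, nat_lit 4112, nat_lit 8888, nat_lit 12736, nat_lit 16896, nat_lit 21632, nat_lit 26240, nat_lit 30208, nat_lit 33280, nat_lit 37888, nat_lit 41553, nat_lit 38081, nat_lit 33003, nat_lit 28720, nat_lit 24604, nat_lit 20510, nat_lit 16394, nat_lit 12306, nat_lit 8226]⟩⟩⟩]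
theorem s314 : Suf yT 2052 (ldrop wS 74) (apW dcM p313) (tgtN dcM p313.e) := Suf.seg (l := l314) (by decide +kernel) s315
def l313 : List AP := [⟨[nat_lit 101, nat_lit 85, nat_lit 82, nat_lit 78], [], (nat_lit 844), ⟨[nat_lit 11, nat_lit 48], [nat_lit 92], ⟨[nat_lit 0x190ac0d9f77010a9c44d5d647a24d0], [nat_lit 171520, nat_lit 164352, nat_lit 162304, nat_lit 157632, nat_lit 155328, nat_lit 150736, nat_lit 146896, nat_lit 141012, nat_lit 136394, nat_lit 134271, nat_lit 760, nat_lit 4548, nat_lit 8840, nat_lit 12496, nat_lit 20544, nat_lit 25600, nat_lit 29440, nat_lit 41750, nat_lit 38319, nat_lit 32780, nat_lit 29304, nat_lit 24580, nat_lit 20491, nat_lit 16907, nat_lit 12322, nat_lit 8259, nat_lit 4100]⟩⟩⟩,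
  ⟨[nat_lit 678, nat_lit 416, nat_lit 417], [], (nat_lit 942), ⟨[nat_lit 5, nat_lit 90], [nat_lit 85, nat_lit 62], ⟨[nat_lit 0x3ddc1a3c4454e513586d4a20b2b2a0], [nat_lit 174080, nat_lit 169984, nat_lit 166656, nat_lit 160128, nat_lit 157760, nat_lit 154944, nat_lit 147856, nat_lit 145720, nat_lit 139508, nat_lit 137166, nat_lit 131466, nat_lit 1896, nat_lit 5856, nat_lit 8368, nat_lit 14304, nat_lit 16960, nat_lit 22080, nat_lit 25216, nat_lit 33280, nat_lit 37888, nat_lit 41864, nat_lit 38324, nat_lit 33845, nat_lit 29045, nat_lit 24600, nat_lit 20490, nat_lit 16386, nat_lit 8194, nat_lit 4097]⟩⟩⟩]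
theorem s313 : Suf yT 2052 (ldrop wS 59) (apW dcM p312) (tgtN dcM p312.e) := Suf.seg (l := l313) (by decide +kernel) s314
def l312 : List AP := [⟨[nat_lit 51, nat_lit 56, nat_lit 73, nat_lit 53], [], (nat_lit 1046), ⟨[nat_lit 0, nat_lit 81, nat_lit 60], [nat_lit 74, nat_lit 66], ⟨[nat_lit 0x18a90bd4cac9c43b6f05d05688e68], [nat_lit 174080, nat_lit 171008, nat_lit 166400, nat_lit 160000, nat_lit 158784, nat_lit 154496, nat_lit 148912, nat_lit 146720, nat_lit 140932, nat_lit 136148, nat_lit 132442, nat_lit 846, nat_lit 4340, nat_lit 8200, nat_lit 13664, nat_lit 17440, nat_lit 21888, nat_lit 24960, nat_lit 33280, nat_lit 37888, nat_lit 41384, nat_lit 36989, nat_lit 32968, nat_lit 28972, nat_lit 24710, nat_lit 20568, nat_lit 16417, nat_lit 8320, nat_lit 4112, nat_lit 2]⟩⟩⟩,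
  ⟨[nat_lit 217, nat_lit 174, nat_lit 175], [], (nat_lit 412), ⟨[nat_lit 19, nat_lit 56], [nat_lit 0, nat_lit 87, nat_lit 94], ⟨[nat_lit 0x159f4311a38440ea9d33bc8a85854c], [nat_lit 168448, nat_lit 164608, nat_lit 160000, nat_lit 150240, nat_lit 144744, nat_lit 139476, nat_lit 135426, nat_lit 131099, nat_lit 1580, nat_lit 4396, nat_lit 8504, nat_lit 13264, nat_lit 16640, nat_lit 20736, nat_lit 25472, nat_lit 28928, nat_lit 34304, nat_lit 41744, nat_lit 37201, nat_lit 32999, nat_lit 28688, nat_lit 24584, nat_lit 20496, nat_lit 12294, nat_lit 8194, nat_lit 4097, nat_lit 2]⟩⟩⟩]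
theorem s312 : Suf yT 2052 (ldrop wS 44) (apW dcM p311) (tgtN dcM p311.e) := Suf.seg (l := l312) (by decide +kernel) s313
def l311 : List AP := [⟨[nat_lit 70, nat_lit 642, nat_lit 67, nat_lit 54], [], (nat_lit 178), ⟨[nat_lit 75, nat_lit 66], [nat_lit 0, nat_lit 43, nat_lit 55], ⟨[nat_lit 0xb518d7deae84461524c70485322ca8], [nat_lit 175104, nat_lit 168448, nat_lit 164608, nat_lit 161664, nat_lit 159680, nat_lit 153920, nat_lit 150832, nat_lit 144768, nat_lit 141324, nat_lit 135604, nat_lit 134651, nat_lit 1396, nat_lit 4952, nat_lit 10032, nat_lit 13440, nat_lit 17504, nat_lit 21824, nat_lit 25472, nat_lit 28928, nat_lit 33792, nat_lit 37888, nat_lit 41217, nat_lit 36894, nat_lit 33875, nat_lit 28757, nat_lit 24720, nat_lit 20504, nat_lit 16426, nat_lit 12321, nat_lit 8258, nat_lit 4100]⟩⟩⟩,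
  ⟨[], [], (nat_lit 195), ⟨[nat_lit 38, nat_lit 63], [nat_lit 0, nat_lit 83, nat_lit 64], ⟨[nat_lit 0x51a53438af0c28c488e0592b788ecd], [nat_lit 174080, nat_lit 170496, nat_lit 167680, nat_lit 161920, nat_lit 156736, nat_lit 154080, nat_lit 151312, nat_lit 143672, nat_lit 142808, nat_lit 135534, nat_lit 131547, nat_lit 1624, nat_lit 4340, nat_lit 10168, nat_lit 12800, nat_lit 18304, nat_lit 22208, nat_lit 29696, nat_lit 33792, nat_lit 37888, nat_lit 41372, nat_lit 37004, nat_lit 32981, nat_lit 28731, nat_lit 24881, nat_lit 20495, nat_lit 16393, nat_lit 12292, nat_lit 4128]⟩⟩⟩]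
theorem s311 : Suf yT 2052 (ldrop wS 38) (apW dcM p310) (tgtN dcM p310.e) := Suf.seg (l := l311) (by decide +kernel) s312
def l310 : List AP := [⟨[nat_lit 76, nat_lit 79, nat_lit 79, nat_lit 80], [], (nat_lit 844), ⟨[nat_lit 3, nat_lit 93], [nat_lit 10, nat_lit 50], ⟨[nat_lit 0x5880d29d8ab8e664c9d0206917daa8], [nat_lit 174080, nat_lit 169472, nat_lit 163712, nat_lit 156480, nat_lit 152672, nat_lit 150672, nat_lit 145416, nat_lit 141528, nat_lit 138988, nat_lit 133281, nat_lit 1438, nat_lit 5208, nat_lit 8824, nat_lit 13920, nat_lit 17120, nat_lit 22080, nat_lit 25600, nat_lit 28928, nat_lit 33792, nat_lit 37888, nat_lit 41179, nat_lit 37279, nat_lit 32833, nat_lit 29310, nat_lit 24757, nat_lit 20619, nat_lit 16453, nat_lit 12289, nat_lit 8194, nat_lit 4100]⟩⟩⟩,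
  ⟨[nat_lit 468, nat_lit 677, nat_lit 413, nat_lit 465], [], (nat_lit 940), ⟨[nat_lit 16, nat_lit 62], [nat_lit 87, nat_lit 56], ⟨[nat_lit 0x2a58b0551069a532082ebd0ef8d943], [nat_lit 175104, nat_lit 171520, nat_lit 164352, nat_lit 163584, nat_lit 158400, nat_lit 154560, nat_lit 149216, nat_lit 144016, nat_lit 140028, nat_lit 139226, nat_lit 135110, nat_lit 1770, nat_lit 5544, nat_lit 9096, nat_lit 12800, nat_lit 17152, nat_lit 22336, nat_lit 25088, nat_lit 29952, nat_lit 41833, nat_lit 37129, nat_lit 33404, nat_lit 28724, nat_lit 24585, nat_lit 20507, nat_lit 16426, nat_lit 12289, nat_lit 8322, nat_lit 4100]⟩⟩⟩]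
theorem s310 : Suf yT 2052 (ldrop wS 23) (apW dcM p309) (tgtN dcM p309.e) := Suf.seg (l := l310) (by decide +kernel) s311
def l309 : List AP := [⟨[nat_lit 645, nat_lit 85, nat_lit 85, nat_lit 77, nat_lit 78], [], (nat_lit 844), ⟨[nat_lit 76, nat_lit 68], [nat_lit 0, nat_lit 18, nat_lit 61], ⟨[nat_lit 0x23c76a9dc092d48698548a613bb025], [nat_lit 175104, nat_lit 165376, nat_lit 161792, nat_lit 157632, nat_lit 152384, nat_lit 150192, nat_lit 147312, nat_lit 142096, nat_lit 138228, nat_lit 134957, nat_lit 1054, nat_lit 4224, nat_lit 8504, nat_lit 12384, nat_lit 18112, nat_lit 20736, nat_lit 25728, nat_lit 29952, nat_lit 34304, nat_lit 37888, nat_lit 41439, nat_lit 37101, nat_lit 33918, nat_lit 29024, nat_lit 24743, nat_lit 20510, nat_lit 12290, nat_lit 8195, nat_lit 4097]⟩⟩⟩,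
  ⟨[nat_lit 413, nat_lit 411, nat_lit 411], [], (nat_lit 942), ⟨[nat_lit 0, nat_lit 5, nat_lit 70], [nat_lit 81, nat_lit 56], ⟨[nat_lit 0x4d08e6dccb0c25141eac2bd5698c02], [nat_lit 175104, nat_lit 169472, nat_lit 164352, nat_lit 160768, nat_lit 158720, nat_lit 153696, nat_lit 150032, nat_lit 143808, nat_lit 143020, nat_lit 137024, nat_lit 134958, nat_lit 1136, nat_lit 4684, nat_lit 8200, nat_lit 13424, nat_lit 16736, nat_lit 22016, nat_lit 26240, nat_lit 29952, nat_lit 34304, nat_lit 37888, nat_lit 41701, nat_lit 37149, nat_lit 32783, nat_lit 29791, nat_lit 24627, nat_lit 20546, nat_lit 16421, nat_lit 12294, nat_lit 8193, nat_lit 4104]⟩⟩⟩]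
theorem s309 : Suf yT 2052 (ldrop wS 8) (apW dcM p308) (tgtN dcM p308.e) := Suf.seg (l := l309) (by decide +kernel) s310
def l308 : List AP := [⟨[nat_lit 11, nat_lit 0, nat_lit 0, nat_lit 4, nat_lit 627, nat_lit 3], [], (nat_lit 26), ⟨[nat_lit 0, nat_lit 31, nat_lit 58], [], ⟨[nat_lit 0x3b6d3b82aa309059260123a341b16f], [nat_lit 173056, nat_lit 164096, nat_lit 161408, nat_lit 156608, nat_lit 152544, nat_lit 148016, nat_lit 144792, nat_lit 139296, nat_lit 136456, nat_lit 134000, nat_lit 1896, nat_lit 5296, nat_lit 8928, nat_lit 12320, nat_lit 17216, nat_lit 22336, nat_lit 25728, nat_lit 28928, nat_lit 33280, nat_lit 41181, nat_lit 37138, nat_lit 32891, nat_lit 28745, nat_lit 24610, nat_lit 20510, nat_lit 16423, nat_lit 12304, nat_lit 8195, nat_lit 4097]⟩⟩⟩,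
  ⟨[nat_lit 629, nat_lit 40, nat_lit 37, nat_lit 16, nat_lit 43, nat_lit 42], [], (nat_lit 150), ⟨[nat_lit 0, nat_lit 84, nat_lit 47], [nat_lit 0, nat_lit 33, nat_lit 89], ⟨[nat_lit 0x22eec0d2159344f898a040d33728f6], [nat_lit 169472, nat_lit 165632, nat_lit 160384, nat_lit 157312, nat_lit 153600, nat_lit 148592, nat_lit 144632, nat_lit 140724, nat_lit 135434, nat_lit 132789, nat_lit 664, nat_lit 5668, nat_lit 9096, nat_lit 13328, nat_lit 18112, nat_lit 21248, nat_lit 26496, nat_lit 28928, nat_lit 41592, nat_lit 38296, nat_lit 33353, nat_lit 29035, nat_lit 24757, nat_lit 20490, nat_lit 16387, nat_lit 12292, nat_lit 8195, nat_lit 4097]⟩⟩⟩]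
theorem rS15 : Suf yT 2052 wS [yT.get 49] 0 := Suf.seg (l := l308) (by decide +kernel) s309

def p322 : AP := ⟨[], [], (nat_lit 393), ⟨[nat_lit 0, nat_lit 40, nat_lit 47], [nat_lit 18, nat_lit 93], ⟨[nat_lit 0xb942478d9674146450099b4eb94455], [nat_lit 169472, nat_lit 160000, nat_lit 157056, nat_lit 152032, nat_lit 148496, nat_lit 146624, nat_lit 140776, nat_lit 135444, nat_lit 132047, nat_lit 1770, nat_lit 5084, nat_lit 8704, nat_lit 16896, nat_lit 20544, nat_lit 25344, nat_lit 41427, nat_lit 37034, nat_lit 33985, nat_lit 29207, nat_lit 25620, nat_lit 20613, nat_lit 16422, nat_lit 8210, nat_lit 4112]⟩⟩⟩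
def p323 : AP := ⟨[nat_lit 57, nat_lit 52, nat_lit 56, nat_lit 71], [], (nat_lit 1046), ⟨[nat_lit 0, nat_lit 68], [nat_lit 0, nat_lit 74, nat_lit 94], ⟨[nat_lit 0x75aa10464da28f033c451a16c9dd24], [nat_lit 169984, nat_lit 164608, nat_lit 160512, nat_lit 157632, nat_lit 152416, nat_lit 148304, nat_lit 144184, nat_lit 140304, nat_lit 135762, nat_lit 132216, nat_lit 1124, nat_lit 6084, nat_lit 8696, nat_lit 14048, nat_lit 16896, nat_lit 20864, nat_lit 24704, nat_lit 30208, nat_lit 34304, nat_lit 41216, nat_lit 33920, nat_lit 28774, nat_lit 24617, nat_lit 20567, nat_lit 16394, nat_lit 12309, nat_lit 8202, nat_lit 4]⟩⟩⟩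
def p324 : AP := ⟨[nat_lit 174, nat_lit 176], [], (nat_lit 418), ⟨[nat_lit 24, nat_lit 57], [nat_lit 0, nat_lit 30, nat_lit 70], ⟨[nat_lit 0x51c705b1147d6724c4c1215b675c40], [nat_lit 168448, nat_lit 167424, nat_lit 161152, nat_lit 156224, nat_lit 153632, nat_lit 149584, nat_lit 147120, nat_lit 143244, nat_lit 137306, nat_lit 132917, nat_lit 318, nat_lit 4408, nat_lit 9328, nat_lit 13568, nat_lit 18336, nat_lit 20544, nat_lit 25728, nat_lit 29440, nat_lit 34304, nat_lit 37888, nat_lit 41174, nat_lit 36950, nat_lit 32972, nat_lit 28797, nat_lit 24715, nat_lit 20544, nat_lit 16393, nat_lit 12307, nat_lit 8193]⟩⟩⟩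
def p325 : AP := ⟨[nat_lit 177, nat_lit 216], [], (nat_lit 396), ⟨[nat_lit 39], [nat_lit 76, nat_lit 68], ⟨[nat_lit 0xaa5e4b30cb889cd5226081427b8e92], [nat_lit 169472, nat_lit 167680, nat_lit 161664, nat_lit 157056, nat_lit 155616, nat_lit 150912, nat_lit 146896, nat_lit 142188, nat_lit 138332, nat_lit 132855, nat_lit 1140, nat_lit 4380, nat_lit 8696, nat_lit 25472, nat_lit 30208, nat_lit 33280, nat_lit 41634, nat_lit 38016, nat_lit 32943, nat_lit 29035, nat_lit 24728, nat_lit 20498, nat_lit 16431, nat_lit 12310, nat_lit 8211, nat_lit 8]⟩⟩⟩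
def p326 : AP := ⟨[nat_lit 641, nat_lit 46, nat_lit 54], [], (nat_lit 121), ⟨[nat_lit 0, nat_lit 71, nat_lit 92], [nat_lit 31, nat_lit 55], ⟨[nat_lit 0xac22b2aae723c126d10e0d92260e66], [nat_lit 174080, nat_lit 170496, nat_lit 167424, nat_lit 159872, nat_lit 156992, nat_lit 153408, nat_lit 150416, nat_lit 144008, nat_lit 140304, nat_lit 137242, nat_lit 134655, nat_lit 786, nat_lit 4192, nat_lit 8528, nat_lit 13312, nat_lit 17728, nat_lit 22208, nat_lit 24704, nat_lit 29440, nat_lit 33280, nat_lit 37888, nat_lit 41802, nat_lit 37980, nat_lit 33331, nat_lit 28791, nat_lit 24747, nat_lit 20507, nat_lit 16389, nat_lit 12295, nat_lit 8202, nat_lit 4105]⟩⟩⟩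
def p327 : AP := ⟨[nat_lit 66, nat_lit 72, nat_lit 66, nat_lit 53], [], (nat_lit 1046), ⟨[nat_lit 0, nat_lit 88, nat_lit 91], [nat_lit 33, nat_lit 67], ⟨[nat_lit 0x6c0d365ec4902a88a68208caf3a96e], [nat_lit 174080, nat_lit 168448, nat_lit 165120, nat_lit 160000, nat_lit 158912, nat_lit 154816, nat_lit 149808, nat_lit 143920, nat_lit 143152, nat_lit 137214, nat_lit 133192, nat_lit 960, nat_lit 5228, nat_lit 9096, nat_lit 14080, nat_lit 17216, nat_lit 22144, nat_lit 25472, nat_lit 29952, nat_lit 34304, nat_lit 37888, nat_lit 41589, nat_lit 38321, nat_lit 33333, nat_lit 28797, nat_lit 24720, nat_lit 20563, nat_lit 16389, nat_lit 12294, nat_lit 8200, nat_lit 4097]⟩⟩⟩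
def p328 : AP := ⟨[nat_lit 219, nat_lit 661, nat_lit 171], [], (nat_lit 396), ⟨[nat_lit 0, nat_lit 22, nat_lit 65], [nat_lit 0, nat_lit 7, nat_lit 58], ⟨[nat_lit 0xb41ed60925585c490c17344f54526a], [nat_lit 173056, nat_lit 169472, nat_lit 165632, nat_lit 161664, nat_lit 156096, nat_lit 153536, nat_lit 148368, nat_lit 145096, nat_lit 142092, nat_lit 136196, nat_lit 132353, nat_lit 1814, nat_lit 5024, nat_lit 8224, nat_lit 13392, nat_lit 16864, nat_lit 20736, nat_lit 30464, nat_lit 37888, nat_lit 41764, nat_lit 37218, nat_lit 33413, nat_lit 29050, nat_lit 24835, nat_lit 20495, nat_lit 16385, nat_lit 12323, nat_lit 4128]⟩⟩⟩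
def p329 : AP := ⟨[nat_lit 639, nat_lit 71, nat_lit 53, nat_lit 47], [], (nat_lit 120), ⟨[nat_lit 0, nat_lit 25, nat_lit 64], [nat_lit 0, nat_lit 33, nat_lit 50], ⟨[nat_lit 0x4c2478bc57a2cd52b14e010680b676], [nat_lit 175104, nat_lit 169984, nat_lit 167168, nat_lit 160768, nat_lit 159680, nat_lit 153632, nat_lit 147504, nat_lit 145448, nat_lit 140452, nat_lit 136484, nat_lit 131259, nat_lit 1488, nat_lit 4340, nat_lit 9040, nat_lit 13504, nat_lit 17504, nat_lit 21120, nat_lit 25088, nat_lit 30464, nat_lit 33792, nat_lit 37888, nat_lit 41688, nat_lit 37276, nat_lit 32844, nat_lit 28768, nat_lit 24733, nat_lit 20499, nat_lit 16427, nat_lit 12294, nat_lit 8193, nat_lit 4097]⟩⟩⟩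
def p330 : AP := ⟨[nat_lit 179, nat_lit 216], [], (nat_lit 396), ⟨[nat_lit 68], [nat_lit 0, nat_lit 17, nat_lit 56], ⟨[nat_lit 0x7014fac0ad1a6323d193b851632c44], [nat_lit 169472, nat_lit 160128, nat_lit 159552, nat_lit 151872, nat_lit 148176, nat_lit 144096, nat_lit 140500, nat_lit 135426, nat_lit 132946, nat_lit 680, nat_lit 5084, nat_lit 8256, nat_lit 13152, nat_lit 16448, nat_lit 21632, nat_lit 25344, nat_lit 28928, nat_lit 33280, nat_lit 41342, nat_lit 37056, nat_lit 32859, nat_lit 29184, nat_lit 24581, nat_lit 21526, nat_lit 16385, nat_lit 12320, nat_lit 8194, nat_lit 4100, nat_lit 16]⟩⟩⟩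
def p331 : AP := ⟨[nat_lit 72, nat_lit 53, nat_lit 72], [], (nat_lit 121), ⟨[nat_lit 30, nat_lit 65], [nat_lit 0, nat_lit 87, nat_lit 54], ⟨[nat_lit 0x3c069544266b9f44480499562b32f5], [nat_lit 171520, nat_lit 164096, nat_lit 160384, nat_lit 157184, nat_lit 152224, nat_lit 148960, nat_lit 144616, nat_lit 140832, nat_lit 136262, nat_lit 131932, nat_lit 1250, nat_lit 4756, nat_lit 10080, nat_lit 12704, nat_lit 16416, nat_lit 21824, nat_lit 24832, nat_lit 29952, nat_lit 33792, nat_lit 37888, nat_lit 41856, nat_lit 37334, nat_lit 33446, nat_lit 28686, nat_lit 24880, nat_lit 20498, nat_lit 16422, nat_lit 12295, nat_lit 8201, nat_lit 4097]⟩⟩⟩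
def p332 : AP := ⟨[nat_lit 69, nat_lit 67, nat_lit 73, nat_lit 73], [], (nat_lit 1046), ⟨[nat_lit 25, nat_lit 90], [nat_lit 0, nat_lit 86, nat_lit 53], ⟨[nat_lit 0xd964015557c1cd49e839c59235d02], [nat_lit 169472, nat_lit 165632, nat_lit 163200, nat_lit 157440, nat_lit 152320, nat_lit 148112, nat_lit 144016, nat_lit 140540, nat_lit 135278, nat_lit 131799, nat_lit 1136, nat_lit 5008, nat_lit 8320, nat_lit 13856, nat_lit 22016, nat_lit 26496, nat_lit 29696, nat_lit 41600, nat_lit 38259, nat_lit 33371, nat_lit 28686, nat_lit 25136, nat_lit 20760, nat_lit 16416, nat_lit 12422, nat_lit 8193, nat_lit 4161, nat_lit 4]⟩⟩⟩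
def p333 : AP := ⟨[nat_lit 215, nat_lit 219, nat_lit 173], [], (nat_lit 396), ⟨[nat_lit 17, nat_lit 94], [nat_lit 78, nat_lit 63], ⟨[nat_lit 0x42664a1a56815ae78155386221dd8b], [nat_lit 174080, nat_lit 165376, nat_lit 160000, nat_lit 156544, nat_lit 153056, nat_lit 149360, nat_lit 143472, nat_lit 140020, nat_lit 135872, nat_lit 132125, nat_lit 1966, nat_lit 5436, nat_lit 8928, nat_lit 13312, nat_lit 17120, nat_lit 22208, nat_lit 26240, nat_lit 29952, nat_lit 33280, nat_lit 41854, nat_lit 38270, nat_lit 33939, nat_lit 29037, nat_lit 24619, nat_lit 20496, nat_lit 16420, nat_lit 8195, nat_lit 4]⟩⟩⟩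
def p334 : AP := ⟨[], [], (nat_lit 339), ⟨[nat_lit 20, nat_lit 49], [nat_lit 11, nat_lit 65], ⟨[nat_lit 0x44cc48b5eb61435a593275ce012870], [nat_lit 169472, nat_lit 167168, nat_lit 162816, nat_lit 158208, nat_lit 153824, nat_lit 147936, nat_lit 145984, nat_lit 143196, nat_lit 136252, nat_lit 134313, nat_lit 428, nat_lit 5812, nat_lit 8200, nat_lit 12352, nat_lit 16800, nat_lit 20928, nat_lit 25728, nat_lit 29440, nat_lit 34304, nat_lit 41656, nat_lit 37289, nat_lit 32961, nat_lit 28686, nat_lit 24615, nat_lit 20497, nat_lit 16421, nat_lit 12293, nat_lit 8203, nat_lit 4101]⟩⟩⟩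
def l335 : List AP := [⟨[], [], (nat_lit 1034), ⟨[nat_lit 2, nat_lit 62], [nat_lit 43, nat_lit 50], ⟨[nat_lit 0xa4d900209115c6f504d22b4f5b392b], [nat_lit 173056, nat_lit 169472, nat_lit 166912, nat_lit 160640, nat_lit 156928, nat_lit 152000, nat_lit 149424, nat_lit 145280, nat_lit 140960, nat_lit 136022, nat_lit 131305, nat_lit 354, nat_lit 5316, nat_lit 9904, nat_lit 12448, nat_lit 18304, nat_lit 21376, nat_lit 25088, nat_lit 29952, nat_lit 41067, nat_lit 37264, nat_lit 29309, nat_lit 24749, nat_lit 20621, nat_lit 16897, nat_lit 12295, nat_lit 8]⟩⟩⟩]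
theorem s335 : Suf yT 2056 (ldrop wS 161) (apW dcM p334) (tgtN dcM p334.e) := Suf.fin' (l := l335) (by decide +kernel)
def l334 : List AP := [⟨[nat_lit 46, nat_lit 67, nat_lit 68, nat_lit 48], [], (nat_lit 1046), ⟨[nat_lit 22, nat_lit 94], [nat_lit 0, nat_lit 77, nat_lit 58], ⟨[nat_lit 0x63cae4d47331da49596080514546e2], [nat_lit 174080, nat_lit 169984, nat_lit 164864, nat_lit 162944, nat_lit 158528, nat_lit 154848, nat_lit 148736, nat_lit 144232, nat_lit 140056, nat_lit 137230, nat_lit 133399, nat_lit 1766, nat_lit 4756, nat_lit 8704, nat_lit 14160, nat_lit 17792, nat_lit 20992, nat_lit 26112, nat_lit 29696, nat_lit 33280, nat_lit 41235, nat_lit 37085, nat_lit 33014, nat_lit 29043, nat_lit 24636, nat_lit 20497, nat_lit 16420, nat_lit 12356, nat_lit 8193]⟩⟩⟩,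
  ⟨[nat_lit 213, nat_lit 171], [], (nat_lit 392), ⟨[nat_lit 0, nat_lit 42, nat_lit 89], [nat_lit 0, nat_lit 26, nat_lit 70], ⟨[nat_lit 0xa84643a1576d0ae14deb8812c848d6], [nat_lit 169472, nat_lit 167424, nat_lit 160768, nat_lit 156736, nat_lit 152192, nat_lit 147904, nat_lit 143872, nat_lit 140060, nat_lit 136014, nat_lit 132207, nat_lit 952, nat_lit 5436, nat_lit 10184, nat_lit 12464, nat_lit 17408, nat_lit 21184, nat_lit 29952, nat_lit 37888, nat_lit 41481, nat_lit 38182, nat_lit 32926, nat_lit 29012, nat_lit 24719, nat_lit 21023, nat_lit 16418, nat_lit 12418, nat_lit 8257, nat_lit 4112]⟩⟩⟩]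
theorem s334 : Suf yT 2056 (ldrop wS 146) (apW dcM p333) (tgtN dcM p333.e) := Suf.seg (l := l334) (by decide +kernel) s335
def l333 : List AP := [⟨[nat_lit 214, nat_lit 172], [], (nat_lit 396), ⟨[nat_lit 71, nat_lit 70], [nat_lit 0, nat_lit 76, nat_lit 65], ⟨[nat_lit 0x71c3713e84600b54c1688aa5330ecd], [nat_lit 174080, nat_lit 169984, nat_lit 166400, nat_lit 160256, nat_lit 158336, nat_lit 154624, nat_lit 149296, nat_lit 145488, nat_lit 139992, nat_lit 136860, nat_lit 131939, nat_lit 1668, nat_lit 4340, nat_lit 9264, nat_lit 13152, nat_lit 16768, nat_lit 22336, nat_lit 26240, nat_lit 28928, nat_lit 33792, nat_lit 37888, nat_lit 41515, nat_lit 38083, nat_lit 32776, nat_lit 29280, nat_lit 25136, nat_lit 20505, nat_lit 16430, nat_lit 8211, nat_lit 4112]⟩⟩⟩,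
  ⟨[nat_lit 50], [], (nat_lit 1046), ⟨[nat_lit 7, nat_lit 91], [nat_lit 16, nat_lit 53], ⟨[nat_lit 0x71c3713e84600b54c1688aa5330ecd], [nat_lit 174080, nat_lit 170496, nat_lit 166656, nat_lit 160384, nat_lit 158400, nat_lit 154656, nat_lit 149296, nat_lit 145488, nat_lit 139996, nat_lit 136860, nat_lit 131938, nat_lit 1668, nat_lit 4340, nat_lit 9264, nat_lit 13152, nat_lit 16768, nat_lit 22336, nat_lit 26240, nat_lit 28928, nat_lit 33792, nat_lit 37888, nat_lit 41515, nat_lit 38083, nat_lit 32776, nat_lit 29280, nat_lit 25136, nat_lit 20505, nat_lit 16430, nat_lit 8211, nat_lit 4112]⟩⟩⟩]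
theorem s333 : Suf yT 2056 (ldrop wS 140) (apW dcM p332) (tgtN dcM p332.e) := Suf.seg (l := l333) (by decide +kernel) s334
def l332 : List AP := [⟨[nat_lit 50], [], (nat_lit 120), ⟨[nat_lit 76, nat_lit 66], [nat_lit 74, nat_lit 92], ⟨[nat_lit 0x3c069544266b9f44480499562b32f5], [nat_lit 173056, nat_lit 171520, nat_lit 164096, nat_lit 160256, nat_lit 157248, nat_lit 152224, nat_lit 148976, nat_lit 144608, nat_lit 140832, nat_lit 136262, nat_lit 131933, nat_lit 1250, nat_lit 4756, nat_lit 10080, nat_lit 12704, nat_lit 16416, nat_lit 21824, nat_lit 24832, nat_lit 29952, nat_lit 33792, nat_lit 37888, nat_lit 41856, nat_lit 37334, nat_lit 33446, nat_lit 28686, nat_lit 24880, nat_lit 20498, nat_lit 16422, nat_lit 12295, nat_lit 8201, nat_lit 4097]⟩⟩⟩,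
  ⟨[nat_lit 51, nat_lit 639, nat_lit 54], [], (nat_lit 121), ⟨[nat_lit 0, nat_lit 72, nat_lit 90], [nat_lit 0, nat_lit 32, nat_lit 48], ⟨[nat_lit 0x2a835830626c8e6722299d2ef592c0], [nat_lit 168960, nat_lit 166400, nat_lit 161408, nat_lit 156288, nat_lit 154784, nat_lit 150304, nat_lit 147312, nat_lit 141312, nat_lit 137788, nat_lit 131632, nat_lit 318, nat_lit 5012, nat_lit 8280, nat_lit 12976, nat_lit 16960, nat_lit 21824, nat_lit 25984, nat_lit 29184, nat_lit 41786, nat_lit 36962, nat_lit 32968, nat_lit 28949, nat_lit 24630, nat_lit 20553, nat_lit 16429, nat_lit 12292, nat_lit 8202, nat_lit 4101]⟩⟩⟩]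
theorem s332 : Suf yT 2056 (ldrop wS 125) (apW dcM p331) (tgtN dcM p331.e) := Suf.seg (l := l332) (by decide +kernel) s333
def l331 : List AP := [⟨[nat_lit 73, nat_lit 53, nat_lit 55, nat_lit 49], [], (nat_lit 120), ⟨[nat_lit 0, nat_lit 39, nat_lit 89], [nat_lit 3, nat_lit 48], ⟨[nat_lit 0x74ec66a40f64aa7a0aea8062829163], [nat_lit 175104, nat_lit 167680, nat_lit 162944, nat_lit 159680, nat_lit 152768, nat_lit 148048, nat_lit 144088, nat_lit 142972, nat_lit 139216, nat_lit 131330, nat_lit 1818, nat_lit 5064, nat_lit 9752, nat_lit 14304, nat_lit 16640, nat_lit 21440, nat_lit 25856, nat_lit 29184, nat_lit 33792, nat_lit 37888, nat_lit 41468, nat_lit 37317, nat_lit 32831, nat_lit 29267, nat_lit 25115, nat_lit 20745, nat_lit 16390, nat_lit 12352, nat_lit 8194, nat_lit 4100, nat_lit 256]⟩⟩⟩,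
  ⟨[nat_lit 643, nat_lit 641, nat_lit 66], [], (nat_lit 120), ⟨[nat_lit 73, nat_lit 93], [nat_lit 20, nat_lit 92], ⟨[nat_lit 0x4582764ef4026a66ad51189f02c88e], [nat_lit 169984, nat_lit 165120, nat_lit 160256, nat_lit 158528, nat_lit 152768, nat_lit 149376, nat_lit 146544, nat_lit 142972, nat_lit 137280, nat_lit 134446, nat_lit 1530, nat_lit 4508, nat_lit 10160, nat_lit 14304, nat_lit 18048, nat_lit 20544, nat_lit 33280, nat_lit 37888, nat_lit 41841, nat_lit 37014, nat_lit 33908, nat_lit 28685, nat_lit 24613, nat_lit 20565, nat_lit 16421, nat_lit 12416, nat_lit 8193, nat_lit 4609]⟩⟩⟩]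
theorem s331 : Suf yT 2056 (ldrop wS 110) (apW dcM p330) (tgtN dcM p330.e) := Suf.seg (l := l331) (by decide +kernel) s332
def l330 : List AP := [⟨[nat_lit 72, nat_lit 46, nat_lit 56, nat_lit 47], [], (nat_lit 1046), ⟨[nat_lit 0, nat_lit 83, nat_lit 90], [nat_lit 11], ⟨[nat_lit 0x11a6e61600905a4a2ad7aa16989c6f], [nat_lit 173056, nat_lit 168960, nat_lit 165376, nat_lit 161920, nat_lit 156928, nat_lit 153536, nat_lit 148816, nat_lit 144128, nat_lit 139744, nat_lit 135552, nat_lit 131314, nat_lit 1014, nat_lit 5580, nat_lit 8408, nat_lit 12800, nat_lit 17952, nat_lit 21952, nat_lit 26240, nat_lit 29184, nat_lit 34304, nat_lit 37888, nat_lit 41344, nat_lit 36928, nat_lit 32887, nat_lit 28750, nat_lit 24725, nat_lit 20492, nat_lit 16449, nat_lit 12306, nat_lit 8225, nat_lit 4112, nat_lit 4]⟩⟩⟩,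
  ⟨[nat_lit 177, nat_lit 214], [], (nat_lit 418), ⟨[nat_lit 22, nat_lit 63], [nat_lit 0, nat_lit 34, nat_lit 61], ⟨[nat_lit 0x80468539b22c56405cccb09e7ad133], [nat_lit 174080, nat_lit 170496, nat_lit 165888, nat_lit 163200, nat_lit 157376, nat_lit 154208, nat_lit 149984, nat_lit 143552, nat_lit 141868, nat_lit 137208, nat_lit 132936, nat_lit 1530, nat_lit 4720, nat_lit 10128, nat_lit 13104, nat_lit 18112, nat_lit 20736, nat_lit 26240, nat_lit 29440, nat_lit 37888, nat_lit 41456, nat_lit 37139, nat_lit 32842, nat_lit 28732, nat_lit 24878, nat_lit 20484, nat_lit 16385, nat_lit 12293]⟩⟩⟩]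
theorem s330 : Suf yT 2056 (ldrop wS 95) (apW dcM p329) (tgtN dcM p329.e) := Suf.seg (l := l330) (by decide +kernel) s331
def l329 : List AP := [⟨[nat_lit 53, nat_lit 642, nat_lit 53, nat_lit 49], [], (nat_lit 120), ⟨[nat_lit 7, nat_lit 47], [nat_lit 0, nat_lit 78, nat_lit 66], ⟨[nat_lit 0x3c112b5d4613a742adaf20d200c595], [nat_lit 175104, nat_lit 168960, nat_lit 160640, nat_lit 158464, nat_lit 155456, nat_lit 151200, nat_lit 144088, nat_lit 141512, nat_lit 135580, nat_lit 135142, nat_lit 2012, nat_lit 4756, nat_lit 8336, nat_lit 12704, nat_lit 16800, nat_lit 22208, nat_lit 25216, nat_lit 41953, nat_lit 37074, nat_lit 33952, nat_lit 29289, nat_lit 24840, nat_lit 20626, nat_lit 16527, nat_lit 12295, nat_lit 8202, nat_lit 4097, nat_lit 2]⟩⟩⟩,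
  ⟨[nat_lit 641, nat_lit 46, nat_lit 54], [], (nat_lit 121), ⟨[nat_lit 0, nat_lit 7, nat_lit 50], [nat_lit 0, nat_lit 1, nat_lit 47], ⟨[nat_lit 0xb956309935a28828358e9c5f2b0107], [nat_lit 175104, nat_lit 164352, nat_lit 160384, nat_lit 156992, nat_lit 152448, nat_lit 148416, nat_lit 145304, nat_lit 139596, nat_lit 136880, nat_lit 131130, nat_lit 158, nat_lit 4508, nat_lit 10104, nat_lit 14256, nat_lit 18336, nat_lit 22336, nat_lit 24960, nat_lit 29696, nat_lit 33792, nat_lit 41472, nat_lit 38058, nat_lit 32860, nat_lit 29202, nat_lit 24857, nat_lit 20608, nat_lit 16424, nat_lit 12291, nat_lit 8258, nat_lit 4101]⟩⟩⟩]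
theorem s329 : Suf yT 2056 (ldrop wS 89) (apW dcM p328) (tgtN dcM p328.e) := Suf.seg (l := l329) (by decide +kernel) s330
def l328 : List AP := [⟨[nat_lit 661, nat_lit 171], [], (nat_lit 418), ⟨[nat_lit 0, nat_lit 75, nat_lit 49], [nat_lit 37, nat_lit 48], ⟨[nat_lit 0x99ac44513253c27146a072ca3636f0], [nat_lit 173056, nat_lit 164608, nat_lit 160000, nat_lit 156800, nat_lit 154784, nat_lit 149264, nat_lit 144976, nat_lit 139456, nat_lit 135840, nat_lit 131527, nat_lit 1076, nat_lit 4476, nat_lit 8680, nat_lit 12352, nat_lit 16448, nat_lit 20544, nat_lit 33792, nat_lit 41838, nat_lit 38388, nat_lit 32957, nat_lit 28768, nat_lit 24608, nat_lit 20496, nat_lit 16424, nat_lit 12306, nat_lit 8448, nat_lit 4105, nat_lit 2]⟩⟩⟩,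
  ⟨[nat_lit 219], [], (nat_lit 419), ⟨[nat_lit 19, nat_lit 50], [nat_lit 87, nat_lit 63], ⟨[nat_lit 0x9d33890486da1200df75556ca15c6], [nat_lit 168448, nat_lit 161024, nat_lit 156480, nat_lit 152352, nat_lit 149824, nat_lit 144144, nat_lit 139692, nat_lit 136976, nat_lit 131636, nat_lit 1614, nat_lit 5768, nat_lit 10032, nat_lit 14256, nat_lit 16512, nat_lit 25728, nat_lit 28928, nat_lit 33792, nat_lit 41405, nat_lit 37156, nat_lit 32931, nat_lit 28738, nat_lit 24722, nat_lit 20754, nat_lit 16390, nat_lit 13317, nat_lit 8210, nat_lit 4112, nat_lit 32]⟩⟩⟩]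
theorem s328 : Suf yT 2056 (ldrop wS 74) (apW dcM p327) (tgtN dcM p327.e) := Suf.seg (l := l328) (by decide +kernel) s329
def l327 : List AP := [⟨[nat_lit 49, nat_lit 642, nat_lit 69, nat_lit 50], [], (nat_lit 120), ⟨[nat_lit 0, nat_lit 76, nat_lit 49], [nat_lit 0, nat_lit 27, nat_lit 56], ⟨[nat_lit 0x12cb7656d3938e678030550648a12d], [nat_lit 175104, nat_lit 170496, nat_lit 165632, nat_lit 162816, nat_lit 158208, nat_lit 155072, nat_lit 148304, nat_lit 143520, nat_lit 141268, nat_lit 137418, nat_lit 134814, nat_lit 1066, nat_lit 5900, nat_lit 10080, nat_lit 12480, nat_lit 16896, nat_lit 20800, nat_lit 24960, nat_lit 33280, nat_lit 37888, nat_lit 41705, nat_lit 37110, nat_lit 32969, nat_lit 28936, nat_lit 24717, nat_lit 21004, nat_lit 16393, nat_lit 12289, nat_lit 8257, nat_lit 4097, nat_lit 2]⟩⟩⟩,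
  ⟨[nat_lit 639, nat_lit 57, nat_lit 70, nat_lit 54], [], (nat_lit 120), ⟨[nat_lit 0, nat_lit 6, nat_lit 69], [nat_lit 44, nat_lit 48], ⟨[nat_lit 0x15177601c87c4d5190aa3d9b00a653], [nat_lit 159872, nat_lit 156800, nat_lit 152224, nat_lit 149008, nat_lit 143856, nat_lit 139636, nat_lit 136410, nat_lit 135040, nat_lit 590, nat_lit 4684, nat_lit 9664, nat_lit 14208, nat_lit 16864, nat_lit 21440, nat_lit 24832, nat_lit 29184, nat_lit 33792, nat_lit 37888, nat_lit 41944, nat_lit 37967, nat_lit 32830, nat_lit 29307, nat_lit 24751, nat_lit 20632, nat_lit 16423, nat_lit 12293, nat_lit 8200, nat_lit 4097, nat_lit 2]⟩⟩⟩]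
theorem s327 : Suf yT 2056 (ldrop wS 59) (apW dcM p326) (tgtN dcM p326.e) := Suf.seg (l := l327) (by decide +kernel) s328
def l326 : List AP := [⟨[nat_lit 72, nat_lit 72, nat_lit 51], [], (nat_lit 120), ⟨[nat_lit 0, nat_lit 6, nat_lit 90], [nat_lit 0, nat_lit 39, nat_lit 53], ⟨[nat_lit 0x78695481cb1b0c755e6580a4d8a096], [nat_lit 173056, nat_lit 164352, nat_lit 160000, nat_lit 151840, nat_lit 148208, nat_lit 144456, nat_lit 140888, nat_lit 135868, nat_lit 133731, nat_lit 680, nat_lit 5208, nat_lit 8768, nat_lit 12448, nat_lit 16640, nat_lit 21952, nat_lit 25984, nat_lit 41421, nat_lit 37181, nat_lit 33460, nat_lit 28928, nat_lit 25606, nat_lit 20999, nat_lit 16422, nat_lit 12289, nat_lit 8209, nat_lit 4129, nat_lit 2]⟩⟩⟩,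
  ⟨[nat_lit 640, nat_lit 70, nat_lit 67, nat_lit 47], [], (nat_lit 120), ⟨[nat_lit 42, nat_lit 50], [nat_lit 45, nat_lit 68], ⟨[nat_lit 0x31468838f59a6205898fb05546c897], [nat_lit 174080, nat_lit 171008, nat_lit 167424, nat_lit 163712, nat_lit 156288, nat_lit 153856, nat_lit 150880, nat_lit 144096, nat_lit 141712, nat_lit 137066, nat_lit 131115, nat_lit 960, nat_lit 5424, nat_lit 10160, nat_lit 13712, nat_lit 16416, nat_lit 20736, nat_lit 24960, nat_lit 33280, nat_lit 41750, nat_lit 37323, nat_lit 32860, nat_lit 29228, nat_lit 24720, nat_lit 20563, nat_lit 16451, nat_lit 12289, nat_lit 4161]⟩⟩⟩]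
theorem s326 : Suf yT 2056 (ldrop wS 44) (apW dcM p325) (tgtN dcM p325.e) := Suf.seg (l := l326) (by decide +kernel) s327
def l325 : List AP := [⟨[nat_lit 170, nat_lit 660, nat_lit 170], [], (nat_lit 396), ⟨[nat_lit 83, nat_lit 93], [nat_lit 0, nat_lit 24, nat_lit 48], ⟨[nat_lit 0x722d0bd0647d64934e215a8a2030ed], [nat_lit 173056, nat_lit 165120, nat_lit 155840, nat_lit 154432, nat_lit 147616, nat_lit 143776, nat_lit 141076, nat_lit 135502, nat_lit 132792, nat_lit 460, nat_lit 5488, nat_lit 9320, nat_lit 12736, nat_lit 17824, nat_lit 20544, nat_lit 25856, nat_lit 29952, nat_lit 33792, nat_lit 37888, nat_lit 41639, nat_lit 37903, nat_lit 32946, nat_lit 28768, nat_lit 24752, nat_lit 16460, nat_lit 12305, nat_lit 8194, nat_lit 4097]⟩⟩⟩,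
  ⟨[nat_lit 50], [], (nat_lit 1046), ⟨[nat_lit 0, nat_lit 87], [nat_lit 0, nat_lit 33, nat_lit 94], ⟨[nat_lit 0x722d0bd0647d64934e215a8a2030ed], [nat_lit 165120, nat_lit 155776, nat_lit 154464, nat_lit 147616, nat_lit 143776, nat_lit 141076, nat_lit 135500, nat_lit 132793, nat_lit 460, nat_lit 5488, nat_lit 9320, nat_lit 12736, nat_lit 17824, nat_lit 20544, nat_lit 25856, nat_lit 29952, nat_lit 33792, nat_lit 37888, nat_lit 41639, nat_lit 37903, nat_lit 32946, nat_lit 28768, nat_lit 24752, nat_lit 16460, nat_lit 12305, nat_lit 8194, nat_lit 4097]⟩⟩⟩]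
theorem s325 : Suf yT 2056 (ldrop wS 38) (apW dcM p324) (tgtN dcM p324.e) := Suf.seg (l := l325) (by decide +kernel) s326
def l324 : List AP := [⟨[nat_lit 661, nat_lit 171], [], (nat_lit 418), ⟨[nat_lit 0, nat_lit 76, nat_lit 93], [nat_lit 0, nat_lit 71, nat_lit 62], ⟨[nat_lit 0x8242e78953ab586b0c0559ee825232], [nat_lit 168448, nat_lit 165632, nat_lit 156288, nat_lit 151680, nat_lit 147792, nat_lit 145328, nat_lit 142980, nat_lit 136096, nat_lit 132225, nat_lit 590, nat_lit 5176, nat_lit 8224, nat_lit 13664, nat_lit 18048, nat_lit 20736, nat_lit 29184, nat_lit 33280, nat_lit 37888, nat_lit 41845, nat_lit 37305, nat_lit 32932, nat_lit 28931, nat_lit 25616, nat_lit 20496, nat_lit 16420, nat_lit 12805, nat_lit 4225, nat_lit 64]⟩⟩⟩,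
  ⟨[nat_lit 216, nat_lit 663, nat_lit 172], [], (nat_lit 418), ⟨[nat_lit 81, nat_lit 52], [nat_lit 75, nat_lit 67], ⟨[nat_lit 0x2b552b250015e701b1f47448ba9cc1], [nat_lit 174080, nat_lit 168448, nat_lit 166912, nat_lit 163712, nat_lit 159232, nat_lit 153536, nat_lit 149456, nat_lit 144136, nat_lit 142884, nat_lit 138064, nat_lit 132858, nat_lit 1180, nat_lit 4548, nat_lit 9664, nat_lit 14256, nat_lit 16480, nat_lit 22208, nat_lit 26240, nat_lit 29184, nat_lit 41474, nat_lit 38144, nat_lit 33376, nat_lit 28722, nat_lit 24845, nat_lit 20557, nat_lit 16526, nat_lit 12289, nat_lit 8193, nat_lit 4]⟩⟩⟩]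
theorem s324 : Suf yT 2056 (ldrop wS 23) (apW dcM p323) (tgtN dcM p323.e) := Suf.seg (l := l324) (by decide +kernel) s325
def l323 : List AP := [⟨[nat_lit 216, nat_lit 172], [], (nat_lit 418), ⟨[nat_lit 36, nat_lit 51], [nat_lit 0, nat_lit 22, nat_lit 89], ⟨[nat_lit 0x6a43078228b1e53638d5b8c8255165], [nat_lit 173056, nat_lit 168448, nat_lit 165632, nat_lit 160640, nat_lit 157120, nat_lit 152128, nat_lit 147872, nat_lit 143568, nat_lit 135648, nat_lit 134632, nat_lit 128, nat_lit 4952, nat_lit 8224, nat_lit 13376, nat_lit 16416, nat_lit 20544, nat_lit 24832, nat_lit 28928, nat_lit 41161, nat_lit 37249, nat_lit 32986, nat_lit 28785, nat_lit 24752, nat_lit 20624, nat_lit 16516, nat_lit 12290, nat_lit 8208, nat_lit 4097]⟩⟩⟩,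
  ⟨[nat_lit 175, nat_lit 219], [], (nat_lit 396), ⟨[nat_lit 0, nat_lit 76, nat_lit 94], [nat_lit 77, nat_lit 55], ⟨[nat_lit 0x3c24d30d82adc8e7950b9a436a0151], [nat_lit 173056, nat_lit 169472, nat_lit 165632, nat_lit 160896, nat_lit 156992, nat_lit 153376, nat_lit 147488, nat_lit 146744, nat_lit 141276, nat_lit 136544, nat_lit 132870, nat_lit 1298, nat_lit 5904, nat_lit 8680, nat_lit 12320, nat_lit 16544, nat_lit 20992, nat_lit 25472, nat_lit 30464, nat_lit 34304, nat_lit 37888, nat_lit 41110, nat_lit 36974, nat_lit 32834, nat_lit 28698, nat_lit 24612, nat_lit 20495, nat_lit 16387, nat_lit 8224, nat_lit 4100, nat_lit 2]⟩⟩⟩]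
theorem s323 : Suf yT 2056 (ldrop wS 8) (apW dcM p322) (tgtN dcM p322.e) := Suf.seg (l := l323) (by decide +kernel) s324
def l322 : List AP := [⟨[nat_lit 626, nat_lit 5, nat_lit 624, nat_lit 626, nat_lit 2, nat_lit 8], [], (nat_lit 40), ⟨[nat_lit 0, nat_lit 76, nat_lit 57], [nat_lit 84, nat_lit 64], ⟨[nat_lit 0xa222a5940f8083739a754b48374acc], [nat_lit 165120, nat_lit 161792, nat_lit 157312, nat_lit 152416, nat_lit 149280, nat_lit 145280, nat_lit 140876, nat_lit 135316, nat_lit 131496, nat_lit 902, nat_lit 4540, nat_lit 10160, nat_lit 21376, nat_lit 25600, nat_lit 34304, nat_lit 37888, nat_lit 41319, nat_lit 37179, nat_lit 33390, nat_lit 28688, nat_lit 24616, nat_lit 20485, nat_lit 16520, nat_lit 12308, nat_lit 8200, nat_lit 4097, nat_lit 2]⟩⟩⟩,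
  ⟨[nat_lit 634, nat_lit 28, nat_lit 638, nat_lit 638, nat_lit 31, nat_lit 21], [], (nat_lit 338), ⟨[nat_lit 0, nat_lit 6, nat_lit 57], [nat_lit 70], ⟨[nat_lit 0x5866449810a89e3696e7b323253a88], [nat_lit 175104, nat_lit 169472, nat_lit 164352, nat_lit 161408, nat_lit 156736, nat_lit 151840, nat_lit 147920, nat_lit 144392, nat_lit 139780, nat_lit 135220, nat_lit 131995, nat_lit 1554, nat_lit 5680, nat_lit 9136, nat_lit 12336, nat_lit 25600, nat_lit 30208, nat_lit 33792, nat_lit 41614, nat_lit 38061, nat_lit 32781, nat_lit 29710, nat_lit 21011, nat_lit 16416, nat_lit 12548, nat_lit 4609, nat_lit 8]⟩⟩⟩]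
theorem rS16 : Suf yT 2056 wS [yT.get 50] 0 := Suf.seg (l := l322) (by decide +kernel) s323

def p336 : AP := ⟨[nat_lit 72, nat_lit 66], [], (nat_lit 126), ⟨[nat_lit 36, nat_lit 70], [nat_lit 0, nat_lit 72, nat_lit 60], ⟨[nat_lit 0x3d6686b9e15c096ba4b21880c8aa86], [nat_lit 175104, nat_lit 171008, nat_lit 165888, nat_lit 163328, nat_lit 155776, nat_lit 154336, nat_lit 150080, nat_lit 145328, nat_lit 142792, nat_lit 136684, nat_lit 131288, nat_lit 786, nat_lit 4380, nat_lit 9136, nat_lit 12448, nat_lit 16672, nat_lit 20736, nat_lit 25984, nat_lit 29440, nat_lit 37888, nat_lit 41360, nat_lit 36940, nat_lit 33940, nat_lit 29739, nat_lit 25094, nat_lit 20639, nat_lit 16525, nat_lit 12358, nat_lit 8193, nat_lit 4112, nat_lit 4]⟩⟩⟩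
def p337 : AP := ⟨[nat_lit 179, nat_lit 172], [], (nat_lit 419), ⟨[nat_lit 0, nat_lit 73, nat_lit 60], [nat_lit 0, nat_lit 13, nat_lit 94], ⟨[nat_lit 0x9d98ba25d038daf28ab7020ca0c492], [nat_lit 175104, nat_lit 166656, nat_lit 163072, nat_lit 159424, nat_lit 153088, nat_lit 148896, nat_lit 144848, nat_lit 141404, nat_lit 139036, nat_lit 131619, nat_lit 1810, nat_lit 5588, nat_lit 10192, nat_lit 13264, nat_lit 21632, nat_lit 33280, nat_lit 37888, nat_lit 41746, nat_lit 38372, nat_lit 33843, nat_lit 29284, nat_lit 24594, nat_lit 20765, nat_lit 16387, nat_lit 12320, nat_lit 8202, nat_lit 16]⟩⟩⟩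
def p338 : AP := ⟨[nat_lit 178, nat_lit 218], [], (nat_lit 396), ⟨[nat_lit 0, nat_lit 45, nat_lit 62], [nat_lit 36, nat_lit 52], ⟨[nat_lit 0x8446dba0f30188eac8a952de2a06cc], [nat_lit 167424, nat_lit 160640, nat_lit 157632, nat_lit 152160, nat_lit 148336, nat_lit 144680, nat_lit 141268, nat_lit 136542, nat_lit 131149, nat_lit 902, nat_lit 4156, nat_lit 8504, nat_lit 12560, nat_lit 16960, nat_lit 20736, nat_lit 26368, nat_lit 30464, nat_lit 33280, nat_lit 37888, nat_lit 41678, nat_lit 38343, nat_lit 33507, nat_lit 29010, nat_lit 24883, nat_lit 20511, nat_lit 16419, nat_lit 12308, nat_lit 8194, nat_lit 4097, nat_lit 2]⟩⟩⟩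
def p339 : AP := ⟨[nat_lit 69, nat_lit 68, nat_lit 67, nat_lit 53], [], (nat_lit 120), ⟨[nat_lit 0, nat_lit 43], [nat_lit 0, nat_lit 28, nat_lit 53], ⟨[nat_lit 0x4556772812634d724e16104b41be29], [nat_lit 174080, nat_lit 171008, nat_lit 166912, nat_lit 161152, nat_lit 156288, nat_lit 151648, nat_lit 150576, nat_lit 145168, nat_lit 140588, nat_lit 138380, nat_lit 133395, nat_lit 724, nat_lit 6084, nat_lit 9952, nat_lit 12800, nat_lit 17408, nat_lit 22336, nat_lit 26368, nat_lit 29184, nat_lit 34304, nat_lit 41317, nat_lit 36982, nat_lit 34027, nat_lit 28675, nat_lit 25141, nat_lit 20492, nat_lit 16901, nat_lit 12291, nat_lit 8227, nat_lit 4097]⟩⟩⟩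
def p340 : AP := ⟨[nat_lit 661, nat_lit 171], [], (nat_lit 418), ⟨[nat_lit 75, nat_lit 91], [nat_lit 0, nat_lit 28, nat_lit 62], ⟨[nat_lit 0x81587525d200df1410575d8c1a36b3], [nat_lit 174080, nat_lit 168960, nat_lit 166144, nat_lit 163456, nat_lit 158272, nat_lit 151744, nat_lit 147680, nat_lit 145088, nat_lit 141952, nat_lit 137552, nat_lit 133081, nat_lit 1928, nat_lit 5900, nat_lit 9384, nat_lit 13024, nat_lit 17728, nat_lit 21376, nat_lit 25472, nat_lit 30464, nat_lit 33792, nat_lit 37888, nat_lit 41179, nat_lit 37270, nat_lit 33321, nat_lit 28714, nat_lit 25649, nat_lit 20571, nat_lit 16429, nat_lit 12290, nat_lit 8195, nat_lit 4100]⟩⟩⟩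
def p341 : AP := ⟨[nat_lit 57, nat_lit 642, nat_lit 51, nat_lit 51], [], (nat_lit 120), ⟨[nat_lit 0, nat_lit 28, nat_lit 68], [nat_lit 86, nat_lit 62], ⟨[nat_lit 0x3340e93157585057cd368122338a95], [nat_lit 173056, nat_lit 166144, nat_lit 161024, nat_lit 156672, nat_lit 154976, nat_lit 150656, nat_lit 146480, nat_lit 143188, nat_lit 138876, nat_lit 132471, nat_lit 2012, nat_lit 4380, nat_lit 8224, nat_lit 12880, nat_lit 16992, nat_lit 22080, nat_lit 25984, nat_lit 28928, nat_lit 33280, nat_lit 41682, nat_lit 37009, nat_lit 32807, nat_lit 28770, nat_lit 24635, nat_lit 20557, nat_lit 16394, nat_lit 12293, nat_lit 8194]⟩⟩⟩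
def p342 : AP := ⟨[nat_lit 216, nat_lit 170], [], (nat_lit 419), ⟨[nat_lit 0, nat_lit 8, nat_lit 58], [nat_lit 36, nat_lit 68], ⟨[nat_lit 0x635d201aea7c6703ae8120ec9120b5], [nat_lit 175104, nat_lit 168448, nat_lit 164864, nat_lit 157440, nat_lit 152640, nat_lit 147728, nat_lit 143752, nat_lit 140948, nat_lit 136272, nat_lit 132167, nat_lit 738, nat_lit 5444, nat_lit 8448, nat_lit 13584, nat_lit 17760, nat_lit 22144, nat_lit 25728, nat_lit 28928, nat_lit 33792, nat_lit 41592, nat_lit 37963, nat_lit 32966, nat_lit 29001, nat_lit 24855, nat_lit 21011, nat_lit 16451, nat_lit 12419, nat_lit 8200, nat_lit 4112]⟩⟩⟩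
def p343 : AP := ⟨[nat_lit 53, nat_lit 643, nat_lit 69, nat_lit 48], [], (nat_lit 120), ⟨[nat_lit 0, nat_lit 71], [nat_lit 0, nat_lit 5, nat_lit 92], ⟨[nat_lit 0x622f5839535b4e60125613c2988e85], [nat_lit 175104, nat_lit 171008, nat_lit 167424, nat_lit 162944, nat_lit 157632, nat_lit 154112, nat_lit 149888, nat_lit 145224, nat_lit 142252, nat_lit 135284, nat_lit 131078, nat_lit 1634, nat_lit 5604, nat_lit 10168, nat_lit 12800, nat_lit 17312, nat_lit 20608, nat_lit 25472, nat_lit 29184, nat_lit 33792, nat_lit 37888, nat_lit 41060, nat_lit 37213, nat_lit 33494, nat_lit 28786, nat_lit 24715, nat_lit 20564, nat_lit 16455, nat_lit 12292, nat_lit 4112, nat_lit 32]⟩⟩⟩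
def p344 : AP := ⟨[nat_lit 641, nat_lit 46, nat_lit 54], [], (nat_lit 121), ⟨[nat_lit 0, nat_lit 75, nat_lit 65], [nat_lit 0, nat_lit 30, nat_lit 69], ⟨[nat_lit 0x38c8e951460cd90496f15b502782d5], [nat_lit 173056, nat_lit 169472, nat_lit 164352, nat_lit 161152, nat_lit 156032, nat_lit 153952, nat_lit 148960, nat_lit 144880, nat_lit 135352, nat_lit 131455, nat_lit 1730, nat_lit 5208, nat_lit 8856, nat_lit 14144, nat_lit 17888, nat_lit 22080, nat_lit 25088, nat_lit 29440, nat_lit 33280, nat_lit 41871, nat_lit 38302, nat_lit 34031, nat_lit 29807, nat_lit 24608, nat_lit 20556, nat_lit 16396, nat_lit 8211, nat_lit 4097]⟩⟩⟩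
def p345 : AP := ⟨[nat_lit 67, nat_lit 73, nat_lit 52, nat_lit 51], [], (nat_lit 1046), ⟨[nat_lit 77, nat_lit 58], [nat_lit 0, nat_lit 33, nat_lit 64], ⟨[nat_lit 0x6be00a954e32d940a1311da5738a64], [nat_lit 169472, nat_lit 165376, nat_lit 163200, nat_lit 155904, nat_lit 152128, nat_lit 149344, nat_lit 143952, nat_lit 139284, nat_lit 136292, nat_lit 132514, nat_lit 606, nat_lit 5688, nat_lit 8320, nat_lit 13056, nat_lit 16512, nat_lit 21568, nat_lit 25344, nat_lit 34304, nat_lit 41567, nat_lit 37197, nat_lit 33485, nat_lit 24628, nat_lit 20487, nat_lit 16387, nat_lit 12804, nat_lit 4112, nat_lit 2]⟩⟩⟩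
def p346 : AP := ⟨[nat_lit 68, nat_lit 49, nat_lit 639, nat_lit 71], [], (nat_lit 120), ⟨[nat_lit 43, nat_lit 48], [nat_lit 6, nat_lit 69], ⟨[nat_lit 0xd167408b5500d77c613639b220ec9], [nat_lit 168960, nat_lit 164864, nat_lit 161024, nat_lit 156672, nat_lit 153152, nat_lit 148272, nat_lit 145096, nat_lit 141984, nat_lit 136142, nat_lit 132609, nat_lit 1918, nat_lit 5568, nat_lit 8200, nat_lit 12304, nat_lit 21440, nat_lit 25216, nat_lit 28928, nat_lit 33792, nat_lit 37888, nat_lit 41968, nat_lit 37996, nat_lit 33521, nat_lit 28751, nat_lit 24710, nat_lit 20509, nat_lit 16396, nat_lit 12292, nat_lit 4097, nat_lit 2]⟩⟩⟩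
def p347 : AP := ⟨[nat_lit 52, nat_lit 52, nat_lit 53, nat_lit 46], [], (nat_lit 120), ⟨[nat_lit 16, nat_lit 94], [nat_lit 26, nat_lit 67], ⟨[nat_lit 0x2b8354a911602e79ca0b6928311acf], [nat_lit 174080, nat_lit 170496, nat_lit 166912, nat_lit 161408, nat_lit 156480, nat_lit 152640, nat_lit 150048, nat_lit 143752, nat_lit 138618, nat_lit 134323, nat_lit 122, nat_lit 5544, nat_lit 9216, nat_lit 13152, nat_lit 18048, nat_lit 22336, nat_lit 25856, nat_lit 29952, nat_lit 33280, nat_lit 37888, nat_lit 41369, nat_lit 37129, nat_lit 33458, nat_lit 29010, nat_lit 24736, nat_lit 20496, nat_lit 16417, nat_lit 12293, nat_lit 8200]⟩⟩⟩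
def p348 : AP := ⟨[nat_lit 68], [], (nat_lit 122), ⟨[nat_lit 0, nat_lit 78, nat_lit 69], [nat_lit 20, nat_lit 93], ⟨[nat_lit 0x556839d98429c096c0d713dc80ca2b], [nat_lit 171008, nat_lit 164096, nat_lit 162304, nat_lit 156800, nat_lit 154432, nat_lit 150432, nat_lit 145960, nat_lit 140456, nat_lit 136990, nat_lit 134635, nat_lit 354, nat_lit 4568, nat_lit 10160, nat_lit 13264, nat_lit 17088, nat_lit 20864, nat_lit 24704, nat_lit 29952, nat_lit 33280, nat_lit 41851, nat_lit 37013, nat_lit 32812, nat_lit 29202, nat_lit 24595, nat_lit 20759, nat_lit 16424, nat_lit 12289, nat_lit 8320, nat_lit 4097]⟩⟩⟩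
def l349 : List AP := [⟨[nat_lit 632, nat_lit 39], [], (nat_lit 1032), ⟨[nat_lit 41, nat_lit 47], [nat_lit 0, nat_lit 84, nat_lit 48], ⟨[nat_lit 0x4c762202d5d532788aa7459739a14], [nat_lit 168960, nat_lit 167424, nat_lit 161664, nat_lit 156992, nat_lit 151904, nat_lit 148608, nat_lit 144136, nat_lit 139500, nat_lit 135608, nat_lit 132752, nat_lit 1214, nat_lit 4232, nat_lit 8840, nat_lit 13808, nat_lit 17696, nat_lit 21504, nat_lit 25216, nat_lit 30208, nat_lit 37888, nat_lit 41728, nat_lit 38106, nat_lit 33535, nat_lit 29204, nat_lit 24741, nat_lit 20556, nat_lit 16905, nat_lit 12354, nat_lit 8227, nat_lit 4113, nat_lit 8]⟩⟩⟩]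
theorem s349 : Suf yT 2064 (ldrop wS 161) (apW dcM p348) (tgtN dcM p348.e) := Suf.fin' (l := l349) (by decide +kernel)
def l348 : List AP := [⟨[nat_lit 49, nat_lit 54, nat_lit 70, nat_lit 46], [], (nat_lit 120), ⟨[nat_lit 0, nat_lit 41, nat_lit 46], [nat_lit 0, nat_lit 14, nat_lit 68], ⟨[nat_lit 0x2a07a45b2230d513ae34bd760cca8], [nat_lit 169984, nat_lit 165632, nat_lit 161280, nat_lit 157504, nat_lit 153184, nat_lit 148432, nat_lit 144088, nat_lit 140912, nat_lit 136072, nat_lit 132408, nat_lit 846, nat_lit 4224, nat_lit 8304, nat_lit 13264, nat_lit 18112, nat_lit 21248, nat_lit 24832, nat_lit 29184, nat_lit 34304, nat_lit 37888, nat_lit 41592, nat_lit 38235, nat_lit 32792, nat_lit 28682, nat_lit 25656, nat_lit 21010, nat_lit 16422, nat_lit 12416, nat_lit 8210, nat_lit 4104, nat_lit 4]⟩⟩⟩,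
  ⟨[nat_lit 73], [], (nat_lit 126), ⟨[nat_lit 74, nat_lit 93], [nat_lit 3, nat_lit 53], ⟨[nat_lit 0x3de766228110e447c0ae5a6266d540], [nat_lit 173056, nat_lit 167168, nat_lit 157184, nat_lit 153376, nat_lit 148208, nat_lit 143984, nat_lit 140676, nat_lit 136940, nat_lit 131858, nat_lit 256, nat_lit 5904, nat_lit 8216, nat_lit 13120, nat_lit 17632, nat_lit 22464, nat_lit 25472, nat_lit 29440, nat_lit 34304, nat_lit 41358, nat_lit 37216, nat_lit 33356, nat_lit 29710, nat_lit 25106, nat_lit 20555, nat_lit 16425, nat_lit 12324, nat_lit 8202, nat_lit 4097]⟩⟩⟩]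
theorem s348 : Suf yT 2064 (ldrop wS 146) (apW dcM p347) (tgtN dcM p347.e) := Suf.seg (l := l348) (by decide +kernel) s349
def l347 : List AP := [⟨[nat_lit 68, nat_lit 66, nat_lit 69, nat_lit 48], [], (nat_lit 120), ⟨[nat_lit 81, nat_lit 51], [nat_lit 9, nat_lit 64], ⟨[nat_lit 0x359e34567720a8d63950580312c927], [nat_lit 175104, nat_lit 169984, nat_lit 162816, nat_lit 159232, nat_lit 153728, nat_lit 149168, nat_lit 144024, nat_lit 141000, nat_lit 137406, nat_lit 134520, nat_lit 344, nat_lit 5572, nat_lit 8824, nat_lit 12416, nat_lit 17728, nat_lit 21184, nat_lit 25088, nat_lit 41118, nat_lit 37268, nat_lit 33491, nat_lit 28729, nat_lit 24853, nat_lit 20630, nat_lit 16453, nat_lit 12320, nat_lit 8195, nat_lit 4100, nat_lit 2]⟩⟩⟩,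
  ⟨[nat_lit 641, nat_lit 46, nat_lit 54], [], (nat_lit 121), ⟨[nat_lit 39, nat_lit 91], [nat_lit 0, nat_lit 32, nat_lit 52], ⟨[nat_lit 0xa85d159c869d04c429256cac080df7], [nat_lit 174080, nat_lit 164096, nat_lit 162944, nat_lit 156352, nat_lit 153184, nat_lit 150112, nat_lit 145480, nat_lit 142848, nat_lit 138282, nat_lit 134534, nat_lit 796, nat_lit 4328, nat_lit 8976, nat_lit 14112, nat_lit 17792, nat_lit 21760, nat_lit 25600, nat_lit 29184, nat_lit 33792, nat_lit 37888, nat_lit 41035, nat_lit 37339, nat_lit 33296, nat_lit 28981, nat_lit 24587, nat_lit 20629, nat_lit 16520, nat_lit 12291, nat_lit 8209, nat_lit 4097, nat_lit 2]⟩⟩⟩]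
theorem s347 : Suf yT 2064 (ldrop wS 140) (apW dcM p346) (tgtN dcM p346.e) := Suf.seg (l := l347) (by decide +kernel) s348
def l346 : List AP := [⟨[nat_lit 661, nat_lit 171], [], (nat_lit 418), ⟨[nat_lit 0, nat_lit 22, nat_lit 70], [nat_lit 4, nat_lit 56], ⟨[nat_lit 0x98ccf095b0b5d1571e225a55460092], [nat_lit 168448, nat_lit 165632, nat_lit 162688, nat_lit 157440, nat_lit 153504, nat_lit 148864, nat_lit 144008, nat_lit 140500, nat_lit 136212, nat_lit 133009, nat_lit 4396, nat_lit 9784, nat_lit 14192, nat_lit 16416, nat_lit 20608, nat_lit 24704, nat_lit 37888, nat_lit 41914, nat_lit 37237, nat_lit 32844, nat_lit 28679, nat_lit 20504, nat_lit 16424, nat_lit 12322, nat_lit 8322, nat_lit 4104, nat_lit 4]⟩⟩⟩,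
  ⟨[nat_lit 177, nat_lit 176], [], (nat_lit 396), ⟨[nat_lit 0, nat_lit 19, nat_lit 91], [nat_lit 0, nat_lit 15, nat_lit 91], ⟨[nat_lit 0x1c92e59514b308d3883534ef0029f1], [nat_lit 173056, nat_lit 168448, nat_lit 165120, nat_lit 162176, nat_lit 156800, nat_lit 149232, nat_lit 143688, nat_lit 140596, nat_lit 136308, nat_lit 132059, nat_lit 1298, nat_lit 4728, nat_lit 9648, nat_lit 14304, nat_lit 17312, nat_lit 20992, nat_lit 25344, nat_lit 29184, nat_lit 41869, nat_lit 37248, nat_lit 32977, nat_lit 28751, nat_lit 24751, nat_lit 20548, nat_lit 16641, nat_lit 12291, nat_lit 8225, nat_lit 4105, nat_lit 4]⟩⟩⟩]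
theorem s346 : Suf yT 2064 (ldrop wS 125) (apW dcM p345) (tgtN dcM p345.e) := Suf.seg (l := l346) (by decide +kernel) s347
def l345 : List AP := [⟨[nat_lit 56, nat_lit 68, nat_lit 54, nat_lit 57], [], (nat_lit 120), ⟨[nat_lit 0, nat_lit 77, nat_lit 66], [nat_lit 81, nat_lit 52], ⟨[nat_lit 0x640757a08d4dae78cccb104aa901d4], [nat_lit 168448, nat_lit 167424, nat_lit 161408, nat_lit 155968, nat_lit 153536, nat_lit 147696, nat_lit 143488, nat_lit 141168, nat_lit 136838, nat_lit 132631, nat_lit 32, nat_lit 4228, nat_lit 10128, nat_lit 13904, nat_lit 16864, nat_lit 20736, nat_lit 25088, nat_lit 28928, nat_lit 41462, nat_lit 37104, nat_lit 32894, nat_lit 24883, nat_lit 20503, nat_lit 16416, nat_lit 12357, nat_lit 8210, nat_lit 4113, nat_lit 4]⟩⟩⟩,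
  ⟨[nat_lit 69, nat_lit 640, nat_lit 54], [], (nat_lit 121), ⟨[nat_lit 28, nat_lit 60], [nat_lit 0, nat_lit 31, nat_lit 65], ⟨[nat_lit 0x44295658c203ee75b5d19114598c29], [nat_lit 170496, nat_lit 164864, nat_lit 162432, nat_lit 156160, nat_lit 153728, nat_lit 151376, nat_lit 145600, nat_lit 140748, nat_lit 136434, nat_lit 134829, nat_lit 1918, nat_lit 4104, nat_lit 9664, nat_lit 13616, nat_lit 17824, nat_lit 20928, nat_lit 25856, nat_lit 29440, nat_lit 37888, nat_lit 41711, nat_lit 37279, nat_lit 32927, nat_lit 29053, nat_lit 24603, nat_lit 20498, nat_lit 16399, nat_lit 12294, nat_lit 8195, nat_lit 4100]⟩⟩⟩]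
theorem s345 : Suf yT 2064 (ldrop wS 110) (apW dcM p344) (tgtN dcM p344.e) := Suf.seg (l := l345) (by decide +kernel) s346
def l344 : List AP := [⟨[nat_lit 72, nat_lit 49, nat_lit 49, nat_lit 52], [], (nat_lit 120), ⟨[nat_lit 0, nat_lit 76, nat_lit 68], [nat_lit 0, nat_lit 39, nat_lit 55], ⟨[nat_lit 0x128664b8adb2cf58b0142426895c2f], [nat_lit 174080, nat_lit 170496, nat_lit 166144, nat_lit 162048, nat_lit 156096, nat_lit 154272, nat_lit 150624, nat_lit 144104, nat_lit 141856, nat_lit 135704, nat_lit 132651, nat_lit 796, nat_lit 6068, nat_lit 8408, nat_lit 14176, nat_lit 17376, nat_lit 22144, nat_lit 24832, nat_lit 29184, nat_lit 33792, nat_lit 41292, nat_lit 37004, nat_lit 34016, nat_lit 28959, nat_lit 25617, nat_lit 20639, nat_lit 16449, nat_lit 12292, nat_lit 8193, nat_lit 4]⟩⟩⟩,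
  ⟨[nat_lit 70, nat_lit 57, nat_lit 55, nat_lit 52], [], (nat_lit 120), ⟨[nat_lit 17, nat_lit 50], [nat_lit 23, nat_lit 93], ⟨[nat_lit 0xaca6f009d7b11a5540e342d944c426], [nat_lit 168960, nat_lit 164608, nat_lit 160128, nat_lit 156288, nat_lit 152288, nat_lit 147584, nat_lit 144504, nat_lit 142444, nat_lit 137094, nat_lit 131109, nat_lit 116, nat_lit 4100, nat_lit 8704, nat_lit 12960, nat_lit 17312, nat_lit 21952, nat_lit 24960, nat_lit 29184, nat_lit 33792, nat_lit 41818, nat_lit 38218, nat_lit 33974, nat_lit 28946, nat_lit 24763, nat_lit 20626, nat_lit 16522, nat_lit 12322, nat_lit 64]⟩⟩⟩]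
theorem s344 : Suf yT 2064 (ldrop wS 95) (apW dcM p343) (tgtN dcM p343.e) := Suf.seg (l := l344) (by decide +kernel) s345
def l343 : List AP := [⟨[nat_lit 212, nat_lit 170], [], (nat_lit 419), ⟨[nat_lit 12, nat_lit 46], [nat_lit 0, nat_lit 33, nat_lit 49], ⟨[nat_lit 0x9a5ec55af26d02400971716a33a0d0], [nat_lit 171520, nat_lit 165120, nat_lit 163200, nat_lit 156096, nat_lit 154656, nat_lit 151072, nat_lit 146608, nat_lit 139620, nat_lit 135804, nat_lit 135006, nat_lit 760, nat_lit 4708, nat_lit 10104, nat_lit 13312, nat_lit 17216, nat_lit 22144, nat_lit 28928, nat_lit 33280, nat_lit 37888, nat_lit 41921, nat_lit 38325, nat_lit 33920, nat_lit 29703, nat_lit 24577, nat_lit 21007, nat_lit 16418, nat_lit 12307, nat_lit 8323, nat_lit 4105]⟩⟩⟩,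
  ⟨[nat_lit 217, nat_lit 172], [], (nat_lit 396), ⟨[nat_lit 7, nat_lit 69], [nat_lit 45, nat_lit 65], ⟨[nat_lit 0x24aeb1802ea1d11816c9355537b04d], [nat_lit 173056, nat_lit 168960, nat_lit 164352, nat_lit 160896, nat_lit 152992, nat_lit 149104, nat_lit 143368, nat_lit 140136, nat_lit 135976, nat_lit 134665, nat_lit 488, nat_lit 4408, nat_lit 8680, nat_lit 13328, nat_lit 16768, nat_lit 20608, nat_lit 26240, nat_lit 29952, nat_lit 33280, nat_lit 41802, nat_lit 37075, nat_lit 33007, nat_lit 29013, nat_lit 24858, nat_lit 20558, nat_lit 16421, nat_lit 12311, nat_lit 8195, nat_lit 4100, nat_lit 2]⟩⟩⟩]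
theorem s343 : Suf yT 2064 (ldrop wS 89) (apW dcM p342) (tgtN dcM p342.e) := Suf.seg (l := l343) (by decide +kernel) s344
def l342 : List AP := [⟨[nat_lit 641, nat_lit 46, nat_lit 54], [], (nat_lit 121), ⟨[nat_lit 55], [nat_lit 0, nat_lit 26, nat_lit 46], ⟨[nat_lit 0xab24a1a1266d970711e12cc11bd047], [nat_lit 168448, nat_lit 166144, nat_lit 155904, nat_lit 152320, nat_lit 148528, nat_lit 144136, nat_lit 140184, nat_lit 136414, nat_lit 131395, nat_lit 1438, nat_lit 4588, nat_lit 8224, nat_lit 12928, nat_lit 18016, nat_lit 20736, nat_lit 26368, nat_lit 29952, nat_lit 33792, nat_lit 37888, nat_lit 41137, nat_lit 37290, nat_lit 32846, nat_lit 29241, nat_lit 24846, nat_lit 20493, nat_lit 16515, nat_lit 12322, nat_lit 8203, nat_lit 4105]⟩⟩⟩,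
  ⟨[nat_lit 54, nat_lit 642, nat_lit 56, nat_lit 53], [], (nat_lit 1046), ⟨[nat_lit 0, nat_lit 13, nat_lit 69], [nat_lit 88, nat_lit 60], ⟨[nat_lit 0x116c45c4efb81cd1a13584c34648ca], [nat_lit 171008, nat_lit 164096, nat_lit 160384, nat_lit 156032, nat_lit 152288, nat_lit 148992, nat_lit 143808, nat_lit 140772, nat_lit 136152, nat_lit 131972, nat_lit 1298, nat_lit 5436, nat_lit 9528, nat_lit 13152, nat_lit 16416, nat_lit 20992, nat_lit 26496, nat_lit 29696, nat_lit 34304, nat_lit 41957, nat_lit 37013, nat_lit 33972, nat_lit 29203, nat_lit 24857, nat_lit 20496, nat_lit 16416, nat_lit 12354, nat_lit 8322, nat_lit 4104]⟩⟩⟩]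
theorem s342 : Suf yT 2064 (ldrop wS 74) (apW dcM p341) (tgtN dcM p341.e) := Suf.seg (l := l342) (by decide +kernel) s343
def l341 : List AP := [⟨[nat_lit 662, nat_lit 214], [], (nat_lit 396), ⟨[nat_lit 0, nat_lit 88, nat_lit 57], [nat_lit 82, nat_lit 69], ⟨[nat_lit 0x9b2ad7994202dc4b8e414da2881e85], [nat_lit 175104, nat_lit 168448, nat_lit 165376, nat_lit 160128, nat_lit 156288, nat_lit 152256, nat_lit 147728, nat_lit 144752, nat_lit 140956, nat_lit 136052, nat_lit 131182, nat_lit 1054, nat_lit 5584, nat_lit 8320, nat_lit 13248, nat_lit 17600, nat_lit 21504, nat_lit 24704, nat_lit 29184, nat_lit 33792, nat_lit 37888, nat_lit 41783, nat_lit 37069, nat_lit 32786, nat_lit 29261, nat_lit 25097, nat_lit 20483, nat_lit 16642, nat_lit 12805, nat_lit 8257, nat_lit 4129, nat_lit 4]⟩⟩⟩,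
  ⟨[nat_lit 48, nat_lit 54, nat_lit 71, nat_lit 56], [], (nat_lit 120), ⟨[nat_lit 0, nat_lit 73, nat_lit 91], [nat_lit 0, nat_lit 77, nat_lit 48], ⟨[nat_lit 0x28d357cd8e0aee6941b1550e015888], [nat_lit 173056, nat_lit 171008, nat_lit 164864, nat_lit 160512, nat_lit 157760, nat_lit 152320, nat_lit 149200, nat_lit 145680, nat_lit 142392, nat_lit 138322, nat_lit 134382, nat_lit 846, nat_lit 4580, nat_lit 8208, nat_lit 12976, nat_lit 16640, nat_lit 20608, nat_lit 24960, nat_lit 30464, nat_lit 33280, nat_lit 41633, nat_lit 36971, nat_lit 32769, nat_lit 29809, nat_lit 24757, nat_lit 20553, nat_lit 16394, nat_lit 12311, nat_lit 8203, nat_lit 4101]⟩⟩⟩]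
theorem s341 : Suf yT 2064 (ldrop wS 59) (apW dcM p340) (tgtN dcM p340.e) := Suf.seg (l := l341) (by decide +kernel) s342
def l340 : List AP := [⟨[nat_lit 51, nat_lit 55, nat_lit 69], [], (nat_lit 120), ⟨[nat_lit 0, nat_lit 5, nat_lit 93], [nat_lit 0, nat_lit 2, nat_lit 68], ⟨[nat_lit 0x23c46a0ecd920f52dd337280b8b201], [nat_lit 173056, nat_lit 168960, nat_lit 164864, nat_lit 157376, nat_lit 152064, nat_lit 148496, nat_lit 146600, nat_lit 140756, nat_lit 135796, nat_lit 131297, nat_lit 494, nat_lit 4476, nat_lit 8928, nat_lit 12800, nat_lit 16832, nat_lit 22400, nat_lit 25088, nat_lit 29696, nat_lit 34304, nat_lit 37888, nat_lit 41429, nat_lit 37283, nat_lit 33418, nat_lit 29304, nat_lit 24599, nat_lit 20737, nat_lit 16457, nat_lit 8208, nat_lit 4100, nat_lit 64]⟩⟩⟩,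
  ⟨[nat_lit 49, nat_lit 54, nat_lit 642, nat_lit 52, nat_lit 46], [], (nat_lit 1046), ⟨[nat_lit 2, nat_lit 68], [nat_lit 72, nat_lit 93], ⟨[nat_lit 0x714e89582413c0964e2b19a15baa8d], [nat_lit 173056, nat_lit 171520, nat_lit 164096, nat_lit 162560, nat_lit 156288, nat_lit 155296, nat_lit 150176, nat_lit 147296, nat_lit 139404, nat_lit 136560, nat_lit 133269, nat_lit 460, nat_lit 5884, nat_lit 9040, nat_lit 13712, nat_lit 16864, nat_lit 20736, nat_lit 24960, nat_lit 34304, nat_lit 37888, nat_lit 41765, nat_lit 37243, nat_lit 33480, nat_lit 28773, nat_lit 24597, nat_lit 20485, nat_lit 16390, nat_lit 12292, nat_lit 8194, nat_lit 4101, nat_lit 2]⟩⟩⟩]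
theorem s340 : Suf yT 2064 (ldrop wS 44) (apW dcM p339) (tgtN dcM p339.e) := Suf.seg (l := l340) (by decide +kernel) s341
def l339 : List AP := [⟨[nat_lit 68, nat_lit 52, nat_lit 67, nat_lit 67], [], (nat_lit 120), ⟨[nat_lit 0, nat_lit 10], [nat_lit 0, nat_lit 23, nat_lit 64], ⟨[nat_lit 0xaba213916664c542a12ab36401be17], [nat_lit 173056, nat_lit 168448, nat_lit 165120, nat_lit 161536, nat_lit 155712, nat_lit 152640, nat_lit 150512, nat_lit 144640, nat_lit 141124, nat_lit 136236, nat_lit 131969, nat_lit 1124, nat_lit 4160, nat_lit 8968, nat_lit 12304, nat_lit 18208, nat_lit 22336, nat_lit 25600, nat_lit 29440, nat_lit 34304, nat_lit 41609, nat_lit 38003, nat_lit 32799, nat_lit 29194, nat_lit 24624, nat_lit 20498, nat_lit 16431, nat_lit 8209, nat_lit 4128]⟩⟩⟩,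
  ⟨[nat_lit 641, nat_lit 46, nat_lit 54], [], (nat_lit 121), ⟨[nat_lit 17, nat_lit 63], [nat_lit 23, nat_lit 55], ⟨[nat_lit 0x3a816bcdb54128282de90b0728b8a6], [nat_lit 170496, nat_lit 165632, nat_lit 160640, nat_lit 158656, nat_lit 152192, nat_lit 147536, nat_lit 145928, nat_lit 142628, nat_lit 138830, nat_lit 134914, nat_lit 1614, nat_lit 5236, nat_lit 9136, nat_lit 12560, nat_lit 16640, nat_lit 25088, nat_lit 34304, nat_lit 37888, nat_lit 41307, nat_lit 36966, nat_lit 34024, nat_lit 28970, nat_lit 25130, nat_lit 20753, nat_lit 16520, nat_lit 12357, nat_lit 8193, nat_lit 4129]⟩⟩⟩]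
theorem s339 : Suf yT 2064 (ldrop wS 38) (apW dcM p338) (tgtN dcM p338.e) := Suf.seg (l := l339) (by decide +kernel) s340
def l338 : List AP := [⟨[nat_lit 217, nat_lit 172], [], (nat_lit 396), ⟨[nat_lit 3, nat_lit 48], [nat_lit 3, nat_lit 59], ⟨[nat_lit 0x201763c8cd7ce97a9541830434262e], [nat_lit 173056, nat_lit 168448, nat_lit 164352, nat_lit 160640, nat_lit 156544, nat_lit 152928, nat_lit 148752, nat_lit 143512, nat_lit 141008, nat_lit 135172, nat_lit 132746, nat_lit 1292, nat_lit 6084, nat_lit 9648, nat_lit 12544, nat_lit 17568, nat_lit 22208, nat_lit 25728, nat_lit 30208, nat_lit 33280, nat_lit 37888, nat_lit 41946, nat_lit 38362, nat_lit 33932, nat_lit 29774, nat_lit 24887, nat_lit 20548, nat_lit 16524, nat_lit 12304, nat_lit 8227, nat_lit 4100, nat_lit 32]⟩⟩⟩,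
  ⟨[nat_lit 68, nat_lit 642, nat_lit 55, nat_lit 53], [], (nat_lit 1046), ⟨[nat_lit 0, nat_lit 32, nat_lit 69], [nat_lit 0, nat_lit 33, nat_lit 65], ⟨[nat_lit 0x1de6e05a2c7a88d34249a9d7408905], [nat_lit 170496, nat_lit 164096, nat_lit 163328, nat_lit 155968, nat_lit 154816, nat_lit 150944, nat_lit 146128, nat_lit 139424, nat_lit 136308, nat_lit 134034, nat_lit 568, nat_lit 4352, nat_lit 8320, nat_lit 12720, nat_lit 18176, nat_lit 20608, nat_lit 25216, nat_lit 28928, nat_lit 33792, nat_lit 37888, nat_lit 41766, nat_lit 37249, nat_lit 33478, nat_lit 28779, nat_lit 24740, nat_lit 20501, nat_lit 16420, nat_lit 12356, nat_lit 8193, nat_lit 4104]⟩⟩⟩]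
theorem s338 : Suf yT 2064 (ldrop wS 23) (apW dcM p337) (tgtN dcM p337.e) := Suf.seg (l := l338) (by decide +kernel) s339
def l337 : List AP := [⟨[nat_lit 72, nat_lit 69, nat_lit 52, nat_lit 68], [], (nat_lit 120), ⟨[nat_lit 0, nat_lit 43, nat_lit 65], [nat_lit 0, nat_lit 21, nat_lit 65], ⟨[nat_lit 0x4a27285691dcd59bd161118ea2a0d], [nat_lit 164096, nat_lit 161408, nat_lit 155840, nat_lit 153504, nat_lit 148064, nat_lit 144624, nat_lit 139720, nat_lit 137776, nat_lit 133087, nat_lit 494, nat_lit 4160, nat_lit 9912, nat_lit 12576, nat_lit 17728, nat_lit 20544, nat_lit 25472, nat_lit 30464, nat_lit 34304, nat_lit 37888, nat_lit 41746, nat_lit 38250, nat_lit 32845, nat_lit 28676, nat_lit 24849, nat_lit 20499, nat_lit 16429, nat_lit 12308, nat_lit 8195]⟩⟩⟩,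
  ⟨[nat_lit 69, nat_lit 51, nat_lit 53, nat_lit 46], [], (nat_lit 1046), ⟨[nat_lit 0, nat_lit 87, nat_lit 56], [nat_lit 0, nat_lit 34, nat_lit 92], ⟨[nat_lit 0x1c00d0aea73448e2d04853133bda4f], [nat_lit 173056, nat_lit 170496, nat_lit 167424, nat_lit 163072, nat_lit 158848, nat_lit 152096, nat_lit 150032, nat_lit 146184, nat_lit 139892, nat_lit 137606, nat_lit 132122, nat_lit 1488, nat_lit 5080, nat_lit 9928, nat_lit 14176, nat_lit 18176, nat_lit 21952, nat_lit 24960, nat_lit 28928, nat_lit 37888, nat_lit 41932, nat_lit 37001, nat_lit 32770, nat_lit 29277, nat_lit 24637, nat_lit 20503, nat_lit 16426, nat_lit 12295, nat_lit 8200, nat_lit 4]⟩⟩⟩]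
theorem s337 : Suf yT 2064 (ldrop wS 8) (apW dcM p336) (tgtN dcM p336.e) := Suf.seg (l := l337) (by decide +kernel) s338
def l336 : List AP := [⟨[nat_lit 4, nat_lit 4, nat_lit 11, nat_lit 0, nat_lit 1], [], (nat_lit 1030), ⟨[nat_lit 75, nat_lit 58], [nat_lit 40, nat_lit 60], ⟨[nat_lit 0x89850939552302f2dae3a25b358107], [nat_lit 175104, nat_lit 171520, nat_lit 166656, nat_lit 161920, nat_lit 157312, nat_lit 154240, nat_lit 150864, nat_lit 143776, nat_lit 142152, nat_lit 136194, nat_lit 132090, nat_lit 810, nat_lit 4648, nat_lit 9904, nat_lit 13360, nat_lit 18112, nat_lit 22336, nat_lit 24832, nat_lit 33792, nat_lit 41770, nat_lit 37927, nat_lit 33457, nat_lit 28951, nat_lit 24637, nat_lit 20569, nat_lit 16385, nat_lit 12355, nat_lit 8195, nat_lit 4101]⟩⟩⟩,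
  ⟨[nat_lit 631, nat_lit 633, nat_lit 41, nat_lit 629, nat_lit 632, nat_lit 14], [], (nat_lit 90), ⟨[nat_lit 0, nat_lit 36, nat_lit 63], [nat_lit 0, nat_lit 86, nat_lit 64], ⟨[nat_lit 0x194474ce0ba3996addaf9450a090c0], [nat_lit 173056, nat_lit 170496, nat_lit 165632, nat_lit 160384, nat_lit 158784, nat_lit 152128, nat_lit 148800, nat_lit 145456, nat_lit 143152, nat_lit 137294, nat_lit 133254, nat_lit 1024, nat_lit 4684, nat_lit 8792, nat_lit 13264, nat_lit 16832, nat_lit 22080, nat_lit 25984, nat_lit 29696, nat_lit 34304, nat_lit 41475, nat_lit 37315, nat_lit 32827, nat_lit 29248, nat_lit 24605, nat_lit 20747, nat_lit 16420, nat_lit 12352, nat_lit 8202, nat_lit 4097, nat_lit 2]⟩⟩⟩]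
theorem rS17 : Suf yT 2064 wS [yT.get 51] 0 := Suf.seg (l := l336) (by decide +kernel) s337


end

end CF.Mon.Tr
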