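import Cfsg.Agent.Mon.YW

set_option autoImplicit false
set_option maxRecDepth 100000

namespace CF.Mon.Tr

open CF.Comp

noncomputable section

def p350 : AP := ⟨[nat_lit 25, nat_lit 638], [], (nat_lit 68), ⟨[nat_lit 0, nat_lit 13, nat_lit 53], [nat_lit 27, nat_lit 46], ⟨[nat_lit 0xaac7204d366bcce29187440570c554], [nat_lit 173056, nat_lit 169984, nat_lit 164096, nat_lit 161536, nat_lit 159040, nat_lit 153216, nat_lit 149408, nat_lit 146152, nat_lit 142604, nat_lit 137472, nat_lit 133444, nat_lit 622, nat_lit 5500, nat_lit 10104, nat_lit 13840, nat_lit 16800, nat_lit 25344, nat_lit 29696, nat_lit 34304, nat_lit 41313, nat_lit 37003, nat_lit 33809, nat_lit 29254, nat_lit 24759, nat_lit 20481, nat_lit 16452, nat_lit 12305, nat_lit 8202, nat_lit 4105]⟩⟩⟩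
def p351 : AP := ⟨[nat_lit 118, nat_lit 130, nat_lit 110], [], (nat_lit 254), ⟨[nat_lit 0, nat_lit 73, nat_lit 50], [nat_lit 14, nat_lit 51], ⟨[nat_lit 0x5410cb04896c4a69080f74ef5a1c6b], [nat_lit 169472, nat_lit 165632, nat_lit 160896, nat_lit 156224, nat_lit 152480, nat_lit 148320, nat_lit 143592, nat_lit 140908, nat_lit 138338, nat_lit 131829, nat_lit 1860, nat_lit 4104, nat_lit 8824, nat_lit 12320, nat_lit 17376, nat_lit 22272, nat_lit 25344, nat_lit 29696, nat_lit 33280, nat_lit 37888, nat_lit 41513, nat_lit 38131, nat_lit 32866, nat_lit 28795, nat_lit 24636, nat_lit 20568, nat_lit 16397, nat_lit 12290, nat_lit 8208, nat_lit 4]⟩⟩⟩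
def p352 : AP := ⟨[nat_lit 29, nat_lit 637, nat_lit 638, nat_lit 29, nat_lit 26], [], (nat_lit 216), ⟨[nat_lit 0, nat_lit 22, nat_lit 56], [nat_lit 0, nat_lit 12, nat_lit 58], ⟨[nat_lit 0x2464c80d573568d138074950f9d961], [nat_lit 169472, nat_lit 165632, nat_lit 160640, nat_lit 156352, nat_lit 151584, nat_lit 149088, nat_lit 146808, nat_lit 139744, nat_lit 135772, nat_lit 131766, nat_lit 698, nat_lit 5072, nat_lit 8992, nat_lit 13264, nat_lit 16704, nat_lit 22144, nat_lit 24960, nat_lit 29440, nat_lit 34304, nat_lit 37888, nat_lit 41496, nat_lit 38201, nat_lit 33468, nat_lit 28696, nat_lit 24631, nat_lit 20561, nat_lit 16455, nat_lit 12293, nat_lit 8202, nat_lit 4]⟩⟩⟩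
def p353 : AP := ⟨[nat_lit 113, nat_lit 135, nat_lit 111], [], (nat_lit 246), ⟨[nat_lit 8, nat_lit 51], [nat_lit 0, nat_lit 22, nat_lit 62], ⟨[nat_lit 0x1b4c801d4fb416908a35b9644651d3], [nat_lit 175104, nat_lit 168960, nat_lit 164352, nat_lit 162688, nat_lit 156992, nat_lit 151744, nat_lit 150304, nat_lit 146592, nat_lit 141356, nat_lit 137556, nat_lit 134773, nat_lit 1530, nat_lit 5768, nat_lit 8512, nat_lit 12688, nat_lit 16416, nat_lit 20736, nat_lit 26496, nat_lit 29184, nat_lit 37888, nat_lit 41893, nat_lit 37372, nat_lit 32940, nat_lit 28937, nat_lit 24637, nat_lit 20485, nat_lit 16389, nat_lit 12358, nat_lit 8193, nat_lit 4104, nat_lit 2]⟩⟩⟩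
def p354 : AP := ⟨[], [], (nat_lit 255), ⟨[nat_lit 0, nat_lit 14, nat_lit 90], [nat_lit 20, nat_lit 55], ⟨[nat_lit 0x54c80abd09a34c515c2c959d019e2b], [nat_lit 175104, nat_lit 170496, nat_lit 167424, nat_lit 160128, nat_lit 158592, nat_lit 155488, nat_lit 148640, nat_lit 145552, nat_lit 140084, nat_lit 137030, nat_lit 131141, nat_lit 1860, nat_lit 4568, nat_lit 9536, nat_lit 12352, nat_lit 16704, nat_lit 21760, nat_lit 25088, nat_lit 29696, nat_lit 33792, nat_lit 37888, nat_lit 41621, nat_lit 37160, nat_lit 33446, nat_lit 28700, nat_lit 24630, nat_lit 20493, nat_lit 16462, nat_lit 12304, nat_lit 8226, nat_lit 4101, nat_lit 4]⟩⟩⟩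
def p355 : AP := ⟨[nat_lit 26, nat_lit 22, nat_lit 26], [], (nat_lit 68), ⟨[nat_lit 0, nat_lit 75, nat_lit 93], [nat_lit 0, nat_lit 8, nat_lit 63], ⟨[nat_lit 0xaa00b135f63ba4a2a60c8cee119894], [nat_lit 173056, nat_lit 168448, nat_lit 167680, nat_lit 163072, nat_lit 158208, nat_lit 153728, nat_lit 148928, nat_lit 145992, nat_lit 142780, nat_lit 135868, nat_lit 133774, nat_lit 460, nat_lit 4112, nat_lit 10096, nat_lit 12320, nat_lit 16416, nat_lit 22464, nat_lit 25472, nat_lit 29952, nat_lit 41618, nat_lit 38203, nat_lit 33302, nat_lit 28696, nat_lit 24612, nat_lit 20559, nat_lit 16387, nat_lit 12289, nat_lit 8257, nat_lit 4112]⟩⟩⟩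
def p356 : AP := ⟨[nat_lit 21, nat_lit 21, nat_lit 22, nat_lit 23], [], (nat_lit 88), ⟨[nat_lit 0, nat_lit 43, nat_lit 94], [nat_lit 0, nat_lit 37, nat_lit 94], ⟨[nat_lit 0x55062b493034580755e8215770b4f3], [nat_lit 164352, nat_lit 159872, nat_lit 155712, nat_lit 152864, nat_lit 148480, nat_lit 143496, nat_lit 139408, nat_lit 137050, nat_lit 131202, nat_lit 590, nat_lit 5488, nat_lit 9936, nat_lit 13872, nat_lit 17760, nat_lit 21376, nat_lit 29440, nat_lit 37888, nat_lit 41856, nat_lit 37094, nat_lit 29212, nat_lit 20500, nat_lit 16395, nat_lit 12305, nat_lit 8227, nat_lit 4100]⟩⟩⟩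
def p357 : AP := ⟨[nat_lit 636, nat_lit 27, nat_lit 25, nat_lit 21], [], (nat_lit 88), ⟨[nat_lit 0, nat_lit 76, nat_lit 63], [nat_lit 0, nat_lit 14, nat_lit 69], ⟨[nat_lit 0xbc5a2390ca855807d8332a1691ba92], [nat_lit 169472, nat_lit 165632, nat_lit 161280, nat_lit 155840, nat_lit 152608, nat_lit 150832, nat_lit 143976, nat_lit 139896, nat_lit 137208, nat_lit 132050, nat_lit 1810, nat_lit 5604, nat_lit 10144, nat_lit 12304, nat_lit 16416, nat_lit 22400, nat_lit 25856, nat_lit 28928, nat_lit 41904, nat_lit 37040, nat_lit 33901, nat_lit 29027, nat_lit 24876, nat_lit 20549, nat_lit 16386, nat_lit 4112, nat_lit 64]⟩⟩⟩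
def p358 : AP := ⟨[nat_lit 23, nat_lit 31, nat_lit 31, nat_lit 635, nat_lit 24, nat_lit 22], [], (nat_lit 216), ⟨[nat_lit 0, nat_lit 19, nat_lit 60], [nat_lit 81, nat_lit 47], ⟨[nat_lit 0xa0eb63a24d724d1104177ae059914c], [nat_lit 169472, nat_lit 166144, nat_lit 160128, nat_lit 152992, nat_lit 149056, nat_lit 143584, nat_lit 139568, nat_lit 135336, nat_lit 132949, nat_lit 1580, nat_lit 4156, nat_lit 9288, nat_lit 12480, nat_lit 16512, nat_lit 22464, nat_lit 26240, nat_lit 30464, nat_lit 33280, nat_lit 41646, nat_lit 37120, nat_lit 32793, nat_lit 28736, nat_lit 24577, nat_lit 21523, nat_lit 16429, nat_lit 12322, nat_lit 8203, nat_lit 4097, nat_lit 2]⟩⟩⟩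
def p359 : AP := ⟨[nat_lit 21, nat_lit 32, nat_lit 30, nat_lit 22, nat_lit 27], [], (nat_lit 216), ⟨[nat_lit 2], [nat_lit 0, nat_lit 25, nat_lit 53], ⟨[nat_lit 0xa46aa2d84d0c86b25dc041a67825ec], [nat_lit 173056, nat_lit 170496, nat_lit 164096, nat_lit 163072, nat_lit 155968, nat_lit 154432, nat_lit 150944, nat_lit 146752, nat_lit 139588, nat_lit 136120, nat_lit 134098, nat_lit 902, nat_lit 5716, nat_lit 9984, nat_lit 14112, nat_lit 16480, nat_lit 21376, nat_lit 24960, nat_lit 29184, nat_lit 33792, nat_lit 37888, nat_lit 41931, nat_lit 38148, nat_lit 33016, nat_lit 29018, nat_lit 24844, nat_lit 20510, nat_lit 16386, nat_lit 12291, nat_lit 8227, nat_lit 4097]⟩⟩⟩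
def p360 : AP := ⟨[nat_lit 635, nat_lit 29, nat_lit 22, nat_lit 31, nat_lit 26], [], (nat_lit 247), ⟨[nat_lit 1, nat_lit 62], [nat_lit 0, nat_lit 9, nat_lit 59], ⟨[nat_lit 0xa146b0cd8074909898ed51057abe16], [nat_lit 173056, nat_lit 169984, nat_lit 165376, nat_lit 160000, nat_lit 158720, nat_lit 153312, nat_lit 148960, nat_lit 146760, nat_lit 142872, nat_lit 138968, nat_lit 134741, nat_lit 760, nat_lit 4340, nat_lit 9088, nat_lit 14112, nat_lit 18400, nat_lit 21888, nat_lit 26496, nat_lit 30208, nat_lit 34304, nat_lit 37888, nat_lit 41523, nat_lit 38170, nat_lit 33439, nat_lit 29041, nat_lit 24634, nat_lit 20567, nat_lit 16452, nat_lit 12292, nat_lit 8203, nat_lit 4097, nat_lit 2]⟩⟩⟩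
def p361 : AP := ⟨[nat_lit 118, nat_lit 649, nat_lit 109], [], (nat_lit 254), ⟨[nat_lit 25], [nat_lit 0, nat_lit 38, nat_lit 54], ⟨[nat_lit 0x996eb6848703949b0aac93c71450d0], [nat_lit 168448, nat_lit 164608, nat_lit 161536, nat_lit 156480, nat_lit 151680, nat_lit 147472, nat_lit 144120, nat_lit 139532, nat_lit 137504, nat_lit 131587, nat_lit 1246, nat_lit 5120, nat_lit 9496, nat_lit 14032, nat_lit 17600, nat_lit 20736, nat_lit 25600, nat_lit 29184, nat_lit 33792, nat_lit 37888, nat_lit 41082, nat_lit 37074, nat_lit 32804, nat_lit 29256, nat_lit 24579, nat_lit 20748, nat_lit 16520, nat_lit 12322, nat_lit 8450, nat_lit 64]⟩⟩⟩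
def p362 : AP := ⟨[], [], (nat_lit 1034), ⟨[nat_lit 24, nat_lit 93], [nat_lit 41, nat_lit 62], ⟨[nat_lit 0x1ce0c4a9a0710272a2d2a5c4f32e35], [nat_lit 174080, nat_lit 171520, nat_lit 166912, nat_lit 160256, nat_lit 155904, nat_lit 152736, nat_lit 150992, nat_lit 144528, nat_lit 140324, nat_lit 138968, nat_lit 133959, nat_lit 1250, nat_lit 4568, nat_lit 8928, nat_lit 13152, nat_lit 18400, nat_lit 21376, nat_lit 25344, nat_lit 33280, nat_lit 37888, nat_lit 41438, nat_lit 37062, nat_lit 33999, nat_lit 29235, nat_lit 24735, nat_lit 20573, nat_lit 16393, nat_lit 12304, nat_lit 8224, nat_lit 4100, nat_lit 2]⟩⟩⟩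
def l363 : List AP := [⟨[nat_lit 7, nat_lit 6, nat_lit 625], [], (nat_lit 24), ⟨[nat_lit 0, nat_lit 8, nat_lit 50], [nat_lit 26, nat_lit 46], ⟨[nat_lit 0x2b81663e4b80d21ad11368ae431d51], [nat_lit 174080, nat_lit 171520, nat_lit 167424, nat_lit 160384, nat_lit 157696, nat_lit 154784, nat_lit 147952, nat_lit 146808, nat_lit 140328, nat_lit 135438, nat_lit 132214, nat_lit 1298, nat_lit 5544, nat_lit 9952, nat_lit 13152, nat_lit 17408, nat_lit 20544, nat_lit 25344, nat_lit 30464, nat_lit 33280, nat_lit 41900, nat_lit 38308, nat_lit 33913, nat_lit 28946, nat_lit 24765, nat_lit 20561, nat_lit 16392, nat_lit 8193, nat_lit 4128, nat_lit 2]⟩⟩⟩]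
theorem s363 : Suf yT 2080 (ldrop wS 161) (apW dcM p362) (tgtN dcM p362.e) := Suf.fin' (l := l363) (by decide +kernel)
def l362 : List AP := [⟨[nat_lit 113, nat_lit 653, nat_lit 109], [], (nat_lit 246), ⟨[nat_lit 18, nat_lit 52], [nat_lit 0, nat_lit 74], ⟨[nat_lit 0xb1428a0d469bd69addb088980248ee], [nat_lit 173056, nat_lit 169472, nat_lit 164096, nat_lit 161408, nat_lit 157632, nat_lit 151904, nat_lit 149152, nat_lit 147320, nat_lit 140744, nat_lit 136890, nat_lit 131731, nat_lit 810, nat_lit 5276, nat_lit 10160, nat_lit 12304, nat_lit 21632, nat_lit 25600, nat_lit 28928, nat_lit 33792, nat_lit 41772, nat_lit 38045, nat_lit 33513, nat_lit 29195, nat_lit 24832, nat_lit 20610, nat_lit 16399, nat_lit 8211, nat_lit 4112, nat_lit 2]⟩⟩⟩,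
  ⟨[], [], (nat_lit 66), ⟨[nat_lit 85, nat_lit 49], [nat_lit 0, nat_lit 84, nat_lit 68], ⟨[nat_lit 0x785736aa40254624a0b6bb8cc81e34], [nat_lit 175104, nat_lit 171520, nat_lit 166144, nat_lit 160896, nat_lit 156992, nat_lit 152352, nat_lit 150368, nat_lit 144736, nat_lit 140404, nat_lit 138416, nat_lit 135007, nat_lit 1842, nat_lit 4924, nat_lit 9096, nat_lit 13680, nat_lit 17632, nat_lit 20992, nat_lit 26496, nat_lit 29440, nat_lit 41965, nat_lit 36897, nat_lit 33795, nat_lit 29007, nat_lit 24840, nat_lit 20500, nat_lit 16423, nat_lit 12551, nat_lit 4112]⟩⟩⟩]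
theorem s362 : Suf yT 2080 (ldrop wS 146) (apW dcM p361) (tgtN dcM p361.e) := Suf.seg (l := l362) (by decide +kernel) s363
def l361 : List AP := [⟨[nat_lit 120, nat_lit 652, nat_lit 131], [], (nat_lit 246), ⟨[nat_lit 0, nat_lit 87, nat_lit 62], [nat_lit 0, nat_lit 88, nat_lit 60], ⟨[nat_lit 0x4162eaa829208d4bca00b346f3b26b], [nat_lit 174080, nat_lit 170496, nat_lit 165888, nat_lit 161280, nat_lit 157120, nat_lit 152192, nat_lit 151088, nat_lit 143648, nat_lit 139864, nat_lit 138020, nat_lit 134011, nat_lit 1224, nat_lit 4588, nat_lit 8928, nat_lit 12640, nat_lit 18112, nat_lit 21184, nat_lit 25344, nat_lit 29952, nat_lit 41938, nat_lit 37305, nat_lit 33479, nat_lit 28735, nat_lit 24605, nat_lit 20636, nat_lit 16399, nat_lit 12292, nat_lit 8193, nat_lit 4113]⟩⟩⟩,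
  ⟨[nat_lit 23, nat_lit 31, nat_lit 31, nat_lit 635, nat_lit 24, nat_lit 22], [], (nat_lit 216), ⟨[nat_lit 38, nat_lit 54], [nat_lit 0, nat_lit 24, nat_lit 69], ⟨[nat_lit 0xa59c5848cd05668bac314bc8a10cec], [nat_lit 173056, nat_lit 168960, nat_lit 165120, nat_lit 160512, nat_lit 155840, nat_lit 152704, nat_lit 149360, nat_lit 144664, nat_lit 140060, nat_lit 136710, nat_lit 132012, nat_lit 1440, nat_lit 4412, nat_lit 8200, nat_lit 17280, nat_lit 22464, nat_lit 25600, nat_lit 29440, nat_lit 37888, nat_lit 41896, nat_lit 38312, nat_lit 33960, nat_lit 28688, nat_lit 24581, nat_lit 21512, nat_lit 16519, nat_lit 12292, nat_lit 8200, nat_lit 4097, nat_lit 2]⟩⟩⟩]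
theorem s361 : Suf yT 2080 (ldrop wS 140) (apW dcM p360) (tgtN dcM p360.e) := Suf.seg (l := l361) (by decide +kernel) s362
def l360 : List AP := [⟨[], [], (nat_lit 255), ⟨[nat_lit 87, nat_lit 61], [nat_lit 75, nat_lit 63], ⟨[nat_lit 0x5c9d7656292984708c809d9a87d20a], [nat_lit 175104, nat_lit 170496, nat_lit 164608, nat_lit 163072, nat_lit 158720, nat_lit 153920, nat_lit 148864, nat_lit 143592, nat_lit 139708, nat_lit 137930, nat_lit 133587, nat_lit 1874, nat_lit 4964, nat_lit 9232, nat_lit 14032, nat_lit 16544, nat_lit 22208, nat_lit 24832, nat_lit 29696, nat_lit 41054, nat_lit 37137, nat_lit 33511, nat_lit 29036, nat_lit 24627, nat_lit 20545, nat_lit 16385, nat_lit 12289, nat_lit 8451, nat_lit 4129, nat_lit 2]⟩⟩⟩,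
  ⟨[nat_lit 109, nat_lit 137, nat_lit 116], [], (nat_lit 246), ⟨[nat_lit 0, nat_lit 36, nat_lit 90], [nat_lit 0, nat_lit 29, nat_lit 66], ⟨[nat_lit 0x950abbd40d1b90933c811422c3aa76], [nat_lit 175104, nat_lit 170496, nat_lit 164096, nat_lit 163200, nat_lit 158976, nat_lit 154848, nat_lit 148608, nat_lit 144304, nat_lit 139448, nat_lit 138694, nat_lit 134552, nat_lit 902, nat_lit 4340, nat_lit 9096, nat_lit 14256, nat_lit 18112, nat_lit 22272, nat_lit 29952, nat_lit 33280, nat_lit 37888, nat_lit 41693, nat_lit 37166, nat_lit 32851, nat_lit 28701, nat_lit 24586, nat_lit 20507, nat_lit 16428, nat_lit 12327, nat_lit 8200, nat_lit 4113, nat_lit 16]⟩⟩⟩]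
theorem s360 : Suf yT 2080 (ldrop wS 125) (apW dcM p359) (tgtN dcM p359.e) := Suf.seg (l := l360) (by decide +kernel) s361
def l359 : List AP := [⟨[nat_lit 110, nat_lit 649, nat_lit 111], [], (nat_lit 246), ⟨[nat_lit 0, nat_lit 81, nat_lit 59], [nat_lit 17, nat_lit 52], ⟨[nat_lit 0x290c8a85933a969041f6151d1bc86d], [nat_lit 168960, nat_lit 165632, nat_lit 161280, nat_lit 157440, nat_lit 151904, nat_lit 147872, nat_lit 143752, nat_lit 140836, nat_lit 138392, nat_lit 133099, nat_lit 494, nat_lit 4104, nat_lit 10160, nat_lit 13712, nat_lit 18304, nat_lit 21120, nat_lit 25856, nat_lit 30208, nat_lit 33280, nat_lit 41658, nat_lit 37020, nat_lit 32869, nat_lit 29186, nat_lit 24862, nat_lit 20545, nat_lit 16394, nat_lit 12289, nat_lit 8320]⟩⟩⟩,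
  ⟨[nat_lit 26, nat_lit 635, nat_lit 28], [], (nat_lit 89), ⟨[nat_lit 45, nat_lit 91], [nat_lit 79, nat_lit 62], ⟨[nat_lit 0x928cd5d04865dc08248f09cb588e76], [nat_lit 164096, nat_lit 160512, nat_lit 156864, nat_lit 155168, nat_lit 148448, nat_lit 145256, nat_lit 140400, nat_lit 137152, nat_lit 132649, nat_lit 664, nat_lit 4340, nat_lit 9344, nat_lit 12800, nat_lit 17888, nat_lit 20992, nat_lit 26112, nat_lit 29184, nat_lit 33280, nat_lit 37888, nat_lit 41779, nat_lit 38295, nat_lit 32840, nat_lit 28704, nat_lit 24872, nat_lit 20501, nat_lit 16426, nat_lit 12311, nat_lit 8211, nat_lit 4097]⟩⟩⟩]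
theorem s359 : Suf yT 2080 (ldrop wS 110) (apW dcM p358) (tgtN dcM p358.e) := Suf.seg (l := l359) (by decide +kernel) s360
def l358 : List AP := [⟨[nat_lit 24, nat_lit 31, nat_lit 638, nat_lit 21, nat_lit 21], [], (nat_lit 216), ⟨[nat_lit 0, nat_lit 1, nat_lit 47], [nat_lit 12, nat_lit 69], ⟨[nat_lit 0x90df4b91352a98d820d174ec158047], [nat_lit 169472, nat_lit 165120, nat_lit 161024, nat_lit 156736, nat_lit 152960, nat_lit 149584, nat_lit 144176, nat_lit 140228, nat_lit 135178, nat_lit 131447, nat_lit 1166, nat_lit 5256, nat_lit 8208, nat_lit 13264, nat_lit 18272, nat_lit 22016, nat_lit 26240, nat_lit 28928, nat_lit 41649, nat_lit 38351, nat_lit 33422, nat_lit 28783, nat_lit 24605, nat_lit 20639, nat_lit 16426, nat_lit 12304, nat_lit 8195, nat_lit 4101]⟩⟩⟩,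
  ⟨[nat_lit 131, nat_lit 137, nat_lit 112], [], (nat_lit 246), ⟨[nat_lit 0, nat_lit 34, nat_lit 91], [nat_lit 30, nat_lit 53], ⟨[nat_lit 0x430459d1498d8203c0976caae30deb], [nat_lit 173056, nat_lit 168448, nat_lit 165376, nat_lit 161664, nat_lit 157504, nat_lit 153600, nat_lit 148576, nat_lit 144120, nat_lit 139544, nat_lit 135254, nat_lit 132765, nat_lit 1336, nat_lit 4780, nat_lit 10168, nat_lit 13312, nat_lit 17120, nat_lit 20608, nat_lit 25344, nat_lit 29952, nat_lit 41376, nat_lit 36991, nat_lit 32949, nat_lit 29018, nat_lit 24586, nat_lit 16649, nat_lit 12308, nat_lit 8208, nat_lit 4160, nat_lit 128]⟩⟩⟩]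
theorem s358 : Suf yT 2080 (ldrop wS 95) (apW dcM p357) (tgtN dcM p357.e) := Suf.seg (l := l358) (by decide +kernel) s359
def l357 : List AP := [⟨[nat_lit 636, nat_lit 31, nat_lit 25, nat_lit 21], [], (nat_lit 1036), ⟨[nat_lit 85, nat_lit 57], [nat_lit 73, nat_lit 58], ⟨[nat_lit 0x2028cb38269c5104aa4b13ea5bb467], [nat_lit 174080, nat_lit 171008, nat_lit 167168, nat_lit 162048, nat_lit 156352, nat_lit 154432, nat_lit 149936, nat_lit 143968, nat_lit 143272, nat_lit 135354, nat_lit 132366, nat_lit 810, nat_lit 4812, nat_lit 10168, nat_lit 13712, nat_lit 17664, nat_lit 22080, nat_lit 24832, nat_lit 29696, nat_lit 33792, nat_lit 41252, nat_lit 37034, nat_lit 32994, nat_lit 28741, nat_lit 24729, nat_lit 20494, nat_lit 16396, nat_lit 12295, nat_lit 8195, nat_lit 4101]⟩⟩⟩,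
  ⟨[nat_lit 14, nat_lit 14, nat_lit 17, nat_lit 631], [], (nat_lit 70), ⟨[nat_lit 85, nat_lit 50], [nat_lit 0, nat_lit 8, nat_lit 68], ⟨[nat_lit 0x3cae3a82266390f5a5aa98ac4a0605], [nat_lit 173056, nat_lit 168960, nat_lit 164096, nat_lit 161664, nat_lit 155712, nat_lit 151712, nat_lit 148704, nat_lit 144008, nat_lit 139296, nat_lit 135344, nat_lit 134197, nat_lit 128, nat_lit 4160, nat_lit 8256, nat_lit 12320, nat_lit 16512, nat_lit 20608, nat_lit 25344, nat_lit 30208, nat_lit 34304, nat_lit 37888, nat_lit 41925, nat_lit 38212, nat_lit 33815, nat_lit 29002, nat_lit 24851, nat_lit 20489, nat_lit 16385, nat_lit 12320, nat_lit 9218, nat_lit 4100]⟩⟩⟩]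
theorem s357 : Suf yT 2080 (ldrop wS 89) (apW dcM p356) (tgtN dcM p356.e) := Suf.seg (l := l357) (by decide +kernel) s358
def l356 : List AP := [⟨[nat_lit 637, nat_lit 28, nat_lit 25, nat_lit 21], [], (nat_lit 1036), ⟨[nat_lit 0, nat_lit 21, nat_lit 57], [nat_lit 82, nat_lit 63], ⟨[nat_lit 0x24af0a080678513645435a4b6ab9a7], [nat_lit 173056, nat_lit 168448, nat_lit 165376, nat_lit 160384, nat_lit 155840, nat_lit 152864, nat_lit 148144, nat_lit 145000, nat_lit 143292, nat_lit 136466, nat_lit 133104, nat_lit 1178, nat_lit 5488, nat_lit 9672, nat_lit 12576, nat_lit 18336, nat_lit 21632, nat_lit 25600, nat_lit 29696, nat_lit 33792, nat_lit 37888, nat_lit 41746, nat_lit 38325, nat_lit 32964, nat_lit 28780, nat_lit 24620, nat_lit 20492, nat_lit 16399, nat_lit 12306, nat_lit 8201, nat_lit 4097]⟩⟩⟩,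
  ⟨[nat_lit 38, nat_lit 40, nat_lit 16, nat_lit 40], [], (nat_lit 70), ⟨[nat_lit 0, nat_lit 20, nat_lit 69], [nat_lit 16, nat_lit 56], ⟨[nat_lit 0x730e505ea16bc864c9501587442e71], [nat_lit 175104, nat_lit 169472, nat_lit 165120, nat_lit 160768, nat_lit 158720, nat_lit 154656, nat_lit 150464, nat_lit 143584, nat_lit 143236, nat_lit 135316, nat_lit 134154, nat_lit 1652, nat_lit 5688, nat_lit 9032, nat_lit 14128, nat_lit 18176, nat_lit 20608, nat_lit 24832, nat_lit 29184, nat_lit 33280, nat_lit 37888, nat_lit 41348, nat_lit 36966, nat_lit 32833, nat_lit 28729, nat_lit 24842, nat_lit 20632, nat_lit 16520, nat_lit 12354, nat_lit 8705]⟩⟩⟩]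
theorem s356 : Suf yT 2080 (ldrop wS 74) (apW dcM p355) (tgtN dcM p355.e) := Suf.seg (l := l356) (by decide +kernel) s357
def l355 : List AP := [⟨[nat_lit 113, nat_lit 649], [], (nat_lit 246), ⟨[nat_lit 0, nat_lit 27, nat_lit 59], [nat_lit 44, nat_lit 51], ⟨[nat_lit 0x3a2863ea6259692c2f209e831366a], [nat_lit 174080, nat_lit 171008, nat_lit 167424, nat_lit 160896, nat_lit 159680, nat_lit 154944, nat_lit 148768, nat_lit 147088, nat_lit 140372, nat_lit 135484, nat_lit 132636, nat_lit 122, nat_lit 5024, nat_lit 9560, nat_lit 13392, nat_lit 17728, nat_lit 22336, nat_lit 25344, nat_lit 29952, nat_lit 41621, nat_lit 38244, nat_lit 32824, nat_lit 29225, nat_lit 24736, nat_lit 20504, nat_lit 16424, nat_lit 12324, nat_lit 8195, nat_lit 4100]⟩⟩⟩,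
  ⟨[nat_lit 23, nat_lit 637, nat_lit 637, nat_lit 24], [], (nat_lit 88), ⟨[nat_lit 0, nat_lit 21, nat_lit 46], [nat_lit 10, nat_lit 49], ⟨[nat_lit 0x5592ebb611ab04019e680acd2a11e5], [nat_lit 169472, nat_lit 166144, nat_lit 163328, nat_lit 158400, nat_lit 153984, nat_lit 147472, nat_lit 146544, nat_lit 143072, nat_lit 135630, nat_lit 133935, nat_lit 364, nat_lit 5296, nat_lit 10144, nat_lit 14144, nat_lit 25088, nat_lit 29696, nat_lit 33792, nat_lit 37888, nat_lit 41131, nat_lit 37057, nat_lit 32897, nat_lit 28673, nat_lit 25088, nat_lit 21534, nat_lit 16420, nat_lit 13314, nat_lit 8224, nat_lit 5120]⟩⟩⟩]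
theorem s355 : Suf yT 2080 (ldrop wS 59) (apW dcM p354) (tgtN dcM p354.e) := Suf.seg (l := l355) (by decide +kernel) s356
def l354 : List AP := [⟨[nat_lit 635, nat_lit 25, nat_lit 638, nat_lit 29], [], (nat_lit 88), ⟨[nat_lit 0, nat_lit 24], [nat_lit 0, nat_lit 85, nat_lit 51], ⟨[nat_lit 0x5de6253ce8199a02b2b68c1c40a654], [nat_lit 174080, nat_lit 169984, nat_lit 166400, nat_lit 159872, nat_lit 158400, nat_lit 155104, nat_lit 149488, nat_lit 146688, nat_lit 139956, nat_lit 136878, nat_lit 131152, nat_lit 664, nat_lit 5572, nat_lit 9664, nat_lit 14176, nat_lit 22400, nat_lit 25728, nat_lit 30208, nat_lit 37888, nat_lit 41672, nat_lit 37195, nat_lit 32937, nat_lit 29013, nat_lit 24756, nat_lit 20624, nat_lit 16392, nat_lit 12294, nat_lit 8200, nat_lit 4100, nat_lit 256]⟩⟩⟩,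
  ⟨[nat_lit 21, nat_lit 32, nat_lit 634, nat_lit 638, nat_lit 26], [], (nat_lit 216), ⟨[nat_lit 8, nat_lit 64], [nat_lit 0, nat_lit 43, nat_lit 55], ⟨[nat_lit 0x621c0b40ed4ce411a88589aafbac54], [nat_lit 165120, nat_lit 160128, nat_lit 159488, nat_lit 152448, nat_lit 148896, nat_lit 144128, nat_lit 139968, nat_lit 137154, nat_lit 132909, nat_lit 1108, nat_lit 5084, nat_lit 8256, nat_lit 14144, nat_lit 17440, nat_lit 20544, nat_lit 26112, nat_lit 34304, nat_lit 37888, nat_lit 41536, nat_lit 37239, nat_lit 33463, nat_lit 29035, nat_lit 24857, nat_lit 20501, nat_lit 16429, nat_lit 12305, nat_lit 8194, nat_lit 4100, nat_lit 8]⟩⟩⟩]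
theorem s354 : Suf yT 2080 (ldrop wS 44) (apW dcM p353) (tgtN dcM p353.e) := Suf.seg (l := l354) (by decide +kernel) s355
def l353 : List AP := [⟨[nat_lit 137, nat_lit 112], [], (nat_lit 246), ⟨[nat_lit 0, nat_lit 78, nat_lit 59], [nat_lit 6, nat_lit 62], ⟨[nat_lit 0x5807784689205d253eac988cdb14e8], [nat_lit 171008, nat_lit 161408, nat_lit 157184, nat_lit 153120, nat_lit 149152, nat_lit 145192, nat_lit 140144, nat_lit 135578, nat_lit 131230, nat_lit 1438, nat_lit 5668, nat_lit 8912, nat_lit 13328, nat_lit 16960, nat_lit 21184, nat_lit 25472, nat_lit 29696, nat_lit 41620, nat_lit 37216, nat_lit 32778, nat_lit 29716, nat_lit 25090, nat_lit 20557, nat_lit 17411, nat_lit 12324, nat_lit 8211, nat_lit 4104, nat_lit 2]⟩⟩⟩,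
  ⟨[nat_lit 23, nat_lit 31, nat_lit 31, nat_lit 635, nat_lit 24, nat_lit 22], [], (nat_lit 216), ⟨[nat_lit 81, nat_lit 54], [nat_lit 0, nat_lit 44, nat_lit 58], ⟨[nat_lit 0x644970b90d018ab92a033d66f4d854], [nat_lit 174080, nat_lit 171520, nat_lit 165888, nat_lit 162944, nat_lit 156032, nat_lit 154656, nat_lit 150448, nat_lit 144432, nat_lit 141792, nat_lit 135228, nat_lit 131161, nat_lit 664, nat_lit 5568, nat_lit 10128, nat_lit 12528, nat_lit 18336, nat_lit 20864, nat_lit 25728, nat_lit 29440, nat_lit 41071, nat_lit 37284, nat_lit 33496, nat_lit 29191, nat_lit 24577, nat_lit 20489, nat_lit 16396, nat_lit 12310, nat_lit 8193, nat_lit 4104, nat_lit 4]⟩⟩⟩]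
theorem s353 : Suf yT 2080 (ldrop wS 38) (apW dcM p352) (tgtN dcM p352.e) := Suf.seg (l := l353) (by decide +kernel) s354
def l352 : List AP := [⟨[], [], (nat_lit 217), ⟨[nat_lit 18, nat_lit 67], [nat_lit 0, nat_lit 14, nat_lit 64], ⟨[nat_lit 0x63ce5311cd9883288c10aa1564aef4], [nat_lit 168448, nat_lit 164352, nat_lit 161536, nat_lit 156544, nat_lit 152480, nat_lit 150704, nat_lit 144240, nat_lit 140852, nat_lit 137102, nat_lit 131725, nat_lit 1108, nat_lit 5112, nat_lit 9752, nat_lit 13712, nat_lit 16480, nat_lit 20672, nat_lit 30208, nat_lit 41904, nat_lit 37100, nat_lit 33856, nat_lit 28759, nat_lit 24601, nat_lit 20496, nat_lit 16421, nat_lit 12359, nat_lit 8200, nat_lit 4101, nat_lit 2]⟩⟩⟩,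
  ⟨[nat_lit 21, nat_lit 636, nat_lit 638, nat_lit 25], [], (nat_lit 89), ⟨[nat_lit 21, nat_lit 52], [nat_lit 19, nat_lit 67], ⟨[nat_lit 0x2d64f819970a0603c68e6cec458949], [nat_lit 174080, nat_lit 165632, nat_lit 160128, nat_lit 153280, nat_lit 148944, nat_lit 145232, nat_lit 140700, nat_lit 135178, nat_lit 132466, nat_lit 724, nat_lit 4548, nat_lit 9216, nat_lit 12816, nat_lit 17408, nat_lit 21824, nat_lit 26496, nat_lit 41167, nat_lit 37290, nat_lit 32884, nat_lit 29207, nat_lit 24609, nat_lit 20504, nat_lit 12294, nat_lit 4097, nat_lit 2]⟩⟩⟩]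
theorem s352 : Suf yT 2080 (ldrop wS 23) (apW dcM p351) (tgtN dcM p351.e) := Suf.seg (l := l352) (by decide +kernel) s353
def l351 : List AP := [⟨[nat_lit 31, nat_lit 31, nat_lit 25, nat_lit 21], [], (nat_lit 88), ⟨[nat_lit 19, nat_lit 56], [nat_lit 84, nat_lit 53], ⟨[nat_lit 0x5c9a241a8a4c1c065de49d62708cb6], [nat_lit 174080, nat_lit 169472, nat_lit 160128, nat_lit 156736, nat_lit 151680, nat_lit 149312, nat_lit 144144, nat_lit 141080, nat_lit 136694, nat_lit 132654, nat_lit 1720, nat_lit 4224, nat_lit 8872, nat_lit 12416, nat_lit 16512, nat_lit 22016, nat_lit 26368, nat_lit 29184, nat_lit 34304, nat_lit 41947, nat_lit 36896, nat_lit 33867, nat_lit 28944, nat_lit 25648, nat_lit 20492, nat_lit 16655, nat_lit 12309, nat_lit 8211, nat_lit 4104]⟩⟩⟩,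
  ⟨[nat_lit 22, nat_lit 22, nat_lit 635, nat_lit 638], [], (nat_lit 216), ⟨[nat_lit 82, nat_lit 92], [nat_lit 0, nat_lit 36], ⟨[nat_lit 0x5d90c49c522928d1d5c1bbe119980a], [nat_lit 175104, nat_lit 169472, nat_lit 164096, nat_lit 163328, nat_lit 157184, nat_lit 151584, nat_lit 149648, nat_lit 146696, nat_lit 141884, nat_lit 138022, nat_lit 133652, nat_lit 786, nat_lit 5276, nat_lit 9096, nat_lit 12624, nat_lit 17664, nat_lit 20864, nat_lit 30464, nat_lit 34304, nat_lit 41917, nat_lit 38244, nat_lit 33966, nat_lit 29212, nat_lit 24704, nat_lit 20487, nat_lit 16646, nat_lit 12801, nat_lit 8193, nat_lit 4]⟩⟩⟩]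
theorem s351 : Suf yT 2080 (ldrop wS 8) (apW dcM p350) (tgtN dcM p350.e) := Suf.seg (l := l351) (by decide +kernel) s352
def l350 : List AP := [⟨[nat_lit 11, nat_lit 0, nat_lit 626, nat_lit 1, nat_lit 1, nat_lit 5], [], (nat_lit 26), ⟨[nat_lit 0, nat_lit 31, nat_lit 91], [nat_lit 0, nat_lit 76, nat_lit 66], ⟨[nat_lit 0xb1e82520041958eaa66f6de0b88646], [nat_lit 169472, nat_lit 167424, nat_lit 159872, nat_lit 157184, nat_lit 151808, nat_lit 148304, nat_lit 143640, nat_lit 139284, nat_lit 136288, nat_lit 132972, nat_lit 1024, nat_lit 12752, nat_lit 16896, nat_lit 21632, nat_lit 25088, nat_lit 30208, nat_lit 37888, nat_lit 41973, nat_lit 38132, nat_lit 32824, nat_lit 29749, nat_lit 24720, nat_lit 20764, nat_lit 16458, nat_lit 12306, nat_lit 8226, nat_lit 4100, nat_lit 512]⟩⟩⟩,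
  ⟨[nat_lit 43, nat_lit 38, nat_lit 36, nat_lit 631, nat_lit 42], [], (nat_lit 70), ⟨[nat_lit 0, nat_lit 28, nat_lit 90], [nat_lit 0, nat_lit 29, nat_lit 68], ⟨[nat_lit 0x24ea0a0647525e86b96c80ee5b0a26], [nat_lit 168448, nat_lit 164864, nat_lit 160384, nat_lit 151680, nat_lit 147520, nat_lit 145024, nat_lit 139304, nat_lit 137620, nat_lit 133055, nat_lit 1720, nat_lit 4608, nat_lit 8704, nat_lit 12976, nat_lit 17120, nat_lit 22016, nat_lit 25600, nat_lit 29184, nat_lit 33280, nat_lit 41562, nat_lit 36866, nat_lit 32908, nat_lit 28703, nat_lit 25663, nat_lit 20558, nat_lit 16525, nat_lit 12320, nat_lit 8194, nat_lit 8]⟩⟩⟩]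
theorem rS18 : Suf yT 2080 wS [yT.get 52] 0 := Suf.seg (l := l350) (by decide +kernel) s351

def p364 : AP := ⟨[nat_lit 214, nat_lit 170], [], (nat_lit 392), ⟨[nat_lit 16, nat_lit 63], [nat_lit 2, nat_lit 57], ⟨[nat_lit 0xbb4096057629e0650a8f8ce4443875], [nat_lit 173056, nat_lit 160512, nat_lit 157120, nat_lit 153216, nat_lit 149088, nat_lit 145360, nat_lit 141060, nat_lit 138494, nat_lit 132799, nat_lit 1760, nat_lit 4104, nat_lit 10168, nat_lit 12544, nat_lit 16640, nat_lit 21056, nat_lit 25856, nat_lit 30464, nat_lit 33792, nat_lit 37888, nat_lit 41493, nat_lit 38349, nat_lit 32802, nat_lit 29266, nat_lit 24595, nat_lit 20508, nat_lit 16394, nat_lit 12290, nat_lit 8194]⟩⟩⟩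
def p365 : AP := ⟨[nat_lit 218, nat_lit 176], [], (nat_lit 396), ⟨[nat_lit 0, nat_lit 40, nat_lit 92], [nat_lit 0, nat_lit 74, nat_lit 92], ⟨[nat_lit 0x2051300ecd2b2a6888e985e4fa296e], [nat_lit 169472, nat_lit 159872, nat_lit 157056, nat_lit 153376, nat_lit 148192, nat_lit 145408, nat_lit 139460, nat_lit 136442, nat_lit 133050, nat_lit 166, nat_lit 5072, nat_lit 10168, nat_lit 12320, nat_lit 17888, nat_lit 21184, nat_lit 26368, nat_lit 29952, nat_lit 33280, nat_lit 37888, nat_lit 41451, nat_lit 36991, nat_lit 33933, nat_lit 28776, nat_lit 24731, nat_lit 20481, nat_lit 16451, nat_lit 8193, nat_lit 4]⟩⟩⟩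
def p366 : AP := ⟨[nat_lit 72, nat_lit 72, nat_lit 640, nat_lit 46], [], (nat_lit 120), ⟨[nat_lit 0, nat_lit 22, nat_lit 55], [nat_lit 0, nat_lit 36, nat_lit 58], ⟨[nat_lit 0xb0d6783a3250aa66bd93a0524ba005], [nat_lit 174080, nat_lit 171520, nat_lit 165888, nat_lit 162944, nat_lit 156224, nat_lit 154208, nat_lit 150288, nat_lit 144760, nat_lit 143144, nat_lit 135234, nat_lit 132477, nat_lit 128, nat_lit 5276, nat_lit 9904, nat_lit 13072, nat_lit 16640, nat_lit 20608, nat_lit 25088, nat_lit 34304, nat_lit 41914, nat_lit 38078, nat_lit 33363, nat_lit 29812, nat_lit 24714, nat_lit 21533, nat_lit 16388, nat_lit 12423, nat_lit 4128, nat_lit 2]⟩⟩⟩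
def p367 : AP := ⟨[nat_lit 639, nat_lit 49], [], (nat_lit 1038), ⟨[nat_lit 3, nat_lit 64], [nat_lit 0, nat_lit 26, nat_lit 65], ⟨[nat_lit 0x456cb89a454aa97392130b1c36880f], [nat_lit 175104, nat_lit 161024, nat_lit 156160, nat_lit 152736, nat_lit 148992, nat_lit 145128, nat_lit 140516, nat_lit 137198, nat_lit 132151, nat_lit 1896, nat_lit 5296, nat_lit 9216, nat_lit 12928, nat_lit 16672, nat_lit 20928, nat_lit 25984, nat_lit 30208, nat_lit 33792, nat_lit 37888, nat_lit 41742, nat_lit 38158, nat_lit 34041, nat_lit 28692, nat_lit 24887, nat_lit 20490, nat_lit 16524, nat_lit 12309, nat_lit 4129, nat_lit 2]⟩⟩⟩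
def p368 : AP := ⟨[nat_lit 50], [], (nat_lit 1046), ⟨[nat_lit 0, nat_lit 21, nat_lit 50], [nat_lit 0, nat_lit 27, nat_lit 52], ⟨[nat_lit 0x75d8299d2d80656895eaa200ba8cc4], [nat_lit 174080, nat_lit 168448, nat_lit 164096, nat_lit 162304, nat_lit 155968, nat_lit 153408, nat_lit 149632, nat_lit 146544, nat_lit 142996, nat_lit 137364, nat_lit 133981, nat_lit 1166, nat_lit 6104, nat_lit 8800, nat_lit 12304, nat_lit 17408, nat_lit 22080, nat_lit 24704, nat_lit 30464, nat_lit 41233, nat_lit 36927, nat_lit 33965, nat_lit 28774, nat_lit 24634, nat_lit 20501, nat_lit 16387, nat_lit 12292, nat_lit 8201, nat_lit 4112]⟩⟩⟩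
def p369 : AP := ⟨[nat_lit 215, nat_lit 177], [], (nat_lit 396), ⟨[nat_lit 80, nat_lit 53], [nat_lit 83, nat_lit 64], ⟨[nat_lit 0x6c8a23a684b2c6154e17044cf6550e], [nat_lit 175104, nat_lit 167680, nat_lit 163200, nat_lit 158016, nat_lit 152256, nat_lit 148112, nat_lit 145176, nat_lit 143296, nat_lit 138688, nat_lit 131555, nat_lit 342, nat_lit 5316, nat_lit 9904, nat_lit 13552, nat_lit 17024, nat_lit 21760, nat_lit 26368, nat_lit 30208, nat_lit 33792, nat_lit 41730, nat_lit 38176, nat_lit 32981, nat_lit 29015, nat_lit 24839, nat_lit 20502, nat_lit 16394, nat_lit 8195, nat_lit 4]⟩⟩⟩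
def p370 : AP := ⟨[nat_lit 52, nat_lit 68, nat_lit 69, nat_lit 70], [], (nat_lit 1046), ⟨[nat_lit 72, nat_lit 47], [nat_lit 34, nat_lit 67], ⟨[nat_lit 0x408ee2812f58da484e543058aade36], [nat_lit 173056, nat_lit 169472, nat_lit 164864, nat_lit 161664, nat_lit 155776, nat_lit 152608, nat_lit 148480, nat_lit 145320, nat_lit 140556, nat_lit 137184, nat_lit 134198, nat_lit 184, nat_lit 5208, nat_lit 9328, nat_lit 12976, nat_lit 16864, nat_lit 22464, nat_lit 24960, nat_lit 30464, nat_lit 37888, nat_lit 41763, nat_lit 38100, nat_lit 33438, nat_lit 29256, nat_lit 24625, nat_lit 20572, nat_lit 16394, nat_lit 12290, nat_lit 4105, nat_lit 2]⟩⟩⟩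
def p371 : AP := ⟨[nat_lit 66, nat_lit 57, nat_lit 49, nat_lit 72], [], (nat_lit 1046), ⟨[nat_lit 0, nat_lit 8], [nat_lit 2, nat_lit 93], ⟨[nat_lit 0x8d2c4ba5823cdcd406af28c1251a0b], [nat_lit 175104, nat_lit 168448, nat_lit 166400, nat_lit 161920, nat_lit 157952, nat_lit 151584, nat_lit 147856, nat_lit 145376, nat_lit 142812, nat_lit 138352, nat_lit 132629, nat_lit 1224, nat_lit 5508, nat_lit 8792, nat_lit 13904, nat_lit 20736, nat_lit 25600, nat_lit 30208, nat_lit 41498, nat_lit 38322, nat_lit 33490, nat_lit 28763, nat_lit 24590, nat_lit 20744, nat_lit 16416, nat_lit 12355, nat_lit 8203, nat_lit 8]⟩⟩⟩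
def p372 : AP := ⟨[nat_lit 179, nat_lit 216], [], (nat_lit 396), ⟨[nat_lit 25, nat_lit 94], [nat_lit 0, nat_lit 72, nat_lit 89], ⟨[nat_lit 0x72c4f5180448ef640651a9e0ca166d], [nat_lit 174080, nat_lit 168448, nat_lit 164352, nat_lit 161280, nat_lit 156672, nat_lit 152096, nat_lit 148624, nat_lit 144552, nat_lit 140520, nat_lit 136898, nat_lit 131569, nat_lit 1516, nat_lit 5024, nat_lit 8728, nat_lit 14144, nat_lit 16512, nat_lit 21504, nat_lit 24704, nat_lit 29696, nat_lit 33792, nat_lit 37888, nat_lit 41683, nat_lit 37365, nat_lit 33525, nat_lit 28736, nat_lit 24720, nat_lit 20488, nat_lit 16454, nat_lit 12320, nat_lit 8210, nat_lit 4097]⟩⟩⟩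
def p373 : AP := ⟨[nat_lit 642, nat_lit 56, nat_lit 640, nat_lit 46], [], (nat_lit 120), ⟨[nat_lit 0, nat_lit 10, nat_lit 47], [nat_lit 49], ⟨[nat_lit 0x3a2b2111e602dca6da838b2019a4b7], [nat_lit 173056, nat_lit 169472, nat_lit 165632, nat_lit 161024, nat_lit 153504, nat_lit 150448, nat_lit 144904, nat_lit 139456, nat_lit 137164, nat_lit 132273, nat_lit 1124, nat_lit 5444, nat_lit 9192, nat_lit 13856, nat_lit 16512, nat_lit 22016, nat_lit 25600, nat_lit 29696, nat_lit 33792, nat_lit 41546, nat_lit 38290, nat_lit 33376, nat_lit 28752, nat_lit 24704, nat_lit 20744, nat_lit 16398, nat_lit 12305, nat_lit 8201, nat_lit 4100]⟩⟩⟩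
def p374 : AP := ⟨[nat_lit 47, nat_lit 57, nat_lit 642, nat_lit 68], [], (nat_lit 1046), ⟨[nat_lit 0, nat_lit 21, nat_lit 61], [nat_lit 36, nat_lit 50], ⟨[nat_lit 0x1d0ae542710d5a4bbc0692169b08ec], [nat_lit 173056, nat_lit 164864, nat_lit 160640, nat_lit 158528, nat_lit 152224, nat_lit 149024, nat_lit 143408, nat_lit 139524, nat_lit 135234, nat_lit 132344, nat_lit 1440, nat_lit 4476, nat_lit 8256, nat_lit 14160, nat_lit 17408, nat_lit 21376, nat_lit 25088, nat_lit 28928, nat_lit 34304, nat_lit 37888, nat_lit 41280, nat_lit 37331, nat_lit 33427, nat_lit 29301, nat_lit 20500, nat_lit 16430, nat_lit 12289, nat_lit 4097, nat_lit 2]⟩⟩⟩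
def p375 : AP := ⟨[nat_lit 176, nat_lit 214], [], (nat_lit 396), ⟨[nat_lit 31, nat_lit 64], [nat_lit 0, nat_lit 37, nat_lit 93], ⟨[nat_lit 0x330ad8a20a79c8e182b65ce49a0457], [nat_lit 168448, nat_lit 166656, nat_lit 161024, nat_lit 155712, nat_lit 152640, nat_lit 149152, nat_lit 144224, nat_lit 139684, nat_lit 136710, nat_lit 132274, nat_lit 1396, nat_lit 4100, nat_lit 8448, nat_lit 13488, nat_lit 18336, nat_lit 20736, nat_lit 25088, nat_lit 30464, nat_lit 41103, nat_lit 37184, nat_lit 32989, nat_lit 29021, nat_lit 24611, nat_lit 20489, nat_lit 16655, nat_lit 12321, nat_lit 8194, nat_lit 4100]⟩⟩⟩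
def p376 : AP := ⟨[nat_lit 214, nat_lit 170], [], (nat_lit 390), ⟨[nat_lit 6, nat_lit 55], [nat_lit 0, nat_lit 34, nat_lit 69], ⟨[nat_lit 0x33594246b2526c72dc4182de01b913], [nat_lit 173056, nat_lit 171520, nat_lit 160896, nat_lit 157312, nat_lit 152448, nat_lit 148368, nat_lit 143952, nat_lit 141032, nat_lit 136090, nat_lit 131076, nat_lit 78, nat_lit 4428, nat_lit 9648, nat_lit 12800, nat_lit 18400, nat_lit 20992, nat_lit 26368, nat_lit 29440, nat_lit 33280, nat_lit 41254, nat_lit 37117, nat_lit 32798, nat_lit 29205, nat_lit 24744, nat_lit 16653, nat_lit 4113]⟩⟩⟩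
def l377 : List AP := [⟨[], [], (nat_lit 1034), ⟨[nat_lit 0, nat_lit 46], [nat_lit 45, nat_lit 58], ⟨[nat_lit 0x2004e0d608b36e53296f9a47491e2c], [nat_lit 175104, nat_lit 169984, nat_lit 164096, nat_lit 163712, nat_lit 158144, nat_lit 155072, nat_lit 148400, nat_lit 144424, nat_lit 140064, nat_lit 138130, nat_lit 134939, nat_lit 2012, nat_lit 4924, nat_lit 8824, nat_lit 13760, nat_lit 17152, nat_lit 21120, nat_lit 25728, nat_lit 29952, nat_lit 41401, nat_lit 37315, nat_lit 33512, nat_lit 29192, nat_lit 24712, nat_lit 20740, nat_lit 17418, nat_lit 12324, nat_lit 4097]⟩⟩⟩]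
theorem s377 : Suf yT 2112 (ldrop wS 161) (apW dcM p376) (tgtN dcM p376.e) := Suf.fin' (l := l377) (by decide +kernel)
def l376 : List AP := [⟨[nat_lit 643, nat_lit 71, nat_lit 69, nat_lit 49], [], (nat_lit 1046), ⟨[nat_lit 0, nat_lit 79, nat_lit 91], [nat_lit 41, nat_lit 68], ⟨[nat_lit 0x2a50da1aaf9c08e184ec02a5612e37], [nat_lit 174080, nat_lit 169472, nat_lit 164352, nat_lit 156608, nat_lit 152608, nat_lit 147936, nat_lit 144112, nat_lit 141216, nat_lit 136052, nat_lit 131101, nat_lit 116, nat_lit 4568, nat_lit 8704, nat_lit 12992, nat_lit 16704, nat_lit 22400, nat_lit 26368, nat_lit 30464, nat_lit 33792, nat_lit 41919, nat_lit 38192, nat_lit 34009, nat_lit 29199, nat_lit 24846, nat_lit 20561, nat_lit 16420, nat_lit 12305, nat_lit 8202, nat_lit 4100]⟩⟩⟩,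
  ⟨[nat_lit 659], [], (nat_lit 393), ⟨[nat_lit 18, nat_lit 51], [nat_lit 82, nat_lit 89], ⟨[nat_lit 0xbcd671d1d5932001290f095a489936], [nat_lit 173056, nat_lit 168960, nat_lit 157440, nat_lit 153600, nat_lit 147472, nat_lit 144824, nat_lit 140524, nat_lit 135990, nat_lit 132061, nat_lit 664, nat_lit 5604, nat_lit 9624, nat_lit 13536, nat_lit 16416, nat_lit 22464, nat_lit 25472, nat_lit 28928, nat_lit 34304, nat_lit 37888, nat_lit 41952, nat_lit 37164, nat_lit 33476, nat_lit 28933, nat_lit 24615, nat_lit 20548, nat_lit 12421, nat_lit 8259]⟩⟩⟩]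
theorem s376 : Suf yT 2112 (ldrop wS 146) (apW dcM p375) (tgtN dcM p375.e) := Suf.seg (l := l376) (by decide +kernel) s377
def l375 : List AP := [⟨[nat_lit 661, nat_lit 219, nat_lit 170], [], (nat_lit 396), ⟨[nat_lit 12, nat_lit 47], [nat_lit 33, nat_lit 68], ⟨[nat_lit 0x708ca48cad404ec94235b4e975bc04], [nat_lit 173056, nat_lit 169472, nat_lit 164352, nat_lit 161024, nat_lit 157184, nat_lit 151744, nat_lit 147488, nat_lit 146944, nat_lit 140772, nat_lit 136488, nat_lit 132186, nat_lit 16, nat_lit 5064, nat_lit 8968, nat_lit 12304, nat_lit 18240, nat_lit 22016, nat_lit 25728, nat_lit 29952, nat_lit 33792, nat_lit 37888, nat_lit 41303, nat_lit 37208, nat_lit 33011, nat_lit 28792, nat_lit 24621, nat_lit 20558, nat_lit 16525, nat_lit 12290, nat_lit 8209, nat_lit 4105, nat_lit 2]⟩⟩⟩,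
  ⟨[nat_lit 50], [], (nat_lit 1046), ⟨[nat_lit 0, nat_lit 34, nat_lit 51], [nat_lit 30, nat_lit 66], ⟨[nat_lit 0x708ca48cad404ec94235b4e975bc04], [nat_lit 173056, nat_lit 169472, nat_lit 164352, nat_lit 161152, nat_lit 157248, nat_lit 151776, nat_lit 147488, nat_lit 146944, nat_lit 140768, nat_lit 136488, nat_lit 132187, nat_lit 16, nat_lit 5064, nat_lit 8968, nat_lit 12304, nat_lit 18240, nat_lit 22016, nat_lit 25728, nat_lit 29952, nat_lit 33792, nat_lit 37888, nat_lit 41303, nat_lit 37208, nat_lit 33011, nat_lit 28792, nat_lit 24621, nat_lit 20558, nat_lit 16525, nat_lit 12290, nat_lit 8209, nat_lit 4105, nat_lit 2]⟩⟩⟩]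
theorem s375 : Suf yT 2112 (ldrop wS 140) (apW dcM p374) (tgtN dcM p374.e) := Suf.seg (l := l375) (by decide +kernel) s376
def l374 : List AP := [⟨[nat_lit 641, nat_lit 46, nat_lit 54], [], (nat_lit 121), ⟨[nat_lit 32, nat_lit 62], [nat_lit 32], ⟨[nat_lit 0xbace3a4dd59354960451020b623e06], [nat_lit 170496, nat_lit 165376, nat_lit 159872, nat_lit 158016, nat_lit 152800, nat_lit 148416, nat_lit 146904, nat_lit 142336, nat_lit 138874, nat_lit 133464, nat_lit 1614, nat_lit 5300, nat_lit 10176, nat_lit 12304, nat_lit 16448, nat_lit 22336, nat_lit 25600, nat_lit 29696, nat_lit 37888, nat_lit 41217, nat_lit 37237, nat_lit 33396, nat_lit 28673, nat_lit 24636, nat_lit 20549, nat_lit 16427, nat_lit 12320, nat_lit 8257, nat_lit 4113]⟩⟩⟩,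
  ⟨[nat_lit 53, nat_lit 47, nat_lit 57, nat_lit 47], [], (nat_lit 120), ⟨[nat_lit 30, nat_lit 49], [nat_lit 77, nat_lit 70], ⟨[nat_lit 0x312d584823a14f7988114ad8f5350e], [nat_lit 164608, nat_lit 160000, nat_lit 156032, nat_lit 153024, nat_lit 149392, nat_lit 143384, nat_lit 141108, nat_lit 136410, nat_lit 131292, nat_lit 1624, nat_lit 4168, nat_lit 10160, nat_lit 13920, nat_lit 16864, nat_lit 22336, nat_lit 26496, nat_lit 30464, nat_lit 33280, nat_lit 41778, nat_lit 37354, nat_lit 33514, nat_lit 29228, nat_lit 24750, nat_lit 20571, nat_lit 16427, nat_lit 12307, nat_lit 8193, nat_lit 4105, nat_lit 4]⟩⟩⟩]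
theorem s374 : Suf yT 2112 (ldrop wS 125) (apW dcM p373) (tgtN dcM p373.e) := Suf.seg (l := l374) (by decide +kernel) s375
def l373 : List AP := [⟨[nat_lit 71, nat_lit 52, nat_lit 639, nat_lit 48], [], (nat_lit 120), ⟨[nat_lit 0, nat_lit 82, nat_lit 67], [nat_lit 83, nat_lit 50], ⟨[nat_lit 0x749672266f28ae6402aa1c6166b281], [nat_lit 175104, nat_lit 168448, nat_lit 166144, nat_lit 162688, nat_lit 159168, nat_lit 151808, nat_lit 148624, nat_lit 144216, nat_lit 141828, nat_lit 138242, nat_lit 132312, nat_lit 494, nat_lit 5604, nat_lit 8504, nat_lit 13552, nat_lit 18048, nat_lit 22208, nat_lit 25472, nat_lit 30208, nat_lit 41826, nat_lit 38113, nat_lit 32807, nat_lit 28706, nat_lit 24634, nat_lit 20553, nat_lit 16385, nat_lit 12293, nat_lit 8201, nat_lit 8]⟩⟩⟩,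
  ⟨[nat_lit 642, nat_lit 56, nat_lit 640, nat_lit 46], [], (nat_lit 120), ⟨[nat_lit 74, nat_lit 66], [nat_lit 28, nat_lit 94], ⟨[nat_lit 0x891b71aeb6128e6049330b1c82c28f], [nat_lit 169984, nat_lit 166912, nat_lit 162816, nat_lit 158784, nat_lit 152576, nat_lit 149776, nat_lit 147368, nat_lit 139952, nat_lit 138680, nat_lit 133047, nat_lit 796, nat_lit 5112, nat_lit 8672, nat_lit 14304, nat_lit 18240, nat_lit 20608, nat_lit 24704, nat_lit 28928, nat_lit 33792, nat_lit 41732, nat_lit 37189, nat_lit 32873, nat_lit 28726, nat_lit 24615, nat_lit 20491, nat_lit 16516, nat_lit 12321, nat_lit 8257, nat_lit 32]⟩⟩⟩]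
theorem s373 : Suf yT 2112 (ldrop wS 110) (apW dcM p372) (tgtN dcM p372.e) := Suf.seg (l := l373) (by decide +kernel) s374
def l372 : List AP := [⟨[nat_lit 181, nat_lit 212], [], (nat_lit 419), ⟨[nat_lit 0, nat_lit 32, nat_lit 94], [nat_lit 73, nat_lit 52], ⟨[nat_lit 0x1bd52481d1a9e70b98415d90469594], [nat_lit 173056, nat_lit 168448, nat_lit 164608, nat_lit 161536, nat_lit 155712, nat_lit 152096, nat_lit 147776, nat_lit 144944, nat_lit 139316, nat_lit 135186, nat_lit 134200, nat_lit 32, nat_lit 4380, nat_lit 8520, nat_lit 13936, nat_lit 16416, nat_lit 25088, nat_lit 28928, nat_lit 33280, nat_lit 41416, nat_lit 37293, nat_lit 33530, nat_lit 29196, nat_lit 24886, nat_lit 20481, nat_lit 16385, nat_lit 12801, nat_lit 8201, nat_lit 4097]⟩⟩⟩,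
  ⟨[nat_lit 212, nat_lit 216], [], (nat_lit 418), ⟨[nat_lit 2, nat_lit 56], [nat_lit 0, nat_lit 42, nat_lit 58], ⟨[nat_lit 0x851281d433896c77888b501c6bb592], [nat_lit 174080, nat_lit 171520, nat_lit 165376, nat_lit 163200, nat_lit 158656, nat_lit 155104, nat_lit 147632, nat_lit 144720, nat_lit 139608, nat_lit 139052, nat_lit 134248, nat_lit 1762, nat_lit 4412, nat_lit 8856, nat_lit 13216, nat_lit 16928, nat_lit 20672, nat_lit 26368, nat_lit 30208, nat_lit 37888, nat_lit 41542, nat_lit 37921, nat_lit 32831, nat_lit 28685, nat_lit 25139, nat_lit 20766, nat_lit 16453, nat_lit 12290, nat_lit 8258, nat_lit 4097]⟩⟩⟩]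
theorem s372 : Suf yT 2112 (ldrop wS 95) (apW dcM p371) (tgtN dcM p371.e) := Suf.seg (l := l372) (by decide +kernel) s373
def l371 : List AP := [⟨[nat_lit 173, nat_lit 218, nat_lit 172], [], (nat_lit 418), ⟨[nat_lit 10, nat_lit 69], [nat_lit 0, nat_lit 7, nat_lit 46], ⟨[nat_lit 0x939176d9732094938d8f0d0d5044b0], [nat_lit 173056, nat_lit 170496, nat_lit 165376, nat_lit 162048, nat_lit 155904, nat_lit 153792, nat_lit 151200, nat_lit 145552, nat_lit 139364, nat_lit 137016, nat_lit 133786, nat_lit 760, nat_lit 5272, nat_lit 9352, nat_lit 12976, nat_lit 17728, nat_lit 21120, nat_lit 25088, nat_lit 29696, nat_lit 37888, nat_lit 41185, nat_lit 37123, nat_lit 33498, nat_lit 28952, nat_lit 24614, nat_lit 20546, nat_lit 16651, nat_lit 8225, nat_lit 4113]⟩⟩⟩,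
  ⟨[nat_lit 179, nat_lit 216], [], (nat_lit 396), ⟨[nat_lit 77], [nat_lit 0, nat_lit 9, nat_lit 64], ⟨[nat_lit 0x6c1f42de24906a2b2a6802d863a46e], [nat_lit 175104, nat_lit 164096, nat_lit 161024, nat_lit 158976, nat_lit 153600, nat_lit 150768, nat_lit 144968, nat_lit 141492, nat_lit 135358, nat_lit 133392, nat_lit 960, nat_lit 5580, nat_lit 10168, nat_lit 12944, nat_lit 18048, nat_lit 21504, nat_lit 24704, nat_lit 29184, nat_lit 33792, nat_lit 37888, nat_lit 41891, nat_lit 36893, nat_lit 32797, nat_lit 28783, nat_lit 24738, nat_lit 20509, nat_lit 16397, nat_lit 12294, nat_lit 8195, nat_lit 4100]⟩⟩⟩]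
theorem s371 : Suf yT 2112 (ldrop wS 89) (apW dcM p370) (tgtN dcM p370.e) := Suf.seg (l := l371) (by decide +kernel) s372
def l370 : List AP := [⟨[nat_lit 50], [], (nat_lit 1046), ⟨[nat_lit 36, nat_lit 63], [nat_lit 22, nat_lit 92], ⟨[nat_lit 0x6c8a23a684b2c6154e17044cf6550e], [nat_lit 174080, nat_lit 168448, nat_lit 167424, nat_lit 163200, nat_lit 157952, nat_lit 152256, nat_lit 148096, nat_lit 145176, nat_lit 143296, nat_lit 138688, nat_lit 131555, nat_lit 342, nat_lit 5316, nat_lit 9904, nat_lit 13552, nat_lit 17024, nat_lit 21760, nat_lit 26368, nat_lit 30208, nat_lit 33792, nat_lit 41730, nat_lit 38176, nat_lit 32981, nat_lit 29015, nat_lit 24839, nat_lit 20502, nat_lit 16394, nat_lit 8195, nat_lit 4]⟩⟩⟩,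
  ⟨[nat_lit 213, nat_lit 180, nat_lit 170], [], (nat_lit 396), ⟨[nat_lit 38, nat_lit 46], [nat_lit 23, nat_lit 69], ⟨[nat_lit 0xaa44e386438bc8d85e855991362ac0], [nat_lit 173056, nat_lit 168960, nat_lit 164608, nat_lit 160384, nat_lit 155712, nat_lit 152480, nat_lit 148416, nat_lit 143744, nat_lit 140944, nat_lit 139058, nat_lit 132415, nat_lit 2, nat_lit 5544, nat_lit 9088, nat_lit 12976, nat_lit 16992, nat_lit 21248, nat_lit 24960, nat_lit 30208, nat_lit 34304, nat_lit 37888, nat_lit 41978, nat_lit 37370, nat_lit 32890, nat_lit 28794, nat_lit 24728, nat_lit 20494, nat_lit 16525, nat_lit 12292, nat_lit 8203, nat_lit 4100]⟩⟩⟩]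
theorem s370 : Suf yT 2112 (ldrop wS 74) (apW dcM p369) (tgtN dcM p369.e) := Suf.seg (l := l370) (by decide +kernel) s371
def l369 : List AP := [⟨[nat_lit 171, nat_lit 177, nat_lit 170], [], (nat_lit 396), ⟨[nat_lit 0, nat_lit 78, nat_lit 91], [nat_lit 0, nat_lit 16, nat_lit 59], ⟨[nat_lit 0xbbd44048a71cdcd15a150ad31650c8], [nat_lit 169472, nat_lit 164352, nat_lit 160768, nat_lit 155712, nat_lit 152896, nat_lit 149344, nat_lit 145312, nat_lit 140676, nat_lit 137002, nat_lit 132345, nat_lit 1438, nat_lit 5436, nat_lit 9048, nat_lit 13552, nat_lit 16896, nat_lit 20992, nat_lit 29696, nat_lit 33280, nat_lit 37888, nat_lit 41806, nat_lit 38350, nat_lit 33899, nat_lit 29194, nat_lit 25615, nat_lit 20757, nat_lit 16416, nat_lit 12416, nat_lit 8449, nat_lit 4104, nat_lit 64]⟩⟩⟩,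
  ⟨[nat_lit 53, nat_lit 47, nat_lit 46, nat_lit 57], [], (nat_lit 1046), ⟨[nat_lit 77, nat_lit 53], [nat_lit 0, nat_lit 9, nat_lit 61], ⟨[nat_lit 0xa2d240324a35dcd43e020d8e32ce35], [nat_lit 173056, nat_lit 168448, nat_lit 167168, nat_lit 161408, nat_lit 157568, nat_lit 155008, nat_lit 150800, nat_lit 146096, nat_lit 142656, nat_lit 137722, nat_lit 132430, nat_lit 2012, nat_lit 4924, nat_lit 9384, nat_lit 12416, nat_lit 16512, nat_lit 21440, nat_lit 25728, nat_lit 29184, nat_lit 41423, nat_lit 36866, nat_lit 32878, nat_lit 28757, nat_lit 24740, nat_lit 20547, nat_lit 16424, nat_lit 12304, nat_lit 8193]⟩⟩⟩]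
theorem s369 : Suf yT 2112 (ldrop wS 59) (apW dcM p368) (tgtN dcM p368.e) := Suf.seg (l := l369) (by decide +kernel) s370
def l368 : List AP := [⟨[nat_lit 29, nat_lit 25, nat_lit 636, nat_lit 25, nat_lit 635, nat_lit 638], [], (nat_lit 338), ⟨[nat_lit 13, nat_lit 50], [nat_lit 0, nat_lit 79, nat_lit 62], ⟨[nat_lit 0xac68b928616ba0815de6b3007224b3], [nat_lit 174080, nat_lit 170496, nat_lit 166400, nat_lit 161024, nat_lit 157440, nat_lit 153376, nat_lit 149504, nat_lit 143440, nat_lit 139468, nat_lit 138006, nat_lit 135032, nat_lit 718, nat_lit 5444, nat_lit 9560, nat_lit 18112, nat_lit 20800, nat_lit 26112, nat_lit 29440, nat_lit 34304, nat_lit 37888, nat_lit 41855, nat_lit 38130, nat_lit 32901, nat_lit 28939, nat_lit 24603, nat_lit 21532, nat_lit 16388, nat_lit 12358, nat_lit 8195, nat_lit 4100, nat_lit 2]⟩⟩⟩,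
  ⟨[nat_lit 212, nat_lit 214, nat_lit 170], [], (nat_lit 396), ⟨[nat_lit 0, nat_lit 59], [nat_lit 0, nat_lit 27, nat_lit 66], ⟨[nat_lit 0x75d8299d2d80656895eaa200ba8cc4], [nat_lit 175104, nat_lit 162432, nat_lit 155904, nat_lit 153440, nat_lit 149632, nat_lit 146544, nat_lit 142992, nat_lit 137364, nat_lit 133981, nat_lit 1166, nat_lit 6104, nat_lit 8800, nat_lit 12304, nat_lit 17408, nat_lit 22080, nat_lit 24704, nat_lit 30464, nat_lit 41233, nat_lit 36927, nat_lit 33965, nat_lit 28774, nat_lit 24634, nat_lit 20501, nat_lit 16387, nat_lit 12292, nat_lit 8201, nat_lit 4112]⟩⟩⟩]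
theorem s368 : Suf yT 2112 (ldrop wS 44) (apW dcM p367) (tgtN dcM p367.e) := Suf.seg (l := l368) (by decide +kernel) s369
def l367 : List AP := [⟨[nat_lit 70, nat_lit 46, nat_lit 56, nat_lit 57], [], (nat_lit 120), ⟨[nat_lit 0, nat_lit 72, nat_lit 50], [nat_lit 0, nat_lit 26, nat_lit 55], ⟨[nat_lit 0x3b8532915582254b2c013446f6b137], [nat_lit 173056, nat_lit 168448, nat_lit 164096, nat_lit 160128, nat_lit 155712, nat_lit 151744, nat_lit 150800, nat_lit 144176, nat_lit 141016, nat_lit 135958, nat_lit 131932, nat_lit 1124, nat_lit 5588, nat_lit 10000, nat_lit 13712, nat_lit 16416, nat_lit 20800, nat_lit 26368, nat_lit 29952, nat_lit 33792, nat_lit 37888, nat_lit 41072, nat_lit 37267, nat_lit 33317, nat_lit 28680, nat_lit 24579, nat_lit 20495, nat_lit 16654, nat_lit 12289, nat_lit 8225]⟩⟩⟩,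
  ⟨[nat_lit 641, nat_lit 46, nat_lit 54], [], (nat_lit 121), ⟨[nat_lit 14, nat_lit 62], [nat_lit 0, nat_lit 31, nat_lit 50], ⟨[nat_lit 0xbaa8484d272ac620b656a822e621e6], [nat_lit 173056, nat_lit 170496, nat_lit 164608, nat_lit 160000, nat_lit 158912, nat_lit 152896, nat_lit 147776, nat_lit 146952, nat_lit 143308, nat_lit 138722, nat_lit 134936, nat_lit 1614, nat_lit 5716, nat_lit 9904, nat_lit 13152, nat_lit 16640, nat_lit 21376, nat_lit 26496, nat_lit 33792, nat_lit 37888, nat_lit 41594, nat_lit 37011, nat_lit 32802, nat_lit 29202, nat_lit 24592, nat_lit 20755, nat_lit 16420, nat_lit 12291, nat_lit 8208, nat_lit 4104]⟩⟩⟩]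
theorem s367 : Suf yT 2112 (ldrop wS 38) (apW dcM p366) (tgtN dcM p366.e) := Suf.seg (l := l367) (by decide +kernel) s368
def l366 : List AP := [⟨[nat_lit 50], [], (nat_lit 1046), ⟨[nat_lit 0, nat_lit 29, nat_lit 66], [nat_lit 33], ⟨[nat_lit 0x2051300ecd2b2a6888e985e4fa296e], [nat_lit 173056, nat_lit 168960, nat_lit 157120, nat_lit 153376, nat_lit 148192, nat_lit 145408, nat_lit 139456, nat_lit 136442, nat_lit 133050, nat_lit 166, nat_lit 5072, nat_lit 10168, nat_lit 12320, nat_lit 17888, nat_lit 21184, nat_lit 26368, nat_lit 29952, nat_lit 33280, nat_lit 37888, nat_lit 41451, nat_lit 36991, nat_lit 33933, nat_lit 28776, nat_lit 24731, nat_lit 20481, nat_lit 16451, nat_lit 8193, nat_lit 4]⟩⟩⟩,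
  ⟨[nat_lit 662, nat_lit 174, nat_lit 171], [], (nat_lit 396), ⟨[nat_lit 28, nat_lit 48], [nat_lit 8, nat_lit 65], ⟨[nat_lit 0x14ccd7aaac905c44c6903d8a85dc03], [nat_lit 174080, nat_lit 169984, nat_lit 166656, nat_lit 160640, nat_lit 155968, nat_lit 153440, nat_lit 150576, nat_lit 144264, nat_lit 140776, nat_lit 139062, nat_lit 133206, nat_lit 1818, nat_lit 5904, nat_lit 9328, nat_lit 13760, nat_lit 17536, nat_lit 20864, nat_lit 26240, nat_lit 29440, nat_lit 41978, nat_lit 36976, nat_lit 33907, nat_lit 28745, nat_lit 24599, nat_lit 21006, nat_lit 16423, nat_lit 12306, nat_lit 8194]⟩⟩⟩]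
theorem s366 : Suf yT 2112 (ldrop wS 23) (apW dcM p365) (tgtN dcM p365.e) := Suf.seg (l := l366) (by decide +kernel) s367
def l365 : List AP := [⟨[nat_lit 215, nat_lit 212], [], (nat_lit 418), ⟨[nat_lit 0, nat_lit 17, nat_lit 70], [nat_lit 0, nat_lit 34, nat_lit 56], ⟨[nat_lit 0xaac32a0e2a71613b5cef600c24b504], [nat_lit 173056, nat_lit 169472, nat_lit 164864, nat_lit 160640, nat_lit 156224, nat_lit 153120, nat_lit 149136, nat_lit 146808, nat_lit 140308, nat_lit 136546, nat_lit 131543, nat_lit 508, nat_lit 5316, nat_lit 8208, nat_lit 12544, nat_lit 16640, nat_lit 21248, nat_lit 25856, nat_lit 29184, nat_lit 41445, nat_lit 37128, nat_lit 32864, nat_lit 29805, nat_lit 24835, nat_lit 20555, nat_lit 16396, nat_lit 12290, nat_lit 8209, nat_lit 4104, nat_lit 4]⟩⟩⟩,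
  ⟨[nat_lit 219], [], (nat_lit 419), ⟨[nat_lit 81, nat_lit 63], [nat_lit 4, nat_lit 90], ⟨[nat_lit 0x71d12582aa15213286c44b6261b1f7], [nat_lit 169472, nat_lit 165632, nat_lit 157248, nat_lit 152064, nat_lit 147600, nat_lit 144760, nat_lit 139900, nat_lit 135694, nat_lit 134203, nat_lit 796, nat_lit 5716, nat_lit 9328, nat_lit 13312, nat_lit 16960, nat_lit 21312, nat_lit 26112, nat_lit 41436, nat_lit 37062, nat_lit 33953, nat_lit 29291, nat_lit 24843, nat_lit 20493, nat_lit 16459, nat_lit 12304, nat_lit 8195, nat_lit 4100, nat_lit 2]⟩⟩⟩]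
theorem s365 : Suf yT 2112 (ldrop wS 8) (apW dcM p364) (tgtN dcM p364.e) := Suf.seg (l := l365) (by decide +kernel) s366
def l364 : List AP := [⟨[nat_lit 4, nat_lit 627, nat_lit 0, nat_lit 7, nat_lit 626, nat_lit 8], [], (nat_lit 40), ⟨[nat_lit 30, nat_lit 66], [nat_lit 73, nat_lit 57], ⟨[nat_lit 0x5b6727a801498acb3917154f180c94], [nat_lit 175104, nat_lit 171008, nat_lit 167680, nat_lit 159872, nat_lit 156736, nat_lit 153088, nat_lit 149648, nat_lit 144776, nat_lit 139276, nat_lit 139028, nat_lit 134498, nat_lit 1842, nat_lit 4112, nat_lit 9120, nat_lit 12352, nat_lit 16896, nat_lit 25088, nat_lit 29184, nat_lit 33792, nat_lit 41968, nat_lit 37122, nat_lit 33492, nat_lit 28986, nat_lit 24735, nat_lit 20481, nat_lit 16450, nat_lit 12421, nat_lit 8321, nat_lit 4160]⟩⟩⟩,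
  ⟨[nat_lit 635, nat_lit 637, nat_lit 636, nat_lit 32, nat_lit 23], [], (nat_lit 391), ⟨[nat_lit 75, nat_lit 63], [nat_lit 0, nat_lit 27, nat_lit 67], ⟨[nat_lit 0x350e3042d30bd956962b45c4953892], [nat_lit 168448, nat_lit 161408, nat_lit 158016, nat_lit 152800, nat_lit 147808, nat_lit 143616, nat_lit 139484, nat_lit 135888, nat_lit 131493, nat_lit 1810, nat_lit 5588, nat_lit 10224, nat_lit 16448, nat_lit 21120, nat_lit 29184, nat_lit 33280, nat_lit 37888, nat_lit 41011, nat_lit 37327, nat_lit 32894, nat_lit 29243, nat_lit 24621, nat_lit 20549, nat_lit 16386, nat_lit 12321, nat_lit 4112, nat_lit 8]⟩⟩⟩]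
theorem rS19 : Suf yT 2112 wS [yT.get 53] 0 := Suf.seg (l := l364) (by decide +kernel) s365

def p378 : AP := ⟨[nat_lit 72, nat_lit 66], [], (nat_lit 126), ⟨[nat_lit 17, nat_lit 55], [nat_lit 0, nat_lit 76, nat_lit 53], ⟨[nat_lit 0x30dac2daa09a28e52c818bd3780a47], [nat_lit 173056, nat_lit 170496, nat_lit 164864, nat_lit 163712, nat_lit 156416, nat_lit 154720, nat_lit 150448, nat_lit 145736, nat_lit 139452, nat_lit 135554, nat_lit 133428, nat_lit 1182, nat_lit 5668, nat_lit 13952, nat_lit 16832, nat_lit 21888, nat_lit 29952, nat_lit 33280, nat_lit 37888, nat_lit 41067, nat_lit 37310, nat_lit 33307, nat_lit 28996, nat_lit 24632, nat_lit 20545, nat_lit 16421, nat_lit 12311, nat_lit 8195, nat_lit 4097, nat_lit 2]⟩⟩⟩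
def p379 : AP := ⟨[nat_lit 48, nat_lit 56, nat_lit 47, nat_lit 66], [], (nat_lit 1046), ⟨[nat_lit 0, nat_lit 7, nat_lit 70], [nat_lit 0, nat_lit 26, nat_lit 60], ⟨[nat_lit 0x7300a40ca44d6c25c2213ce8f95ccd], [nat_lit 173056, nat_lit 168960, nat_lit 164352, nat_lit 160768, nat_lit 157248, nat_lit 152160, nat_lit 149072, nat_lit 145512, nat_lit 140344, nat_lit 135562, nat_lit 131961, nat_lit 484, nat_lit 4852, nat_lit 10080, nat_lit 18272, nat_lit 21312, nat_lit 26368, nat_lit 29952, nat_lit 41559, nat_lit 38367, nat_lit 33334, nat_lit 29014, nat_lit 24720, nat_lit 20563, nat_lit 16456, nat_lit 8451, nat_lit 4129]⟩⟩⟩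
def p380 : AP := ⟨[nat_lit 171, nat_lit 662], [], (nat_lit 418), ⟨[nat_lit 0, nat_lit 88, nat_lit 66], [nat_lit 0, nat_lit 35, nat_lit 61], ⟨[nat_lit 0x696f3899d550a507b100b0e8909167], [nat_lit 175104, nat_lit 168448, nat_lit 165632, nat_lit 156608, nat_lit 152128, nat_lit 148656, nat_lit 144744, nat_lit 141292, nat_lit 135476, nat_lit 131482, nat_lit 158, nat_lit 6104, nat_lit 8712, nat_lit 13264, nat_lit 17408, nat_lit 22144, nat_lit 25216, nat_lit 29184, nat_lit 33792, nat_lit 37888, nat_lit 41304, nat_lit 36972, nat_lit 33991, nat_lit 28704, nat_lit 24629, nat_lit 20548, nat_lit 16390, nat_lit 12290, nat_lit 8210]⟩⟩⟩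
def p381 : AP := ⟨[], [], (nat_lit 390), ⟨[nat_lit 41, nat_lit 67], [nat_lit 0, nat_lit 20, nat_lit 93], ⟨[nat_lit 0xa1132395a2b22667dea352c0c0c5d0], [nat_lit 168448, nat_lit 164352, nat_lit 161920, nat_lit 156544, nat_lit 152288, nat_lit 148112, nat_lit 145168, nat_lit 139372, nat_lit 135942, nat_lit 131390, nat_lit 64, nat_lit 6068, nat_lit 9648, nat_lit 13440, nat_lit 18336, nat_lit 22272, nat_lit 25088, nat_lit 29184, nat_lit 33280, nat_lit 41342, nat_lit 37053, nat_lit 33910, nat_lit 28737, nat_lit 24725, nat_lit 21021, nat_lit 16462, nat_lit 12308, nat_lit 8202, nat_lit 4104, nat_lit 128]⟩⟩⟩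
def p382 : AP := ⟨[nat_lit 217, nat_lit 172], [], (nat_lit 396), ⟨[nat_lit 86, nat_lit 51], [nat_lit 12, nat_lit 48], ⟨[nat_lit 0x72c0395c2433127a88b184d0fa2acd], [nat_lit 174080, nat_lit 168448, nat_lit 164608, nat_lit 159872, nat_lit 159680, nat_lit 153920, nat_lit 151040, nat_lit 144192, nat_lit 142764, nat_lit 136572, nat_lit 133821, nat_lit 460, nat_lit 5544, nat_lit 9928, nat_lit 13712, nat_lit 17088, nat_lit 22336, nat_lit 25472, nat_lit 29952, nat_lit 33280, nat_lit 41426, nat_lit 37203, nat_lit 33001, nat_lit 28777, nat_lit 24720, nat_lit 20497, nat_lit 16385, nat_lit 12289, nat_lit 8194, nat_lit 4100, nat_lit 8]⟩⟩⟩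
def p383 : AP := ⟨[nat_lit 661, nat_lit 213, nat_lit 175], [], (nat_lit 418), ⟨[nat_lit 0, nat_lit 83, nat_lit 47], [nat_lit 0, nat_lit 44, nat_lit 47], ⟨[nat_lit 0x9b0a2301d0bd9754268a68c91385f2], [nat_lit 173056, nat_lit 168960, nat_lit 164096, nat_lit 157568, nat_lit 151616, nat_lit 148048, nat_lit 145280, nat_lit 139296, nat_lit 137016, nat_lit 133231, nat_lit 5992, nat_lit 9368, nat_lit 14176, nat_lit 16864, nat_lit 21440, nat_lit 30208, nat_lit 33792, nat_lit 37888, nat_lit 41641, nat_lit 38116, nat_lit 32826, nat_lit 29720, nat_lit 24577, nat_lit 20620, nat_lit 16428, nat_lit 12294, nat_lit 8201, nat_lit 4100]⟩⟩⟩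
def p384 : AP := ⟨[nat_lit 217, nat_lit 213], [], (nat_lit 418), ⟨[nat_lit 0, nat_lit 36], [nat_lit 0, nat_lit 45, nat_lit 93], ⟨[nat_lit 0xbb9335940a30e1261c4d4522f256c1], [nat_lit 173056, nat_lit 168448, nat_lit 164352, nat_lit 162048, nat_lit 156096, nat_lit 153344, nat_lit 148864, nat_lit 144464, nat_lit 141044, nat_lit 135540, nat_lit 132462, nat_lit 698, nat_lit 4224, nat_lit 9384, nat_lit 14192, nat_lit 16512, nat_lit 21376, nat_lit 25216, nat_lit 29184, nat_lit 33792, nat_lit 41760, nat_lit 37195, nat_lit 33476, nat_lit 24601, nat_lit 20493, nat_lit 16392, nat_lit 12304, nat_lit 8224, nat_lit 4097, nat_lit 2]⟩⟩⟩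
def p385 : AP := ⟨[nat_lit 214, nat_lit 216], [], (nat_lit 396), ⟨[nat_lit 75], [nat_lit 86, nat_lit 58], ⟨[nat_lit 0x50a8494e2f831cd596e30590749aa1], [nat_lit 171008, nat_lit 165632, nat_lit 161536, nat_lit 159296, nat_lit 151808, nat_lit 148496, nat_lit 145736, nat_lit 142120, nat_lit 137634, nat_lit 133451, nat_lit 588, nat_lit 4268, nat_lit 9384, nat_lit 12640, nat_lit 18112, nat_lit 22400, nat_lit 24704, nat_lit 29952, nat_lit 34304, nat_lit 37888, nat_lit 41978, nat_lit 36871, nat_lit 33941, nat_lit 29821, nat_lit 24864, nat_lit 20760, nat_lit 12293, nat_lit 8195, nat_lit 4101]⟩⟩⟩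
def p386 : AP := ⟨[nat_lit 179, nat_lit 216], [], (nat_lit 396), ⟨[nat_lit 21, nat_lit 50], [nat_lit 0, nat_lit 72, nat_lit 91], ⟨[nat_lit 0x752d7abd8d01e498ac2514cca40e04], [nat_lit 175104, nat_lit 169984, nat_lit 166656, nat_lit 161024, nat_lit 159040, nat_lit 153888, nat_lit 148256, nat_lit 145672, nat_lit 139880, nat_lit 135524, nat_lit 131878, nat_lit 1794, nat_lit 4916, nat_lit 9536, nat_lit 13920, nat_lit 16640, nat_lit 21184, nat_lit 24832, nat_lit 29696, nat_lit 33792, nat_lit 37888, nat_lit 41381, nat_lit 37282, nat_lit 32904, nat_lit 28928, nat_lit 24627, nat_lit 20568, nat_lit 16393, nat_lit 9217, nat_lit 4129, nat_lit 16]⟩⟩⟩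
def p387 : AP := ⟨[nat_lit 37, nat_lit 629, nat_lit 633, nat_lit 38, nat_lit 36], [], (nat_lit 90), ⟨[nat_lit 0, nat_lit 7, nat_lit 92], [nat_lit 0, nat_lit 24, nat_lit 50], ⟨[nat_lit 0x915703b5e8ba496a3222aba6132803], [nat_lit 168960, nat_lit 166656, nat_lit 162176, nat_lit 158656, nat_lit 155008, nat_lit 148688, nat_lit 146992, nat_lit 141412, nat_lit 135980, nat_lit 134272, nat_lit 484, nat_lit 5904, nat_lit 8680, nat_lit 13312, nat_lit 17152, nat_lit 21440, nat_lit 24832, nat_lit 28928, nat_lit 34304, nat_lit 41045, nat_lit 37281, nat_lit 33412, nat_lit 29267, nat_lit 24763, nat_lit 20635, nat_lit 16395, nat_lit 12289, nat_lit 8194, nat_lit 4100]⟩⟩⟩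
def p388 : AP := ⟨[nat_lit 640, nat_lit 641, nat_lit 641, nat_lit 48], [], (nat_lit 1046), ⟨[nat_lit 29, nat_lit 59], [nat_lit 16, nat_lit 91], ⟨[nat_lit 0x812e64d123a88dbc4c21c2c5a2df5], [nat_lit 171008, nat_lit 164096, nat_lit 160384, nat_lit 158144, nat_lit 152608, nat_lit 147968, nat_lit 145440, nat_lit 141744, nat_lit 137856, nat_lit 134826, nat_lit 394, nat_lit 5296, nat_lit 9384, nat_lit 14144, nat_lit 17600, nat_lit 20608, nat_lit 25344, nat_lit 30464, nat_lit 34304, nat_lit 37888, nat_lit 41197, nat_lit 37037, nat_lit 32961, nat_lit 29039, nat_lit 24876, nat_lit 20497, nat_lit 16428, nat_lit 12293, nat_lit 8195, nat_lit 4100, nat_lit 2]⟩⟩⟩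
def p389 : AP := ⟨[nat_lit 175, nat_lit 216], [], (nat_lit 396), ⟨[nat_lit 3, nat_lit 59], [nat_lit 74, nat_lit 64], ⟨[nat_lit 0x454ce125735588d19e0595c340458f], [nat_lit 175104, nat_lit 168448, nat_lit 167168, nat_lit 163584, nat_lit 158016, nat_lit 152512, nat_lit 147856, nat_lit 144920, nat_lit 143164, nat_lit 139230, nat_lit 131694, nat_lit 1896, nat_lit 4924, nat_lit 9648, nat_lit 14144, nat_lit 16768, nat_lit 20992, nat_lit 25216, nat_lit 29440, nat_lit 37888, nat_lit 41815, nat_lit 38203, nat_lit 32954, nat_lit 29006, nat_lit 24609, nat_lit 20510, nat_lit 16394, nat_lit 12305, nat_lit 8224, nat_lit 4100, nat_lit 8]⟩⟩⟩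
def p390 : AP := ⟨[nat_lit 68], [], (nat_lit 122), ⟨[nat_lit 5, nat_lit 68], [nat_lit 88, nat_lit 61], ⟨[nat_lit 0x5c9022026585c750be2eb31273368a], [nat_lit 173056, nat_lit 168960, nat_lit 160256, nat_lit 156672, nat_lit 153312, nat_lit 148400, nat_lit 144976, nat_lit 140988, nat_lit 136302, nat_lit 133902, nat_lit 1842, nat_lit 5904, nat_lit 8680, nat_lit 13792, nat_lit 17536, nat_lit 21504, nat_lit 25216, nat_lit 29696, nat_lit 34304, nat_lit 41829, nat_lit 38227, nat_lit 32799, nat_lit 28797, nat_lit 24734, nat_lit 20495, nat_lit 16523, nat_lit 12324, nat_lit 4097, nat_lit 2]⟩⟩⟩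
def l391 : List AP := [⟨[nat_lit 14, nat_lit 37, nat_lit 36], [], (nat_lit 1032), ⟨[nat_lit 0, nat_lit 26, nat_lit 89], [nat_lit 4, nat_lit 89], ⟨[nat_lit 0xb3c6a3d2f173206921640d52d01662], [nat_lit 173056, nat_lit 168960, nat_lit 164608, nat_lit 160640, nat_lit 156096, nat_lit 154336, nat_lit 149056, nat_lit 144648, nat_lit 139296, nat_lit 137100, nat_lit 132947, nat_lit 586, nat_lit 4684, nat_lit 8320, nat_lit 12640, nat_lit 17568, nat_lit 20608, nat_lit 25600, nat_lit 29184, nat_lit 34304, nat_lit 41833, nat_lit 38170, nat_lit 34041, nat_lit 28746, nat_lit 24746, nat_lit 20505, nat_lit 16418, nat_lit 12308, nat_lit 8203, nat_lit 4104, nat_lit 2]⟩⟩⟩]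
theorem s391 : Suf yT 2176 (ldrop wS 161) (apW dcM p390) (tgtN dcM p390.e) := Suf.fin' (l := l391) (by decide +kernel)
def l390 : List AP := [⟨[nat_lit 640, nat_lit 642, nat_lit 56, nat_lit 46], [], (nat_lit 120), ⟨[nat_lit 7, nat_lit 65], [nat_lit 74, nat_lit 91], ⟨[nat_lit 0x8d21702c69730e6aca766bca41050a], [nat_lit 173056, nat_lit 171520, nat_lit 167168, nat_lit 162048, nat_lit 159168, nat_lit 152544, nat_lit 151008, nat_lit 146384, nat_lit 139964, nat_lit 138186, nat_lit 131686, nat_lit 1224, nat_lit 4824, nat_lit 8920, nat_lit 13264, nat_lit 16640, nat_lit 21312, nat_lit 25728, nat_lit 28928, nat_lit 33792, nat_lit 41850, nat_lit 37210, nat_lit 32819, nat_lit 28674, nat_lit 24580, nat_lit 20487, nat_lit 16386, nat_lit 12294, nat_lit 8202]⟩⟩⟩,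
  ⟨[nat_lit 643, nat_lit 47], [], (nat_lit 126), ⟨[nat_lit 0, nat_lit 75, nat_lit 92], [nat_lit 84, nat_lit 54], ⟨[nat_lit 0x54cb0c98283ad76a551450832be67], [nat_lit 173056, nat_lit 169472, nat_lit 165376, nat_lit 161536, nat_lit 155904, nat_lit 153536, nat_lit 148800, nat_lit 143656, nat_lit 139588, nat_lit 137172, nat_lit 131268, nat_lit 1182, nat_lit 5384, nat_lit 10088, nat_lit 12416, nat_lit 17984, nat_lit 22336, nat_lit 26240, nat_lit 34304, nat_lit 41952, nat_lit 37278, nat_lit 33438, nat_lit 28752, nat_lit 24764, nat_lit 20574, nat_lit 16426, nat_lit 12304, nat_lit 8256, nat_lit 4129]⟩⟩⟩]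
theorem s390 : Suf yT 2176 (ldrop wS 146) (apW dcM p389) (tgtN dcM p389.e) := Suf.seg (l := l390) (by decide +kernel) s391
def l389 : List AP := [⟨[nat_lit 176, nat_lit 214], [], (nat_lit 396), ⟨[nat_lit 25, nat_lit 66], [nat_lit 0, nat_lit 21, nat_lit 48], ⟨[nat_lit 0x6b2a22a24e882f09a8cf4ae8309ec4], [nat_lit 166912, nat_lit 160128, nat_lit 155904, nat_lit 152224, nat_lit 148336, nat_lit 144288, nat_lit 141064, nat_lit 137116, nat_lit 131335, nat_lit 680, nat_lit 5668, nat_lit 9776, nat_lit 12304, nat_lit 16640, nat_lit 22016, nat_lit 24960, nat_lit 30464, nat_lit 34304, nat_lit 37888, nat_lit 41566, nat_lit 37120, nat_lit 33016, nat_lit 29016, nat_lit 24892, nat_lit 20500, nat_lit 16392, nat_lit 12310, nat_lit 8201, nat_lit 4100, nat_lit 2]⟩⟩⟩,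
  ⟨[nat_lit 50], [], (nat_lit 1046), ⟨[nat_lit 45, nat_lit 67], [nat_lit 0, nat_lit 9, nat_lit 69], ⟨[nat_lit 0x6b2a22a24e882f09a8cf4ae8309ec4], [nat_lit 168448, nat_lit 166912, nat_lit 160000, nat_lit 155968, nat_lit 152224, nat_lit 148320, nat_lit 144288, nat_lit 141064, nat_lit 137116, nat_lit 131335, nat_lit 680, nat_lit 5668, nat_lit 9776, nat_lit 12304, nat_lit 16640, nat_lit 22016, nat_lit 24960, nat_lit 30464, nat_lit 34304, nat_lit 37888, nat_lit 41566, nat_lit 37120, nat_lit 33016, nat_lit 29016, nat_lit 24892, nat_lit 20500, nat_lit 16392, nat_lit 12310, nat_lit 8201, nat_lit 4100, nat_lit 2]⟩⟩⟩]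
theorem s389 : Suf yT 2176 (ldrop wS 140) (apW dcM p388) (tgtN dcM p388.e) := Suf.seg (l := l389) (by decide +kernel) s390
def l388 : List AP := [⟨[nat_lit 72, nat_lit 66], [], (nat_lit 126), ⟨[nat_lit 24, nat_lit 56], [nat_lit 72, nat_lit 57], ⟨[nat_lit 0x1d42f416404b55659053bc1d1a30c7], [nat_lit 173056, nat_lit 164352, nat_lit 163328, nat_lit 156032, nat_lit 152128, nat_lit 148848, nat_lit 144768, nat_lit 141080, nat_lit 136496, nat_lit 132751, nat_lit 1054, nat_lit 5436, nat_lit 9136, nat_lit 14144, nat_lit 17472, nat_lit 20608, nat_lit 24960, nat_lit 29696, nat_lit 34304, nat_lit 41792, nat_lit 38336, nat_lit 34001, nat_lit 28676, nat_lit 25635, nat_lit 20488, nat_lit 16641, nat_lit 12320, nat_lit 8322, nat_lit 4100]⟩⟩⟩,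
  ⟨[nat_lit 48, nat_lit 57, nat_lit 70, nat_lit 47], [], (nat_lit 120), ⟨[nat_lit 0, nat_lit 38, nat_lit 62], [nat_lit 1, nat_lit 59], ⟨[nat_lit 0x83635102ec7d8c70cc8a48cb25b914], [nat_lit 164096, nat_lit 161408, nat_lit 151968, nat_lit 148864, nat_lit 145192, nat_lit 140336, nat_lit 136380, nat_lit 133492, nat_lit 32, nat_lit 4824, nat_lit 10128, nat_lit 13584, nat_lit 17504, nat_lit 20736, nat_lit 25472, nat_lit 28928, nat_lit 33792, nat_lit 41945, nat_lit 38077, nat_lit 33502, nat_lit 28705, nat_lit 25107, nat_lit 20490, nat_lit 16454, nat_lit 12321, nat_lit 8193, nat_lit 4104]⟩⟩⟩]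
theorem s388 : Suf yT 2176 (ldrop wS 125) (apW dcM p387) (tgtN dcM p387.e) := Suf.seg (l := l388) (by decide +kernel) s389
def l387 : List AP := [⟨[nat_lit 69, nat_lit 49], [], (nat_lit 122), ⟨[nat_lit 33, nat_lit 53], [nat_lit 0, nat_lit 15, nat_lit 50], ⟨[nat_lit 0x11187045d285d057a54332e93b542d], [nat_lit 173056, nat_lit 171520, nat_lit 160512, nat_lit 157376, nat_lit 152768, nat_lit 148512, nat_lit 143376, nat_lit 140484, nat_lit 137066, nat_lit 132519, nat_lit 1004, nat_lit 4608, nat_lit 9480, nat_lit 13904, nat_lit 18112, nat_lit 20864, nat_lit 25856, nat_lit 29440, nat_lit 41610, nat_lit 36972, nat_lit 32920, nat_lit 28704, nat_lit 25132, nat_lit 20499, nat_lit 16416, nat_lit 12293, nat_lit 8195]⟩⟩⟩,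
  ⟨[nat_lit 633, nat_lit 632, nat_lit 629, nat_lit 14], [], (nat_lit 38), ⟨[nat_lit 73, nat_lit 56], [nat_lit 0, nat_lit 21, nat_lit 63], ⟨[nat_lit 0x4820a438d4b3ceb292221cd8dbd432], [nat_lit 175104, nat_lit 171520, nat_lit 166656, nat_lit 162304, nat_lit 157440, nat_lit 154528, nat_lit 150368, nat_lit 144312, nat_lit 142376, nat_lit 136668, nat_lit 131456, nat_lit 1762, nat_lit 6068, nat_lit 10160, nat_lit 13712, nat_lit 17600, nat_lit 21760, nat_lit 25216, nat_lit 28928, nat_lit 33792, nat_lit 37888, nat_lit 41865, nat_lit 38285, nat_lit 33008, nat_lit 28974, nat_lit 24762, nat_lit 20501, nat_lit 16426, nat_lit 12304, nat_lit 8193, nat_lit 4]⟩⟩⟩]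
theorem s387 : Suf yT 2176 (ldrop wS 110) (apW dcM p386) (tgtN dcM p386.e) := Suf.seg (l := l387) (by decide +kernel) s388
def l386 : List AP := [⟨[nat_lit 56, nat_lit 51, nat_lit 46, nat_lit 53], [], (nat_lit 1046), ⟨[nat_lit 40, nat_lit 56], [nat_lit 9, nat_lit 54], ⟨[nat_lit 0x951e4642c7401cd1a6f532ca19aa22], [nat_lit 168960, nat_lit 164608, nat_lit 160384, nat_lit 158464, nat_lit 152512, nat_lit 148896, nat_lit 143712, nat_lit 140428, nat_lit 135610, nat_lit 132163, nat_lit 1814, nat_lit 4608, nat_lit 8256, nat_lit 13584, nat_lit 16896, nat_lit 20864, nat_lit 25728, nat_lit 29184, nat_lit 33792, nat_lit 41610, nat_lit 38325, nat_lit 33482, nat_lit 28981, nat_lit 24601, nat_lit 20741, nat_lit 16418, nat_lit 12289, nat_lit 8193, nat_lit 4112, nat_lit 4]⟩⟩⟩,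
  ⟨[nat_lit 179, nat_lit 219], [], (nat_lit 418), ⟨[nat_lit 28, nat_lit 53], [nat_lit 0, nat_lit 74, nat_lit 57], ⟨[nat_lit 0x85cf6520d2080915d04d4b2a3795d3], [nat_lit 173056, nat_lit 168448, nat_lit 167168, nat_lit 160896, nat_lit 155776, nat_lit 151712, nat_lit 148448, nat_lit 144328, nat_lit 140000, nat_lit 135986, nat_lit 131434, nat_lit 846, nat_lit 5696, nat_lit 10032, nat_lit 13920, nat_lit 17024, nat_lit 22208, nat_lit 24704, nat_lit 28928, nat_lit 33280, nat_lit 37888, nat_lit 41838, nat_lit 37120, nat_lit 32803, nat_lit 28733, nat_lit 25646, nat_lit 20634, nat_lit 16517, nat_lit 8227, nat_lit 4129]⟩⟩⟩]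
theorem s386 : Suf yT 2176 (ldrop wS 95) (apW dcM p385) (tgtN dcM p385.e) := Suf.seg (l := l386) (by decide +kernel) s387
def l385 : List AP := [⟨[nat_lit 173, nat_lit 215], [], (nat_lit 396), ⟨[nat_lit 18, nat_lit 61], [nat_lit 21, nat_lit 49], ⟨[nat_lit 0x740775958d999328d42f500e245a84], [nat_lit 168448, nat_lit 165376, nat_lit 163200, nat_lit 157376, nat_lit 152736, nat_lit 149312, nat_lit 144816, nat_lit 139276, nat_lit 136304, nat_lit 132451, nat_lit 680, nat_lit 5652, nat_lit 8208, nat_lit 14272, nat_lit 16512, nat_lit 20736, nat_lit 25344, nat_lit 28928, nat_lit 41705, nat_lit 36970, nat_lit 32808, nat_lit 28707, nat_lit 24597, nat_lit 20622, nat_lit 16388, nat_lit 12325, nat_lit 8209, nat_lit 4225, nat_lit 4]⟩⟩⟩,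
  ⟨[nat_lit 50], [], (nat_lit 1046), ⟨[nat_lit 33, nat_lit 93], [nat_lit 0, nat_lit 3, nat_lit 65], ⟨[nat_lit 0x740775958d999328d42f500e245a84], [nat_lit 173056, nat_lit 168448, nat_lit 165376, nat_lit 163200, nat_lit 157376, nat_lit 152704, nat_lit 149312, nat_lit 144824, nat_lit 139276, nat_lit 136306, nat_lit 132450, nat_lit 680, nat_lit 5652, nat_lit 8208, nat_lit 14272, nat_lit 16512, nat_lit 20736, nat_lit 25344, nat_lit 28928, nat_lit 41705, nat_lit 36970, nat_lit 32808, nat_lit 28707, nat_lit 24597, nat_lit 20622, nat_lit 16388, nat_lit 12325, nat_lit 8209, nat_lit 4225, nat_lit 4]⟩⟩⟩]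
theorem s385 : Suf yT 2176 (ldrop wS 89) (apW dcM p384) (tgtN dcM p384.e) := Suf.seg (l := l385) (by decide +kernel) s386
def l384 : List AP := [⟨[nat_lit 179, nat_lit 216], [], (nat_lit 396), ⟨[nat_lit 0, nat_lit 34, nat_lit 49], [nat_lit 75, nat_lit 47], ⟨[nat_lit 0x24c6161e0ea5e26789752aa49b010d], [nat_lit 174080, nat_lit 168960, nat_lit 164352, nat_lit 163200, nat_lit 157440, nat_lit 153408, nat_lit 149536, nat_lit 146368, nat_lit 142896, nat_lit 138424, nat_lit 134152, nat_lit 236, nat_lit 5488, nat_lit 8680, nat_lit 12976, nat_lit 18048, nat_lit 21184, nat_lit 26112, nat_lit 28928, nat_lit 33792, nat_lit 41380, nat_lit 37187, nat_lit 32788, nat_lit 29735, nat_lit 25132, nat_lit 20497, nat_lit 16428, nat_lit 12294, nat_lit 8194, nat_lit 4097, nat_lit 2]⟩⟩⟩,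
  ⟨[nat_lit 53, nat_lit 73, nat_lit 49, nat_lit 47], [], (nat_lit 1046), ⟨[nat_lit 27, nat_lit 64], [nat_lit 18, nat_lit 46], ⟨[nat_lit 0x8cae3ad4fad08d48216345929a2e2], [nat_lit 169984, nat_lit 165888, nat_lit 163072, nat_lit 158592, nat_lit 149616, nat_lit 147344, nat_lit 139676, nat_lit 138804, nat_lit 132716, nat_lit 1136, nat_lit 5084, nat_lit 8448, nat_lit 12928, nat_lit 18080, nat_lit 21952, nat_lit 25600, nat_lit 29184, nat_lit 37888, nat_lit 41734, nat_lit 37017, nat_lit 32847, nat_lit 29245, nat_lit 24865, nat_lit 20572, nat_lit 16420, nat_lit 12355, nat_lit 8194, nat_lit 4097, nat_lit 2]⟩⟩⟩]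
theorem s384 : Suf yT 2176 (ldrop wS 74) (apW dcM p383) (tgtN dcM p383.e) := Suf.seg (l := l384) (by decide +kernel) s385
def l383 : List AP := [⟨[nat_lit 70, nat_lit 640, nat_lit 54, nat_lit 46], [], (nat_lit 120), ⟨[nat_lit 83, nat_lit 50], [nat_lit 0, nat_lit 23, nat_lit 60], ⟨[nat_lit 0x404152c86fb24c7838825c67762a8d], [nat_lit 173056, nat_lit 168448, nat_lit 164096, nat_lit 161024, nat_lit 156480, nat_lit 152736, nat_lit 149328, nat_lit 143712, nat_lit 140328, nat_lit 135626, nat_lit 132058, nat_lit 492, nat_lit 5852, nat_lit 9560, nat_lit 12912, nat_lit 17952, nat_lit 22464, nat_lit 25728, nat_lit 29440, nat_lit 34304, nat_lit 37888, nat_lit 41472, nat_lit 38360, nat_lit 33460, nat_lit 29247, nat_lit 24632, nat_lit 20499, nat_lit 16426, nat_lit 12307, nat_lit 8320, nat_lit 4101]⟩⟩⟩,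
  ⟨[nat_lit 643, nat_lit 56, nat_lit 72, nat_lit 71], [], (nat_lit 1046), ⟨[nat_lit 43, nat_lit 92], [nat_lit 0, nat_lit 7, nat_lit 51], ⟨[nat_lit 0x9592d5be341b1c42a900356e29c0e1], [nat_lit 174080, nat_lit 171520, nat_lit 165888, nat_lit 159296, nat_lit 154784, nat_lit 147520, nat_lit 146208, nat_lit 140664, nat_lit 135358, nat_lit 133067, nat_lit 1180, nat_lit 5992, nat_lit 8256, nat_lit 12784, nat_lit 18112, nat_lit 21440, nat_lit 24960, nat_lit 30464, nat_lit 37888, nat_lit 41551, nat_lit 38039, nat_lit 32949, nat_lit 28673, nat_lit 25120, nat_lit 20489, nat_lit 16396, nat_lit 12311, nat_lit 8208, nat_lit 4097, nat_lit 2]⟩⟩⟩]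
theorem s383 : Suf yT 2176 (ldrop wS 59) (apW dcM p382) (tgtN dcM p382.e) := Suf.seg (l := l383) (by decide +kernel) s384
def l382 : List AP := [⟨[nat_lit 638, nat_lit 30, nat_lit 22, nat_lit 634, nat_lit 29, nat_lit 23], [], (nat_lit 338), ⟨[nat_lit 12, nat_lit 69], [nat_lit 82, nat_lit 51], ⟨[nat_lit 0x65a2872a547dd70218676a6b309402], [nat_lit 175104, nat_lit 171520, nat_lit 166144, nat_lit 160256, nat_lit 157504, nat_lit 152704, nat_lit 150192, nat_lit 145208, nat_lit 139508, nat_lit 137678, nat_lit 134804, nat_lit 1814, nat_lit 5904, nat_lit 8320, nat_lit 12864, nat_lit 18304, nat_lit 20736, nat_lit 26240, nat_lit 28928, nat_lit 34304, nat_lit 37888, nat_lit 41683, nat_lit 37253, nat_lit 33353, nat_lit 28784, nat_lit 24725, nat_lit 20544, nat_lit 16396, nat_lit 12307, nat_lit 8193]⟩⟩⟩,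
  ⟨[nat_lit 660, nat_lit 177], [], (nat_lit 419), ⟨[nat_lit 80, nat_lit 47], [nat_lit 57], ⟨[nat_lit 0x932ca4bef3722342984400c276d570], [nat_lit 174080, nat_lit 171008, nat_lit 166656, nat_lit 160512, nat_lit 159616, nat_lit 154016, nat_lit 147952, nat_lit 146632, nat_lit 140456, nat_lit 135176, nat_lit 131187, nat_lit 1698, nat_lit 5296, nat_lit 9144, nat_lit 14112, nat_lit 16416, nat_lit 22208, nat_lit 24960, nat_lit 29440, nat_lit 33792, nat_lit 37888, nat_lit 41632, nat_lit 38199, nat_lit 32952, nat_lit 29026, nat_lit 24637, nat_lit 20548, nat_lit 16420, nat_lit 12295, nat_lit 8202, nat_lit 4]⟩⟩⟩]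
theorem s382 : Suf yT 2176 (ldrop wS 44) (apW dcM p381) (tgtN dcM p381.e) := Suf.seg (l := l382) (by decide +kernel) s383
def l381 : List AP := [⟨[nat_lit 175, nat_lit 173], [], (nat_lit 396), ⟨[nat_lit 0, nat_lit 18, nat_lit 66], [nat_lit 8, nat_lit 91], ⟨[nat_lit 0x2282f2a04db1cd34de2b80074ac98e], [nat_lit 169472, nat_lit 166912, nat_lit 160640, nat_lit 155904, nat_lit 151872, nat_lit 148352, nat_lit 143472, nat_lit 139884, nat_lit 135472, nat_lit 132975, nat_lit 342, nat_lit 4156, nat_lit 10160, nat_lit 14176, nat_lit 18176, nat_lit 26368, nat_lit 33792, nat_lit 37888, nat_lit 41739, nat_lit 38079, nat_lit 32854, nat_lit 29276, nat_lit 24735, nat_lit 20575, nat_lit 16455, nat_lit 12325, nat_lit 8201, nat_lit 8]⟩⟩⟩,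
  ⟨[nat_lit 50], [], (nat_lit 1046), ⟨[nat_lit 0, nat_lit 72], [nat_lit 0, nat_lit 24, nat_lit 90], ⟨[nat_lit 0x2282f2a04db1cd34de2b80074ac98e], [nat_lit 169472, nat_lit 166912, nat_lit 160512, nat_lit 155968, nat_lit 151872, nat_lit 148352, nat_lit 143472, nat_lit 139884, nat_lit 135472, nat_lit 132975, nat_lit 342, nat_lit 4156, nat_lit 10160, nat_lit 14176, nat_lit 18176, nat_lit 26368, nat_lit 33792, nat_lit 37888, nat_lit 41739, nat_lit 38079, nat_lit 32854, nat_lit 29276, nat_lit 24735, nat_lit 20575, nat_lit 16455, nat_lit 12325, nat_lit 8201, nat_lit 8]⟩⟩⟩]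
theorem s381 : Suf yT 2176 (ldrop wS 38) (apW dcM p380) (tgtN dcM p380.e) := Suf.seg (l := l381) (by decide +kernel) s382
def l380 : List AP := [⟨[nat_lit 661, nat_lit 171], [], (nat_lit 418), ⟨[nat_lit 0, nat_lit 38, nat_lit 49], [nat_lit 88, nat_lit 69], ⟨[nat_lit 0x821ed3acb288520b984e612a3552d3], [nat_lit 171008, nat_lit 165888, nat_lit 162560, nat_lit 157760, nat_lit 151840, nat_lit 151360, nat_lit 145464, nat_lit 140572, nat_lit 138516, nat_lit 133070, nat_lit 404, nat_lit 4340, nat_lit 8968, nat_lit 13936, nat_lit 17984, nat_lit 22016, nat_lit 25216, nat_lit 28928, nat_lit 37888, nat_lit 41974, nat_lit 37286, nat_lit 33484, nat_lit 28709, nat_lit 24844, nat_lit 20495, nat_lit 16398, nat_lit 12307, nat_lit 8194, nat_lit 4097]⟩⟩⟩,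
  ⟨[nat_lit 173, nat_lit 662], [], (nat_lit 418), ⟨[nat_lit 40, nat_lit 62], [nat_lit 0, nat_lit 38, nat_lit 59], ⟨[nat_lit 0x80503b13488e53b34ca455c47acb7], [nat_lit 173056, nat_lit 169472, nat_lit 166912, nat_lit 160640, nat_lit 155040, nat_lit 150144, nat_lit 145968, nat_lit 141764, nat_lit 139124, nat_lit 132607, nat_lit 1354, nat_lit 4540, nat_lit 8928, nat_lit 14304, nat_lit 16512, nat_lit 20544, nat_lit 24704, nat_lit 29952, nat_lit 33792, nat_lit 37888, nat_lit 41035, nat_lit 37016, nat_lit 32891, nat_lit 28758, nat_lit 24610, nat_lit 20544, nat_lit 16386, nat_lit 12290]⟩⟩⟩]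
theorem s380 : Suf yT 2176 (ldrop wS 23) (apW dcM p379) (tgtN dcM p379.e) := Suf.seg (l := l380) (by decide +kernel) s381
def l379 : List AP := [⟨[nat_lit 57, nat_lit 56, nat_lit 72], [], (nat_lit 120), ⟨[nat_lit 80, nat_lit 91], [nat_lit 0, nat_lit 14, nat_lit 58], ⟨[nat_lit 0x82ca7201d48aaf56c9e8b04cc18a69], [nat_lit 164608, nat_lit 156160, nat_lit 153280, nat_lit 148288, nat_lit 144248, nat_lit 139960, nat_lit 135310, nat_lit 134342, nat_lit 1478, nat_lit 4684, nat_lit 10120, nat_lit 13168, nat_lit 16704, nat_lit 22016, nat_lit 25856, nat_lit 30464, nat_lit 33792, nat_lit 41853, nat_lit 37111, nat_lit 32955, nat_lit 28731, nat_lit 25132, nat_lit 20617, nat_lit 16427, nat_lit 12306, nat_lit 8195]⟩⟩⟩,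
  ⟨[nat_lit 640, nat_lit 73, nat_lit 67, nat_lit 47], [], (nat_lit 120), ⟨[nat_lit 0, nat_lit 16, nat_lit 52], [nat_lit 0, nat_lit 24, nat_lit 70], ⟨[nat_lit 0x792078a90e1aee6096a9a59929880d], [nat_lit 174080, nat_lit 171520, nat_lit 166400, nat_lit 156672, nat_lit 153280, nat_lit 149536, nat_lit 145048, nat_lit 139784, nat_lit 138550, nat_lit 135018, nat_lit 488, nat_lit 5904, nat_lit 8680, nat_lit 13648, nat_lit 17568, nat_lit 21056, nat_lit 25728, nat_lit 30208, nat_lit 33792, nat_lit 41898, nat_lit 38065, nat_lit 33326, nat_lit 29815, nat_lit 24714, nat_lit 20484, nat_lit 16395, nat_lit 12311, nat_lit 8195, nat_lit 4]⟩⟩⟩]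
theorem s379 : Suf yT 2176 (ldrop wS 8) (apW dcM p378) (tgtN dcM p378.e) := Suf.seg (l := l379) (by decide +kernel) s380
def l378 : List AP := [⟨[nat_lit 5, nat_lit 625, nat_lit 7, nat_lit 9, nat_lit 2], [], (nat_lit 1030), ⟨[nat_lit 0, nat_lit 27, nat_lit 89], [nat_lit 0, nat_lit 79, nat_lit 66], ⟨[nat_lit 0x101e8931500ce866aeb619237495c7], [nat_lit 165888, nat_lit 160768, nat_lit 155840, nat_lit 155168, nat_lit 151008, nat_lit 145992, nat_lit 143032, nat_lit 138804, nat_lit 132347, nat_lit 1440, nat_lit 5768, nat_lit 10032, nat_lit 13552, nat_lit 18144, nat_lit 21184, nat_lit 24704, nat_lit 29184, nat_lit 33280, nat_lit 41654, nat_lit 37069, nat_lit 32943, nat_lit 28678, nat_lit 24582, nat_lit 20745, nat_lit 17413, nat_lit 8194]⟩⟩⟩,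
  ⟨[nat_lit 16, nat_lit 15, nat_lit 629, nat_lit 36, nat_lit 632, nat_lit 14], [], (nat_lit 90), ⟨[nat_lit 42, nat_lit 66], [nat_lit 83, nat_lit 58], ⟨[nat_lit 0x492a6d8a811cd32518b0c2f5745e3], [nat_lit 170496, nat_lit 164608, nat_lit 162560, nat_lit 156672, nat_lit 154816, nat_lit 151472, nat_lit 145536, nat_lit 140308, nat_lit 136582, nat_lit 133811, nat_lit 688, nat_lit 4920, nat_lit 9648, nat_lit 12800, nat_lit 16864, nat_lit 22336, nat_lit 24832, nat_lit 33792, nat_lit 41801, nat_lit 37001, nat_lit 32939, nat_lit 28700, nat_lit 25600, nat_lit 20498, nat_lit 16416, nat_lit 12293, nat_lit 8200, nat_lit 4113]⟩⟩⟩]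
theorem rS20 : Suf yT 2176 wS [yT.get 54] 0 := Suf.seg (l := l378) (by decide +kernel) s379

def p392 : AP := ⟨[], [], (nat_lit 255), ⟨[nat_lit 72, nat_lit 66], [nat_lit 0, nat_lit 6, nat_lit 46], ⟨[nat_lit 0x5c0ce6ccea9310410e81b5ea0895e9], [nat_lit 173056, nat_lit 170496, nat_lit 165376, nat_lit 161664, nat_lit 158848, nat_lit 152672, nat_lit 149376, nat_lit 145904, nat_lit 141908, nat_lit 137706, nat_lit 134183, nat_lit 1928, nat_lit 4780, nat_lit 10032, nat_lit 13664, nat_lit 17920, nat_lit 21056, nat_lit 26496, nat_lit 29184, nat_lit 33280, nat_lit 41574, nat_lit 38198, nat_lit 33509, nat_lit 28732, nat_lit 25116, nat_lit 20627, nat_lit 16526, nat_lit 12291, nat_lit 8224, nat_lit 4097]⟩⟩⟩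
def p393 : AP := ⟨[nat_lit 24, nat_lit 638, nat_lit 28, nat_lit 24, nat_lit 636], [], (nat_lit 216), ⟨[nat_lit 36, nat_lit 48], [nat_lit 0, nat_lit 25, nat_lit 65], ⟨[nat_lit 0x61c818955498e0e02d0f4de46a8acd], [nat_lit 168960, nat_lit 165376, nat_lit 162688, nat_lit 156160, nat_lit 151936, nat_lit 147888, nat_lit 144272, nat_lit 139800, nat_lit 135552, nat_lit 133108, nat_lit 364, nat_lit 5208, nat_lit 8320, nat_lit 14080, nat_lit 18240, nat_lit 21504, nat_lit 37888, nat_lit 41433, nat_lit 36903, nat_lit 33841, nat_lit 24840, nat_lit 20570, nat_lit 16426, nat_lit 12325, nat_lit 4104]⟩⟩⟩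
def p394 : AP := ⟨[nat_lit 28, nat_lit 28, nat_lit 27, nat_lit 30], [], (nat_lit 88), ⟨[nat_lit 0, nat_lit 23, nat_lit 55], [nat_lit 1, nat_lit 91], ⟨[nat_lit 0x2564d644d450c024a161b3e65740f7], [nat_lit 173056, nat_lit 169984, nat_lit 155968, nat_lit 152544, nat_lit 147888, nat_lit 145248, nat_lit 141236, nat_lit 136158, nat_lit 132346, nat_lit 1652, nat_lit 4328, nat_lit 10224, nat_lit 14288, nat_lit 17472, nat_lit 20544, nat_lit 25088, nat_lit 29184, nat_lit 37888, nat_lit 41144, nat_lit 32826, nat_lit 28691, nat_lit 24608, nat_lit 20553, nat_lit 16515, nat_lit 12325, nat_lit 8200, nat_lit 4097]⟩⟩⟩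
def p395 : AP := ⟨[nat_lit 114, nat_lit 137, nat_lit 113], [], (nat_lit 246), ⟨[nat_lit 0, nat_lit 2, nat_lit 69], [nat_lit 0, nat_lit 43], ⟨[nat_lit 0x1c1ab94e84b192871597a80277a851], [nat_lit 171520, nat_lit 165376, nat_lit 161664, nat_lit 158208, nat_lit 149280, nat_lit 147320, nat_lit 141644, nat_lit 138158, nat_lit 134301, nat_lit 78, nat_lit 5084, nat_lit 9560, nat_lit 13664, nat_lit 18112, nat_lit 21696, nat_lit 25728, nat_lit 29696, nat_lit 33280, nat_lit 41426, nat_lit 36961, nat_lit 32798, nat_lit 28679, nat_lit 24593, nat_lit 20511, nat_lit 12289, nat_lit 4128]⟩⟩⟩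
def p396 : AP := ⟨[], [], (nat_lit 255), ⟨[nat_lit 35, nat_lit 53], [nat_lit 8, nat_lit 60], ⟨[nat_lit 0x53cd7b34ab651049c41010c3271ea9], [nat_lit 173056, nat_lit 168960, nat_lit 166400, nat_lit 162176, nat_lit 157824, nat_lit 155360, nat_lit 148320, nat_lit 146528, nat_lit 143220, nat_lit 135658, nat_lit 134322, nat_lit 1066, nat_lit 5900, nat_lit 8824, nat_lit 13760, nat_lit 18240, nat_lit 21312, nat_lit 24832, nat_lit 37888, nat_lit 41923, nat_lit 37259, nat_lit 33472, nat_lit 29302, nat_lit 24728, nat_lit 20573, nat_lit 16419, nat_lit 12308, nat_lit 8194]⟩⟩⟩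
def p397 : AP := ⟨[nat_lit 130, nat_lit 649, nat_lit 109], [], (nat_lit 246), ⟨[nat_lit 0, nat_lit 14, nat_lit 50], [nat_lit 30, nat_lit 52], ⟨[nat_lit 0x5dcb335208b0aac88e4f0b487501c9], [nat_lit 168960, nat_lit 164096, nat_lit 161664, nat_lit 156480, nat_lit 153984, nat_lit 149296, nat_lit 144648, nat_lit 141232, nat_lit 137126, nat_lit 132608, nat_lit 1478, nat_lit 4720, nat_lit 10128, nat_lit 13328, nat_lit 18112, nat_lit 21824, nat_lit 25600, nat_lit 29440, nat_lit 33280, nat_lit 37888, nat_lit 41259, nat_lit 37152, nat_lit 33464, nat_lit 28720, nat_lit 24608, nat_lit 20505, nat_lit 16416, nat_lit 12308, nat_lit 8195, nat_lit 4101, nat_lit 4]⟩⟩⟩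
def p398 : AP := ⟨[nat_lit 652, nat_lit 137], [], (nat_lit 217), ⟨[nat_lit 23, nat_lit 67], [nat_lit 17, nat_lit 67], ⟨[nat_lit 0x93cacb380b1a9b414c272251135e15], [nat_lit 174080, nat_lit 169984, nat_lit 166400, nat_lit 163328, nat_lit 156352, nat_lit 154752, nat_lit 149936, nat_lit 144704, nat_lit 141640, nat_lit 135194, nat_lit 131913, nat_lit 342, nat_lit 5472, nat_lit 10224, nat_lit 14240, nat_lit 17152, nat_lit 22080, nat_lit 25088, nat_lit 33792, nat_lit 37888, nat_lit 40978, nat_lit 37251, nat_lit 33518, nat_lit 29255, nat_lit 24606, nat_lit 20743, nat_lit 16458, nat_lit 12326, nat_lit 8195, nat_lit 4101]⟩⟩⟩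
def p399 : AP := ⟨[nat_lit 651, nat_lit 130, nat_lit 109], [], (nat_lit 246), ⟨[nat_lit 0, nat_lit 77, nat_lit 69], [nat_lit 45, nat_lit 90], ⟨[nat_lit 0x90dcb89e162d1289a84c00497355af], [nat_lit 175104, nat_lit 164352, nat_lit 162304, nat_lit 155712, nat_lit 152608, nat_lit 150720, nat_lit 146432, nat_lit 142108, nat_lit 137598, nat_lit 135010, nat_lit 1014, nat_lit 5488, nat_lit 8824, nat_lit 13152, nat_lit 18144, nat_lit 21248, nat_lit 25088, nat_lit 29440, nat_lit 33792, nat_lit 37888, nat_lit 41115, nat_lit 36937, nat_lit 32991, nat_lit 28793, nat_lit 24590, nat_lit 20634, nat_lit 16394, nat_lit 12289]⟩⟩⟩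
def p400 : AP := ⟨[nat_lit 23, nat_lit 31, nat_lit 31, nat_lit 635, nat_lit 24, nat_lit 22], [], (nat_lit 216), ⟨[nat_lit 0, nat_lit 38, nat_lit 50], [nat_lit 25, nat_lit 47], ⟨[nat_lit 0x63aea08d349d510b10eb8bc453480d], [nat_lit 168448, nat_lit 165376, nat_lit 161408, nat_lit 157376, nat_lit 152576, nat_lit 148496, nat_lit 145952, nat_lit 140416, nat_lit 136544, nat_lit 131493, nat_lit 484, nat_lit 5904, nat_lit 8672, nat_lit 13312, nat_lit 17312, nat_lit 24960, nat_lit 33792, nat_lit 41696, nat_lit 38014, nat_lit 32834, nat_lit 29298, nat_lit 24708, nat_lit 20551, nat_lit 16902, nat_lit 8227, nat_lit 4128]⟩⟩⟩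
def p401 : AP := ⟨[nat_lit 634, nat_lit 32, nat_lit 31, nat_lit 32, nat_lit 25], [], (nat_lit 216), ⟨[nat_lit 0, nat_lit 78, nat_lit 61], [nat_lit 0, nat_lit 79, nat_lit 70], ⟨[nat_lit 0x624a1b4ab4bc61303d461388b41c6d], [nat_lit 165120, nat_lit 160640, nat_lit 157440, nat_lit 153184, nat_lit 149248, nat_lit 145080, nat_lit 139324, nat_lit 136002, nat_lit 132978, nat_lit 492, nat_lit 5496, nat_lit 8824, nat_lit 13424, nat_lit 18080, nat_lit 20736, nat_lit 25472, nat_lit 30464, nat_lit 33792, nat_lit 37888, nat_lit 41756, nat_lit 37955, nat_lit 33375, nat_lit 28720, nat_lit 25151, nat_lit 20554, nat_lit 16514, nat_lit 12322, nat_lit 8704, nat_lit 4101]⟩⟩⟩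
def p402 : AP := ⟨[nat_lit 26, nat_lit 634, nat_lit 26, nat_lit 635], [], (nat_lit 88), ⟨[nat_lit 28, nat_lit 51], [nat_lit 0, nat_lit 27, nat_lit 52], ⟨[nat_lit 0x91962a214dab0012bae78a48383ed3], [nat_lit 166400, nat_lit 160384, nat_lit 156480, nat_lit 152576, nat_lit 148688, nat_lit 143936, nat_lit 140512, nat_lit 135860, nat_lit 131460, nat_lit 846, nat_lit 4340, nat_lit 10088, nat_lit 12352, nat_lit 17696, nat_lit 22016, nat_lit 24832, nat_lit 30208, nat_lit 33792, nat_lit 41234, nat_lit 37141, nat_lit 33508, nat_lit 28993, nat_lit 24607, nat_lit 20492, nat_lit 16455, nat_lit 12304, nat_lit 8224, nat_lit 4097]⟩⟩⟩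
def p403 : AP := ⟨[nat_lit 110, nat_lit 649], [], (nat_lit 255), ⟨[nat_lit 77, nat_lit 63], [nat_lit 73, nat_lit 48], ⟨[nat_lit 0x320aaa58613912b9bdd26b21105c55], [nat_lit 170496, nat_lit 164096, nat_lit 162944, nat_lit 157248, nat_lit 155328, nat_lit 150640, nat_lit 146408, nat_lit 140516, nat_lit 135652, nat_lit 133604, nat_lit 1766, nat_lit 5208, nat_lit 9928, nat_lit 12976, nat_lit 18016, nat_lit 21312, nat_lit 25984, nat_lit 30464, nat_lit 41505, nat_lit 37191, nat_lit 33368, nat_lit 28767, nat_lit 24746, nat_lit 20551, nat_lit 16399, nat_lit 4097, nat_lit 2]⟩⟩⟩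
def p404 : AP := ⟨[], [], (nat_lit 217), ⟨[nat_lit 3, nat_lit 91], [nat_lit 0, nat_lit 35, nat_lit 93], ⟨[nat_lit 0xa3dc80960c1d542bc533358eb9100d], [nat_lit 162560, nat_lit 155840, nat_lit 151680, nat_lit 148080, nat_lit 144856, nat_lit 140176, nat_lit 135408, nat_lit 131887, nat_lit 364, nat_lit 4788, nat_lit 8568, nat_lit 13184, nat_lit 16512, nat_lit 21504, nat_lit 26368, nat_lit 28928, nat_lit 37888, nat_lit 41133, nat_lit 37056, nat_lit 33007, nat_lit 28735, nat_lit 24869, nat_lit 20639, nat_lit 16390, nat_lit 12354, nat_lit 8210, nat_lit 4113]⟩⟩⟩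
def l405 : List AP := [⟨[], [], (nat_lit 1034), ⟨[nat_lit 17, nat_lit 60], [nat_lit 83, nat_lit 93], ⟨[nat_lit 0x320773d1220b0102b49252dd19d6cf], [nat_lit 173056, nat_lit 168960, nat_lit 164608, nat_lit 160768, nat_lit 157504, nat_lit 155392, nat_lit 148192, nat_lit 144072, nat_lit 139416, nat_lit 135720, nat_lit 132529, nat_lit 1488, nat_lit 5208, nat_lit 9384, nat_lit 14144, nat_lit 17984, nat_lit 21056, nat_lit 25472, nat_lit 29440, nat_lit 41570, nat_lit 37334, nat_lit 33334, nat_lit 28796, nat_lit 24588, nat_lit 20493, nat_lit 16524, nat_lit 12295, nat_lit 8200, nat_lit 4100, nat_lit 2]⟩⟩⟩]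
theorem s405 : Suf yT 2304 (ldrop wS 161) (apW dcM p404) (tgtN dcM p404.e) := Suf.fin' (l := l405) (by decide +kernel)
def l404 : List AP := [⟨[nat_lit 115, nat_lit 649, nat_lit 109], [], (nat_lit 254), ⟨[nat_lit 7, nat_lit 54], [nat_lit 0, nat_lit 88, nat_lit 90], ⟨[nat_lit 0x8388a098b71d52b6d04c89de89d812], [nat_lit 174080, nat_lit 168960, nat_lit 164608, nat_lit 160896, nat_lit 156800, nat_lit 153472, nat_lit 148288, nat_lit 145328, nat_lit 140332, nat_lit 135836, nat_lit 133077, nat_lit 4684, nat_lit 10208, nat_lit 12976, nat_lit 17024, nat_lit 20928, nat_lit 26112, nat_lit 28928, nat_lit 41555, nat_lit 38355, nat_lit 33458, nat_lit 29272, nat_lit 24717, nat_lit 20765, nat_lit 16453, nat_lit 12324, nat_lit 8226, nat_lit 4104, nat_lit 2]⟩⟩⟩,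
  ⟨[nat_lit 114, nat_lit 649, nat_lit 130], [], (nat_lit 254), ⟨[nat_lit 74, nat_lit 90], [nat_lit 0, nat_lit 21, nat_lit 56], ⟨[nat_lit 0x5c0932b1ea13af11ca8db550730409], [nat_lit 168448, nat_lit 165888, nat_lit 160000, nat_lit 157248, nat_lit 154208, nat_lit 149680, nat_lit 147416, nat_lit 141368, nat_lit 138824, nat_lit 131924, nat_lit 1478, nat_lit 4548, nat_lit 8504, nat_lit 13552, nat_lit 18112, nat_lit 20864, nat_lit 25984, nat_lit 28928, nat_lit 33280, nat_lit 37888, nat_lit 41447, nat_lit 37330, nat_lit 33487, nat_lit 29272, nat_lit 24599, nat_lit 20499, nat_lit 16416, nat_lit 12290, nat_lit 4105, nat_lit 2]⟩⟩⟩]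
theorem s404 : Suf yT 2304 (ldrop wS 146) (apW dcM p403) (tgtN dcM p403.e) := Suf.seg (l := l404) (by decide +kernel) s405
def l403 : List AP := [⟨[nat_lit 29, nat_lit 634, nat_lit 636, nat_lit 634, nat_lit 22], [], (nat_lit 216), ⟨[nat_lit 44, nat_lit 48], [nat_lit 38, nat_lit 92], ⟨[nat_lit 0x61ad5141147a5645443771e530146d], [nat_lit 173056, nat_lit 165120, nat_lit 160256, nat_lit 159168, nat_lit 152544, nat_lit 147792, nat_lit 144648, nat_lit 141224, nat_lit 135302, nat_lit 132104, nat_lit 428, nat_lit 5096, nat_lit 8488, nat_lit 12416, nat_lit 17856, nat_lit 21760, nat_lit 25856, nat_lit 33792, nat_lit 41691, nat_lit 38043, nat_lit 32985, nat_lit 28953, nat_lit 24608, nat_lit 20559, nat_lit 16642, nat_lit 12310, nat_lit 8201, nat_lit 4113]⟩⟩⟩,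
  ⟨[], [], (nat_lit 255), ⟨[nat_lit 0, nat_lit 10, nat_lit 55], [nat_lit 0, nat_lit 5, nat_lit 92], ⟨[nat_lit 0x55aae8be6b850e1bc8a3220cd03049], [nat_lit 174080, nat_lit 171520, nat_lit 167424, nat_lit 161664, nat_lit 159040, nat_lit 153728, nat_lit 149088, nat_lit 145792, nat_lit 139536, nat_lit 136066, nat_lit 131817, nat_lit 1478, nat_lit 4408, nat_lit 10088, nat_lit 13552, nat_lit 16672, nat_lit 30208, nat_lit 34304, nat_lit 37888, nat_lit 41912, nat_lit 37089, nat_lit 32864, nat_lit 28728, nat_lit 24602, nat_lit 20620, nat_lit 16431, nat_lit 12295, nat_lit 8194, nat_lit 4100, nat_lit 8]⟩⟩⟩]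
theorem s403 : Suf yT 2304 (ldrop wS 140) (apW dcM p402) (tgtN dcM p402.e) := Suf.seg (l := l403) (by decide +kernel) s404
def l402 : List AP := [⟨[], [], (nat_lit 255), ⟨[nat_lit 72, nat_lit 62], [nat_lit 0, nat_lit 26, nat_lit 50], ⟨[nat_lit 0x55185a99cb1c9ed042f6890279a049], [nat_lit 175104, nat_lit 164352, nat_lit 160000, nat_lit 156992, nat_lit 152736, nat_lit 147984, nat_lit 143408, nat_lit 140704, nat_lit 136576, nat_lit 132395, nat_lit 1928, nat_lit 5568, nat_lit 8448, nat_lit 14096, nat_lit 17344, nat_lit 22080, nat_lit 25728, nat_lit 28928, nat_lit 33792, nat_lit 41808, nat_lit 37172, nat_lit 32945, nat_lit 29043, nat_lit 24712, nat_lit 20753, nat_lit 16391, nat_lit 12357, nat_lit 8203, nat_lit 4105, nat_lit 8]⟩⟩⟩,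
  ⟨[nat_lit 118, nat_lit 653, nat_lit 110], [], (nat_lit 246), ⟨[nat_lit 0, nat_lit 37, nat_lit 60], [nat_lit 0, nat_lit 88, nat_lit 47], ⟨[nat_lit 0x2a8eb7b82331128b4e548c2b71300d], [nat_lit 174080, nat_lit 170496, nat_lit 167424, nat_lit 162048, nat_lit 155712, nat_lit 155200, nat_lit 150272, nat_lit 145280, nat_lit 142448, nat_lit 136484, nat_lit 131140, nat_lit 1624, nat_lit 5988, nat_lit 8680, nat_lit 12832, nat_lit 18336, nat_lit 20736, nat_lit 24704, nat_lit 29184, nat_lit 33280, nat_lit 37888, nat_lit 41884, nat_lit 38254, nat_lit 34016, nat_lit 28747, nat_lit 24628, nat_lit 20490, nat_lit 16393, nat_lit 12305, nat_lit 8194, nat_lit 4101]⟩⟩⟩]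
theorem s402 : Suf yT 2304 (ldrop wS 125) (apW dcM p401) (tgtN dcM p401.e) := Suf.seg (l := l402) (by decide +kernel) s403
def l401 : List AP := [⟨[nat_lit 137, nat_lit 110, nat_lit 110], [], (nat_lit 246), ⟨[nat_lit 0, nat_lit 71, nat_lit 91], [nat_lit 0, nat_lit 73, nat_lit 64], ⟨[nat_lit 0x3a8a8082133112b75e8db55ec90e22], [nat_lit 168960, nat_lit 164608, nat_lit 159872, nat_lit 156096, nat_lit 151616, nat_lit 144168, nat_lit 139620, nat_lit 135272, nat_lit 134018, nat_lit 4, nat_lit 4924, nat_lit 8200, nat_lit 17248, nat_lit 22080, nat_lit 25088, nat_lit 30208, nat_lit 41206, nat_lit 36941, nat_lit 32932, nat_lit 28929, nat_lit 25119, nat_lit 20616, nat_lit 16461, nat_lit 12293, nat_lit 8193, nat_lit 4112]⟩⟩⟩,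
  ⟨[nat_lit 25, nat_lit 27, nat_lit 637, nat_lit 25], [], (nat_lit 88), ⟨[nat_lit 0, nat_lit 10, nat_lit 52], [nat_lit 19, nat_lit 48], ⟨[nat_lit 0x914ee220366cc035dcc27d2b14b20a], [nat_lit 173056, nat_lit 168960, nat_lit 166400, nat_lit 161152, nat_lit 156800, nat_lit 152384, nat_lit 149120, nat_lit 145168, nat_lit 140500, nat_lit 136356, nat_lit 133053, nat_lit 1554, nat_lit 4476, nat_lit 10224, nat_lit 13744, nat_lit 17120, nat_lit 21056, nat_lit 24832, nat_lit 29184, nat_lit 34304, nat_lit 37888, nat_lit 41568, nat_lit 38334, nat_lit 33482, nat_lit 29263, nat_lit 24615, nat_lit 20547, nat_lit 16513, nat_lit 12290, nat_lit 8226, nat_lit 4100]⟩⟩⟩]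
theorem s401 : Suf yT 2304 (ldrop wS 110) (apW dcM p400) (tgtN dcM p400.e) := Suf.seg (l := l401) (by decide +kernel) s402
def l400 : List AP := [⟨[nat_lit 30, nat_lit 26, nat_lit 32, nat_lit 27, nat_lit 27], [], (nat_lit 247), ⟨[nat_lit 34, nat_lit 90], [nat_lit 0, nat_lit 76, nat_lit 90], ⟨[nat_lit 0xaba6b6b080119280c8b0a0cf7b3e2a], [nat_lit 169472, nat_lit 165888, nat_lit 161280, nat_lit 155904, nat_lit 155360, nat_lit 150864, nat_lit 146440, nat_lit 142312, nat_lit 137474, nat_lit 132495, nat_lit 1580, nat_lit 4924, nat_lit 9208, nat_lit 13664, nat_lit 17696, nat_lit 21376, nat_lit 24832, nat_lit 33280, nat_lit 41962, nat_lit 38232, nat_lit 32834, nat_lit 29287, nat_lit 24631, nat_lit 20555, nat_lit 16395, nat_lit 12295, nat_lit 8201]⟩⟩⟩,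
  ⟨[nat_lit 120, nat_lit 137, nat_lit 110], [], (nat_lit 246), ⟨[nat_lit 6, nat_lit 50], [nat_lit 72, nat_lit 48], ⟨[nat_lit 0x5c6ef832c830a9528e72034ee0a889], [nat_lit 173056, nat_lit 168448, nat_lit 166912, nat_lit 160384, nat_lit 156096, nat_lit 155552, nat_lit 150544, nat_lit 145416, nat_lit 142500, nat_lit 138798, nat_lit 132120, nat_lit 724, nat_lit 4396, nat_lit 9664, nat_lit 13552, nat_lit 17248, nat_lit 20928, nat_lit 25088, nat_lit 29440, nat_lit 41851, nat_lit 37199, nat_lit 32946, nat_lit 28757, nat_lit 24743, nat_lit 20568, nat_lit 16452, nat_lit 12292, nat_lit 8201, nat_lit 4]⟩⟩⟩]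
theorem s400 : Suf yT 2304 (ldrop wS 95) (apW dcM p399) (tgtN dcM p399.e) := Suf.seg (l := l400) (by decide +kernel) s401
def l399 : List AP := [⟨[nat_lit 637, nat_lit 634, nat_lit 31, nat_lit 27, nat_lit 26], [], (nat_lit 247), ⟨[nat_lit 0, nat_lit 75], [nat_lit 6, nat_lit 58], ⟨[nat_lit 0x5d54683c283d862a398525e72881a9], [nat_lit 174080, nat_lit 170496, nat_lit 166912, nat_lit 160512, nat_lit 159168, nat_lit 153664, nat_lit 148848, nat_lit 146608, nat_lit 140300, nat_lit 136174, nat_lit 132288, nat_lit 1066, nat_lit 4780, nat_lit 8680, nat_lit 13664, nat_lit 17120, nat_lit 22208, nat_lit 25088, nat_lit 29696, nat_lit 33792, nat_lit 37888, nat_lit 41499, nat_lit 37198, nat_lit 33478, nat_lit 28973, nat_lit 25094, nat_lit 20621, nat_lit 17411, nat_lit 8195, nat_lit 4097, nat_lit 2]⟩⟩⟩,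
  ⟨[], [], (nat_lit 254), ⟨[nat_lit 77, nat_lit 59], [nat_lit 0, nat_lit 81, nat_lit 59], ⟨[nat_lit 0x5d1132382a8d843abd9285cc5381a9], [nat_lit 174080, nat_lit 171008, nat_lit 166656, nat_lit 162432, nat_lit 155712, nat_lit 153824, nat_lit 150304, nat_lit 144328, nat_lit 142648, nat_lit 136824, nat_lit 131413, nat_lit 1066, nat_lit 4720, nat_lit 8680, nat_lit 12752, nat_lit 18112, nat_lit 21056, nat_lit 26112, nat_lit 29440, nat_lit 33280, nat_lit 37888, nat_lit 41547, nat_lit 38197, nat_lit 33522, nat_lit 28684, nat_lit 25115, nat_lit 20564, nat_lit 16429, nat_lit 12309, nat_lit 8195, nat_lit 4097, nat_lit 2]⟩⟩⟩]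
theorem s399 : Suf yT 2304 (ldrop wS 89) (apW dcM p398) (tgtN dcM p398.e) := Suf.seg (l := l399) (by decide +kernel) s400
def l398 : List AP := [⟨[nat_lit 23, nat_lit 31, nat_lit 31, nat_lit 635, nat_lit 24, nat_lit 22], [], (nat_lit 216), ⟨[nat_lit 5, nat_lit 58], [nat_lit 0, nat_lit 74, nat_lit 90], ⟨[nat_lit 0x65ec79a0344d6037116a33c02944ad], [nat_lit 169472, nat_lit 167168, nat_lit 157376, nat_lit 152448, nat_lit 147984, nat_lit 143368, nat_lit 140488, nat_lit 135272, nat_lit 132556, nat_lit 236, nat_lit 5360, nat_lit 8704, nat_lit 13024, nat_lit 18144, nat_lit 20608, nat_lit 25472, nat_lit 41096, nat_lit 37138, nat_lit 33007, nat_lit 29026, nat_lit 24847, nat_lit 20547, nat_lit 16902, nat_lit 12421, nat_lit 8208, nat_lit 4129]⟩⟩⟩,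
  ⟨[nat_lit 113, nat_lit 130], [], (nat_lit 254), ⟨[nat_lit 13, nat_lit 91], [nat_lit 73, nat_lit 49], ⟨[nat_lit 0xb41eba8e8501d2aba22c94c46091ae], [nat_lit 173056, nat_lit 169472, nat_lit 165120, nat_lit 160896, nat_lit 156800, nat_lit 153152, nat_lit 148896, nat_lit 145408, nat_lit 139664, nat_lit 135934, nat_lit 132195, nat_lit 1624, nat_lit 6068, nat_lit 10144, nat_lit 12304, nat_lit 17408, nat_lit 20544, nat_lit 26368, nat_lit 29696, nat_lit 41211, nat_lit 37240, nat_lit 33530, nat_lit 28796, nat_lit 24740, nat_lit 20634, nat_lit 16392, nat_lit 12294, nat_lit 8202, nat_lit 4105, nat_lit 2]⟩⟩⟩]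
theorem s398 : Suf yT 2304 (ldrop wS 74) (apW dcM p397) (tgtN dcM p397.e) := Suf.seg (l := l398) (by decide +kernel) s399
def l397 : List AP := [⟨[nat_lit 130, nat_lit 118, nat_lit 130], [], (nat_lit 217), ⟨[nat_lit 85, nat_lit 93], [nat_lit 0, nat_lit 10, nat_lit 58], ⟨[nat_lit 0x15d4928418a5acb4ea83c164bbcc3], [nat_lit 174080, nat_lit 171520, nat_lit 167680, nat_lit 159872, nat_lit 157440, nat_lit 151344, nat_lit 143712, nat_lit 139328, nat_lit 138556, nat_lit 133379, nat_lit 1818, nat_lit 5996, nat_lit 13312, nat_lit 17408, nat_lit 21504, nat_lit 25344, nat_lit 33792, nat_lit 37888, nat_lit 41801, nat_lit 38212, nat_lit 32777, nat_lit 28735, nat_lit 24615, nat_lit 20489, nat_lit 16393, nat_lit 12290, nat_lit 8258, nat_lit 4105]⟩⟩⟩,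
  ⟨[nat_lit 27, nat_lit 24, nat_lit 634, nat_lit 29, nat_lit 29], [], (nat_lit 216), ⟨[nat_lit 75, nat_lit 90], [nat_lit 0, nat_lit 29, nat_lit 48], ⟨[nat_lit 0x35494bd8a78c9ac105490206b83a6f], [nat_lit 173056, nat_lit 170496, nat_lit 163328, nat_lit 157632, nat_lit 155488, nat_lit 151232, nat_lit 146248, nat_lit 140804, nat_lit 135444, nat_lit 134621, nat_lit 1488, nat_lit 4340, nat_lit 8408, nat_lit 14112, nat_lit 17312, nat_lit 20544, nat_lit 25472, nat_lit 29952, nat_lit 33792, nat_lit 37888, nat_lit 41929, nat_lit 37193, nat_lit 32859, nat_lit 29800, nat_lit 24873, nat_lit 20489, nat_lit 16399, nat_lit 12289, nat_lit 8193]⟩⟩⟩]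
theorem s397 : Suf yT 2304 (ldrop wS 59) (apW dcM p396) (tgtN dcM p396.e) := Suf.seg (l := l397) (by decide +kernel) s398
def l396 : List AP := [⟨[nat_lit 637, nat_lit 27, nat_lit 634], [], (nat_lit 88), ⟨[nat_lit 0, nat_lit 21, nat_lit 62], [nat_lit 25, nat_lit 68], ⟨[nat_lit 0x348418d0f6aac0c9b48e2c10955c6f], [nat_lit 168448, nat_lit 164864, nat_lit 161024, nat_lit 157248, nat_lit 154944, nat_lit 147808, nat_lit 143456, nat_lit 139764, nat_lit 136542, nat_lit 131950, nat_lit 796, nat_lit 5124, nat_lit 9064, nat_lit 12320, nat_lit 17696, nat_lit 22336, nat_lit 25216, nat_lit 29696, nat_lit 41760, nat_lit 37295, nat_lit 33299, nat_lit 28768, nat_lit 24589, nat_lit 20494, nat_lit 16654, nat_lit 12291, nat_lit 8227, nat_lit 4105, nat_lit 4]⟩⟩⟩,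
  ⟨[nat_lit 638, nat_lit 24, nat_lit 21, nat_lit 30], [], (nat_lit 216), ⟨[nat_lit 79], [nat_lit 31, nat_lit 61], ⟨[nat_lit 0x6424a34c342a4ee4080f1dc91aaecd], [nat_lit 173056, nat_lit 170496, nat_lit 165120, nat_lit 160640, nat_lit 159616, nat_lit 152672, nat_lit 148352, nat_lit 146992, nat_lit 142692, nat_lit 138292, nat_lit 133182, nat_lit 566, nat_lit 4340, nat_lit 9040, nat_lit 14320, nat_lit 17504, nat_lit 20992, nat_lit 25600, nat_lit 29952, nat_lit 33792, nat_lit 37888, nat_lit 41070, nat_lit 36911, nat_lit 32881, nat_lit 28793, nat_lit 24720, nat_lit 20565, nat_lit 16421, nat_lit 12292, nat_lit 8195, nat_lit 4]⟩⟩⟩]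
theorem s396 : Suf yT 2304 (ldrop wS 44) (apW dcM p395) (tgtN dcM p395.e) := Suf.seg (l := l396) (by decide +kernel) s397
def l395 : List AP := [⟨[nat_lit 23, nat_lit 22, nat_lit 21, nat_lit 26, nat_lit 30], [], (nat_lit 216), ⟨[nat_lit 34, nat_lit 66], [nat_lit 93], ⟨[nat_lit 0xa202320a4c880ee518b6856697aeed], [nat_lit 173056, nat_lit 164352, nat_lit 160000, nat_lit 156992, nat_lit 153056, nat_lit 149088, nat_lit 143552, nat_lit 142284, nat_lit 135556, nat_lit 131468, nat_lit 488, nat_lit 5700, nat_lit 8944, nat_lit 13712, nat_lit 16736, nat_lit 22336, nat_lit 24704, nat_lit 29184, nat_lit 34304, nat_lit 37888, nat_lit 41595, nat_lit 37268, nat_lit 33521, nat_lit 29219, nat_lit 24859, nat_lit 20492, nat_lit 16390, nat_lit 12292, nat_lit 8202, nat_lit 4101]⟩⟩⟩,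
  ⟨[], [], (nat_lit 255), ⟨[nat_lit 49], [nat_lit 38, nat_lit 62], ⟨[nat_lit 0x5cca20c4ca90104bd9957b9b481c69], [nat_lit 170496, nat_lit 160256, nat_lit 157056, nat_lit 152864, nat_lit 148592, nat_lit 144304, nat_lit 139668, nat_lit 136756, nat_lit 132531, nat_lit 344, nat_lit 5580, nat_lit 8200, nat_lit 12352, nat_lit 16576, nat_lit 20544, nat_lit 24960, nat_lit 29440, nat_lit 33280, nat_lit 37888, nat_lit 41468, nat_lit 32959, nat_lit 28797, nat_lit 24591, nat_lit 20625, nat_lit 16525, nat_lit 12324, nat_lit 8227, nat_lit 4101, nat_lit 4]⟩⟩⟩]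
theorem s395 : Suf yT 2304 (ldrop wS 38) (apW dcM p394) (tgtN dcM p394.e) := Suf.seg (l := l395) (by decide +kernel) s396
def l394 : List AP := [⟨[], [], (nat_lit 255), ⟨[nat_lit 18, nat_lit 57], [nat_lit 0, nat_lit 73, nat_lit 53], ⟨[nat_lit 0x52025932eb689e401e70a0cd6746a9], [nat_lit 168960, nat_lit 167680, nat_lit 160640, nat_lit 157312, nat_lit 154816, nat_lit 150864, nat_lit 145504, nat_lit 142688, nat_lit 138902, nat_lit 132758, nat_lit 804, nat_lit 6084, nat_lit 9648, nat_lit 13552, nat_lit 17088, nat_lit 22144, nat_lit 26496, nat_lit 29440, nat_lit 34304, nat_lit 41906, nat_lit 38185, nat_lit 33912, nat_lit 28992, nat_lit 24862, nat_lit 21528, nat_lit 16391, nat_lit 12294, nat_lit 8200, nat_lit 4101, nat_lit 2]⟩⟩⟩,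
  ⟨[nat_lit 652, nat_lit 649, nat_lit 120], [], (nat_lit 246), ⟨[nat_lit 9, nat_lit 52], [nat_lit 72, nat_lit 50], ⟨[nat_lit 0xad2cb7c065ba92889c0c9b42671242], [nat_lit 168448, nat_lit 164864, nat_lit 160512, nat_lit 159360, nat_lit 152768, nat_lit 148112, nat_lit 143744, nat_lit 141268, nat_lit 137022, nat_lit 133109, nat_lit 488, nat_lit 5080, nat_lit 10144, nat_lit 13248, nat_lit 17408, nat_lit 22400, nat_lit 24704, nat_lit 29696, nat_lit 33792, nat_lit 41189, nat_lit 37256, nat_lit 32774, nat_lit 28762, nat_lit 21511, nat_lit 16522, nat_lit 12422, nat_lit 8200, nat_lit 4128, nat_lit 1024]⟩⟩⟩]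
theorem s394 : Suf yT 2304 (ldrop wS 23) (apW dcM p393) (tgtN dcM p393.e) := Suf.seg (l := l394) (by decide +kernel) s395
def l393 : List AP := [⟨[nat_lit 131, nat_lit 111, nat_lit 137], [], (nat_lit 246), ⟨[nat_lit 0, nat_lit 2, nat_lit 55], [nat_lit 74, nat_lit 91], ⟨[nat_lit 0x639a834e837a92b886e481ec028a55], [nat_lit 173056, nat_lit 171520, nat_lit 164352, nat_lit 160256, nat_lit 159168, nat_lit 151680, nat_lit 148496, nat_lit 146184, nat_lit 143228, nat_lit 138730, nat_lit 133166, nat_lit 1762, nat_lit 5856, nat_lit 8320, nat_lit 13472, nat_lit 17920, nat_lit 21888, nat_lit 24832, nat_lit 33280, nat_lit 37888, nat_lit 41936, nat_lit 37165, nat_lit 33456, nat_lit 28694, nat_lit 25653, nat_lit 20552, nat_lit 16520, nat_lit 12293, nat_lit 8200, nat_lit 4113, nat_lit 2]⟩⟩⟩,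
  ⟨[nat_lit 634, nat_lit 28, nat_lit 636, nat_lit 21], [], (nat_lit 88), ⟨[nat_lit 0, nat_lit 10, nat_lit 53], [nat_lit 76, nat_lit 50], ⟨[nat_lit 0x995c162acd2440fac17215c68a24e6], [nat_lit 174080, nat_lit 171008, nat_lit 166144, nat_lit 160128, nat_lit 156736, nat_lit 151776, nat_lit 151248, nat_lit 144632, nat_lit 140860, nat_lit 137580, nat_lit 134558, nat_lit 786, nat_lit 4680, nat_lit 9096, nat_lit 12896, nat_lit 16448, nat_lit 21504, nat_lit 26368, nat_lit 28928, nat_lit 41894, nat_lit 37956, nat_lit 33507, nat_lit 29195, nat_lit 24759, nat_lit 20491, nat_lit 16463, nat_lit 12322, nat_lit 8195, nat_lit 4101]⟩⟩⟩]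
theorem s393 : Suf yT 2304 (ldrop wS 8) (apW dcM p392) (tgtN dcM p392.e) := Suf.seg (l := l393) (by decide +kernel) s394
def l392 : List AP := [⟨[nat_lit 11, nat_lit 7, nat_lit 628, nat_lit 627, nat_lit 624, nat_lit 6], [], (nat_lit 40), ⟨[nat_lit 40, nat_lit 92], [nat_lit 86, nat_lit 67], ⟨[nat_lit 0x90e6fac14723006a582e5c4b7409a9], [nat_lit 165632, nat_lit 160512, nat_lit 159232, nat_lit 153120, nat_lit 148176, nat_lit 144648, nat_lit 139992, nat_lit 135772, nat_lit 132250, nat_lit 1066, nat_lit 5508, nat_lit 8256, nat_lit 13520, nat_lit 17056, nat_lit 22208, nat_lit 25216, nat_lit 28928, nat_lit 33792, nat_lit 41408, nat_lit 37097, nat_lit 32788, nat_lit 29225, nat_lit 24725, nat_lit 21009, nat_lit 16419, nat_lit 12307, nat_lit 4097, nat_lit 2]⟩⟩⟩,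
  ⟨[nat_lit 24, nat_lit 32, nat_lit 23, nat_lit 25, nat_lit 30], [], (nat_lit 216), ⟨[nat_lit 0, nat_lit 80, nat_lit 91], [nat_lit 0, nat_lit 40, nat_lit 69], ⟨[nat_lit 0xa3e559a16c894ee1dd2432ac01060d], [nat_lit 173056, nat_lit 169472, nat_lit 166400, nat_lit 160896, nat_lit 156864, nat_lit 153088, nat_lit 147472, nat_lit 145064, nat_lit 140948, nat_lit 136176, nat_lit 131285, nat_lit 236, nat_lit 4160, nat_lit 8256, nat_lit 12512, nat_lit 16768, nat_lit 22464, nat_lit 24832, nat_lit 29184, nat_lit 34304, nat_lit 37888, nat_lit 41887, nat_lit 38309, nat_lit 33807, nat_lit 28693, nat_lit 24606, nat_lit 20495, nat_lit 16451, nat_lit 12305, nat_lit 8202, nat_lit 4100]⟩⟩⟩]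
theorem rS21 : Suf yT 2304 wS [yT.get 55] 0 := Suf.seg (l := l392) (by decide +kernel) s393

def p406 : AP := ⟨[nat_lit 25, nat_lit 638], [], (nat_lit 68), ⟨[nat_lit 43, nat_lit 53], [nat_lit 0, nat_lit 84, nat_lit 52], ⟨[nat_lit 0xb0e0f036574927141c413394c2d574], [nat_lit 168448, nat_lit 167424, nat_lit 162304, nat_lit 159552, nat_lit 154528, nat_lit 147984, nat_lit 147256, nat_lit 142336, nat_lit 136686, nat_lit 133378, nat_lit 460, nat_lit 5112, nat_lit 9456, nat_lit 14304, nat_lit 17920, nat_lit 20608, nat_lit 25728, nat_lit 29440, nat_lit 41829, nat_lit 37281, nat_lit 32955, nat_lit 28790, nat_lit 24632, nat_lit 20489, nat_lit 16391, nat_lit 12320, nat_lit 8194, nat_lit 4097]⟩⟩⟩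
def p407 : AP := ⟨[nat_lit 637, nat_lit 32, nat_lit 29, nat_lit 22], [], (nat_lit 1036), ⟨[nat_lit 43, nat_lit 67], [nat_lit 0, nat_lit 3, nat_lit 70], ⟨[nat_lit 0x20283bb1a79b9228054f42cd5b4a25], [nat_lit 168448, nat_lit 166656, nat_lit 159872, nat_lit 157440, nat_lit 154944, nat_lit 151104, nat_lit 145768, nat_lit 141940, nat_lit 138858, nat_lit 131997, nat_lit 568, nat_lit 4924, nat_lit 10208, nat_lit 12416, nat_lit 17664, nat_lit 22336, nat_lit 26112, nat_lit 29696, nat_lit 33280, nat_lit 41732, nat_lit 36983, nat_lit 33966, nat_lit 28968, nat_lit 25134, nat_lit 20736, nat_lit 16460, nat_lit 12321, nat_lit 8211, nat_lit 8]⟩⟩⟩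
def p408 : AP := ⟨[nat_lit 135, nat_lit 131], [], (nat_lit 254), ⟨[nat_lit 16, nat_lit 68], [nat_lit 0, nat_lit 48], ⟨[nat_lit 0xadae981c6c4514b71261134d22822f], [nat_lit 174080, nat_lit 169472, nat_lit 164096, nat_lit 163072, nat_lit 156864, nat_lit 153088, nat_lit 149616, nat_lit 146800, nat_lit 143160, nat_lit 137604, nat_lit 133891, nat_lit 1014, nat_lit 4596, nat_lit 9200, nat_lit 14304, nat_lit 17440, nat_lit 22272, nat_lit 24704, nat_lit 29696, nat_lit 41942, nat_lit 38199, nat_lit 33881, nat_lit 28681, nat_lit 25090, nat_lit 20568, nat_lit 16418, nat_lit 12289, nat_lit 8449, nat_lit 4101]⟩⟩⟩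
def p409 : AP := ⟨[nat_lit 110, nat_lit 111, nat_lit 130], [], (nat_lit 246), ⟨[nat_lit 0, nat_lit 40], [nat_lit 42, nat_lit 68], ⟨[nat_lit 0x78e2965da63d56853a40a142284ec4], [nat_lit 174080, nat_lit 168448, nat_lit 164096, nat_lit 160000, nat_lit 157888, nat_lit 153728, nat_lit 150128, nat_lit 143968, nat_lit 142500, nat_lit 137142, nat_lit 133378, nat_lit 1124, nat_lit 4340, nat_lit 9928, nat_lit 13952, nat_lit 16448, nat_lit 21760, nat_lit 25600, nat_lit 29952, nat_lit 33792, nat_lit 41425, nat_lit 37208, nat_lit 32892, nat_lit 28719, nat_lit 24593, nat_lit 20483, nat_lit 16397, nat_lit 12308, nat_lit 8194, nat_lit 4100]⟩⟩⟩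
def p410 : AP := ⟨[], [], (nat_lit 255), ⟨[nat_lit 8, nat_lit 70], [nat_lit 0, nat_lit 49], ⟨[nat_lit 0x4951464c4ab90013c236a99af70e4b], [nat_lit 169984, nat_lit 165376, nat_lit 161152, nat_lit 159104, nat_lit 153568, nat_lit 148864, nat_lit 145696, nat_lit 142916, nat_lit 138762, nat_lit 133392, nat_lit 404, nat_lit 5080, nat_lit 10168, nat_lit 18176, nat_lit 25216, nat_lit 29952, nat_lit 33280, nat_lit 37888, nat_lit 40963, nat_lit 37311, nat_lit 33321, nat_lit 28794, nat_lit 24612, nat_lit 20483, nat_lit 16513, nat_lit 12295, nat_lit 8200, nat_lit 4097]⟩⟩⟩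
def p411 : AP := ⟨[nat_lit 31, nat_lit 31, nat_lit 635, nat_lit 21, nat_lit 25], [], (nat_lit 216), ⟨[nat_lit 37, nat_lit 63], [nat_lit 0, nat_lit 1, nat_lit 65], ⟨[nat_lit 0x6ddc7428b45be20a92120d8669a44c], [nat_lit 175104, nat_lit 171008, nat_lit 166144, nat_lit 160256, nat_lit 156480, nat_lit 151712, nat_lit 149728, nat_lit 143528, nat_lit 141112, nat_lit 137934, nat_lit 133842, nat_lit 1580, nat_lit 4408, nat_lit 8608, nat_lit 13552, nat_lit 17248, nat_lit 21888, nat_lit 25472, nat_lit 29440, nat_lit 33280, nat_lit 37888, nat_lit 41714, nat_lit 38229, nat_lit 33408, nat_lit 28735, nat_lit 25653, nat_lit 20508, nat_lit 16427, nat_lit 12292, nat_lit 8201, nat_lit 4097]⟩⟩⟩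
def p412 : AP := ⟨[nat_lit 652], [], (nat_lit 255), ⟨[nat_lit 0, nat_lit 25, nat_lit 61], [nat_lit 0, nat_lit 34, nat_lit 91], ⟨[nat_lit 0x90da9080d4b9d4bb388c854b1989e8], [nat_lit 168960, nat_lit 165376, nat_lit 160512, nat_lit 157056, nat_lit 152000, nat_lit 147712, nat_lit 144608, nat_lit 140384, nat_lit 135368, nat_lit 134325, nat_lit 256, nat_lit 5156, nat_lit 8448, nat_lit 13920, nat_lit 16736, nat_lit 20672, nat_lit 24960, nat_lit 28928, nat_lit 33280, nat_lit 37888, nat_lit 41542, nat_lit 37121, nat_lit 32795, nat_lit 28673, nat_lit 24609, nat_lit 20483, nat_lit 16650, nat_lit 12290, nat_lit 8193, nat_lit 4105]⟩⟩⟩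
def p413 : AP := ⟨[nat_lit 111, nat_lit 130], [], (nat_lit 254), ⟨[nat_lit 80, nat_lit 69], [nat_lit 0, nat_lit 81, nat_lit 58], ⟨[nat_lit 0x15cc9885c06414ba1c686cab69bca4], [nat_lit 164864, nat_lit 161152, nat_lit 156032, nat_lit 152704, nat_lit 144184, nat_lit 139276, nat_lit 139108, nat_lit 132248, nat_lit 606, nat_lit 4224, nat_lit 9992, nat_lit 14192, nat_lit 16512, nat_lit 21760, nat_lit 25984, nat_lit 30208, nat_lit 34304, nat_lit 41602, nat_lit 37964, nat_lit 32898, nat_lit 28727, nat_lit 24597, nat_lit 20508, nat_lit 16397, nat_lit 12310, nat_lit 8211, nat_lit 8]⟩⟩⟩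
def p414 : AP := ⟨[], [], (nat_lit 217), ⟨[nat_lit 23, nat_lit 56], [nat_lit 74, nat_lit 46], ⟨[nat_lit 0x690205c454abcd798ec8524ee9160c], [nat_lit 171520, nat_lit 165632, nat_lit 160512, nat_lit 157632, nat_lit 153280, nat_lit 149440, nat_lit 144128, nat_lit 139428, nat_lit 136500, nat_lit 131387, nat_lit 318, nat_lit 4476, nat_lit 10032, nat_lit 13488, nat_lit 18336, nat_lit 20544, nat_lit 25088, nat_lit 29952, nat_lit 33280, nat_lit 37888, nat_lit 41482, nat_lit 38302, nat_lit 28769, nat_lit 24608, nat_lit 20547, nat_lit 16896, nat_lit 13314, nat_lit 8208, nat_lit 4129, nat_lit 32]⟩⟩⟩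
def p415 : AP := ⟨[nat_lit 112, nat_lit 137], [], (nat_lit 246), ⟨[nat_lit 0, nat_lit 41, nat_lit 63], [nat_lit 0, nat_lit 41, nat_lit 62], ⟨[nat_lit 0x4903001a6b3d4af9522ebb44355988], [nat_lit 175104, nat_lit 169472, nat_lit 165376, nat_lit 161280, nat_lit 156992, nat_lit 152096, nat_lit 148208, nat_lit 144072, nat_lit 141244, nat_lit 137090, nat_lit 132031, nat_lit 952, nat_lit 5436, nat_lit 8336, nat_lit 12544, nat_lit 18272, nat_lit 22400, nat_lit 24832, nat_lit 28928, nat_lit 33792, nat_lit 41669, nat_lit 38158, nat_lit 32932, nat_lit 29008, nat_lit 24738, nat_lit 20628, nat_lit 16462, nat_lit 12311, nat_lit 8202, nat_lit 4]⟩⟩⟩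
def p416 : AP := ⟨[nat_lit 636, nat_lit 636, nat_lit 26, nat_lit 26, nat_lit 23], [], (nat_lit 216), ⟨[nat_lit 0, nat_lit 11, nat_lit 54], [nat_lit 45, nat_lit 49], ⟨[nat_lit 0x984d911d32dd943ade9042ca44475], [nat_lit 165376, nat_lit 160896, nat_lit 155840, nat_lit 151680, nat_lit 150992, nat_lit 144640, nat_lit 139960, nat_lit 135218, nat_lit 132067, nat_lit 1778, nat_lit 5908, nat_lit 9912, nat_lit 12544, nat_lit 16864, nat_lit 20672, nat_lit 24960, nat_lit 29696, nat_lit 33280, nat_lit 41200, nat_lit 37180, nat_lit 32834, nat_lit 29799, nat_lit 24887, nat_lit 20507, nat_lit 16385, nat_lit 12323, nat_lit 8257, nat_lit 4129]⟩⟩⟩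
def p417 : AP := ⟨[nat_lit 22, nat_lit 28, nat_lit 636], [], (nat_lit 89), ⟨[nat_lit 82, nat_lit 69], [nat_lit 0, nat_lit 8, nat_lit 89], ⟨[nat_lit 0xbda80541851d44124d6f71e498b506], [nat_lit 173056, nat_lit 168960, nat_lit 164096, nat_lit 159872, nat_lit 159488, nat_lit 152992, nat_lit 149360, nat_lit 144088, nat_lit 140328, nat_lit 136704, nat_lit 132567, nat_lit 1516, nat_lit 5316, nat_lit 8680, nat_lit 13664, nat_lit 16768, nat_lit 21632, nat_lit 24704, nat_lit 33280, nat_lit 41215, nat_lit 37338, nat_lit 33298, nat_lit 28736, nat_lit 21530, nat_lit 16904, nat_lit 12544, nat_lit 8224, nat_lit 4112, nat_lit 4]⟩⟩⟩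
def p418 : AP := ⟨[], [], (nat_lit 217), ⟨[nat_lit 0, nat_lit 38, nat_lit 70], [nat_lit 0, nat_lit 85, nat_lit 70], ⟨[nat_lit 0x6c0850824c588d551c7643a697c6f4], [nat_lit 173056, nat_lit 168448, nat_lit 160000, nat_lit 157184, nat_lit 153024, nat_lit 147648, nat_lit 143752, nat_lit 140960, nat_lit 136804, nat_lit 134462, nat_lit 32, nat_lit 4496, nat_lit 9808, nat_lit 14144, nat_lit 17312, nat_lit 20608, nat_lit 29184, nat_lit 33792, nat_lit 41925, nat_lit 37025, nat_lit 33949, nat_lit 28750, nat_lit 24753, nat_lit 20481, nat_lit 16456, nat_lit 12289, nat_lit 8210, nat_lit 4113]⟩⟩⟩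
def l419 : List AP := [⟨[], [], (nat_lit 1034), ⟨[nat_lit 75, nat_lit 67], [nat_lit 5, nat_lit 55], ⟨[nat_lit 0x9c5e06d68351af070485b1e484b162], [nat_lit 174080, nat_lit 171008, nat_lit 165632, nat_lit 162304, nat_lit 159104, nat_lit 153888, nat_lit 147728, nat_lit 143912, nat_lit 139996, nat_lit 137446, nat_lit 134733, nat_lit 1766, nat_lit 5084, nat_lit 8928, nat_lit 13552, nat_lit 17888, nat_lit 21248, nat_lit 24704, nat_lit 41964, nat_lit 36933, nat_lit 32997, nat_lit 28928, nat_lit 24637, nat_lit 20494, nat_lit 16456, nat_lit 12295, nat_lit 8195, nat_lit 4097]⟩⟩⟩]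
theorem s419 : Suf yT 2560 (ldrop wS 161) (apW dcM p418) (tgtN dcM p418.e) := Suf.fin' (l := l419) (by decide +kernel)
def l418 : List AP := [⟨[nat_lit 29, nat_lit 29, nat_lit 637, nat_lit 634, nat_lit 21], [], (nat_lit 216), ⟨[nat_lit 0, nat_lit 29, nat_lit 68], [nat_lit 75, nat_lit 59], ⟨[nat_lit 0x91c2d518b55ba8c1be244081785a69], [nat_lit 175104, nat_lit 169472, nat_lit 164608, nat_lit 161024, nat_lit 157440, nat_lit 152544, nat_lit 148240, nat_lit 144624, nat_lit 141052, nat_lit 135974, nat_lit 131333, nat_lit 1928, nat_lit 4548, nat_lit 9928, nat_lit 12512, nat_lit 16672, nat_lit 22016, nat_lit 25600, nat_lit 29952, nat_lit 33280, nat_lit 41004, nat_lit 37248, nat_lit 32816, nat_lit 29289, nat_lit 24615, nat_lit 20554, nat_lit 16389, nat_lit 12325, nat_lit 8208, nat_lit 4097, nat_lit 2]⟩⟩⟩,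
  ⟨[nat_lit 650, nat_lit 130], [], (nat_lit 254), ⟨[nat_lit 36, nat_lit 67], [nat_lit 11], ⟨[nat_lit 0x4bc2c280ca3c6ceba055991b48486b], [nat_lit 169472, nat_lit 164608, nat_lit 160512, nat_lit 156160, nat_lit 153568, nat_lit 147696, nat_lit 143896, nat_lit 141276, nat_lit 136582, nat_lit 133634, nat_lit 986, nat_lit 5072, nat_lit 8936, nat_lit 12352, nat_lit 17728, nat_lit 25728, nat_lit 30464, nat_lit 33280, nat_lit 41755, nat_lit 38096, nat_lit 33010, nat_lit 29046, nat_lit 24578, nat_lit 20767, nat_lit 16649, nat_lit 12291, nat_lit 8226, nat_lit 4097]⟩⟩⟩]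
theorem s418 : Suf yT 2560 (ldrop wS 146) (apW dcM p417) (tgtN dcM p417.e) := Suf.seg (l := l418) (by decide +kernel) s419
def l417 : List AP := [⟨[nat_lit 135, nat_lit 133, nat_lit 109], [], (nat_lit 254), ⟨[nat_lit 36, nat_lit 50], [nat_lit 19, nat_lit 59], ⟨[nat_lit 0x4b26d2c8cb2068faa23611dd700e0a], [nat_lit 173056, nat_lit 164864, nat_lit 161664, nat_lit 155840, nat_lit 152384, nat_lit 148896, nat_lit 143720, nat_lit 140360, nat_lit 135240, nat_lit 131454, nat_lit 1810, nat_lit 5968, nat_lit 9272, nat_lit 12352, nat_lit 17856, nat_lit 22272, nat_lit 25728, nat_lit 29440, nat_lit 34304, nat_lit 37888, nat_lit 41717, nat_lit 38133, nat_lit 33019, nat_lit 28983, nat_lit 24586, nat_lit 20748, nat_lit 16424, nat_lit 12308, nat_lit 8211, nat_lit 4105]⟩⟩⟩,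
  ⟨[], [], (nat_lit 217), ⟨[nat_lit 0, nat_lit 8, nat_lit 55], [nat_lit 0, nat_lit 40, nat_lit 52], ⟨[nat_lit 0x695130c65471130b1c461aeaa05dec], [nat_lit 171008, nat_lit 164096, nat_lit 160512, nat_lit 156160, nat_lit 152064, nat_lit 148112, nat_lit 143544, nat_lit 139416, nat_lit 136056, nat_lit 131214, nat_lit 1354, nat_lit 5716, nat_lit 9328, nat_lit 13664, nat_lit 17696, nat_lit 22080, nat_lit 25600, nat_lit 34304, nat_lit 41982, nat_lit 34046, nat_lit 28745, nat_lit 24608, nat_lit 20565, nat_lit 16393, nat_lit 12295, nat_lit 8200, nat_lit 4101, nat_lit 4]⟩⟩⟩]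
theorem s417 : Suf yT 2560 (ldrop wS 140) (apW dcM p416) (tgtN dcM p416.e) := Suf.seg (l := l417) (by decide +kernel) s418
def l416 : List AP := [⟨[nat_lit 23, nat_lit 31, nat_lit 31, nat_lit 635, nat_lit 24, nat_lit 22], [], (nat_lit 216), ⟨[nat_lit 0, nat_lit 43, nat_lit 54], [nat_lit 0, nat_lit 78, nat_lit 65], ⟨[nat_lit 0x680c18ccec142ca5a1c5bbea492474], [nat_lit 169984, nat_lit 165376, nat_lit 161664, nat_lit 158080, nat_lit 151584, nat_lit 147616, nat_lit 145960, nat_lit 142352, nat_lit 137860, nat_lit 133130, nat_lit 622, nat_lit 5580, nat_lit 9664, nat_lit 16416, nat_lit 25728, nat_lit 29952, nat_lit 33792, nat_lit 41673, nat_lit 36976, nat_lit 32929, nat_lit 28780, nat_lit 24627, nat_lit 20495, nat_lit 16385, nat_lit 12326, nat_lit 8224, nat_lit 4100]⟩⟩⟩,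
  ⟨[nat_lit 112, nat_lit 135, nat_lit 136], [], (nat_lit 246), ⟨[nat_lit 78], [nat_lit 0, nat_lit 13, nat_lit 55], ⟨[nat_lit 0x34809716a4bbd0b988eab32306d023], [nat_lit 169472, nat_lit 164864, nat_lit 162688, nat_lit 156288, nat_lit 153536, nat_lit 147936, nat_lit 144664, nat_lit 140948, nat_lit 136384, nat_lit 132113, nat_lit 484, nat_lit 4224, nat_lit 9568, nat_lit 12416, nat_lit 16448, nat_lit 20608, nat_lit 24704, nat_lit 29184, nat_lit 33280, nat_lit 41630, nat_lit 36967, nat_lit 32855, nat_lit 24592, nat_lit 20486, nat_lit 16448, nat_lit 12289, nat_lit 8226, nat_lit 8]⟩⟩⟩]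
theorem s416 : Suf yT 2560 (ldrop wS 125) (apW dcM p415) (tgtN dcM p415.e) := Suf.seg (l := l416) (by decide +kernel) s417
def l415 : List AP := [⟨[nat_lit 27, nat_lit 26, nat_lit 636, nat_lit 25], [], (nat_lit 89), ⟨[nat_lit 0, nat_lit 14, nat_lit 93], [nat_lit 21, nat_lit 61], ⟨[nat_lit 0x391a05d8d2a5d837242a8d50578a70], [nat_lit 173056, nat_lit 171520, nat_lit 164608, nat_lit 163328, nat_lit 153984, nat_lit 150496, nat_lit 147304, nat_lit 139732, nat_lit 135912, nat_lit 134504, nat_lit 760, nat_lit 4340, nat_lit 8256, nat_lit 14112, nat_lit 17728, nat_lit 22400, nat_lit 28928, nat_lit 37888, nat_lit 41678, nat_lit 38031, nat_lit 33022, nat_lit 28991, nat_lit 24577, nat_lit 20742, nat_lit 16425, nat_lit 12289, nat_lit 8193]⟩⟩⟩,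
  ⟨[nat_lit 21, nat_lit 25, nat_lit 25, nat_lit 26, nat_lit 30], [], (nat_lit 216), ⟨[nat_lit 4, nat_lit 46], [nat_lit 0, nat_lit 29, nat_lit 52], ⟨[nat_lit 0x2a16d79e50b128c1aab3004ce48af1], [nat_lit 175104, nat_lit 164352, nat_lit 163200, nat_lit 156032, nat_lit 152736, nat_lit 149952, nat_lit 146008, nat_lit 142192, nat_lit 138808, nat_lit 135127, nat_lit 1694, nat_lit 4328, nat_lit 8704, nat_lit 13600, nat_lit 18336, nat_lit 22080, nat_lit 25088, nat_lit 29440, nat_lit 34304, nat_lit 41675, nat_lit 36865, nat_lit 32816, nat_lit 29770, nat_lit 24577, nat_lit 20746, nat_lit 16389, nat_lit 12295, nat_lit 8193]⟩⟩⟩]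
theorem s415 : Suf yT 2560 (ldrop wS 110) (apW dcM p414) (tgtN dcM p414.e) := Suf.seg (l := l415) (by decide +kernel) s416
def l414 : List AP := [⟨[nat_lit 650, nat_lit 652, nat_lit 116], [], (nat_lit 254), ⟨[nat_lit 0, nat_lit 10, nat_lit 89], [nat_lit 0, nat_lit 17, nat_lit 51], ⟨[nat_lit 0xa8c89081917416a3cccd7d2f22a2c2], [nat_lit 168448, nat_lit 164864, nat_lit 160640, nat_lit 155904, nat_lit 152992, nat_lit 148720, nat_lit 144160, nat_lit 139328, nat_lit 136278, nat_lit 133594, nat_lit 4, nat_lit 6008, nat_lit 8448, nat_lit 13104, nat_lit 17504, nat_lit 22016, nat_lit 25856, nat_lit 41765, nat_lit 37187, nat_lit 32956, nat_lit 28968, nat_lit 25094, nat_lit 20759, nat_lit 16513, nat_lit 12326, nat_lit 8193, nat_lit 4129]⟩⟩⟩,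
  ⟨[nat_lit 110, nat_lit 649, nat_lit 109], [], (nat_lit 254), ⟨[nat_lit 12, nat_lit 91], [nat_lit 0, nat_lit 34, nat_lit 70], ⟨[nat_lit 0x484a03ca2b742c368ab3bd104331ea], [nat_lit 169472, nat_lit 164864, nat_lit 155968, nat_lit 153376, nat_lit 148880, nat_lit 144904, nat_lit 140036, nat_lit 135768, nat_lit 131198, nat_lit 1810, nat_lit 5716, nat_lit 9768, nat_lit 13152, nat_lit 22400, nat_lit 24704, nat_lit 30208, nat_lit 33792, nat_lit 41376, nat_lit 34005, nat_lit 29728, nat_lit 24851, nat_lit 20553, nat_lit 12327, nat_lit 8225, nat_lit 4100]⟩⟩⟩]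
theorem s414 : Suf yT 2560 (ldrop wS 95) (apW dcM p413) (tgtN dcM p413.e) := Suf.seg (l := l414) (by decide +kernel) s415
def l413 : List AP := [⟨[nat_lit 111, nat_lit 137], [], (nat_lit 217), ⟨[nat_lit 0, nat_lit 7, nat_lit 63], [nat_lit 0, nat_lit 22, nat_lit 51], ⟨[nat_lit 0x6cc750de4c5a14531c8913a168bc14], [nat_lit 175104, nat_lit 169472, nat_lit 160000, nat_lit 158976, nat_lit 154848, nat_lit 150976, nat_lit 144808, nat_lit 143084, nat_lit 136786, nat_lit 133219, nat_lit 1108, nat_lit 5856, nat_lit 8576, nat_lit 13664, nat_lit 18368, nat_lit 20992, nat_lit 25728, nat_lit 30208, nat_lit 41301, nat_lit 36897, nat_lit 34002, nat_lit 28769, nat_lit 24607, nat_lit 20502, nat_lit 16426, nat_lit 12309, nat_lit 8209, nat_lit 4128]⟩⟩⟩,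
  ⟨[nat_lit 29, nat_lit 637, nat_lit 638, nat_lit 634, nat_lit 23], [], (nat_lit 216), ⟨[nat_lit 88, nat_lit 47], [nat_lit 78, nat_lit 58], ⟨[nat_lit 0x69d251125401af054df175aab1a02c], [nat_lit 168448, nat_lit 160128, nat_lit 155712, nat_lit 152384, nat_lit 150320, nat_lit 144840, nat_lit 139268, nat_lit 135858, nat_lit 131330, nat_lit 2012, nat_lit 4112, nat_lit 8232, nat_lit 12304, nat_lit 17216, nat_lit 20608, nat_lit 25472, nat_lit 28928, nat_lit 33280, nat_lit 41421, nat_lit 37328, nat_lit 32976, nat_lit 28759, nat_lit 24624, nat_lit 20544, nat_lit 16426, nat_lit 8323, nat_lit 128]⟩⟩⟩]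
theorem s413 : Suf yT 2560 (ldrop wS 89) (apW dcM p412) (tgtN dcM p412.e) := Suf.seg (l := l413) (by decide +kernel) s414
def l412 : List AP := [⟨[], [], (nat_lit 255), ⟨[nat_lit 0, nat_lit 17, nat_lit 54], [nat_lit 0, nat_lit 45, nat_lit 57], ⟨[nat_lit 0x48c889dd8b3c240705e62d4566d22a], [nat_lit 174080, nat_lit 169472, nat_lit 165632, nat_lit 159168, nat_lit 153632, nat_lit 151296, nat_lit 143704, nat_lit 142220, nat_lit 136192, nat_lit 133830, nat_lit 1298, nat_lit 4964, nat_lit 9448, nat_lit 13712, nat_lit 17504, nat_lit 20736, nat_lit 26240, nat_lit 29184, nat_lit 33792, nat_lit 37888, nat_lit 41874, nat_lit 37193, nat_lit 33354, nat_lit 29709, nat_lit 25148, nat_lit 20566, nat_lit 16449, nat_lit 8211, nat_lit 4097, nat_lit 2]⟩⟩⟩,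
  ⟨[nat_lit 132, nat_lit 652, nat_lit 114], [], (nat_lit 254), ⟨[nat_lit 0, nat_lit 18, nat_lit 63], [nat_lit 0, nat_lit 72, nat_lit 64], ⟨[nat_lit 0x3d8092b0937c16a322a1bd1d26c443], [nat_lit 173056, nat_lit 165888, nat_lit 155968, nat_lit 154112, nat_lit 150976, nat_lit 146208, nat_lit 141728, nat_lit 137456, nat_lit 131340, nat_lit 484, nat_lit 4408, nat_lit 8704, nat_lit 12800, nat_lit 17632, nat_lit 22080, nat_lit 24832, nat_lit 30208, nat_lit 34304, nat_lit 37888, nat_lit 41830, nat_lit 37046, nat_lit 33978, nat_lit 28942, nat_lit 24743, nat_lit 20557, nat_lit 16430, nat_lit 12295, nat_lit 8194, nat_lit 8]⟩⟩⟩]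
theorem s412 : Suf yT 2560 (ldrop wS 74) (apW dcM p411) (tgtN dcM p411.e) := Suf.seg (l := l412) (by decide +kernel) s413
def l411 : List AP := [⟨[nat_lit 650, nat_lit 649, nat_lit 111], [], (nat_lit 246), ⟨[nat_lit 18, nat_lit 61], [nat_lit 88, nat_lit 46], ⟨[nat_lit 0x25809a560d8b96813c32994ec1a8d7], [nat_lit 174080, nat_lit 169984, nat_lit 164352, nat_lit 162048, nat_lit 159360, nat_lit 153792, nat_lit 147584, nat_lit 143472, nat_lit 140424, nat_lit 138830, nat_lit 134278, nat_lit 116, nat_lit 4756, nat_lit 9096, nat_lit 13312, nat_lit 16608, nat_lit 21376, nat_lit 25216, nat_lit 30464, nat_lit 33792, nat_lit 41859, nat_lit 37952, nat_lit 33472, nat_lit 29271, nat_lit 24634, nat_lit 20497, nat_lit 16424, nat_lit 12291, nat_lit 8320, nat_lit 4097, nat_lit 2]⟩⟩⟩,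
  ⟨[nat_lit 635, nat_lit 24, nat_lit 634], [], (nat_lit 89), ⟨[nat_lit 45, nat_lit 64], [nat_lit 83], ⟨[nat_lit 0x83900a19495cde320455636c78de45], [nat_lit 175104, nat_lit 169472, nat_lit 165632, nat_lit 161280, nat_lit 156864, nat_lit 153184, nat_lit 147680, nat_lit 144272, nat_lit 139360, nat_lit 136270, nat_lit 132251, nat_lit 1268, nat_lit 4200, nat_lit 9328, nat_lit 13264, nat_lit 17856, nat_lit 20800, nat_lit 26368, nat_lit 29696, nat_lit 33792, nat_lit 37888, nat_lit 41417, nat_lit 36975, nat_lit 34006, nat_lit 28717, nat_lit 25121, nat_lit 20616, nat_lit 16652, nat_lit 12358, nat_lit 8224, nat_lit 4113, nat_lit 4]⟩⟩⟩]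
theorem s411 : Suf yT 2560 (ldrop wS 59) (apW dcM p410) (tgtN dcM p410.e) := Suf.seg (l := l411) (by decide +kernel) s412
def l410 : List AP := [⟨[nat_lit 28, nat_lit 28, nat_lit 27, nat_lit 30], [], (nat_lit 88), ⟨[nat_lit 0, nat_lit 16, nat_lit 50], [nat_lit 0, nat_lit 23, nat_lit 55], ⟨[nat_lit 0x3c26092eec23da240545b1a838baa9], [nat_lit 173056, nat_lit 169984, nat_lit 167168, nat_lit 162816, nat_lit 159680, nat_lit 153440, nat_lit 149584, nat_lit 145640, nat_lit 140052, nat_lit 137720, nat_lit 132391, nat_lit 804, nat_lit 4720, nat_lit 9752, nat_lit 13216, nat_lit 17696, nat_lit 20864, nat_lit 25472, nat_lit 29440, nat_lit 41482, nat_lit 36987, nat_lit 32906, nat_lit 28714, nat_lit 24636, nat_lit 20503, nat_lit 16421, nat_lit 12290, nat_lit 8194, nat_lit 4101, nat_lit 2]⟩⟩⟩,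
  ⟨[nat_lit 636, nat_lit 26, nat_lit 638, nat_lit 30, nat_lit 22], [], (nat_lit 216), ⟨[nat_lit 16, nat_lit 90], [nat_lit 0, nat_lit 17, nat_lit 65], ⟨[nat_lit 0x684e92a06c538045bc46b4a70ade34], [nat_lit 173056, nat_lit 168960, nat_lit 166656, nat_lit 160896, nat_lit 156160, nat_lit 152128, nat_lit 147488, nat_lit 144216, nat_lit 140900, nat_lit 136802, nat_lit 132672, nat_lit 1108, nat_lit 4276, nat_lit 9864, nat_lit 13184, nat_lit 17696, nat_lit 20544, nat_lit 25088, nat_lit 28928, nat_lit 33792, nat_lit 37888, nat_lit 41216, nat_lit 37256, nat_lit 29295, nat_lit 24749, nat_lit 20629, nat_lit 16418, nat_lit 12353, nat_lit 8322, nat_lit 4105, nat_lit 4]⟩⟩⟩]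
theorem s410 : Suf yT 2560 (ldrop wS 44) (apW dcM p409) (tgtN dcM p409.e) := Suf.seg (l := l410) (by decide +kernel) s411
def l409 : List AP := [⟨[nat_lit 114, nat_lit 130, nat_lit 111], [], (nat_lit 246), ⟨[nat_lit 31], [nat_lit 0, nat_lit 8, nat_lit 53], ⟨[nat_lit 0x4a85489dcb204d51da50782ed2cd88], [nat_lit 175104, nat_lit 168448, nat_lit 165120, nat_lit 162176, nat_lit 156480, nat_lit 152448, nat_lit 151088, nat_lit 146392, nat_lit 143228, nat_lit 139234, nat_lit 133425, nat_lit 1438, nat_lit 4156, nat_lit 9112, nat_lit 12528, nat_lit 18112, nat_lit 20736, nat_lit 25984, nat_lit 28928, nat_lit 33792, nat_lit 37888, nat_lit 41122, nat_lit 37149, nat_lit 32961, nat_lit 28798, nat_lit 24753, nat_lit 20481, nat_lit 16390, nat_lit 12358, nat_lit 8210, nat_lit 4097]⟩⟩⟩,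
  ⟨[nat_lit 23, nat_lit 31, nat_lit 31, nat_lit 635, nat_lit 24, nat_lit 22], [], (nat_lit 216), ⟨[nat_lit 0, nat_lit 76], [nat_lit 77, nat_lit 62], ⟨[nat_lit 0x6caa8708ac01a7022561546efb1c74], [nat_lit 169472, nat_lit 165632, nat_lit 160384, nat_lit 156480, nat_lit 152960, nat_lit 149312, nat_lit 143408, nat_lit 141328, nat_lit 136404, nat_lit 132450, nat_lit 1214, nat_lit 5644, nat_lit 8224, nat_lit 12320, nat_lit 16480, nat_lit 20736, nat_lit 26112, nat_lit 34304, nat_lit 37888, nat_lit 41252, nat_lit 37284, nat_lit 32810, nat_lit 28739, nat_lit 24630, nat_lit 20484, nat_lit 16458, nat_lit 12295, nat_lit 8193, nat_lit 4105, nat_lit 4]⟩⟩⟩]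
theorem s409 : Suf yT 2560 (ldrop wS 38) (apW dcM p408) (tgtN dcM p408.e) := Suf.seg (l := l409) (by decide +kernel) s410
def l408 : List AP := [⟨[nat_lit 14, nat_lit 14, nat_lit 17, nat_lit 631], [], (nat_lit 70), ⟨[nat_lit 32, nat_lit 92], [nat_lit 0, nat_lit 7, nat_lit 94], ⟨[nat_lit 0x3caf0a0c25601737c522428d6ab5c4], [nat_lit 169472, nat_lit 164352, nat_lit 161664, nat_lit 156352, nat_lit 153568, nat_lit 149184, nat_lit 146400, nat_lit 136718, nat_lit 131664, nat_lit 508, nat_lit 4264, nat_lit 10144, nat_lit 12304, nat_lit 17632, nat_lit 21632, nat_lit 24704, nat_lit 29696, nat_lit 34304, nat_lit 37888, nat_lit 41759, nat_lit 38205, nat_lit 32988, nat_lit 28792, nat_lit 24632, nat_lit 20504, nat_lit 16397, nat_lit 12295, nat_lit 8202, nat_lit 4105, nat_lit 4]⟩⟩⟩,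
  ⟨[nat_lit 29, nat_lit 30, nat_lit 636, nat_lit 636, nat_lit 21, nat_lit 22], [], (nat_lit 216), ⟨[nat_lit 28, nat_lit 67], [nat_lit 0, nat_lit 41, nat_lit 63], ⟨[nat_lit 0x4de0d01ca644a8c745565cdf511023], [nat_lit 175104, nat_lit 168448, nat_lit 162560, nat_lit 155840, nat_lit 151712, nat_lit 151216, nat_lit 146232, nat_lit 142548, nat_lit 138456, nat_lit 133386, nat_lit 1174, nat_lit 4104, nat_lit 8208, nat_lit 12304, nat_lit 16992, nat_lit 21824, nat_lit 29952, nat_lit 33280, nat_lit 41200, nat_lit 37049, nat_lit 32878, nat_lit 29208, nat_lit 24855, nat_lit 20490, nat_lit 16396, nat_lit 12293, nat_lit 8200, nat_lit 4097]⟩⟩⟩]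
theorem s408 : Suf yT 2560 (ldrop wS 23) (apW dcM p407) (tgtN dcM p407.e) := Suf.seg (l := l408) (by decide +kernel) s409
def l407 : List AP := [⟨[nat_lit 634, nat_lit 636, nat_lit 29], [], (nat_lit 89), ⟨[nat_lit 34, nat_lit 94], [nat_lit 0, nat_lit 23, nat_lit 69], ⟨[nat_lit 0x4c6e03b10a0984e2bed58506b69272], [nat_lit 168448, nat_lit 167168, nat_lit 161536, nat_lit 157248, nat_lit 154816, nat_lit 150032, nat_lit 146464, nat_lit 142564, nat_lit 137320, nat_lit 132630, nat_lit 590, nat_lit 4412, nat_lit 8840, nat_lit 12400, nat_lit 21312, nat_lit 26496, nat_lit 28928, nat_lit 33280, nat_lit 41954, nat_lit 37122, nat_lit 32999, nat_lit 29021, nat_lit 24599, nat_lit 20497, nat_lit 16396, nat_lit 12305, nat_lit 8203, nat_lit 4097, nat_lit 2]⟩⟩⟩,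
  ⟨[nat_lit 634, nat_lit 21, nat_lit 24, nat_lit 22], [], (nat_lit 88), ⟨[nat_lit 0, nat_lit 38, nat_lit 53], [nat_lit 77, nat_lit 53], ⟨[nat_lit 0xb4ca0306f250c4f61c896c22bad1c8], [nat_lit 173056, nat_lit 169472, nat_lit 164352, nat_lit 161152, nat_lit 156928, nat_lit 153312, nat_lit 148944, nat_lit 143368, nat_lit 139364, nat_lit 138564, nat_lit 131091, nat_lit 2018, nat_lit 6068, nat_lit 10128, nat_lit 13040, nat_lit 17248, nat_lit 22464, nat_lit 26496, nat_lit 29952, nat_lit 37888, nat_lit 41638, nat_lit 38051, nat_lit 32884, nat_lit 29760, nat_lit 24614, nat_lit 20481, nat_lit 16652, nat_lit 12311, nat_lit 8194, nat_lit 8]⟩⟩⟩]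
theorem s407 : Suf yT 2560 (ldrop wS 8) (apW dcM p406) (tgtN dcM p406.e) := Suf.seg (l := l407) (by decide +kernel) s408
def l406 : List AP := [⟨[nat_lit 625, nat_lit 6, nat_lit 8, nat_lit 4, nat_lit 627], [], (nat_lit 26), ⟨[nat_lit 0, nat_lit 14, nat_lit 60], [nat_lit 0, nat_lit 1, nat_lit 59], ⟨[nat_lit 0x32a0c1b9f69ca813d4046a22512577], [nat_lit 174080, nat_lit 171008, nat_lit 167168, nat_lit 163328, nat_lit 156288, nat_lit 154752, nat_lit 150784, nat_lit 143904, nat_lit 142996, nat_lit 135656, nat_lit 131932, nat_lit 960, nat_lit 5228, nat_lit 9752, nat_lit 13968, nat_lit 18336, nat_lit 21056, nat_lit 29184, nat_lit 33792, nat_lit 41884, nat_lit 38232, nat_lit 32876, nat_lit 28700, nat_lit 24857, nat_lit 20494, nat_lit 16396, nat_lit 12308, nat_lit 8194]⟩⟩⟩,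
  ⟨[nat_lit 14, nat_lit 40, nat_lit 16, nat_lit 39, nat_lit 43], [], (nat_lit 70), ⟨[nat_lit 26, nat_lit 62], [nat_lit 0, nat_lit 36, nat_lit 58], ⟨[nat_lit 0x3d469a280593822832f67a22b69266], [nat_lit 174080, nat_lit 171008, nat_lit 166400, nat_lit 161152, nat_lit 157376, nat_lit 152416, nat_lit 149600, nat_lit 143432, nat_lit 140476, nat_lit 138784, nat_lit 133806, nat_lit 786, nat_lit 5024, nat_lit 8520, nat_lit 12384, nat_lit 17408, nat_lit 21760, nat_lit 26496, nat_lit 29184, nat_lit 37888, nat_lit 41217, nat_lit 37298, nat_lit 33368, nat_lit 29035, nat_lit 24875, nat_lit 20741, nat_lit 16395, nat_lit 12309, nat_lit 8203, nat_lit 4104]⟩⟩⟩]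
theorem rS22 : Suf yT 2560 wS [yT.get 56] 0 := Suf.seg (l := l406) (by decide +kernel) s407

def p420 : AP := ⟨[], [], (nat_lit 393), ⟨[nat_lit 0, nat_lit 42, nat_lit 57], [nat_lit 0, nat_lit 14, nat_lit 68], ⟨[nat_lit 0xaa891750175890c798a36c0334c8f6], [nat_lit 164096, nat_lit 160384, nat_lit 154688, nat_lit 147504, nat_lit 144120, nat_lit 139952, nat_lit 136204, nat_lit 131379, nat_lit 664, nat_lit 5668, nat_lit 9960, nat_lit 13088, nat_lit 18112, nat_lit 20992, nat_lit 24960, nat_lit 29696, nat_lit 33280, nat_lit 41440, nat_lit 37081, nat_lit 32776, nat_lit 29207, nat_lit 24747, nat_lit 16387, nat_lit 12420, nat_lit 8257, nat_lit 4097]⟩⟩⟩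
def p421 : AP := ⟨[nat_lit 642, nat_lit 52, nat_lit 55, nat_lit 48], [], (nat_lit 120), ⟨[nat_lit 0, nat_lit 16, nat_lit 63], [nat_lit 80, nat_lit 50], ⟨[nat_lit 0xab0613be8628a0a7590b4922093677], [nat_lit 175104, nat_lit 171520, nat_lit 166144, nat_lit 161024, nat_lit 158592, nat_lit 154912, nat_lit 148512, nat_lit 146568, nat_lit 140120, nat_lit 136682, nat_lit 131088, nat_lit 796, nat_lit 5688, nat_lit 8680, nat_lit 14176, nat_lit 17120, nat_lit 21376, nat_lit 25088, nat_lit 28928, nat_lit 34304, nat_lit 41336, nat_lit 37032, nat_lit 33810, nat_lit 29216, nat_lit 24866, nat_lit 20498, nat_lit 16397, nat_lit 8208, nat_lit 4097]⟩⟩⟩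
def p422 : AP := ⟨[nat_lit 57, nat_lit 72, nat_lit 640, nat_lit 46], [], (nat_lit 120), ⟨[nat_lit 0, nat_lit 6, nat_lit 89], [nat_lit 81, nat_lit 68], ⟨[nat_lit 0x1c8170b96489ea6495827c1b69d148], [nat_lit 174080, nat_lit 169984, nat_lit 167680, nat_lit 161792, nat_lit 156480, nat_lit 153920, nat_lit 149504, nat_lit 144392, nat_lit 143232, nat_lit 136120, nat_lit 131438, nat_lit 1554, nat_lit 5544, nat_lit 10128, nat_lit 13280, nat_lit 17056, nat_lit 20736, nat_lit 26112, nat_lit 29184, nat_lit 33792, nat_lit 37888, nat_lit 41828, nat_lit 38034, nat_lit 32784, nat_lit 28771, nat_lit 24759, nat_lit 20507, nat_lit 16428, nat_lit 12289, nat_lit 4112, nat_lit 2]⟩⟩⟩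
def p423 : AP := ⟨[nat_lit 72, nat_lit 643, nat_lit 51, nat_lit 46], [], (nat_lit 120), ⟨[nat_lit 24, nat_lit 49], [nat_lit 8, nat_lit 70], ⟨[nat_lit 0x61db7b163242cd50a9f04b85301074], [nat_lit 169472, nat_lit 162176, nat_lit 156288, nat_lit 151616, nat_lit 148048, nat_lit 144432, nat_lit 139800, nat_lit 131285, nat_lit 32, nat_lit 4708, nat_lit 9280, nat_lit 12320, nat_lit 16416, nat_lit 20608, nat_lit 25600, nat_lit 33280, nat_lit 41300, nat_lit 36992, nat_lit 33940, nat_lit 28740, nat_lit 24708, nat_lit 20501, nat_lit 16430, nat_lit 12306, nat_lit 8225, nat_lit 4113, nat_lit 8]⟩⟩⟩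
def p424 : AP := ⟨[nat_lit 50], [], (nat_lit 120), ⟨[nat_lit 0, nat_lit 54], [nat_lit 23, nat_lit 48], ⟨[nat_lit 0xab4322a8e6a3e0205a2e4112b1cd97], [nat_lit 175104, nat_lit 170496, nat_lit 165888, nat_lit 161280, nat_lit 152096, nat_lit 149792, nat_lit 144872, nat_lit 139536, nat_lit 137506, nat_lit 134680, nat_lit 1354, nat_lit 4964, nat_lit 9560, nat_lit 13792, nat_lit 16960, nat_lit 21952, nat_lit 26368, nat_lit 34304, nat_lit 37888, nat_lit 41833, nat_lit 38397, nat_lit 32821, nat_lit 29263, nat_lit 24738, nat_lit 20505, nat_lit 16399, nat_lit 12310, nat_lit 4097, nat_lit 2]⟩⟩⟩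
def p425 : AP := ⟨[nat_lit 51, nat_lit 69, nat_lit 72], [], (nat_lit 120), ⟨[nat_lit 0, nat_lit 26, nat_lit 70], [nat_lit 88, nat_lit 54], ⟨[nat_lit 0x3acce148b77a2d460c095367009235], [nat_lit 173056, nat_lit 161664, nat_lit 156160, nat_lit 152160, nat_lit 149040, nat_lit 143896, nat_lit 140768, nat_lit 135504, nat_lit 132599, nat_lit 1762, nat_lit 4608, nat_lit 10144, nat_lit 12544, nat_lit 16448, nat_lit 22272, nat_lit 29184, nat_lit 34304, nat_lit 41647, nat_lit 36992, nat_lit 32870, nat_lit 29197, nat_lit 24631, nat_lit 20547, nat_lit 16420, nat_lit 12423, nat_lit 8224, nat_lit 4104]⟩⟩⟩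
def p426 : AP := ⟨[nat_lit 213, nat_lit 216], [], (nat_lit 396), ⟨[nat_lit 27, nat_lit 65], [nat_lit 6, nat_lit 65], ⟨[nat_lit 0x10cee2d2cc42c8db820a345f395521], [nat_lit 168448, nat_lit 164096, nat_lit 160768, nat_lit 156160, nat_lit 155264, nat_lit 148320, nat_lit 144952, nat_lit 139404, nat_lit 136192, nat_lit 132773, nat_lit 1760, nat_lit 5604, nat_lit 9664, nat_lit 12608, nat_lit 16992, nat_lit 26496, nat_lit 29952, nat_lit 33280, nat_lit 37888, nat_lit 41504, nat_lit 37337, nat_lit 33358, nat_lit 28959, nat_lit 24602, nat_lit 20500, nat_lit 16431, nat_lit 12307, nat_lit 8195, nat_lit 4]⟩⟩⟩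
def p427 : AP := ⟨[nat_lit 73, nat_lit 643, nat_lit 643], [], (nat_lit 1046), ⟨[nat_lit 20, nat_lit 48], [nat_lit 20, nat_lit 89], ⟨[nat_lit 0x35d2e620b65d08d79eaa9407314401], [nat_lit 168960, nat_lit 166400, nat_lit 160128, nat_lit 156096, nat_lit 151616, nat_lit 147728, nat_lit 145224, nat_lit 140312, nat_lit 136030, nat_lit 131790, nat_lit 2, nat_lit 4352, nat_lit 8704, nat_lit 12864, nat_lit 18336, nat_lit 21120, nat_lit 26368, nat_lit 29952, nat_lit 33280, nat_lit 41536, nat_lit 38080, nat_lit 32817, nat_lit 29256, nat_lit 24603, nat_lit 20741, nat_lit 16425, nat_lit 12305, nat_lit 8200, nat_lit 4097, nat_lit 2]⟩⟩⟩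
def p428 : AP := ⟨[nat_lit 50], [], (nat_lit 1046), ⟨[nat_lit 0, nat_lit 84, nat_lit 67], [nat_lit 0, nat_lit 17, nat_lit 52], ⟨[nat_lit 0x714f442aed8be5530533b30625c004], [nat_lit 174080, nat_lit 171520, nat_lit 166656, nat_lit 159872, nat_lit 156160, nat_lit 152352, nat_lit 150656, nat_lit 144712, nat_lit 139448, nat_lit 137672, nat_lit 134054, nat_lit 1794, nat_lit 5904, nat_lit 8256, nat_lit 13520, nat_lit 16448, nat_lit 20544, nat_lit 25856, nat_lit 28928, nat_lit 33792, nat_lit 41711, nat_lit 38105, nat_lit 32972, nat_lit 28745, nat_lit 24638, nat_lit 20497, nat_lit 16389, nat_lit 12291, nat_lit 8208]⟩⟩⟩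
def p429 : AP := ⟨[nat_lit 640, nat_lit 68, nat_lit 70, nat_lit 68], [], (nat_lit 120), ⟨[nat_lit 0, nat_lit 37, nat_lit 63], [nat_lit 0, nat_lit 76, nat_lit 94], ⟨[nat_lit 0x3d00c20db773e6a448c50c0495da35], [nat_lit 173056, nat_lit 169472, nat_lit 164096, nat_lit 160640, nat_lit 156352, nat_lit 153472, nat_lit 147872, nat_lit 145512, nat_lit 141072, nat_lit 135686, nat_lit 132176, nat_lit 1770, nat_lit 5712, nat_lit 8592, nat_lit 14208, nat_lit 17248, nat_lit 21376, nat_lit 25344, nat_lit 29952, nat_lit 34304, nat_lit 41928, nat_lit 38279, nat_lit 32776, nat_lit 28796, nat_lit 24715, nat_lit 20545, nat_lit 16424, nat_lit 12308, nat_lit 8209, nat_lit 4101]⟩⟩⟩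
def p430 : AP := ⟨[nat_lit 218, nat_lit 216], [], (nat_lit 419), ⟨[nat_lit 75, nat_lit 93], [nat_lit 0, nat_lit 9, nat_lit 67], ⟨[nat_lit 0x69552a84c7b8a70022c91b1f423a2b], [nat_lit 165376, nat_lit 160896, nat_lit 157056, nat_lit 153536, nat_lit 147488, nat_lit 143928, nat_lit 140416, nat_lit 138134, nat_lit 131106, nat_lit 1860, nat_lit 4608, nat_lit 9648, nat_lit 12736, nat_lit 16416, nat_lit 25088, nat_lit 29696, nat_lit 33792, nat_lit 37888, nat_lit 41804, nat_lit 36866, nat_lit 33816, nat_lit 28714, nat_lit 24877, nat_lit 20571, nat_lit 16459, nat_lit 12355, nat_lit 8194, nat_lit 64]⟩⟩⟩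
def p431 : AP := ⟨[nat_lit 219, nat_lit 173, nat_lit 171], [], (nat_lit 418), ⟨[nat_lit 71, nat_lit 89], [nat_lit 0, nat_lit 15, nat_lit 54], ⟨[nat_lit 0x1929343ca75b612659557004930637], [nat_lit 174080, nat_lit 170496, nat_lit 166400, nat_lit 159872, nat_lit 158720, nat_lit 154784, nat_lit 148416, nat_lit 146120, nat_lit 141264, nat_lit 136464, nat_lit 132206, nat_lit 796, nat_lit 4608, nat_lit 9664, nat_lit 13152, nat_lit 16704, nat_lit 22208, nat_lit 28928, nat_lit 41525, nat_lit 38333, nat_lit 33439, nat_lit 28748, nat_lit 24711, nat_lit 21518, nat_lit 16421, nat_lit 8208, nat_lit 4100]⟩⟩⟩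
def p432 : AP := ⟨[nat_lit 68], [], (nat_lit 122), ⟨[nat_lit 27, nat_lit 48], [nat_lit 0, nat_lit 22, nat_lit 62], ⟨[nat_lit 0x440226366bbc5542a646b0de703aa4], [nat_lit 173056, nat_lit 169472, nat_lit 167168, nat_lit 162048, nat_lit 159424, nat_lit 153696, nat_lit 149200, nat_lit 146568, nat_lit 142852, nat_lit 135806, nat_lit 133478, nat_lit 508, nat_lit 5900, nat_lit 10144, nat_lit 13888, nat_lit 17280, nat_lit 21504, nat_lit 26368, nat_lit 30208, nat_lit 41177, nat_lit 36942, nat_lit 32913, nat_lit 28729, nat_lit 24615, nat_lit 20501, nat_lit 16398, nat_lit 12292, nat_lit 8193]⟩⟩⟩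
def l433 : List AP := [⟨[nat_lit 42, nat_lit 36], [], (nat_lit 1032), ⟨[nat_lit 0, nat_lit 25, nat_lit 92], [nat_lit 0, nat_lit 35, nat_lit 91], ⟨[nat_lit 0x700643beb60aef26c0d1152694158a], [nat_lit 175104, nat_lit 171008, nat_lit 166400, nat_lit 160768, nat_lit 159360, nat_lit 154240, nat_lit 149008, nat_lit 145528, nat_lit 140924, nat_lit 137070, nat_lit 132201, nat_lit 122, nat_lit 5716, nat_lit 9232, nat_lit 13920, nat_lit 17024, nat_lit 21632, nat_lit 26112, nat_lit 29440, nat_lit 33280, nat_lit 41640, nat_lit 37105, nat_lit 32776, nat_lit 28717, nat_lit 25150, nat_lit 20629, nat_lit 16394, nat_lit 8259]⟩⟩⟩]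
theorem s433 : Suf yT 3072 (ldrop wS 161) (apW dcM p432) (tgtN dcM p432.e) := Suf.fin' (l := l433) (by decide +kernel)
def l432 : List AP := [⟨[nat_lit 175, nat_lit 212, nat_lit 172], [], (nat_lit 396), ⟨[nat_lit 77, nat_lit 54], [nat_lit 1, nat_lit 56], ⟨[nat_lit 0xbcded2a00c50dc415a213d0d2aa570], [nat_lit 173056, nat_lit 169472, nat_lit 166912, nat_lit 161152, nat_lit 156672, nat_lit 152768, nat_lit 148704, nat_lit 144112, nat_lit 140028, nat_lit 135778, nat_lit 131841, nat_lit 1698, nat_lit 4824, nat_lit 9752, nat_lit 13248, nat_lit 17952, nat_lit 22336, nat_lit 29952, nat_lit 41568, nat_lit 38395, nat_lit 32890, nat_lit 29211, nat_lit 24868, nat_lit 20757, nat_lit 16462, nat_lit 12326, nat_lit 8194, nat_lit 8]⟩⟩⟩,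
  ⟨[nat_lit 71, nat_lit 49], [], (nat_lit 126), ⟨[nat_lit 0, nat_lit 36, nat_lit 56], [nat_lit 76, nat_lit 62], ⟨[nat_lit 0x341aba3d80728f3112a545923946e1], [nat_lit 174080, nat_lit 170496, nat_lit 167424, nat_lit 159872, nat_lit 158208, nat_lit 155520, nat_lit 147552, nat_lit 145512, nat_lit 140292, nat_lit 137082, nat_lit 132487, nat_lit 1142, nat_lit 5992, nat_lit 8472, nat_lit 14176, nat_lit 17344, nat_lit 22336, nat_lit 25856, nat_lit 30464, nat_lit 34304, nat_lit 40983, nat_lit 36966, nat_lit 32904, nat_lit 28982, nat_lit 25129, nat_lit 20506, nat_lit 16426, nat_lit 8259, nat_lit 4097, nat_lit 2]⟩⟩⟩]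
theorem s432 : Suf yT 3072 (ldrop wS 146) (apW dcM p431) (tgtN dcM p431.e) := Suf.seg (l := l432) (by decide +kernel) s433
def l431 : List AP := [⟨[nat_lit 659, nat_lit 173], [], (nat_lit 396), ⟨[nat_lit 0, nat_lit 1, nat_lit 48], [nat_lit 0, nat_lit 42, nat_lit 46], ⟨[nat_lit 0x75a6b30ca4651308bd5501c22922ed], [nat_lit 173056, nat_lit 164352, nat_lit 161152, nat_lit 151616, nat_lit 147744, nat_lit 146776, nat_lit 140860, nat_lit 136208, nat_lit 131485, nat_lit 484, nat_lit 5704, nat_lit 8448, nat_lit 17536, nat_lit 22144, nat_lit 25216, nat_lit 29696, nat_lit 34304, nat_lit 41787, nat_lit 38323, nat_lit 34044, nat_lit 28738, nat_lit 24730, nat_lit 21505, nat_lit 16422, nat_lit 8208, nat_lit 4129]⟩⟩⟩,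
  ⟨[nat_lit 50], [], (nat_lit 1046), ⟨[nat_lit 41, nat_lit 58], [nat_lit 0, nat_lit 43, nat_lit 47], ⟨[nat_lit 0x75a6b30ca4651308bd5501c22922ed], [nat_lit 168448, nat_lit 164352, nat_lit 161024, nat_lit 151616, nat_lit 147744, nat_lit 146768, nat_lit 140856, nat_lit 136208, nat_lit 131484, nat_lit 484, nat_lit 5704, nat_lit 8448, nat_lit 17536, nat_lit 22144, nat_lit 25216, nat_lit 29696, nat_lit 34304, nat_lit 41787, nat_lit 38323, nat_lit 34044, nat_lit 28738, nat_lit 24730, nat_lit 21505, nat_lit 16422, nat_lit 8208, nat_lit 4129]⟩⟩⟩]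
theorem s431 : Suf yT 3072 (ldrop wS 140) (apW dcM p430) (tgtN dcM p430.e) := Suf.seg (l := l431) (by decide +kernel) s432
def l430 : List AP := [⟨[nat_lit 641, nat_lit 46, nat_lit 54], [], (nat_lit 121), ⟨[nat_lit 0, nat_lit 28, nat_lit 59], [nat_lit 6, nat_lit 55], ⟨[nat_lit 0xb8a489c5865388958eb0b168f68407], [nat_lit 171008, nat_lit 164352, nat_lit 159872, nat_lit 156288, nat_lit 153472, nat_lit 147536, nat_lit 143400, nat_lit 140836, nat_lit 135464, nat_lit 132855, nat_lit 1694, nat_lit 5276, nat_lit 9880, nat_lit 12816, nat_lit 18272, nat_lit 20736, nat_lit 25600, nat_lit 29952, nat_lit 33792, nat_lit 37888, nat_lit 41856, nat_lit 37282, nat_lit 33506, nat_lit 29186, nat_lit 24832, nat_lit 20608, nat_lit 16392, nat_lit 12311, nat_lit 8194, nat_lit 4097]⟩⟩⟩,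
  ⟨[nat_lit 71, nat_lit 57, nat_lit 48], [], (nat_lit 1046), ⟨[nat_lit 0, nat_lit 10, nat_lit 94], [nat_lit 0, nat_lit 37, nat_lit 89], ⟨[nat_lit 0x1c40e7a5523408d9dd96406875d4a2], [nat_lit 175104, nat_lit 167168, nat_lit 162560, nat_lit 158336, nat_lit 152832, nat_lit 147888, nat_lit 144704, nat_lit 141532, nat_lit 138340, nat_lit 131198, nat_lit 1766, nat_lit 5444, nat_lit 8320, nat_lit 13968, nat_lit 17344, nat_lit 21568, nat_lit 25600, nat_lit 34304, nat_lit 41796, nat_lit 36983, nat_lit 32777, nat_lit 28770, nat_lit 24736, nat_lit 20502, nat_lit 16429, nat_lit 12292, nat_lit 8195, nat_lit 4]⟩⟩⟩]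
theorem s430 : Suf yT 3072 (ldrop wS 125) (apW dcM p429) (tgtN dcM p429.e) := Suf.seg (l := l430) (by decide +kernel) s431
def l429 : List AP := [⟨[nat_lit 179, nat_lit 218, nat_lit 170], [], (nat_lit 396), ⟨[nat_lit 0, nat_lit 26, nat_lit 92], [nat_lit 25, nat_lit 61], ⟨[nat_lit 0x8cced5d642a59c45152f44077080cc], [nat_lit 175104, nat_lit 171008, nat_lit 164864, nat_lit 162816, nat_lit 159680, nat_lit 154208, nat_lit 147904, nat_lit 143408, nat_lit 141012, nat_lit 138074, nat_lit 134357, nat_lit 2012, nat_lit 5436, nat_lit 9176, nat_lit 13632, nat_lit 16576, nat_lit 21184, nat_lit 25088, nat_lit 29952, nat_lit 33280, nat_lit 41539, nat_lit 37952, nat_lit 33003, nat_lit 28960, nat_lit 24607, nat_lit 20498, nat_lit 16424, nat_lit 12311, nat_lit 8194, nat_lit 4097]⟩⟩⟩,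
  ⟨[nat_lit 46, nat_lit 66, nat_lit 643], [], (nat_lit 121), ⟨[nat_lit 31, nat_lit 91], [nat_lit 0, nat_lit 13, nat_lit 56], ⟨[nat_lit 0x1a297896ac488e69026a712166bd61], [nat_lit 173056, nat_lit 168448, nat_lit 162560, nat_lit 156480, nat_lit 152384, nat_lit 147616, nat_lit 143368, nat_lit 141072, nat_lit 136446, nat_lit 132403, nat_lit 494, nat_lit 4952, nat_lit 10080, nat_lit 13264, nat_lit 17440, nat_lit 21184, nat_lit 25856, nat_lit 29952, nat_lit 33792, nat_lit 41840, nat_lit 37149, nat_lit 33488, nat_lit 28736, nat_lit 24710, nat_lit 21523, nat_lit 16399, nat_lit 12291, nat_lit 8211, nat_lit 8]⟩⟩⟩]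
theorem s429 : Suf yT 3072 (ldrop wS 110) (apW dcM p428) (tgtN dcM p428.e) := Suf.seg (l := l429) (by decide +kernel) s430
def l428 : List AP := [⟨[nat_lit 663, nat_lit 216, nat_lit 170], [], (nat_lit 418), ⟨[nat_lit 0, nat_lit 25, nat_lit 60], [nat_lit 77, nat_lit 56], ⟨[nat_lit 0xaa452b36e6232708d0087956a185c7], [nat_lit 173056, nat_lit 168448, nat_lit 166656, nat_lit 162688, nat_lit 159616, nat_lit 155360, nat_lit 149120, nat_lit 145704, nat_lit 142812, nat_lit 135304, nat_lit 134041, nat_lit 810, nat_lit 5488, nat_lit 8896, nat_lit 13680, nat_lit 17440, nat_lit 22464, nat_lit 25856, nat_lit 33792, nat_lit 41175, nat_lit 37160, nat_lit 32855, nat_lit 29754, nat_lit 24599, nat_lit 20634, nat_lit 16398, nat_lit 12295, nat_lit 8193, nat_lit 4097, nat_lit 2]⟩⟩⟩,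
  ⟨[nat_lit 180, nat_lit 176, nat_lit 170], [], (nat_lit 396), ⟨[nat_lit 0, nat_lit 42, nat_lit 61], [nat_lit 79, nat_lit 68], ⟨[nat_lit 0x714f442aed8be5530533b30625c004], [nat_lit 174080, nat_lit 171008, nat_lit 166400, nat_lit 159872, nat_lit 156160, nat_lit 152320, nat_lit 150672, nat_lit 144712, nat_lit 139448, nat_lit 137672, nat_lit 134055, nat_lit 1794, nat_lit 5904, nat_lit 8256, nat_lit 13520, nat_lit 16448, nat_lit 20544, nat_lit 25856, nat_lit 28928, nat_lit 33792, nat_lit 41711, nat_lit 38105, nat_lit 32972, nat_lit 28745, nat_lit 24638, nat_lit 20497, nat_lit 16389, nat_lit 12291, nat_lit 8208]⟩⟩⟩]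
theorem s428 : Suf yT 3072 (ldrop wS 95) (apW dcM p427) (tgtN dcM p427.e) := Suf.seg (l := l428) (by decide +kernel) s429
def l427 : List AP := [⟨[nat_lit 57, nat_lit 67, nat_lit 46, nat_lit 51], [], (nat_lit 120), ⟨[nat_lit 71, nat_lit 48], [nat_lit 0, nat_lit 81, nat_lit 69], ⟨[nat_lit 0x3aece7a2866a6a58ca030cc4061157], [nat_lit 173056, nat_lit 168960, nat_lit 166144, nat_lit 161408, nat_lit 157248, nat_lit 153120, nat_lit 148864, nat_lit 144704, nat_lit 140084, nat_lit 136898, nat_lit 132524, nat_lit 1396, nat_lit 4964, nat_lit 9568, nat_lit 13136, nat_lit 16640, nat_lit 22144, nat_lit 26496, nat_lit 28928, nat_lit 33792, nat_lit 37888, nat_lit 41583, nat_lit 37024, nat_lit 32984, nat_lit 28988, nat_lit 24740, nat_lit 20624, nat_lit 16389, nat_lit 12290, nat_lit 8209, nat_lit 4097]⟩⟩⟩,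
  ⟨[nat_lit 641, nat_lit 46, nat_lit 54], [], (nat_lit 121), ⟨[nat_lit 0, nat_lit 23, nat_lit 56], [nat_lit 24, nat_lit 65], ⟨[nat_lit 0xbb42a72c5563cf000cb1b129244d26], [nat_lit 169984, nat_lit 166144, nat_lit 162432, nat_lit 158464, nat_lit 153568, nat_lit 150528, nat_lit 145600, nat_lit 140088, nat_lit 139158, nat_lit 132109, nat_lit 1614, nat_lit 4548, nat_lit 9752, nat_lit 14096, nat_lit 18080, nat_lit 22336, nat_lit 26368, nat_lit 30208, nat_lit 33280, nat_lit 37888, nat_lit 41206, nat_lit 37130, nat_lit 33292, nat_lit 29712, nat_lit 24757, nat_lit 20613, nat_lit 16453, nat_lit 12804, nat_lit 8195, nat_lit 4101, nat_lit 4]⟩⟩⟩]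
theorem s427 : Suf yT 3072 (ldrop wS 89) (apW dcM p426) (tgtN dcM p426.e) := Suf.seg (l := l427) (by decide +kernel) s428
def l426 : List AP := [⟨[nat_lit 641, nat_lit 46, nat_lit 54], [], (nat_lit 121), ⟨[nat_lit 0, nat_lit 76, nat_lit 58], [nat_lit 15, nat_lit 61], ⟨[nat_lit 0xbb6aaa0e0672c224464f4b085b4c07], [nat_lit 173056, nat_lit 168448, nat_lit 164352, nat_lit 160512, nat_lit 156096, nat_lit 152736, nat_lit 147856, nat_lit 147168, nat_lit 140316, nat_lit 136760, nat_lit 132125, nat_lit 1174, nat_lit 5276, nat_lit 9560, nat_lit 12976, nat_lit 16928, nat_lit 21696, nat_lit 25216, nat_lit 29696, nat_lit 34304, nat_lit 41338, nat_lit 36952, nat_lit 32928, nat_lit 28776, nat_lit 24752, nat_lit 20501, nat_lit 16392, nat_lit 12291, nat_lit 8224, nat_lit 4097]⟩⟩⟩,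
  ⟨[nat_lit 53, nat_lit 643, nat_lit 68, nat_lit 71], [], (nat_lit 1046), ⟨[nat_lit 3, nat_lit 52], [nat_lit 0, nat_lit 7, nat_lit 70], ⟨[nat_lit 0x8ccee4158bb51a40dd521bc46026b0], [nat_lit 173056, nat_lit 165632, nat_lit 162176, nat_lit 156480, nat_lit 152320, nat_lit 147728, nat_lit 145192, nat_lit 139948, nat_lit 137042, nat_lit 131354, nat_lit 1698, nat_lit 5508, nat_lit 9056, nat_lit 13680, nat_lit 16576, nat_lit 22336, nat_lit 24704, nat_lit 29696, nat_lit 41688, nat_lit 38162, nat_lit 33354, nat_lit 28708, nat_lit 24590, nat_lit 20624, nat_lit 16420, nat_lit 12353, nat_lit 8201, nat_lit 4101, nat_lit 2]⟩⟩⟩]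
theorem s426 : Suf yT 3072 (ldrop wS 74) (apW dcM p425) (tgtN dcM p425.e) := Suf.seg (l := l426) (by decide +kernel) s427
def l425 : List AP := [⟨[nat_lit 67, nat_lit 643, nat_lit 643, nat_lit 54], [], (nat_lit 1046), ⟨[nat_lit 0, nat_lit 24, nat_lit 68], [nat_lit 1, nat_lit 64], ⟨[nat_lit 0x5de8ea9e63499a4600482d831541f2], [nat_lit 174080, nat_lit 165120, nat_lit 161792, nat_lit 157568, nat_lit 152288, nat_lit 150048, nat_lit 146816, nat_lit 141784, nat_lit 138708, nat_lit 134621, nat_lit 1182, nat_lit 5992, nat_lit 9160, nat_lit 13360, nat_lit 17952, nat_lit 21760, nat_lit 25088, nat_lit 29952, nat_lit 41862, nat_lit 37104, nat_lit 32769, nat_lit 29195, nat_lit 24738, nat_lit 20630, nat_lit 16456, nat_lit 12321, nat_lit 8201, nat_lit 4224]⟩⟩⟩,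
  ⟨[nat_lit 174, nat_lit 215], [], (nat_lit 396), ⟨[nat_lit 0, nat_lit 71, nat_lit 94], [nat_lit 0, nat_lit 9, nat_lit 64], ⟨[nat_lit 0x48e4e38835659a4029f1bce06a20ab], [nat_lit 173056, nat_lit 169472, nat_lit 165632, nat_lit 160000, nat_lit 156480, nat_lit 152864, nat_lit 148656, nat_lit 145024, nat_lit 143320, nat_lit 135698, nat_lit 133041, nat_lit 1336, nat_lit 4952, nat_lit 8448, nat_lit 13168, nat_lit 17056, nat_lit 21504, nat_lit 24704, nat_lit 28928, nat_lit 33280, nat_lit 37888, nat_lit 41851, nat_lit 37166, nat_lit 32772, nat_lit 28740, nat_lit 24707, nat_lit 21022, nat_lit 16420, nat_lit 12802, nat_lit 4161, nat_lit 64]⟩⟩⟩]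
theorem s425 : Suf yT 3072 (ldrop wS 59) (apW dcM p424) (tgtN dcM p424.e) := Suf.seg (l := l425) (by decide +kernel) s426
def l424 : List AP := [⟨[nat_lit 57, nat_lit 642, nat_lit 49, nat_lit 46], [], (nat_lit 120), ⟨[nat_lit 0, nat_lit 29, nat_lit 67], [nat_lit 0, nat_lit 78], ⟨[nat_lit 0x72c1754d2585aa679db14305409072], [nat_lit 173056, nat_lit 169984, nat_lit 165632, nat_lit 158528, nat_lit 153344, nat_lit 149312, nat_lit 145624, nat_lit 141568, nat_lit 138436, nat_lit 133216, nat_lit 590, nat_lit 4104, nat_lit 8208, nat_lit 17920, nat_lit 25344, nat_lit 30208, nat_lit 33280, nat_lit 37888, nat_lit 41767, nat_lit 37087, nat_lit 33830, nat_lit 29258, nat_lit 25118, nat_lit 20498, nat_lit 16419, nat_lit 12291, nat_lit 8320, nat_lit 4104]⟩⟩⟩,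
  ⟨[nat_lit 66, nat_lit 71], [], (nat_lit 121), ⟨[nat_lit 0, nat_lit 15, nat_lit 53], [nat_lit 8, nat_lit 54], ⟨[nat_lit 0xab4322a8e6a3e0205a2e4112b1cd97], [nat_lit 174080, nat_lit 169984, nat_lit 166144, nat_lit 161280, nat_lit 152096, nat_lit 149808, nat_lit 144864, nat_lit 139536, nat_lit 137506, nat_lit 134681, nat_lit 1354, nat_lit 4964, nat_lit 9560, nat_lit 13792, nat_lit 16960, nat_lit 21952, nat_lit 26368, nat_lit 34304, nat_lit 37888, nat_lit 41833, nat_lit 38397, nat_lit 32821, nat_lit 29263, nat_lit 24738, nat_lit 20505, nat_lit 16399, nat_lit 12310, nat_lit 4097, nat_lit 2]⟩⟩⟩]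
theorem s424 : Suf yT 3072 (ldrop wS 44) (apW dcM p423) (tgtN dcM p423.e) := Suf.seg (l := l424) (by decide +kernel) s425
def l423 : List AP := [⟨[nat_lit 642, nat_lit 55, nat_lit 55, nat_lit 52], [], (nat_lit 120), ⟨[nat_lit 36, nat_lit 70], [nat_lit 0, nat_lit 4, nat_lit 62], ⟨[nat_lit 0xb899601de60ba121b50a8913499575], [nat_lit 174080, nat_lit 168448, nat_lit 164608, nat_lit 162304, nat_lit 156416, nat_lit 152064, nat_lit 149568, nat_lit 145432, nat_lit 141404, nat_lit 138132, nat_lit 134710, nat_lit 1336, nat_lit 4952, nat_lit 8824, nat_lit 12592, nat_lit 16704, nat_lit 21312, nat_lit 26368, nat_lit 29440, nat_lit 34304, nat_lit 37888, nat_lit 41943, nat_lit 38216, nat_lit 33012, nat_lit 29013, nat_lit 24883, nat_lit 20615, nat_lit 16643, nat_lit 12807, nat_lit 8195, nat_lit 4100, nat_lit 2]⟩⟩⟩,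
  ⟨[nat_lit 641, nat_lit 46, nat_lit 54], [], (nat_lit 121), ⟨[nat_lit 0, nat_lit 24, nat_lit 47], [nat_lit 2, nat_lit 91], ⟨[nat_lit 0x3510195dd5b28a38b16904de2241a7], [nat_lit 174080, nat_lit 168960, nat_lit 164608, nat_lit 160256, nat_lit 158400, nat_lit 154080, nat_lit 149888, nat_lit 145208, nat_lit 141492, nat_lit 135864, nat_lit 133552, nat_lit 1246, nat_lit 5488, nat_lit 8256, nat_lit 13760, nat_lit 16448, nat_lit 21824, nat_lit 25216, nat_lit 30464, nat_lit 34304, nat_lit 41866, nat_lit 37295, nat_lit 33282, nat_lit 28723, nat_lit 24614, nat_lit 20489, nat_lit 16399, nat_lit 12291, nat_lit 8208, nat_lit 4101, nat_lit 4]⟩⟩⟩]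
theorem s423 : Suf yT 3072 (ldrop wS 38) (apW dcM p422) (tgtN dcM p422.e) := Suf.seg (l := l423) (by decide +kernel) s424
def l422 : List AP := [⟨[nat_lit 641, nat_lit 46, nat_lit 54], [], (nat_lit 121), ⟨[nat_lit 27, nat_lit 59], [nat_lit 0, nat_lit 81, nat_lit 93], ⟨[nat_lit 0x3a236bb855850a95056d7cc121b086], [nat_lit 174080, nat_lit 169984, nat_lit 166400, nat_lit 163456, nat_lit 155968, nat_lit 154624, nat_lit 151520, nat_lit 144352, nat_lit 142248, nat_lit 136882, nat_lit 132153, nat_lit 1720, nat_lit 4396, nat_lit 10144, nat_lit 12304, nat_lit 21120, nat_lit 26240, nat_lit 37888, nat_lit 41823, nat_lit 37999, nat_lit 33489, nat_lit 29020, nat_lit 24579, nat_lit 20616, nat_lit 16388, nat_lit 12292, nat_lit 8194, nat_lit 4100, nat_lit 32]⟩⟩⟩,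
  ⟨[nat_lit 68, nat_lit 641, nat_lit 52, nat_lit 47], [], (nat_lit 120), ⟨[nat_lit 29, nat_lit 56], [nat_lit 0, nat_lit 16, nat_lit 94], ⟨[nat_lit 0x6a1871a425aacd7b38109915278a34], [nat_lit 175104, nat_lit 167168, nat_lit 163456, nat_lit 158720, nat_lit 153440, nat_lit 149456, nat_lit 143440, nat_lit 141616, nat_lit 137664, nat_lit 131107, nat_lit 1214, nat_lit 6084, nat_lit 8704, nat_lit 13664, nat_lit 20992, nat_lit 25600, nat_lit 29184, nat_lit 34304, nat_lit 37888, nat_lit 41490, nat_lit 37316, nat_lit 33414, nat_lit 28751, nat_lit 24717, nat_lit 20483, nat_lit 17408, nat_lit 12290, nat_lit 8194, nat_lit 32]⟩⟩⟩]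
theorem s422 : Suf yT 3072 (ldrop wS 23) (apW dcM p421) (tgtN dcM p421.e) := Suf.seg (l := l422) (by decide +kernel) s423
def l421 : List AP := [⟨[nat_lit 661, nat_lit 218], [], (nat_lit 396), ⟨[nat_lit 37, nat_lit 48], [nat_lit 83, nat_lit 54], ⟨[nat_lit 0x331ed406d229dc45566202e901dd31], [nat_lit 169472, nat_lit 165632, nat_lit 160256, nat_lit 157248, nat_lit 151712, nat_lit 149152, nat_lit 143400, nat_lit 140728, nat_lit 138998, nat_lit 131422, nat_lit 1652, nat_lit 6084, nat_lit 9664, nat_lit 12800, nat_lit 17856, nat_lit 20544, nat_lit 29952, nat_lit 33280, nat_lit 40984, nat_lit 37131, nat_lit 33481, nat_lit 28964, nat_lit 24736, nat_lit 20633, nat_lit 16425, nat_lit 12294, nat_lit 8195, nat_lit 4101, nat_lit 4]⟩⟩⟩,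
  ⟨[nat_lit 66, nat_lit 49, nat_lit 51, nat_lit 642], [], (nat_lit 120), ⟨[nat_lit 0, nat_lit 88, nat_lit 54], [nat_lit 0, nat_lit 71, nat_lit 54], ⟨[nat_lit 0x621770a8b2336a703854b45f049263], [nat_lit 174080, nat_lit 171520, nat_lit 166912, nat_lit 160384, nat_lit 156480, nat_lit 153376, nat_lit 150352, nat_lit 143672, nat_lit 140096, nat_lit 138536, nat_lit 133160, nat_lit 1818, nat_lit 4240, nat_lit 9536, nat_lit 12304, nat_lit 16448, nat_lit 22208, nat_lit 28928, nat_lit 34304, nat_lit 37888, nat_lit 41561, nat_lit 37337, nat_lit 32953, nat_lit 28705, nat_lit 24601, nat_lit 20502, nat_lit 16393, nat_lit 12295, nat_lit 8202, nat_lit 4105]⟩⟩⟩]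
theorem s421 : Suf yT 3072 (ldrop wS 8) (apW dcM p420) (tgtN dcM p420.e) := Suf.seg (l := l421) (by decide +kernel) s422
def l420 : List AP := [⟨[nat_lit 628, nat_lit 1, nat_lit 10, nat_lit 627, nat_lit 1, nat_lit 628], [], (nat_lit 40), ⟨[nat_lit 17, nat_lit 50], [nat_lit 79, nat_lit 58], ⟨[nat_lit 0x10d8b72a72a3535321e589ee1b1010], [nat_lit 174080, nat_lit 170496, nat_lit 166144, nat_lit 161280, nat_lit 156864, nat_lit 152512, nat_lit 149712, nat_lit 145136, nat_lit 139832, nat_lit 138564, nat_lit 133531, nat_lit 1874, nat_lit 5904, nat_lit 9248, nat_lit 12976, nat_lit 18240, nat_lit 20800, nat_lit 30464, nat_lit 34304, nat_lit 37888, nat_lit 41564, nat_lit 38032, nat_lit 32961, nat_lit 29015, nat_lit 24577, nat_lit 20507, nat_lit 16387, nat_lit 12290, nat_lit 8323]⟩⟩⟩,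
  ⟨[nat_lit 31, nat_lit 22, nat_lit 635, nat_lit 32, nat_lit 25, nat_lit 22], [], (nat_lit 338), ⟨[nat_lit 0, nat_lit 72, nat_lit 59], [nat_lit 5, nat_lit 54], ⟨[nat_lit 0x43c8ea96eb951a048c2660a763aa30], [nat_lit 168448, nat_lit 165632, nat_lit 163072, nat_lit 153216, nat_lit 148992, nat_lit 143960, nat_lit 140272, nat_lit 136824, nat_lit 131463, nat_lit 1874, nat_lit 6120, nat_lit 9096, nat_lit 13424, nat_lit 17952, nat_lit 20672, nat_lit 25088, nat_lit 29184, nat_lit 37888, nat_lit 41820, nat_lit 37319, nat_lit 33351, nat_lit 28789, nat_lit 24743, nat_lit 20633, nat_lit 16449, nat_lit 12321, nat_lit 8200, nat_lit 4113, nat_lit 4]⟩⟩⟩]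
theorem rS23 : Suf yT 3072 wS [yT.get 57] 0 := Suf.seg (l := l420) (by decide +kernel) s421


end

end CF.Mon.Tr
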