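import Cfsg.Agent.Mon.YW

set_option autoImplicit false
set_option maxRecDepth 100000

namespace CF.Mon.Tr

open CF.Comp

noncomputable section

def p434 : AP := ⟨[nat_lit 661], [], (nat_lit 418), ⟨[nat_lit 16, nat_lit 89], [nat_lit 85, nat_lit 91], ⟨[nat_lit 0x924ac599b3182e279228b52a1728f0], [nat_lit 174080, nat_lit 168960, nat_lit 165376, nat_lit 160128, nat_lit 156352, nat_lit 151616, nat_lit 148896, nat_lit 143512, nat_lit 140944, nat_lit 135832, nat_lit 132102, nat_lit 1246, nat_lit 4160, nat_lit 10184, nat_lit 13424, nat_lit 18144, nat_lit 25600, nat_lit 33792, nat_lit 40992, nat_lit 37267, nat_lit 29190, nat_lit 24625, nat_lit 20551, nat_lit 16420, nat_lit 12292, nat_lit 8193, nat_lit 4113, nat_lit 2]⟩⟩⟩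
def p435 : AP := ⟨[nat_lit 640, nat_lit 640, nat_lit 56, nat_lit 641], [], (nat_lit 1046), ⟨[nat_lit 0, nat_lit 73, nat_lit 69], [nat_lit 44, nat_lit 90], ⟨[nat_lit 0x6264e9a0011d9a4aaef13504f3c145], [nat_lit 173056, nat_lit 168960, nat_lit 166400, nat_lit 161152, nat_lit 157632, nat_lit 152064, nat_lit 148112, nat_lit 145208, nat_lit 139896, nat_lit 136006, nat_lit 133096, nat_lit 1938, nat_lit 4224, nat_lit 9032, nat_lit 14112, nat_lit 17280, nat_lit 21504, nat_lit 24704, nat_lit 28928, nat_lit 33280, nat_lit 41760, nat_lit 38323, nat_lit 28780, nat_lit 24750, nat_lit 20624, nat_lit 16420, nat_lit 12309, nat_lit 8201, nat_lit 4161, nat_lit 2]⟩⟩⟩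
def p436 : AP := ⟨[nat_lit 212, nat_lit 177], [], (nat_lit 418), ⟨[nat_lit 71, nat_lit 53], [nat_lit 0, nat_lit 21, nat_lit 55], ⟨[nat_lit 0x78eb04980251e532d176235880ba37], [nat_lit 174080, nat_lit 165120, nat_lit 160128, nat_lit 153056, nat_lit 147856, nat_lit 143984, nat_lit 141280, nat_lit 135320, nat_lit 131905, nat_lit 116, nat_lit 4608, nat_lit 9136, nat_lit 12928, nat_lit 17056, nat_lit 20928, nat_lit 28928, nat_lit 33792, nat_lit 37888, nat_lit 41081, nat_lit 37061, nat_lit 32861, nat_lit 29259, nat_lit 24841, nat_lit 21529, nat_lit 16452, nat_lit 12420, nat_lit 4104]⟩⟩⟩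
def p437 : AP := ⟨[nat_lit 50], [], (nat_lit 1046), ⟨[nat_lit 79, nat_lit 60], [nat_lit 18], ⟨[nat_lit 0x6b0a0a452ebbd133ad42b1aa30c244], [nat_lit 173056, nat_lit 171520, nat_lit 164096, nat_lit 159872, nat_lit 156800, nat_lit 151584, nat_lit 148048, nat_lit 139440, nat_lit 137188, nat_lit 132566, nat_lit 16, nat_lit 10224, nat_lit 22208, nat_lit 25088, nat_lit 30208, nat_lit 33280, nat_lit 41472, nat_lit 37110, nat_lit 32820, nat_lit 29253, nat_lit 24580, nat_lit 20610, nat_lit 16425, nat_lit 12306, nat_lit 8256, nat_lit 4104, nat_lit 32]⟩⟩⟩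
def p438 : AP := ⟨[nat_lit 641, nat_lit 643, nat_lit 52, nat_lit 52], [], (nat_lit 1046), ⟨[nat_lit 0, nat_lit 27, nat_lit 64], [nat_lit 0, nat_lit 4, nat_lit 60], ⟨[nat_lit 0x200f3b990e8a86b4b0b6a06b2809ed], [nat_lit 174080, nat_lit 168448, nat_lit 165632, nat_lit 159872, nat_lit 157056, nat_lit 152128, nat_lit 149152, nat_lit 144616, nat_lit 139752, nat_lit 136732, nat_lit 131226, nat_lit 1516, nat_lit 4296, nat_lit 9216, nat_lit 14112, nat_lit 17312, nat_lit 20608, nat_lit 26496, nat_lit 30464, nat_lit 37888, nat_lit 41962, nat_lit 38122, nat_lit 33525, nat_lit 28978, nat_lit 24723, nat_lit 20766, nat_lit 16452, nat_lit 12323, nat_lit 4129]⟩⟩⟩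
def p439 : AP := ⟨[], [], (nat_lit 418), ⟨[nat_lit 0, nat_lit 38, nat_lit 59], [nat_lit 0, nat_lit 42, nat_lit 55], ⟨[nat_lit 0x530d3225d1a0612b01683dca3789b5], [nat_lit 175104, nat_lit 169472, nat_lit 167424, nat_lit 163072, nat_lit 159168, nat_lit 151648, nat_lit 148288, nat_lit 143448, nat_lit 142864, nat_lit 138362, nat_lit 133022, nat_lit 804, nat_lit 5900, nat_lit 8904, nat_lit 13664, nat_lit 17760, nat_lit 22080, nat_lit 25472, nat_lit 29184, nat_lit 33280, nat_lit 41371, nat_lit 37206, nat_lit 32874, nat_lit 28778, nat_lit 24618, nat_lit 20485, nat_lit 16900, nat_lit 12352, nat_lit 8194, nat_lit 4097]⟩⟩⟩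
def p440 : AP := ⟨[nat_lit 217, nat_lit 215], [], (nat_lit 419), ⟨[nat_lit 0, nat_lit 10, nat_lit 67], [nat_lit 22, nat_lit 69], ⟨[nat_lit 0xb89b008c895167243cceb2cf4a8191], [nat_lit 173056, nat_lit 169472, nat_lit 164096, nat_lit 160896, nat_lit 157440, nat_lit 153088, nat_lit 148240, nat_lit 146776, nat_lit 140224, nat_lit 135172, nat_lit 132464, nat_lit 512, nat_lit 4404, nat_lit 10192, nat_lit 12800, nat_lit 17600, nat_lit 20544, nat_lit 25088, nat_lit 29952, nat_lit 33280, nat_lit 41142, nat_lit 37336, nat_lit 33524, nat_lit 28771, nat_lit 24634, nat_lit 20562, nat_lit 16450, nat_lit 12295, nat_lit 8202, nat_lit 4]⟩⟩⟩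
def p441 : AP := ⟨[nat_lit 217, nat_lit 172], [], (nat_lit 396), ⟨[nat_lit 0, nat_lit 8, nat_lit 61], [nat_lit 0, nat_lit 19, nat_lit 65], ⟨[nat_lit 0x232120142d3d1f612675ba87132d0e], [nat_lit 164608, nat_lit 162560, nat_lit 157312, nat_lit 151968, nat_lit 147552, nat_lit 144296, nat_lit 140732, nat_lit 135688, nat_lit 132414, nat_lit 1624, nat_lit 4824, nat_lit 9904, nat_lit 13312, nat_lit 17600, nat_lit 21056, nat_lit 26112, nat_lit 29696, nat_lit 37888, nat_lit 41427, nat_lit 37018, nat_lit 33904, nat_lit 28680, nat_lit 25622, nat_lit 20739, nat_lit 16906, nat_lit 12416, nat_lit 8259, nat_lit 4100, nat_lit 64]⟩⟩⟩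
def p442 : AP := ⟨[nat_lit 178, nat_lit 214], [], (nat_lit 396), ⟨[nat_lit 0, nat_lit 14], [nat_lit 88, nat_lit 93], ⟨[nat_lit 0x69d2265e6eaaa080accf8807691684], [nat_lit 175104, nat_lit 164096, nat_lit 161408, nat_lit 157824, nat_lit 154144, nat_lit 151104, nat_lit 144304, nat_lit 142580, nat_lit 136438, nat_lit 134503, nat_lit 1124, nat_lit 5640, nat_lit 9816, nat_lit 13904, nat_lit 16512, nat_lit 22272, nat_lit 26240, nat_lit 37888, nat_lit 41340, nat_lit 37298, nat_lit 33435, nat_lit 28745, nat_lit 24740, nat_lit 20560, nat_lit 16388, nat_lit 12324, nat_lit 8209, nat_lit 4609]⟩⟩⟩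
def p443 : AP := ⟨[nat_lit 642, nat_lit 71, nat_lit 66, nat_lit 53, nat_lit 46], [], (nat_lit 1046), ⟨[nat_lit 17, nat_lit 51], [nat_lit 0, nat_lit 18, nat_lit 89], ⟨[nat_lit 0x8ce8d78ea03d88e488d0905055dd8a], [nat_lit 173056, nat_lit 168448, nat_lit 164864, nat_lit 160896, nat_lit 156800, nat_lit 152096, nat_lit 149008, nat_lit 146744, nat_lit 140644, nat_lit 137124, nat_lit 133085, nat_lit 1818, nat_lit 4404, nat_lit 8368, nat_lit 13008, nat_lit 16960, nat_lit 21696, nat_lit 25728, nat_lit 28928, nat_lit 33792, nat_lit 41246, nat_lit 37105, nat_lit 33862, nat_lit 28696, nat_lit 24599, nat_lit 21002, nat_lit 16392, nat_lit 12310, nat_lit 8201]⟩⟩⟩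
def p444 : AP := ⟨[nat_lit 71, nat_lit 69, nat_lit 643, nat_lit 49, nat_lit 47], [], (nat_lit 1046), ⟨[nat_lit 0, nat_lit 73, nat_lit 69], [nat_lit 81, nat_lit 94], ⟨[nat_lit 0x9306e79d17b25a40521550a6b89825], [nat_lit 174080, nat_lit 169472, nat_lit 164352, nat_lit 161920, nat_lit 156544, nat_lit 151840, nat_lit 150800, nat_lit 146928, nat_lit 142964, nat_lit 138666, nat_lit 134607, nat_lit 1054, nat_lit 4224, nat_lit 9136, nat_lit 12624, nat_lit 17312, nat_lit 20928, nat_lit 29696, nat_lit 33280, nat_lit 37888, nat_lit 41109, nat_lit 37249, nat_lit 33405, nat_lit 28720, nat_lit 24870, nat_lit 20629, nat_lit 16449, nat_lit 12306, nat_lit 8224, nat_lit 4097]⟩⟩⟩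
def p445 : AP := ⟨[nat_lit 217, nat_lit 172], [], (nat_lit 396), ⟨[nat_lit 11, nat_lit 48], [nat_lit 0, nat_lit 5, nat_lit 51], ⟨[nat_lit 0x70a405a60d7ceb735868a04aa89d84], [nat_lit 175104, nat_lit 165888, nat_lit 163072, nat_lit 159232, nat_lit 152832, nat_lit 147984, nat_lit 142888, nat_lit 138514, nat_lit 132714, nat_lit 1166, nat_lit 4396, nat_lit 9096, nat_lit 14048, nat_lit 16896, nat_lit 22400, nat_lit 25984, nat_lit 29184, nat_lit 33280, nat_lit 37888, nat_lit 41260, nat_lit 37322, nat_lit 32778, nat_lit 28682, nat_lit 24589, nat_lit 20489, nat_lit 16399, nat_lit 12290, nat_lit 8208, nat_lit 4101, nat_lit 4]⟩⟩⟩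
def p446 : AP := ⟨[nat_lit 173, nat_lit 170], [], (nat_lit 396), ⟨[nat_lit 0, nat_lit 16, nat_lit 56], [nat_lit 4, nat_lit 62], ⟨[nat_lit 0x71ec911a04645e19a903950172aead], [nat_lit 174080, nat_lit 165632, nat_lit 160896, nat_lit 155712, nat_lit 152672, nat_lit 147952, nat_lit 143656, nat_lit 139532, nat_lit 136066, nat_lit 131233, nat_lit 1516, nat_lit 5900, nat_lit 8400, nat_lit 12560, nat_lit 17216, nat_lit 21632, nat_lit 26368, nat_lit 29696, nat_lit 41120, nat_lit 37184, nat_lit 32856, nat_lit 28717, nat_lit 24592, nat_lit 20631, nat_lit 16419, nat_lit 12305, nat_lit 8194, nat_lit 4097]⟩⟩⟩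
def l447 : List AP := [⟨[nat_lit 50], [], (nat_lit 1046), ⟨[nat_lit 26, nat_lit 49], [nat_lit 20, nat_lit 70], ⟨[nat_lit 0x71ec911a04645e19a903950172aead], [nat_lit 174080, nat_lit 165632, nat_lit 160896, nat_lit 152672, nat_lit 147936, nat_lit 143648, nat_lit 139532, nat_lit 136064, nat_lit 131233, nat_lit 1516, nat_lit 5900, nat_lit 8400, nat_lit 12560, nat_lit 17216, nat_lit 21632, nat_lit 26368, nat_lit 29696, nat_lit 41120, nat_lit 37184, nat_lit 32856, nat_lit 28717, nat_lit 24592, nat_lit 20631, nat_lit 16419, nat_lit 12305, nat_lit 8194, nat_lit 4097]⟩⟩⟩,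
  ⟨[nat_lit 171], [], (nat_lit 390), ⟨[nat_lit 0, nat_lit 17, nat_lit 91], [nat_lit 39, nat_lit 90], ⟨[nat_lit 0x205c6650161367278d093aeb12aaf0], [nat_lit 168448, nat_lit 165632, nat_lit 160000, nat_lit 156992, nat_lit 154432, nat_lit 148560, nat_lit 144424, nat_lit 140800, nat_lit 136914, nat_lit 131633, nat_lit 1076, nat_lit 4964, nat_lit 9928, nat_lit 12912, nat_lit 17312, nat_lit 21504, nat_lit 25600, nat_lit 33280, nat_lit 41974, nat_lit 38235, nat_lit 33908, nat_lit 28977, nat_lit 24613, nat_lit 16515, nat_lit 12805, nat_lit 8258, nat_lit 4100, nat_lit 2]⟩⟩⟩,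
  ⟨[], [], (nat_lit 1034), ⟨[nat_lit 19, nat_lit 52], [nat_lit 0, nat_lit 29, nat_lit 67], ⟨[nat_lit 0x32a04a81875da919352f1a0530b8b7], [nat_lit 173056, nat_lit 169472, nat_lit 164864, nat_lit 161536, nat_lit 157184, nat_lit 151808, nat_lit 148768, nat_lit 144208, nat_lit 139272, nat_lit 135916, nat_lit 134651, nat_lit 1268, nat_lit 4224, nat_lit 10032, nat_lit 14000, nat_lit 16512, nat_lit 22272, nat_lit 26112, nat_lit 30464, nat_lit 33792, nat_lit 41925, nat_lit 36987, nat_lit 32925, nat_lit 29036, nat_lit 24751, nat_lit 20612, nat_lit 16427, nat_lit 12305, nat_lit 8202, nat_lit 4104, nat_lit 2]⟩⟩⟩]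
theorem s447 : Suf yT 2048 (ldrop vS 160) (apW dcM p446) (tgtN dcM p446.e) := Suf.fin' (l := l447) (by decide +kernel)
def l446 : List AP := [⟨[nat_lit 639, nat_lit 69, nat_lit 639, nat_lit 51], [], (nat_lit 1046), ⟨[nat_lit 0, nat_lit 4, nat_lit 55], [nat_lit 0, nat_lit 28, nat_lit 49], ⟨[nat_lit 0x5518eba4611408d9bc0744a36aaca6], [nat_lit 175104, nat_lit 169472, nat_lit 167680, nat_lit 163200, nat_lit 158336, nat_lit 151712, nat_lit 149376, nat_lit 143688, nat_lit 142404, nat_lit 138446, nat_lit 132216, nat_lit 738, nat_lit 5444, nat_lit 9752, nat_lit 13728, nat_lit 17888, nat_lit 21568, nat_lit 25216, nat_lit 29184, nat_lit 34304, nat_lit 37888, nat_lit 41602, nat_lit 37354, nat_lit 33357, nat_lit 28674, nat_lit 25142, nat_lit 20745, nat_lit 16457, nat_lit 12325, nat_lit 8]⟩⟩⟩,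
  ⟨[nat_lit 171, nat_lit 215], [], (nat_lit 418), ⟨[nat_lit 0, nat_lit 40, nat_lit 61], [nat_lit 0, nat_lit 29, nat_lit 94], ⟨[nat_lit 0xb80f2b3a895b2708d4c36a022291ea], [nat_lit 174080, nat_lit 171008, nat_lit 167424, nat_lit 162304, nat_lit 157632, nat_lit 155136, nat_lit 150304, nat_lit 143084, nat_lit 135232, nat_lit 166, nat_lit 4780, nat_lit 10144, nat_lit 14304, nat_lit 18336, nat_lit 22400, nat_lit 25984, nat_lit 33792, nat_lit 41268, nat_lit 37268, nat_lit 32988, nat_lit 28762, nat_lit 24740, nat_lit 20500, nat_lit 12354, nat_lit 4160]⟩⟩⟩]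
theorem s446 : Suf yT 2048 (ldrop vS 145) (apW dcM p445) (tgtN dcM p445.e) := Suf.seg (l := l446) (by decide +kernel) s447
def l445 : List AP := [⟨[nat_lit 663, nat_lit 216], [], (nat_lit 418), ⟨[nat_lit 0, nat_lit 15, nat_lit 91], [nat_lit 0, nat_lit 16, nat_lit 54], ⟨[nat_lit 0xb290b0db132a533a440a92eb721e5], [nat_lit 169472, nat_lit 165376, nat_lit 161152, nat_lit 156096, nat_lit 151744, nat_lit 149168, nat_lit 147008, nat_lit 140224, nat_lit 135170, nat_lit 131792, nat_lit 1268, nat_lit 5296, nat_lit 9904, nat_lit 12544, nat_lit 16992, nat_lit 22016, nat_lit 28928, nat_lit 33280, nat_lit 41848, nat_lit 37233, nat_lit 32845, nat_lit 28681, nat_lit 24837, nat_lit 21017, nat_lit 16899, nat_lit 12292, nat_lit 8200, nat_lit 4112, nat_lit 128]⟩⟩⟩,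
  ⟨[nat_lit 659, nat_lit 171], [], (nat_lit 419), ⟨[nat_lit 42, nat_lit 55], [nat_lit 0, nat_lit 32, nat_lit 53], ⟨[nat_lit 0x919366441038caf72d416dc5525113], [nat_lit 170496, nat_lit 164096, nat_lit 159872, nat_lit 155776, nat_lit 153248, nat_lit 148032, nat_lit 143936, nat_lit 140924, nat_lit 136750, nat_lit 132896, nat_lit 78, nat_lit 5108, nat_lit 9864, nat_lit 13968, nat_lit 16416, nat_lit 20736, nat_lit 25088, nat_lit 28928, nat_lit 33280, nat_lit 37888, nat_lit 41799, nat_lit 36907, nat_lit 33006, nat_lit 29010, nat_lit 20639, nat_lit 16521, nat_lit 12420, nat_lit 8209, nat_lit 4129]⟩⟩⟩]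
theorem s445 : Suf yT 2048 (ldrop vS 130) (apW dcM p444) (tgtN dcM p444.e) := Suf.seg (l := l445) (by decide +kernel) s446
def l444 : List AP := [⟨[nat_lit 212, nat_lit 216], [], (nat_lit 418), ⟨[nat_lit 42], [nat_lit 83, nat_lit 55], ⟨[nat_lit 0x80597895335d2a4320603a9ed70ad2], [nat_lit 173056, nat_lit 168448, nat_lit 164096, nat_lit 163200, nat_lit 155968, nat_lit 152928, nat_lit 148208, nat_lit 143704, nat_lit 141180, nat_lit 136018, nat_lit 132255, nat_lit 696, nat_lit 4340, nat_lit 8320, nat_lit 12656, nat_lit 17216, nat_lit 21696, nat_lit 25856, nat_lit 33280, nat_lit 41967, nat_lit 36914, nat_lit 33958, nat_lit 28760, nat_lit 24731, nat_lit 20509, nat_lit 16389, nat_lit 12321, nat_lit 4160, nat_lit 2]⟩⟩⟩,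
  ⟨[nat_lit 179, nat_lit 216], [], (nat_lit 396), ⟨[nat_lit 0, nat_lit 4, nat_lit 52], [nat_lit 75, nat_lit 52], ⟨[nat_lit 0x7027448c448acd263d47b5505806ed], [nat_lit 164864, nat_lit 161024, nat_lit 157440, nat_lit 151872, nat_lit 147888, nat_lit 147104, nat_lit 141096, nat_lit 135424, nat_lit 131295, nat_lit 484, nat_lit 5520, nat_lit 9616, nat_lit 12352, nat_lit 16512, nat_lit 20544, nat_lit 24704, nat_lit 28928, nat_lit 41679, nat_lit 37907, nat_lit 32931, nat_lit 28744, nat_lit 24600, nat_lit 20488, nat_lit 16448, nat_lit 8706, nat_lit 4101]⟩⟩⟩]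
theorem s444 : Suf yT 2048 (ldrop vS 124) (apW dcM p443) (tgtN dcM p443.e) := Suf.seg (l := l444) (by decide +kernel) s445
def l443 : List AP := [⟨[nat_lit 50], [], (nat_lit 1046), ⟨[nat_lit 75, nat_lit 89], [nat_lit 37, nat_lit 93], ⟨[nat_lit 0x69d2265e6eaaa080accf8807691684], [nat_lit 175104, nat_lit 161408, nat_lit 157888, nat_lit 154144, nat_lit 151104, nat_lit 144304, nat_lit 142580, nat_lit 136438, nat_lit 134502, nat_lit 1124, nat_lit 5640, nat_lit 9816, nat_lit 13904, nat_lit 16512, nat_lit 22272, nat_lit 26240, nat_lit 37888, nat_lit 41340, nat_lit 37298, nat_lit 33435, nat_lit 28745, nat_lit 24740, nat_lit 20560, nat_lit 16388, nat_lit 12324, nat_lit 8209, nat_lit 4609]⟩⟩⟩,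
  ⟨[nat_lit 216, nat_lit 219], [], (nat_lit 396), ⟨[nat_lit 5, nat_lit 47], [nat_lit 19, nat_lit 61], ⟨[nat_lit 0xb8e6d4da8553dc45980284507ab032], [nat_lit 173056, nat_lit 171008, nat_lit 165120, nat_lit 163328, nat_lit 156160, nat_lit 154112, nat_lit 149712, nat_lit 147128, nat_lit 140096, nat_lit 136892, nat_lit 133397, nat_lit 696, nat_lit 8504, nat_lit 13392, nat_lit 17760, nat_lit 22016, nat_lit 25472, nat_lit 28928, nat_lit 37888, nat_lit 41473, nat_lit 36897, nat_lit 33005, nat_lit 29036, nat_lit 24876, nat_lit 20753, nat_lit 16418, nat_lit 12290, nat_lit 8195, nat_lit 4097]⟩⟩⟩]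
theorem s443 : Suf yT 2048 (ldrop vS 109) (apW dcM p442) (tgtN dcM p442.e) := Suf.seg (l := l443) (by decide +kernel) s444
def l442 : List AP := [⟨[nat_lit 73, nat_lit 52, nat_lit 48, nat_lit 51, nat_lit 46], [], (nat_lit 1046), ⟨[nat_lit 40, nat_lit 89], [nat_lit 18, nat_lit 69], ⟨[nat_lit 0x2d2ad8d94208c8e92ee0499e881d93], [nat_lit 171520, nat_lit 164608, nat_lit 163584, nat_lit 157056, nat_lit 155552, nat_lit 149536, nat_lit 146880, nat_lit 140744, nat_lit 136610, nat_lit 135060, nat_lit 880, nat_lit 4340, nat_lit 9600, nat_lit 12672, nat_lit 18304, nat_lit 22464, nat_lit 25984, nat_lit 29696, nat_lit 41417, nat_lit 37214, nat_lit 33446, nat_lit 28769, nat_lit 24589, nat_lit 20629, nat_lit 16429, nat_lit 12289, nat_lit 8226, nat_lit 4097, nat_lit 2]⟩⟩⟩,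
  ⟨[nat_lit 218, nat_lit 180], [], (nat_lit 419), ⟨[nat_lit 14, nat_lit 56], [nat_lit 29, nat_lit 69], ⟨[nat_lit 0x28d9335ceab22502444d0828baa5ee], [nat_lit 175104, nat_lit 168960, nat_lit 165632, nat_lit 160128, nat_lit 158144, nat_lit 154080, nat_lit 150720, nat_lit 145000, nat_lit 141388, nat_lit 136760, nat_lit 134882, nat_lit 960, nat_lit 4780, nat_lit 8408, nat_lit 12336, nat_lit 17056, nat_lit 21312, nat_lit 25344, nat_lit 30208, nat_lit 33280, nat_lit 41596, nat_lit 38034, nat_lit 33000, nat_lit 28765, nat_lit 24602, nat_lit 20758, nat_lit 16429, nat_lit 12290, nat_lit 8195, nat_lit 4100]⟩⟩⟩]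
theorem s442 : Suf yT 2048 (ldrop vS 94) (apW dcM p441) (tgtN dcM p441.e) := Suf.seg (l := l442) (by decide +kernel) s443
def l441 : List AP := [⟨[nat_lit 171, nat_lit 663], [], (nat_lit 419), ⟨[nat_lit 32, nat_lit 53], [nat_lit 59], ⟨[nat_lit 0xb3532a2e2f09e13bd4c2020aa70d84], [nat_lit 173056, nat_lit 169984, nat_lit 166912, nat_lit 163584, nat_lit 159424, nat_lit 152416, nat_lit 150432, nat_lit 147400, nat_lit 141172, nat_lit 138050, nat_lit 131073, nat_lit 1794, nat_lit 4404, nat_lit 8928, nat_lit 13648, nat_lit 20992, nat_lit 25856, nat_lit 33792, nat_lit 41310, nat_lit 36958, nat_lit 32954, nat_lit 28766, nat_lit 24614, nat_lit 20568, nat_lit 16417, nat_lit 12290, nat_lit 8194, nat_lit 4100, nat_lit 16]⟩⟩⟩,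
  ⟨[nat_lit 178, nat_lit 171], [], (nat_lit 419), ⟨[nat_lit 10, nat_lit 48], [nat_lit 0, nat_lit 86, nat_lit 46], ⟨[nat_lit 0x9a009b0af0a34eb344657d54473032], [nat_lit 173056, nat_lit 168448, nat_lit 160640, nat_lit 156672, nat_lit 151680, nat_lit 148656, nat_lit 143328, nat_lit 136998, nat_lit 132903, nat_lit 1810, nat_lit 4100, nat_lit 8504, nat_lit 13968, nat_lit 18336, nat_lit 21056, nat_lit 29952, nat_lit 33792, nat_lit 41661, nat_lit 38258, nat_lit 32876, nat_lit 28781, nat_lit 24705, nat_lit 20494, nat_lit 16396, nat_lit 12308, nat_lit 8194, nat_lit 128]⟩⟩⟩]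
theorem s441 : Suf yT 2048 (ldrop vS 79) (apW dcM p440) (tgtN dcM p440.e) := Suf.seg (l := l441) (by decide +kernel) s442
def l440 : List AP := [⟨[nat_lit 216, nat_lit 172, nat_lit 170], [], (nat_lit 396), ⟨[nat_lit 0, nat_lit 7, nat_lit 91], [nat_lit 22, nat_lit 91], ⟨[nat_lit 0x7400f65d24918e18d85440d73aa8ad], [nat_lit 174080, nat_lit 168448, nat_lit 160000, nat_lit 159360, nat_lit 154400, nat_lit 150064, nat_lit 143944, nat_lit 142244, nat_lit 136142, nat_lit 133486, nat_lit 364, nat_lit 5884, nat_lit 9560, nat_lit 13408, nat_lit 16864, nat_lit 21184, nat_lit 24960, nat_lit 30464, nat_lit 41521, nat_lit 38226, nat_lit 33434, nat_lit 28711, nat_lit 24848, nat_lit 20568, nat_lit 16398, nat_lit 12290, nat_lit 8208, nat_lit 4101, nat_lit 2]⟩⟩⟩,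
  ⟨[nat_lit 50], [], (nat_lit 1046), ⟨[nat_lit 0, nat_lit 23, nat_lit 70], [nat_lit 0, nat_lit 76], ⟨[nat_lit 0x7400f65d24918e18d85440d73aa8ad], [nat_lit 174080, nat_lit 160000, nat_lit 159424, nat_lit 154400, nat_lit 150064, nat_lit 143944, nat_lit 142240, nat_lit 136140, nat_lit 133487, nat_lit 364, nat_lit 5884, nat_lit 9560, nat_lit 13408, nat_lit 16864, nat_lit 21184, nat_lit 24960, nat_lit 30464, nat_lit 41521, nat_lit 38226, nat_lit 33434, nat_lit 28711, nat_lit 24848, nat_lit 20568, nat_lit 16398, nat_lit 12290, nat_lit 8208, nat_lit 4101, nat_lit 2]⟩⟩⟩]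
theorem s440 : Suf yT 2048 (ldrop vS 73) (apW dcM p439) (tgtN dcM p439.e) := Suf.seg (l := l440) (by decide +kernel) s441
def l439 : List AP := [⟨[nat_lit 661, nat_lit 171], [], (nat_lit 418), ⟨[nat_lit 0, nat_lit 35, nat_lit 48], [nat_lit 74, nat_lit 62], ⟨[nat_lit 0x93d84a58f0135778a0a9ab82a30073], [nat_lit 171008, nat_lit 165376, nat_lit 162560, nat_lit 156672, nat_lit 154016, nat_lit 149760, nat_lit 145984, nat_lit 140496, nat_lit 135834, nat_lit 134940, nat_lit 582, nat_lit 4340, nat_lit 10208, nat_lit 13312, nat_lit 18080, nat_lit 21120, nat_lit 25600, nat_lit 34304, nat_lit 37888, nat_lit 41087, nat_lit 37106, nat_lit 32921, nat_lit 28964, nat_lit 24587, nat_lit 20507, nat_lit 16398, nat_lit 12291, nat_lit 8210, nat_lit 4097, nat_lit 2]⟩⟩⟩,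
  ⟨[nat_lit 172, nat_lit 659, nat_lit 177], [], (nat_lit 418), ⟨[nat_lit 75, nat_lit 67], [nat_lit 80, nat_lit 56], ⟨[nat_lit 0x3ba93aac7740a127a80cb122d494c1], [nat_lit 169984, nat_lit 166144, nat_lit 162560, nat_lit 158912, nat_lit 152640, nat_lit 149632, nat_lit 147256, nat_lit 140912, nat_lit 137606, nat_lit 131274, nat_lit 494, nat_lit 6104, nat_lit 8856, nat_lit 14160, nat_lit 18368, nat_lit 22400, nat_lit 26112, nat_lit 30208, nat_lit 33792, nat_lit 41938, nat_lit 37018, nat_lit 33918, nat_lit 28974, nat_lit 24577, nat_lit 20483, nat_lit 16899, nat_lit 12309, nat_lit 8202, nat_lit 16]⟩⟩⟩]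
theorem s439 : Suf yT 2048 (ldrop vS 58) (apW dcM p438) (tgtN dcM p438.e) := Suf.seg (l := l439) (by decide +kernel) s440
def l438 : List AP := [⟨[nat_lit 213, nat_lit 219], [], (nat_lit 418), ⟨[nat_lit 11, nat_lit 52], [nat_lit 0, nat_lit 76, nat_lit 89], ⟨[nat_lit 0xa1c50892a372253bd9ab0a40c515e6], [nat_lit 173056, nat_lit 169472, nat_lit 164608, nat_lit 160640, nat_lit 157120, nat_lit 152480, nat_lit 150400, nat_lit 143544, nat_lit 140444, nat_lit 136856, nat_lit 132297, nat_lit 786, nat_lit 5716, nat_lit 9664, nat_lit 13152, nat_lit 17408, nat_lit 21248, nat_lit 25600, nat_lit 29696, nat_lit 33280, nat_lit 37888, nat_lit 41346, nat_lit 37089, nat_lit 33980, nat_lit 28695, nat_lit 24632, nat_lit 20552, nat_lit 16394, nat_lit 12307, nat_lit 8323, nat_lit 4112, nat_lit 8]⟩⟩⟩,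
  ⟨[nat_lit 177, nat_lit 180, nat_lit 171], [], (nat_lit 396), ⟨[nat_lit 24, nat_lit 47], [nat_lit 0, nat_lit 78, nat_lit 63], ⟨[nat_lit 0xb88ae1a261b008d7a991a42a931e4b], [nat_lit 173056, nat_lit 167168, nat_lit 160128, nat_lit 155712, nat_lit 151968, nat_lit 148528, nat_lit 144968, nat_lit 140152, nat_lit 136224, nat_lit 131956, nat_lit 1860, nat_lit 5080, nat_lit 9752, nat_lit 13728, nat_lit 18016, nat_lit 20544, nat_lit 24704, nat_lit 29696, nat_lit 33280, nat_lit 41920, nat_lit 37235, nat_lit 29799, nat_lit 25129, nat_lit 20619, nat_lit 16460, nat_lit 12324, nat_lit 8209, nat_lit 4101, nat_lit 4]⟩⟩⟩]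
theorem s438 : Suf yT 2048 (ldrop vS 43) (apW dcM p437) (tgtN dcM p437.e) := Suf.seg (l := l438) (by decide +kernel) s439
def l437 : List AP := [⟨[nat_lit 178], [], (nat_lit 418), ⟨[nat_lit 44, nat_lit 49], [nat_lit 0, nat_lit 9, nat_lit 49], ⟨[nat_lit 0x199d0396a84de7253ecc12e81011b1], [nat_lit 168448, nat_lit 164352, nat_lit 163328, nat_lit 156352, nat_lit 152320, nat_lit 148512, nat_lit 145088, nat_lit 139332, nat_lit 135492, nat_lit 131587, nat_lit 1004, nat_lit 4608, nat_lit 9208, nat_lit 12736, nat_lit 18144, nat_lit 20544, nat_lit 24832, nat_lit 28928, nat_lit 41530, nat_lit 37271, nat_lit 32838, nat_lit 28768, nat_lit 24736, nat_lit 20608, nat_lit 16901, nat_lit 13319, nat_lit 8201, nat_lit 4113, nat_lit 2]⟩⟩⟩,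
  ⟨[nat_lit 215, nat_lit 176], [], (nat_lit 396), ⟨[nat_lit 15, nat_lit 70], [nat_lit 5, nat_lit 70], ⟨[nat_lit 0x6b0a0a452ebbd133ad42b1aa30c244], [nat_lit 171008, nat_lit 159872, nat_lit 156864, nat_lit 148048, nat_lit 143368, nat_lit 139444, nat_lit 137188, nat_lit 132566, nat_lit 16, nat_lit 10224, nat_lit 22208, nat_lit 25088, nat_lit 30208, nat_lit 33280, nat_lit 41472, nat_lit 37110, nat_lit 32820, nat_lit 29253, nat_lit 24580, nat_lit 20610, nat_lit 16425, nat_lit 12306, nat_lit 8256, nat_lit 4104, nat_lit 32]⟩⟩⟩]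
theorem s437 : Suf yT 2048 (ldrop vS 28) (apW dcM p436) (tgtN dcM p436.e) := Suf.seg (l := l437) (by decide +kernel) s438
def l436 : List AP := [⟨[nat_lit 181, nat_lit 181], [], (nat_lit 396), ⟨[nat_lit 0, nat_lit 7, nat_lit 64], [nat_lit 74, nat_lit 47], ⟨[nat_lit 0x7194b03c442d59445c71959213c26d], [nat_lit 175104, nat_lit 171520, nat_lit 166144, nat_lit 160384, nat_lit 157824, nat_lit 154912, nat_lit 148464, nat_lit 147120, nat_lit 140332, nat_lit 136866, nat_lit 132018, nat_lit 1668, nat_lit 5024, nat_lit 9760, nat_lit 12816, nat_lit 18112, nat_lit 21632, nat_lit 24960, nat_lit 30208, nat_lit 33792, nat_lit 37888, nat_lit 41781, nat_lit 37276, nat_lit 32824, nat_lit 28798, nat_lit 24616, nat_lit 20570, nat_lit 16394, nat_lit 12305, nat_lit 8322, nat_lit 4097]⟩⟩⟩,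
  ⟨[nat_lit 50], [], (nat_lit 1046), ⟨[nat_lit 0, nat_lit 74, nat_lit 69], [nat_lit 0, nat_lit 24, nat_lit 91], ⟨[nat_lit 0x7194b03c442d59445c71959213c26d], [nat_lit 175104, nat_lit 171008, nat_lit 165888, nat_lit 160256, nat_lit 157824, nat_lit 154912, nat_lit 148464, nat_lit 147128, nat_lit 140332, nat_lit 136866, nat_lit 132018, nat_lit 1668, nat_lit 5024, nat_lit 9760, nat_lit 12816, nat_lit 18112, nat_lit 21632, nat_lit 24960, nat_lit 30208, nat_lit 33792, nat_lit 37888, nat_lit 41781, nat_lit 37276, nat_lit 32824, nat_lit 28798, nat_lit 24616, nat_lit 20570, nat_lit 16394, nat_lit 12305, nat_lit 8322, nat_lit 4097]⟩⟩⟩]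
theorem s436 : Suf yT 2048 (ldrop vS 22) (apW dcM p435) (tgtN dcM p435.e) := Suf.seg (l := l436) (by decide +kernel) s437
def l435 : List AP := [⟨[nat_lit 179, nat_lit 216], [], (nat_lit 396), ⟨[nat_lit 0, nat_lit 25, nat_lit 63], [nat_lit 20, nat_lit 47], ⟨[nat_lit 0x688738b0a451e814492fbacc0856ce], [nat_lit 167168, nat_lit 159872, nat_lit 157440, nat_lit 154592, nat_lit 149600, nat_lit 146488, nat_lit 142652, nat_lit 137350, nat_lit 132203, nat_lit 1292, nat_lit 5768, nat_lit 9504, nat_lit 12384, nat_lit 17088, nat_lit 20928, nat_lit 26240, nat_lit 29184, nat_lit 33280, nat_lit 37888, nat_lit 41796, nat_lit 36950, nat_lit 32990, nat_lit 28758, nat_lit 24720, nat_lit 20509, nat_lit 16395, nat_lit 12309, nat_lit 8203, nat_lit 4097, nat_lit 2]⟩⟩⟩,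
  ⟨[nat_lit 57, nat_lit 56, nat_lit 71, nat_lit 68], [], (nat_lit 120), ⟨[nat_lit 0, nat_lit 84, nat_lit 49], [nat_lit 80, nat_lit 65], ⟨[nat_lit 0x92765030592b72b90fb446d9c8ca], [nat_lit 169472, nat_lit 164096, nat_lit 159872, nat_lit 156352, nat_lit 155424, nat_lit 149248, nat_lit 143624, nat_lit 141120, nat_lit 136232, nat_lit 132105, nat_lit 1842, nat_lit 4828, nat_lit 9592, nat_lit 17088, nat_lit 21504, nat_lit 25600, nat_lit 29440, nat_lit 33280, nat_lit 41504, nat_lit 38054, nat_lit 32840, nat_lit 29230, nat_lit 24608, nat_lit 20501, nat_lit 16422, nat_lit 12421, nat_lit 8201, nat_lit 4113]⟩⟩⟩]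
theorem s435 : Suf yT 2048 (ldrop vS 7) (apW dcM p434) (tgtN dcM p434.e) := Suf.seg (l := l435) (by decide +kernel) s436
def l434 : List AP := [⟨[nat_lit 628, nat_lit 624, nat_lit 626, nat_lit 8, nat_lit 3, nat_lit 8], [], (nat_lit 40), ⟨[nat_lit 71, nat_lit 51], [nat_lit 0, nat_lit 85, nat_lit 59], ⟨[nat_lit 0x64aa76812f22c6540611bd04a33ad3], [nat_lit 168448, nat_lit 161024, nat_lit 157632, nat_lit 152352, nat_lit 148064, nat_lit 143576, nat_lit 139388, nat_lit 136456, nat_lit 134997, nat_lit 1530, nat_lit 4340, nat_lit 9136, nat_lit 12976, nat_lit 17472, nat_lit 20800, nat_lit 24704, nat_lit 29184, nat_lit 41967, nat_lit 38354, nat_lit 34016, nat_lit 28731, nat_lit 25656, nat_lit 20609, nat_lit 16390, nat_lit 12295, nat_lit 8200, nat_lit 4101, nat_lit 4]⟩⟩⟩,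
  ⟨[nat_lit 31, nat_lit 31, nat_lit 30, nat_lit 31, nat_lit 635, nat_lit 21], [], (nat_lit 338), ⟨[nat_lit 44, nat_lit 56], [nat_lit 17, nat_lit 58], ⟨[nat_lit 0x638883a695919701a8a0b0a6f885b7], [nat_lit 174080, nat_lit 169472, nat_lit 166400, nat_lit 163072, nat_lit 157824, nat_lit 152640, nat_lit 145088, nat_lit 143308, nat_lit 137224, nat_lit 131298, nat_lit 434, nat_lit 4700, nat_lit 9664, nat_lit 13712, nat_lit 16608, nat_lit 22144, nat_lit 25088, nat_lit 29440, nat_lit 33280, nat_lit 41678, nat_lit 38244, nat_lit 32853, nat_lit 29197, nat_lit 24878, nat_lit 20561, nat_lit 16386, nat_lit 12290, nat_lit 4105]⟩⟩⟩]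
theorem rS24 : Suf yT 2048 vS [yT.get 46] 0 := Suf.seg (l := l434) (by decide +kernel) s435

def p448 : AP := ⟨[], [], (nat_lit 254), ⟨[nat_lit 0, nat_lit 5, nat_lit 52], [nat_lit 0, nat_lit 26, nat_lit 65], ⟨[nat_lit 0x55a660310b1b632204efa09d72c2a9], [nat_lit 173056, nat_lit 168448, nat_lit 165888, nat_lit 160768, nat_lit 155840, nat_lit 155328, nat_lit 150512, nat_lit 146984, nat_lit 141980, nat_lit 137738, nat_lit 131123, nat_lit 804, nat_lit 5508, nat_lit 9752, nat_lit 13360, nat_lit 18368, nat_lit 22016, nat_lit 24704, nat_lit 29440, nat_lit 33280, nat_lit 41382, nat_lit 37002, nat_lit 33972, nat_lit 29276, nat_lit 24588, nat_lit 21516, nat_lit 16395, nat_lit 12290, nat_lit 8258, nat_lit 4101, nat_lit 2]⟩⟩⟩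
def p449 : AP := ⟨[nat_lit 113, nat_lit 137, nat_lit 131], [], (nat_lit 254), ⟨[nat_lit 0, nat_lit 20, nat_lit 54], [nat_lit 0, nat_lit 88, nat_lit 66], ⟨[nat_lit 0x58aac8910a996d77c1c70c8c06d069], [nat_lit 168448, nat_lit 160896, nat_lit 155840, nat_lit 153056, nat_lit 150416, nat_lit 143816, nat_lit 140132, nat_lit 136390, nat_lit 133101, nat_lit 1066, nat_lit 5580, nat_lit 8640, nat_lit 12304, nat_lit 16416, nat_lit 21696, nat_lit 25472, nat_lit 30208, nat_lit 33280, nat_lit 37888, nat_lit 41328, nat_lit 36976, nat_lit 32933, nat_lit 29013, nat_lit 24745, nat_lit 20482, nat_lit 16391, nat_lit 12291, nat_lit 8211, nat_lit 4105, nat_lit 8]⟩⟩⟩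
def p450 : AP := ⟨[nat_lit 16, nat_lit 43, nat_lit 16, nat_lit 41], [], (nat_lit 70), ⟨[nat_lit 0, nat_lit 88, nat_lit 48], [nat_lit 77, nat_lit 90], ⟨[nat_lit 0x546c694da3038e50d597489e85c284], [nat_lit 173056, nat_lit 171520, nat_lit 159872, nat_lit 157760, nat_lit 151904, nat_lit 149344, nat_lit 146344, nat_lit 143004, nat_lit 138366, nat_lit 134214, nat_lit 606, nat_lit 5112, nat_lit 8256, nat_lit 12320, nat_lit 16640, nat_lit 21504, nat_lit 25344, nat_lit 29440, nat_lit 33792, nat_lit 37888, nat_lit 41557, nat_lit 36986, nat_lit 32962, nat_lit 28955, nat_lit 24736, nat_lit 20552, nat_lit 16385, nat_lit 12354, nat_lit 9216, nat_lit 4104]⟩⟩⟩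
def p451 : AP := ⟨[nat_lit 649, nat_lit 137, nat_lit 113], [], (nat_lit 246), ⟨[nat_lit 0, nat_lit 75, nat_lit 60], [nat_lit 28, nat_lit 93], ⟨[nat_lit 0x70088106b0b452b34cf7a35f22a983], [nat_lit 173056, nat_lit 168448, nat_lit 165120, nat_lit 160128, nat_lit 157568, nat_lit 152320, nat_lit 149232, nat_lit 143912, nat_lit 139528, nat_lit 138356, nat_lit 132716, nat_lit 1818, nat_lit 4404, nat_lit 8504, nat_lit 12416, nat_lit 17088, nat_lit 22208, nat_lit 24704, nat_lit 28928, nat_lit 41677, nat_lit 38330, nat_lit 32917, nat_lit 28710, nat_lit 24590, nat_lit 20616, nat_lit 16651, nat_lit 12294, nat_lit 8195, nat_lit 4101, nat_lit 4]⟩⟩⟩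
def p452 : AP := ⟨[nat_lit 31, nat_lit 23, nat_lit 22, nat_lit 21], [], (nat_lit 88), ⟨[nat_lit 11, nat_lit 70], [nat_lit 45, nat_lit 49], ⟨[nat_lit 0xc1142b98f334e48aae29a47592ec0], [nat_lit 175104, nat_lit 171520, nat_lit 166400, nat_lit 162432, nat_lit 156992, nat_lit 153824, nat_lit 149584, nat_lit 143688, nat_lit 141720, nat_lit 136480, nat_lit 132751, nat_lit 1972, nat_lit 5844, nat_lit 9480, nat_lit 12976, nat_lit 16960, nat_lit 26368, nat_lit 30464, nat_lit 33792, nat_lit 41566, nat_lit 37142, nat_lit 33008, nat_lit 28788, nat_lit 24736, nat_lit 20492, nat_lit 16459, nat_lit 12292, nat_lit 8202, nat_lit 4101]⟩⟩⟩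
def p453 : AP := ⟨[nat_lit 136, nat_lit 113, nat_lit 130], [], (nat_lit 254), ⟨[nat_lit 17, nat_lit 89], [nat_lit 0, nat_lit 74, nat_lit 68], ⟨[nat_lit 0x5d2e601c2a1562fb0e4c82265711a9], [nat_lit 175104, nat_lit 168448, nat_lit 164864, nat_lit 163456, nat_lit 156800, nat_lit 153280, nat_lit 150480, nat_lit 146704, nat_lit 141680, nat_lit 137914, nat_lit 134508, nat_lit 344, nat_lit 5488, nat_lit 8352, nat_lit 13344, nat_lit 16512, nat_lit 20928, nat_lit 24832, nat_lit 29440, nat_lit 37888, nat_lit 41623, nat_lit 37285, nat_lit 32857, nat_lit 29301, nat_lit 24732, nat_lit 21010, nat_lit 16391, nat_lit 12359, nat_lit 8195]⟩⟩⟩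
def l454 : List AP := [⟨[], [], (nat_lit 217), ⟨[nat_lit 9, nat_lit 64], [nat_lit 0, nat_lit 16, nat_lit 90], ⟨[nat_lit 0xa255202c8c1d85035e2579d01aba6d], [nat_lit 171520, nat_lit 165888, nat_lit 163584, nat_lit 158592, nat_lit 151584, nat_lit 149888, nat_lit 146488, nat_lit 140388, nat_lit 137912, nat_lit 132596, nat_lit 566, nat_lit 5024, nat_lit 10184, nat_lit 12464, nat_lit 18144, nat_lit 21376, nat_lit 24704, nat_lit 28928, nat_lit 37888, nat_lit 41651, nat_lit 37897, nat_lit 32970, nat_lit 28928, nat_lit 24636, nat_lit 20566, nat_lit 16452, nat_lit 12311, nat_lit 8194, nat_lit 4097]⟩⟩⟩,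
  ⟨[], [], (nat_lit 1034), ⟨[nat_lit 87, nat_lit 69], [nat_lit 0, nat_lit 81, nat_lit 90], ⟨[nat_lit 0x10dd761aa43a8108b6547d92b2a261], [nat_lit 174080, nat_lit 164608, nat_lit 160384, nat_lit 155712, nat_lit 153568, nat_lit 148976, nat_lit 143584, nat_lit 140236, nat_lit 136042, nat_lit 131508, nat_lit 588, nat_lit 5120, nat_lit 8384, nat_lit 14160, nat_lit 16512, nat_lit 21824, nat_lit 25984, nat_lit 28928, nat_lit 33792, nat_lit 37888, nat_lit 41077, nat_lit 37247, nat_lit 32992, nat_lit 29030, nat_lit 24880, nat_lit 20489, nat_lit 16458, nat_lit 12306, nat_lit 8322, nat_lit 4097, nat_lit 2]⟩⟩⟩]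
theorem s454 : Suf yT 4096 (ldrop wU 61) (apW dcM p453) (tgtN dcM p453.e) := Suf.fin' (l := l454) (by decide +kernel)
def l453 : List AP := [⟨[nat_lit 22, nat_lit 635, nat_lit 29, nat_lit 636, nat_lit 24], [], (nat_lit 216), ⟨[nat_lit 78, nat_lit 54], [nat_lit 0, nat_lit 1, nat_lit 69], ⟨[nat_lit 0x999cc4a8911a1b40bd77040a291eb6], [nat_lit 174080, nat_lit 171008, nat_lit 166144, nat_lit 159872, nat_lit 155776, nat_lit 152576, nat_lit 150560, nat_lit 144648, nat_lit 141120, nat_lit 138754, nat_lit 133932, nat_lit 696, nat_lit 5208, nat_lit 9096, nat_lit 13184, nat_lit 16864, nat_lit 21824, nat_lit 26368, nat_lit 33792, nat_lit 37888, nat_lit 41811, nat_lit 38384, nat_lit 33797, nat_lit 28691, nat_lit 24837, nat_lit 20509, nat_lit 16399, nat_lit 12308, nat_lit 4105, nat_lit 8]⟩⟩⟩,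
  ⟨[nat_lit 116, nat_lit 649], [], (nat_lit 254), ⟨[nat_lit 0, nat_lit 39, nat_lit 90], [nat_lit 0, nat_lit 83, nat_lit 90], ⟨[nat_lit 0x24ecb945811352a051f730dc53c2a8], [nat_lit 173056, nat_lit 171008, nat_lit 165632, nat_lit 161152, nat_lit 156224, nat_lit 152000, nat_lit 148288, nat_lit 145352, nat_lit 139712, nat_lit 136716, nat_lit 131736, nat_lit 2018, nat_lit 4824, nat_lit 9016, nat_lit 12944, nat_lit 18048, nat_lit 21952, nat_lit 25088, nat_lit 29184, nat_lit 33280, nat_lit 41496, nat_lit 36942, nat_lit 32823, nat_lit 28700, nat_lit 24586, nat_lit 20757, nat_lit 16524, nat_lit 12359, nat_lit 8201, nat_lit 4129, nat_lit 2]⟩⟩⟩]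
theorem s453 : Suf yT 4096 (ldrop wU 49) (apW dcM p452) (tgtN dcM p452.e) := Suf.seg (l := l453) (by decide +kernel) s454
def l452 : List AP := [⟨[nat_lit 32, nat_lit 634, nat_lit 23, nat_lit 23], [], (nat_lit 88), ⟨[nat_lit 0, nat_lit 78, nat_lit 66], [nat_lit 0, nat_lit 23, nat_lit 67], ⟨[nat_lit 0x4516c6d88575c02324313c143ac9f3], [nat_lit 173056, nat_lit 171520, nat_lit 164352, nat_lit 163200, nat_lit 155904, nat_lit 153792, nat_lit 150192, nat_lit 145480, nat_lit 141100, nat_lit 136638, nat_lit 134432, nat_lit 1318, nat_lit 4340, nat_lit 9152, nat_lit 14176, nat_lit 18048, nat_lit 22144, nat_lit 24832, nat_lit 33280, nat_lit 37888, nat_lit 41803, nat_lit 37019, nat_lit 33856, nat_lit 28798, nat_lit 24757, nat_lit 20481, nat_lit 16525, nat_lit 12294, nat_lit 8201, nat_lit 4097, nat_lit 2]⟩⟩⟩,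
  ⟨[nat_lit 31, nat_lit 28, nat_lit 638, nat_lit 638], [], (nat_lit 88), ⟨[nat_lit 0, nat_lit 76, nat_lit 64], [nat_lit 31, nat_lit 63], ⟨[nat_lit 0x6c2d3ab86290527312eca29e85c4a0], [nat_lit 174080, nat_lit 169984, nat_lit 165888, nat_lit 162176, nat_lit 155776, nat_lit 155072, nat_lit 151168, nat_lit 143800, nat_lit 141816, nat_lit 136934, nat_lit 132539, nat_lit 1972, nat_lit 4952, nat_lit 9648, nat_lit 14304, nat_lit 17568, nat_lit 21632, nat_lit 26240, nat_lit 29184, nat_lit 33280, nat_lit 37888, nat_lit 41259, nat_lit 37356, nat_lit 32882, nat_lit 28684, nat_lit 24866, nat_lit 20487, nat_lit 16452, nat_lit 12418, nat_lit 4104]⟩⟩⟩]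
theorem s452 : Suf yT 4096 (ldrop wU 37) (apW dcM p451) (tgtN dcM p451.e) := Suf.seg (l := l452) (by decide +kernel) s453
def l451 : List AP := [⟨[nat_lit 638, nat_lit 634, nat_lit 22, nat_lit 27, nat_lit 23], [], (nat_lit 216), ⟨[nat_lit 45, nat_lit 58], [nat_lit 61], ⟨[nat_lit 0x64a019a8d41a5ebbb8568a0f52808d], [nat_lit 175104, nat_lit 170496, nat_lit 166656, nat_lit 160896, nat_lit 156864, nat_lit 152704, nat_lit 151376, nat_lit 144848, nat_lit 140588, nat_lit 138688, nat_lit 134025, nat_lit 508, nat_lit 5884, nat_lit 8680, nat_lit 12832, nat_lit 16864, nat_lit 21824, nat_lit 24960, nat_lit 30464, nat_lit 33280, nat_lit 37888, nat_lit 41651, nat_lit 38144, nat_lit 33421, nat_lit 29207, nat_lit 24595, nat_lit 20609, nat_lit 12549, nat_lit 8194, nat_lit 4097, nat_lit 2]⟩⟩⟩,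
  ⟨[], [], (nat_lit 255), ⟨[nat_lit 30, nat_lit 63], [nat_lit 40, nat_lit 64], ⟨[nat_lit 0x519e56decb152071923594d0e60029], [nat_lit 174080, nat_lit 168448, nat_lit 165120, nat_lit 161024, nat_lit 158976, nat_lit 154880, nat_lit 150880, nat_lit 144656, nat_lit 141680, nat_lit 135318, nat_lit 134531, nat_lit 434, nat_lit 6068, nat_lit 9328, nat_lit 13552, nat_lit 16800, nat_lit 21568, nat_lit 25344, nat_lit 28928, nat_lit 34304, nat_lit 41742, nat_lit 37196, nat_lit 33326, nat_lit 28755, nat_lit 24637, nat_lit 20558, nat_lit 16391, nat_lit 12289, nat_lit 4112]⟩⟩⟩]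
theorem s451 : Suf yT 4096 (ldrop wU 31) (apW dcM p450) (tgtN dcM p450.e) := Suf.seg (l := l451) (by decide +kernel) s452
def l450 : List AP := [⟨[], [], (nat_lit 217), ⟨[nat_lit 71, nat_lit 89], [nat_lit 0, nat_lit 78, nat_lit 54], ⟨[nat_lit 0xa0ec5138ec404ca83eab246409a6ed], [nat_lit 175104, nat_lit 171008, nat_lit 167424, nat_lit 163584, nat_lit 156736, nat_lit 154112, nat_lit 151264, nat_lit 145280, nat_lit 141624, nat_lit 137092, nat_lit 131834, nat_lit 1624, nat_lit 6120, nat_lit 9328, nat_lit 13376, nat_lit 16832, nat_lit 20992, nat_lit 25344, nat_lit 33280, nat_lit 37888, nat_lit 41668, nat_lit 38367, nat_lit 33325, nat_lit 28740, nat_lit 24610, nat_lit 20550, nat_lit 16397, nat_lit 12291, nat_lit 8211, nat_lit 4101]⟩⟩⟩,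
  ⟨[nat_lit 634, nat_lit 29, nat_lit 27], [], (nat_lit 1036), ⟨[nat_lit 0, nat_lit 36, nat_lit 68], [nat_lit 30, nat_lit 57], ⟨[nat_lit 0x3bda54cd51730c442e500d2c01dea2], [nat_lit 170496, nat_lit 165376, nat_lit 161280, nat_lit 158784, nat_lit 152864, nat_lit 147776, nat_lit 147272, nat_lit 143024, nat_lit 139084, nat_lit 135095, nat_lit 586, nat_lit 4756, nat_lit 9384, nat_lit 13424, nat_lit 17632, nat_lit 21632, nat_lit 25600, nat_lit 29184, nat_lit 33280, nat_lit 37888, nat_lit 40989, nat_lit 37140, nat_lit 33513, nat_lit 28770, nat_lit 24735, nat_lit 20509, nat_lit 16423, nat_lit 12311, nat_lit 8194, nat_lit 4100]⟩⟩⟩]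
theorem s450 : Suf yT 4096 (ldrop wU 19) (apW dcM p449) (tgtN dcM p449.e) := Suf.seg (l := l450) (by decide +kernel) s451
def l449 : List AP := [⟨[nat_lit 135, nat_lit 652, nat_lit 112], [], (nat_lit 246), ⟨[nat_lit 77, nat_lit 66], [nat_lit 82, nat_lit 54], ⟨[nat_lit 0x806ebb4c6a71d2869a32a32a41140f], [nat_lit 171520, nat_lit 164096, nat_lit 160768, nat_lit 159232, nat_lit 151840, nat_lit 149008, nat_lit 145688, nat_lit 142140, nat_lit 138856, nat_lit 133491, nat_lit 1318, nat_lit 4684, nat_lit 8320, nat_lit 14304, nat_lit 16512, nat_lit 21376, nat_lit 25216, nat_lit 28928, nat_lit 37888, nat_lit 41595, nat_lit 36961, nat_lit 32905, nat_lit 28997, nat_lit 24752, nat_lit 20547, nat_lit 16393, nat_lit 12293, nat_lit 8200]⟩⟩⟩,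
  ⟨[nat_lit 22, nat_lit 22, nat_lit 32, nat_lit 24, nat_lit 30], [], (nat_lit 216), ⟨[nat_lit 45, nat_lit 56], [nat_lit 0, nat_lit 72, nat_lit 61], ⟨[nat_lit 0x292d44bdca42dac04643354f714e01], [nat_lit 175104, nat_lit 171520, nat_lit 166144, nat_lit 160896, nat_lit 157696, nat_lit 155072, nat_lit 148704, nat_lit 146632, nat_lit 139532, nat_lit 135550, nat_lit 131276, nat_lit 588, nat_lit 4160, nat_lit 8256, nat_lit 14112, nat_lit 16704, nat_lit 20544, nat_lit 24704, nat_lit 30464, nat_lit 34304, nat_lit 37888, nat_lit 41287, nat_lit 37308, nat_lit 32800, nat_lit 28699, nat_lit 25648, nat_lit 20488, nat_lit 16385, nat_lit 12292, nat_lit 8203, nat_lit 4101, nat_lit 4]⟩⟩⟩]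
theorem s449 : Suf yT 4096 (ldrop wU 7) (apW dcM p448) (tgtN dcM p448.e) := Suf.seg (l := l449) (by decide +kernel) s450
def l448 : List AP := [⟨[nat_lit 8, nat_lit 8, nat_lit 9, nat_lit 6, nat_lit 625, nat_lit 2], [], (nat_lit 40), ⟨[nat_lit 0, nat_lit 33, nat_lit 67], [nat_lit 16, nat_lit 67], ⟨[nat_lit 0x25d253b871a2001309f35c256531b5], [nat_lit 174080, nat_lit 171008, nat_lit 166912, nat_lit 163456, nat_lit 155968, nat_lit 154432, nat_lit 150000, nat_lit 145008, nat_lit 142244, nat_lit 135224, nat_lit 131619, nat_lit 342, nat_lit 5900, nat_lit 8576, nat_lit 13520, nat_lit 17088, nat_lit 21568, nat_lit 25984, nat_lit 34304, nat_lit 37888, nat_lit 41844, nat_lit 37036, nat_lit 33929, nat_lit 28724, nat_lit 24841, nat_lit 20500, nat_lit 16391, nat_lit 12548, nat_lit 8194, nat_lit 4097]⟩⟩⟩,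
  ⟨[nat_lit 636, nat_lit 22, nat_lit 638, nat_lit 26], [], (nat_lit 247), ⟨[nat_lit 87, nat_lit 46], [nat_lit 19, nat_lit 56], ⟨[nat_lit 0x458d30314b134e58062ea8df791289], [nat_lit 173056, nat_lit 168448, nat_lit 166144, nat_lit 160384, nat_lit 156096, nat_lit 155264, nat_lit 150032, nat_lit 146128, nat_lit 142944, nat_lit 138394, nat_lit 132770, nat_lit 434, nat_lit 4380, nat_lit 9192, nat_lit 13520, nat_lit 25984, nat_lit 29440, nat_lit 33280, nat_lit 37888, nat_lit 41850, nat_lit 37251, nat_lit 32942, nat_lit 28698, nat_lit 24604, nat_lit 20503, nat_lit 16430, nat_lit 12307, nat_lit 8225, nat_lit 16]⟩⟩⟩]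
theorem rU0 : Suf yT 4096 wU [yT.get 34] 0 := Suf.seg (l := l448) (by decide +kernel) s449

def p455 : AP := ⟨[], [], (nat_lit 255), ⟨[nat_lit 32, nat_lit 90], [nat_lit 31, nat_lit 46], ⟨[nat_lit 0x51687182a9736e809191140cf9da4b], [nat_lit 173056, nat_lit 168448, nat_lit 165120, nat_lit 160512, nat_lit 156224, nat_lit 153024, nat_lit 148272, nat_lit 145000, nat_lit 139792, nat_lit 135738, nat_lit 133312, nat_lit 986, nat_lit 5080, nat_lit 9000, nat_lit 12976, nat_lit 17856, nat_lit 21440, nat_lit 25344, nat_lit 29440, nat_lit 37888, nat_lit 41795, nat_lit 38345, nat_lit 33856, nat_lit 29193, nat_lit 25654, nat_lit 20555, nat_lit 16395, nat_lit 12294, nat_lit 8202, nat_lit 4097]⟩⟩⟩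
def p456 : AP := ⟨[nat_lit 649, nat_lit 137, nat_lit 113], [], (nat_lit 254), ⟨[nat_lit 0, nat_lit 28, nat_lit 66], [nat_lit 0, nat_lit 77, nat_lit 56], ⟨[nat_lit 0x55d12238499d003ab5f1858e62858b], [nat_lit 174080, nat_lit 171520, nat_lit 166656, nat_lit 162432, nat_lit 157056, nat_lit 154720, nat_lit 149792, nat_lit 144392, nat_lit 142668, nat_lit 137206, nat_lit 131389, nat_lit 1860, nat_lit 5768, nat_lit 8504, nat_lit 13824, nat_lit 18016, nat_lit 21248, nat_lit 25856, nat_lit 33280, nat_lit 37888, nat_lit 41801, nat_lit 38297, nat_lit 33989, nat_lit 28735, nat_lit 25098, nat_lit 20627, nat_lit 16454, nat_lit 12292, nat_lit 8194, nat_lit 128]⟩⟩⟩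
def p457 : AP := ⟨[nat_lit 41, nat_lit 16, nat_lit 41, nat_lit 16, nat_lit 14, nat_lit 14], [], (nat_lit 70), ⟨[nat_lit 34, nat_lit 46], [nat_lit 0, nat_lit 42, nat_lit 59], ⟨[nat_lit 0x45e25ad06c784c7740124b44b55a64], [nat_lit 173056, nat_lit 164096, nat_lit 160128, nat_lit 156352, nat_lit 154144, nat_lit 147856, nat_lit 144848, nat_lit 139892, nat_lit 135196, nat_lit 131792, nat_lit 606, nat_lit 4340, nat_lit 9560, nat_lit 12752, nat_lit 17984, nat_lit 20608, nat_lit 26240, nat_lit 29696, nat_lit 33280, nat_lit 41967, nat_lit 38103, nat_lit 33432, nat_lit 28940, nat_lit 24634, nat_lit 16390, nat_lit 12359, nat_lit 8202, nat_lit 4100, nat_lit 2]⟩⟩⟩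
def p458 : AP := ⟨[nat_lit 652, nat_lit 109, nat_lit 111], [], (nat_lit 246), ⟨[nat_lit 0, nat_lit 37, nat_lit 94], [nat_lit 0, nat_lit 29, nat_lit 48], ⟨[nat_lit 0x84d4b610af9450905454719a708ed7], [nat_lit 173056, nat_lit 169472, nat_lit 161408, nat_lit 155776, nat_lit 152896, nat_lit 149968, nat_lit 144312, nat_lit 141128, nat_lit 135638, nat_lit 132098, nat_lit 1124, nat_lit 5852, nat_lit 9936, nat_lit 12304, nat_lit 16576, nat_lit 21632, nat_lit 25472, nat_lit 29952, nat_lit 33792, nat_lit 37888, nat_lit 41808, nat_lit 37072, nat_lit 33952, nat_lit 28681, nat_lit 24616, nat_lit 20558, nat_lit 16647, nat_lit 12294, nat_lit 8202, nat_lit 4105]⟩⟩⟩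
def p459 : AP := ⟨[nat_lit 31, nat_lit 23, nat_lit 22, nat_lit 21], [], (nat_lit 88), ⟨[nat_lit 0, nat_lit 85, nat_lit 61], [nat_lit 0, nat_lit 71, nat_lit 54], ⟨[nat_lit 0x19229ab0203bae532e42b41f3a290d], [nat_lit 173056, nat_lit 169472, nat_lit 167680, nat_lit 161408, nat_lit 157376, nat_lit 154400, nat_lit 150656, nat_lit 145448, nat_lit 143108, nat_lit 138640, nat_lit 131489, nat_lit 210, nat_lit 4156, nat_lit 9560, nat_lit 13776, nat_lit 16992, nat_lit 20736, nat_lit 26240, nat_lit 30208, nat_lit 34304, nat_lit 41922, nat_lit 37348, nat_lit 32910, nat_lit 29012, nat_lit 24597, nat_lit 20488, nat_lit 16450, nat_lit 12322, nat_lit 8208]⟩⟩⟩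
def p460 : AP := ⟨[nat_lit 134, nat_lit 651, nat_lit 130], [], (nat_lit 254), ⟨[nat_lit 35, nat_lit 70], [nat_lit 41, nat_lit 58], ⟨[nat_lit 0x50d8eb8689414048d4ed7da0614a6b], [nat_lit 168960, nat_lit 165632, nat_lit 161408, nat_lit 156800, nat_lit 153536, nat_lit 148592, nat_lit 143840, nat_lit 139856, nat_lit 138598, nat_lit 132196, nat_lit 404, nat_lit 5080, nat_lit 13264, nat_lit 17312, nat_lit 22400, nat_lit 25984, nat_lit 29952, nat_lit 34304, nat_lit 41431, nat_lit 37034, nat_lit 34036, nat_lit 28746, nat_lit 24580, nat_lit 20765, nat_lit 16420, nat_lit 12294, nat_lit 8200, nat_lit 4101, nat_lit 2]⟩⟩⟩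
def l461 : List AP := [⟨[], [], (nat_lit 217), ⟨[nat_lit 0, nat_lit 10, nat_lit 60], [nat_lit 86, nat_lit 70], ⟨[nat_lit 0x65cb55112d3840e15973819f21c514], [nat_lit 173056, nat_lit 169472, nat_lit 165120, nat_lit 161024, nat_lit 157632, nat_lit 152640, nat_lit 150512, nat_lit 144248, nat_lit 139356, nat_lit 136784, nat_lit 131192, nat_lit 1730, nat_lit 5676, nat_lit 9864, nat_lit 12304, nat_lit 26112, nat_lit 29696, nat_lit 33280, nat_lit 40976, nat_lit 37354, nat_lit 33535, nat_lit 29186, nat_lit 24763, nat_lit 20497, nat_lit 8449, nat_lit 4161, nat_lit 32]⟩⟩⟩,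
  ⟨[], [], (nat_lit 1034), ⟨[nat_lit 85, nat_lit 59], [nat_lit 0, nat_lit 5, nat_lit 52], ⟨[nat_lit 0xb35f042a7490ee0124ac39ab10adc4], [nat_lit 175104, nat_lit 171008, nat_lit 165888, nat_lit 161408, nat_lit 155968, nat_lit 151904, nat_lit 150048, nat_lit 144368, nat_lit 139496, nat_lit 138928, nat_lit 135156, nat_lit 1794, nat_lit 5228, nat_lit 10144, nat_lit 13264, nat_lit 16896, nat_lit 20544, nat_lit 25088, nat_lit 29440, nat_lit 34304, nat_lit 41489, nat_lit 38269, nat_lit 32835, nat_lit 28720, nat_lit 24625, nat_lit 20544, nat_lit 16385, nat_lit 12295, nat_lit 8195, nat_lit 4100]⟩⟩⟩]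
theorem s461 : Suf yT 8192 (ldrop wU 61) (apW dcM p460) (tgtN dcM p460.e) := Suf.fin' (l := l461) (by decide +kernel)
def l460 : List AP := [⟨[nat_lit 27, nat_lit 30, nat_lit 637, nat_lit 634], [], (nat_lit 216), ⟨[nat_lit 0, nat_lit 19, nat_lit 58], [nat_lit 19, nat_lit 61], ⟨[nat_lit 0x41e2c8564113e8dba540b18645cdc5], [nat_lit 174080, nat_lit 171520, nat_lit 164096, nat_lit 163584, nat_lit 158848, nat_lit 153728, nat_lit 148176, nat_lit 143832, nat_lit 139544, nat_lit 137912, nat_lit 134755, nat_lit 1634, nat_lit 5228, nat_lit 9384, nat_lit 13200, nat_lit 16512, nat_lit 21312, nat_lit 29440, nat_lit 33792, nat_lit 37888, nat_lit 41857, nat_lit 37249, nat_lit 32870, nat_lit 28697, nat_lit 24583, nat_lit 20757, nat_lit 16385, nat_lit 12295, nat_lit 4104]⟩⟩⟩,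
  ⟨[nat_lit 652, nat_lit 131, nat_lit 137], [], (nat_lit 254), ⟨[nat_lit 20, nat_lit 63], [nat_lit 38, nat_lit 93], ⟨[nat_lit 0x60ecb7cda72c54943aa181002bd246], [nat_lit 173056, nat_lit 170496, nat_lit 164096, nat_lit 160256, nat_lit 158720, nat_lit 152576, nat_lit 148896, nat_lit 145584, nat_lit 142552, nat_lit 138390, nat_lit 134362, nat_lit 1614, nat_lit 4664, nat_lit 8224, nat_lit 12848, nat_lit 17120, nat_lit 21952, nat_lit 24960, nat_lit 30208, nat_lit 33792, nat_lit 41777, nat_lit 38107, nat_lit 33505, nat_lit 28790, nat_lit 24624, nat_lit 20483, nat_lit 16453, nat_lit 12545, nat_lit 8208, nat_lit 4105]⟩⟩⟩]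
theorem s460 : Suf yT 8192 (ldrop wU 49) (apW dcM p459) (tgtN dcM p459.e) := Suf.seg (l := l460) (by decide +kernel) s461
def l459 : List AP := [⟨[nat_lit 636, nat_lit 30, nat_lit 25], [], (nat_lit 89), ⟨[nat_lit 3, nat_lit 92], [nat_lit 0, nat_lit 32, nat_lit 57], ⟨[nat_lit 0x544c30c1276504042dd72d48fb49b3], [nat_lit 164864, nat_lit 160896, nat_lit 157824, nat_lit 153408, nat_lit 148736, nat_lit 144368, nat_lit 140892, nat_lit 136310, nat_lit 131820, nat_lit 526, nat_lit 5024, nat_lit 8976, nat_lit 14176, nat_lit 18048, nat_lit 22272, nat_lit 30208, nat_lit 33280, nat_lit 41565, nat_lit 37046, nat_lit 32891, nat_lit 28752, nat_lit 24593, nat_lit 20488, nat_lit 16457, nat_lit 12311, nat_lit 8203, nat_lit 4097]⟩⟩⟩,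
  ⟨[nat_lit 25, nat_lit 29, nat_lit 635, nat_lit 23], [], (nat_lit 88), ⟨[nat_lit 15, nat_lit 68], [nat_lit 0, nat_lit 10, nat_lit 65], ⟨[nat_lit 0x79cca40da04baf59456c2c054992c1], [nat_lit 169472, nat_lit 164096, nat_lit 161536, nat_lit 156416, nat_lit 153152, nat_lit 149392, nat_lit 147344, nat_lit 139316, nat_lit 135772, nat_lit 132367, nat_lit 698, nat_lit 4104, nat_lit 8416, nat_lit 12304, nat_lit 16416, nat_lit 21888, nat_lit 26496, nat_lit 29696, nat_lit 37888, nat_lit 41592, nat_lit 37271, nat_lit 33497, nat_lit 29259, nat_lit 24759, nat_lit 20481, nat_lit 16392, nat_lit 12293, nat_lit 8201, nat_lit 4097, nat_lit 2]⟩⟩⟩]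
theorem s459 : Suf yT 8192 (ldrop wU 37) (apW dcM p458) (tgtN dcM p458.e) := Suf.seg (l := l459) (by decide +kernel) s460
def l458 : List AP := [⟨[nat_lit 634, nat_lit 22, nat_lit 26, nat_lit 29, nat_lit 28], [], (nat_lit 216), ⟨[nat_lit 0, nat_lit 5, nat_lit 94], [nat_lit 88, nat_lit 62], ⟨[nat_lit 0x611e7299cd8ceb7081681246a95a14], [nat_lit 174080, nat_lit 164608, nat_lit 160896, nat_lit 155712, nat_lit 153248, nat_lit 148640, nat_lit 145008, nat_lit 140084, nat_lit 135738, nat_lit 131503, nat_lit 664, nat_lit 5576, nat_lit 9192, nat_lit 12432, nat_lit 16576, nat_lit 21504, nat_lit 29696, nat_lit 33792, nat_lit 37888, nat_lit 41958, nat_lit 38186, nat_lit 29204, nat_lit 24725, nat_lit 20487, nat_lit 16523, nat_lit 12357, nat_lit 8226, nat_lit 4113, nat_lit 4]⟩⟩⟩,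
  ⟨[], [], (nat_lit 255), ⟨[nat_lit 0, nat_lit 30, nat_lit 54], [nat_lit 0, nat_lit 12, nat_lit 67], ⟨[nat_lit 0x5060865889935c3280f38d057355eb], [nat_lit 173056, nat_lit 171520, nat_lit 164864, nat_lit 162176, nat_lit 157184, nat_lit 153632, nat_lit 151520, nat_lit 145432, nat_lit 139312, nat_lit 136760, nat_lit 133559, nat_lit 354, nat_lit 5296, nat_lit 9760, nat_lit 13152, nat_lit 16576, nat_lit 22272, nat_lit 26240, nat_lit 30208, nat_lit 33792, nat_lit 41771, nat_lit 36955, nat_lit 32998, nat_lit 29001, nat_lit 24891, nat_lit 20612, nat_lit 16449, nat_lit 12291, nat_lit 8210, nat_lit 4097]⟩⟩⟩]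
theorem s458 : Suf yT 8192 (ldrop wU 31) (apW dcM p457) (tgtN dcM p457.e) := Suf.seg (l := l458) (by decide +kernel) s459
def l457 : List AP := [⟨[], [], (nat_lit 217), ⟨[nat_lit 38, nat_lit 70], [nat_lit 0, nat_lit 20, nat_lit 55], ⟨[nat_lit 0x628f17546d42417b4e0279972090b4], [nat_lit 175104, nat_lit 169984, nat_lit 163200, nat_lit 158784, nat_lit 154816, nat_lit 148192, nat_lit 143896, nat_lit 140252, nat_lit 138362, nat_lit 134418, nat_lit 1730, nat_lit 4224, nat_lit 10168, nat_lit 13264, nat_lit 20992, nat_lit 26112, nat_lit 29184, nat_lit 34304, nat_lit 41505, nat_lit 37369, nat_lit 33460, nat_lit 28715, nat_lit 24891, nat_lit 20481, nat_lit 16455, nat_lit 12416, nat_lit 8259, nat_lit 4104]⟩⟩⟩,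
  ⟨[nat_lit 23, nat_lit 24, nat_lit 27], [], (nat_lit 1036), ⟨[nat_lit 0, nat_lit 10, nat_lit 66], [nat_lit 17, nat_lit 69], ⟨[nat_lit 0x35e85609a1b548773c0354a295c268], [nat_lit 164608, nat_lit 156416, nat_lit 151648, nat_lit 147472, nat_lit 144520, nat_lit 141868, nat_lit 135908, nat_lit 131462, nat_lit 846, nat_lit 4824, nat_lit 8256, nat_lit 13904, nat_lit 18240, nat_lit 22144, nat_lit 25728, nat_lit 30208, nat_lit 33280, nat_lit 37888, nat_lit 41668, nat_lit 38059, nat_lit 32988, nat_lit 28740, nat_lit 24590, nat_lit 21003, nat_lit 16646, nat_lit 12308, nat_lit 4105, nat_lit 2]⟩⟩⟩]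
theorem s457 : Suf yT 8192 (ldrop wU 19) (apW dcM p456) (tgtN dcM p456.e) := Suf.seg (l := l457) (by decide +kernel) s458
def l456 : List AP := [⟨[nat_lit 137, nat_lit 137], [], (nat_lit 246), ⟨[nat_lit 12, nat_lit 54], [nat_lit 0, nat_lit 18, nat_lit 55], ⟨[nat_lit 0xcec88c0ce2bd69a32e720c0daa852], [nat_lit 173056, nat_lit 165376, nat_lit 161024, nat_lit 158272, nat_lit 153408, nat_lit 149056, nat_lit 143792, nat_lit 140792, nat_lit 137202, nat_lit 132550, nat_lit 1810, nat_lit 5880, nat_lit 12304, nat_lit 18336, nat_lit 21760, nat_lit 29696, nat_lit 41720, nat_lit 38072, nat_lit 32893, nat_lit 29795, nat_lit 24596, nat_lit 20765, nat_lit 16451, nat_lit 12418, nat_lit 8210, nat_lit 4113, nat_lit 4]⟩⟩⟩,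
  ⟨[nat_lit 637, nat_lit 28, nat_lit 31, nat_lit 26], [], (nat_lit 216), ⟨[nat_lit 93], [nat_lit 78, nat_lit 65], ⟨[nat_lit 0x5a46c895561568d9dd048482f338e0], [nat_lit 173056, nat_lit 169472, nat_lit 164096, nat_lit 163584, nat_lit 155712, nat_lit 151584, nat_lit 149088, nat_lit 145328, nat_lit 140196, nat_lit 136382, nat_lit 131487, nat_lit 128, nat_lit 5276, nat_lit 10032, nat_lit 13152, nat_lit 17728, nat_lit 21760, nat_lit 25728, nat_lit 29696, nat_lit 37888, nat_lit 41088, nat_lit 37023, nat_lit 32848, nat_lit 28750, nat_lit 24727, nat_lit 20482, nat_lit 16449, nat_lit 12304, nat_lit 4097]⟩⟩⟩]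
theorem s456 : Suf yT 8192 (ldrop wU 7) (apW dcM p455) (tgtN dcM p455.e) := Suf.seg (l := l456) (by decide +kernel) s457
def l455 : List AP := [⟨[nat_lit 3, nat_lit 625, nat_lit 5, nat_lit 624, nat_lit 11, nat_lit 628], [], (nat_lit 40), ⟨[nat_lit 79, nat_lit 57], [nat_lit 23, nat_lit 52], ⟨[nat_lit 0x65e511c1440be8011913b34a7aa5cb], [nat_lit 173056, nat_lit 168960, nat_lit 164096, nat_lit 160896, nat_lit 157696, nat_lit 151840, nat_lit 147680, nat_lit 144520, nat_lit 140332, nat_lit 136738, nat_lit 132709, nat_lit 1336, nat_lit 4720, nat_lit 10224, nat_lit 12768, nat_lit 17440, nat_lit 22016, nat_lit 25088, nat_lit 29184, nat_lit 41829, nat_lit 38078, nat_lit 33356, nat_lit 28736, nat_lit 24624, nat_lit 20560, nat_lit 16455, nat_lit 12291, nat_lit 8194, nat_lit 4100, nat_lit 8]⟩⟩⟩,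
  ⟨[nat_lit 22, nat_lit 636, nat_lit 25, nat_lit 635, nat_lit 29], [], (nat_lit 216), ⟨[nat_lit 79, nat_lit 66], [nat_lit 21, nat_lit 46], ⟨[nat_lit 0x6052bb82cdacd47238a21be5041a34], [nat_lit 173056, nat_lit 168960, nat_lit 164608, nat_lit 161152, nat_lit 157312, nat_lit 152736, nat_lit 149344, nat_lit 143480, nat_lit 139524, nat_lit 135682, nat_lit 133867, nat_lit 32, nat_lit 4568, nat_lit 9672, nat_lit 13504, nat_lit 17920, nat_lit 20992, nat_lit 25600, nat_lit 28928, nat_lit 33280, nat_lit 37888, nat_lit 41609, nat_lit 36984, nat_lit 32813, nat_lit 29736, nat_lit 25116, nat_lit 20483, nat_lit 16905, nat_lit 12548, nat_lit 8257, nat_lit 4128]⟩⟩⟩]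
theorem rU1 : Suf yT 8192 wU [yT.get 35] 0 := Suf.seg (l := l455) (by decide +kernel) s456

def p462 : AP := ⟨[], [], (nat_lit 255), ⟨[nat_lit 0, nat_lit 18, nat_lit 91], [nat_lit 18, nat_lit 58], ⟨[nat_lit 0x4c43030cea2dd937a00da124eb544b], [nat_lit 173056, nat_lit 168960, nat_lit 165376, nat_lit 159872, nat_lit 157632, nat_lit 152480, nat_lit 148704, nat_lit 146056, nat_lit 140704, nat_lit 136466, nat_lit 131674, nat_lit 1336, nat_lit 5084, nat_lit 8200, nat_lit 14208, nat_lit 18336, nat_lit 21632, nat_lit 26112, nat_lit 30464, nat_lit 33792, nat_lit 41912, nat_lit 38251, nat_lit 33869, nat_lit 28680, nat_lit 24599, nat_lit 20765, nat_lit 16388, nat_lit 12289, nat_lit 8195, nat_lit 4101, nat_lit 4]⟩⟩⟩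
def p463 : AP := ⟨[nat_lit 137, nat_lit 135, nat_lit 113], [], (nat_lit 254), ⟨[nat_lit 0, nat_lit 11, nat_lit 51], [nat_lit 0, nat_lit 26, nat_lit 89], ⟨[nat_lit 0x48a058900a6b2cfbd5d409a4899c6b], [nat_lit 173056, nat_lit 168448, nat_lit 165632, nat_lit 160512, nat_lit 155776, nat_lit 152544, nat_lit 151424, nat_lit 144760, nat_lit 141268, nat_lit 135638, nat_lit 132829, nat_lit 1860, nat_lit 5072, nat_lit 9096, nat_lit 14016, nat_lit 16640, nat_lit 20608, nat_lit 26496, nat_lit 41232, nat_lit 37149, nat_lit 32944, nat_lit 28960, nat_lit 24607, nat_lit 20736, nat_lit 12291, nat_lit 8256, nat_lit 4101, nat_lit 4]⟩⟩⟩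
def p464 : AP := ⟨[nat_lit 43, nat_lit 36, nat_lit 39, nat_lit 632, nat_lit 15, nat_lit 14], [], (nat_lit 70), ⟨[nat_lit 0, nat_lit 23, nat_lit 69], [nat_lit 0, nat_lit 25, nat_lit 89], ⟨[nat_lit 0xba6275200c70ca47c850a3435b2e66], [nat_lit 173056, nat_lit 168448, nat_lit 166400, nat_lit 159872, nat_lit 157632, nat_lit 151712, nat_lit 147696, nat_lit 144816, nat_lit 140308, nat_lit 135628, nat_lit 131535, nat_lit 1614, nat_lit 6104, nat_lit 10024, nat_lit 13760, nat_lit 17728, nat_lit 20864, nat_lit 25344, nat_lit 29440, nat_lit 34304, nat_lit 41339, nat_lit 37311, nat_lit 33535, nat_lit 29285, nat_lit 24724, nat_lit 21006, nat_lit 16420, nat_lit 12353, nat_lit 8201, nat_lit 4101, nat_lit 2]⟩⟩⟩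
def p465 : AP := ⟨[nat_lit 652, nat_lit 110, nat_lit 110], [], (nat_lit 246), ⟨[nat_lit 72, nat_lit 64], [nat_lit 0, nat_lit 85, nat_lit 61], ⟨[nat_lit 0xaaac9185eda5d0b3c64484cc5609c0], [nat_lit 173056, nat_lit 168448, nat_lit 164352, nat_lit 160896, nat_lit 156672, nat_lit 152960, nat_lit 148528, nat_lit 143704, nat_lit 140276, nat_lit 138298, nat_lit 132749, nat_lit 2, nat_lit 6068, nat_lit 9864, nat_lit 13824, nat_lit 18336, nat_lit 20992, nat_lit 25856, nat_lit 29696, nat_lit 33792, nat_lit 41307, nat_lit 37110, nat_lit 32814, nat_lit 28702, nat_lit 24613, nat_lit 20553, nat_lit 16398, nat_lit 12306, nat_lit 8202]⟩⟩⟩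
def p466 : AP := ⟨[nat_lit 31, nat_lit 23, nat_lit 22, nat_lit 21], [], (nat_lit 88), ⟨[nat_lit 12, nat_lit 92], [nat_lit 11, nat_lit 68], ⟨[nat_lit 0x59545b9a3830b7954cf21c484c661], [nat_lit 174080, nat_lit 170496, nat_lit 167680, nat_lit 162816, nat_lit 156416, nat_lit 154784, nat_lit 150256, nat_lit 143560, nat_lit 141368, nat_lit 135764, nat_lit 131202, nat_lit 588, nat_lit 6068, nat_lit 9648, nat_lit 12912, nat_lit 17248, nat_lit 20992, nat_lit 26496, nat_lit 29184, nat_lit 33280, nat_lit 41907, nat_lit 37285, nat_lit 33020, nat_lit 28972, nat_lit 24716, nat_lit 20484, nat_lit 16456, nat_lit 12354, nat_lit 4097, nat_lit 2]⟩⟩⟩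
def p467 : AP := ⟨[nat_lit 652, nat_lit 137, nat_lit 109], [], (nat_lit 254), ⟨[nat_lit 0, nat_lit 31, nat_lit 53], [nat_lit 0, nat_lit 16, nat_lit 91], ⟨[nat_lit 0x4c06869acb13991ace8101247b95ea], [nat_lit 174080, nat_lit 168960, nat_lit 164096, nat_lit 159872, nat_lit 156800, nat_lit 152480, nat_lit 147648, nat_lit 145320, nat_lit 140448, nat_lit 137198, nat_lit 131200, nat_lit 786, nat_lit 4108, nat_lit 9992, nat_lit 13152, nat_lit 18208, nat_lit 22016, nat_lit 25856, nat_lit 33280, nat_lit 41776, nat_lit 38399, nat_lit 32774, nat_lit 29263, nat_lit 25105, nat_lit 21520, nat_lit 16459, nat_lit 12291, nat_lit 8209, nat_lit 4105]⟩⟩⟩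
def l468 : List AP := [⟨[], [], (nat_lit 217), ⟨[nat_lit 41, nat_lit 60], [nat_lit 0, nat_lit 73, nat_lit 92], ⟨[nat_lit 0x6bee79c8d41d4a2b212403a2b5060c], [nat_lit 173056, nat_lit 168960, nat_lit 164608, nat_lit 160256, nat_lit 156544, nat_lit 153440, nat_lit 149296, nat_lit 144848, nat_lit 139976, nat_lit 135978, nat_lit 133029, nat_lit 1580, nat_lit 4160, nat_lit 8504, nat_lit 13264, nat_lit 17056, nat_lit 20544, nat_lit 33792, nat_lit 37888, nat_lit 41916, nat_lit 38332, nat_lit 33868, nat_lit 29040, nat_lit 24608, nat_lit 20563, nat_lit 16425, nat_lit 12309, nat_lit 8201, nat_lit 4100, nat_lit 8]⟩⟩⟩,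
  ⟨[], [], (nat_lit 1034), ⟨[nat_lit 0, nat_lit 38, nat_lit 89], [nat_lit 0, nat_lit 26, nat_lit 57], ⟨[nat_lit 0xa2c603c9e28a617aa086535d62cc2c], [nat_lit 164352, nat_lit 161664, nat_lit 157632, nat_lit 152256, nat_lit 149120, nat_lit 144712, nat_lit 140632, nat_lit 136834, nat_lit 131942, nat_lit 880, nat_lit 8504, nat_lit 12608, nat_lit 17376, nat_lit 22144, nat_lit 25600, nat_lit 29440, nat_lit 34304, nat_lit 37888, nat_lit 41765, nat_lit 38029, nat_lit 33448, nat_lit 28748, nat_lit 24720, nat_lit 21017, nat_lit 16424, nat_lit 12305, nat_lit 8195, nat_lit 4]⟩⟩⟩]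
theorem s468 : Suf yT 16384 (ldrop wU 61) (apW dcM p467) (tgtN dcM p467.e) := Suf.fin' (l := l468) (by decide +kernel)
def l467 : List AP := [⟨[nat_lit 21, nat_lit 634, nat_lit 31, nat_lit 24, nat_lit 635], [], (nat_lit 216), ⟨[nat_lit 72, nat_lit 56], [nat_lit 0, nat_lit 33, nat_lit 47], ⟨[nat_lit 0x8586d215470c59470a7504aef3212b], [nat_lit 173056, nat_lit 168960, nat_lit 163328, nat_lit 156736, nat_lit 148048, nat_lit 144544, nat_lit 140964, nat_lit 136856, nat_lit 131318, nat_lit 566, nat_lit 5444, nat_lit 10136, nat_lit 13152, nat_lit 17376, nat_lit 20736, nat_lit 25856, nat_lit 29696, nat_lit 33792, nat_lit 41088, nat_lit 37309, nat_lit 32941, nat_lit 28703, nat_lit 24585, nat_lit 20746, nat_lit 16519, nat_lit 12304, nat_lit 8227, nat_lit 32]⟩⟩⟩,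
  ⟨[nat_lit 113, nat_lit 649, nat_lit 114], [], (nat_lit 254), ⟨[nat_lit 0, nat_lit 24, nat_lit 56], [nat_lit 0, nat_lit 26, nat_lit 48], ⟨[nat_lit 0xcd89b96303d54b791b4158c343a40], [nat_lit 161920, nat_lit 156288, nat_lit 153184, nat_lit 149136, nat_lit 145272, nat_lit 139944, nat_lit 135296, nat_lit 131241, nat_lit 128, nat_lit 5572, nat_lit 10032, nat_lit 12544, nat_lit 16928, nat_lit 24704, nat_lit 29696, nat_lit 37888, nat_lit 41369, nat_lit 36992, nat_lit 33849, nat_lit 20738, nat_lit 17409, nat_lit 12304, nat_lit 4128]⟩⟩⟩]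
theorem s467 : Suf yT 16384 (ldrop wU 49) (apW dcM p466) (tgtN dcM p466.e) := Suf.seg (l := l467) (by decide +kernel) s468
def l466 : List AP := [⟨[nat_lit 22, nat_lit 21, nat_lit 31, nat_lit 24], [], (nat_lit 88), ⟨[nat_lit 7, nat_lit 47], [nat_lit 85, nat_lit 66], ⟨[nat_lit 0x5d6601520a611cd9247645e2129de6], [nat_lit 173056, nat_lit 168960, nat_lit 164608, nat_lit 160384, nat_lit 156608, nat_lit 155456, nat_lit 149136, nat_lit 145064, nat_lit 139872, nat_lit 136382, nat_lit 132234, nat_lit 158, nat_lit 5992, nat_lit 9200, nat_lit 14304, nat_lit 17152, nat_lit 21504, nat_lit 25216, nat_lit 29184, nat_lit 33280, nat_lit 41891, nat_lit 38211, nat_lit 33884, nat_lit 29023, nat_lit 24834, nat_lit 20487, nat_lit 16455, nat_lit 12306, nat_lit 8226, nat_lit 4112, nat_lit 4]⟩⟩⟩,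
  ⟨[nat_lit 22, nat_lit 638, nat_lit 23], [], (nat_lit 88), ⟨[nat_lit 0, nat_lit 40, nat_lit 62], [nat_lit 79, nat_lit 70], ⟨[nat_lit 0x14938b82f80eb75a2423a59651a8d], [nat_lit 174080, nat_lit 170496, nat_lit 166400, nat_lit 162560, nat_lit 156544, nat_lit 155168, nat_lit 151360, nat_lit 144104, nat_lit 141700, nat_lit 135766, nat_lit 131359, nat_lit 1624, nat_lit 4456, nat_lit 9136, nat_lit 14048, nat_lit 18240, nat_lit 21504, nat_lit 26112, nat_lit 29952, nat_lit 34304, nat_lit 37888, nat_lit 41402, nat_lit 37006, nat_lit 33008, nat_lit 28770, nat_lit 24750, nat_lit 20491, nat_lit 16645, nat_lit 12324, nat_lit 4105]⟩⟩⟩]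
theorem s466 : Suf yT 16384 (ldrop wU 37) (apW dcM p465) (tgtN dcM p465.e) := Suf.seg (l := l466) (by decide +kernel) s467
def l465 : List AP := [⟨[nat_lit 636, nat_lit 31, nat_lit 27, nat_lit 636, nat_lit 24], [], (nat_lit 247), ⟨[nat_lit 0, nat_lit 76, nat_lit 67], [nat_lit 0, nat_lit 29, nat_lit 89], ⟨[nat_lit 0x49cd1939a80aa032d44ca11e0bda6b], [nat_lit 174080, nat_lit 170496, nat_lit 166144, nat_lit 163200, nat_lit 156800, nat_lit 154336, nat_lit 150544, nat_lit 143416, nat_lit 141856, nat_lit 136802, nat_lit 131554, nat_lit 404, nat_lit 5228, nat_lit 9928, nat_lit 13456, nat_lit 16416, nat_lit 22464, nat_lit 25216, nat_lit 29440, nat_lit 33280, nat_lit 41308, nat_lit 37125, nat_lit 32926, nat_lit 29034, nat_lit 24728, nat_lit 20492, nat_lit 16517, nat_lit 12293, nat_lit 8200, nat_lit 4097, nat_lit 2]⟩⟩⟩,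
  ⟨[], [], (nat_lit 254), ⟨[nat_lit 36, nat_lit 62], [nat_lit 0, nat_lit 34, nat_lit 64], ⟨[nat_lit 0x4c6672bdaa0a0829506cac1c0bd8cb], [nat_lit 175104, nat_lit 171008, nat_lit 166144, nat_lit 161024, nat_lit 158208, nat_lit 154752, nat_lit 147600, nat_lit 145920, nat_lit 140812, nat_lit 136342, nat_lit 132436, nat_lit 354, nat_lit 6104, nat_lit 9928, nat_lit 13152, nat_lit 16832, nat_lit 22208, nat_lit 25856, nat_lit 29184, nat_lit 33280, nat_lit 37888, nat_lit 41800, nat_lit 37111, nat_lit 33806, nat_lit 28756, nat_lit 24633, nat_lit 20509, nat_lit 16387, nat_lit 12295, nat_lit 8200, nat_lit 4101, nat_lit 4]⟩⟩⟩]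
theorem s465 : Suf yT 16384 (ldrop wU 31) (apW dcM p464) (tgtN dcM p464.e) := Suf.seg (l := l465) (by decide +kernel) s466
def l464 : List AP := [⟨[], [], (nat_lit 217), ⟨[nat_lit 0, nat_lit 3, nat_lit 47], [nat_lit 15, nat_lit 89], ⟨[nat_lit 0x68de11380c994d055aa924a2742ef4], [nat_lit 175104, nat_lit 171008, nat_lit 167424, nat_lit 163200, nat_lit 155712, nat_lit 155136, nat_lit 149952, nat_lit 145384, nat_lit 141840, nat_lit 135438, nat_lit 132720, nat_lit 1108, nat_lit 5112, nat_lit 10128, nat_lit 13040, nat_lit 17152, nat_lit 20736, nat_lit 26368, nat_lit 30208, nat_lit 33792, nat_lit 37888, nat_lit 41252, nat_lit 37345, nat_lit 33435, nat_lit 29253, nat_lit 24626, nat_lit 20494, nat_lit 16391, nat_lit 12322, nat_lit 8194, nat_lit 4101, nat_lit 2]⟩⟩⟩,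
  ⟨[nat_lit 31, nat_lit 23, nat_lit 21], [], (nat_lit 1036), ⟨[nat_lit 0, nat_lit 82, nat_lit 64], [nat_lit 0, nat_lit 74, nat_lit 50], ⟨[nat_lit 0x28026ac291188e4b5e727216d7a92c], [nat_lit 168448, nat_lit 164096, nat_lit 160640, nat_lit 157760, nat_lit 152768, nat_lit 149248, nat_lit 144424, nat_lit 141068, nat_lit 136808, nat_lit 132896, nat_lit 1580, nat_lit 5508, nat_lit 8928, nat_lit 14112, nat_lit 17472, nat_lit 21504, nat_lit 25088, nat_lit 30464, nat_lit 37888, nat_lit 41792, nat_lit 36960, nat_lit 33792, nat_lit 28702, nat_lit 20992, nat_lit 16527, nat_lit 8321, nat_lit 4]⟩⟩⟩]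
theorem s464 : Suf yT 16384 (ldrop wU 19) (apW dcM p463) (tgtN dcM p463.e) := Suf.seg (l := l464) (by decide +kernel) s465
def l463 : List AP := [⟨[nat_lit 652, nat_lit 652, nat_lit 110], [], (nat_lit 246), ⟨[nat_lit 8, nat_lit 56], [nat_lit 0, nat_lit 12, nat_lit 55], ⟨[nat_lit 0x20649a460eab56813ec02cc6a3b2e6], [nat_lit 169984, nat_lit 165120, nat_lit 161536, nat_lit 155776, nat_lit 153056, nat_lit 148480, nat_lit 143808, nat_lit 140156, nat_lit 135204, nat_lit 132800, nat_lit 116, nat_lit 5436, nat_lit 9680, nat_lit 13904, nat_lit 16960, nat_lit 21632, nat_lit 25728, nat_lit 33280, nat_lit 37888, nat_lit 41623, nat_lit 37056, nat_lit 32805, nat_lit 29272, nat_lit 24612, nat_lit 20490, nat_lit 16515, nat_lit 12308, nat_lit 8201, nat_lit 4101, nat_lit 2]⟩⟩⟩,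
  ⟨[nat_lit 32, nat_lit 23, nat_lit 24, nat_lit 634, nat_lit 27], [], (nat_lit 216), ⟨[nat_lit 0, nat_lit 32, nat_lit 57], [nat_lit 81, nat_lit 67], ⟨[nat_lit 0x162d11a4f4b9949d970410f555c61], [nat_lit 175104, nat_lit 169472, nat_lit 164352, nat_lit 160512, nat_lit 157632, nat_lit 153504, nat_lit 148336, nat_lit 144792, nat_lit 140024, nat_lit 136282, nat_lit 131679, nat_lit 1142, nat_lit 4104, nat_lit 9064, nat_lit 13312, nat_lit 16864, nat_lit 20544, nat_lit 25344, nat_lit 34304, nat_lit 37888, nat_lit 41904, nat_lit 38320, nat_lit 32832, nat_lit 28713, nat_lit 24872, nat_lit 20499, nat_lit 16397, nat_lit 12293, nat_lit 8202, nat_lit 4101, nat_lit 4]⟩⟩⟩]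
theorem s463 : Suf yT 16384 (ldrop wU 7) (apW dcM p462) (tgtN dcM p462.e) := Suf.seg (l := l463) (by decide +kernel) s464
def l462 : List AP := [⟨[nat_lit 3, nat_lit 7, nat_lit 627, nat_lit 625, nat_lit 628, nat_lit 6], [], (nat_lit 40), ⟨[nat_lit 71, nat_lit 69], [nat_lit 0, nat_lit 38, nat_lit 46], ⟨[nat_lit 0x88660aa2eb31d8d8087273c854aad4], [nat_lit 173056, nat_lit 168960, nat_lit 166912, nat_lit 160768, nat_lit 157568, nat_lit 151872, nat_lit 148064, nat_lit 143384, nat_lit 140468, nat_lit 136780, nat_lit 132272, nat_lit 664, nat_lit 5544, nat_lit 8264, nat_lit 12976, nat_lit 18144, nat_lit 20736, nat_lit 26368, nat_lit 28928, nat_lit 37888, nat_lit 41784, nat_lit 37285, nat_lit 28784, nat_lit 24738, nat_lit 20489, nat_lit 16450, nat_lit 12327, nat_lit 8201, nat_lit 4100, nat_lit 2]⟩⟩⟩,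
  ⟨[nat_lit 26, nat_lit 637, nat_lit 22, nat_lit 636, nat_lit 22], [], (nat_lit 216), ⟨[nat_lit 24, nat_lit 91], [nat_lit 3], ⟨[nat_lit 0x6888f95d6c0a8a881c134ba3535874], [nat_lit 174080, nat_lit 168448, nat_lit 164608, nat_lit 161664, nat_lit 159168, nat_lit 154976, nat_lit 149952, nat_lit 144576, nat_lit 143216, nat_lit 136184, nat_lit 133442, nat_lit 1108, nat_lit 4796, nat_lit 9928, nat_lit 13312, nat_lit 16736, nat_lit 20672, nat_lit 25344, nat_lit 28928, nat_lit 33792, nat_lit 41725, nat_lit 37007, nat_lit 32846, nat_lit 28769, nat_lit 24611, nat_lit 20554, nat_lit 17415, nat_lit 12307, nat_lit 4113]⟩⟩⟩]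
theorem rU2 : Suf yT 16384 wU [yT.get 36] 0 := Suf.seg (l := l462) (by decide +kernel) s463

def p469 : AP := ⟨[nat_lit 72, nat_lit 66], [], (nat_lit 126), ⟨[nat_lit 3, nat_lit 58], [nat_lit 21, nat_lit 90], ⟨[nat_lit 0x32c22a2218106b7552a6d253bbce6], [nat_lit 173056, nat_lit 169472, nat_lit 166144, nat_lit 156736, nat_lit 152160, nat_lit 148320, nat_lit 144952, nat_lit 140920, nat_lit 136508, nat_lit 132655, nat_lit 158, nat_lit 4328, nat_lit 10088, nat_lit 13152, nat_lit 17344, nat_lit 21696, nat_lit 26368, nat_lit 29440, nat_lit 33792, nat_lit 37888, nat_lit 41440, nat_lit 37120, nat_lit 32805, nat_lit 29792, nat_lit 25642, nat_lit 20745, nat_lit 16385, nat_lit 12327, nat_lit 8224, nat_lit 4104, nat_lit 2]⟩⟩⟩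
def p470 : AP := ⟨[nat_lit 53], [], (nat_lit 126), ⟨[nat_lit 0, nat_lit 38, nat_lit 91], [nat_lit 29], ⟨[nat_lit 0x324657354224194aaee13bed244660], [nat_lit 173056, nat_lit 168448, nat_lit 166656, nat_lit 163072, nat_lit 158208, nat_lit 153600, nat_lit 147584, nat_lit 146696, nat_lit 141672, nat_lit 136320, nat_lit 133871, nat_lit 512, nat_lit 5024, nat_lit 8680, nat_lit 12512, nat_lit 16448, nat_lit 21248, nat_lit 25728, nat_lit 41357, nat_lit 37238, nat_lit 33489, nat_lit 28987, nat_lit 25151, nat_lit 20738, nat_lit 16521, nat_lit 12356, nat_lit 8193, nat_lit 4]⟩⟩⟩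
def p471 : AP := ⟨[nat_lit 7, nat_lit 10, nat_lit 9, nat_lit 7, nat_lit 2, nat_lit 1], [], (nat_lit 40), ⟨[nat_lit 0, nat_lit 72, nat_lit 66], [nat_lit 22, nat_lit 46], ⟨[nat_lit 0x438f0a94c32454f0aee995262636c0], [nat_lit 168448, nat_lit 164096, nat_lit 162304, nat_lit 156608, nat_lit 153344, nat_lit 147840, nat_lit 145360, nat_lit 141160, nat_lit 135464, nat_lit 131359, nat_lit 128, nat_lit 4868, nat_lit 8680, nat_lit 12976, nat_lit 17344, nat_lit 20736, nat_lit 24704, nat_lit 30464, nat_lit 41632, nat_lit 37248, nat_lit 32962, nat_lit 29049, nat_lit 24632, nat_lit 20568, nat_lit 16396, nat_lit 12290, nat_lit 8193, nat_lit 4105]⟩⟩⟩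
def p472 : AP := ⟨[nat_lit 219, nat_lit 662], [], (nat_lit 396), ⟨[nat_lit 0, nat_lit 14, nat_lit 47], [nat_lit 0, nat_lit 4, nat_lit 65], ⟨[nat_lit 0xac24d9a006b9c8e5b1561502f89469], [nat_lit 173056, nat_lit 168448, nat_lit 166656, nat_lit 159872, nat_lit 157056, nat_lit 153152, nat_lit 148672, nat_lit 145000, nat_lit 141244, nat_lit 135252, nat_lit 131492, nat_lit 1066, nat_lit 5580, nat_lit 9544, nat_lit 13664, nat_lit 17408, nat_lit 21568, nat_lit 25984, nat_lit 28928, nat_lit 33280, nat_lit 37888, nat_lit 41952, nat_lit 37199, nat_lit 32791, nat_lit 28678, nat_lit 25103, nat_lit 20491, nat_lit 16655, nat_lit 12304, nat_lit 8322, nat_lit 4129, nat_lit 32]⟩⟩⟩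
def p473 : AP := ⟨[nat_lit 179, nat_lit 216], [], (nat_lit 396), ⟨[nat_lit 3, nat_lit 48], [nat_lit 0, nat_lit 14, nat_lit 50], ⟨[nat_lit 0x20820ac10e54d97959e9398a3a456d], [nat_lit 173056, nat_lit 168448, nat_lit 158016, nat_lit 152608, nat_lit 147920, nat_lit 144552, nat_lit 140524, nat_lit 135178, nat_lit 131762, nat_lit 428, nat_lit 5016, nat_lit 9128, nat_lit 12320, nat_lit 17408, nat_lit 20992, nat_lit 25088, nat_lit 29184, nat_lit 41536, nat_lit 37184, nat_lit 32950, nat_lit 28736, nat_lit 24636, nat_lit 20569, nat_lit 16452, nat_lit 12304, nat_lit 8225]⟩⟩⟩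
def p474 : AP := ⟨[nat_lit 643], [], (nat_lit 127), ⟨[nat_lit 0, nat_lit 13, nat_lit 89], [nat_lit 29, nat_lit 67], ⟨[nat_lit 0x325e15b447852f62206e946b32b140], [nat_lit 167168, nat_lit 162560, nat_lit 159104, nat_lit 154528, nat_lit 148800, nat_lit 146880, nat_lit 142216, nat_lit 135682, nat_lit 133825, nat_lit 318, nat_lit 5884, nat_lit 8680, nat_lit 14032, nat_lit 17568, nat_lit 21568, nat_lit 25344, nat_lit 33280, nat_lit 41671, nat_lit 38300, nat_lit 33296, nat_lit 29717, nat_lit 24756, nat_lit 20497, nat_lit 16390, nat_lit 12548, nat_lit 8193, nat_lit 4]⟩⟩⟩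
def l475 : List AP := [⟨[nat_lit 67, nat_lit 51], [], (nat_lit 122), ⟨[nat_lit 0, nat_lit 73, nat_lit 92], [nat_lit 79, nat_lit 67], ⟨[nat_lit 0x3864a1408bb01834bd149c5d7355a5], [nat_lit 173056, nat_lit 168960, nat_lit 164864, nat_lit 160384, nat_lit 159296, nat_lit 152064, nat_lit 147472, nat_lit 143608, nat_lit 139752, nat_lit 136076, nat_lit 132586, nat_lit 364, nat_lit 5900, nat_lit 9296, nat_lit 12560, nat_lit 17760, nat_lit 22464, nat_lit 24704, nat_lit 29696, nat_lit 33280, nat_lit 41664, nat_lit 36976, nat_lit 32928, nat_lit 28772, nat_lit 24582, nat_lit 20631, nat_lit 16426, nat_lit 12305, nat_lit 8257, nat_lit 4100, nat_lit 2]⟩⟩⟩,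
  ⟨[nat_lit 630, nat_lit 629], [], (nat_lit 1032), ⟨[nat_lit 0, nat_lit 5, nat_lit 52], [nat_lit 82, nat_lit 65], ⟨[nat_lit 0xbd2c9130910c1e6995a34554b038f2], [nat_lit 168448, nat_lit 167168, nat_lit 160256, nat_lit 157632, nat_lit 155456, nat_lit 149760, nat_lit 145832, nat_lit 141856, nat_lit 139154, nat_lit 132010, nat_lit 1182, nat_lit 4412, nat_lit 10160, nat_lit 12624, nat_lit 17728, nat_lit 21888, nat_lit 25216, nat_lit 29952, nat_lit 34304, nat_lit 41311, nat_lit 37074, nat_lit 33861, nat_lit 29245, nat_lit 24749, nat_lit 20488, nat_lit 16388, nat_lit 12321, nat_lit 8194, nat_lit 4097, nat_lit 2]⟩⟩⟩]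
theorem s475 : Suf yT 32768 (ldrop wU 61) (apW dcM p474) (tgtN dcM p474.e) := Suf.fin' (l := l475) (by decide +kernel)
def l474 : List AP := [⟨[nat_lit 47, nat_lit 71, nat_lit 66], [], (nat_lit 120), ⟨[nat_lit 2, nat_lit 59], [nat_lit 37, nat_lit 60], ⟨[nat_lit 0xa8246a2acf88cf7291c99a1b012d81], [nat_lit 175104, nat_lit 171520, nat_lit 167168, nat_lit 160768, nat_lit 156352, nat_lit 151744, nat_lit 150976, nat_lit 144840, nat_lit 139320, nat_lit 137552, nat_lit 134463, nat_lit 1808, nat_lit 4408, nat_lit 8928, nat_lit 13264, nat_lit 17632, nat_lit 22208, nat_lit 25600, nat_lit 30464, nat_lit 33280, nat_lit 41771, nat_lit 37298, nat_lit 33367, nat_lit 28774, nat_lit 24627, nat_lit 20491, nat_lit 16456, nat_lit 12295, nat_lit 8202, nat_lit 4104]⟩⟩⟩,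
  ⟨[nat_lit 55, nat_lit 73, nat_lit 51, nat_lit 47], [], (nat_lit 120), ⟨[nat_lit 84, nat_lit 63], [nat_lit 0, nat_lit 22, nat_lit 54], ⟨[nat_lit 0xb34076220e54eb748c512bc3422e46], [nat_lit 168960, nat_lit 165888, nat_lit 160896, nat_lit 157056, nat_lit 152192, nat_lit 149040, nat_lit 144864, nat_lit 140140, nat_lit 135688, nat_lit 131328, nat_lit 158, nat_lit 5080, nat_lit 10160, nat_lit 13248, nat_lit 16416, nat_lit 21504, nat_lit 29696, nat_lit 33280, nat_lit 41896, nat_lit 37184, nat_lit 29714, nat_lit 25092, nat_lit 20635, nat_lit 16522, nat_lit 12418, nat_lit 8258, nat_lit 4100, nat_lit 32]⟩⟩⟩]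
theorem s474 : Suf yT 32768 (ldrop wU 49) (apW dcM p473) (tgtN dcM p473.e) := Suf.seg (l := l474) (by decide +kernel) s475
def l473 : List AP := [⟨[nat_lit 46, nat_lit 47, nat_lit 642, nat_lit 55], [], (nat_lit 1046), ⟨[nat_lit 0, nat_lit 2, nat_lit 67], [nat_lit 0, nat_lit 36, nat_lit 54], ⟨[nat_lit 0xb0044346b3b95cd5228793c2964163], [nat_lit 171520, nat_lit 165632, nat_lit 160000, nat_lit 156800, nat_lit 153472, nat_lit 148128, nat_lit 144672, nat_lit 139512, nat_lit 135716, nat_lit 132856, nat_lit 582, nat_lit 4568, nat_lit 8352, nat_lit 13552, nat_lit 16448, nat_lit 21696, nat_lit 25088, nat_lit 28928, nat_lit 34304, nat_lit 37888, nat_lit 41688, nat_lit 36869, nat_lit 33001, nat_lit 28778, nat_lit 24633, nat_lit 20553, nat_lit 16430, nat_lit 12304, nat_lit 8202, nat_lit 64]⟩⟩⟩,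
  ⟨[nat_lit 660, nat_lit 218, nat_lit 172], [], (nat_lit 418), ⟨[nat_lit 0, nat_lit 81, nat_lit 94], [nat_lit 78, nat_lit 64], ⟨[nat_lit 0x9a441539f01b0d621d11055a5bae92], [nat_lit 174080, nat_lit 171520, nat_lit 166912, nat_lit 162048, nat_lit 155904, nat_lit 153696, nat_lit 150784, nat_lit 144024, nat_lit 143188, nat_lit 135312, nat_lit 131621, nat_lit 1140, nat_lit 5112, nat_lit 10128, nat_lit 13296, nat_lit 17408, nat_lit 30208, nat_lit 34304, nat_lit 37888, nat_lit 41771, nat_lit 37052, nat_lit 33807, nat_lit 29297, nat_lit 24612, nat_lit 20494, nat_lit 16904, nat_lit 12323, nat_lit 8194, nat_lit 4100, nat_lit 8]⟩⟩⟩]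
theorem s473 : Suf yT 32768 (ldrop wU 37) (apW dcM p472) (tgtN dcM p472.e) := Suf.seg (l := l473) (by decide +kernel) s474
def l472 : List AP := [⟨[nat_lit 634, nat_lit 27, nat_lit 22, nat_lit 21, nat_lit 634, nat_lit 26], [], (nat_lit 338), ⟨[nat_lit 0, nat_lit 82, nat_lit 62], [nat_lit 81, nat_lit 65], ⟨[nat_lit 0x5c4576a4a89015633e9519d819b890], [nat_lit 174080, nat_lit 169472, nat_lit 166656, nat_lit 163712, nat_lit 159680, nat_lit 153376, nat_lit 148656, nat_lit 145080, nat_lit 142952, nat_lit 137626, nat_lit 131308, nat_lit 526, nat_lit 5588, nat_lit 10144, nat_lit 13376, nat_lit 16928, nat_lit 21056, nat_lit 24832, nat_lit 29184, nat_lit 33792, nat_lit 37888, nat_lit 41091, nat_lit 37362, nat_lit 33421, nat_lit 28696, nat_lit 24626, nat_lit 20509, nat_lit 16425, nat_lit 12326, nat_lit 8194, nat_lit 8]⟩⟩⟩,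
  ⟨[], [], (nat_lit 393), ⟨[nat_lit 0, nat_lit 2, nat_lit 51], [nat_lit 33, nat_lit 58], ⟨[nat_lit 0xb9e0043e955b2531a84e325a50c496], [nat_lit 174080, nat_lit 170496, nat_lit 167168, nat_lit 160000, nat_lit 159104, nat_lit 153856, nat_lit 148928, nat_lit 147424, nat_lit 140036, nat_lit 135778, nat_lit 133011, nat_lit 1488, nat_lit 4112, nat_lit 9784, nat_lit 14192, nat_lit 16512, nat_lit 22080, nat_lit 25984, nat_lit 29184, nat_lit 41606, nat_lit 37240, nat_lit 33500, nat_lit 28701, nat_lit 24635, nat_lit 20562, nat_lit 16392, nat_lit 12290, nat_lit 8321, nat_lit 4104]⟩⟩⟩]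
theorem s472 : Suf yT 32768 (ldrop wU 31) (apW dcM p471) (tgtN dcM p471.e) := Suf.seg (l := l472) (by decide +kernel) s473
def l471 : List AP := [⟨[nat_lit 68], [], (nat_lit 122), ⟨[nat_lit 5, nat_lit 55], [nat_lit 23, nat_lit 50], ⟨[nat_lit 0x43ce6b86254c26c90aa453460b3a8b], [nat_lit 173056, nat_lit 168960, nat_lit 164096, nat_lit 160640, nat_lit 152416, nat_lit 148608, nat_lit 144656, nat_lit 139784, nat_lit 138606, nat_lit 132988, nat_lit 354, nat_lit 4128, nat_lit 10128, nat_lit 13264, nat_lit 17024, nat_lit 21504, nat_lit 24960, nat_lit 29696, nat_lit 34304, nat_lit 37888, nat_lit 41805, nat_lit 36898, nat_lit 34047, nat_lit 28794, nat_lit 24728, nat_lit 20482, nat_lit 16523, nat_lit 12289, nat_lit 8194, nat_lit 8]⟩⟩⟩,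
  ⟨[nat_lit 15, nat_lit 630], [], (nat_lit 1032), ⟨[nat_lit 0, nat_lit 78, nat_lit 65], [nat_lit 0, nat_lit 31, nat_lit 54], ⟨[nat_lit 0x2c07738654425ea2027589ac27356c], [nat_lit 168448, nat_lit 164352, nat_lit 160128, nat_lit 156992, nat_lit 152992, nat_lit 149072, nat_lit 144304, nat_lit 140184, nat_lit 137280, nat_lit 132193, nat_lit 210, nat_lit 5228, nat_lit 8504, nat_lit 13264, nat_lit 18336, nat_lit 21760, nat_lit 25216, nat_lit 29184, nat_lit 33280, nat_lit 37888, nat_lit 41846, nat_lit 37238, nat_lit 33425, nat_lit 29054, nat_lit 24598, nat_lit 20746, nat_lit 16394, nat_lit 12290, nat_lit 8193, nat_lit 4104, nat_lit 4]⟩⟩⟩]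
theorem s471 : Suf yT 32768 (ldrop wU 19) (apW dcM p470) (tgtN dcM p470.e) := Suf.seg (l := l471) (by decide +kernel) s472
def l470 : List AP := [⟨[nat_lit 71, nat_lit 642, nat_lit 68, nat_lit 69], [], (nat_lit 1046), ⟨[nat_lit 30, nat_lit 60], [nat_lit 0, nat_lit 26, nat_lit 89], ⟨[nat_lit 0x615ee54457399a4850281d669b2c12], [nat_lit 171008, nat_lit 164864, nat_lit 161664, nat_lit 156352, nat_lit 151808, nat_lit 148672, nat_lit 143904, nat_lit 141176, nat_lit 137202, nat_lit 131216, nat_lit 5080, nat_lit 9752, nat_lit 12464, nat_lit 16640, nat_lit 22016, nat_lit 24960, nat_lit 33280, nat_lit 41355, nat_lit 37036, nat_lit 29203, nat_lit 24605, nat_lit 20611, nat_lit 16426, nat_lit 12289, nat_lit 8208, nat_lit 4101, nat_lit 2]⟩⟩⟩,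
  ⟨[nat_lit 180, nat_lit 215], [], (nat_lit 396), ⟨[nat_lit 0, nat_lit 15, nat_lit 48], [nat_lit 33, nat_lit 66], ⟨[nat_lit 0x4814d1c193385c4b49057d2e2a9971], [nat_lit 169472, nat_lit 165632, nat_lit 160000, nat_lit 159488, nat_lit 153536, nat_lit 149376, nat_lit 144088, nat_lit 141060, nat_lit 136774, nat_lit 131422, nat_lit 1250, nat_lit 5016, nat_lit 9216, nat_lit 12448, nat_lit 18048, nat_lit 21376, nat_lit 25088, nat_lit 29696, nat_lit 37888, nat_lit 41440, nat_lit 37222, nat_lit 33446, nat_lit 28975, nat_lit 24589, nat_lit 20632, nat_lit 16419, nat_lit 12356, nat_lit 8208, nat_lit 8]⟩⟩⟩]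
theorem s470 : Suf yT 32768 (ldrop wU 7) (apW dcM p469) (tgtN dcM p469.e) := Suf.seg (l := l470) (by decide +kernel) s471
def l469 : List AP := [⟨[nat_lit 1, nat_lit 7, nat_lit 8, nat_lit 6, nat_lit 624], [], (nat_lit 1030), ⟨[nat_lit 0, nat_lit 89], [nat_lit 87, nat_lit 61], ⟨[nat_lit 0x3344854a8bac461b14f34b0047c2ee], [nat_lit 173056, nat_lit 168448, nat_lit 165120, nat_lit 160512, nat_lit 156224, nat_lit 151584, nat_lit 148304, nat_lit 144056, nat_lit 140480, nat_lit 136838, nat_lit 132827, nat_lit 960, nat_lit 5228, nat_lit 10224, nat_lit 14176, nat_lit 21696, nat_lit 29440, nat_lit 37888, nat_lit 41298, nat_lit 37344, nat_lit 32803, nat_lit 28737, nat_lit 24582, nat_lit 20739, nat_lit 8258, nat_lit 4161, nat_lit 2]⟩⟩⟩,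
  ⟨[nat_lit 43, nat_lit 17, nat_lit 630, nat_lit 632, nat_lit 17, nat_lit 17], [], (nat_lit 90), ⟨[nat_lit 75, nat_lit 92], [nat_lit 0, nat_lit 42, nat_lit 70], ⟨[nat_lit 0x42ad169c2b73254996e4499e2ac060], [nat_lit 175104, nat_lit 168448, nat_lit 164096, nat_lit 161792, nat_lit 156864, nat_lit 151680, nat_lit 150384, nat_lit 146400, nat_lit 142356, nat_lit 137428, nat_lit 135053, nat_lit 8, nat_lit 5276, nat_lit 8752, nat_lit 12352, nat_lit 16992, nat_lit 21760, nat_lit 26368, nat_lit 30208, nat_lit 34304, nat_lit 41291, nat_lit 37285, nat_lit 32827, nat_lit 29254, nat_lit 24605, nat_lit 20616, nat_lit 16399, nat_lit 12292, nat_lit 8203, nat_lit 4097, nat_lit 2]⟩⟩⟩]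
theorem rU3 : Suf yT 32768 wU [yT.get 37] 0 := Suf.seg (l := l469) (by decide +kernel) s470

def p476 : AP := ⟨[nat_lit 72, nat_lit 66], [], (nat_lit 126), ⟨[nat_lit 34, nat_lit 65], [nat_lit 39, nat_lit 91], ⟨[nat_lit 0x1d68d215c19590712d8935e0a7c660], [nat_lit 173056, nat_lit 169472, nat_lit 165376, nat_lit 162816, nat_lit 155776, nat_lit 151936, nat_lit 149184, nat_lit 144776, nat_lit 139644, nat_lit 136938, nat_lit 132553, nat_lit 128, nat_lit 4684, nat_lit 10200, nat_lit 14304, nat_lit 17568, nat_lit 21248, nat_lit 25088, nat_lit 29184, nat_lit 33280, nat_lit 41549, nat_lit 38209, nat_lit 33002, nat_lit 28736, nat_lit 24758, nat_lit 20547, nat_lit 16418, nat_lit 8211, nat_lit 4097]⟩⟩⟩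
def p477 : AP := ⟨[nat_lit 71, nat_lit 48, nat_lit 46], [], (nat_lit 120), ⟨[nat_lit 0, nat_lit 80, nat_lit 61], [nat_lit 72, nat_lit 65], ⟨[nat_lit 0xb90227ba879b00a4b470aca2542ec6], [nat_lit 175104, nat_lit 169984, nat_lit 167680, nat_lit 161920, nat_lit 157056, nat_lit 154784, nat_lit 150048, nat_lit 143376, nat_lit 141980, nat_lit 136226, nat_lit 132496, nat_lit 1720, nat_lit 6104, nat_lit 9136, nat_lit 14144, nat_lit 17184, nat_lit 20608, nat_lit 24832, nat_lit 29184, nat_lit 33792, nat_lit 37888, nat_lit 40964, nat_lit 37028, nat_lit 32836, nat_lit 29216, nat_lit 24847, nat_lit 21012, nat_lit 16420, nat_lit 12359, nat_lit 8194, nat_lit 4101, nat_lit 2]⟩⟩⟩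
def p478 : AP := ⟨[nat_lit 637, nat_lit 635, nat_lit 634, nat_lit 32, nat_lit 638, nat_lit 21], [], (nat_lit 338), ⟨[nat_lit 35, nat_lit 65], [nat_lit 0, nat_lit 81, nat_lit 56], ⟨[nat_lit 0x25c10352426a90b6392f38636a9473], [nat_lit 173056, nat_lit 168448, nat_lit 164352, nat_lit 156928, nat_lit 155392, nat_lit 147472, nat_lit 145312, nat_lit 141196, nat_lit 136544, nat_lit 131242, nat_lit 622, nat_lit 4316, nat_lit 9224, nat_lit 12416, nat_lit 17472, nat_lit 20544, nat_lit 25728, nat_lit 30208, nat_lit 33280, nat_lit 41078, nat_lit 37088, nat_lit 32840, nat_lit 28768, nat_lit 24620, nat_lit 17421, nat_lit 12310, nat_lit 8201, nat_lit 4113]⟩⟩⟩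
def p479 : AP := ⟨[nat_lit 215, nat_lit 178, nat_lit 170], [], (nat_lit 396), ⟨[nat_lit 14, nat_lit 53], [nat_lit 11, nat_lit 91], ⟨[nat_lit 0xb1aaebac10429a42882f94cec1d229], [nat_lit 173056, nat_lit 170496, nat_lit 166912, nat_lit 161920, nat_lit 158144, nat_lit 151840, nat_lit 150688, nat_lit 145984, nat_lit 139888, nat_lit 137316, nat_lit 132191, nat_lit 344, nat_lit 4568, nat_lit 8384, nat_lit 12800, nat_lit 18240, nat_lit 20992, nat_lit 25088, nat_lit 29440, nat_lit 34304, nat_lit 37888, nat_lit 41485, nat_lit 36891, nat_lit 32874, nat_lit 28701, nat_lit 24578, nat_lit 20502, nat_lit 16418, nat_lit 12290, nat_lit 8210, nat_lit 128]⟩⟩⟩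
def p480 : AP := ⟨[nat_lit 50], [], (nat_lit 1046), ⟨[nat_lit 0, nat_lit 28, nat_lit 93], [nat_lit 28, nat_lit 52], ⟨[nat_lit 0x209060312d50e13586f6a9e4fa162e], [nat_lit 173056, nat_lit 169472, nat_lit 167168, nat_lit 161536, nat_lit 156224, nat_lit 154944, nat_lit 151312, nat_lit 145912, nat_lit 141820, nat_lit 138454, nat_lit 131109, nat_lit 1624, nat_lit 4924, nat_lit 10032, nat_lit 14144, nat_lit 16768, nat_lit 20672, nat_lit 33280, nat_lit 41977, nat_lit 37112, nat_lit 34010, nat_lit 29306, nat_lit 25151, nat_lit 20737, nat_lit 16898, nat_lit 12304, nat_lit 8257, nat_lit 64]⟩⟩⟩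
def p481 : AP := ⟨[nat_lit 214], [], (nat_lit 392), ⟨[nat_lit 0, nat_lit 84, nat_lit 61], [nat_lit 21, nat_lit 89], ⟨[nat_lit 0xb3a2f5cd5549c2c152002a1a321a57], [nat_lit 173056, nat_lit 170496, nat_lit 165376, nat_lit 159872, nat_lit 159040, nat_lit 153408, nat_lit 148800, nat_lit 146432, nat_lit 141888, nat_lit 137992, nat_lit 134110, nat_lit 1140, nat_lit 5688, nat_lit 8360, nat_lit 12304, nat_lit 22336, nat_lit 24704, nat_lit 29952, nat_lit 33280, nat_lit 37888, nat_lit 41731, nat_lit 38071, nat_lit 33530, nat_lit 28682, nat_lit 24842, nat_lit 20507, nat_lit 16395, nat_lit 12304, nat_lit 8259, nat_lit 4097, nat_lit 2]⟩⟩⟩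
def l482 : List AP := [⟨[], [], (nat_lit 339), ⟨[nat_lit 84, nat_lit 49], [nat_lit 0, nat_lit 85, nat_lit 47], ⟨[nat_lit 0x855c9959e83c660a14570b58620d4b], [nat_lit 169984, nat_lit 164864, nat_lit 163200, nat_lit 155712, nat_lit 154912, nat_lit 151296, nat_lit 145896, nat_lit 139520, nat_lit 136162, nat_lit 134539, nat_lit 354, nat_lit 5544, nat_lit 8288, nat_lit 12304, nat_lit 16992, nat_lit 22080, nat_lit 24960, nat_lit 29184, nat_lit 33792, nat_lit 37888, nat_lit 41684, nat_lit 38367, nat_lit 32860, nat_lit 28677, nat_lit 24847, nat_lit 20493, nat_lit 16387, nat_lit 12326, nat_lit 8226]⟩⟩⟩,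
  ⟨[], [], (nat_lit 1034), ⟨[nat_lit 0, nat_lit 15, nat_lit 92], [nat_lit 84, nat_lit 48], ⟨[nat_lit 0xbb8239a045ac5f0a3149359a72024b], [nat_lit 168448, nat_lit 167168, nat_lit 161024, nat_lit 156224, nat_lit 151584, nat_lit 148032, nat_lit 145368, nat_lit 141192, nat_lit 135468, nat_lit 132087, nat_lit 986, nat_lit 5080, nat_lit 10048, nat_lit 12304, nat_lit 22144, nat_lit 24960, nat_lit 37888, nat_lit 41259, nat_lit 37316, nat_lit 32974, nat_lit 29041, nat_lit 24846, nat_lit 20615, nat_lit 16429, nat_lit 12320, nat_lit 8210, nat_lit 4101, nat_lit 4]⟩⟩⟩]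
theorem s482 : Suf yT 65536 (ldrop wU 61) (apW dcM p481) (tgtN dcM p481.e) := Suf.fin' (l := l482) (by decide +kernel)
def l481 : List AP := [⟨[nat_lit 212, nat_lit 176], [], (nat_lit 418), ⟨[nat_lit 41, nat_lit 90], [nat_lit 35, nat_lit 64], ⟨[nat_lit 0xb5e3001c81ad253729a9114667b10b], [nat_lit 174080, nat_lit 168960, nat_lit 165120, nat_lit 161792, nat_lit 156224, nat_lit 152160, nat_lit 151040, nat_lit 145512, nat_lit 141972, nat_lit 137372, nat_lit 134428, nat_lit 1860, nat_lit 4824, nat_lit 8928, nat_lit 13920, nat_lit 16544, nat_lit 22016, nat_lit 25600, nat_lit 29184, nat_lit 37888, nat_lit 41859, nat_lit 37936, nat_lit 33422, nat_lit 29272, nat_lit 24754, nat_lit 20616, nat_lit 16458, nat_lit 12291, nat_lit 8193, nat_lit 4097]⟩⟩⟩,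
  ⟨[nat_lit 662, nat_lit 214, nat_lit 173], [], (nat_lit 418), ⟨[nat_lit 72, nat_lit 69], [nat_lit 0, nat_lit 87, nat_lit 47], ⟨[nat_lit 0x72cb242683a8613388d7b3d80245aa], [nat_lit 175104, nat_lit 168960, nat_lit 166656, nat_lit 163072, nat_lit 158080, nat_lit 152672, nat_lit 149008, nat_lit 144936, nat_lit 141384, nat_lit 137498, nat_lit 132880, nat_lit 724, nat_lit 5884, nat_lit 8400, nat_lit 13088, nat_lit 16896, nat_lit 21248, nat_lit 26496, nat_lit 29952, nat_lit 33280, nat_lit 41170, nat_lit 37178, nat_lit 33409, nat_lit 29027, nat_lit 24746, nat_lit 20552, nat_lit 16399, nat_lit 12290, nat_lit 8209, nat_lit 4097]⟩⟩⟩]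
theorem s481 : Suf yT 65536 (ldrop wU 49) (apW dcM p480) (tgtN dcM p480.e) := Suf.seg (l := l481) (by decide +kernel) s482
def l480 : List AP := [⟨[nat_lit 56, nat_lit 71, nat_lit 69, nat_lit 49], [], (nat_lit 1046), ⟨[nat_lit 0, nat_lit 82, nat_lit 93], [nat_lit 36, nat_lit 61], ⟨[nat_lit 0x322c438d91555cd2bc10a4a69b882b], [nat_lit 164608, nat_lit 160384, nat_lit 157376, nat_lit 152096, nat_lit 148048, nat_lit 146056, nat_lit 140300, nat_lit 135210, nat_lit 132629, nat_lit 1966, nat_lit 4104, nat_lit 8200, nat_lit 13264, nat_lit 17920, nat_lit 21440, nat_lit 26496, nat_lit 28928, nat_lit 34304, nat_lit 37888, nat_lit 41560, nat_lit 38190, nat_lit 33518, nat_lit 29025, nat_lit 24600, nat_lit 20625, nat_lit 16398, nat_lit 12291, nat_lit 8]⟩⟩⟩,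
  ⟨[nat_lit 212, nat_lit 659], [], (nat_lit 396), ⟨[nat_lit 88, nat_lit 60], [nat_lit 24, nat_lit 67], ⟨[nat_lit 0x209060312d50e13586f6a9e4fa162e], [nat_lit 173056, nat_lit 168960, nat_lit 166912, nat_lit 161664, nat_lit 156160, nat_lit 154976, nat_lit 151296, nat_lit 145912, nat_lit 141816, nat_lit 138454, nat_lit 131108, nat_lit 1624, nat_lit 4924, nat_lit 10032, nat_lit 14144, nat_lit 16768, nat_lit 20672, nat_lit 33280, nat_lit 41977, nat_lit 37112, nat_lit 34010, nat_lit 29306, nat_lit 25151, nat_lit 20737, nat_lit 16898, nat_lit 12304, nat_lit 8257, nat_lit 64]⟩⟩⟩]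
theorem s480 : Suf yT 65536 (ldrop wU 37) (apW dcM p479) (tgtN dcM p479.e) := Suf.seg (l := l480) (by decide +kernel) s481
def l479 : List AP := [⟨[nat_lit 181, nat_lit 179, nat_lit 170], [], (nat_lit 396), ⟨[nat_lit 0, nat_lit 81, nat_lit 46], [nat_lit 0, nat_lit 16, nat_lit 90], ⟨[nat_lit 0x258680066d5c9ea4d4a23b0d185e8e], [nat_lit 173056, nat_lit 168448, nat_lit 165632, nat_lit 161024, nat_lit 157376, nat_lit 152256, nat_lit 148944, nat_lit 144976, nat_lit 140656, nat_lit 138420, nat_lit 133016, nat_lit 960, nat_lit 4128, nat_lit 10128, nat_lit 13808, nat_lit 17792, nat_lit 20736, nat_lit 24832, nat_lit 30208, nat_lit 33280, nat_lit 37888, nat_lit 41948, nat_lit 37357, nat_lit 32822, nat_lit 29263, nat_lit 24623, nat_lit 20482, nat_lit 16644, nat_lit 12357, nat_lit 8195, nat_lit 4]⟩⟩⟩,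
  ⟨[nat_lit 50], [], (nat_lit 1046), ⟨[nat_lit 0, nat_lit 26], [nat_lit 27, nat_lit 58], ⟨[nat_lit 0x258680066d5c9ea4d4a23b0d185e8e], [nat_lit 165376, nat_lit 161152, nat_lit 157376, nat_lit 152288, nat_lit 148928, nat_lit 144976, nat_lit 140660, nat_lit 138420, nat_lit 133016, nat_lit 960, nat_lit 4128, nat_lit 10128, nat_lit 13808, nat_lit 17792, nat_lit 20736, nat_lit 24832, nat_lit 30208, nat_lit 33280, nat_lit 37888, nat_lit 41948, nat_lit 37357, nat_lit 32822, nat_lit 29263, nat_lit 24623, nat_lit 20482, nat_lit 16644, nat_lit 12357, nat_lit 8195, nat_lit 4]⟩⟩⟩]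
theorem s479 : Suf yT 65536 (ldrop wU 31) (apW dcM p478) (tgtN dcM p478.e) := Suf.seg (l := l479) (by decide +kernel) s480
def l478 : List AP := [⟨[nat_lit 641, nat_lit 46, nat_lit 54], [], (nat_lit 121), ⟨[nat_lit 19, nat_lit 51], [nat_lit 32, nat_lit 51], ⟨[nat_lit 0x34ed472857222497b22538c105b435], [nat_lit 175104, nat_lit 171008, nat_lit 167680, nat_lit 160768, nat_lit 157440, nat_lit 152896, nat_lit 150208, nat_lit 144688, nat_lit 140504, nat_lit 138546, nat_lit 134499, nat_lit 1760, nat_lit 5900, nat_lit 10056, nat_lit 12832, nat_lit 16864, nat_lit 20544, nat_lit 26112, nat_lit 33792, nat_lit 37888, nat_lit 41535, nat_lit 37243, nat_lit 33452, nat_lit 28790, nat_lit 24586, nat_lit 20503, nat_lit 16391, nat_lit 12289, nat_lit 8209, nat_lit 4101, nat_lit 2]⟩⟩⟩,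
  ⟨[nat_lit 66, nat_lit 48], [], (nat_lit 1038), ⟨[nat_lit 0, nat_lit 8, nat_lit 47], [nat_lit 0, nat_lit 38, nat_lit 62], ⟨[nat_lit 0x5da8890201bd52a9c443798ee6148d], [nat_lit 173056, nat_lit 164864, nat_lit 161024, nat_lit 155712, nat_lit 152704, nat_lit 148640, nat_lit 143824, nat_lit 141188, nat_lit 135612, nat_lit 133181, nat_lit 508, nat_lit 4396, nat_lit 8568, nat_lit 14032, nat_lit 16512, nat_lit 21632, nat_lit 28928, nat_lit 34304, nat_lit 37888, nat_lit 41861, nat_lit 37317, nat_lit 32989, nat_lit 28722, nat_lit 24595, nat_lit 20631, nat_lit 16393, nat_lit 12310, nat_lit 8193, nat_lit 4104, nat_lit 2]⟩⟩⟩]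
theorem s478 : Suf yT 65536 (ldrop wU 19) (apW dcM p477) (tgtN dcM p477.e) := Suf.seg (l := l478) (by decide +kernel) s479
def l477 : List AP := [⟨[nat_lit 639, nat_lit 639, nat_lit 67, nat_lit 47], [], (nat_lit 1046), ⟨[nat_lit 0, nat_lit 89], [nat_lit 0, nat_lit 33, nat_lit 58], ⟨[nat_lit 0x1a64ea88276588d2d168b9a135440f], [nat_lit 173056, nat_lit 168960, nat_lit 164608, nat_lit 160640, nat_lit 156544, nat_lit 153056, nat_lit 147760, nat_lit 144808, nat_lit 142848, nat_lit 136524, nat_lit 132650, nat_lit 1896, nat_lit 5904, nat_lit 8704, nat_lit 13664, nat_lit 16928, nat_lit 20800, nat_lit 26496, nat_lit 29952, nat_lit 33280, nat_lit 41476, nat_lit 38130, nat_lit 32772, nat_lit 28740, nat_lit 24743, nat_lit 20563, nat_lit 16387, nat_lit 12295, nat_lit 4104, nat_lit 2]⟩⟩⟩,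
  ⟨[nat_lit 175, nat_lit 663], [], (nat_lit 396), ⟨[nat_lit 0, nat_lit 79, nat_lit 91], [nat_lit 0, nat_lit 42, nat_lit 56], ⟨[nat_lit 0x1d98db89484c88e9bd670c234a80c5], [nat_lit 164864, nat_lit 160768, nat_lit 156480, nat_lit 153248, nat_lit 147552, nat_lit 145128, nat_lit 141764, nat_lit 135434, nat_lit 132480, nat_lit 128, nat_lit 4704, nat_lit 8320, nat_lit 13792, nat_lit 17184, nat_lit 21504, nat_lit 26496, nat_lit 29184, nat_lit 33792, nat_lit 37888, nat_lit 41796, nat_lit 37335, nat_lit 33388, nat_lit 28676, nat_lit 25107, nat_lit 20754, nat_lit 16655, nat_lit 12326, nat_lit 8193, nat_lit 4105, nat_lit 4]⟩⟩⟩]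
theorem s477 : Suf yT 65536 (ldrop wU 7) (apW dcM p476) (tgtN dcM p476.e) := Suf.seg (l := l477) (by decide +kernel) s478
def l476 : List AP := [⟨[nat_lit 628, nat_lit 10, nat_lit 626, nat_lit 7, nat_lit 8, nat_lit 628], [], (nat_lit 26), ⟨[nat_lit 0, nat_lit 26, nat_lit 56], [nat_lit 38, nat_lit 92], ⟨[nat_lit 0x79ef04ca2232c839d8ae6a82ca8288], [nat_lit 164864, nat_lit 161536, nat_lit 155776, nat_lit 152672, nat_lit 149200, nat_lit 139492, nat_lit 136916, nat_lit 131810, nat_lit 256, nat_lit 6080, nat_lit 10232, nat_lit 14288, nat_lit 18048, nat_lit 20544, nat_lit 30464, nat_lit 41811, nat_lit 32796, nat_lit 28738, nat_lit 24620, nat_lit 20556, nat_lit 16650, nat_lit 12359, nat_lit 8211, nat_lit 4105, nat_lit 4]⟩⟩⟩,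
  ⟨[nat_lit 36, nat_lit 39, nat_lit 41, nat_lit 36, nat_lit 16, nat_lit 15], [], (nat_lit 90), ⟨[nat_lit 73, nat_lit 50], [nat_lit 45, nat_lit 59], ⟨[nat_lit 0x914c96366b7d8e38d157055c480448], [nat_lit 173056, nat_lit 168960, nat_lit 165888, nat_lit 163072, nat_lit 159424, nat_lit 155584, nat_lit 148464, nat_lit 147072, nat_lit 142396, nat_lit 135246, nat_lit 134082, nat_lit 236, nat_lit 4100, nat_lit 8448, nat_lit 12944, nat_lit 16640, nat_lit 21056, nat_lit 24832, nat_lit 29952, nat_lit 34304, nat_lit 41882, nat_lit 38268, nat_lit 32776, nat_lit 28789, nat_lit 24591, nat_lit 20630, nat_lit 16385, nat_lit 12358, nat_lit 8195, nat_lit 4100]⟩⟩⟩]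
theorem rU4 : Suf yT 65536 wU [yT.get 38] 0 := Suf.seg (l := l476) (by decide +kernel) s477

def p483 : AP := ⟨[nat_lit 72, nat_lit 66], [], (nat_lit 126), ⟨[nat_lit 0, nat_lit 37, nat_lit 52], [nat_lit 0, nat_lit 13, nat_lit 60], ⟨[nat_lit 0x20512d9819a9ae4d2b282ce623ee3], [nat_lit 173056, nat_lit 171520, nat_lit 165120, nat_lit 162816, nat_lit 156736, nat_lit 153888, nat_lit 150080, nat_lit 146128, nat_lit 139268, nat_lit 137142, nat_lit 133389, nat_lit 688, nat_lit 5828, nat_lit 8616, nat_lit 12304, nat_lit 17408, nat_lit 20800, nat_lit 25472, nat_lit 28928, nat_lit 34304, nat_lit 41583, nat_lit 38364, nat_lit 33450, nat_lit 28706, nat_lit 25608, nat_lit 20574, nat_lit 16393, nat_lit 12289, nat_lit 8258, nat_lit 4161]⟩⟩⟩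
def p484 : AP := ⟨[nat_lit 217, nat_lit 180], [], (nat_lit 419), ⟨[nat_lit 0, nat_lit 36, nat_lit 89], [nat_lit 0, nat_lit 85, nat_lit 58], ⟨[nat_lit 0x9d50918690599c2011ea8b59629ef2], [nat_lit 173056, nat_lit 169472, nat_lit 155904, nat_lit 152576, nat_lit 147984, nat_lit 144872, nat_lit 140332, nat_lit 137854, nat_lit 133032, nat_lit 1140, nat_lit 9760, nat_lit 12384, nat_lit 18400, nat_lit 21440, nat_lit 33792, nat_lit 37888, nat_lit 41499, nat_lit 37346, nat_lit 32837, nat_lit 28700, nat_lit 24578, nat_lit 20484, nat_lit 16515, nat_lit 12309, nat_lit 8210, nat_lit 4097, nat_lit 2]⟩⟩⟩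
def p485 : AP := ⟨[nat_lit 638, nat_lit 638, nat_lit 636, nat_lit 25, nat_lit 21], [], (nat_lit 391), ⟨[nat_lit 32, nat_lit 54], [nat_lit 72, nat_lit 47], ⟨[nat_lit 0x19d72215950a26678054526edb41d1], [nat_lit 173056, nat_lit 168448, nat_lit 164096, nat_lit 162048, nat_lit 156928, nat_lit 152640, nat_lit 149456, nat_lit 143672, nat_lit 139896, nat_lit 136760, nat_lit 132715, nat_lit 184, nat_lit 4588, nat_lit 8464, nat_lit 14288, nat_lit 16512, nat_lit 22144, nat_lit 29184, nat_lit 33280, nat_lit 41850, nat_lit 37074, nat_lit 33882, nat_lit 28685, nat_lit 25141, nat_lit 20551, nat_lit 16903, nat_lit 12420, nat_lit 8209, nat_lit 4161, nat_lit 8]⟩⟩⟩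
def p486 : AP := ⟨[nat_lit 47, nat_lit 48, nat_lit 72, nat_lit 50], [], (nat_lit 120), ⟨[nat_lit 0, nat_lit 2, nat_lit 89], [nat_lit 0, nat_lit 34, nat_lit 64], ⟨[nat_lit 0x12a4773ecd652b7444a382c819a406], [nat_lit 175104, nat_lit 171520, nat_lit 166144, nat_lit 161408, nat_lit 157824, nat_lit 154592, nat_lit 148464, nat_lit 145816, nat_lit 140296, nat_lit 136886, nat_lit 132556, nat_lit 1024, nat_lit 4548, nat_lit 9664, nat_lit 13184, nat_lit 18112, nat_lit 20672, nat_lit 26368, nat_lit 29952, nat_lit 33792, nat_lit 41910, nat_lit 37137, nat_lit 33457, nat_lit 28792, nat_lit 24581, nat_lit 20499, nat_lit 16429, nat_lit 12309, nat_lit 8208, nat_lit 4101, nat_lit 2]⟩⟩⟩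
def p487 : AP := ⟨[nat_lit 641, nat_lit 46, nat_lit 54], [], (nat_lit 121), ⟨[nat_lit 38, nat_lit 46], [nat_lit 38], ⟨[nat_lit 0x3d043499172b2ce54c2d7c96024615], [nat_lit 174080, nat_lit 169472, nat_lit 164352, nat_lit 160512, nat_lit 156864, nat_lit 151744, nat_lit 148384, nat_lit 144680, nat_lit 140232, nat_lit 136692, nat_lit 131354, nat_lit 738, nat_lit 4768, nat_lit 9776, nat_lit 12304, nat_lit 16448, nat_lit 20736, nat_lit 25088, nat_lit 29952, nat_lit 33280, nat_lit 37888, nat_lit 37120, nat_lit 33423, nat_lit 29029, nat_lit 24749, nat_lit 20626, nat_lit 16427, nat_lit 12320, nat_lit 8259, nat_lit 4113]⟩⟩⟩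
def p488 : AP := ⟨[nat_lit 173], [], (nat_lit 392), ⟨[nat_lit 3, nat_lit 51], [nat_lit 7, nat_lit 70], ⟨[nat_lit 0xb3dc9849150b0f1a15449b40658877], [nat_lit 164864, nat_lit 161664, nat_lit 157248, nat_lit 152512, nat_lit 149280, nat_lit 144344, nat_lit 139568, nat_lit 135314, nat_lit 131605, nat_lit 1140, nat_lit 5072, nat_lit 16896, nat_lit 21056, nat_lit 24832, nat_lit 29440, nat_lit 33280, nat_lit 41113, nat_lit 37120, nat_lit 33296, nat_lit 29740, nat_lit 24583, nat_lit 20611, nat_lit 16422, nat_lit 12290, nat_lit 4104]⟩⟩⟩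
def l489 : List AP := [⟨[], [], (nat_lit 339), ⟨[nat_lit 0, nat_lit 43, nat_lit 63], [nat_lit 42, nat_lit 67], ⟨[nat_lit 0x826a7129a89822e285e4b32e3950cb], [nat_lit 175104, nat_lit 171520, nat_lit 166912, nat_lit 161536, nat_lit 156672, nat_lit 153152, nat_lit 150624, nat_lit 145144, nat_lit 140200, nat_lit 138274, nat_lit 134078, nat_lit 1224, nat_lit 6104, nat_lit 10152, nat_lit 18176, nat_lit 21504, nat_lit 29184, nat_lit 33280, nat_lit 41805, nat_lit 38339, nat_lit 32787, nat_lit 29208, nat_lit 25614, nat_lit 20484, nat_lit 16525, nat_lit 12304, nat_lit 8227, nat_lit 4097]⟩⟩⟩,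
  ⟨[], [], (nat_lit 1034), ⟨[nat_lit 0, nat_lit 88, nat_lit 54], [nat_lit 72], ⟨[nat_lit 0x2888330027749f06cd91bd16a456c9], [nat_lit 168960, nat_lit 160896, nat_lit 157312, nat_lit 152288, nat_lit 148384, nat_lit 144664, nat_lit 140524, nat_lit 136564, nat_lit 134498, nat_lit 1478, nat_lit 5208, nat_lit 8736, nat_lit 12976, nat_lit 16864, nat_lit 20608, nat_lit 25088, nat_lit 30208, nat_lit 33280, nat_lit 37888, nat_lit 41391, nat_lit 37221, nat_lit 32783, nat_lit 28685, nat_lit 24614, nat_lit 20561, nat_lit 16394, nat_lit 12295, nat_lit 8201, nat_lit 4100]⟩⟩⟩]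
theorem s489 : Suf yT 131072 (ldrop wU 61) (apW dcM p488) (tgtN dcM p488.e) := Suf.fin' (l := l489) (by decide +kernel)
def l488 : List AP := [⟨[nat_lit 66, nat_lit 54, nat_lit 51, nat_lit 47], [], (nat_lit 1046), ⟨[nat_lit 0, nat_lit 6, nat_lit 58], [nat_lit 0, nat_lit 10, nat_lit 53], ⟨[nat_lit 0x932ce8a1541a48d2ac0f9d4e615e01], [nat_lit 168960, nat_lit 167424, nat_lit 160896, nat_lit 157056, nat_lit 152576, nat_lit 149120, nat_lit 144464, nat_lit 140840, nat_lit 136068, nat_lit 132347, nat_lit 1142, nat_lit 4160, nat_lit 8256, nat_lit 12448, nat_lit 17376, nat_lit 21504, nat_lit 25600, nat_lit 30464, nat_lit 33792, nat_lit 37888, nat_lit 41013, nat_lit 36901, nat_lit 32968, nat_lit 28929, nat_lit 24745, nat_lit 20564, nat_lit 16420, nat_lit 12421, nat_lit 8203, nat_lit 4101, nat_lit 4]⟩⟩⟩,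
  ⟨[nat_lit 660, nat_lit 213], [], (nat_lit 418), ⟨[nat_lit 0, nat_lit 74, nat_lit 89], [nat_lit 35, nat_lit 67], ⟨[nat_lit 0x40cb2144ea65a70a392bb99a4782a1], [nat_lit 173056, nat_lit 171520, nat_lit 164608, nat_lit 161664, nat_lit 156992, nat_lit 152352, nat_lit 147552, nat_lit 145152, nat_lit 139284, nat_lit 135970, nat_lit 131920, nat_lit 1760, nat_lit 4608, nat_lit 8680, nat_lit 13664, nat_lit 16896, nat_lit 20928, nat_lit 26368, nat_lit 29696, nat_lit 34304, nat_lit 41472, nat_lit 37271, nat_lit 33517, nat_lit 29234, nat_lit 24841, nat_lit 20563, nat_lit 8320, nat_lit 4097, nat_lit 2]⟩⟩⟩]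
theorem s488 : Suf yT 131072 (ldrop wU 49) (apW dcM p487) (tgtN dcM p487.e) := Suf.seg (l := l488) (by decide +kernel) s489
def l487 : List AP := [⟨[nat_lit 639, nat_lit 642, nat_lit 54, nat_lit 50], [], (nat_lit 120), ⟨[nat_lit 83, nat_lit 60], [nat_lit 20, nat_lit 47], ⟨[nat_lit 0xb201554470484e6589ed249972cdd4], [nat_lit 173056, nat_lit 170496, nat_lit 165376, nat_lit 160768, nat_lit 157312, nat_lit 151680, nat_lit 147872, nat_lit 144776, nat_lit 139796, nat_lit 135658, nat_lit 131539, nat_lit 622, nat_lit 4524, nat_lit 10128, nat_lit 13200, nat_lit 16544, nat_lit 20608, nat_lit 25088, nat_lit 29184, nat_lit 33792, nat_lit 37888, nat_lit 41472, nat_lit 37304, nat_lit 33303, nat_lit 28722, nat_lit 20639, nat_lit 16517, nat_lit 12325, nat_lit 8210, nat_lit 4113, nat_lit 4]⟩⟩⟩,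
  ⟨[nat_lit 68, nat_lit 643, nat_lit 642, nat_lit 48], [], (nat_lit 120), ⟨[nat_lit 0, nat_lit 76], [nat_lit 0, nat_lit 9, nat_lit 50], ⟨[nat_lit 0xa8a9255d878342f712cb4811198ca6], [nat_lit 174080, nat_lit 168960, nat_lit 160640, nat_lit 158208, nat_lit 154688, nat_lit 151360, nat_lit 144728, nat_lit 141760, nat_lit 135524, nat_lit 133457, nat_lit 116, nat_lit 4792, nat_lit 9096, nat_lit 12416, nat_lit 17472, nat_lit 20800, nat_lit 25600, nat_lit 28928, nat_lit 41596, nat_lit 38387, nat_lit 33452, nat_lit 29198, nat_lit 25646, nat_lit 20738, nat_lit 16451, nat_lit 12805, nat_lit 8706, nat_lit 4105]⟩⟩⟩]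
theorem s487 : Suf yT 131072 (ldrop wU 37) (apW dcM p486) (tgtN dcM p486.e) := Suf.seg (l := l487) (by decide +kernel) s488
def l486 : List AP := [⟨[nat_lit 215], [], (nat_lit 418), ⟨[nat_lit 0, nat_lit 42, nat_lit 60], [nat_lit 73, nat_lit 92], ⟨[nat_lit 0x9b5cbb5d122bc5488d21ab08051cd0], [nat_lit 174080, nat_lit 165632, nat_lit 161152, nat_lit 159104, nat_lit 155552, nat_lit 151536, nat_lit 143872, nat_lit 142464, nat_lit 135332, nat_lit 134189, nat_lit 1076, nat_lit 5288, nat_lit 9096, nat_lit 13232, nat_lit 17248, nat_lit 22336, nat_lit 30208, nat_lit 33280, nat_lit 41135, nat_lit 37185, nat_lit 32891, nat_lit 29790, nat_lit 24577, nat_lit 20610, nat_lit 16431, nat_lit 12306, nat_lit 8200, nat_lit 4101]⟩⟩⟩,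
  ⟨[nat_lit 179, nat_lit 216], [], (nat_lit 396), ⟨[nat_lit 85, nat_lit 50], [nat_lit 0, nat_lit 89], ⟨[nat_lit 0x21611bd1ed1a02b4a84034e47ad98e], [nat_lit 168960, nat_lit 160896, nat_lit 156544, nat_lit 155040, nat_lit 148640, nat_lit 144312, nat_lit 139676, nat_lit 135782, nat_lit 132687, nat_lit 1292, nat_lit 4380, nat_lit 10128, nat_lit 13792, nat_lit 17088, nat_lit 20992, nat_lit 25728, nat_lit 30464, nat_lit 33792, nat_lit 40975, nat_lit 37288, nat_lit 33333, nat_lit 28989, nat_lit 24577, nat_lit 16399, nat_lit 12308, nat_lit 8193, nat_lit 4]⟩⟩⟩]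
theorem s486 : Suf yT 131072 (ldrop wU 31) (apW dcM p485) (tgtN dcM p485.e) := Suf.seg (l := l486) (by decide +kernel) s487
def l485 : List AP := [⟨[nat_lit 217, nat_lit 172], [], (nat_lit 396), ⟨[nat_lit 0, nat_lit 76, nat_lit 50], [nat_lit 0, nat_lit 7, nat_lit 58], ⟨[nat_lit 0x229929a0edb08c5846e34d160abc2e], [nat_lit 173056, nat_lit 167168, nat_lit 161408, nat_lit 157312, nat_lit 152768, nat_lit 147840, nat_lit 143440, nat_lit 141280, nat_lit 137094, nat_lit 131809, nat_lit 342, nat_lit 4352, nat_lit 8408, nat_lit 13920, nat_lit 16672, nat_lit 22208, nat_lit 25856, nat_lit 29696, nat_lit 33792, nat_lit 41696, nat_lit 38281, nat_lit 32936, nat_lit 28698, nat_lit 25106, nat_lit 20571, nat_lit 16452, nat_lit 12293, nat_lit 8201, nat_lit 8]⟩⟩⟩,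
  ⟨[nat_lit 72], [], (nat_lit 1038), ⟨[nat_lit 0, nat_lit 42, nat_lit 59], [nat_lit 0, nat_lit 85, nat_lit 48], ⟨[nat_lit 0x5a136881c4aaa972866f61c521b606], [nat_lit 169472, nat_lit 161024, nat_lit 157312, nat_lit 151776, nat_lit 148624, nat_lit 144032, nat_lit 139724, nat_lit 135178, nat_lit 134839, nat_lit 1024, nat_lit 4316, nat_lit 8680, nat_lit 13312, nat_lit 17056, nat_lit 21120, nat_lit 26368, nat_lit 30208, nat_lit 33792, nat_lit 41794, nat_lit 37951, nat_lit 33428, nat_lit 28932, nat_lit 24732, nat_lit 20553, nat_lit 16425, nat_lit 12289, nat_lit 5121]⟩⟩⟩]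
theorem s485 : Suf yT 131072 (ldrop wU 19) (apW dcM p484) (tgtN dcM p484.e) := Suf.seg (l := l485) (by decide +kernel) s486
def l484 : List AP := [⟨[nat_lit 56, nat_lit 67, nat_lit 72], [], (nat_lit 120), ⟨[nat_lit 0, nat_lit 78, nat_lit 59], [nat_lit 52], ⟨[nat_lit 0x9305701469550f53466823d6d806ce], [nat_lit 173056, nat_lit 165632, nat_lit 161920, nat_lit 156992, nat_lit 151776, nat_lit 148736, nat_lit 144072, nat_lit 139568, nat_lit 136072, nat_lit 132049, nat_lit 1292, nat_lit 6068, nat_lit 10032, nat_lit 12592, nat_lit 18048, nat_lit 21632, nat_lit 24704, nat_lit 30208, nat_lit 34304, nat_lit 41688, nat_lit 37304, nat_lit 32896, nat_lit 28782, nat_lit 24626, nat_lit 20571, nat_lit 16451, nat_lit 12321, nat_lit 8194, nat_lit 4101, nat_lit 2]⟩⟩⟩,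
  ⟨[nat_lit 57, nat_lit 70, nat_lit 48, nat_lit 69, nat_lit 46], [], (nat_lit 1046), ⟨[nat_lit 82, nat_lit 65], [nat_lit 0, nat_lit 87, nat_lit 58], ⟨[nat_lit 0xb258d9a23590dc43d0ca5dc0179450], [nat_lit 173056, nat_lit 169472, nat_lit 167168, nat_lit 160256, nat_lit 156352, nat_lit 153248, nat_lit 148224, nat_lit 144224, nat_lit 140044, nat_lit 136680, nat_lit 132901, nat_lit 428, nat_lit 4100, nat_lit 8320, nat_lit 13920, nat_lit 16448, nat_lit 20800, nat_lit 24832, nat_lit 30208, nat_lit 34304, nat_lit 37888, nat_lit 41913, nat_lit 38073, nat_lit 32923, nat_lit 29014, nat_lit 24619, nat_lit 20554, nat_lit 16653, nat_lit 8210, nat_lit 4112, nat_lit 32]⟩⟩⟩]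
theorem s484 : Suf yT 131072 (ldrop wU 7) (apW dcM p483) (tgtN dcM p483.e) := Suf.seg (l := l484) (by decide +kernel) s485
def l483 : List AP := [⟨[nat_lit 625, nat_lit 4, nat_lit 626, nat_lit 624, nat_lit 4, nat_lit 0], [], (nat_lit 26), ⟨[nat_lit 79, nat_lit 65], [nat_lit 29], ⟨[nat_lit 0x1b12d5021374ac4395015d055bbcd1], [nat_lit 168448, nat_lit 165632, nat_lit 161152, nat_lit 156160, nat_lit 152480, nat_lit 147472, nat_lit 144416, nat_lit 139492, nat_lit 136424, nat_lit 135055, nat_lit 512, nat_lit 4320, nat_lit 8472, nat_lit 13664, nat_lit 18144, nat_lit 21696, nat_lit 25856, nat_lit 37888, nat_lit 41953, nat_lit 37185, nat_lit 33378, nat_lit 28701, nat_lit 24598, nat_lit 20759, nat_lit 16422, nat_lit 12292, nat_lit 8201, nat_lit 4113]⟩⟩⟩,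
  ⟨[nat_lit 15, nat_lit 43, nat_lit 633, nat_lit 631, nat_lit 42], [], (nat_lit 90), ⟨[nat_lit 0, nat_lit 27, nat_lit 56], [nat_lit 0, nat_lit 39, nat_lit 52], ⟨[nat_lit 0x41e216d94b11133b98af75060642b2], [nat_lit 170496, nat_lit 165632, nat_lit 162176, nat_lit 156352, nat_lit 154336, nat_lit 150304, nat_lit 146448, nat_lit 136490, nat_lit 134682, nat_lit 696, nat_lit 5208, nat_lit 9504, nat_lit 13040, nat_lit 17056, nat_lit 22144, nat_lit 26496, nat_lit 30464, nat_lit 33792, nat_lit 37888, nat_lit 41377, nat_lit 37330, nat_lit 33387, nat_lit 28761, nat_lit 24730, nat_lit 20491, nat_lit 16513, nat_lit 12311, nat_lit 8202]⟩⟩⟩]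
theorem rU5 : Suf yT 131072 wU [yT.get 39] 0 := Suf.seg (l := l483) (by decide +kernel) s484

def p490 : AP := ⟨[nat_lit 51, nat_lit 68], [], (nat_lit 126), ⟨[nat_lit 0, nat_lit 84, nat_lit 46], [nat_lit 0, nat_lit 12, nat_lit 58], ⟨[nat_lit 0x2a252412268c37a216f932b3b38e6], [nat_lit 173056, nat_lit 168448, nat_lit 165120, nat_lit 159872, nat_lit 158272, nat_lit 153376, nat_lit 149376, nat_lit 143752, nat_lit 140684, nat_lit 136268, nat_lit 132007, nat_lit 158, nat_lit 5668, nat_lit 10224, nat_lit 13696, nat_lit 17024, nat_lit 21952, nat_lit 24704, nat_lit 29696, nat_lit 33280, nat_lit 41178, nat_lit 37090, nat_lit 33000, nat_lit 28749, nat_lit 24628, nat_lit 20564, nat_lit 16385, nat_lit 12422, nat_lit 4104, nat_lit 2]⟩⟩⟩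
def p491 : AP := ⟨[nat_lit 213, nat_lit 172], [], (nat_lit 392), ⟨[nat_lit 34, nat_lit 92], [nat_lit 0, nat_lit 30, nat_lit 58], ⟨[nat_lit 0xbb4037ca1614ccb391940aa254b915], [nat_lit 173056, nat_lit 169472, nat_lit 165632, nat_lit 161024, nat_lit 156096, nat_lit 151872, nat_lit 147760, nat_lit 143856, nat_lit 139440, nat_lit 135970, nat_lit 131955, nat_lit 1762, nat_lit 5316, nat_lit 10160, nat_lit 12544, nat_lit 16736, nat_lit 22272, nat_lit 24832, nat_lit 29184, nat_lit 34304, nat_lit 37888, nat_lit 41617, nat_lit 37184, nat_lit 32800, nat_lit 29713, nat_lit 25135, nat_lit 20551, nat_lit 17409, nat_lit 12322, nat_lit 4104]⟩⟩⟩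
def p492 : AP := ⟨[nat_lit 627, nat_lit 625, nat_lit 626, nat_lit 11, nat_lit 2, nat_lit 3], [], (nat_lit 26), ⟨[nat_lit 0, nat_lit 84, nat_lit 91], [nat_lit 0, nat_lit 32, nat_lit 94], ⟨[nat_lit 0x13acd0d10905c857aa478accc9d603], [nat_lit 173056, nat_lit 168960, nat_lit 164096, nat_lit 160640, nat_lit 155776, nat_lit 153792, nat_lit 148688, nat_lit 145400, nat_lit 140600, nat_lit 135494, nat_lit 132838, nat_lit 1770, nat_lit 4476, nat_lit 9384, nat_lit 12320, nat_lit 17920, nat_lit 20544, nat_lit 25216, nat_lit 30208, nat_lit 34304, nat_lit 41486, nat_lit 37344, nat_lit 33469, nat_lit 28768, nat_lit 24634, nat_lit 20507, nat_lit 16425, nat_lit 12293, nat_lit 8200, nat_lit 4112, nat_lit 4]⟩⟩⟩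
def p493 : AP := ⟨[nat_lit 642, nat_lit 71, nat_lit 72, nat_lit 47], [], (nat_lit 120), ⟨[nat_lit 83, nat_lit 68], [nat_lit 0, nat_lit 29, nat_lit 90], ⟨[nat_lit 0x626975382304cd58d8446ca085bca7], [nat_lit 175104, nat_lit 171520, nat_lit 166144, nat_lit 162688, nat_lit 156544, nat_lit 153696, nat_lit 150816, nat_lit 145256, nat_lit 141448, nat_lit 137086, nat_lit 133101, nat_lit 810, nat_lit 4952, nat_lit 8408, nat_lit 14304, nat_lit 16928, nat_lit 22208, nat_lit 24832, nat_lit 28928, nat_lit 33792, nat_lit 37888, nat_lit 41356, nat_lit 36886, nat_lit 32892, nat_lit 28748, nat_lit 24744, nat_lit 20567, nat_lit 16431, nat_lit 12294, nat_lit 4104]⟩⟩⟩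
def p494 : AP := ⟨[nat_lit 50], [], (nat_lit 1046), ⟨[nat_lit 1, nat_lit 55], [nat_lit 0, nat_lit 9, nat_lit 51], ⟨[nat_lit 0x720018544453ed7932693d2233156d], [nat_lit 175104, nat_lit 171520, nat_lit 165376, nat_lit 161920, nat_lit 157952, nat_lit 154368, nat_lit 148720, nat_lit 145192, nat_lit 140240, nat_lit 137858, nat_lit 133179, nat_lit 566, nat_lit 5900, nat_lit 9296, nat_lit 13312, nat_lit 17216, nat_lit 21504, nat_lit 25472, nat_lit 29184, nat_lit 34304, nat_lit 41637, nat_lit 37265, nat_lit 32975, nat_lit 28677, nat_lit 24597, nat_lit 21534, nat_lit 16422, nat_lit 12304, nat_lit 8193, nat_lit 4097, nat_lit 2]⟩⟩⟩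
def p495 : AP := ⟨[nat_lit 71, nat_lit 49], [], (nat_lit 126), ⟨[nat_lit 0, nat_lit 76, nat_lit 54], [nat_lit 0, nat_lit 82, nat_lit 50], ⟨[nat_lit 0x32ec5a24027ddaa24c6eaa2323c181], [nat_lit 175104, nat_lit 168448, nat_lit 166912, nat_lit 163200, nat_lit 159488, nat_lit 151680, nat_lit 147648, nat_lit 143808, nat_lit 142352, nat_lit 138354, nat_lit 131333, nat_lit 1180, nat_lit 4476, nat_lit 8504, nat_lit 13552, nat_lit 16992, nat_lit 21760, nat_lit 26496, nat_lit 29952, nat_lit 33792, nat_lit 41930, nat_lit 37231, nat_lit 33465, nat_lit 28746, nat_lit 24716, nat_lit 20997, nat_lit 16652, nat_lit 12293, nat_lit 8203, nat_lit 4100, nat_lit 8]⟩⟩⟩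
def l496 : List AP := [⟨[nat_lit 68], [], (nat_lit 122), ⟨[nat_lit 0, nat_lit 35, nat_lit 91], [nat_lit 0, nat_lit 22, nat_lit 58], ⟨[nat_lit 0x4086663d656d4314d0f7959c054264], [nat_lit 175104, nat_lit 171520, nat_lit 167168, nat_lit 161280, nat_lit 159168, nat_lit 153792, nat_lit 149136, nat_lit 146712, nat_lit 140008, nat_lit 135184, nat_lit 132258, nat_lit 606, nat_lit 4684, nat_lit 9480, nat_lit 14112, nat_lit 16448, nat_lit 22464, nat_lit 24704, nat_lit 29952, nat_lit 34304, nat_lit 37888, nat_lit 41795, nat_lit 37366, nat_lit 33521, nat_lit 28692, nat_lit 24584, nat_lit 21022, nat_lit 16395, nat_lit 12293, nat_lit 8201, nat_lit 4112, nat_lit 2]⟩⟩⟩,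
  ⟨[nat_lit 15, nat_lit 39], [], (nat_lit 1032), ⟨[nat_lit 37, nat_lit 60], [nat_lit 0, nat_lit 75, nat_lit 50], ⟨[nat_lit 0xab8e68848b7a937440659cacca09a0], [nat_lit 165632, nat_lit 160896, nat_lit 157376, nat_lit 153568, nat_lit 147776, nat_lit 143960, nat_lit 140416, nat_lit 138702, nat_lit 133099, nat_lit 2, nat_lit 4584, nat_lit 8680, nat_lit 12736, nat_lit 16576, nat_lit 21504, nat_lit 25216, nat_lit 30464, nat_lit 33280, nat_lit 37888, nat_lit 41002, nat_lit 36986, nat_lit 32938, nat_lit 28729, nat_lit 24600, nat_lit 20490, nat_lit 16388, nat_lit 12290, nat_lit 8194, nat_lit 4101]⟩⟩⟩]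
theorem s496 : Suf yT 262144 (ldrop wU 61) (apW dcM p495) (tgtN dcM p495.e) := Suf.fin' (l := l496) (by decide +kernel)
def l495 : List AP := [⟨[nat_lit 660, nat_lit 170], [], (nat_lit 396), ⟨[nat_lit 0, nat_lit 26, nat_lit 90], [nat_lit 0, nat_lit 3, nat_lit 70], ⟨[nat_lit 0x4a804a3172385cdb9ac3455f328a30], [nat_lit 168960, nat_lit 166400, nat_lit 160256, nat_lit 155776, nat_lit 154112, nat_lit 150464, nat_lit 147088, nat_lit 143080, nat_lit 137862, nat_lit 131451, nat_lit 526, nat_lit 4924, nat_lit 8704, nat_lit 14304, nat_lit 16448, nat_lit 22400, nat_lit 29184, nat_lit 33792, nat_lit 41743, nat_lit 37220, nat_lit 33294, nat_lit 28682, nat_lit 24872, nat_lit 20760, nat_lit 16417, nat_lit 12416, nat_lit 8194, nat_lit 16]⟩⟩⟩,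
  ⟨[nat_lit 55, nat_lit 69, nat_lit 66], [], (nat_lit 121), ⟨[nat_lit 0, nat_lit 22, nat_lit 48], [nat_lit 25, nat_lit 90], ⟨[nat_lit 0x4b02642e91912e718ad3780aa73615], [nat_lit 169984, nat_lit 165888, nat_lit 163584, nat_lit 159232, nat_lit 151872, nat_lit 150256, nat_lit 147280, nat_lit 139544, nat_lit 137486, nat_lit 131889, nat_lit 1336, nat_lit 5016, nat_lit 9360, nat_lit 13136, nat_lit 16864, nat_lit 22272, nat_lit 25088, nat_lit 29184, nat_lit 33280, nat_lit 37888, nat_lit 41771, nat_lit 37218, nat_lit 33295, nat_lit 28738, nat_lit 24578, nat_lit 20751, nat_lit 16385, nat_lit 12547, nat_lit 8195]⟩⟩⟩]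
theorem s495 : Suf yT 262144 (ldrop wU 49) (apW dcM p494) (tgtN dcM p494.e) := Suf.seg (l := l495) (by decide +kernel) s496
def l494 : List AP := [⟨[nat_lit 49, nat_lit 67, nat_lit 69, nat_lit 69], [], (nat_lit 1046), ⟨[nat_lit 0, nat_lit 82, nat_lit 65], [nat_lit 88, nat_lit 56], ⟨[nat_lit 0x81ead33e36bc9c400d61409499b285], [nat_lit 174080, nat_lit 170496, nat_lit 166400, nat_lit 160128, nat_lit 159616, nat_lit 154368, nat_lit 148832, nat_lit 146184, nat_lit 140288, nat_lit 135314, nat_lit 132453, nat_lit 718, nat_lit 4380, nat_lit 8728, nat_lit 14304, nat_lit 17312, nat_lit 20608, nat_lit 24832, nat_lit 29952, nat_lit 37888, nat_lit 41684, nat_lit 37256, nat_lit 33286, nat_lit 28995, nat_lit 24718, nat_lit 20495, nat_lit 16386, nat_lit 12289, nat_lit 8225, nat_lit 4100, nat_lit 8]⟩⟩⟩,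
  ⟨[nat_lit 178, nat_lit 218], [], (nat_lit 396), ⟨[nat_lit 0, nat_lit 20, nat_lit 61], [nat_lit 0, nat_lit 76, nat_lit 63], ⟨[nat_lit 0x720018544453ed7932693d2233156d], [nat_lit 175104, nat_lit 171520, nat_lit 165632, nat_lit 161792, nat_lit 158016, nat_lit 154368, nat_lit 148704, nat_lit 145192, nat_lit 140240, nat_lit 137856, nat_lit 133178, nat_lit 566, nat_lit 5900, nat_lit 9296, nat_lit 13312, nat_lit 17216, nat_lit 21504, nat_lit 25472, nat_lit 29184, nat_lit 34304, nat_lit 41637, nat_lit 37265, nat_lit 32975, nat_lit 28677, nat_lit 24597, nat_lit 21534, nat_lit 16422, nat_lit 12304, nat_lit 8193, nat_lit 4097, nat_lit 2]⟩⟩⟩]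
theorem s494 : Suf yT 262144 (ldrop wU 37) (apW dcM p493) (tgtN dcM p493.e) := Suf.seg (l := l494) (by decide +kernel) s495
def l493 : List AP := [⟨[nat_lit 37, nat_lit 15, nat_lit 633, nat_lit 36, nat_lit 630, nat_lit 39], [], (nat_lit 90), ⟨[nat_lit 0, nat_lit 81, nat_lit 54], [nat_lit 0, nat_lit 75, nat_lit 94], ⟨[nat_lit 0x8d2ad7410b49ee161246558451cde0], [nat_lit 173056, nat_lit 165120, nat_lit 160384, nat_lit 159616, nat_lit 153024, nat_lit 147888, nat_lit 143920, nat_lit 140304, nat_lit 135426, nat_lit 132154, nat_lit 64, nat_lit 5476, nat_lit 9920, nat_lit 12352, nat_lit 16544, nat_lit 22336, nat_lit 24704, nat_lit 30208, nat_lit 33792, nat_lit 41177, nat_lit 37312, nat_lit 33280, nat_lit 28676, nat_lit 24606, nat_lit 20493, nat_lit 16462, nat_lit 8226, nat_lit 4101]⟩⟩⟩,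
  ⟨[nat_lit 72, nat_lit 66], [], (nat_lit 126), ⟨[nat_lit 22, nat_lit 69], [nat_lit 31, nat_lit 51], ⟨[nat_lit 0x12ee583c016a1312287465a753ba46], [nat_lit 174080, nat_lit 171520, nat_lit 166656, nat_lit 159872, nat_lit 159360, nat_lit 155232, nat_lit 148896, nat_lit 146768, nat_lit 140412, nat_lit 135292, nat_lit 132650, nat_lit 158, nat_lit 8408, nat_lit 13152, nat_lit 17504, nat_lit 22016, nat_lit 29696, nat_lit 37888, nat_lit 41975, nat_lit 38328, nat_lit 34015, nat_lit 28729, nat_lit 25093, nat_lit 20625, nat_lit 16516, nat_lit 12289, nat_lit 4160, nat_lit 8]⟩⟩⟩]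
theorem s493 : Suf yT 262144 (ldrop wU 31) (apW dcM p492) (tgtN dcM p492.e) := Suf.seg (l := l493) (by decide +kernel) s494
def l492 : List AP := [⟨[], [], (nat_lit 339), ⟨[nat_lit 44, nat_lit 93], [nat_lit 0, nat_lit 17, nat_lit 48], ⟨[nat_lit 0x5b2e64a850a5872890059bdc13d5a8], [nat_lit 175104, nat_lit 171008, nat_lit 166144, nat_lit 160768, nat_lit 156672, nat_lit 151872, nat_lit 149632, nat_lit 143936, nat_lit 139696, nat_lit 137716, nat_lit 134795, nat_lit 1554, nat_lit 5884, nat_lit 8824, nat_lit 13616, nat_lit 17504, nat_lit 20992, nat_lit 24832, nat_lit 29952, nat_lit 33280, nat_lit 41785, nat_lit 38004, nat_lit 33484, nat_lit 28701, nat_lit 24577, nat_lit 21528, nat_lit 16522, nat_lit 12417, nat_lit 8200]⟩⟩⟩,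
  ⟨[], [], (nat_lit 1034), ⟨[nat_lit 6, nat_lit 69], [nat_lit 44, nat_lit 53], ⟨[nat_lit 0x1e2f94ec82b203bb5cba24c40d44a], [nat_lit 171520, nat_lit 164096, nat_lit 160512, nat_lit 158848, nat_lit 151936, nat_lit 148176, nat_lit 145592, nat_lit 141424, nat_lit 137736, nat_lit 134001, nat_lit 1814, nat_lit 4100, nat_lit 9384, nat_lit 13488, nat_lit 16864, nat_lit 21248, nat_lit 25472, nat_lit 29184, nat_lit 33792, nat_lit 37888, nat_lit 41771, nat_lit 37945, nat_lit 33023, nat_lit 28950, nat_lit 24617, nat_lit 20568, nat_lit 16393, nat_lit 12310, nat_lit 4104, nat_lit 2]⟩⟩⟩]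
theorem s492 : Suf yT 262144 (ldrop wU 19) (apW dcM p491) (tgtN dcM p491.e) := Suf.seg (l := l492) (by decide +kernel) s493
def l491 : List AP := [⟨[nat_lit 641, nat_lit 67, nat_lit 55, nat_lit 51], [], (nat_lit 1046), ⟨[nat_lit 0, nat_lit 15, nat_lit 52], [nat_lit 34, nat_lit 65], ⟨[nat_lit 0xac2440d8663ddae2d148132698ac0f], [nat_lit 173056, nat_lit 169984, nat_lit 162816, nat_lit 156480, nat_lit 154560, nat_lit 150944, nat_lit 146928, nat_lit 140760, nat_lit 137202, nat_lit 134696, nat_lit 1488, nat_lit 5640, nat_lit 9752, nat_lit 13664, nat_lit 18368, nat_lit 21760, nat_lit 25472, nat_lit 30464, nat_lit 33280, nat_lit 37888, nat_lit 41671, nat_lit 37089, nat_lit 32777, nat_lit 29191, nat_lit 24751, nat_lit 20639, nat_lit 16399, nat_lit 12289, nat_lit 8208, nat_lit 4101]⟩⟩⟩,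
  ⟨[nat_lit 218], [], (nat_lit 419), ⟨[nat_lit 16, nat_lit 59], [nat_lit 34, nat_lit 70], ⟨[nat_lit 0x8847049d4600a7242ca4756ef65a8d], [nat_lit 174080, nat_lit 165632, nat_lit 163584, nat_lit 155968, nat_lit 152096, nat_lit 150752, nat_lit 145856, nat_lit 141756, nat_lit 137334, nat_lit 133404, nat_lit 460, nat_lit 5488, nat_lit 9040, nat_lit 14128, nat_lit 16480, nat_lit 20544, nat_lit 25600, nat_lit 30208, nat_lit 33792, nat_lit 41532, nat_lit 38288, nat_lit 33535, nat_lit 28778, nat_lit 24611, nat_lit 20483, nat_lit 16395, nat_lit 12293, nat_lit 8194, nat_lit 4097, nat_lit 2]⟩⟩⟩]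
theorem s491 : Suf yT 262144 (ldrop wU 7) (apW dcM p490) (tgtN dcM p490.e) := Suf.seg (l := l491) (by decide +kernel) s492
def l490 : List AP := [⟨[nat_lit 628, nat_lit 624, nat_lit 624, nat_lit 2, nat_lit 10, nat_lit 10], [], (nat_lit 1030), ⟨[nat_lit 0, nat_lit 26, nat_lit 64], [nat_lit 25, nat_lit 56], ⟨[nat_lit 0x3cd6340646116090122ab3dacbd1d5], [nat_lit 164608, nat_lit 159872, nat_lit 156352, nat_lit 153312, nat_lit 148928, nat_lit 144352, nat_lit 141184, nat_lit 137494, nat_lit 131998, nat_lit 1760, nat_lit 6068, nat_lit 10128, nat_lit 13184, nat_lit 17920, nat_lit 21376, nat_lit 25472, nat_lit 30208, nat_lit 41806, nat_lit 38120, nat_lit 33009, nat_lit 28731, nat_lit 24855, nat_lit 20494, nat_lit 16519, nat_lit 12311, nat_lit 8194]⟩⟩⟩,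
  ⟨[nat_lit 630, nat_lit 39, nat_lit 42, nat_lit 36, nat_lit 17], [], (nat_lit 123), ⟨[nat_lit 16, nat_lit 68], [nat_lit 0, nat_lit 22, nat_lit 68], ⟨[nat_lit 0x2b24934dab728f0b8043a06b68bc88], [nat_lit 173056, nat_lit 169984, nat_lit 164352, nat_lit 159872, nat_lit 158400, nat_lit 147568, nat_lit 145928, nat_lit 142140, nat_lit 137560, nat_lit 134153, nat_lit 846, nat_lit 4580, nat_lit 9552, nat_lit 13664, nat_lit 16640, nat_lit 21760, nat_lit 25088, nat_lit 29952, nat_lit 33280, nat_lit 37888, nat_lit 41143, nat_lit 36886, nat_lit 32873, nat_lit 28700, nat_lit 24870, nat_lit 20483, nat_lit 16386, nat_lit 12358, nat_lit 8258, nat_lit 4113]⟩⟩⟩]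
theorem rU6 : Suf yT 262144 wU [yT.get 40] 0 := Suf.seg (l := l490) (by decide +kernel) s491

def p497 : AP := ⟨[nat_lit 72, nat_lit 66], [], (nat_lit 126), ⟨[nat_lit 0, nat_lit 5, nat_lit 89], [nat_lit 35, nat_lit 53], ⟨[nat_lit 0x34049259c79c68d5dd8a920a11d5e0], [nat_lit 173056, nat_lit 170496, nat_lit 165376, nat_lit 163072, nat_lit 156416, nat_lit 155456, nat_lit 150832, nat_lit 146320, nat_lit 140496, nat_lit 135512, nat_lit 134708, nat_lit 1896, nat_lit 5856, nat_lit 9288, nat_lit 13776, nat_lit 17184, nat_lit 22336, nat_lit 26496, nat_lit 28928, nat_lit 33792, nat_lit 41393, nat_lit 37213, nat_lit 32890, nat_lit 29696, nat_lit 24836, nat_lit 20495, nat_lit 16387, nat_lit 12289, nat_lit 8225, nat_lit 4101, nat_lit 2]⟩⟩⟩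
def p498 : AP := ⟨[nat_lit 53, nat_lit 640, nat_lit 641], [], (nat_lit 121), ⟨[nat_lit 31, nat_lit 67], [nat_lit 0, nat_lit 73, nat_lit 62], ⟨[nat_lit 0xbaa84621e6b064d58865a822e84d27], [nat_lit 168960, nat_lit 167424, nat_lit 160512, nat_lit 156224, nat_lit 153472, nat_lit 147600, nat_lit 145368, nat_lit 139332, nat_lit 135784, nat_lit 131782, nat_lit 1438, nat_lit 5316, nat_lit 8288, nat_lit 14112, nat_lit 18112, nat_lit 22080, nat_lit 25600, nat_lit 29184, nat_lit 33280, nat_lit 37888, nat_lit 41979, nat_lit 37192, nat_lit 32896, nat_lit 28928, nat_lit 25096, nat_lit 21515, nat_lit 16388, nat_lit 12800, nat_lit 8209]⟩⟩⟩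
def p499 : AP := ⟨[nat_lit 27, nat_lit 31, nat_lit 27, nat_lit 21, nat_lit 24, nat_lit 24], [], (nat_lit 338), ⟨[nat_lit 0, nat_lit 19, nat_lit 66], [nat_lit 0, nat_lit 40, nat_lit 70], ⟨[nat_lit 0xb1928b958e1b5707c44a3803525253], [nat_lit 165120, nat_lit 162048, nat_lit 152128, nat_lit 147920, nat_lit 145176, nat_lit 141168, nat_lit 136812, nat_lit 131244, nat_lit 718, nat_lit 9224, nat_lit 13216, nat_lit 16416, nat_lit 20736, nat_lit 24960, nat_lit 41927, nat_lit 37969, nat_lit 33013, nat_lit 28674, nat_lit 24841, nat_lit 20572, nat_lit 16457, nat_lit 12356, nat_lit 8209, nat_lit 4224]⟩⟩⟩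
def p500 : AP := ⟨[nat_lit 176, nat_lit 660], [], (nat_lit 396), ⟨[nat_lit 0, nat_lit 78, nat_lit 89], [nat_lit 0, nat_lit 87, nat_lit 62], ⟨[nat_lit 0x652045dea1509cd04e28b1df2198a9], [nat_lit 174080, nat_lit 168448, nat_lit 165120, nat_lit 160128, nat_lit 158848, nat_lit 153728, nat_lit 150384, nat_lit 144392, nat_lit 143128, nat_lit 135404, nat_lit 134611, nat_lit 434, nat_lit 5444, nat_lit 8512, nat_lit 12416, nat_lit 22464, nat_lit 25344, nat_lit 37888, nat_lit 41902, nat_lit 38268, nat_lit 32899, nat_lit 28715, nat_lit 25111, nat_lit 20632, nat_lit 16416, nat_lit 12291, nat_lit 8258, nat_lit 4097]⟩⟩⟩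
def p501 : AP := ⟨[nat_lit 50], [], (nat_lit 1046), ⟨[nat_lit 82], [nat_lit 16, nat_lit 90], ⟨[nat_lit 0x71a07b2444bc68c19515901e15aa6d], [nat_lit 174080, nat_lit 169472, nat_lit 167168, nat_lit 161792, nat_lit 157888, nat_lit 152544, nat_lit 148800, nat_lit 144456, nat_lit 141708, nat_lit 139230, nat_lit 132987, nat_lit 1066, nat_lit 5024, nat_lit 9560, nat_lit 13264, nat_lit 17792, nat_lit 22016, nat_lit 25344, nat_lit 29184, nat_lit 41781, nat_lit 37218, nat_lit 32887, nat_lit 28758, nat_lit 24638, nat_lit 20557, nat_lit 16431, nat_lit 12304, nat_lit 8195, nat_lit 4097]⟩⟩⟩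
def p502 : AP := ⟨[nat_lit 660, nat_lit 170], [], (nat_lit 392), ⟨[nat_lit 0, nat_lit 13, nat_lit 54], [nat_lit 0, nat_lit 39, nat_lit 55], ⟨[nat_lit 0xb25ca6c2371cce80acd22928f60815], [nat_lit 173056, nat_lit 168448, nat_lit 159872, nat_lit 159488, nat_lit 153440, nat_lit 148576, nat_lit 144448, nat_lit 140652, nat_lit 136306, nat_lit 131892, nat_lit 1698, nat_lit 5856, nat_lit 8256, nat_lit 14288, nat_lit 16608, nat_lit 20800, nat_lit 25728, nat_lit 29952, nat_lit 41328, nat_lit 37312, nat_lit 32960, nat_lit 29024, nat_lit 24599, nat_lit 20625, nat_lit 16392, nat_lit 12294, nat_lit 4097]⟩⟩⟩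
def l503 : List AP := [⟨[], [], (nat_lit 339), ⟨[nat_lit 6, nat_lit 50], [nat_lit 0, nat_lit 2, nat_lit 46], ⟨[nat_lit 0x81eaf609cb35a2d9c86a090a9052e8], [nat_lit 168448, nat_lit 160384, nat_lit 157120, nat_lit 151648, nat_lit 148688, nat_lit 143640, nat_lit 142000, nat_lit 136084, nat_lit 132499, nat_lit 1396, nat_lit 5316, nat_lit 8224, nat_lit 12848, nat_lit 17472, nat_lit 20736, nat_lit 26240, nat_lit 28928, nat_lit 34304, nat_lit 37888, nat_lit 41716, nat_lit 38020, nat_lit 32903, nat_lit 28708, nat_lit 25114, nat_lit 20508, nat_lit 16426, nat_lit 12325, nat_lit 4113, nat_lit 2]⟩⟩⟩,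
  ⟨[], [], (nat_lit 1034), ⟨[nat_lit 85, nat_lit 58], [nat_lit 0, nat_lit 4, nat_lit 61], ⟨[nat_lit 0xc6e3281aa7560f34c944d91259c4c], [nat_lit 168448, nat_lit 164352, nat_lit 160768, nat_lit 157120, nat_lit 151648, nat_lit 148928, nat_lit 145016, nat_lit 139448, nat_lit 137086, nat_lit 134685, nat_lit 318, nat_lit 4408, nat_lit 9632, nat_lit 13024, nat_lit 17888, nat_lit 21440, nat_lit 25728, nat_lit 29440, nat_lit 34304, nat_lit 41976, nat_lit 37100, nat_lit 33919, nat_lit 28775, nat_lit 24586, nat_lit 20616, nat_lit 17423, nat_lit 12322, nat_lit 8194, nat_lit 4097]⟩⟩⟩]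
theorem s503 : Suf yT 524288 (ldrop wU 61) (apW dcM p502) (tgtN dcM p502.e) := Suf.fin' (l := l503) (by decide +kernel)
def l502 : List AP := [⟨[nat_lit 659], [], (nat_lit 418), ⟨[nat_lit 33, nat_lit 50], [nat_lit 25, nat_lit 65], ⟨[nat_lit 0x8c102d9c914672aada7a11ea322ec], [nat_lit 173056, nat_lit 171008, nat_lit 164864, nat_lit 161792, nat_lit 156864, nat_lit 154880, nat_lit 151248, nat_lit 147048, nat_lit 140312, nat_lit 135706, nat_lit 135154, nat_lit 902, nat_lit 5872, nat_lit 9928, nat_lit 13904, nat_lit 17696, nat_lit 21440, nat_lit 24832, nat_lit 28928, nat_lit 41975, nat_lit 37916, nat_lit 32846, nat_lit 29300, nat_lit 24617, nat_lit 20558, nat_lit 16517, nat_lit 12309, nat_lit 8195, nat_lit 4101]⟩⟩⟩,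
  ⟨[nat_lit 662, nat_lit 218, nat_lit 170], [], (nat_lit 418), ⟨[nat_lit 0, nat_lit 24, nat_lit 66], [nat_lit 34, nat_lit 69], ⟨[nat_lit 0xbbd13745342061219ad512cea2b00d], [nat_lit 173056, nat_lit 170496, nat_lit 164608, nat_lit 160512, nat_lit 157248, nat_lit 152224, nat_lit 149088, nat_lit 145144, nat_lit 140376, nat_lit 137188, nat_lit 131204, nat_lit 1004, nat_lit 4816, nat_lit 8680, nat_lit 13936, nat_lit 17568, nat_lit 22464, nat_lit 25984, nat_lit 29952, nat_lit 33792, nat_lit 41050, nat_lit 37262, nat_lit 32919, nat_lit 28771, nat_lit 24608, nat_lit 20563, nat_lit 16420, nat_lit 12806, nat_lit 8194, nat_lit 4101]⟩⟩⟩]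
theorem s502 : Suf yT 524288 (ldrop wU 49) (apW dcM p501) (tgtN dcM p501.e) := Suf.seg (l := l502) (by decide +kernel) s503
def l501 : List AP := [⟨[nat_lit 72, nat_lit 54, nat_lit 69, nat_lit 642], [], (nat_lit 1046), ⟨[nat_lit 56], [nat_lit 0, nat_lit 34, nat_lit 64], ⟨[nat_lit 0x4442e180f465c8d12e4f2aaa999ad0], [nat_lit 173056, nat_lit 168448, nat_lit 164096, nat_lit 160896, nat_lit 157248, nat_lit 152544, nat_lit 143784, nat_lit 139356, nat_lit 136286, nat_lit 134997, nat_lit 64, nat_lit 4340, nat_lit 9136, nat_lit 12976, nat_lit 17760, nat_lit 21504, nat_lit 25600, nat_lit 28928, nat_lit 37888, nat_lit 41270, nat_lit 37050, nat_lit 33017, nat_lit 28710, nat_lit 24609, nat_lit 20548, nat_lit 16387, nat_lit 12290, nat_lit 8224, nat_lit 4104]⟩⟩⟩,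
  ⟨[nat_lit 219, nat_lit 212], [], (nat_lit 396), ⟨[nat_lit 77, nat_lit 47], [nat_lit 0, nat_lit 38, nat_lit 57], ⟨[nat_lit 0x71a07b2444bc68c19515901e15aa6d], [nat_lit 174080, nat_lit 169472, nat_lit 167168, nat_lit 161792, nat_lit 157824, nat_lit 152512, nat_lit 148800, nat_lit 144448, nat_lit 141704, nat_lit 139230, nat_lit 132987, nat_lit 1066, nat_lit 5024, nat_lit 9560, nat_lit 13264, nat_lit 17792, nat_lit 22016, nat_lit 25344, nat_lit 29184, nat_lit 41781, nat_lit 37218, nat_lit 32887, nat_lit 28758, nat_lit 24638, nat_lit 20557, nat_lit 16431, nat_lit 12304, nat_lit 8195, nat_lit 4097]⟩⟩⟩]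
theorem s501 : Suf yT 524288 (ldrop wU 37) (apW dcM p500) (tgtN dcM p500.e) := Suf.seg (l := l501) (by decide +kernel) s502
def l500 : List AP := [⟨[nat_lit 216, nat_lit 177, nat_lit 173], [], (nat_lit 396), ⟨[nat_lit 15, nat_lit 67], [nat_lit 0, nat_lit 87, nat_lit 49], ⟨[nat_lit 0x6c10f35c4e914eb48620a4ecaa8d84], [nat_lit 174080, nat_lit 164608, nat_lit 161024, nat_lit 159424, nat_lit 155488, nat_lit 150672, nat_lit 143600, nat_lit 142000, nat_lit 135846, nat_lit 134831, nat_lit 1124, nat_lit 4396, nat_lit 10168, nat_lit 13232, nat_lit 16864, nat_lit 22336, nat_lit 25728, nat_lit 41406, nat_lit 37053, nat_lit 32924, nat_lit 28692, nat_lit 24621, nat_lit 20548, nat_lit 16394, nat_lit 12290, nat_lit 8256, nat_lit 4097]⟩⟩⟩,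
  ⟨[nat_lit 50], [], (nat_lit 1046), ⟨[nat_lit 0, nat_lit 32, nat_lit 47], [nat_lit 0, nat_lit 37, nat_lit 93], ⟨[nat_lit 0x6c10f35c4e914eb48620a4ecaa8d84], [nat_lit 175104, nat_lit 164608, nat_lit 161024, nat_lit 159424, nat_lit 155488, nat_lit 150672, nat_lit 143600, nat_lit 142004, nat_lit 135844, nat_lit 134830, nat_lit 1124, nat_lit 4396, nat_lit 10168, nat_lit 13232, nat_lit 16864, nat_lit 22336, nat_lit 25728, nat_lit 41406, nat_lit 37053, nat_lit 32924, nat_lit 28692, nat_lit 24621, nat_lit 20548, nat_lit 16394, nat_lit 12290, nat_lit 8256, nat_lit 4097]⟩⟩⟩]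
theorem s500 : Suf yT 524288 (ldrop wU 31) (apW dcM p499) (tgtN dcM p499.e) := Suf.seg (l := l500) (by decide +kernel) s501
def l499 : List AP := [⟨[nat_lit 50], [], (nat_lit 120), ⟨[nat_lit 16, nat_lit 89], [nat_lit 0, nat_lit 86, nat_lit 54], ⟨[nat_lit 0xbaa84621e6b064d58865a822e84d27], [nat_lit 173056, nat_lit 168960, nat_lit 167680, nat_lit 160640, nat_lit 156160, nat_lit 153504, nat_lit 147584, nat_lit 145360, nat_lit 139332, nat_lit 135784, nat_lit 131782, nat_lit 1438, nat_lit 5316, nat_lit 8288, nat_lit 14112, nat_lit 18112, nat_lit 22080, nat_lit 25600, nat_lit 29184, nat_lit 33280, nat_lit 37888, nat_lit 41979, nat_lit 37192, nat_lit 32896, nat_lit 28928, nat_lit 25096, nat_lit 21515, nat_lit 16388, nat_lit 12800, nat_lit 8209]⟩⟩⟩,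
  ⟨[nat_lit 55, nat_lit 49], [], (nat_lit 1038), ⟨[nat_lit 75, nat_lit 70], [nat_lit 0, nat_lit 7, nat_lit 57], ⟨[nat_lit 0x55517945af4ae96090e32984064dd0], [nat_lit 173056, nat_lit 171008, nat_lit 165376, nat_lit 160000, nat_lit 156096, nat_lit 152416, nat_lit 148880, nat_lit 144792, nat_lit 140196, nat_lit 135706, nat_lit 131783, nat_lit 526, nat_lit 5768, nat_lit 10224, nat_lit 14112, nat_lit 16736, nat_lit 22144, nat_lit 25088, nat_lit 29696, nat_lit 34304, nat_lit 41472, nat_lit 36939, nat_lit 32936, nat_lit 28692, nat_lit 24584, nat_lit 20763, nat_lit 16391, nat_lit 12358, nat_lit 8203, nat_lit 4104, nat_lit 4]⟩⟩⟩]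
theorem s499 : Suf yT 524288 (ldrop wU 19) (apW dcM p498) (tgtN dcM p498.e) := Suf.seg (l := l499) (by decide +kernel) s500
def l498 : List AP := [⟨[nat_lit 71, nat_lit 54, nat_lit 72, nat_lit 50], [], (nat_lit 1046), ⟨[nat_lit 0, nat_lit 77, nat_lit 46], [nat_lit 0, nat_lit 13, nat_lit 90], ⟨[nat_lit 0x9dd4e4321578c8d4940bb08d438651], [nat_lit 173056, nat_lit 168448, nat_lit 166912, nat_lit 161664, nat_lit 157440, nat_lit 155488, nat_lit 151216, nat_lit 146256, nat_lit 141744, nat_lit 138532, nat_lit 131745, nat_lit 1694, nat_lit 4412, nat_lit 8504, nat_lit 13440, nat_lit 18272, nat_lit 20992, nat_lit 24832, nat_lit 30464, nat_lit 33280, nat_lit 41182, nat_lit 37186, nat_lit 33406, nat_lit 29788, nat_lit 24583, nat_lit 20754, nat_lit 16654, nat_lit 12325, nat_lit 8]⟩⟩⟩,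
  ⟨[nat_lit 170, nat_lit 659], [], (nat_lit 396), ⟨[nat_lit 14, nat_lit 53], [nat_lit 19, nat_lit 59], ⟨[nat_lit 0xa24c41b0b0badaea854201e2f45a72], [nat_lit 173056, nat_lit 168960, nat_lit 167424, nat_lit 161664, nat_lit 156672, nat_lit 153824, nat_lit 150048, nat_lit 147184, nat_lit 142748, nat_lit 138894, nat_lit 132968, nat_lit 590, nat_lit 4412, nat_lit 8648, nat_lit 13920, nat_lit 16640, nat_lit 22144, nat_lit 29184, nat_lit 41427, nat_lit 36994, nat_lit 32814, nat_lit 29184, nat_lit 24578, nat_lit 20764, nat_lit 16424, nat_lit 12304, nat_lit 8451, nat_lit 4097, nat_lit 2]⟩⟩⟩]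
theorem s498 : Suf yT 524288 (ldrop wU 7) (apW dcM p497) (tgtN dcM p497.e) := Suf.seg (l := l498) (by decide +kernel) s499
def l497 : List AP := [⟨[nat_lit 4, nat_lit 3, nat_lit 5, nat_lit 625, nat_lit 3, nat_lit 0], [], (nat_lit 26), ⟨[nat_lit 10, nat_lit 46], [nat_lit 0, nat_lit 27, nat_lit 62], ⟨[nat_lit 0xbd0903cd2a908062b5f162ea1459c3], [nat_lit 173056, nat_lit 169984, nat_lit 165376, nat_lit 161408, nat_lit 157696, nat_lit 153152, nat_lit 148912, nat_lit 145912, nat_lit 142320, nat_lit 138746, nat_lit 133760, nat_lit 582, nat_lit 5960, nat_lit 10168, nat_lit 12544, nat_lit 17472, nat_lit 21376, nat_lit 24832, nat_lit 29696, nat_lit 33280, nat_lit 37888, nat_lit 41179, nat_lit 37119, nat_lit 32777, nat_lit 29227, nat_lit 24612, nat_lit 20557, nat_lit 16519, nat_lit 12289, nat_lit 8194, nat_lit 4101]⟩⟩⟩,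
  ⟨[nat_lit 17, nat_lit 16, nat_lit 39, nat_lit 42, nat_lit 633, nat_lit 15], [], (nat_lit 90), ⟨[nat_lit 0, nat_lit 80, nat_lit 59], [nat_lit 0, nat_lit 87, nat_lit 48], ⟨[nat_lit 0x3a3765a63104c9a554479dab91608], [nat_lit 171520, nat_lit 164096, nat_lit 162432, nat_lit 157312, nat_lit 154336, nat_lit 149824, nat_lit 146720, nat_lit 141168, nat_lit 136346, nat_lit 135017, nat_lit 952, nat_lit 5016, nat_lit 10056, nat_lit 17728, nat_lit 21888, nat_lit 33792, nat_lit 37888, nat_lit 41526, nat_lit 38288, nat_lit 33527, nat_lit 29306, nat_lit 24725, nat_lit 20994, nat_lit 16527, nat_lit 12352, nat_lit 8225, nat_lit 4112]⟩⟩⟩]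
theorem rU7 : Suf yT 524288 wU [yT.get 41] 0 := Suf.seg (l := l497) (by decide +kernel) s498

def p504 : AP := ⟨[], [], (nat_lit 393), ⟨[nat_lit 0, nat_lit 27, nat_lit 65], [nat_lit 0, nat_lit 28, nat_lit 52], ⟨[nat_lit 0xb36131b855a21ea28171904e9610d7], [nat_lit 174080, nat_lit 169984, nat_lit 167680, nat_lit 162048, nat_lit 156096, nat_lit 153664, nat_lit 150960, nat_lit 144320, nat_lit 142352, nat_lit 136078, nat_lit 131297, nat_lit 960, nat_lit 5436, nat_lit 10144, nat_lit 13552, nat_lit 17408, nat_lit 21632, nat_lit 26368, nat_lit 29952, nat_lit 37888, nat_lit 41210, nat_lit 37168, nat_lit 33316, nat_lit 28791, nat_lit 24603, nat_lit 20487, nat_lit 16398, nat_lit 12304, nat_lit 4104]⟩⟩⟩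
def p505 : AP := ⟨[nat_lit 70, nat_lit 56, nat_lit 53, nat_lit 50], [], (nat_lit 120), ⟨[nat_lit 0, nat_lit 19, nat_lit 65], [nat_lit 0, nat_lit 6, nat_lit 46], ⟨[nat_lit 0x340034bc5592caa734913da9362037], [nat_lit 174080, nat_lit 171008, nat_lit 166912, nat_lit 161664, nat_lit 158656, nat_lit 155552, nat_lit 148000, nat_lit 146184, nat_lit 139556, nat_lit 136786, nat_lit 132987, nat_lit 796, nat_lit 5992, nat_lit 10064, nat_lit 13920, nat_lit 16704, nat_lit 22336, nat_lit 25728, nat_lit 29184, nat_lit 33280, nat_lit 41853, nat_lit 37985, nat_lit 32776, nat_lit 28776, nat_lit 24591, nat_lit 16387, nat_lit 12294, nat_lit 8202]⟩⟩⟩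
def p506 : AP := ⟨[nat_lit 26, nat_lit 636, nat_lit 638, nat_lit 637, nat_lit 635, nat_lit 27], [], (nat_lit 338), ⟨[nat_lit 40, nat_lit 66], [nat_lit 0, nat_lit 29, nat_lit 90], ⟨[nat_lit 0x8ce48b99824aa0b7d8e0a906e69434], [nat_lit 174080, nat_lit 164864, nat_lit 160128, nat_lit 151712, nat_lit 147648, nat_lit 143784, nat_lit 140824, nat_lit 136484, nat_lit 132372, nat_lit 460, nat_lit 5120, nat_lit 10032, nat_lit 12320, nat_lit 18336, nat_lit 20736, nat_lit 24704, nat_lit 28928, nat_lit 33792, nat_lit 41904, nat_lit 37166, nat_lit 33021, nat_lit 29013, nat_lit 24873, nat_lit 20616, nat_lit 16448, nat_lit 12417, nat_lit 8208, nat_lit 8]⟩⟩⟩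
def p507 : AP := ⟨[nat_lit 641, nat_lit 643, nat_lit 70, nat_lit 48], [], (nat_lit 120), ⟨[nat_lit 0, nat_lit 38, nat_lit 94], [nat_lit 80, nat_lit 55], ⟨[nat_lit 0x23c3553a4c680d75cc62b22342a607], [nat_lit 174080, nat_lit 171008, nat_lit 166656, nat_lit 162304, nat_lit 156160, nat_lit 154848, nat_lit 150656, nat_lit 144528, nat_lit 141756, nat_lit 137008, nat_lit 132238, nat_lit 810, nat_lit 5508, nat_lit 10224, nat_lit 13632, nat_lit 16832, nat_lit 20608, nat_lit 24704, nat_lit 29184, nat_lit 33792, nat_lit 41924, nat_lit 37060, nat_lit 33972, nat_lit 28740, nat_lit 24638, nat_lit 20563, nat_lit 16458, nat_lit 12321, nat_lit 8194, nat_lit 4100]⟩⟩⟩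
def p508 : AP := ⟨[nat_lit 641, nat_lit 46, nat_lit 54], [], (nat_lit 121), ⟨[nat_lit 0, nat_lit 80, nat_lit 56], [nat_lit 0, nat_lit 87, nat_lit 64], ⟨[nat_lit 0xacdc17a1a78b282940ab25ae950066], [nat_lit 168448, nat_lit 166912, nat_lit 160256, nat_lit 156480, nat_lit 151808, nat_lit 148160, nat_lit 144984, nat_lit 139900, nat_lit 136530, nat_lit 132924, nat_lit 1024, nat_lit 4888, nat_lit 8920, nat_lit 12544, nat_lit 17920, nat_lit 22400, nat_lit 26368, nat_lit 29440, nat_lit 33792, nat_lit 37888, nat_lit 41785, nat_lit 38284, nat_lit 32962, nat_lit 29039, nat_lit 24607, nat_lit 20631, nat_lit 16428, nat_lit 12291, nat_lit 8211, nat_lit 4105, nat_lit 4]⟩⟩⟩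
def p509 : AP := ⟨[nat_lit 54], [], (nat_lit 127), ⟨[nat_lit 29, nat_lit 60], [nat_lit 27, nat_lit 61], ⟨[nat_lit 0x190348cee6909882d5cd49d767c140], [nat_lit 173056, nat_lit 171520, nat_lit 165120, nat_lit 160640, nat_lit 159168, nat_lit 152832, nat_lit 148352, nat_lit 146088, nat_lit 143280, nat_lit 138080, nat_lit 134215, nat_lit 64, nat_lit 5904, nat_lit 9560, nat_lit 14112, nat_lit 17792, nat_lit 20544, nat_lit 25600, nat_lit 30464, nat_lit 33792, nat_lit 37888, nat_lit 41808, nat_lit 36874, nat_lit 32882, nat_lit 28781, nat_lit 24583, nat_lit 20487, nat_lit 16398, nat_lit 12295, nat_lit 8195, nat_lit 4101, nat_lit 4]⟩⟩⟩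
def l510 : List AP := [⟨[nat_lit 67, nat_lit 51], [], (nat_lit 122), ⟨[nat_lit 0, nat_lit 17, nat_lit 64], [nat_lit 19, nat_lit 66], ⟨[nat_lit 0x425408dd87992af33a900ac43959a5], [nat_lit 175104, nat_lit 168960, nat_lit 165632, nat_lit 159872, nat_lit 158656, nat_lit 155040, nat_lit 149520, nat_lit 143552, nat_lit 142380, nat_lit 135964, nat_lit 133637, nat_lit 1268, nat_lit 5488, nat_lit 9928, nat_lit 16928, nat_lit 22272, nat_lit 26240, nat_lit 34304, nat_lit 41771, nat_lit 36871, nat_lit 33898, nat_lit 28749, nat_lit 24759, nat_lit 20550, nat_lit 16421, nat_lit 12304, nat_lit 4160]⟩⟩⟩,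
  ⟨[nat_lit 39, nat_lit 17, nat_lit 36], [], (nat_lit 1032), ⟨[nat_lit 0, nat_lit 36, nat_lit 70], [nat_lit 0, nat_lit 41, nat_lit 52], ⟨[nat_lit 0x2542834cac6c96951c778be9600a0e], [nat_lit 173056, nat_lit 171008, nat_lit 165376, nat_lit 160128, nat_lit 158016, nat_lit 151968, nat_lit 147840, nat_lit 147064, nat_lit 142792, nat_lit 138880, nat_lit 134969, nat_lit 1530, nat_lit 5560, nat_lit 8256, nat_lit 12976, nat_lit 18336, nat_lit 20736, nat_lit 25984, nat_lit 29696, nat_lit 34304, nat_lit 41261, nat_lit 37205, nat_lit 32898, nat_lit 28789, nat_lit 24742, nat_lit 20608, nat_lit 16398, nat_lit 12304, nat_lit 8203, nat_lit 4105]⟩⟩⟩]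
theorem s510 : Suf yT 1048576 (ldrop wU 61) (apW dcM p509) (tgtN dcM p509.e) := Suf.fin' (l := l510) (by decide +kernel)
def l509 : List AP := [⟨[nat_lit 48, nat_lit 52, nat_lit 70, nat_lit 47], [], (nat_lit 120), ⟨[nat_lit 0, nat_lit 26, nat_lit 48], [nat_lit 0, nat_lit 1, nat_lit 57], ⟨[nat_lit 0x15c26b11689c2a750e4f0452e69594], [nat_lit 168960, nat_lit 160256, nat_lit 157248, nat_lit 152096, nat_lit 149936, nat_lit 144912, nat_lit 140536, nat_lit 135430, nat_lit 460, nat_lit 4396, nat_lit 10032, nat_lit 13504, nat_lit 16512, nat_lit 21504, nat_lit 25728, nat_lit 29696, nat_lit 34304, nat_lit 41616, nat_lit 37334, nat_lit 32824, nat_lit 28730, nat_lit 25094, nat_lit 20618, nat_lit 16388, nat_lit 12419, nat_lit 8208, nat_lit 8]⟩⟩⟩,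
  ⟨[nat_lit 53, nat_lit 641, nat_lit 640, nat_lit 48], [], (nat_lit 120), ⟨[nat_lit 0, nat_lit 23, nat_lit 66], [nat_lit 0, nat_lit 20, nat_lit 90], ⟨[nat_lit 0x839b733c48912a79841461563b2a29], [nat_lit 174080, nat_lit 171008, nat_lit 166144, nat_lit 160512, nat_lit 159104, nat_lit 155296, nat_lit 147600, nat_lit 146264, nat_lit 139768, nat_lit 136660, nat_lit 132559, nat_lit 724, nat_lit 6084, nat_lit 8808, nat_lit 13664, nat_lit 17152, nat_lit 21632, nat_lit 24704, nat_lit 29952, nat_lit 33280, nat_lit 37888, nat_lit 41352, nat_lit 37124, nat_lit 32936, nat_lit 29014, nat_lit 24758, nat_lit 20489, nat_lit 16526, nat_lit 12293, nat_lit 8202, nat_lit 4101, nat_lit 4]⟩⟩⟩]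
theorem s509 : Suf yT 1048576 (ldrop wU 49) (apW dcM p508) (tgtN dcM p508.e) := Suf.seg (l := l509) (by decide +kernel) s510
def l508 : List AP := [⟨[nat_lit 47, nat_lit 57, nat_lit 66, nat_lit 47], [], (nat_lit 120), ⟨[nat_lit 13, nat_lit 64], [nat_lit 22, nat_lit 62], ⟨[nat_lit 0x2ba466446158ae754d0f20135b41b4], [nat_lit 173056, nat_lit 170496, nat_lit 165632, nat_lit 161152, nat_lit 156160, nat_lit 152224, nat_lit 145024, nat_lit 140804, nat_lit 135590, nat_lit 132527, nat_lit 460, nat_lit 5900, nat_lit 9008, nat_lit 13424, nat_lit 18048, nat_lit 21504, nat_lit 25088, nat_lit 28928, nat_lit 37888, nat_lit 41357, nat_lit 37368, nat_lit 33376, nat_lit 28962, nat_lit 24590, nat_lit 20634, nat_lit 16521, nat_lit 12355, nat_lit 8201, nat_lit 4112, nat_lit 2]⟩⟩⟩,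
  ⟨[nat_lit 643, nat_lit 56, nat_lit 641, nat_lit 54], [], (nat_lit 120), ⟨[nat_lit 1, nat_lit 65], [nat_lit 30, nat_lit 52], ⟨[nat_lit 0x311f64b1751b45401608984ea74657], [nat_lit 167680, nat_lit 161408, nat_lit 156416, nat_lit 153824, nat_lit 149584, nat_lit 147384, nat_lit 142864, nat_lit 138792, nat_lit 131487, nat_lit 1354, nat_lit 4412, nat_lit 9648, nat_lit 12368, nat_lit 16864, nat_lit 21248, nat_lit 25856, nat_lit 30464, nat_lit 41532, nat_lit 37044, nat_lit 32770, nat_lit 29267, nat_lit 24764, nat_lit 20493, nat_lit 16448, nat_lit 12309, nat_lit 8200]⟩⟩⟩]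
theorem s508 : Suf yT 1048576 (ldrop wU 37) (apW dcM p507) (tgtN dcM p507.e) := Suf.seg (l := l508) (by decide +kernel) s509
def l507 : List AP := [⟨[nat_lit 218, nat_lit 213, nat_lit 177], [], (nat_lit 418), ⟨[nat_lit 86, nat_lit 59], [nat_lit 0, nat_lit 11, nat_lit 62], ⟨[nat_lit 0x835e931152a3867885002b2c25d6f3], [nat_lit 164352, nat_lit 161408, nat_lit 157184, nat_lit 152000, nat_lit 151296, nat_lit 144784, nat_lit 139844, nat_lit 136898, nat_lit 131519, nat_lit 606, nat_lit 5688, nat_lit 9384, nat_lit 12608, nat_lit 17888, nat_lit 21120, nat_lit 26368, nat_lit 30464, nat_lit 41758, nat_lit 38155, nat_lit 34017, nat_lit 28775, nat_lit 24624, nat_lit 20566, nat_lit 16396, nat_lit 12310, nat_lit 8193, nat_lit 4097]⟩⟩⟩,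
  ⟨[nat_lit 179, nat_lit 216], [], (nat_lit 396), ⟨[nat_lit 41, nat_lit 54], [nat_lit 1, nat_lit 92], ⟨[nat_lit 0x7150264aad5c156481e71cee189a84], [nat_lit 173056, nat_lit 164096, nat_lit 160256, nat_lit 157248, nat_lit 153152, nat_lit 148592, nat_lit 144008, nat_lit 139892, nat_lit 136160, nat_lit 132867, nat_lit 508, nat_lit 4128, nat_lit 9216, nat_lit 14208, nat_lit 16416, nat_lit 21504, nat_lit 24832, nat_lit 30208, nat_lit 33792, nat_lit 41395, nat_lit 37023, nat_lit 34032, nat_lit 29206, nat_lit 24882, nat_lit 20565, nat_lit 16451, nat_lit 12417, nat_lit 8224, nat_lit 4112, nat_lit 64]⟩⟩⟩]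
theorem s507 : Suf yT 1048576 (ldrop wU 31) (apW dcM p506) (tgtN dcM p506.e) := Suf.seg (l := l507) (by decide +kernel) s508
def l506 : List AP := [⟨[nat_lit 641, nat_lit 46, nat_lit 54], [], (nat_lit 121), ⟨[nat_lit 86, nat_lit 57], [nat_lit 0, nat_lit 81, nat_lit 92], ⟨[nat_lit 0xa96517ba871b60953260b844442ec6], [nat_lit 174080, nat_lit 171008, nat_lit 166912, nat_lit 161920, nat_lit 155712, nat_lit 154784, nat_lit 150112, nat_lit 144000, nat_lit 142596, nat_lit 136966, nat_lit 131732, nat_lit 1720, nat_lit 6104, nat_lit 9136, nat_lit 14144, nat_lit 17408, nat_lit 21888, nat_lit 24832, nat_lit 30464, nat_lit 33792, nat_lit 37888, nat_lit 41886, nat_lit 37028, nat_lit 32893, nat_lit 29204, nat_lit 24886, nat_lit 20628, nat_lit 16388, nat_lit 12359, nat_lit 8194, nat_lit 4101, nat_lit 2]⟩⟩⟩,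
  ⟨[nat_lit 49], [], (nat_lit 1038), ⟨[nat_lit 73, nat_lit 56], [nat_lit 0, nat_lit 12, nat_lit 51], ⟨[nat_lit 0xa56c97cce25dd480c98530e2e811a0], [nat_lit 171520, nat_lit 165632, nat_lit 160128, nat_lit 158400, nat_lit 152832, nat_lit 148096, nat_lit 146184, nat_lit 141704, nat_lit 139156, nat_lit 133655, nat_lit 16, nat_lit 5024, nat_lit 8680, nat_lit 13840, nat_lit 16448, nat_lit 22080, nat_lit 25472, nat_lit 28928, nat_lit 33280, nat_lit 41487, nat_lit 38303, nat_lit 32855, nat_lit 28759, nat_lit 24764, nat_lit 20546, nat_lit 16395, nat_lit 12308, nat_lit 8195, nat_lit 4]⟩⟩⟩]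
theorem s506 : Suf yT 1048576 (ldrop wU 19) (apW dcM p505) (tgtN dcM p505.e) := Suf.seg (l := l506) (by decide +kernel) s507
def l505 : List AP := [⟨[nat_lit 216, nat_lit 662], [], (nat_lit 396), ⟨[nat_lit 8, nat_lit 66], [nat_lit 0, nat_lit 28, nat_lit 56], ⟨[nat_lit 0xa1e6412d86b45cd542e99542078ca8], [nat_lit 173056, nat_lit 169984, nat_lit 166656, nat_lit 162944, nat_lit 158656, nat_lit 153152, nat_lit 149872, nat_lit 146592, nat_lit 141028, nat_lit 138252, nat_lit 132818, nat_lit 256, nat_lit 4952, nat_lit 9872, nat_lit 14304, nat_lit 16640, nat_lit 21632, nat_lit 26368, nat_lit 28928, nat_lit 33792, nat_lit 41177, nat_lit 37364, nat_lit 33004, nat_lit 28728, nat_lit 24878, nat_lit 20618, nat_lit 16417, nat_lit 12290, nat_lit 8450, nat_lit 16]⟩⟩⟩,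
  ⟨[nat_lit 642, nat_lit 52, nat_lit 46, nat_lit 49], [], (nat_lit 120), ⟨[nat_lit 80, nat_lit 91], [nat_lit 0, nat_lit 32, nat_lit 62], ⟨[nat_lit 0x1c8075d04f8dcd5b282c2b66e42490], [nat_lit 168960, nat_lit 164608, nat_lit 161280, nat_lit 157376, nat_lit 153792, nat_lit 149248, nat_lit 144672, nat_lit 140092, nat_lit 136832, nat_lit 132079, nat_lit 1246, nat_lit 5588, nat_lit 10144, nat_lit 13920, nat_lit 16416, nat_lit 20544, nat_lit 24832, nat_lit 30208, nat_lit 33792, nat_lit 37888, nat_lit 41767, nat_lit 38051, nat_lit 33002, nat_lit 28689, nat_lit 24616, nat_lit 20481, nat_lit 16388, nat_lit 12352, nat_lit 8210, nat_lit 4100, nat_lit 32]⟩⟩⟩]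
theorem s505 : Suf yT 1048576 (ldrop wU 7) (apW dcM p504) (tgtN dcM p504.e) := Suf.seg (l := l505) (by decide +kernel) s506
def l504 : List AP := [⟨[nat_lit 625, nat_lit 627, nat_lit 624, nat_lit 627, nat_lit 626, nat_lit 9], [], (nat_lit 40), ⟨[nat_lit 39, nat_lit 57], [nat_lit 79, nat_lit 64], ⟨[nat_lit 0x3aaa889a747d8ac72e40b846413530], [nat_lit 174080, nat_lit 168960, nat_lit 165632, nat_lit 161536, nat_lit 156544, nat_lit 152064, nat_lit 145384, nat_lit 139372, nat_lit 135360, nat_lit 132012, nat_lit 428, nat_lit 4548, nat_lit 8256, nat_lit 12352, nat_lit 17408, nat_lit 20736, nat_lit 24832, nat_lit 28928, nat_lit 33792, nat_lit 37888, nat_lit 41094, nat_lit 36967, nat_lit 32941, nat_lit 29029, nat_lit 24744, nat_lit 20544, nat_lit 12420, nat_lit 8201, nat_lit 4]⟩⟩⟩,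
  ⟨[nat_lit 29, nat_lit 30, nat_lit 25, nat_lit 27, nat_lit 21, nat_lit 23], [], (nat_lit 338), ⟨[nat_lit 0, nat_lit 9, nat_lit 66], [nat_lit 0, nat_lit 37, nat_lit 50], ⟨[nat_lit 0x83056356882b52f0de4e54e270106b], [nat_lit 175104, nat_lit 171520, nat_lit 164352, nat_lit 161792, nat_lit 158720, nat_lit 154368, nat_lit 148736, nat_lit 145136, nat_lit 141048, nat_lit 138924, nat_lit 134944, nat_lit 1336, nat_lit 5072, nat_lit 8800, nat_lit 13600, nat_lit 17696, nat_lit 21120, nat_lit 25344, nat_lit 29952, nat_lit 33280, nat_lit 37888, nat_lit 41580, nat_lit 37131, nat_lit 32991, nat_lit 28715, nat_lit 24884, nat_lit 20490, nat_lit 16396, nat_lit 12310, nat_lit 8211, nat_lit 4097]⟩⟩⟩]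
theorem rU8 : Suf yT 1048576 wU [yT.get 42] 0 := Suf.seg (l := l504) (by decide +kernel) s505


end

end CF.Mon.Tr
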