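import Cfsg.Agent.Mon.YW

set_option autoImplicit false
set_option maxRecDepth 100000

namespace CF.Mon.Tr

open CF.Comp

noncomputable section

def p511 : AP := ⟨[nat_lit 72, nat_lit 66], [], (nat_lit 126), ⟨[nat_lit 82, nat_lit 62], [nat_lit 88, nat_lit 58], ⟨[nat_lit 0x342a32b907b0492bb68a5cd914bc02], [nat_lit 174080, nat_lit 170496, nat_lit 167680, nat_lit 163328, nat_lit 157568, nat_lit 155360, nat_lit 151264, nat_lit 144800, nat_lit 142252, nat_lit 135266, nat_lit 132860, nat_lit 4, nat_lit 5568, nat_lit 8408, nat_lit 13008, nat_lit 18336, nat_lit 22336, nat_lit 24704, nat_lit 28928, nat_lit 41639, nat_lit 37148, nat_lit 33343, nat_lit 28794, nat_lit 24749, nat_lit 20484, nat_lit 16396, nat_lit 12310, nat_lit 4105, nat_lit 2]⟩⟩⟩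
def p512 : AP := ⟨[nat_lit 72, nat_lit 49], [], (nat_lit 124), ⟨[nat_lit 0, nat_lit 18, nat_lit 50], [nat_lit 45, nat_lit 91], ⟨[nat_lit 0x81ab609072a304879db19954902dd7], [nat_lit 173056, nat_lit 164096, nat_lit 161664, nat_lit 156352, nat_lit 152256, nat_lit 150128, nat_lit 145104, nat_lit 139800, nat_lit 135344, nat_lit 132157, nat_lit 1124, nat_lit 5228, nat_lit 10144, nat_lit 12896, nat_lit 17344, nat_lit 22080, nat_lit 25472, nat_lit 29440, nat_lit 37888, nat_lit 41936, nat_lit 38312, nat_lit 33920, nat_lit 29819, nat_lit 24592, nat_lit 20614, nat_lit 16394, nat_lit 12311, nat_lit 8194, nat_lit 4100]⟩⟩⟩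
def p513 : AP := ⟨[nat_lit 38, nat_lit 37, nat_lit 14, nat_lit 15, nat_lit 36], [], (nat_lit 70), ⟨[nat_lit 2, nat_lit 61], [nat_lit 11, nat_lit 57], ⟨[nat_lit 0x15964ad1d28bce59a9a91c1800dd06], [nat_lit 168960, nat_lit 159872, nat_lit 156608, nat_lit 154912, nat_lit 149312, nat_lit 143368, nat_lit 140628, nat_lit 136260, nat_lit 133093, nat_lit 116, nat_lit 4352, nat_lit 9328, nat_lit 13632, nat_lit 17408, nat_lit 21504, nat_lit 25472, nat_lit 28928, nat_lit 33792, nat_lit 41696, nat_lit 38020, nat_lit 32918, nat_lit 28984, nat_lit 25092, nat_lit 20496, nat_lit 16421, nat_lit 12420, nat_lit 8208, nat_lit 4104, nat_lit 4]⟩⟩⟩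
def p514 : AP := ⟨[nat_lit 52, nat_lit 52, nat_lit 53], [], (nat_lit 120), ⟨[nat_lit 39, nat_lit 93], [nat_lit 38, nat_lit 58], ⟨[nat_lit 0x9b2975b551024d5911c510df00a2c7], [nat_lit 169472, nat_lit 167424, nat_lit 163456, nat_lit 159488, nat_lit 155104, nat_lit 148512, nat_lit 145640, nat_lit 143272, nat_lit 136766, nat_lit 135141, nat_lit 1438, nat_lit 5668, nat_lit 9040, nat_lit 12768, nat_lit 17696, nat_lit 20864, nat_lit 25088, nat_lit 30464, nat_lit 33792, nat_lit 41839, nat_lit 38261, nat_lit 34024, nat_lit 28687, nat_lit 25640, nat_lit 21527, nat_lit 16431, nat_lit 12321, nat_lit 8195, nat_lit 4101, nat_lit 4]⟩⟩⟩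
def p515 : AP := ⟨[nat_lit 661, nat_lit 171], [], (nat_lit 418), ⟨[nat_lit 0, nat_lit 33, nat_lit 48], [nat_lit 0, nat_lit 45, nat_lit 67], ⟨[nat_lit 0x80af4010d2a952e52031b34eb60df3], [nat_lit 173056, nat_lit 164608, nat_lit 160000, nat_lit 156992, nat_lit 152256, nat_lit 150448, nat_lit 144760, nat_lit 139436, nat_lit 135380, nat_lit 132067, nat_lit 606, nat_lit 5716, nat_lit 9600, nat_lit 14192, nat_lit 18240, nat_lit 22336, nat_lit 26368, nat_lit 28928, nat_lit 33792, nat_lit 37888, nat_lit 41847, nat_lit 38183, nat_lit 33831, nat_lit 28689, nat_lit 24592, nat_lit 20496, nat_lit 16430, nat_lit 12290, nat_lit 8210, nat_lit 4104]⟩⟩⟩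
def p516 : AP := ⟨[nat_lit 71, nat_lit 49], [], (nat_lit 126), ⟨[nat_lit 0, nat_lit 6, nat_lit 69], [nat_lit 0, nat_lit 33, nat_lit 90], ⟨[nat_lit 0x5da29ac6653e89238b68562c3c901], [nat_lit 170496, nat_lit 167424, nat_lit 163200, nat_lit 159040, nat_lit 153152, nat_lit 149632, nat_lit 147352, nat_lit 140128, nat_lit 138172, nat_lit 132709, nat_lit 1180, nat_lit 4824, nat_lit 9184, nat_lit 13264, nat_lit 17344, nat_lit 21184, nat_lit 24960, nat_lit 33792, nat_lit 41925, nat_lit 38111, nat_lit 32839, nat_lit 29767, nat_lit 24837, nat_lit 20486, nat_lit 16910, nat_lit 12289, nat_lit 8210, nat_lit 8]⟩⟩⟩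
def l517 : List AP := [⟨[nat_lit 68], [], (nat_lit 122), ⟨[nat_lit 0, nat_lit 15, nat_lit 52], [nat_lit 0, nat_lit 30, nat_lit 69], ⟨[nat_lit 0x5d425a08e88b58f4dcc3849d3502c4], [nat_lit 173056, nat_lit 165376, nat_lit 160896, nat_lit 151936, nat_lit 148944, nat_lit 144920, nat_lit 141356, nat_lit 136114, nat_lit 133017, nat_lit 680, nat_lit 5544, nat_lit 8872, nat_lit 12976, nat_lit 18400, nat_lit 22336, nat_lit 24960, nat_lit 28928, nat_lit 33792, nat_lit 37888, nat_lit 41404, nat_lit 37099, nat_lit 34008, nat_lit 28752, nat_lit 24748, nat_lit 20508, nat_lit 16395, nat_lit 12295, nat_lit 8193, nat_lit 4104, nat_lit 2]⟩⟩⟩,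
  ⟨[nat_lit 42, nat_lit 36], [], (nat_lit 1032), ⟨[nat_lit 37, nat_lit 59], [nat_lit 0, nat_lit 25, nat_lit 70], ⟨[nat_lit 0x38872a85c9b4ee4835867ae8054505], [nat_lit 169472, nat_lit 164096, nat_lit 160768, nat_lit 151584, nat_lit 148928, nat_lit 145168, nat_lit 140820, nat_lit 138100, nat_lit 132925, nat_lit 1938, nat_lit 4352, nat_lit 9920, nat_lit 12880, nat_lit 18304, nat_lit 25728, nat_lit 33792, nat_lit 37888, nat_lit 41352, nat_lit 37238, nat_lit 32770, nat_lit 29738, nat_lit 25138, nat_lit 20608, nat_lit 16385, nat_lit 13315, nat_lit 8258, nat_lit 8]⟩⟩⟩]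
theorem s517 : Suf yT 2097152 (ldrop wU 61) (apW dcM p516) (tgtN dcM p516.e) := Suf.fin' (l := l517) (by decide +kernel)
def l516 : List AP := [⟨[nat_lit 212, nat_lit 176], [], (nat_lit 419), ⟨[nat_lit 0, nat_lit 80, nat_lit 90], [nat_lit 0, nat_lit 3, nat_lit 62], ⟨[nat_lit 0x898b2ba68a39213ad96813da00b983], [nat_lit 175104, nat_lit 168448, nat_lit 166400, nat_lit 162688, nat_lit 159232, nat_lit 153344, nat_lit 148480, nat_lit 143456, nat_lit 142336, nat_lit 137956, nat_lit 132650, nat_lit 8, nat_lit 5768, nat_lit 8504, nat_lit 13552, nat_lit 17632, nat_lit 21824, nat_lit 24832, nat_lit 30208, nat_lit 37888, nat_lit 41646, nat_lit 37976, nat_lit 32918, nat_lit 28795, nat_lit 24734, nat_lit 20563, nat_lit 16425, nat_lit 12292, nat_lit 8202, nat_lit 4100, nat_lit 16]⟩⟩⟩,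
  ⟨[nat_lit 662, nat_lit 214, nat_lit 170], [], (nat_lit 396), ⟨[nat_lit 0, nat_lit 8, nat_lit 62], [nat_lit 2, nat_lit 60], ⟨[nat_lit 0x29de402af2619cdb097140e93806a9], [nat_lit 175104, nat_lit 171008, nat_lit 166656, nat_lit 161280, nat_lit 156608, nat_lit 151680, nat_lit 151312, nat_lit 144080, nat_lit 140248, nat_lit 139116, nat_lit 134811, nat_lit 724, nat_lit 5236, nat_lit 9664, nat_lit 12640, nat_lit 16864, nat_lit 20864, nat_lit 28928, nat_lit 33792, nat_lit 41403, nat_lit 37234, nat_lit 33313, nat_lit 28787, nat_lit 24595, nat_lit 20483, nat_lit 16396, nat_lit 12311, nat_lit 8193, nat_lit 4105]⟩⟩⟩]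
theorem s516 : Suf yT 2097152 (ldrop wU 49) (apW dcM p515) (tgtN dcM p515.e) := Suf.seg (l := l516) (by decide +kernel) s517
def l515 : List AP := [⟨[nat_lit 70, nat_lit 46], [], (nat_lit 120), ⟨[nat_lit 13, nat_lit 51], [nat_lit 85, nat_lit 68], ⟨[nat_lit 0x98186521764d2f5911e30b627815c2], [nat_lit 169472, nat_lit 167680, nat_lit 160256, nat_lit 156480, nat_lit 152096, nat_lit 148480, nat_lit 144832, nat_lit 140424, nat_lit 135602, nat_lit 132403, nat_lit 1178, nat_lit 4500, nat_lit 8320, nat_lit 12352, nat_lit 18336, nat_lit 20672, nat_lit 24704, nat_lit 29184, nat_lit 33280, nat_lit 41763, nat_lit 37262, nat_lit 32968, nat_lit 29000, nat_lit 24863, nat_lit 21507, nat_lit 16450, nat_lit 12544, nat_lit 8209, nat_lit 4161, nat_lit 16]⟩⟩⟩,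
  ⟨[nat_lit 643, nat_lit 52, nat_lit 69, nat_lit 49], [], (nat_lit 1046), ⟨[nat_lit 21, nat_lit 57], [nat_lit 0, nat_lit 23, nat_lit 47], ⟨[nat_lit 0x7457714e04a16c1932a9329033bc0d], [nat_lit 173056, nat_lit 171520, nat_lit 164352, nat_lit 161280, nat_lit 158272, nat_lit 152064, nat_lit 147552, nat_lit 145976, nat_lit 141608, nat_lit 138966, nat_lit 135092, nat_lit 1668, nat_lit 4684, nat_lit 8680, nat_lit 13120, nat_lit 16800, nat_lit 22336, nat_lit 26496, nat_lit 29952, nat_lit 41236, nat_lit 37167, nat_lit 33418, nat_lit 28783, nat_lit 24752, nat_lit 20510, nat_lit 16425, nat_lit 12326, nat_lit 8195, nat_lit 4]⟩⟩⟩]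
theorem s515 : Suf yT 2097152 (ldrop wU 37) (apW dcM p514) (tgtN dcM p514.e) := Suf.seg (l := l515) (by decide +kernel) s516
def l514 : List AP := [⟨[nat_lit 31, nat_lit 26, nat_lit 27, nat_lit 24, nat_lit 21], [], (nat_lit 116), ⟨[nat_lit 86], [nat_lit 0, nat_lit 37, nat_lit 93], ⟨[nat_lit 0xace08392cb888af532ee6824648c34], [nat_lit 173056, nat_lit 168448, nat_lit 156928, nat_lit 152096, nat_lit 151072, nat_lit 145368, nat_lit 139980, nat_lit 137134, nat_lit 132788, nat_lit 664, nat_lit 4112, nat_lit 9688, nat_lit 12304, nat_lit 17408, nat_lit 22336, nat_lit 25472, nat_lit 29696, nat_lit 33792, nat_lit 37888, nat_lit 41625, nat_lit 37992, nat_lit 32812, nat_lit 29281, nat_lit 24586, nat_lit 20764, nat_lit 12294, nat_lit 8202, nat_lit 512]⟩⟩⟩,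
  ⟨[nat_lit 642, nat_lit 52], [], (nat_lit 124), ⟨[nat_lit 37, nat_lit 65], [nat_lit 0, nat_lit 85, nat_lit 89], ⟨[nat_lit 0x99c9763eb143806a260a2b56190876], [nat_lit 174080, nat_lit 169984, nat_lit 167424, nat_lit 160768, nat_lit 157824, nat_lit 153760, nat_lit 148448, nat_lit 147360, nat_lit 139300, nat_lit 136756, nat_lit 131515, nat_lit 1488, nat_lit 4104, nat_lit 10088, nat_lit 14176, nat_lit 17568, nat_lit 20864, nat_lit 25728, nat_lit 30464, nat_lit 41469, nat_lit 37107, nat_lit 34014, nat_lit 29193, nat_lit 24754, nat_lit 20485, nat_lit 16520, nat_lit 4112]⟩⟩⟩]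
theorem s514 : Suf yT 2097152 (ldrop wU 31) (apW dcM p513) (tgtN dcM p513.e) := Suf.seg (l := l514) (by decide +kernel) s515
def l513 : List AP := [⟨[nat_lit 69, nat_lit 47], [], (nat_lit 1038), ⟨[nat_lit 0, nat_lit 37, nat_lit 70], [nat_lit 79, nat_lit 93], ⟨[nat_lit 0x4b17489828b9caf10db55480474e16], [nat_lit 175104, nat_lit 164352, nat_lit 160128, nat_lit 155968, nat_lit 153408, nat_lit 148992, nat_lit 143448, nat_lit 140024, nat_lit 136212, nat_lit 132767, nat_lit 1720, nat_lit 5300, nat_lit 10224, nat_lit 14064, nat_lit 17408, nat_lit 21504, nat_lit 24832, nat_lit 28928, nat_lit 33792, nat_lit 37888, nat_lit 36934, nat_lit 33007, nat_lit 28966, nat_lit 24713, nat_lit 12421, nat_lit 8203, nat_lit 4101]⟩⟩⟩,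
  ⟨[nat_lit 638, nat_lit 637, nat_lit 25], [], (nat_lit 1036), ⟨[nat_lit 0, nat_lit 88, nat_lit 54], [nat_lit 88, nat_lit 46], ⟨[nat_lit 0x2d6865316eb5c874a1ed9087388030], [nat_lit 166144, nat_lit 160128, nat_lit 157312, nat_lit 153984, nat_lit 150416, nat_lit 147240, nat_lit 142416, nat_lit 137502, nat_lit 131754, nat_lit 64, nat_lit 4160, nat_lit 8504, nat_lit 13440, nat_lit 17184, nat_lit 22400, nat_lit 25088, nat_lit 30208, nat_lit 37888, nat_lit 41690, nat_lit 37372, nat_lit 33423, nat_lit 28750, nat_lit 24586, nat_lit 20757, nat_lit 16385, nat_lit 12356, nat_lit 8195, nat_lit 4101, nat_lit 4]⟩⟩⟩]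
theorem s513 : Suf yT 2097152 (ldrop wU 19) (apW dcM p512) (tgtN dcM p512.e) := Suf.seg (l := l513) (by decide +kernel) s514
def l512 : List AP := [⟨[nat_lit 67, nat_lit 71, nat_lit 55, nat_lit 53], [], (nat_lit 1046), ⟨[nat_lit 15, nat_lit 55], [nat_lit 0, nat_lit 77, nat_lit 68], ⟨[nat_lit 0x901045cca2a3dae544c11c0e9b56ec], [nat_lit 173056, nat_lit 171008, nat_lit 164352, nat_lit 161280, nat_lit 159232, nat_lit 153152, nat_lit 148480, nat_lit 145904, nat_lit 142032, nat_lit 137936, nat_lit 134911, nat_lit 880, nat_lit 5688, nat_lit 9384, nat_lit 13968, nat_lit 17568, nat_lit 21760, nat_lit 30208, nat_lit 33792, nat_lit 37888, nat_lit 41951, nat_lit 38080, nat_lit 33322, nat_lit 29743, nat_lit 24755, nat_lit 20495, nat_lit 16521, nat_lit 12311]⟩⟩⟩,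
  ⟨[nat_lit 175, nat_lit 173, nat_lit 172], [], (nat_lit 396), ⟨[nat_lit 0, nat_lit 20, nat_lit 48], [nat_lit 6, nat_lit 60], ⟨[nat_lit 0x4d0ce54008bada409e65b46a3909ec], [nat_lit 168448, nat_lit 165120, nat_lit 161408, nat_lit 159104, nat_lit 152480, nat_lit 149280, nat_lit 143552, nat_lit 139584, nat_lit 137078, nat_lit 133053, nat_lit 2012, nat_lit 5716, nat_lit 8256, nat_lit 18400, nat_lit 22336, nat_lit 24832, nat_lit 37888, nat_lit 41792, nat_lit 36989, nat_lit 32960, nat_lit 28971, nat_lit 20639, nat_lit 16428, nat_lit 12304, nat_lit 4225, nat_lit 128]⟩⟩⟩]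
theorem s512 : Suf yT 2097152 (ldrop wU 7) (apW dcM p511) (tgtN dcM p511.e) := Suf.seg (l := l512) (by decide +kernel) s513
def l511 : List AP := [⟨[nat_lit 6, nat_lit 625, nat_lit 6, nat_lit 9, nat_lit 6], [], (nat_lit 26), ⟨[nat_lit 36, nat_lit 65], [nat_lit 0, nat_lit 35, nat_lit 90], ⟨[nat_lit 0x3380f52c82bd0a3ac50cb366990607], [nat_lit 173056, nat_lit 170496, nat_lit 165888, nat_lit 162048, nat_lit 157824, nat_lit 152768, nat_lit 151280, nat_lit 145832, nat_lit 140892, nat_lit 139042, nat_lit 131446, nat_lit 1860, nat_lit 5016, nat_lit 9664, nat_lit 13200, nat_lit 17632, nat_lit 21056, nat_lit 25984, nat_lit 29952, nat_lit 33792, nat_lit 37888, nat_lit 41115, nat_lit 37234, nat_lit 32996, nat_lit 28785, nat_lit 24759, nat_lit 20619, nat_lit 16422, nat_lit 12310, nat_lit 8208]⟩⟩⟩,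
  ⟨[nat_lit 36, nat_lit 632, nat_lit 16, nat_lit 14, nat_lit 38], [], (nat_lit 90), ⟨[nat_lit 0, nat_lit 83, nat_lit 51], [nat_lit 74, nat_lit 70], ⟨[nat_lit 0x38b26cce3b2d8faa4c4a0941bc111], [nat_lit 173056, nat_lit 171520, nat_lit 164352, nat_lit 160384, nat_lit 158976, nat_lit 151584, nat_lit 148048, nat_lit 145552, nat_lit 142024, nat_lit 137724, nat_lit 133314, nat_lit 78, nat_lit 5432, nat_lit 10008, nat_lit 13360, nat_lit 17696, nat_lit 21760, nat_lit 24832, nat_lit 29696, nat_lit 41005, nat_lit 37360, nat_lit 33473, nat_lit 29236, nat_lit 24733, nat_lit 20752, nat_lit 16450, nat_lit 12305, nat_lit 8321, nat_lit 4105]⟩⟩⟩]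
theorem rU9 : Suf yT 2097152 wU [yT.get 43] 0 := Suf.seg (l := l511) (by decide +kernel) s512

def p518 : AP := ⟨[nat_lit 72, nat_lit 66], [], (nat_lit 126), ⟨[nat_lit 72, nat_lit 91], [nat_lit 0, nat_lit 83, nat_lit 92], ⟨[nat_lit 0x1ed2235669a22fac045ba5d460d41], [nat_lit 173056, nat_lit 168960, nat_lit 165888, nat_lit 162816, nat_lit 158016, nat_lit 154048, nat_lit 148928, nat_lit 146600, nat_lit 143160, nat_lit 136552, nat_lit 133652, nat_lit 494, nat_lit 5884, nat_lit 9968, nat_lit 14272, nat_lit 17376, nat_lit 25472, nat_lit 30208, nat_lit 37888, nat_lit 41813, nat_lit 38188, nat_lit 33946, nat_lit 28683, nat_lit 24591, nat_lit 21014, nat_lit 16902, nat_lit 12293, nat_lit 8195]⟩⟩⟩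
def p519 : AP := ⟨[nat_lit 49, nat_lit 49, nat_lit 71], [], (nat_lit 120), ⟨[nat_lit 0, nat_lit 35], [nat_lit 0, nat_lit 83, nat_lit 54], ⟨[nat_lit 0x314724bec70416a70591ba1a498a95], [nat_lit 175104, nat_lit 170496, nat_lit 166144, nat_lit 158528, nat_lit 154048, nat_lit 149168, nat_lit 145688, nat_lit 140188, nat_lit 136750, nat_lit 131357, nat_lit 394, nat_lit 4164, nat_lit 10088, nat_lit 13488, nat_lit 26240, nat_lit 34304, nat_lit 41048, nat_lit 37367, nat_lit 32856, nat_lit 29196, nat_lit 24750, nat_lit 20611, nat_lit 16416, nat_lit 12309, nat_lit 4225]⟩⟩⟩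
def p520 : AP := ⟨[nat_lit 25, nat_lit 29, nat_lit 28, nat_lit 22, nat_lit 29], [], (nat_lit 338), ⟨[nat_lit 22, nat_lit 48], [nat_lit 0, nat_lit 87], ⟨[nat_lit 0x3dd2b99ad170608a900253643615f4], [nat_lit 175104, nat_lit 168448, nat_lit 165632, nat_lit 160768, nat_lit 157312, nat_lit 151904, nat_lit 148480, nat_lit 144456, nat_lit 140812, nat_lit 135656, nat_lit 132062, nat_lit 664, nat_lit 5716, nat_lit 9480, nat_lit 13152, nat_lit 18016, nat_lit 22208, nat_lit 25728, nat_lit 33792, nat_lit 37888, nat_lit 41405, nat_lit 36961, nat_lit 33809, nat_lit 28972, nat_lit 25121, nat_lit 20746, nat_lit 17413, nat_lit 12290, nat_lit 8226, nat_lit 4104, nat_lit 512]⟩⟩⟩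
def p521 : AP := ⟨[nat_lit 174], [], (nat_lit 390), ⟨[nat_lit 2, nat_lit 50], [nat_lit 0, nat_lit 33, nat_lit 64], ⟨[nat_lit 0x7951339283538d26dc0c0d969ac051], [nat_lit 173056, nat_lit 168448, nat_lit 165120, nat_lit 160128, nat_lit 156672, nat_lit 153472, nat_lit 149776, nat_lit 144208, nat_lit 140756, nat_lit 136970, nat_lit 132266, nat_lit 1250, nat_lit 5568, nat_lit 8256, nat_lit 13536, nat_lit 16448, nat_lit 22208, nat_lit 25088, nat_lit 29184, nat_lit 37888, nat_lit 41899, nat_lit 38171, nat_lit 34021, nat_lit 29210, nat_lit 24632, nat_lit 20549, nat_lit 16390, nat_lit 12324, nat_lit 8210, nat_lit 4112, nat_lit 8]⟩⟩⟩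
def p522 : AP := ⟨[nat_lit 661, nat_lit 171], [], (nat_lit 418), ⟨[nat_lit 21, nat_lit 66], [nat_lit 83, nat_lit 69], ⟨[nat_lit 0x9840432d30744af15d8ab0d0dad0f2], [nat_lit 173056, nat_lit 170496, nat_lit 167680, nat_lit 162944, nat_lit 158208, nat_lit 151840, nat_lit 149792, nat_lit 145824, nat_lit 140380, nat_lit 137898, nat_lit 132383, nat_lit 1182, nat_lit 5080, nat_lit 8792, nat_lit 13952, nat_lit 16416, nat_lit 41610, nat_lit 38094, nat_lit 33015, nat_lit 29045, nat_lit 24578, nat_lit 20498, nat_lit 16427, nat_lit 12310, nat_lit 8201, nat_lit 4097, nat_lit 2]⟩⟩⟩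
def p523 : AP := ⟨[], [], (nat_lit 392), ⟨[nat_lit 13], [nat_lit 30, nat_lit 89], ⟨[nat_lit 0xb256c081b72aa23a41d3120f2790d5], [nat_lit 164608, nat_lit 160640, nat_lit 156288, nat_lit 152000, nat_lit 147632, nat_lit 145112, nat_lit 139888, nat_lit 136718, nat_lit 133154, nat_lit 738, nat_lit 5856, nat_lit 10184, nat_lit 13152, nat_lit 20864, nat_lit 24704, nat_lit 29440, nat_lit 34304, nat_lit 37888, nat_lit 41731, nat_lit 38311, nat_lit 33893, nat_lit 29202, nat_lit 24604, nat_lit 20611, nat_lit 16422, nat_lit 12291, nat_lit 8226, nat_lit 4097, nat_lit 2]⟩⟩⟩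
def l524 : List AP := [⟨[], [], (nat_lit 339), ⟨[nat_lit 7, nat_lit 63], [nat_lit 0, nat_lit 46], ⟨[nat_lit 0x81e409dd8b0bdc628ab6a362a49068], [nat_lit 174080, nat_lit 168448, nat_lit 164864, nat_lit 161664, nat_lit 158208, nat_lit 153760, nat_lit 150208, nat_lit 144688, nat_lit 142812, nat_lit 136552, nat_lit 134755, nat_lit 1396, nat_lit 5580, nat_lit 9568, nat_lit 12544, nat_lit 18080, nat_lit 22400, nat_lit 25728, nat_lit 29696, nat_lit 33792, nat_lit 37888, nat_lit 41400, nat_lit 37331, nat_lit 32812, nat_lit 29266, nat_lit 24599, nat_lit 20500, nat_lit 16430, nat_lit 12291, nat_lit 8225, nat_lit 4104]⟩⟩⟩,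
  ⟨[], [], (nat_lit 1034), ⟨[nat_lit 0, nat_lit 78, nat_lit 69], [nat_lit 34, nat_lit 92], ⟨[nat_lit 0x701034d5b75ce0f3d031510acb0a46], [nat_lit 175104, nat_lit 169984, nat_lit 164096, nat_lit 161920, nat_lit 158208, nat_lit 154336, nat_lit 148976, nat_lit 144992, nat_lit 141148, nat_lit 139260, nat_lit 133915, nat_lit 738, nat_lit 4184, nat_lit 9216, nat_lit 16928, nat_lit 21824, nat_lit 26240, nat_lit 29696, nat_lit 34304, nat_lit 41969, nat_lit 38343, nat_lit 34032, nat_lit 28673, nat_lit 24590, nat_lit 21023, nat_lit 16897, nat_lit 12323, nat_lit 8193, nat_lit 4105]⟩⟩⟩]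
theorem s524 : Suf yT 4194304 (ldrop wU 61) (apW dcM p523) (tgtN dcM p523.e) := Suf.fin' (l := l524) (by decide +kernel)
def l523 : List AP := [⟨[nat_lit 215, nat_lit 180], [], (nat_lit 418), ⟨[nat_lit 16, nat_lit 51], [nat_lit 0, nat_lit 30, nat_lit 66], ⟨[nat_lit 0x80537d10688e1225d8a59eceaa5a5], [nat_lit 173056, nat_lit 168960, nat_lit 164352, nat_lit 161664, nat_lit 157248, nat_lit 155168, nat_lit 148144, nat_lit 144320, nat_lit 141180, nat_lit 136770, nat_lit 132273, nat_lit 364, nat_lit 5444, nat_lit 10032, nat_lit 13024, nat_lit 16832, nat_lit 20608, nat_lit 29696, nat_lit 41767, nat_lit 38023, nat_lit 33307, nat_lit 28741, nat_lit 24741, nat_lit 20503, nat_lit 16419, nat_lit 12291, nat_lit 8210, nat_lit 4101, nat_lit 2]⟩⟩⟩,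
  ⟨[nat_lit 218, nat_lit 661], [], (nat_lit 418), ⟨[nat_lit 0, nat_lit 39, nat_lit 58], [nat_lit 26, nat_lit 47], ⟨[nat_lit 0x344920050a29e706d68cb5dcf58d22], [nat_lit 168960, nat_lit 164608, nat_lit 160640, nat_lit 157312, nat_lit 152288, nat_lit 148016, nat_lit 144840, nat_lit 139812, nat_lit 138118, nat_lit 131074, nat_lit 1814, nat_lit 5580, nat_lit 9664, nat_lit 13264, nat_lit 17568, nat_lit 22336, nat_lit 25984, nat_lit 30208, nat_lit 33280, nat_lit 40993, nat_lit 37182, nat_lit 33004, nat_lit 28934, nat_lit 24635, nat_lit 20510, nat_lit 16424, nat_lit 8194, nat_lit 4100, nat_lit 64]⟩⟩⟩]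
theorem s523 : Suf yT 4194304 (ldrop wU 49) (apW dcM p522) (tgtN dcM p522.e) := Suf.seg (l := l523) (by decide +kernel) s524
def l522 : List AP := [⟨[nat_lit 32, nat_lit 24, nat_lit 23, nat_lit 23, nat_lit 21], [], (nat_lit 116), ⟨[nat_lit 0, nat_lit 33, nat_lit 59], [nat_lit 0, nat_lit 82, nat_lit 60], ⟨[nat_lit 0x614c858de24baf68454d24c3591e80], [nat_lit 165632, nat_lit 161024, nat_lit 155904, nat_lit 152576, nat_lit 145832, nat_lit 141028, nat_lit 136744, nat_lit 131842, nat_lit 8, nat_lit 5300, nat_lit 8824, nat_lit 16960, nat_lit 20736, nat_lit 26496, nat_lit 34304, nat_lit 37888, nat_lit 41915, nat_lit 37344, nat_lit 33461, nat_lit 29222, nat_lit 24754, nat_lit 20572, nat_lit 16459, nat_lit 8208, nat_lit 4101]⟩⟩⟩,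
  ⟨[nat_lit 54, nat_lit 56, nat_lit 641, nat_lit 50], [], (nat_lit 1046), ⟨[nat_lit 34, nat_lit 51], [nat_lit 0, nat_lit 87], ⟨[nat_lit 0x6d45380ece0a4a08acf233d8aa5d04], [nat_lit 169472, nat_lit 165376, nat_lit 160128, nat_lit 156928, nat_lit 153504, nat_lit 148512, nat_lit 146464, nat_lit 140800, nat_lit 136516, nat_lit 132967, nat_lit 1124, nat_lit 4724, nat_lit 9288, nat_lit 12320, nat_lit 16640, nat_lit 20736, nat_lit 25472, nat_lit 41440, nat_lit 37053, nat_lit 32808, nat_lit 28738, nat_lit 24628, nat_lit 20511, nat_lit 16420, nat_lit 8226, nat_lit 4113, nat_lit 4]⟩⟩⟩]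
theorem s522 : Suf yT 4194304 (ldrop wU 37) (apW dcM p521) (tgtN dcM p521.e) := Suf.seg (l := l522) (by decide +kernel) s523
def l521 : List AP := [⟨[nat_lit 214, nat_lit 660], [], (nat_lit 396), ⟨[nat_lit 22, nat_lit 54], [nat_lit 32, nat_lit 62], ⟨[nat_lit 0x704e6ac564629024ce8578250b8ecd], [nat_lit 173056, nat_lit 169984, nat_lit 164352, nat_lit 161280, nat_lit 155712, nat_lit 152480, nat_lit 147952, nat_lit 145400, nat_lit 139400, nat_lit 135690, nat_lit 132141, nat_lit 1004, nat_lit 4748, nat_lit 8536, nat_lit 13712, nat_lit 16448, nat_lit 22208, nat_lit 25088, nat_lit 34304, nat_lit 41525, nat_lit 37342, nat_lit 33374, nat_lit 28928, nat_lit 24592, nat_lit 21525, nat_lit 16448, nat_lit 12289, nat_lit 8706, nat_lit 4609]⟩⟩⟩,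
  ⟨[nat_lit 50], [], (nat_lit 1046), ⟨[nat_lit 78, nat_lit 50], [nat_lit 0, nat_lit 38, nat_lit 67], ⟨[nat_lit 0x704e6ac564629024ce8578250b8ecd], [nat_lit 173056, nat_lit 170496, nat_lit 164608, nat_lit 161408, nat_lit 155712, nat_lit 152480, nat_lit 147952, nat_lit 145392, nat_lit 139404, nat_lit 135690, nat_lit 132140, nat_lit 1004, nat_lit 4748, nat_lit 8536, nat_lit 13712, nat_lit 16448, nat_lit 22208, nat_lit 25088, nat_lit 34304, nat_lit 41525, nat_lit 37342, nat_lit 33374, nat_lit 28928, nat_lit 24592, nat_lit 21525, nat_lit 16448, nat_lit 12289, nat_lit 8706, nat_lit 4609]⟩⟩⟩]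
theorem s521 : Suf yT 4194304 (ldrop wU 31) (apW dcM p520) (tgtN dcM p520.e) := Suf.seg (l := l521) (by decide +kernel) s522
def l520 : List AP := [⟨[nat_lit 641, nat_lit 46, nat_lit 54], [], (nat_lit 121), ⟨[nat_lit 9, nat_lit 63], [nat_lit 87, nat_lit 53], ⟨[nat_lit 0xac2237b837915a95590032d9325047], [nat_lit 174080, nat_lit 171008, nat_lit 166400, nat_lit 163072, nat_lit 157312, nat_lit 155424, nat_lit 150576, nat_lit 143512, nat_lit 143308, nat_lit 136772, nat_lit 131355, nat_lit 810, nat_lit 5976, nat_lit 10128, nat_lit 12304, nat_lit 18112, nat_lit 22208, nat_lit 25984, nat_lit 29952, nat_lit 34304, nat_lit 37888, nat_lit 41702, nat_lit 37960, nat_lit 32919, nat_lit 28933, nat_lit 25621, nat_lit 20508, nat_lit 16385, nat_lit 12320, nat_lit 4161]⟩⟩⟩,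
  ⟨[nat_lit 67], [], (nat_lit 1038), ⟨[nat_lit 0, nat_lit 82, nat_lit 64], [nat_lit 37, nat_lit 68], ⟨[nat_lit 0x5a6f519426459548c9cc6ce0f20047], [nat_lit 165120, nat_lit 163200, nat_lit 155712, nat_lit 152608, nat_lit 148480, nat_lit 144952, nat_lit 140280, nat_lit 135670, nat_lit 131965, nat_lit 1054, nat_lit 5144, nat_lit 8320, nat_lit 14192, nat_lit 16512, nat_lit 20608, nat_lit 25600, nat_lit 29696, nat_lit 37888, nat_lit 41553, nat_lit 37226, nat_lit 32934, nat_lit 28736, nat_lit 24704, nat_lit 20747, nat_lit 16392, nat_lit 12304, nat_lit 8195, nat_lit 4101]⟩⟩⟩]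
theorem s520 : Suf yT 4194304 (ldrop wU 19) (apW dcM p519) (tgtN dcM p519.e) := Suf.seg (l := l520) (by decide +kernel) s521
def l519 : List AP := [⟨[nat_lit 68, nat_lit 641, nat_lit 73], [], (nat_lit 120), ⟨[nat_lit 13, nat_lit 53], [nat_lit 0, nat_lit 4, nat_lit 89], ⟨[nat_lit 0x7222705023b0af56166b924cd23d50], [nat_lit 164352, nat_lit 155712, nat_lit 154624, nat_lit 147808, nat_lit 144600, nat_lit 141160, nat_lit 137082, nat_lit 132319, nat_lit 1874, nat_lit 5884, nat_lit 9376, nat_lit 14192, nat_lit 16448, nat_lit 20544, nat_lit 25344, nat_lit 29952, nat_lit 34304, nat_lit 41002, nat_lit 37134, nat_lit 32998, nat_lit 28934, nat_lit 24760, nat_lit 20509, nat_lit 16430, nat_lit 12325, nat_lit 8225, nat_lit 4112, nat_lit 2]⟩⟩⟩,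
  ⟨[nat_lit 642, nat_lit 57, nat_lit 50], [], (nat_lit 120), ⟨[nat_lit 0, nat_lit 13, nat_lit 58], [nat_lit 0, nat_lit 77, nat_lit 46], ⟨[nat_lit 0x1c4e6b3104902f59bc4ea2cad8052a], [nat_lit 166912, nat_lit 160512, nat_lit 157312, nat_lit 155168, nat_lit 150192, nat_lit 146216, nat_lit 142604, nat_lit 138378, nat_lit 132416, nat_lit 1580, nat_lit 5508, nat_lit 8504, nat_lit 13552, nat_lit 18368, nat_lit 20864, nat_lit 26368, nat_lit 30464, nat_lit 33280, nat_lit 37888, nat_lit 41900, nat_lit 36938, nat_lit 32886, nat_lit 28746, nat_lit 24720, nat_lit 20764, nat_lit 16449, nat_lit 12290, nat_lit 4104]⟩⟩⟩]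
theorem s519 : Suf yT 4194304 (ldrop wU 7) (apW dcM p518) (tgtN dcM p518.e) := Suf.seg (l := l519) (by decide +kernel) s520
def l518 : List AP := [⟨[nat_lit 628, nat_lit 0, nat_lit 4, nat_lit 8, nat_lit 625], [], (nat_lit 1030), ⟨[nat_lit 0, nat_lit 22, nat_lit 94], [nat_lit 27, nat_lit 93], ⟨[nat_lit 0x6d969945f4818689888a2d5c765c01], [nat_lit 170496, nat_lit 164864, nat_lit 160384, nat_lit 157248, nat_lit 151968, nat_lit 147712, nat_lit 144200, nat_lit 139820, nat_lit 135866, nat_lit 131340, nat_lit 2, nat_lit 4608, nat_lit 9328, nat_lit 13632, nat_lit 17920, nat_lit 22400, nat_lit 25600, nat_lit 29952, nat_lit 33280, nat_lit 41313, nat_lit 37032, nat_lit 32785, nat_lit 28740, nat_lit 24740, nat_lit 20502, nat_lit 16427, nat_lit 12294, nat_lit 8195, nat_lit 4097, nat_lit 2]⟩⟩⟩,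
  ⟨[nat_lit 14, nat_lit 39, nat_lit 37, nat_lit 36, nat_lit 39], [], (nat_lit 90), ⟨[nat_lit 6, nat_lit 52], [nat_lit 43, nat_lit 63], ⟨[nat_lit 0x40ecf6268011c302ba2dade665488b], [nat_lit 175104, nat_lit 168960, nat_lit 167424, nat_lit 162688, nat_lit 159424, nat_lit 152064, nat_lit 148784, nat_lit 145264, nat_lit 142056, nat_lit 137610, nat_lit 131592, nat_lit 1224, nat_lit 5588, nat_lit 9736, nat_lit 14176, nat_lit 17408, nat_lit 21376, nat_lit 26368, nat_lit 29440, nat_lit 34304, nat_lit 37888, nat_lit 41767, nat_lit 38293, nat_lit 32863, nat_lit 29299, nat_lit 24762, nat_lit 20545, nat_lit 16386, nat_lit 12327, nat_lit 8203, nat_lit 8]⟩⟩⟩]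
theorem rU10 : Suf yT 4194304 wU [yT.get 44] 0 := Suf.seg (l := l518) (by decide +kernel) s519

def p525 : AP := ⟨[nat_lit 25, nat_lit 638], [], (nat_lit 68), ⟨[nat_lit 18, nat_lit 91], [nat_lit 0, nat_lit 13, nat_lit 53], ⟨[nat_lit 0xb9e23b29f46044b4b8854367091815], [nat_lit 174080, nat_lit 169984, nat_lit 167424, nat_lit 161664, nat_lit 157248, nat_lit 152416, nat_lit 150640, nat_lit 143784, nat_lit 140288, nat_lit 137872, nat_lit 134663, nat_lit 738, nat_lit 5904, nat_lit 9384, nat_lit 17824, nat_lit 29696, nat_lit 33280, nat_lit 41798, nat_lit 38015, nat_lit 33512, nat_lit 28933, nat_lit 24625, nat_lit 20552, nat_lit 16385, nat_lit 12320, nat_lit 8321, nat_lit 4]⟩⟩⟩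
def p526 : AP := ⟨[nat_lit 650, nat_lit 652, nat_lit 116], [], (nat_lit 254), ⟨[nat_lit 0, nat_lit 25, nat_lit 55], [nat_lit 0, nat_lit 73, nat_lit 56], ⟨[nat_lit 0x500e56344b35a2e7de4444261ad069], [nat_lit 168960, nat_lit 165888, nat_lit 161792, nat_lit 158080, nat_lit 155584, nat_lit 148640, nat_lit 145848, nat_lit 142492, nat_lit 136742, nat_lit 135074, nat_lit 1066, nat_lit 5580, nat_lit 9704, nat_lit 13024, nat_lit 16672, nat_lit 21056, nat_lit 25216, nat_lit 29440, nat_lit 37888, nat_lit 41579, nat_lit 38092, nat_lit 32859, nat_lit 28678, nat_lit 24597, nat_lit 20491, nat_lit 16456, nat_lit 12311, nat_lit 8210, nat_lit 4097]⟩⟩⟩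
def p527 : AP := ⟨[nat_lit 632, nat_lit 41, nat_lit 38, nat_lit 17, nat_lit 632], [], (nat_lit 70), ⟨[nat_lit 21, nat_lit 91], [nat_lit 23, nat_lit 60], ⟨[nat_lit 0xa0d661060e6c4a77aa69bb256a8104], [nat_lit 173056, nat_lit 169472, nat_lit 164864, nat_lit 160768, nat_lit 157568, nat_lit 153088, nat_lit 148128, nat_lit 145320, nat_lit 141032, nat_lit 137614, nat_lit 132399, nat_lit 16, nat_lit 4352, nat_lit 10144, nat_lit 13648, nat_lit 18144, nat_lit 21184, nat_lit 25600, nat_lit 28928, nat_lit 41676, nat_lit 38286, nat_lit 32932, nat_lit 28966, nat_lit 25140, nat_lit 20564, nat_lit 16395, nat_lit 12306, nat_lit 8257, nat_lit 4]⟩⟩⟩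
def p528 : AP := ⟨[nat_lit 30, nat_lit 23, nat_lit 634], [], (nat_lit 88), ⟨[nat_lit 38, nat_lit 58], [nat_lit 0, nat_lit 25, nat_lit 91], ⟨[nat_lit 0x2b2ed70e0b9a00f555243ca36a08c1], [nat_lit 173056, nat_lit 168448, nat_lit 164096, nat_lit 159872, nat_lit 155776, nat_lit 152096, nat_lit 148016, nat_lit 146480, nat_lit 140004, nat_lit 135666, nat_lit 132062, nat_lit 698, nat_lit 5120, nat_lit 8200, nat_lit 12320, nat_lit 17248, nat_lit 21504, nat_lit 25472, nat_lit 30208, nat_lit 34304, nat_lit 37888, nat_lit 41000, nat_lit 37352, nat_lit 33328, nat_lit 29040, nat_lit 24874, nat_lit 20503, nat_lit 16428, nat_lit 4113, nat_lit 16]⟩⟩⟩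
def p529 : AP := ⟨[], [], (nat_lit 246), ⟨[nat_lit 0, nat_lit 41, nat_lit 90], [nat_lit 36, nat_lit 56], ⟨[nat_lit 0x43e8cace4b0c0ae134f131157b0c09], [nat_lit 171008, nat_lit 164864, nat_lit 160256, nat_lit 159232, nat_lit 153408, nat_lit 147616, nat_lit 146440, nat_lit 141812, nat_lit 138226, nat_lit 134549, nat_lit 1928, nat_lit 4684, nat_lit 9200, nat_lit 12976, nat_lit 16576, nat_lit 20864, nat_lit 25344, nat_lit 30464, nat_lit 33792, nat_lit 41899, nat_lit 37243, nat_lit 32891, nat_lit 28764, nat_lit 24705, nat_lit 20754, nat_lit 16459, nat_lit 12290, nat_lit 8209]⟩⟩⟩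
def p530 : AP := ⟨[nat_lit 23, nat_lit 30, nat_lit 25], [], (nat_lit 69), ⟨[nat_lit 0, nat_lit 78, nat_lit 50], [nat_lit 1, nat_lit 47], ⟨[nat_lit 0xa4e4552cf67c009a8cc2445a123997], [nat_lit 173056, nat_lit 169984, nat_lit 166400, nat_lit 162304, nat_lit 159040, nat_lit 152256, nat_lit 150944, nat_lit 146288, nat_lit 140032, nat_lit 138576, nat_lit 132616, nat_lit 1966, nat_lit 5768, nat_lit 8928, nat_lit 13968, nat_lit 16512, nat_lit 22336, nat_lit 25856, nat_lit 28928, nat_lit 33792, nat_lit 41938, nat_lit 38129, nat_lit 32886, nat_lit 29787, nat_lit 24637, nat_lit 20559, nat_lit 16426, nat_lit 12306, nat_lit 8194, nat_lit 4100]⟩⟩⟩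
def l531 : List AP := [⟨[nat_lit 23, nat_lit 24, nat_lit 24, nat_lit 21], [], (nat_lit 1036), ⟨[nat_lit 0, nat_lit 88, nat_lit 69], [nat_lit 0, nat_lit 33, nat_lit 67], ⟨[nat_lit 0x3d6c08484555db323c6e8d16c0a126], [nat_lit 168448, nat_lit 164608, nat_lit 160256, nat_lit 155776, nat_lit 152800, nat_lit 147520, nat_lit 143488, nat_lit 139836, nat_lit 136364, nat_lit 132550, nat_lit 1024, nat_lit 5572, nat_lit 9408, nat_lit 13808, nat_lit 16992, nat_lit 21248, nat_lit 25600, nat_lit 29696, nat_lit 37888, nat_lit 41760, nat_lit 38372, nat_lit 32788, nat_lit 29290, nat_lit 25092, nat_lit 20623, nat_lit 16654, nat_lit 12308, nat_lit 8202, nat_lit 32]⟩⟩⟩,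
  ⟨[nat_lit 38, nat_lit 36], [], (nat_lit 1032), ⟨[nat_lit 0, nat_lit 8, nat_lit 90], [nat_lit 0, nat_lit 80, nat_lit 51], ⟨[nat_lit 0x5d5340b9e01b44c55917818f22cc91], [nat_lit 175104, nat_lit 171008, nat_lit 166400, nat_lit 162432, nat_lit 156736, nat_lit 153792, nat_lit 149504, nat_lit 143720, nat_lit 142876, nat_lit 135338, nat_lit 131991, nat_lit 78, nat_lit 4188, nat_lit 9648, nat_lit 14304, nat_lit 20992, nat_lit 25728, nat_lit 34304, nat_lit 41476, nat_lit 37004, nat_lit 32851, nat_lit 29273, nat_lit 24706, nat_lit 20484, nat_lit 16451, nat_lit 12800, nat_lit 8193, nat_lit 4161, nat_lit 4]⟩⟩⟩]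
theorem s531 : Suf yT 8392704 (ldrop wU 61) (apW dcM p530) (tgtN dcM p530.e) := Suf.fin' (l := l531) (by decide +kernel)
def l530 : List AP := [⟨[nat_lit 635, nat_lit 32, nat_lit 32, nat_lit 30, nat_lit 30], [], (nat_lit 216), ⟨[nat_lit 26, nat_lit 52], [nat_lit 18, nat_lit 60], ⟨[nat_lit 0x4887423a605d5ac784b1b98e892ad0], [nat_lit 174080, nat_lit 171520, nat_lit 167680, nat_lit 162432, nat_lit 155840, nat_lit 154208, nat_lit 149504, nat_lit 144832, nat_lit 141976, nat_lit 136234, nat_lit 131661, nat_lit 760, nat_lit 5544, nat_lit 10224, nat_lit 13040, nat_lit 16640, nat_lit 20544, nat_lit 30208, nat_lit 33280, nat_lit 41028, nat_lit 37211, nat_lit 33311, nat_lit 28683, nat_lit 24589, nat_lit 20484, nat_lit 16911, nat_lit 12353, nat_lit 8195, nat_lit 4100, nat_lit 2]⟩⟩⟩,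
  ⟨[nat_lit 111, nat_lit 649], [], (nat_lit 217), ⟨[nat_lit 86, nat_lit 63], [nat_lit 20, nat_lit 63], ⟨[nat_lit 0x72c2c1d5163c9b434eef8aa0028889], [nat_lit 174080, nat_lit 170496, nat_lit 164352, nat_lit 163200, nat_lit 157824, nat_lit 155136, nat_lit 148656, nat_lit 143776, nat_lit 139608, nat_lit 137364, nat_lit 134504, nat_lit 804, nat_lit 5588, nat_lit 8208, nat_lit 13408, nat_lit 17312, nat_lit 21248, nat_lit 26112, nat_lit 30208, nat_lit 33792, nat_lit 41040, nat_lit 37299, nat_lit 32955, nat_lit 28787, nat_lit 24606, nat_lit 20505, nat_lit 16431, nat_lit 12322, nat_lit 8195, nat_lit 4097]⟩⟩⟩]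
theorem s530 : Suf yT 8392704 (ldrop wU 49) (apW dcM p529) (tgtN dcM p529.e) := Suf.seg (l := l530) (by decide +kernel) s531
def l529 : List AP := [⟨[nat_lit 25, nat_lit 637, nat_lit 32, nat_lit 26, nat_lit 24], [], (nat_lit 216), ⟨[nat_lit 12, nat_lit 62], [nat_lit 0, nat_lit 45, nat_lit 69], ⟨[nat_lit 0xbd9f41c4ea755ac2026b908a8484d0], [nat_lit 169984, nat_lit 165120, nat_lit 161408, nat_lit 157568, nat_lit 153088, nat_lit 149200, nat_lit 143616, nat_lit 139612, nat_lit 137078, nat_lit 131526, nat_lit 1874, nat_lit 5120, nat_lit 9664, nat_lit 13264, nat_lit 17600, nat_lit 20992, nat_lit 25088, nat_lit 29184, nat_lit 33792, nat_lit 37888, nat_lit 41924, nat_lit 37149, nat_lit 33303, nat_lit 24577, nat_lit 16909, nat_lit 12548, nat_lit 8200, nat_lit 4100, nat_lit 64]⟩⟩⟩,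
  ⟨[nat_lit 110, nat_lit 652], [], (nat_lit 255), ⟨[nat_lit 0, nat_lit 23, nat_lit 49], [nat_lit 38, nat_lit 48], ⟨[nat_lit 0x53aaca18ab0924f1b6279c117b0809], [nat_lit 174080, nat_lit 168448, nat_lit 165120, nat_lit 161152, nat_lit 157248, nat_lit 151936, nat_lit 148064, nat_lit 145056, nat_lit 140568, nat_lit 137034, nat_lit 133091, nat_lit 1478, nat_lit 4548, nat_lit 9216, nat_lit 12976, nat_lit 16480, nat_lit 22208, nat_lit 26112, nat_lit 28928, nat_lit 37888, nat_lit 41536, nat_lit 38336, nat_lit 32809, nat_lit 29184, nat_lit 24622, nat_lit 20548, nat_lit 16391, nat_lit 12291, nat_lit 4097, nat_lit 2]⟩⟩⟩]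
theorem s529 : Suf yT 8392704 (ldrop wU 37) (apW dcM p528) (tgtN dcM p528.e) := Suf.seg (l := l529) (by decide +kernel) s530
def l528 : List AP := [⟨[nat_lit 638, nat_lit 635, nat_lit 27], [], (nat_lit 88), ⟨[nat_lit 79, nat_lit 61], [nat_lit 40, nat_lit 47], ⟨[nat_lit 0x65ece94041325056d5f422cea1c660], [nat_lit 173056, nat_lit 168448, nat_lit 164608, nat_lit 160384, nat_lit 159296, nat_lit 152096, nat_lit 147536, nat_lit 145064, nat_lit 140296, nat_lit 136438, nat_lit 132051, nat_lit 64, nat_lit 4684, nat_lit 10008, nat_lit 12352, nat_lit 18240, nat_lit 20608, nat_lit 25088, nat_lit 28928, nat_lit 33280, nat_lit 41358, nat_lit 36956, nat_lit 32992, nat_lit 28691, nat_lit 24598, nat_lit 20492, nat_lit 16449, nat_lit 8211, nat_lit 4097]⟩⟩⟩,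
  ⟨[nat_lit 31, nat_lit 23, nat_lit 22, nat_lit 21], [], (nat_lit 88), ⟨[nat_lit 0, nat_lit 21, nat_lit 66], [nat_lit 0, nat_lit 75, nat_lit 92], ⟨[nat_lit 0x15d0e341ed89eb6094735488962e80], [nat_lit 173056, nat_lit 168960, nat_lit 160128, nat_lit 158144, nat_lit 152896, nat_lit 148016, nat_lit 144016, nat_lit 141264, nat_lit 137174, nat_lit 132267, nat_lit 64, nat_lit 5112, nat_lit 8928, nat_lit 13552, nat_lit 17760, nat_lit 20544, nat_lit 26496, nat_lit 29184, nat_lit 33280, nat_lit 41920, nat_lit 37240, nat_lit 33015, nat_lit 28784, nat_lit 24749, nat_lit 20500, nat_lit 16426, nat_lit 12304, nat_lit 8200, nat_lit 4100]⟩⟩⟩]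
theorem s528 : Suf yT 8392704 (ldrop wU 31) (apW dcM p527) (tgtN dcM p527.e) := Suf.seg (l := l528) (by decide +kernel) s529
def l527 : List AP := [⟨[], [], (nat_lit 217), ⟨[nat_lit 13, nat_lit 56], [nat_lit 0, nat_lit 19, nat_lit 54], ⟨[nat_lit 0x601612cc749185582a2e3bd04b26ed], [nat_lit 173056, nat_lit 169984, nat_lit 160128, nat_lit 157760, nat_lit 152288, nat_lit 149152, nat_lit 145488, nat_lit 141420, nat_lit 138902, nat_lit 134201, nat_lit 1066, nat_lit 5688, nat_lit 9040, nat_lit 13712, nat_lit 17312, nat_lit 21760, nat_lit 25728, nat_lit 30464, nat_lit 34304, nat_lit 41293, nat_lit 37037, nat_lit 33980, nat_lit 28693, nat_lit 24836, nat_lit 20511, nat_lit 16426, nat_lit 12294, nat_lit 8201, nat_lit 4]⟩⟩⟩,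
  ⟨[nat_lit 25, nat_lit 28, nat_lit 21], [], (nat_lit 1036), ⟨[nat_lit 7, nat_lit 94], [nat_lit 14, nat_lit 59], ⟨[nat_lit 0x34a07689838cc8573c0155ec85d2a9], [nat_lit 164608, nat_lit 160640, nat_lit 156736, nat_lit 152640, nat_lit 149408, nat_lit 145392, nat_lit 141916, nat_lit 135774, nat_lit 132648, nat_lit 804, nat_lit 5568, nat_lit 8224, nat_lit 13872, nat_lit 18208, nat_lit 21568, nat_lit 25856, nat_lit 30208, nat_lit 34304, nat_lit 37888, nat_lit 41813, nat_lit 37322, nat_lit 32934, nat_lit 28777, nat_lit 24636, nat_lit 20495, nat_lit 16456, nat_lit 12294, nat_lit 4097, nat_lit 2]⟩⟩⟩]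
theorem s527 : Suf yT 8392704 (ldrop wU 19) (apW dcM p526) (tgtN dcM p526.e) := Suf.seg (l := l527) (by decide +kernel) s528
def l526 : List AP := [⟨[nat_lit 27, nat_lit 32, nat_lit 635, nat_lit 32], [], (nat_lit 88), ⟨[nat_lit 0, nat_lit 4, nat_lit 60], [nat_lit 0, nat_lit 26, nat_lit 52], ⟨[nat_lit 0xab081322654c40372a4f3d84d5de90], [nat_lit 173056, nat_lit 169472, nat_lit 167424, nat_lit 160384, nat_lit 157504, nat_lit 152320, nat_lit 148336, nat_lit 143800, nat_lit 139912, nat_lit 135426, nat_lit 132500, nat_lit 1076, nat_lit 5112, nat_lit 8256, nat_lit 13808, nat_lit 17056, nat_lit 22016, nat_lit 24704, nat_lit 28928, nat_lit 34304, nat_lit 41885, nat_lit 37251, nat_lit 32824, nat_lit 28740, nat_lit 24708, nat_lit 20754, nat_lit 16641, nat_lit 12307, nat_lit 8321, nat_lit 4104, nat_lit 4]⟩⟩⟩,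
  ⟨[nat_lit 26, nat_lit 637, nat_lit 26, nat_lit 22, nat_lit 21], [], (nat_lit 216), ⟨[nat_lit 0, nat_lit 22, nat_lit 54], [nat_lit 29, nat_lit 66], ⟨[nat_lit 0x92c34214cf3b9ac8d46a48a7785808], [nat_lit 168448, nat_lit 165120, nat_lit 163712, nat_lit 155968, nat_lit 152448, nat_lit 149456, nat_lit 144752, nat_lit 140676, nat_lit 136658, nat_lit 132422, nat_lit 256, nat_lit 4684, nat_lit 9928, nat_lit 13296, nat_lit 17600, nat_lit 20608, nat_lit 24704, nat_lit 28928, nat_lit 33280, nat_lit 37888, nat_lit 41852, nat_lit 37248, nat_lit 33495, nat_lit 28675, nat_lit 24600, nat_lit 16453, nat_lit 12309, nat_lit 8208, nat_lit 4224, nat_lit 2]⟩⟩⟩]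
theorem s526 : Suf yT 8392704 (ldrop wU 7) (apW dcM p525) (tgtN dcM p525.e) := Suf.seg (l := l526) (by decide +kernel) s527
def l525 : List AP := [⟨[nat_lit 628, nat_lit 1, nat_lit 628, nat_lit 6, nat_lit 6, nat_lit 5], [], (nat_lit 26), ⟨[nat_lit 18, nat_lit 69], [nat_lit 0, nat_lit 16, nat_lit 50], ⟨[nat_lit 0x4494958a35b42272af54419379d26], [nat_lit 173056, nat_lit 171008, nat_lit 164096, nat_lit 162176, nat_lit 157440, nat_lit 154336, nat_lit 149936, nat_lit 146168, nat_lit 141096, nat_lit 136122, nat_lit 134251, nat_lit 1720, nat_lit 4548, nat_lit 8824, nat_lit 13152, nat_lit 16672, nat_lit 21504, nat_lit 25344, nat_lit 29184, nat_lit 33792, nat_lit 37888, nat_lit 41793, nat_lit 36993, nat_lit 33959, nat_lit 28731, nat_lit 24617, nat_lit 20481, nat_lit 16386, nat_lit 12289, nat_lit 8448, nat_lit 4097]⟩⟩⟩,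
  ⟨[nat_lit 40, nat_lit 36, nat_lit 632, nat_lit 630, nat_lit 36], [], (nat_lit 70), ⟨[nat_lit 75, nat_lit 91], [nat_lit 0, nat_lit 14, nat_lit 60], ⟨[nat_lit 0x2b0553c5265daf3921cd8282303e84], [nat_lit 173056, nat_lit 171008, nat_lit 164352, nat_lit 160384, nat_lit 156416, nat_lit 153568, nat_lit 148416, nat_lit 143584, nat_lit 141080, nat_lit 136622, nat_lit 131580, nat_lit 16, nat_lit 5840, nat_lit 9872, nat_lit 12304, nat_lit 16896, nat_lit 20992, nat_lit 24704, nat_lit 29440, nat_lit 34304, nat_lit 41811, nat_lit 38357, nat_lit 33966, nat_lit 28975, nat_lit 24722, nat_lit 20483, nat_lit 16392, nat_lit 12305, nat_lit 8449, nat_lit 4129, nat_lit 8]⟩⟩⟩]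
theorem rU11 : Suf yT 8392704 wU [yT.get 45] 0 := Suf.seg (l := l525) (by decide +kernel) s526

def p532 : AP := ⟨[nat_lit 72, nat_lit 66], [], (nat_lit 126), ⟨[nat_lit 22, nat_lit 65], [nat_lit 0, nat_lit 40, nat_lit 54], ⟨[nat_lit 0x3d812591a68cd0f81455bd12e62823], [nat_lit 173056, nat_lit 168960, nat_lit 165120, nat_lit 161024, nat_lit 156736, nat_lit 152032, nat_lit 151264, nat_lit 143824, nat_lit 140812, nat_lit 135606, nat_lit 131619, nat_lit 1818, nat_lit 4112, nat_lit 8480, nat_lit 12304, nat_lit 18048, nat_lit 21056, nat_lit 25472, nat_lit 30208, nat_lit 33792, nat_lit 37888, nat_lit 41840, nat_lit 38311, nat_lit 32825, nat_lit 28710, nat_lit 25095, nat_lit 20630, nat_lit 16420, nat_lit 12294, nat_lit 8203, nat_lit 4]⟩⟩⟩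
def p533 : AP := ⟨[nat_lit 170, nat_lit 174, nat_lit 170], [], (nat_lit 396), ⟨[nat_lit 0, nat_lit 43, nat_lit 90], [nat_lit 10, nat_lit 68], ⟨[nat_lit 0x6bcea90ace4963330d000b2f0ad164], [nat_lit 173056, nat_lit 169472, nat_lit 165120, nat_lit 161664, nat_lit 156224, nat_lit 152128, nat_lit 148352, nat_lit 143896, nat_lit 141476, nat_lit 136994, nat_lit 132149, nat_lit 1778, nat_lit 5084, nat_lit 8224, nat_lit 12608, nat_lit 18368, nat_lit 20864, nat_lit 24960, nat_lit 30464, nat_lit 34304, nat_lit 37888, nat_lit 41286, nat_lit 37075, nat_lit 33837, nat_lit 28799, nat_lit 24624, nat_lit 20565, nat_lit 16452, nat_lit 12418, nat_lit 8]⟩⟩⟩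
def p534 : AP := ⟨[nat_lit 21, nat_lit 638, nat_lit 634, nat_lit 29], [], (nat_lit 116), ⟨[nat_lit 33, nat_lit 58], [nat_lit 0, nat_lit 41, nat_lit 54], ⟨[nat_lit 0x10e97939b1082d5324e88326f2156a], [nat_lit 174080, nat_lit 169984, nat_lit 166656, nat_lit 162176, nat_lit 157248, nat_lit 155392, nat_lit 150528, nat_lit 144104, nat_lit 141396, nat_lit 135240, nat_lit 131170, nat_lit 166, nat_lit 5228, nat_lit 10032, nat_lit 14192, nat_lit 16512, nat_lit 20672, nat_lit 26496, nat_lit 29952, nat_lit 33280, nat_lit 41430, nat_lit 36883, nat_lit 33874, nat_lit 28701, nat_lit 25618, nat_lit 20507, nat_lit 16396, nat_lit 12304]⟩⟩⟩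
def p535 : AP := ⟨[nat_lit 213, nat_lit 172], [], (nat_lit 390), ⟨[nat_lit 0, nat_lit 22, nat_lit 70], [nat_lit 85, nat_lit 64], ⟨[nat_lit 0x220653934ab67211d7108d97b3c85], [nat_lit 174080, nat_lit 169984, nat_lit 167680, nat_lit 162432, nat_lit 156608, nat_lit 154336, nat_lit 151424, nat_lit 144832, nat_lit 142612, nat_lit 135286, nat_lit 131334, nat_lit 568, nat_lit 4396, nat_lit 8408, nat_lit 14304, nat_lit 17920, nat_lit 21504, nat_lit 26496, nat_lit 30208, nat_lit 37888, nat_lit 41700, nat_lit 38242, nat_lit 33290, nat_lit 28702, nat_lit 25608, nat_lit 20544, nat_lit 16393, nat_lit 12293, nat_lit 4224, nat_lit 8]⟩⟩⟩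
def p536 : AP := ⟨[nat_lit 661, nat_lit 171], [], (nat_lit 418), ⟨[nat_lit 0, nat_lit 1, nat_lit 67], [nat_lit 72, nat_lit 56], ⟨[nat_lit 0x8082b510f2ac53603ee570cd463513], [nat_lit 169472, nat_lit 165120, nat_lit 161536, nat_lit 156864, nat_lit 152960, nat_lit 151136, nat_lit 143464, nat_lit 140024, nat_lit 136446, nat_lit 131506, nat_lit 606, nat_lit 4784, nat_lit 8840, nat_lit 12384, nat_lit 16416, nat_lit 20736, nat_lit 26240, nat_lit 29696, nat_lit 33792, nat_lit 37888, nat_lit 41688, nat_lit 38313, nat_lit 32944, nat_lit 28928, nat_lit 25089, nat_lit 20506, nat_lit 12324, nat_lit 8201, nat_lit 4101]⟩⟩⟩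
def p537 : AP := ⟨[nat_lit 53], [], (nat_lit 126), ⟨[nat_lit 0, nat_lit 14, nat_lit 66], [nat_lit 0, nat_lit 10, nat_lit 49], ⟨[nat_lit 0x5a4f224222b96c41e7168ef0a5546], [nat_lit 175104, nat_lit 168448, nat_lit 167424, nat_lit 162304, nat_lit 159360, nat_lit 152800, nat_lit 148144, nat_lit 143368, nat_lit 142888, nat_lit 137400, nat_lit 133090, nat_lit 786, nat_lit 4548, nat_lit 9712, nat_lit 14144, nat_lit 17824, nat_lit 21504, nat_lit 25600, nat_lit 30208, nat_lit 33792, nat_lit 37888, nat_lit 41802, nat_lit 37268, nat_lit 33430, nat_lit 28705, nat_lit 24598, nat_lit 20490, nat_lit 16452, nat_lit 12320, nat_lit 8257, nat_lit 4097, nat_lit 2]⟩⟩⟩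
def l538 : List AP := [⟨[nat_lit 68], [], (nat_lit 122), ⟨[nat_lit 0, nat_lit 84, nat_lit 65], [nat_lit 18, nat_lit 64], ⟨[nat_lit 0x58c0d4bc8535c53b2a8e09eb064a28], [nat_lit 174080, nat_lit 170496, nat_lit 165888, nat_lit 161280, nat_lit 159168, nat_lit 153664, nat_lit 147744, nat_lit 145552, nat_lit 140592, nat_lit 136372, nat_lit 131262, nat_lit 236, nat_lit 4924, nat_lit 10160, nat_lit 13664, nat_lit 17760, nat_lit 21568, nat_lit 24704, nat_lit 29184, nat_lit 41143, nat_lit 37176, nat_lit 33332, nat_lit 28763, nat_lit 24723, nat_lit 21009, nat_lit 16515, nat_lit 12290, nat_lit 8448, nat_lit 4104, nat_lit 32]⟩⟩⟩,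
  ⟨[nat_lit 15, nat_lit 630], [], (nat_lit 1032), ⟨[nat_lit 0, nat_lit 27, nat_lit 46], [nat_lit 33, nat_lit 64], ⟨[nat_lit 0x7516f2307184aea9b445480353a2c6], [nat_lit 173056, nat_lit 168960, nat_lit 166400, nat_lit 161024, nat_lit 156480, nat_lit 154624, nat_lit 150752, nat_lit 145440, nat_lit 141956, nat_lit 139008, nat_lit 132362, nat_lit 1720, nat_lit 5436, nat_lit 9312, nat_lit 13072, nat_lit 17760, nat_lit 22336, nat_lit 29184, nat_lit 33280, nat_lit 37888, nat_lit 41195, nat_lit 37178, nat_lit 33464, nat_lit 29006, nat_lit 24718, nat_lit 20992, nat_lit 16431, nat_lit 12289, nat_lit 8211, nat_lit 4097, nat_lit 2]⟩⟩⟩]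
theorem s538 : Suf yT 2048 (ldrop wU 61) (apW dcM p537) (tgtN dcM p537.e) := Suf.fin' (l := l538) (by decide +kernel)
def l537 : List AP := [⟨[nat_lit 216, nat_lit 659], [], (nat_lit 419), ⟨[nat_lit 23, nat_lit 51], [nat_lit 0, nat_lit 27, nat_lit 57], ⟨[nat_lit 0x72cb2b3c0ca861322a2d4247439ae2], [nat_lit 175104, nat_lit 171008, nat_lit 167424, nat_lit 160896, nat_lit 158144, nat_lit 154816, nat_lit 148096, nat_lit 147256, nat_lit 140784, nat_lit 136322, nat_lit 132378, nat_lit 1136, nat_lit 4328, nat_lit 9216, nat_lit 13152, nat_lit 17888, nat_lit 25344, nat_lit 28928, nat_lit 33280, nat_lit 41798, nat_lit 38367, nat_lit 32789, nat_lit 29305, nat_lit 24734, nat_lit 20566, nat_lit 16454, nat_lit 12295, nat_lit 8203, nat_lit 4104, nat_lit 2]⟩⟩⟩,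
  ⟨[nat_lit 172, nat_lit 179], [], (nat_lit 396), ⟨[nat_lit 0, nat_lit 42, nat_lit 50], [nat_lit 0, nat_lit 82, nat_lit 53], ⟨[nat_lit 0xacd6eb454f031a4418490ca0519ef4], [nat_lit 169984, nat_lit 160768, nat_lit 156992, nat_lit 153120, nat_lit 147680, nat_lit 144928, nat_lit 140800, nat_lit 136130, nat_lit 132053, nat_lit 1108, nat_lit 4328, nat_lit 10128, nat_lit 12800, nat_lit 16416, nat_lit 20992, nat_lit 25856, nat_lit 29952, nat_lit 34304, nat_lit 37888, nat_lit 41472, nat_lit 37919, nat_lit 32926, nat_lit 29022, nat_lit 24616, nat_lit 20484, nat_lit 16654, nat_lit 8227, nat_lit 4100, nat_lit 2]⟩⟩⟩]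
theorem s537 : Suf yT 2048 (ldrop wU 49) (apW dcM p536) (tgtN dcM p536.e) := Suf.seg (l := l537) (by decide +kernel) s538
def l536 : List AP := [⟨[nat_lit 28, nat_lit 24, nat_lit 27, nat_lit 636, nat_lit 21], [], (nat_lit 116), ⟨[nat_lit 0, nat_lit 25, nat_lit 91], [nat_lit 0, nat_lit 7, nat_lit 60], ⟨[nat_lit 0x64875bb6614994874280214eb13ed1], [nat_lit 168448, nat_lit 165888, nat_lit 162688, nat_lit 158720, nat_lit 153632, nat_lit 148176, nat_lit 146904, nat_lit 141916, nat_lit 135432, nat_lit 134340, nat_lit 1004, nat_lit 4748, nat_lit 10088, nat_lit 13664, nat_lit 16704, nat_lit 21056, nat_lit 25600, nat_lit 29952, nat_lit 33280, nat_lit 41345, nat_lit 36934, nat_lit 32900, nat_lit 28758, nat_lit 24753, nat_lit 20549, nat_lit 16399, nat_lit 12293, nat_lit 8200, nat_lit 4113]⟩⟩⟩,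
  ⟨[nat_lit 68, nat_lit 47, nat_lit 640, nat_lit 70, nat_lit 47], [], (nat_lit 1046), ⟨[nat_lit 0, nat_lit 12, nat_lit 56], [nat_lit 83, nat_lit 56], ⟨[nat_lit 0x746a394d04a26c6101650be173a98d], [nat_lit 173056, nat_lit 171520, nat_lit 165632, nat_lit 161664, nat_lit 159232, nat_lit 153504, nat_lit 147952, nat_lit 147384, nat_lit 143008, nat_lit 137792, nat_lit 133681, nat_lit 210, nat_lit 5024, nat_lit 9560, nat_lit 13120, nat_lit 18112, nat_lit 22336, nat_lit 26112, nat_lit 30464, nat_lit 37888, nat_lit 41901, nat_lit 37317, nat_lit 32837, nat_lit 28677, nat_lit 24848, nat_lit 21504, nat_lit 16394, nat_lit 12306, nat_lit 4097, nat_lit 2]⟩⟩⟩]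
theorem s536 : Suf yT 2048 (ldrop wU 37) (apW dcM p535) (tgtN dcM p535.e) := Suf.seg (l := l536) (by decide +kernel) s537
def l535 : List AP := [⟨[nat_lit 67, nat_lit 52, nat_lit 53, nat_lit 70], [], (nat_lit 1046), ⟨[nat_lit 0, nat_lit 75, nat_lit 48], [nat_lit 18, nat_lit 93], ⟨[nat_lit 0x232b75152d3cdf158690901163086e], [nat_lit 165632, nat_lit 163072, nat_lit 155968, nat_lit 152096, nat_lit 147552, nat_lit 143912, nat_lit 140320, nat_lit 135302, nat_lit 131500, nat_lit 1292, nat_lit 5580, nat_lit 8320, nat_lit 13680, nat_lit 18336, nat_lit 20672, nat_lit 25600, nat_lit 28928, nat_lit 33792, nat_lit 37888, nat_lit 41693, nat_lit 36954, nat_lit 32960, nat_lit 24865, nat_lit 20552, nat_lit 16389, nat_lit 12321, nat_lit 4608, nat_lit 16]⟩⟩⟩,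
  ⟨[nat_lit 661, nat_lit 171], [], (nat_lit 418), ⟨[nat_lit 86, nat_lit 46], [nat_lit 0, nat_lit 24, nat_lit 68], ⟨[nat_lit 0x920346963361062bbaa653ce9b0170], [nat_lit 173056, nat_lit 168448, nat_lit 164096, nat_lit 163456, nat_lit 156672, nat_lit 153152, nat_lit 148832, nat_lit 143616, nat_lit 139740, nat_lit 136176, nat_lit 131334, nat_lit 64, nat_lit 4952, nat_lit 9944, nat_lit 12912, nat_lit 17824, nat_lit 20608, nat_lit 24704, nat_lit 30464, nat_lit 33280, nat_lit 37888, nat_lit 41400, nat_lit 37248, nat_lit 32896, nat_lit 28975, nat_lit 24607, nat_lit 16457, nat_lit 12289, nat_lit 8211, nat_lit 4]⟩⟩⟩]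
theorem s535 : Suf yT 2048 (ldrop wU 31) (apW dcM p534) (tgtN dcM p534.e) := Suf.seg (l := l535) (by decide +kernel) s536
def l534 : List AP := [⟨[nat_lit 50], [], (nat_lit 1046), ⟨[nat_lit 0, nat_lit 36, nat_lit 65], [nat_lit 81, nat_lit 64], ⟨[nat_lit 0x6bcea90ace4963330d000b2f0ad164], [nat_lit 169472, nat_lit 165120, nat_lit 161664, nat_lit 156224, nat_lit 152128, nat_lit 148352, nat_lit 143888, nat_lit 141476, nat_lit 136994, nat_lit 132149, nat_lit 1778, nat_lit 5084, nat_lit 8224, nat_lit 12608, nat_lit 18368, nat_lit 20864, nat_lit 24960, nat_lit 30464, nat_lit 34304, nat_lit 37888, nat_lit 41286, nat_lit 37075, nat_lit 33837, nat_lit 28799, nat_lit 24624, nat_lit 20565, nat_lit 16452, nat_lit 12418, nat_lit 8]⟩⟩⟩,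
  ⟨[nat_lit 176, nat_lit 171], [], (nat_lit 390), ⟨[nat_lit 13, nat_lit 50], [nat_lit 29, nat_lit 69], ⟨[nat_lit 0x20d86a153078253b20f10ad4d756e2], [nat_lit 168448, nat_lit 162048, nat_lit 156992, nat_lit 153344, nat_lit 148528, nat_lit 144928, nat_lit 139884, nat_lit 135198, nat_lit 132207, nat_lit 1136, nat_lit 4756, nat_lit 8320, nat_lit 12832, nat_lit 18336, nat_lit 21696, nat_lit 24704, nat_lit 30208, nat_lit 33792, nat_lit 41390, nat_lit 37042, nat_lit 33838, nat_lit 28759, nat_lit 21010, nat_lit 16397, nat_lit 12305, nat_lit 8195, nat_lit 4100, nat_lit 2]⟩⟩⟩]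
theorem s534 : Suf yT 2048 (ldrop wU 19) (apW dcM p533) (tgtN dcM p533.e) := Suf.seg (l := l534) (by decide +kernel) s535
def l533 : List AP := [⟨[nat_lit 57, nat_lit 73, nat_lit 67, nat_lit 643], [], (nat_lit 120), ⟨[nat_lit 3, nat_lit 64], [nat_lit 0, nat_lit 12, nat_lit 65], ⟨[nat_lit 0x38978d2aa44cc790c2b6d8454b1f0], [nat_lit 169472, nat_lit 164608, nat_lit 159872, nat_lit 157120, nat_lit 154880, nat_lit 148752, nat_lit 144808, nat_lit 140500, nat_lit 135502, nat_lit 131296, nat_lit 1076, nat_lit 5716, nat_lit 10088, nat_lit 13552, nat_lit 17888, nat_lit 20544, nat_lit 24704, nat_lit 30208, nat_lit 33280, nat_lit 37888, nat_lit 41797, nat_lit 38182, nat_lit 33795, nat_lit 28764, nat_lit 24627, nat_lit 20481, nat_lit 16451, nat_lit 12422, nat_lit 8322, nat_lit 4100, nat_lit 32]⟩⟩⟩,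
  ⟨[nat_lit 72, nat_lit 67, nat_lit 48, nat_lit 643], [], (nat_lit 1046), ⟨[nat_lit 0, nat_lit 83, nat_lit 89], [nat_lit 0, nat_lit 33, nat_lit 52], ⟨[nat_lit 0xaecd8a90783c8ebb0099d68611472], [nat_lit 174080, nat_lit 170496, nat_lit 167424, nat_lit 160896, nat_lit 156736, nat_lit 152608, nat_lit 151088, nat_lit 145184, nat_lit 140500, nat_lit 137566, nat_lit 134904, nat_lit 1810, nat_lit 5876, nat_lit 8320, nat_lit 12416, nat_lit 18208, nat_lit 20608, nat_lit 25856, nat_lit 33792, nat_lit 41936, nat_lit 38097, nat_lit 33298, nat_lit 28705, nat_lit 25628, nat_lit 20619, nat_lit 16642, nat_lit 12327, nat_lit 8200, nat_lit 4129]⟩⟩⟩]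
theorem s533 : Suf yT 2048 (ldrop wU 7) (apW dcM p532) (tgtN dcM p532.e) := Suf.seg (l := l533) (by decide +kernel) s534
def l532 : List AP := [⟨[nat_lit 9, nat_lit 625, nat_lit 7, nat_lit 8, nat_lit 6, nat_lit 1], [], (nat_lit 26), ⟨[nat_lit 0, nat_lit 88, nat_lit 93], [nat_lit 19, nat_lit 67], ⟨[nat_lit 0x23a4f0351410e0535af199d2b6542a], [nat_lit 173056, nat_lit 168448, nat_lit 165888, nat_lit 162944, nat_lit 158720, nat_lit 154432, nat_lit 147712, nat_lit 146664, nat_lit 141864, nat_lit 135832, nat_lit 134713, nat_lit 1808, nat_lit 5884, nat_lit 8392, nat_lit 12832, nat_lit 16864, nat_lit 21824, nat_lit 24704, nat_lit 29184, nat_lit 33792, nat_lit 37888, nat_lit 41414, nat_lit 36949, nat_lit 32853, nat_lit 28783, nat_lit 24730, nat_lit 20552, nat_lit 16395, nat_lit 12308, nat_lit 8201, nat_lit 4097, nat_lit 2]⟩⟩⟩,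
  ⟨[nat_lit 39, nat_lit 37, nat_lit 630, nat_lit 631, nat_lit 633, nat_lit 41], [], (nat_lit 90), ⟨[nat_lit 0, nat_lit 87, nat_lit 59], [nat_lit 0, nat_lit 68], ⟨[nat_lit 0x1d90fa3120088f073625a9af351172], [nat_lit 173056, nat_lit 169472, nat_lit 167680, nat_lit 161152, nat_lit 156224, nat_lit 155104, nat_lit 150304, nat_lit 145816, nat_lit 141472, nat_lit 138904, nat_lit 131291, nat_lit 1810, nat_lit 5064, nat_lit 8928, nat_lit 14256, nat_lit 21376, nat_lit 24704, nat_lit 30208, nat_lit 33280, nat_lit 37888, nat_lit 40982, nat_lit 37320, nat_lit 33374, nat_lit 28777, nat_lit 24637, nat_lit 20563, nat_lit 16395, nat_lit 12308, nat_lit 8194, nat_lit 4100, nat_lit 8]⟩⟩⟩]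
theorem rU12 : Suf yT 2048 wU [yT.get 46] 0 := Suf.seg (l := l532) (by decide +kernel) s533

def p539 : AP := ⟨[nat_lit 644], [], (nat_lit 193), ⟨[nat_lit 80, nat_lit 62], [nat_lit 1, nat_lit 58], ⟨[nat_lit 0x898222ad53241ec75c093da5468ea8], [nat_lit 173056, nat_lit 171520, nat_lit 166912, nat_lit 161792, nat_lit 158400, nat_lit 153088, nat_lit 149856, nat_lit 147104, nat_lit 140368, nat_lit 137410, nat_lit 131810, nat_lit 2018, nat_lit 4824, nat_lit 9432, nat_lit 12544, nat_lit 17888, nat_lit 20736, nat_lit 26368, nat_lit 29696, nat_lit 37888, nat_lit 41601, nat_lit 38034, nat_lit 32964, nat_lit 28998, nat_lit 24851, nat_lit 20510, nat_lit 16428, nat_lit 12293, nat_lit 8203, nat_lit 4097, nat_lit 2]⟩⟩⟩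
def p540 : AP := ⟨[nat_lit 662, nat_lit 178, nat_lit 662, nat_lit 170], [], (nat_lit 412), ⟨[nat_lit 0, nat_lit 17, nat_lit 57], [nat_lit 0, nat_lit 10, nat_lit 50], ⟨[nat_lit 0x658224ccc37d16a85e4e04505392ad], [nat_lit 173056, nat_lit 170496, nat_lit 165376, nat_lit 160128, nat_lit 159104, nat_lit 153248, nat_lit 148896, nat_lit 147040, nat_lit 143196, nat_lit 138122, nat_lit 134312, nat_lit 508, nat_lit 5900, nat_lit 9384, nat_lit 12896, nat_lit 16512, nat_lit 21632, nat_lit 26112, nat_lit 28928, nat_lit 34304, nat_lit 41367, nat_lit 37271, nat_lit 33404, nat_lit 28695, nat_lit 24639, nat_lit 20548, nat_lit 16391, nat_lit 12323, nat_lit 8195, nat_lit 4101, nat_lit 4]⟩⟩⟩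
def p541 : AP := ⟨[nat_lit 21, nat_lit 27, nat_lit 27, nat_lit 29, nat_lit 29], [], (nat_lit 176), ⟨[nat_lit 80, nat_lit 52], [nat_lit 32, nat_lit 68], ⟨[nat_lit 0x6aaa742450904c59d8177446c7ae84], [nat_lit 174080, nat_lit 167424, nat_lit 162944, nat_lit 158208, nat_lit 152256, nat_lit 149392, nat_lit 143776, nat_lit 142540, nat_lit 137308, nat_lit 132274, nat_lit 1166, nat_lit 5604, nat_lit 9752, nat_lit 14144, nat_lit 17312, nat_lit 21440, nat_lit 25344, nat_lit 29696, nat_lit 34304, nat_lit 41698, nat_lit 37342, nat_lit 32997, nat_lit 28714, nat_lit 24839, nat_lit 20561, nat_lit 16392, nat_lit 12290, nat_lit 32]⟩⟩⟩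
def p542 : AP := ⟨[nat_lit 212, nat_lit 179, nat_lit 171], [], (nat_lit 396), ⟨[nat_lit 32, nat_lit 46], [nat_lit 0, nat_lit 2, nat_lit 49], ⟨[nat_lit 0xa956d9a143b1d2e950178b02f140c4], [nat_lit 173056, nat_lit 169472, nat_lit 166656, nat_lit 161152, nat_lit 157440, nat_lit 152128, nat_lit 149328, nat_lit 145224, nat_lit 140388, nat_lit 136986, nat_lit 131710, nat_lit 508, nat_lit 5120, nat_lit 8256, nat_lit 14112, nat_lit 16448, nat_lit 22336, nat_lit 24832, nat_lit 33792, nat_lit 41758, nat_lit 38289, nat_lit 33001, nat_lit 29035, nat_lit 24616, nat_lit 20569, nat_lit 16425, nat_lit 12308, nat_lit 8200, nat_lit 4224, nat_lit 32]⟩⟩⟩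
def p543 : AP := ⟨[], [], (nat_lit 941), ⟨[nat_lit 73, nat_lit 46], [nat_lit 31, nat_lit 51], ⟨[nat_lit 0x9a5a4046f28150e31ea3a31e15584b], [nat_lit 173056, nat_lit 170496, nat_lit 165120, nat_lit 160640, nat_lit 157120, nat_lit 152800, nat_lit 149104, nat_lit 144840, nat_lit 139996, nat_lit 136604, nat_lit 132906, nat_lit 354, nat_lit 5084, nat_lit 8704, nat_lit 14240, nat_lit 17504, nat_lit 22080, nat_lit 24704, nat_lit 29696, nat_lit 33280, nat_lit 37888, nat_lit 41634, nat_lit 37163, nat_lit 32872, nat_lit 29802, nat_lit 24712, nat_lit 20496, nat_lit 16398, nat_lit 12311, nat_lit 8195, nat_lit 4101, nat_lit 4]⟩⟩⟩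
def p544 : AP := ⟨[nat_lit 212, nat_lit 171], [], (nat_lit 392), ⟨[nat_lit 0, nat_lit 81, nat_lit 49], [nat_lit 0, nat_lit 20, nat_lit 62], ⟨[nat_lit 0xb1c924aa35019aba3e0c4142e98c57], [nat_lit 175104, nat_lit 169984, nat_lit 166144, nat_lit 161024, nat_lit 156544, nat_lit 150160, nat_lit 143864, nat_lit 140604, nat_lit 138460, nat_lit 135152, nat_lit 1136, nat_lit 4964, nat_lit 8200, nat_lit 13648, nat_lit 18336, nat_lit 21184, nat_lit 26112, nat_lit 28928, nat_lit 34304, nat_lit 41919, nat_lit 36927, nat_lit 32821, nat_lit 28705, nat_lit 24592, nat_lit 20511, nat_lit 16387, nat_lit 12323, nat_lit 8195, nat_lit 4097, nat_lit 2]⟩⟩⟩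
def l545 : List AP := [⟨[], [], (nat_lit 339), ⟨[nat_lit 0, nat_lit 42, nat_lit 54], [nat_lit 0, nat_lit 92], ⟨[nat_lit 0x8448a3bdc8b8d922a44068675b1a8b], [nat_lit 175104, nat_lit 171008, nat_lit 166400, nat_lit 161408, nat_lit 158336, nat_lit 154976, nat_lit 147728, nat_lit 147136, nat_lit 139764, nat_lit 135826, nat_lit 132081, nat_lit 354, nat_lit 5112, nat_lit 10024, nat_lit 14144, nat_lit 16864, nat_lit 22400, nat_lit 25600, nat_lit 29440, nat_lit 37888, nat_lit 41458, nat_lit 36884, nat_lit 34017, nat_lit 28717, nat_lit 25626, nat_lit 20505, nat_lit 16416, nat_lit 12291, nat_lit 8321, nat_lit 4105, nat_lit 8]⟩⟩⟩,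
  ⟨[], [], (nat_lit 1034), ⟨[nat_lit 0, nat_lit 79, nat_lit 46], [nat_lit 7, nat_lit 51], ⟨[nat_lit 0xb2663a8172245f02d1b73b94809982], [nat_lit 169472, nat_lit 165120, nat_lit 160768, nat_lit 157312, nat_lit 153056, nat_lit 148608, nat_lit 145064, nat_lit 141020, nat_lit 136448, nat_lit 134838, nat_lit 4, nat_lit 4408, nat_lit 9216, nat_lit 13616, nat_lit 17440, nat_lit 20992, nat_lit 28928, nat_lit 37888, nat_lit 41617, nat_lit 38262, nat_lit 33459, nat_lit 29277, nat_lit 24849, nat_lit 20615, nat_lit 16424, nat_lit 12295, nat_lit 8193, nat_lit 4097]⟩⟩⟩]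
theorem s545 : Suf yT 2049 (ldrop wU 61) (apW dcM p544) (tgtN dcM p544.e) := Suf.fin' (l := l545) (by decide +kernel)
def l544 : List AP := [⟨[nat_lit 676, nat_lit 468, nat_lit 420, nat_lit 410], [], (nat_lit 940), ⟨[nat_lit 0, nat_lit 33, nat_lit 66], [nat_lit 77, nat_lit 70], ⟨[nat_lit 0x89eb2b2889135730b20805c66715f4], [nat_lit 175104, nat_lit 171520, nat_lit 167424, nat_lit 160256, nat_lit 156864, nat_lit 152224, nat_lit 151424, nat_lit 145056, nat_lit 140912, nat_lit 138054, nat_lit 134007, nat_lit 1842, nat_lit 4780, nat_lit 10032, nat_lit 14304, nat_lit 17408, nat_lit 26368, nat_lit 41514, nat_lit 37915, nat_lit 32801, nat_lit 28745, nat_lit 24738, nat_lit 20481, nat_lit 16896, nat_lit 12358, nat_lit 8200, nat_lit 4160]⟩⟩⟩,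
  ⟨[nat_lit 677, nat_lit 415, nat_lit 468, nat_lit 411], [], (nat_lit 1236), ⟨[nat_lit 0, nat_lit 87, nat_lit 55], [nat_lit 29, nat_lit 50], ⟨[nat_lit 0xa48d62b60e029f51aeec09c5144d24], [nat_lit 168448, nat_lit 166656, nat_lit 162432, nat_lit 157952, nat_lit 154464, nat_lit 146920, nat_lit 142944, nat_lit 135416, nat_lit 133531, nat_lit 508, nat_lit 5588, nat_lit 9840, nat_lit 13792, nat_lit 16896, nat_lit 21760, nat_lit 25472, nat_lit 33280, nat_lit 41302, nat_lit 37329, nat_lit 32795, nat_lit 28773, nat_lit 24597, nat_lit 20484, nat_lit 16385, nat_lit 12546, nat_lit 8194, nat_lit 4097]⟩⟩⟩]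
theorem s544 : Suf yT 2049 (ldrop wU 49) (apW dcM p543) (tgtN dcM p543.e) := Suf.seg (l := l544) (by decide +kernel) s545
def l543 : List AP := [⟨[nat_lit 72, nat_lit 71, nat_lit 641, nat_lit 48, nat_lit 46], [], (nat_lit 1046), ⟨[nat_lit 73, nat_lit 68], [nat_lit 0, nat_lit 44, nat_lit 54], ⟨[nat_lit 0xd264b40a263d2d344775216e3d640], [nat_lit 164096, nat_lit 160000, nat_lit 159616, nat_lit 152096, nat_lit 149104, nat_lit 145136, nat_lit 139852, nat_lit 135872, nat_lit 132218, nat_lit 64, nat_lit 5792, nat_lit 8824, nat_lit 13760, nat_lit 22400, nat_lit 29696, nat_lit 34304, nat_lit 41792, nat_lit 38272, nat_lit 32973, nat_lit 28983, nat_lit 24636, nat_lit 20556, nat_lit 16428, nat_lit 12307, nat_lit 8200, nat_lit 4101]⟩⟩⟩,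
  ⟨[nat_lit 660, nat_lit 214, nat_lit 176], [], (nat_lit 858), ⟨[nat_lit 0, nat_lit 76, nat_lit 67], [nat_lit 0, nat_lit 6, nat_lit 56], ⟨[nat_lit 0xb209205d959d0c98c04d285c71ad4f], [nat_lit 175104, nat_lit 169472, nat_lit 161664, nat_lit 159296, nat_lit 154112, nat_lit 150224, nat_lit 144464, nat_lit 142484, nat_lit 135600, nat_lit 134967, nat_lit 796, nat_lit 4964, nat_lit 10192, nat_lit 13104, nat_lit 17184, nat_lit 22336, nat_lit 25216, nat_lit 33280, nat_lit 37888, nat_lit 41391, nat_lit 36883, nat_lit 32872, nat_lit 29746, nat_lit 24594, nat_lit 20505, nat_lit 16423, nat_lit 12311, nat_lit 8195]⟩⟩⟩]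
theorem s543 : Suf yT 2049 (ldrop wU 37) (apW dcM p542) (tgtN dcM p542.e) := Suf.seg (l := l543) (by decide +kernel) s544
def l542 : List AP := [⟨[nat_lit 645, nat_lit 81, nat_lit 648, nat_lit 84], [], (nat_lit 370), ⟨[nat_lit 4, nat_lit 57], [nat_lit 7, nat_lit 93], ⟨[nat_lit 0x8dda744c705bdc0a06a9616d211944], [nat_lit 173056, nat_lit 170496, nat_lit 164864, nat_lit 160000, nat_lit 158336, nat_lit 148736, nat_lit 147224, nat_lit 142660, nat_lit 139126, nat_lit 134164, nat_lit 606, nat_lit 5544, nat_lit 9216, nat_lit 13632, nat_lit 22464, nat_lit 29184, nat_lit 37888, nat_lit 41617, nat_lit 38344, nat_lit 33446, nat_lit 29025, nat_lit 24593, nat_lit 20751, nat_lit 16385, nat_lit 12419, nat_lit 8200, nat_lit 4224]⟩⟩⟩,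
  ⟨[nat_lit 171, nat_lit 173], [], (nat_lit 413), ⟨[nat_lit 19, nat_lit 61], [nat_lit 0, nat_lit 6, nat_lit 94], ⟨[nat_lit 0x1de424940c855680a9e63cec47468d], [nat_lit 173056, nat_lit 169472, nat_lit 165376, nat_lit 163456, nat_lit 156864, nat_lit 153056, nat_lit 149168, nat_lit 145288, nat_lit 140724, nat_lit 135302, nat_lit 132496, nat_lit 364, nat_lit 4380, nat_lit 9648, nat_lit 14032, nat_lit 16512, nat_lit 21888, nat_lit 26112, nat_lit 28928, nat_lit 33792, nat_lit 37888, nat_lit 41823, nat_lit 37261, nat_lit 32896, nat_lit 29029, nat_lit 24711, nat_lit 20500, nat_lit 12801, nat_lit 8200, nat_lit 4160]⟩⟩⟩]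
theorem s542 : Suf yT 2049 (ldrop wU 31) (apW dcM p541) (tgtN dcM p541.e) := Suf.seg (l := l542) (by decide +kernel) s543
def l541 : List AP := [⟨[nat_lit 177, nat_lit 173, nat_lit 173], [], (nat_lit 371), ⟨[nat_lit 34, nat_lit 48], [nat_lit 0, nat_lit 43, nat_lit 61], ⟨[nat_lit 0x8a0679b6f01164a0b814aade9b30c4], [nat_lit 169472, nat_lit 166912, nat_lit 162176, nat_lit 157696, nat_lit 155200, nat_lit 149200, nat_lit 147320, nat_lit 141840, nat_lit 135664, nat_lit 133477, nat_lit 508, nat_lit 5436, nat_lit 10048, nat_lit 13552, nat_lit 17408, nat_lit 22464, nat_lit 25600, nat_lit 29440, nat_lit 41591, nat_lit 38367, nat_lit 33369, nat_lit 28681, nat_lit 24593, nat_lit 20510, nat_lit 16395, nat_lit 12311, nat_lit 8203, nat_lit 4100]⟩⟩⟩,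
  ⟨[nat_lit 84, nat_lit 100], [], (nat_lit 190), ⟨[nat_lit 76, nat_lit 94], [nat_lit 0, nat_lit 15, nat_lit 68], ⟨[nat_lit 0x5de8f1b42829d2c941ca012d311ab1], [nat_lit 167168, nat_lit 162176, nat_lit 157888, nat_lit 154688, nat_lit 148496, nat_lit 145464, nat_lit 142728, nat_lit 135370, nat_lit 134754, nat_lit 1004, nat_lit 5900, nat_lit 9216, nat_lit 13984, nat_lit 16704, nat_lit 21312, nat_lit 24704, nat_lit 29952, nat_lit 33280, nat_lit 41681, nat_lit 38078, nat_lit 32882, nat_lit 29765, nat_lit 24883, nat_lit 20763, nat_lit 16522, nat_lit 12307, nat_lit 8200]⟩⟩⟩]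
theorem s541 : Suf yT 2049 (ldrop wU 19) (apW dcM p540) (tgtN dcM p540.e) := Suf.seg (l := l541) (by decide +kernel) s542
def l540 : List AP := [⟨[nat_lit 106, nat_lit 104, nat_lit 647, nat_lit 102], [], (nat_lit 844), ⟨[nat_lit 5, nat_lit 48], [nat_lit 39, nat_lit 50], ⟨[nat_lit 0xb266abc9ec19dc800634a960668964], [nat_lit 173056, nat_lit 168960, nat_lit 165376, nat_lit 160256, nat_lit 156992, nat_lit 153536, nat_lit 149136, nat_lit 143824, nat_lit 139408, nat_lit 137190, nat_lit 131233, nat_lit 508, nat_lit 5080, nat_lit 14192, nat_lit 16672, nat_lit 22208, nat_lit 25600, nat_lit 30208, nat_lit 41600, nat_lit 38264, nat_lit 33304, nat_lit 28960, nat_lit 24742, nat_lit 20561, nat_lit 16423, nat_lit 12801, nat_lit 8]⟩⟩⟩,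
  ⟨[nat_lit 420, nat_lit 675, nat_lit 467, nat_lit 410], [], (nat_lit 1236), ⟨[nat_lit 0, nat_lit 31, nat_lit 53], [nat_lit 0, nat_lit 26, nat_lit 67], ⟨[nat_lit 0x6263650d6544db5848c015e843bdc1], [nat_lit 168448, nat_lit 164352, nat_lit 161024, nat_lit 155840, nat_lit 153248, nat_lit 149376, nat_lit 145848, nat_lit 139812, nat_lit 136988, nat_lit 132317, nat_lit 1180, nat_lit 6068, nat_lit 8408, nat_lit 14192, nat_lit 16768, nat_lit 22336, nat_lit 26496, nat_lit 30208, nat_lit 33280, nat_lit 37888, nat_lit 41889, nat_lit 38383, nat_lit 34012, nat_lit 29817, nat_lit 24736, nat_lit 20501, nat_lit 16429, nat_lit 12311, nat_lit 8203, nat_lit 4105, nat_lit 8]⟩⟩⟩]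
theorem s540 : Suf yT 2049 (ldrop wU 7) (apW dcM p539) (tgtN dcM p539.e) := Suf.seg (l := l540) (by decide +kernel) s541
def l539 : List AP := [⟨[nat_lit 5, nat_lit 626, nat_lit 3, nat_lit 625, nat_lit 0, nat_lit 4], [], (nat_lit 26), ⟨[nat_lit 81, nat_lit 62], [nat_lit 43, nat_lit 49], ⟨[nat_lit 0x74e27259b495c2a482152a18b1984f], [nat_lit 171008, nat_lit 165376, nat_lit 162432, nat_lit 156352, nat_lit 155072, nat_lit 150240, nat_lit 146816, nat_lit 139324, nat_lit 135808, nat_lit 133971, nat_lit 1488, nat_lit 5084, nat_lit 9216, nat_lit 13312, nat_lit 18048, nat_lit 22336, nat_lit 25344, nat_lit 28928, nat_lit 41257, nat_lit 37332, nat_lit 33362, nat_lit 28683, nat_lit 24585, nat_lit 20506, nat_lit 16421, nat_lit 12310, nat_lit 8210, nat_lit 4112]⟩⟩⟩,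
  ⟨[nat_lit 630, nat_lit 631, nat_lit 39, nat_lit 39, nat_lit 630, nat_lit 16], [], (nat_lit 150), ⟨[nat_lit 16, nat_lit 89], [nat_lit 0, nat_lit 2, nat_lit 65], ⟨[nat_lit 0xa06d5180572450f72a0732e6d4c985], [nat_lit 164608, nat_lit 160128, nat_lit 156928, nat_lit 152288, nat_lit 149232, nat_lit 143784, nat_lit 141052, nat_lit 136002, nat_lit 134761, nat_lit 128, nat_lit 4540, nat_lit 8552, nat_lit 13552, nat_lit 18080, nat_lit 20800, nat_lit 25984, nat_lit 37888, nat_lit 41055, nat_lit 37245, nat_lit 32994, nat_lit 28754, nat_lit 24766, nat_lit 20570, nat_lit 16418, nat_lit 12291, nat_lit 8209, nat_lit 4097]⟩⟩⟩]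
theorem rU13 : Suf yT 2049 wU [yT.get 47] 0 := Suf.seg (l := l539) (by decide +kernel) s540

def p546 : AP := ⟨[nat_lit 644], [], (nat_lit 193), ⟨[nat_lit 0, nat_lit 25, nat_lit 93], [nat_lit 0, nat_lit 4, nat_lit 54], ⟨[nat_lit 0x7da005a4eaacc2c410c5752221de4d], [nat_lit 174080, nat_lit 166144, nat_lit 162432, nat_lit 159104, nat_lit 151744, nat_lit 147760, nat_lit 143576, nat_lit 143352, nat_lit 137446, nat_lit 132152, nat_lit 1066, nat_lit 5572, nat_lit 9624, nat_lit 17792, nat_lit 20928, nat_lit 26368, nat_lit 29184, nat_lit 33280, nat_lit 41186, nat_lit 37359, nat_lit 33389, nat_lit 28928, nat_lit 24635, nat_lit 20501, nat_lit 16398, nat_lit 12290, nat_lit 8211]⟩⟩⟩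
def p547 : AP := ⟨[nat_lit 82, nat_lit 104, nat_lit 77], [], (nat_lit 182), ⟨[nat_lit 24, nat_lit 66], [nat_lit 40, nat_lit 69], ⟨[nat_lit 0x850a61a5843894fb39b2886a0bad13], [nat_lit 174080, nat_lit 168960, nat_lit 165888, nat_lit 161792, nat_lit 158720, nat_lit 152960, nat_lit 149120, nat_lit 144464, nat_lit 143100, nat_lit 137790, nat_lit 132539, nat_lit 1928, nat_lit 5316, nat_lit 9752, nat_lit 12896, nat_lit 17888, nat_lit 20928, nat_lit 25088, nat_lit 30464, nat_lit 41564, nat_lit 38372, nat_lit 32770, nat_lit 29293, nat_lit 24743, nat_lit 20560, nat_lit 16457, nat_lit 12308]⟩⟩⟩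
def p548 : AP := ⟨[nat_lit 638, nat_lit 28, nat_lit 30, nat_lit 22, nat_lit 30], [], (nat_lit 176), ⟨[nat_lit 0, nat_lit 29, nat_lit 93], [nat_lit 0, nat_lit 78, nat_lit 67], ⟨[nat_lit 0x2928d30153b2d888c1f71d5c138a49], [nat_lit 168960, nat_lit 165376, nat_lit 161024, nat_lit 156288, nat_lit 153184, nat_lit 149376, nat_lit 144440, nat_lit 140476, nat_lit 135190, nat_lit 133757, nat_lit 1478, nat_lit 5572, nat_lit 12624, nat_lit 17760, nat_lit 22080, nat_lit 25984, nat_lit 30464, nat_lit 41958, nat_lit 38288, nat_lit 32788, nat_lit 29745, nat_lit 24634, nat_lit 20550, nat_lit 16425, nat_lit 12290, nat_lit 8195, nat_lit 4097]⟩⟩⟩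
def p549 : AP := ⟨[nat_lit 663], [], (nat_lit 390), ⟨[nat_lit 87, nat_lit 65], [nat_lit 0, nat_lit 12, nat_lit 50], ⟨[nat_lit 0x51466245f565e67b06884b9a204172], [nat_lit 170496, nat_lit 161664, nat_lit 156096, nat_lit 152992, nat_lit 149472, nat_lit 143856, nat_lit 140976, nat_lit 135300, nat_lit 132786, nat_lit 4568, nat_lit 8256, nat_lit 14128, nat_lit 18112, nat_lit 21760, nat_lit 30208, nat_lit 33280, nat_lit 41524, nat_lit 37016, nat_lit 29253, nat_lit 24726, nat_lit 21524, nat_lit 16521, nat_lit 12354, nat_lit 8208, nat_lit 8]⟩⟩⟩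
def p550 : AP := ⟨[], [], (nat_lit 943), ⟨[nat_lit 75, nat_lit 70], [nat_lit 21, nat_lit 62], ⟨[nat_lit 0x938d60ad2a6c0b4ab0f31890025df1], [nat_lit 173056, nat_lit 171008, nat_lit 166144, nat_lit 162688, nat_lit 157952, nat_lit 152800, nat_lit 150976, nat_lit 147344, nat_lit 140220, nat_lit 138910, nat_lit 133027, nat_lit 1652, nat_lit 5296, nat_lit 9328, nat_lit 14192, nat_lit 16896, nat_lit 22080, nat_lit 25984, nat_lit 29184, nat_lit 33280, nat_lit 37888, nat_lit 41518, nat_lit 38194, nat_lit 32929, nat_lit 28987, nat_lit 24637, nat_lit 20554, nat_lit 16399, nat_lit 12290, nat_lit 8208, nat_lit 4]⟩⟩⟩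
def p551 : AP := ⟨[nat_lit 212, nat_lit 171], [], (nat_lit 392), ⟨[nat_lit 0, nat_lit 2, nat_lit 50], [nat_lit 26, nat_lit 52], ⟨[nat_lit 0xaa0a93ca770418b0a9d17b68620876], [nat_lit 173056, nat_lit 168448, nat_lit 165376, nat_lit 161408, nat_lit 157312, nat_lit 152000, nat_lit 147872, nat_lit 144376, nat_lit 140460, nat_lit 135630, nat_lit 131547, nat_lit 696, nat_lit 5580, nat_lit 12304, nat_lit 17408, nat_lit 21504, nat_lit 25216, nat_lit 28928, nat_lit 33280, nat_lit 41173, nat_lit 37163, nat_lit 33323, nat_lit 29813, nat_lit 24605, nat_lit 20634, nat_lit 16426, nat_lit 12322, nat_lit 4128]⟩⟩⟩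
def l552 : List AP := [⟨[], [], (nat_lit 339), ⟨[nat_lit 0, nat_lit 21, nat_lit 54], [nat_lit 21, nat_lit 50], ⟨[nat_lit 0x434278aacbb88129beae4b0a3250d0], [nat_lit 175104, nat_lit 171008, nat_lit 166656, nat_lit 161536, nat_lit 156672, nat_lit 153088, nat_lit 149808, nat_lit 143832, nat_lit 141244, nat_lit 137886, nat_lit 134688, nat_lit 1874, nat_lit 6104, nat_lit 9192, nat_lit 12304, nat_lit 16448, nat_lit 20544, nat_lit 25600, nat_lit 29696, nat_lit 37888, nat_lit 41247, nat_lit 36978, nat_lit 33810, nat_lit 28737, nat_lit 24579, nat_lit 20484, nat_lit 16393, nat_lit 12304, nat_lit 8225, nat_lit 4160]⟩⟩⟩,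
  ⟨[], [], (nat_lit 1034), ⟨[nat_lit 74, nat_lit 64], [nat_lit 0, nat_lit 9, nat_lit 48], ⟨[nat_lit 0xb9c90880365986fab9b24d26a43045], [nat_lit 164352, nat_lit 160000, nat_lit 155840, nat_lit 152448, nat_lit 147664, nat_lit 145336, nat_lit 140220, nat_lit 135642, nat_lit 133307, nat_lit 128, nat_lit 4408, nat_lit 8320, nat_lit 14240, nat_lit 17536, nat_lit 22400, nat_lit 24832, nat_lit 28928, nat_lit 41761, nat_lit 37275, nat_lit 32897, nat_lit 28790, nat_lit 24750, nat_lit 20631, nat_lit 16450, nat_lit 12307, nat_lit 8195, nat_lit 4100]⟩⟩⟩]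
theorem s552 : Suf yT 2050 (ldrop wU 61) (apW dcM p551) (tgtN dcM p551.e) := Suf.fin' (l := l552) (by decide +kernel)
def l551 : List AP := [⟨[nat_lit 420, nat_lit 413, nat_lit 677], [], (nat_lit 952), ⟨[nat_lit 29, nat_lit 55], [nat_lit 43, nat_lit 69], ⟨[nat_lit 0xb3a71abd6a32201488b269c9465c03], [nat_lit 175104, nat_lit 171008, nat_lit 166912, nat_lit 160384, nat_lit 159552, nat_lit 153664, nat_lit 149264, nat_lit 145944, nat_lit 140836, nat_lit 136782, nat_lit 132711, nat_lit 8, nat_lit 4404, nat_lit 8976, nat_lit 12320, nat_lit 17696, nat_lit 20992, nat_lit 25856, nat_lit 29696, nat_lit 34304, nat_lit 41963, nat_lit 37302, nat_lit 33534, nat_lit 29262, nat_lit 24631, nat_lit 20575, nat_lit 16463, nat_lit 12306, nat_lit 8193, nat_lit 4105, nat_lit 2]⟩⟩⟩,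
  ⟨[nat_lit 678, nat_lit 463, nat_lit 462, nat_lit 416], [], (nat_lit 1236), ⟨[nat_lit 51], [nat_lit 0, nat_lit 77, nat_lit 92], ⟨[nat_lit 0x604155351484ecf29eee92cc28a483], [nat_lit 168960, nat_lit 166400, nat_lit 163072, nat_lit 159168, nat_lit 155520, nat_lit 149248, nat_lit 146120, nat_lit 141500, nat_lit 135300, nat_lit 133188, nat_lit 484, nat_lit 5588, nat_lit 8208, nat_lit 12800, nat_lit 16896, nat_lit 20672, nat_lit 25216, nat_lit 28928, nat_lit 33792, nat_lit 37888, nat_lit 40983, nat_lit 37129, nat_lit 33508, nat_lit 29028, nat_lit 24617, nat_lit 20563, nat_lit 16397, nat_lit 12289, nat_lit 8210, nat_lit 4100]⟩⟩⟩]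
theorem s551 : Suf yT 2050 (ldrop wU 49) (apW dcM p550) (tgtN dcM p550.e) := Suf.seg (l := l551) (by decide +kernel) s552
def l550 : List AP := [⟨[nat_lit 638, nat_lit 21, nat_lit 638, nat_lit 638, nat_lit 25], [], (nat_lit 191), ⟨[nat_lit 79, nat_lit 63], [nat_lit 40, nat_lit 57], ⟨[nat_lit 0xb066e58807615aa1d1f23460825d35], [nat_lit 165376, nat_lit 160000, nat_lit 156224, nat_lit 152736, nat_lit 148000, nat_lit 143616, nat_lit 142232, nat_lit 135302, nat_lit 132754, nat_lit 1766, nat_lit 5568, nat_lit 10064, nat_lit 12896, nat_lit 17984, nat_lit 20928, nat_lit 26368, nat_lit 29440, nat_lit 37888, nat_lit 41748, nat_lit 37091, nat_lit 32788, nat_lit 29239, nat_lit 24589, nat_lit 20496, nat_lit 16388, nat_lit 12353, nat_lit 8195]⟩⟩⟩,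
  ⟨[nat_lit 78, nat_lit 648, nat_lit 77, nat_lit 647, nat_lit 76], [], (nat_lit 844), ⟨[nat_lit 0, nat_lit 30, nat_lit 63], [nat_lit 0, nat_lit 20, nat_lit 59], ⟨[nat_lit 0x43847a4a706ac642bc09ada370998a], [nat_lit 165632, nat_lit 160256, nat_lit 156864, nat_lit 152512, nat_lit 148480, nat_lit 143496, nat_lit 140220, nat_lit 136726, nat_lit 131722, nat_lit 1810, nat_lit 4412, nat_lit 9528, nat_lit 13904, nat_lit 17056, nat_lit 22144, nat_lit 29696, nat_lit 41311, nat_lit 37093, nat_lit 33909, nat_lit 29285, nat_lit 20767, nat_lit 16430, nat_lit 12309, nat_lit 8202]⟩⟩⟩]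
theorem s550 : Suf yT 2050 (ldrop wU 37) (apW dcM p549) (tgtN dcM p549.e) := Suf.seg (l := l550) (by decide +kernel) s551
def l549 : List AP := [⟨[nat_lit 648, nat_lit 100, nat_lit 648, nat_lit 85, nat_lit 81], [], (nat_lit 370), ⟨[nat_lit 37, nat_lit 65], [nat_lit 0, nat_lit 17, nat_lit 64], ⟨[nat_lit 0x882f453aa46d8c83cc45785921a570], [nat_lit 175104, nat_lit 170496, nat_lit 165888, nat_lit 161920, nat_lit 156160, nat_lit 153760, nat_lit 150752, nat_lit 144792, nat_lit 141996, nat_lit 135906, nat_lit 131698, nat_lit 1698, nat_lit 5228, nat_lit 9752, nat_lit 25856, nat_lit 28928, nat_lit 41946, nat_lit 37943, nat_lit 32812, nat_lit 28798, nat_lit 24706, nat_lit 20560, nat_lit 16448, nat_lit 12304, nat_lit 8194, nat_lit 512]⟩⟩⟩,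
  ⟨[nat_lit 171, nat_lit 173], [], (nat_lit 413), ⟨[nat_lit 64], [nat_lit 0, nat_lit 14, nat_lit 66], ⟨[nat_lit 0x1a2e1a2ded95a29115d3aa8e401a0c], [nat_lit 171008, nat_lit 166144, nat_lit 162944, nat_lit 158144, nat_lit 152512, nat_lit 150032, nat_lit 145448, nat_lit 141084, nat_lit 138976, nat_lit 132788, nat_lit 318, nat_lit 5016, nat_lit 9888, nat_lit 14224, nat_lit 16448, nat_lit 20864, nat_lit 25728, nat_lit 33280, nat_lit 37888, nat_lit 41247, nat_lit 37370, nat_lit 33417, nat_lit 28771, nat_lit 24601, nat_lit 20619, nat_lit 16386, nat_lit 12325, nat_lit 8203, nat_lit 8]⟩⟩⟩]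
theorem s549 : Suf yT 2050 (ldrop wU 31) (apW dcM p548) (tgtN dcM p548.e) := Suf.seg (l := l549) (by decide +kernel) s550
def l548 : List AP := [⟨[nat_lit 641, nat_lit 69, nat_lit 640, nat_lit 642], [], (nat_lit 178), ⟨[nat_lit 0, nat_lit 88, nat_lit 66], [nat_lit 80, nat_lit 52], ⟨[nat_lit 0x54c208a696b918230eae41cb092daf], [nat_lit 174080, nat_lit 169472, nat_lit 167424, nat_lit 163712, nat_lit 157824, nat_lit 153312, nat_lit 149424, nat_lit 143640, nat_lit 141868, nat_lit 137836, nat_lit 133069, nat_lit 1668, nat_lit 4780, nat_lit 9752, nat_lit 14176, nat_lit 18336, nat_lit 21056, nat_lit 34304, nat_lit 41925, nat_lit 36970, nat_lit 33795, nat_lit 28682, nat_lit 24623, nat_lit 20568, nat_lit 16429, nat_lit 12290, nat_lit 4097, nat_lit 2]⟩⟩⟩,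
  ⟨[nat_lit 82, nat_lit 81], [], (nat_lit 190), ⟨[nat_lit 0, nat_lit 23, nat_lit 91], [nat_lit 0, nat_lit 9, nat_lit 53], ⟨[nat_lit 0x89aa043dcc25853535691dcf2850a1], [nat_lit 175104, nat_lit 169984, nat_lit 165888, nat_lit 160128, nat_lit 157952, nat_lit 153696, nat_lit 149392, nat_lit 145904, nat_lit 140928, nat_lit 136804, nat_lit 131420, nat_lit 2, nat_lit 4224, nat_lit 8600, nat_lit 14112, nat_lit 17376, nat_lit 20608, nat_lit 24704, nat_lit 29952, nat_lit 33792, nat_lit 37888, nat_lit 41479, nat_lit 38083, nat_lit 32982, nat_lit 28749, nat_lit 24622, nat_lit 20549, nat_lit 16654, nat_lit 8258, nat_lit 4129, nat_lit 32]⟩⟩⟩]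
theorem s548 : Suf yT 2050 (ldrop wU 19) (apW dcM p547) (tgtN dcM p547.e) := Suf.seg (l := l548) (by decide +kernel) s549
def l547 : List AP := [⟨[nat_lit 78, nat_lit 84, nat_lit 645, nat_lit 646], [], (nat_lit 844), ⟨[nat_lit 0, nat_lit 26, nat_lit 60], [nat_lit 26, nat_lit 47], ⟨[nat_lit 0x3a5a88c9c61555023ef628d8102e93], [nat_lit 173056, nat_lit 168448, nat_lit 164608, nat_lit 160000, nat_lit 155968, nat_lit 152992, nat_lit 148336, nat_lit 145344, nat_lit 140284, nat_lit 135176, nat_lit 132390, nat_lit 590, nat_lit 5112, nat_lit 8592, nat_lit 13264, nat_lit 17248, nat_lit 20736, nat_lit 25856, nat_lit 33280, nat_lit 37888, nat_lit 41912, nat_lit 38044, nat_lit 33387, nat_lit 29710, nat_lit 24847, nat_lit 20630, nat_lit 16524, nat_lit 12309, nat_lit 8201, nat_lit 4100]⟩⟩⟩,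
  ⟨[nat_lit 467, nat_lit 411], [], (nat_lit 1228), ⟨[nat_lit 31, nat_lit 55], [nat_lit 0, nat_lit 28, nat_lit 46], ⟨[nat_lit 0x602e87516289d497b4b3958951c026], [nat_lit 173056, nat_lit 164608, nat_lit 161024, nat_lit 156736, nat_lit 153856, nat_lit 148640, nat_lit 145384, nat_lit 139292, nat_lit 136282, nat_lit 131178, nat_lit 738, nat_lit 4128, nat_lit 8256, nat_lit 12320, nat_lit 17408, nat_lit 20736, nat_lit 24832, nat_lit 29952, nat_lit 33792, nat_lit 41083, nat_lit 37114, nat_lit 33005, nat_lit 29021, nat_lit 24612, nat_lit 16513, nat_lit 8256, nat_lit 16]⟩⟩⟩]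
theorem s547 : Suf yT 2050 (ldrop wU 7) (apW dcM p546) (tgtN dcM p546.e) := Suf.seg (l := l547) (by decide +kernel) s548
def l546 : List AP := [⟨[nat_lit 11, nat_lit 7, nat_lit 3, nat_lit 9, nat_lit 11, nat_lit 8], [], (nat_lit 26), ⟨[nat_lit 0, nat_lit 2, nat_lit 91], [nat_lit 0, nat_lit 82], ⟨[nat_lit 0x232cf3c292325756a811b8c2540a6e], [nat_lit 169472, nat_lit 164096, nat_lit 160384, nat_lit 159104, nat_lit 151648, nat_lit 144808, nat_lit 139372, nat_lit 136994, nat_lit 131073, nat_lit 1530, nat_lit 6068, nat_lit 8256, nat_lit 13920, nat_lit 18272, nat_lit 20736, nat_lit 33280, nat_lit 41256, nat_lit 37216, nat_lit 33312, nat_lit 28758, nat_lit 21000, nat_lit 16518, nat_lit 12320, nat_lit 4225, nat_lit 2]⟩⟩⟩,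
  ⟨[nat_lit 629, nat_lit 36, nat_lit 630, nat_lit 43, nat_lit 632], [], (nat_lit 150), ⟨[nat_lit 0, nat_lit 17, nat_lit 62], [nat_lit 0, nat_lit 36, nat_lit 62], ⟨[nat_lit 0x42e3001cc265ecf290237369592a69], [nat_lit 174080, nat_lit 168960, nat_lit 165376, nat_lit 163072, nat_lit 156096, nat_lit 153344, nat_lit 150512, nat_lit 147024, nat_lit 142180, nat_lit 137748, nat_lit 134415, nat_lit 344, nat_lit 4884, nat_lit 9096, nat_lit 13184, nat_lit 16864, nat_lit 22336, nat_lit 29696, nat_lit 34304, nat_lit 41774, nat_lit 38237, nat_lit 33019, nat_lit 29032, nat_lit 24639, nat_lit 20499, nat_lit 16388, nat_lit 12356, nat_lit 4105]⟩⟩⟩]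
theorem rU14 : Suf yT 2050 wU [yT.get 48] 0 := Suf.seg (l := l546) (by decide +kernel) s547

def p553 : AP := ⟨[nat_lit 644], [], (nat_lit 193), ⟨[nat_lit 0, nat_lit 22, nat_lit 63], [nat_lit 1, nat_lit 51], ⟨[nat_lit 0x4d0402acd6446b223873830e1535f7], [nat_lit 169984, nat_lit 166400, nat_lit 162432, nat_lit 159360, nat_lit 152928, nat_lit 150496, nat_lit 145864, nat_lit 139428, nat_lit 137616, nat_lit 131474, nat_lit 1966, nat_lit 5296, nat_lit 8776, nat_lit 13712, nat_lit 16704, nat_lit 21376, nat_lit 25856, nat_lit 29696, nat_lit 33280, nat_lit 41724, nat_lit 38086, nat_lit 32859, nat_lit 28747, nat_lit 24718, nat_lit 20493, nat_lit 16643, nat_lit 12295, nat_lit 8202]⟩⟩⟩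
def p554 : AP := ⟨[nat_lit 86, nat_lit 103, nat_lit 102], [], (nat_lit 179), ⟨[nat_lit 0, nat_lit 75, nat_lit 65], [nat_lit 82], ⟨[nat_lit 0xb6f614e2f03169854a871c669128a], [nat_lit 173056, nat_lit 171008, nat_lit 164608, nat_lit 161152, nat_lit 158848, nat_lit 153216, nat_lit 148288, nat_lit 146424, nat_lit 142952, nat_lit 138304, nat_lit 133391, nat_lit 1842, nat_lit 5544, nat_lit 9576, nat_lit 14176, nat_lit 17408, nat_lit 21504, nat_lit 25344, nat_lit 29952, nat_lit 33792, nat_lit 37888, nat_lit 41168, nat_lit 36885, nat_lit 32789, nat_lit 29741, nat_lit 24736, nat_lit 20502, nat_lit 16389, nat_lit 12352, nat_lit 8193, nat_lit 4129, nat_lit 2]⟩⟩⟩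
def p555 : AP := ⟨[nat_lit 637, nat_lit 29, nat_lit 23, nat_lit 31, nat_lit 27], [], (nat_lit 176), ⟨[nat_lit 0, nat_lit 80, nat_lit 68], [nat_lit 0, nat_lit 74, nat_lit 51], ⟨[nat_lit 0x60247209d1b28239c1776d5e941a85], [nat_lit 169472, nat_lit 160768, nat_lit 156160, nat_lit 153312, nat_lit 148240, nat_lit 145208, nat_lit 141516, nat_lit 136210, nat_lit 132769, nat_lit 1054, nat_lit 5604, nat_lit 9216, nat_lit 13920, nat_lit 17280, nat_lit 22336, nat_lit 25856, nat_lit 28928, nat_lit 33792, nat_lit 37888, nat_lit 41753, nat_lit 36976, nat_lit 32939, nat_lit 28967, nat_lit 25140, nat_lit 20750, nat_lit 16902, nat_lit 12416, nat_lit 4112, nat_lit 32]⟩⟩⟩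
def p556 : AP := ⟨[nat_lit 212, nat_lit 659], [], (nat_lit 396), ⟨[nat_lit 0, nat_lit 14, nat_lit 58], [nat_lit 42, nat_lit 50], ⟨[nat_lit 0x894c99a003b05a495d54ab0e27c16e], [nat_lit 169472, nat_lit 166656, nat_lit 161408, nat_lit 156864, nat_lit 152288, nat_lit 148512, nat_lit 143504, nat_lit 140432, nat_lit 135408, nat_lit 132546, nat_lit 810, nat_lit 4824, nat_lit 8256, nat_lit 13920, nat_lit 16736, nat_lit 22016, nat_lit 24832, nat_lit 30464, nat_lit 34304, nat_lit 37888, nat_lit 41382, nat_lit 37011, nat_lit 32800, nat_lit 28693, nat_lit 24616, nat_lit 20566, nat_lit 16426, nat_lit 8208, nat_lit 128]⟩⟩⟩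
def p557 : AP := ⟨[], [], (nat_lit 943), ⟨[nat_lit 45, nat_lit 94], [nat_lit 86, nat_lit 90], ⟨[nat_lit 0x83095989325de811a1af028e62bad1], [nat_lit 168448, nat_lit 165120, nat_lit 161280, nat_lit 155776, nat_lit 153024, nat_lit 149456, nat_lit 145064, nat_lit 142396, nat_lit 137192, nat_lit 132143, nat_lit 184, nat_lit 5208, nat_lit 10032, nat_lit 14272, nat_lit 17184, nat_lit 21120, nat_lit 25472, nat_lit 29696, nat_lit 41799, nat_lit 38205, nat_lit 33915, nat_lit 28699, nat_lit 25134, nat_lit 20747, nat_lit 16388, nat_lit 12423, nat_lit 8200, nat_lit 4128, nat_lit 2]⟩⟩⟩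
def p558 : AP := ⟨[nat_lit 212, nat_lit 171], [], (nat_lit 392), ⟨[nat_lit 32, nat_lit 65], [nat_lit 82, nat_lit 53], ⟨[nat_lit 0xb998e188956aa400ae6fa46074a0b6], [nat_lit 173056, nat_lit 165376, nat_lit 160640, nat_lit 157568, nat_lit 151680, nat_lit 147904, nat_lit 144928, nat_lit 142740, nat_lit 136488, nat_lit 132641, nat_lit 700, nat_lit 5444, nat_lit 8448, nat_lit 12688, nat_lit 17600, nat_lit 21312, nat_lit 24704, nat_lit 28928, nat_lit 37888, nat_lit 41732, nat_lit 37968, nat_lit 33020, nat_lit 28740, nat_lit 24715, nat_lit 20496, nat_lit 16419, nat_lit 12353, nat_lit 4104]⟩⟩⟩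
def l559 : List AP := [⟨[], [], (nat_lit 339), ⟨[nat_lit 20, nat_lit 69], [nat_lit 22, nat_lit 49], ⟨[nat_lit 0x58c153508863d579cac92b8513b430], [nat_lit 173056, nat_lit 169472, nat_lit 165376, nat_lit 160640, nat_lit 157568, nat_lit 154144, nat_lit 148976, nat_lit 145384, nat_lit 140300, nat_lit 136570, nat_lit 131648, nat_lit 428, nat_lit 4128, nat_lit 10024, nat_lit 12848, nat_lit 18176, nat_lit 20544, nat_lit 24832, nat_lit 29952, nat_lit 33280, nat_lit 37888, nat_lit 41356, nat_lit 36976, nat_lit 32990, nat_lit 28962, nat_lit 24608, nat_lit 20487, nat_lit 16524, nat_lit 12423, nat_lit 8226, nat_lit 4]⟩⟩⟩,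
  ⟨[], [], (nat_lit 1034), ⟨[nat_lit 85, nat_lit 49], [nat_lit 26, nat_lit 50], ⟨[nat_lit 0x302af645c84887055a546dc8199d65], [nat_lit 173056, nat_lit 171008, nat_lit 164096, nat_lit 159872, nat_lit 156544, nat_lit 152224, nat_lit 148416, nat_lit 143664, nat_lit 140484, nat_lit 135322, nat_lit 131351, nat_lit 1054, nat_lit 4568, nat_lit 10032, nat_lit 14208, nat_lit 17472, nat_lit 21184, nat_lit 25856, nat_lit 30208, nat_lit 33280, nat_lit 41779, nat_lit 38327, nat_lit 32992, nat_lit 28976, nat_lit 24720, nat_lit 20488, nat_lit 16394, nat_lit 12307, nat_lit 8705, nat_lit 4]⟩⟩⟩]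
theorem s559 : Suf yT 2052 (ldrop wU 61) (apW dcM p558) (tgtN dcM p558.e) := Suf.fin' (l := l559) (by decide +kernel)
def l558 : List AP := [⟨[nat_lit 467, nat_lit 417, nat_lit 414], [], (nat_lit 952), ⟨[nat_lit 3, nat_lit 52], [nat_lit 86, nat_lit 66], ⟨[nat_lit 0x394419b1f273611a2d151900655ec9], [nat_lit 169472, nat_lit 167424, nat_lit 161280, nat_lit 155904, nat_lit 154112, nat_lit 151104, nat_lit 145752, nat_lit 143196, nat_lit 138030, nat_lit 132016, nat_lit 1918, nat_lit 5544, nat_lit 8752, nat_lit 13552, nat_lit 17728, nat_lit 21120, nat_lit 25088, nat_lit 29696, nat_lit 33792, nat_lit 41846, nat_lit 38280, nat_lit 33869, nat_lit 29247, nat_lit 24743, nat_lit 20508, nat_lit 16426, nat_lit 12291, nat_lit 8193, nat_lit 4104, nat_lit 2]⟩⟩⟩,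
  ⟨[nat_lit 421, nat_lit 676, nat_lit 421, nat_lit 416], [], (nat_lit 1236), ⟨[nat_lit 0, nat_lit 14, nat_lit 48], [nat_lit 86, nat_lit 92], ⟨[nat_lit 0x9b4af4a8f1912d5151cbbb00830603], [nat_lit 175104, nat_lit 170496, nat_lit 165888, nat_lit 156480, nat_lit 153248, nat_lit 151456, nat_lit 144824, nat_lit 140464, nat_lit 138948, nat_lit 134952, nat_lit 1818, nat_lit 4160, nat_lit 9152, nat_lit 13312, nat_lit 16960, nat_lit 22336, nat_lit 26496, nat_lit 30208, nat_lit 33280, nat_lit 37888, nat_lit 41911, nat_lit 37324, nat_lit 33439, nat_lit 29278, nat_lit 24858, nat_lit 20481, nat_lit 16523, nat_lit 12289, nat_lit 8707, nat_lit 4100]⟩⟩⟩]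
theorem s558 : Suf yT 2052 (ldrop wU 49) (apW dcM p557) (tgtN dcM p557.e) := Suf.seg (l := l558) (by decide +kernel) s559
def l557 : List AP := [⟨[nat_lit 53, nat_lit 67, nat_lit 640, nat_lit 68], [], (nat_lit 178), ⟨[nat_lit 85, nat_lit 92], [nat_lit 10, nat_lit 94], ⟨[nat_lit 0x586a83d0458194fbce2060ece6c889], [nat_lit 164352, nat_lit 161024, nat_lit 156288, nat_lit 154944, nat_lit 147584, nat_lit 144176, nat_lit 139960, nat_lit 132757, nat_lit 1066, nat_lit 5588, nat_lit 10160, nat_lit 13904, nat_lit 17632, nat_lit 20736, nat_lit 25856, nat_lit 37888, nat_lit 41624, nat_lit 37236, nat_lit 32991, nat_lit 29032, nat_lit 24895, nat_lit 16515, nat_lit 12548, nat_lit 8208, nat_lit 4105, nat_lit 8]⟩⟩⟩,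
  ⟨[nat_lit 102, nat_lit 645, nat_lit 645, nat_lit 80], [], (nat_lit 844), ⟨[nat_lit 0, nat_lit 29, nat_lit 54], [nat_lit 0, nat_lit 71, nat_lit 52], ⟨[nat_lit 0x5bc254da6891894ac5acbc0021b8ea], [nat_lit 169984, nat_lit 164864, nat_lit 163328, nat_lit 156032, nat_lit 155328, nat_lit 150816, nat_lit 146672, nat_lit 140380, nat_lit 136512, nat_lit 133932, nat_lit 166, nat_lit 5668, nat_lit 9096, nat_lit 12416, nat_lit 18336, nat_lit 20608, nat_lit 25472, nat_lit 29952, nat_lit 33280, nat_lit 41947, nat_lit 36978, nat_lit 33914, nat_lit 28696, nat_lit 25129, nat_lit 20762, nat_lit 16391, nat_lit 12320, nat_lit 8195, nat_lit 4]⟩⟩⟩]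
theorem s557 : Suf yT 2052 (ldrop wU 37) (apW dcM p556) (tgtN dcM p556.e) := Suf.seg (l := l557) (by decide +kernel) s558
def l556 : List AP := [⟨[nat_lit 103, nat_lit 86, nat_lit 644, nat_lit 81, nat_lit 76], [], (nat_lit 370), ⟨[nat_lit 86, nat_lit 92], [nat_lit 0, nat_lit 13, nat_lit 52], ⟨[nat_lit 0x222e375a90919a5a84ea6257313c11], [nat_lit 171520, nat_lit 164096, nat_lit 163584, nat_lit 157504, nat_lit 154144, nat_lit 151488, nat_lit 146104, nat_lit 139504, nat_lit 136524, nat_lit 133176, nat_lit 184, nat_lit 4684, nat_lit 10088, nat_lit 13664, nat_lit 18368, nat_lit 22336, nat_lit 25088, nat_lit 30208, nat_lit 33280, nat_lit 37888, nat_lit 41899, nat_lit 38090, nat_lit 33487, nat_lit 29041, nat_lit 24577, nat_lit 20489, nat_lit 16394, nat_lit 12293, nat_lit 8200, nat_lit 4112]⟩⟩⟩,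
  ⟨[nat_lit 171, nat_lit 173], [], (nat_lit 413), ⟨[nat_lit 28, nat_lit 56], [nat_lit 0, nat_lit 35, nat_lit 62], ⟨[nat_lit 0x6a6e05d82c246537a85439a0575503], [nat_lit 173056, nat_lit 171520, nat_lit 164864, nat_lit 162816, nat_lit 157312, nat_lit 155424, nat_lit 150944, nat_lit 146408, nat_lit 140952, nat_lit 136540, nat_lit 133455, nat_lit 688, nat_lit 5456, nat_lit 9904, nat_lit 12544, nat_lit 16928, nat_lit 20800, nat_lit 24704, nat_lit 28928, nat_lit 37888, nat_lit 41225, nat_lit 37179, nat_lit 33001, nat_lit 28745, nat_lit 24766, nat_lit 20559, nat_lit 16417, nat_lit 12293, nat_lit 8203, nat_lit 4101]⟩⟩⟩]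
theorem s556 : Suf yT 2052 (ldrop wU 31) (apW dcM p555) (tgtN dcM p555.e) := Suf.seg (l := l556) (by decide +kernel) s557
def l555 : List AP := [⟨[nat_lit 50], [], (nat_lit 178), ⟨[nat_lit 0, nat_lit 80, nat_lit 59], [nat_lit 0, nat_lit 33, nat_lit 65], ⟨[nat_lit 0xb6f614e2f03169854a871c669128a], [nat_lit 173056, nat_lit 171008, nat_lit 164608, nat_lit 161152, nat_lit 158848, nat_lit 153216, nat_lit 148304, nat_lit 146416, nat_lit 142956, nat_lit 138304, nat_lit 133390, nat_lit 1842, nat_lit 5544, nat_lit 9576, nat_lit 14176, nat_lit 17408, nat_lit 21504, nat_lit 25344, nat_lit 29952, nat_lit 33792, nat_lit 37888, nat_lit 41168, nat_lit 36885, nat_lit 32789, nat_lit 29741, nat_lit 24736, nat_lit 20502, nat_lit 16389, nat_lit 12352, nat_lit 8193, nat_lit 4129, nat_lit 2]⟩⟩⟩,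
  ⟨[nat_lit 78, nat_lit 78], [], (nat_lit 190), ⟨[nat_lit 6, nat_lit 94], [nat_lit 9, nat_lit 62], ⟨[nat_lit 0x81e926a8113552b13a68792cc0dca3], [nat_lit 174080, nat_lit 169984, nat_lit 167424, nat_lit 161152, nat_lit 151808, nat_lit 151104, nat_lit 145152, nat_lit 139792, nat_lit 138136, nat_lit 133556, nat_lit 1818, nat_lit 5100, nat_lit 9064, nat_lit 12416, nat_lit 16960, nat_lit 21760, nat_lit 26368, nat_lit 41433, nat_lit 37078, nat_lit 32905, nat_lit 28718, nat_lit 25119, nat_lit 20615, nat_lit 16395, nat_lit 12295, nat_lit 8201, nat_lit 4101]⟩⟩⟩]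
theorem s555 : Suf yT 2052 (ldrop wU 19) (apW dcM p554) (tgtN dcM p554.e) := Suf.seg (l := l555) (by decide +kernel) s556
def l554 : List AP := [⟨[nat_lit 647, nat_lit 79, nat_lit 76, nat_lit 85], [], (nat_lit 844), ⟨[nat_lit 0, nat_lit 45, nat_lit 70], [nat_lit 0, nat_lit 6, nat_lit 54], ⟨[nat_lit 0xdab36d0cb9090a4dc8e2c46703d90], [nat_lit 173056, nat_lit 168960, nat_lit 165120, nat_lit 160640, nat_lit 157568, nat_lit 154016, nat_lit 147744, nat_lit 144000, nat_lit 140544, nat_lit 136992, nat_lit 131317, nat_lit 64, nat_lit 4380, nat_lit 9640, nat_lit 14112, nat_lit 18112, nat_lit 21952, nat_lit 26112, nat_lit 29184, nat_lit 34304, nat_lit 41440, nat_lit 37344, nat_lit 32988, nat_lit 29012, nat_lit 24882, nat_lit 20499, nat_lit 16416, nat_lit 12359, nat_lit 8258, nat_lit 8]⟩⟩⟩,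
  ⟨[nat_lit 674, nat_lit 674, nat_lit 420], [], (nat_lit 1228), ⟨[nat_lit 43, nat_lit 48], [nat_lit 0, nat_lit 10, nat_lit 50], ⟨[nat_lit 0x4de2c096133810a258541b5e6aadd2], [nat_lit 173056, nat_lit 169472, nat_lit 163584, nat_lit 157056, nat_lit 152288, nat_lit 149232, nat_lit 143920, nat_lit 139320, nat_lit 136084, nat_lit 131237, nat_lit 1762, nat_lit 5228, nat_lit 10032, nat_lit 13200, nat_lit 16704, nat_lit 20864, nat_lit 29696, nat_lit 37888, nat_lit 41571, nat_lit 38051, nat_lit 32800, nat_lit 28728, nat_lit 25101, nat_lit 20618, nat_lit 16418, nat_lit 12356, nat_lit 8194, nat_lit 4100, nat_lit 8]⟩⟩⟩]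
theorem s554 : Suf yT 2052 (ldrop wU 7) (apW dcM p553) (tgtN dcM p553.e) := Suf.seg (l := l554) (by decide +kernel) s555
def l553 : List AP := [⟨[nat_lit 6, nat_lit 0, nat_lit 6, nat_lit 7, nat_lit 625, nat_lit 0], [], (nat_lit 26), ⟨[nat_lit 83, nat_lit 59], [nat_lit 0, nat_lit 17, nat_lit 63], ⟨[nat_lit 0xb09b404e4c82cf7725011988f516b1], [nat_lit 173056, nat_lit 171520, nat_lit 161024, nat_lit 157824, nat_lit 152256, nat_lit 149152, nat_lit 146904, nat_lit 142292, nat_lit 137830, nat_lit 133703, nat_lit 78, nat_lit 6032, nat_lit 10200, nat_lit 14304, nat_lit 16864, nat_lit 20992, nat_lit 25344, nat_lit 29184, nat_lit 33792, nat_lit 41473, nat_lit 36865, nat_lit 32883, nat_lit 28785, nat_lit 24742, nat_lit 20481, nat_lit 16462, nat_lit 12309, nat_lit 8201, nat_lit 4161]⟩⟩⟩,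
  ⟨[nat_lit 630, nat_lit 36, nat_lit 41, nat_lit 17, nat_lit 36, nat_lit 39], [], (nat_lit 150), ⟨[nat_lit 44, nat_lit 63], [nat_lit 0, nat_lit 77, nat_lit 91], ⟨[nat_lit 0x3b6b01802b2d19323a578bcd61250a], [nat_lit 168448, nat_lit 165632, nat_lit 161536, nat_lit 157056, nat_lit 152768, nat_lit 147520, nat_lit 144832, nat_lit 141020, nat_lit 135382, nat_lit 134957, nat_lit 1554, nat_lit 5904, nat_lit 9168, nat_lit 12384, nat_lit 17088, nat_lit 21696, nat_lit 24832, nat_lit 34304, nat_lit 41483, nat_lit 37329, nat_lit 33461, nat_lit 29266, nat_lit 24617, nat_lit 20554, nat_lit 16392, nat_lit 12311, nat_lit 8193, nat_lit 4097, nat_lit 2]⟩⟩⟩]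
theorem rU15 : Suf yT 2052 wU [yT.get 49] 0 := Suf.seg (l := l553) (by decide +kernel) s554

def p560 : AP := ⟨[], [], (nat_lit 393), ⟨[nat_lit 0, nat_lit 39, nat_lit 56], [nat_lit 30, nat_lit 60], ⟨[nat_lit 0xad0324b0b6789b01c54b38264720d7], [nat_lit 173056, nat_lit 169472, nat_lit 166656, nat_lit 161152, nat_lit 156992, nat_lit 154368, nat_lit 150608, nat_lit 145408, nat_lit 143308, nat_lit 138524, nat_lit 132005, nat_lit 1354, nat_lit 5436, nat_lit 9904, nat_lit 13680, nat_lit 17408, nat_lit 21888, nat_lit 25856, nat_lit 33792, nat_lit 37888, nat_lit 41925, nat_lit 38215, nat_lit 32852, nat_lit 29237, nat_lit 24857, nat_lit 20629, nat_lit 16386, nat_lit 12355, nat_lit 8200]⟩⟩⟩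
def p561 : AP := ⟨[nat_lit 55, nat_lit 71, nat_lit 642, nat_lit 55], [], (nat_lit 1046), ⟨[nat_lit 12, nat_lit 54], [nat_lit 14, nat_lit 62], ⟨[nat_lit 0x2412a1d56e3cef428a200a196919ed], [nat_lit 175104, nat_lit 170496, nat_lit 164864, nat_lit 161920, nat_lit 158208, nat_lit 155008, nat_lit 148976, nat_lit 145128, nat_lit 141104, nat_lit 138742, nat_lit 133166, nat_lit 1668, nat_lit 5900, nat_lit 8248, nat_lit 14176, nat_lit 17888, nat_lit 21696, nat_lit 26496, nat_lit 30464, nat_lit 34304, nat_lit 41739, nat_lit 38286, nat_lit 32886, nat_lit 29276, nat_lit 24766, nat_lit 20567, nat_lit 16430, nat_lit 12291, nat_lit 8209, nat_lit 4097, nat_lit 2]⟩⟩⟩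
def p562 : AP := ⟨[nat_lit 636, nat_lit 29, nat_lit 26, nat_lit 637], [], (nat_lit 116), ⟨[nat_lit 5, nat_lit 70], [nat_lit 37, nat_lit 52], ⟨[nat_lit 0x7142a64db6ac5095bc6785c8600a54], [nat_lit 173056, nat_lit 171520, nat_lit 164864, nat_lit 161408, nat_lit 157952, nat_lit 151872, nat_lit 148016, nat_lit 147112, nat_lit 143236, nat_lit 138478, nat_lit 134260, nat_lit 622, nat_lit 4716, nat_lit 8224, nat_lit 13648, nat_lit 17408, nat_lit 26496, nat_lit 29696, nat_lit 33792, nat_lit 41974, nat_lit 38216, nat_lit 32848, nat_lit 29199, nat_lit 24586, nat_lit 20492, nat_lit 16512, nat_lit 12326, nat_lit 8193, nat_lit 4105]⟩⟩⟩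
def p563 : AP := ⟨[nat_lit 47, nat_lit 53, nat_lit 47, nat_lit 47], [], (nat_lit 120), ⟨[nat_lit 0, nat_lit 38, nat_lit 51], [nat_lit 30, nat_lit 91], ⟨[nat_lit 0x12e3543144a3cd7281c3859219b647], [nat_lit 168960, nat_lit 167680, nat_lit 160512, nat_lit 157120, nat_lit 154816, nat_lit 150480, nat_lit 147064, nat_lit 141468, nat_lit 138006, nat_lit 131548, nat_lit 1440, nat_lit 4412, nat_lit 9288, nat_lit 12832, nat_lit 17760, nat_lit 22016, nat_lit 25344, nat_lit 29952, nat_lit 33792, nat_lit 41819, nat_lit 38046, nat_lit 33519, nat_lit 28728, nat_lit 24626, nat_lit 20551, nat_lit 16388, nat_lit 12417, nat_lit 8195]⟩⟩⟩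
def p564 : AP := ⟨[nat_lit 641, nat_lit 46, nat_lit 54], [], (nat_lit 121), ⟨[nat_lit 0, nat_lit 44, nat_lit 46], [nat_lit 25, nat_lit 49], ⟨[nat_lit 0x3c8239a1667b491502cca16f013935], [nat_lit 173056, nat_lit 168448, nat_lit 167424, nat_lit 160256, nat_lit 155968, nat_lit 153440, nat_lit 148448, nat_lit 144920, nat_lit 140076, nat_lit 135684, nat_lit 131123, nat_lit 2018, nat_lit 5316, nat_lit 9904, nat_lit 14000, nat_lit 18144, nat_lit 20928, nat_lit 25600, nat_lit 29696, nat_lit 34304, nat_lit 37888, nat_lit 41856, nat_lit 37182, nat_lit 33396, nat_lit 29811, nat_lit 24755, nat_lit 20619, nat_lit 16424, nat_lit 12324]⟩⟩⟩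
def p565 : AP := ⟨[nat_lit 659], [], (nat_lit 393), ⟨[nat_lit 24, nat_lit 67], [nat_lit 25, nat_lit 60], ⟨[nat_lit 0xb09af40175a1864928ee626050c677], [nat_lit 173056, nat_lit 168448, nat_lit 165120, nat_lit 160128, nat_lit 155904, nat_lit 152384, nat_lit 148912, nat_lit 144264, nat_lit 141240, nat_lit 136854, nat_lit 133432, nat_lit 1652, nat_lit 4684, nat_lit 9328, nat_lit 13360, nat_lit 17344, nat_lit 22080, nat_lit 24704, nat_lit 29184, nat_lit 41023, nat_lit 37283, nat_lit 32833, nat_lit 28741, nat_lit 24747, nat_lit 20563, nat_lit 16424, nat_lit 12291, nat_lit 8193, nat_lit 4]⟩⟩⟩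
def l566 : List AP := [⟨[nat_lit 214, nat_lit 170], [], (nat_lit 390), ⟨[nat_lit 0, nat_lit 85, nat_lit 69], [nat_lit 19, nat_lit 92], ⟨[nat_lit 0x995e111d928b88055e954a2cb80da6], [nat_lit 174080, nat_lit 164352, nat_lit 162048, nat_lit 156672, nat_lit 153536, nat_lit 151264, nat_lit 147400, nat_lit 142936, nat_lit 139036, nat_lit 133136, nat_lit 158, nat_lit 5488, nat_lit 10072, nat_lit 14048, nat_lit 17696, nat_lit 22144, nat_lit 30464, nat_lit 34304, nat_lit 37888, nat_lit 41729, nat_lit 38070, nat_lit 33299, nat_lit 29002, nat_lit 24751, nat_lit 20637, nat_lit 16424, nat_lit 12306, nat_lit 8323]⟩⟩⟩,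
  ⟨[], [], (nat_lit 1034), ⟨[nat_lit 24, nat_lit 63], [nat_lit 0, nat_lit 83, nat_lit 56], ⟨[nat_lit 0x8ac37aa260b51c569a50389834bd44], [nat_lit 167680, nat_lit 159872, nat_lit 157440, nat_lit 152672, nat_lit 149328, nat_lit 145168, nat_lit 140828, nat_lit 136802, nat_lit 132619, nat_lit 1794, nat_lit 5588, nat_lit 9656, nat_lit 12304, nat_lit 16640, nat_lit 22400, nat_lit 24704, nat_lit 29440, nat_lit 37888, nat_lit 41772, nat_lit 38361, nat_lit 34028, nat_lit 28794, nat_lit 24639, nat_lit 20483, nat_lit 16392, nat_lit 12306, nat_lit 8259, nat_lit 4105, nat_lit 2]⟩⟩⟩]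
theorem s566 : Suf yT 2056 (ldrop wU 61) (apW dcM p565) (tgtN dcM p565.e) := Suf.fin' (l := l566) (by decide +kernel)
def l565 : List AP := [⟨[nat_lit 51, nat_lit 51, nat_lit 66, nat_lit 47], [], (nat_lit 1046), ⟨[nat_lit 26, nat_lit 63], [nat_lit 0, nat_lit 8, nat_lit 92], ⟨[nat_lit 0x3550e5cd22b288dbd032194f08b1e0], [nat_lit 173056, nat_lit 171008, nat_lit 165376, nat_lit 160384, nat_lit 158976, nat_lit 152864, nat_lit 147504, nat_lit 146656, nat_lit 143236, nat_lit 138538, nat_lit 134763, nat_lit 1896, nat_lit 4684, nat_lit 9408, nat_lit 13664, nat_lit 17184, nat_lit 22400, nat_lit 26240, nat_lit 29696, nat_lit 34304, nat_lit 41611, nat_lit 37345, nat_lit 33514, nat_lit 28784, nat_lit 24591, nat_lit 20623, nat_lit 16420, nat_lit 12291, nat_lit 8226, nat_lit 4097, nat_lit 2]⟩⟩⟩,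
  ⟨[nat_lit 663, nat_lit 176], [], (nat_lit 419), ⟨[nat_lit 0, nat_lit 15, nat_lit 57], [nat_lit 0, nat_lit 44, nat_lit 69], ⟨[nat_lit 0x43853029b1a1e50a992b1dc25611f6], [nat_lit 174080, nat_lit 170496, nat_lit 166400, nat_lit 161280, nat_lit 155968, nat_lit 151616, nat_lit 149568, nat_lit 144008, nat_lit 139728, nat_lit 137576, nat_lit 134730, nat_lit 1488, nat_lit 5544, nat_lit 9344, nat_lit 14192, nat_lit 16512, nat_lit 22144, nat_lit 29184, nat_lit 33792, nat_lit 41790, nat_lit 37206, nat_lit 33471, nat_lit 28737, nat_lit 24730, nat_lit 20492, nat_lit 16395, nat_lit 12293, nat_lit 8202, nat_lit 4097, nat_lit 2]⟩⟩⟩]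
theorem s565 : Suf yT 2056 (ldrop wU 49) (apW dcM p564) (tgtN dcM p564.e) := Suf.seg (l := l565) (by decide +kernel) s566
def l564 : List AP := [⟨[nat_lit 71, nat_lit 68, nat_lit 54], [], (nat_lit 121), ⟨[nat_lit 10, nat_lit 90], [nat_lit 77, nat_lit 55], ⟨[nat_lit 0x80d276bdd465af5911000aa2699562], [nat_lit 174080, nat_lit 171520, nat_lit 167168, nat_lit 161664, nat_lit 157952, nat_lit 155360, nat_lit 148384, nat_lit 146072, nat_lit 140848, nat_lit 136694, nat_lit 131659, nat_lit 586, nat_lit 5296, nat_lit 8320, nat_lit 14304, nat_lit 16960, nat_lit 21504, nat_lit 26368, nat_lit 29184, nat_lit 33792, nat_lit 41841, nat_lit 38285, nat_lit 33954, nat_lit 28680, nat_lit 24891, nat_lit 20565, nat_lit 16421, nat_lit 12293, nat_lit 8201, nat_lit 8]⟩⟩⟩,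
  ⟨[nat_lit 640, nat_lit 69, nat_lit 67], [], (nat_lit 120), ⟨[nat_lit 30, nat_lit 62], [nat_lit 0, nat_lit 1, nat_lit 46], ⟨[nat_lit 0xa82d2231174ae637442d140e5a3d46], [nat_lit 167168, nat_lit 160000, nat_lit 154688, nat_lit 151424, nat_lit 146024, nat_lit 141664, nat_lit 139094, nat_lit 131191, nat_lit 786, nat_lit 5436, nat_lit 8416, nat_lit 12912, nat_lit 17792, nat_lit 26496, nat_lit 29696, nat_lit 41922, nat_lit 38080, nat_lit 33347, nat_lit 28703, nat_lit 24872, nat_lit 20555, nat_lit 16525, nat_lit 12355, nat_lit 8321, nat_lit 4097, nat_lit 2]⟩⟩⟩]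
theorem s564 : Suf yT 2056 (ldrop wU 37) (apW dcM p563) (tgtN dcM p563.e) := Suf.seg (l := l564) (by decide +kernel) s565
def l563 : List AP := [⟨[nat_lit 47, nat_lit 67, nat_lit 641, nat_lit 46], [], (nat_lit 120), ⟨[nat_lit 27, nat_lit 50], [nat_lit 0, nat_lit 43, nat_lit 92], ⟨[nat_lit 0x30d504c42702e4512264659cfbb695], [nat_lit 173056, nat_lit 171008, nat_lit 165120, nat_lit 160896, nat_lit 156160, nat_lit 153440, nat_lit 148032, nat_lit 143584, nat_lit 140188, nat_lit 135518, nat_lit 132118, nat_lit 1250, nat_lit 5420, nat_lit 8280, nat_lit 14256, nat_lit 17088, nat_lit 20544, nat_lit 25088, nat_lit 33792, nat_lit 41567, nat_lit 37366, nat_lit 33318, nat_lit 28700, nat_lit 24613, nat_lit 20549, nat_lit 16392, nat_lit 12291, nat_lit 8258, nat_lit 4101]⟩⟩⟩,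
  ⟨[nat_lit 641, nat_lit 46, nat_lit 54], [], (nat_lit 121), ⟨[nat_lit 30, nat_lit 59], [nat_lit 88, nat_lit 68], ⟨[nat_lit 0xac525782d793470a2c934054e33047], [nat_lit 168448, nat_lit 165120, nat_lit 161408, nat_lit 156480, nat_lit 152448, nat_lit 148736, nat_lit 143520, nat_lit 140548, nat_lit 136552, nat_lit 134984, nat_lit 1178, nat_lit 5276, nat_lit 9632, nat_lit 14208, nat_lit 18336, nat_lit 21760, nat_lit 25344, nat_lit 29696, nat_lit 34304, nat_lit 37888, nat_lit 41913, nat_lit 37016, nat_lit 32882, nat_lit 28718, nat_lit 24628, nat_lit 20487, nat_lit 16387, nat_lit 12417, nat_lit 8193, nat_lit 4097, nat_lit 2]⟩⟩⟩]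
theorem s563 : Suf yT 2056 (ldrop wU 31) (apW dcM p562) (tgtN dcM p562.e) := Suf.seg (l := l563) (by decide +kernel) s564
def l562 : List AP := [⟨[nat_lit 661, nat_lit 171], [], (nat_lit 418), ⟨[nat_lit 37, nat_lit 66], [nat_lit 0, nat_lit 43, nat_lit 89], ⟨[nat_lit 0x91a2d586f0612952804f71d0955873], [nat_lit 169472, nat_lit 165632, nat_lit 160000, nat_lit 157568, nat_lit 152160, nat_lit 147616, nat_lit 144176, nat_lit 140980, nat_lit 138892, nat_lit 132039, nat_lit 588, nat_lit 4104, nat_lit 8440, nat_lit 12432, nat_lit 18048, nat_lit 21888, nat_lit 26112, nat_lit 29440, nat_lit 34304, nat_lit 41553, nat_lit 37171, nat_lit 32994, nat_lit 29048, nat_lit 24602, nat_lit 20507, nat_lit 16423, nat_lit 12305, nat_lit 8195]⟩⟩⟩,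
  ⟨[nat_lit 217], [], (nat_lit 339), ⟨[nat_lit 73, nat_lit 51], [nat_lit 0, nat_lit 18, nat_lit 55], ⟨[nat_lit 0xb8e4b9bcb1a8a08a1acc4b5470808e], [nat_lit 174080, nat_lit 171008, nat_lit 166144, nat_lit 161536, nat_lit 158656, nat_lit 155584, nat_lit 148944, nat_lit 145728, nat_lit 140080, nat_lit 136780, nat_lit 132303, nat_lit 1972, nat_lit 4112, nat_lit 8408, nat_lit 14192, nat_lit 17472, nat_lit 21632, nat_lit 26112, nat_lit 29952, nat_lit 33280, nat_lit 37888, nat_lit 41713, nat_lit 38185, nat_lit 32878, nat_lit 29279, nat_lit 24600, nat_lit 20482, nat_lit 16387, nat_lit 12290, nat_lit 8193, nat_lit 4104, nat_lit 4]⟩⟩⟩]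
theorem s562 : Suf yT 2056 (ldrop wU 19) (apW dcM p561) (tgtN dcM p561.e) := Suf.seg (l := l562) (by decide +kernel) s563
def l561 : List AP := [⟨[nat_lit 174, nat_lit 171, nat_lit 170], [], (nat_lit 396), ⟨[nat_lit 88, nat_lit 50], [nat_lit 0, nat_lit 12, nat_lit 62], ⟨[nat_lit 0xade444d1e33c1cd14425622c09994b], [nat_lit 173056, nat_lit 168960, nat_lit 164864, nat_lit 160640, nat_lit 157120, nat_lit 155392, nat_lit 148816, nat_lit 144648, nat_lit 139268, nat_lit 136402, nat_lit 132521, nat_lit 1224, nat_lit 5112, nat_lit 8568, nat_lit 12480, nat_lit 17408, nat_lit 21504, nat_lit 25728, nat_lit 30208, nat_lit 33280, nat_lit 41760, nat_lit 37256, nat_lit 33320, nat_lit 28753, nat_lit 24616, nat_lit 20496, nat_lit 16425, nat_lit 12310, nat_lit 8203, nat_lit 4097, nat_lit 2]⟩⟩⟩,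
  ⟨[nat_lit 71, nat_lit 642, nat_lit 73, nat_lit 50], [], (nat_lit 120), ⟨[nat_lit 0, nat_lit 74, nat_lit 91], [nat_lit 0, nat_lit 32, nat_lit 90], ⟨[nat_lit 0x40e076516a716a6bb67122412106cf], [nat_lit 173056, nat_lit 165376, nat_lit 161408, nat_lit 157376, nat_lit 153696, nat_lit 147616, nat_lit 144080, nat_lit 140852, nat_lit 136876, nat_lit 131443, nat_lit 1488, nat_lit 5992, nat_lit 10088, nat_lit 14144, nat_lit 17856, nat_lit 22016, nat_lit 25216, nat_lit 29952, nat_lit 33792, nat_lit 37888, nat_lit 41318, nat_lit 37074, nat_lit 33862, nat_lit 29283, nat_lit 24587, nat_lit 20495, nat_lit 16513, nat_lit 12292, nat_lit 8202, nat_lit 4101, nat_lit 2]⟩⟩⟩]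
theorem s561 : Suf yT 2056 (ldrop wU 7) (apW dcM p560) (tgtN dcM p560.e) := Suf.seg (l := l561) (by decide +kernel) s562
def l560 : List AP := [⟨[nat_lit 624, nat_lit 4, nat_lit 4, nat_lit 4, nat_lit 1, nat_lit 0], [], (nat_lit 40), ⟨[nat_lit 18, nat_lit 60], [nat_lit 38, nat_lit 63], ⟨[nat_lit 0x41a0303037508936d9692baa7a4a2f], [nat_lit 168960, nat_lit 166912, nat_lit 161536, nat_lit 156096, nat_lit 154944, nat_lit 150864, nat_lit 146664, nat_lit 142708, nat_lit 137424, nat_lit 131651, nat_lit 1014, nat_lit 4924, nat_lit 9400, nat_lit 14144, nat_lit 16768, nat_lit 20864, nat_lit 26368, nat_lit 28928, nat_lit 33280, nat_lit 37888, nat_lit 41806, nat_lit 38346, nat_lit 34038, nat_lit 29015, nat_lit 24746, nat_lit 20613, nat_lit 16643, nat_lit 12305, nat_lit 8259, nat_lit 16]⟩⟩⟩,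
  ⟨[nat_lit 638, nat_lit 26, nat_lit 31, nat_lit 23, nat_lit 23, nat_lit 21], [], (nat_lit 338), ⟨[nat_lit 13, nat_lit 89], [nat_lit 0, nat_lit 76, nat_lit 51], ⟨[nat_lit 0x4166a380304d182339f28dec4ab46b], [nat_lit 168960, nat_lit 164864, nat_lit 160896, nat_lit 156992, nat_lit 153088, nat_lit 149200, nat_lit 144024, nat_lit 139944, nat_lit 136030, nat_lit 133650, nat_lit 986, nat_lit 5072, nat_lit 8680, nat_lit 13600, nat_lit 17696, nat_lit 20864, nat_lit 25728, nat_lit 30464, nat_lit 33280, nat_lit 37888, nat_lit 41628, nat_lit 38341, nat_lit 32939, nat_lit 28947, nat_lit 24619, nat_lit 20553, nat_lit 16395, nat_lit 12305, nat_lit 4097]⟩⟩⟩]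
theorem rU16 : Suf yT 2056 wU [yT.get 50] 0 := Suf.seg (l := l560) (by decide +kernel) s561

def p567 : AP := ⟨[nat_lit 72, nat_lit 66], [], (nat_lit 126), ⟨[nat_lit 1, nat_lit 47], [nat_lit 0, nat_lit 44, nat_lit 90], ⟨[nat_lit 0x3820854ca16b9967d6f4249238ac46], [nat_lit 170496, nat_lit 165376, nat_lit 160512, nat_lit 159680, nat_lit 153152, nat_lit 147472, nat_lit 145512, nat_lit 142436, nat_lit 139080, nat_lit 134245, nat_lit 1614, nat_lit 5084, nat_lit 9216, nat_lit 12800, nat_lit 18368, nat_lit 20736, nat_lit 24960, nat_lit 29184, nat_lit 33792, nat_lit 37888, nat_lit 40961, nat_lit 36993, nat_lit 32801, nat_lit 29274, nat_lit 24708, nat_lit 20736, nat_lit 16454, nat_lit 12304, nat_lit 8195, nat_lit 4100]⟩⟩⟩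
def p568 : AP := ⟨[nat_lit 67, nat_lit 643, nat_lit 46], [], (nat_lit 1046), ⟨[nat_lit 85, nat_lit 57], [nat_lit 0, nat_lit 79, nat_lit 58], ⟨[nat_lit 0x72c072d2044b0c3aa24a0cc56bc5ed], [nat_lit 173056, nat_lit 169472, nat_lit 164352, nat_lit 161536, nat_lit 156672, nat_lit 153856, nat_lit 147648, nat_lit 144984, nat_lit 141112, nat_lit 136340, nat_lit 132275, nat_lit 460, nat_lit 4664, nat_lit 8560, nat_lit 13712, nat_lit 16608, nat_lit 20992, nat_lit 24704, nat_lit 29440, nat_lit 34304, nat_lit 37888, nat_lit 40971, nat_lit 37344, nat_lit 33335, nat_lit 28724, nat_lit 24592, nat_lit 20507, nat_lit 16430, nat_lit 12289, nat_lit 8209, nat_lit 4129]⟩⟩⟩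
def p569 : AP := ⟨[nat_lit 635, nat_lit 32, nat_lit 636, nat_lit 26], [], (nat_lit 116), ⟨[nat_lit 27, nat_lit 91], [nat_lit 0, nat_lit 75, nat_lit 92], ⟨[nat_lit 0x94d097b462396b7250d66002e8c14b], [nat_lit 173056, nat_lit 166144, nat_lit 162432, nat_lit 159296, nat_lit 154464, nat_lit 147744, nat_lit 146000, nat_lit 141640, nat_lit 136386, nat_lit 133510, nat_lit 566, nat_lit 5884, nat_lit 9568, nat_lit 12592, nat_lit 17024, nat_lit 22336, nat_lit 25088, nat_lit 29952, nat_lit 33792, nat_lit 37888, nat_lit 41596, nat_lit 38339, nat_lit 33355, nat_lit 28713, nat_lit 24611, nat_lit 20558, nat_lit 16387, nat_lit 12322, nat_lit 8195]⟩⟩⟩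
def p570 : AP := ⟨[nat_lit 72, nat_lit 56, nat_lit 48], [], (nat_lit 120), ⟨[nat_lit 30, nat_lit 55], [nat_lit 83, nat_lit 65], ⟨[nat_lit 0x8b2975b66a740e64d84403c321a0b5], [nat_lit 173056, nat_lit 168960, nat_lit 165888, nat_lit 161792, nat_lit 158976, nat_lit 154080, nat_lit 149264, nat_lit 146592, nat_lit 142940, nat_lit 136692, nat_lit 133531, nat_lit 1634, nat_lit 5900, nat_lit 9736, nat_lit 12416, nat_lit 17792, nat_lit 21696, nat_lit 26240, nat_lit 28928, nat_lit 33792, nat_lit 37888, nat_lit 41643, nat_lit 38221, nat_lit 32787, nat_lit 28677, nat_lit 25108, nat_lit 20554, nat_lit 16427, nat_lit 12291, nat_lit 8322, nat_lit 4097, nat_lit 2]⟩⟩⟩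
def p571 : AP := ⟨[nat_lit 661, nat_lit 171], [], (nat_lit 418), ⟨[nat_lit 5, nat_lit 54], [nat_lit 9, nat_lit 55], ⟨[nat_lit 0x9acadb0230b84e4751e25546861932], [nat_lit 173056, nat_lit 165632, nat_lit 160256, nat_lit 156160, nat_lit 152096, nat_lit 147472, nat_lit 145088, nat_lit 140064, nat_lit 135310, nat_lit 134017, nat_lit 5572, nat_lit 9704, nat_lit 13552, nat_lit 17888, nat_lit 20672, nat_lit 30208, nat_lit 33792, nat_lit 41438, nat_lit 36865, nat_lit 34019, nat_lit 29767, nat_lit 24577, nat_lit 20761, nat_lit 16520, nat_lit 12291, nat_lit 8225, nat_lit 4097]⟩⟩⟩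
def p572 : AP := ⟨[nat_lit 66, nat_lit 46], [], (nat_lit 126), ⟨[nat_lit 0, nat_lit 40, nat_lit 62], [nat_lit 80, nat_lit 67], ⟨[nat_lit 0x5ea95904740dcd94141b44af9d186], [nat_lit 169472, nat_lit 161152, nat_lit 155840, nat_lit 153536, nat_lit 151088, nat_lit 144512, nat_lit 139688, nat_lit 136936, nat_lit 131607, nat_lit 1614, nat_lit 4396, nat_lit 8456, nat_lit 13152, nat_lit 17408, nat_lit 22400, nat_lit 25216, nat_lit 29696, nat_lit 34304, nat_lit 41488, nat_lit 38252, nat_lit 32950, nat_lit 28688, nat_lit 24577, nat_lit 20748, nat_lit 16392, nat_lit 12305, nat_lit 8450, nat_lit 8]⟩⟩⟩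
def l573 : List AP := [⟨[nat_lit 68], [], (nat_lit 122), ⟨[nat_lit 0, nat_lit 24, nat_lit 70], [nat_lit 0, nat_lit 36, nat_lit 69], ⟨[nat_lit 0x5d64f124aab1ee1042241b8cda3268], [nat_lit 175104, nat_lit 169472, nat_lit 167680, nat_lit 162688, nat_lit 159168, nat_lit 148672, nat_lit 143376, nat_lit 142968, nat_lit 137770, nat_lit 132542, nat_lit 846, nat_lit 5316, nat_lit 9112, nat_lit 13776, nat_lit 17024, nat_lit 20736, nat_lit 26240, nat_lit 30208, nat_lit 33792, nat_lit 41982, nat_lit 37250, nat_lit 32914, nat_lit 28944, nat_lit 24583, nat_lit 20506, nat_lit 16423, nat_lit 12311, nat_lit 8209, nat_lit 4097, nat_lit 2]⟩⟩⟩,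
  ⟨[nat_lit 631, nat_lit 16, nat_lit 36], [], (nat_lit 1032), ⟨[nat_lit 0, nat_lit 77, nat_lit 60], [nat_lit 44, nat_lit 62], ⟨[nat_lit 0xbcca66d5d15d11013d2461d430cac0], [nat_lit 174080, nat_lit 170496, nat_lit 164864, nat_lit 162432, nat_lit 158272, nat_lit 155360, nat_lit 149216, nat_lit 143840, nat_lit 140308, nat_lit 137906, nat_lit 133536, nat_lit 5208, nat_lit 10160, nat_lit 12368, nat_lit 17056, nat_lit 22208, nat_lit 25856, nat_lit 29184, nat_lit 33792, nat_lit 41724, nat_lit 38099, nat_lit 32859, nat_lit 29740, nat_lit 24763, nat_lit 20491, nat_lit 16387, nat_lit 12322, nat_lit 8704, nat_lit 4]⟩⟩⟩]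
theorem s573 : Suf yT 2064 (ldrop wU 61) (apW dcM p572) (tgtN dcM p572.e) := Suf.fin' (l := l573) (by decide +kernel)
def l572 : List AP := [⟨[nat_lit 217, nat_lit 663], [], (nat_lit 396), ⟨[nat_lit 0, nat_lit 45, nat_lit 62], [nat_lit 73, nat_lit 94], ⟨[nat_lit 0x8964d33c0252dc480ea90d268b9ecc], [nat_lit 175104, nat_lit 171008, nat_lit 166912, nat_lit 159424, nat_lit 154208, nat_lit 148352, nat_lit 147216, nat_lit 139860, nat_lit 136630, nat_lit 132574, nat_lit 902, nat_lit 5716, nat_lit 9912, nat_lit 13840, nat_lit 16480, nat_lit 20992, nat_lit 25344, nat_lit 29696, nat_lit 34304, nat_lit 41272, nat_lit 37035, nat_lit 33002, nat_lit 28705, nat_lit 24862, nat_lit 20555, nat_lit 16392, nat_lit 12311, nat_lit 8202, nat_lit 4097, nat_lit 2]⟩⟩⟩,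
  ⟨[nat_lit 54, nat_lit 66, nat_lit 46, nat_lit 48], [], (nat_lit 120), ⟨[nat_lit 0, nat_lit 83, nat_lit 60], [nat_lit 6, nat_lit 49], ⟨[nat_lit 0xb3e359adca834e66484341281496e0], [nat_lit 171520, nat_lit 166144, nat_lit 163584, nat_lit 157888, nat_lit 151776, nat_lit 149744, nat_lit 145888, nat_lit 139268, nat_lit 139022, nat_lit 131853, nat_lit 986, nat_lit 5932, nat_lit 9328, nat_lit 12896, nat_lit 16800, nat_lit 22080, nat_lit 30208, nat_lit 41846, nat_lit 37186, nat_lit 33516, nat_lit 28774, nat_lit 24623, nat_lit 20511, nat_lit 16392, nat_lit 12292, nat_lit 8194, nat_lit 4101]⟩⟩⟩]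
theorem s572 : Suf yT 2064 (ldrop wU 49) (apW dcM p571) (tgtN dcM p571.e) := Suf.seg (l := l572) (by decide +kernel) s573
def l571 : List AP := [⟨[nat_lit 643, nat_lit 69, nat_lit 51, nat_lit 50], [], (nat_lit 120), ⟨[nat_lit 35, nat_lit 62], [nat_lit 0, nat_lit 22, nat_lit 62], ⟨[nat_lit 0x13a4764404596e67d9aa08d359d110], [nat_lit 169984, nat_lit 165376, nat_lit 160640, nat_lit 156672, nat_lit 152704, nat_lit 147472, nat_lit 145360, nat_lit 139504, nat_lit 135624, nat_lit 132244, nat_lit 526, nat_lit 5316, nat_lit 9416, nat_lit 13952, nat_lit 18080, nat_lit 20992, nat_lit 24960, nat_lit 29952, nat_lit 33280, nat_lit 37888, nat_lit 41864, nat_lit 37067, nat_lit 33013, nat_lit 29047, nat_lit 24837, nat_lit 20497, nat_lit 16420, nat_lit 12802, nat_lit 8209, nat_lit 4224, nat_lit 8]⟩⟩⟩,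
  ⟨[nat_lit 51, nat_lit 57, nat_lit 70, nat_lit 46], [], (nat_lit 1046), ⟨[nat_lit 37, nat_lit 46], [nat_lit 20, nat_lit 61], ⟨[nat_lit 0x68caa3092e5d5130dc11951ec3c2c4], [nat_lit 169472, nat_lit 164352, nat_lit 161024, nat_lit 156416, nat_lit 152128, nat_lit 148176, nat_lit 144728, nat_lit 141796, nat_lit 136598, nat_lit 132771, nat_lit 680, nat_lit 5668, nat_lit 8256, nat_lit 14080, nat_lit 16448, nat_lit 21248, nat_lit 25728, nat_lit 29952, nat_lit 33280, nat_lit 37888, nat_lit 41700, nat_lit 37286, nat_lit 32964, nat_lit 29032, nat_lit 24624, nat_lit 20555, nat_lit 16398, nat_lit 12305, nat_lit 4104, nat_lit 2]⟩⟩⟩]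
theorem s571 : Suf yT 2064 (ldrop wU 37) (apW dcM p570) (tgtN dcM p570.e) := Suf.seg (l := l571) (by decide +kernel) s572
def l570 : List AP := [⟨[nat_lit 46, nat_lit 639, nat_lit 68], [], (nat_lit 120), ⟨[nat_lit 0, nat_lit 88, nat_lit 49], [nat_lit 32, nat_lit 67], ⟨[nat_lit 0x3c0a06a6e65ba841b22f9a14195855], [nat_lit 175104, nat_lit 168448, nat_lit 167168, nat_lit 163072, nat_lit 159424, nat_lit 152800, nat_lit 147840, nat_lit 145064, nat_lit 143264, nat_lit 137730, nat_lit 132477, nat_lit 804, nat_lit 5568, nat_lit 8600, nat_lit 12688, nat_lit 17440, nat_lit 21248, nat_lit 24960, nat_lit 29952, nat_lit 33280, nat_lit 37888, nat_lit 41742, nat_lit 38385, nat_lit 32854, nat_lit 29230, nat_lit 24735, nat_lit 20483, nat_lit 16525, nat_lit 12294, nat_lit 8201]⟩⟩⟩,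
  ⟨[nat_lit 641, nat_lit 46, nat_lit 54], [], (nat_lit 121), ⟨[nat_lit 0, nat_lit 31, nat_lit 58], [nat_lit 0, nat_lit 24, nat_lit 70], ⟨[nat_lit 0xb961263cd56a8538a00e22d3618687], [nat_lit 174080, nat_lit 171520, nat_lit 166912, nat_lit 160640, nat_lit 158144, nat_lit 155168, nat_lit 149136, nat_lit 146400, nat_lit 141108, nat_lit 136944, nat_lit 131918, nat_lit 1014, nat_lit 4128, nat_lit 8520, nat_lit 12320, nat_lit 17472, nat_lit 26368, nat_lit 29696, nat_lit 33792, nat_lit 41938, nat_lit 38298, nat_lit 33798, nat_lit 28742, nat_lit 24629, nat_lit 20573, nat_lit 16458, nat_lit 12311, nat_lit 8209, nat_lit 4100]⟩⟩⟩]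
theorem s570 : Suf yT 2064 (ldrop wU 31) (apW dcM p569) (tgtN dcM p569.e) := Suf.seg (l := l570) (by decide +kernel) s571
def l569 : List AP := [⟨[nat_lit 661, nat_lit 171], [], (nat_lit 418), ⟨[nat_lit 0, nat_lit 78, nat_lit 70], [nat_lit 0, nat_lit 31, nat_lit 66], ⟨[nat_lit 0x85dec2d4d28a2cb09d4d71009a0873], [nat_lit 174080, nat_lit 171520, nat_lit 164096, nat_lit 163584, nat_lit 159232, nat_lit 154112, nat_lit 148480, nat_lit 145352, nat_lit 141280, nat_lit 138376, nat_lit 134635, nat_lit 582, nat_lit 5580, nat_lit 8224, nat_lit 12320, nat_lit 17600, nat_lit 21632, nat_lit 26112, nat_lit 30464, nat_lit 33280, nat_lit 41557, nat_lit 38352, nat_lit 32962, nat_lit 28718, nat_lit 24839, nat_lit 20503, nat_lit 16424, nat_lit 12306, nat_lit 8200, nat_lit 4112, nat_lit 2]⟩⟩⟩,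
  ⟨[nat_lit 171], [], (nat_lit 390), ⟨[nat_lit 0, nat_lit 33, nat_lit 63], [nat_lit 0, nat_lit 38, nat_lit 47], ⟨[nat_lit 0x3a846b91b1482537d2056050eb2c75], [nat_lit 173056, nat_lit 168448, nat_lit 164096, nat_lit 160896, nat_lit 156992, nat_lit 152256, nat_lit 150128, nat_lit 144744, nat_lit 140180, nat_lit 135962, nat_lit 131864, nat_lit 1778, nat_lit 5072, nat_lit 10168, nat_lit 14208, nat_lit 18304, nat_lit 20672, nat_lit 26112, nat_lit 30208, nat_lit 34304, nat_lit 41410, nat_lit 37287, nat_lit 32784, nat_lit 28688, nat_lit 25618, nat_lit 21015, nat_lit 16396, nat_lit 12291, nat_lit 8210, nat_lit 4100]⟩⟩⟩]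
theorem s569 : Suf yT 2064 (ldrop wU 19) (apW dcM p568) (tgtN dcM p568.e) := Suf.seg (l := l569) (by decide +kernel) s570
def l568 : List AP := [⟨[nat_lit 68, nat_lit 72, nat_lit 48, nat_lit 47], [], (nat_lit 120), ⟨[nat_lit 37, nat_lit 58], [nat_lit 14], ⟨[nat_lit 0x6a2a604e125b2e72a68f18a21b114e], [nat_lit 173056, nat_lit 169984, nat_lit 165632, nat_lit 161152, nat_lit 158848, nat_lit 152192, nat_lit 148352, nat_lit 146312, nat_lit 141792, nat_lit 137266, nat_lit 133639, nat_lit 1530, nat_lit 5544, nat_lit 10144, nat_lit 13040, nat_lit 17216, nat_lit 21376, nat_lit 25344, nat_lit 30464, nat_lit 41073, nat_lit 37141, nat_lit 33432, nat_lit 29016, nat_lit 24597, nat_lit 21508, nat_lit 16426, nat_lit 12294, nat_lit 8193, nat_lit 4104]⟩⟩⟩,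
  ⟨[nat_lit 73, nat_lit 51, nat_lit 51, nat_lit 54], [], (nat_lit 120), ⟨[nat_lit 22, nat_lit 60], [nat_lit 1, nat_lit 64], ⟨[nat_lit 0x4c4a65ba0f608f5a4aea00e68b11a1], [nat_lit 175104, nat_lit 171008, nat_lit 167424, nat_lit 162816, nat_lit 155904, nat_lit 153728, nat_lit 150560, nat_lit 144608, nat_lit 142736, nat_lit 136698, nat_lit 131550, nat_lit 494, nat_lit 6068, nat_lit 10144, nat_lit 13184, nat_lit 16640, nat_lit 20672, nat_lit 26368, nat_lit 33792, nat_lit 37888, nat_lit 41628, nat_lit 36948, nat_lit 32969, nat_lit 28988, nat_lit 24713, nat_lit 20552, nat_lit 16388, nat_lit 12355, nat_lit 4097, nat_lit 2]⟩⟩⟩]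
theorem s568 : Suf yT 2064 (ldrop wU 7) (apW dcM p567) (tgtN dcM p567.e) := Suf.seg (l := l568) (by decide +kernel) s569
def l567 : List AP := [⟨[nat_lit 2, nat_lit 11, nat_lit 628, nat_lit 625, nat_lit 8, nat_lit 10], [], (nat_lit 26), ⟨[nat_lit 85, nat_lit 47], [nat_lit 86, nat_lit 47], ⟨[nat_lit 0xac5641decd9d0a94094c041f231c2e], [nat_lit 174080, nat_lit 168448, nat_lit 164864, nat_lit 161664, nat_lit 159104, nat_lit 153856, nat_lit 151504, nat_lit 145384, nat_lit 142740, nat_lit 135354, nat_lit 135114, nat_lit 960, nat_lit 6068, nat_lit 10072, nat_lit 13536, nat_lit 21824, nat_lit 30464, nat_lit 33280, nat_lit 37888, nat_lit 41037, nat_lit 37012, nat_lit 32807, nat_lit 28677, nat_lit 25653, nat_lit 20549, nat_lit 16416, nat_lit 12293, nat_lit 8194, nat_lit 4097]⟩⟩⟩,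
  ⟨[nat_lit 17, nat_lit 41, nat_lit 631, nat_lit 16, nat_lit 42, nat_lit 14], [], (nat_lit 90), ⟨[nat_lit 0, nat_lit 78, nat_lit 57], [nat_lit 0, nat_lit 32, nat_lit 93], ⟨[nat_lit 0x1a1c7209ab4cd56816a663ef20d220], [nat_lit 173056, nat_lit 169472, nat_lit 165632, nat_lit 160768, nat_lit 157312, nat_lit 152384, nat_lit 148112, nat_lit 143432, nat_lit 141368, nat_lit 136322, nat_lit 131932, nat_lit 4, nat_lit 4608, nat_lit 8224, nat_lit 13456, nat_lit 17504, nat_lit 20992, nat_lit 26368, nat_lit 30464, nat_lit 33792, nat_lit 37888, nat_lit 41660, nat_lit 37181, nat_lit 33305, nat_lit 29705, nat_lit 24622, nat_lit 20495, nat_lit 16513, nat_lit 12321, nat_lit 4104]⟩⟩⟩]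
theorem rU17 : Suf yT 2064 wU [yT.get 51] 0 := Suf.seg (l := l567) (by decide +kernel) s568

def p574 : AP := ⟨[], [], (nat_lit 255), ⟨[nat_lit 0, nat_lit 86, nat_lit 53], [nat_lit 0, nat_lit 76, nat_lit 65], ⟨[nat_lit 0x55823ab5e91389131688049879de0b], [nat_lit 173056, nat_lit 168960, nat_lit 166656, nat_lit 163072, nat_lit 158528, nat_lit 154976, nat_lit 148048, nat_lit 146488, nat_lit 141528, nat_lit 135568, nat_lit 133840, nat_lit 566, nat_lit 5016, nat_lit 9088, nat_lit 12336, nat_lit 18112, nat_lit 22144, nat_lit 25728, nat_lit 30208, nat_lit 33280, nat_lit 37888, nat_lit 41667, nat_lit 37211, nat_lit 32963, nat_lit 28966, nat_lit 24712, nat_lit 20507, nat_lit 16394, nat_lit 12290, nat_lit 8257, nat_lit 4097]⟩⟩⟩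
def p575 : AP := ⟨[nat_lit 31, nat_lit 25, nat_lit 636, nat_lit 30, nat_lit 634], [], (nat_lit 216), ⟨[nat_lit 71, nat_lit 94], [nat_lit 82, nat_lit 47], ⟨[nat_lit 0x638b0bac6d3a64a892d5980460bd14], [nat_lit 171008, nat_lit 166656, nat_lit 163072, nat_lit 158976, nat_lit 152896, nat_lit 151376, nat_lit 146624, nat_lit 141280, nat_lit 138334, nat_lit 133046, nat_lit 460, nat_lit 4824, nat_lit 10088, nat_lit 13264, nat_lit 16544, nat_lit 20544, nat_lit 24832, nat_lit 29440, nat_lit 41447, nat_lit 36922, nat_lit 32845, nat_lit 29817, nat_lit 24611, nat_lit 20545, nat_lit 16524, nat_lit 8320, nat_lit 64]⟩⟩⟩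
def p576 : AP := ⟨[nat_lit 22, nat_lit 31, nat_lit 27], [], (nat_lit 88), ⟨[nat_lit 0, nat_lit 86], [nat_lit 12, nat_lit 89], ⟨[nat_lit 0x4d5aeb1cab45c60804cc54e928904f], [nat_lit 174080, nat_lit 168960, nat_lit 164608, nat_lit 162688, nat_lit 157376, nat_lit 152480, nat_lit 150976, nat_lit 145624, nat_lit 142608, nat_lit 138468, nat_lit 133604, nat_lit 1014, nat_lit 5084, nat_lit 10144, nat_lit 13664, nat_lit 22400, nat_lit 25856, nat_lit 29952, nat_lit 33792, nat_lit 41680, nat_lit 37257, nat_lit 33506, nat_lit 28713, nat_lit 24836, nat_lit 20562, nat_lit 16420, nat_lit 12289, nat_lit 8224, nat_lit 4160]⟩⟩⟩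
def p577 : AP := ⟨[nat_lit 635, nat_lit 637, nat_lit 23], [], (nat_lit 89), ⟨[nat_lit 6, nat_lit 49], [nat_lit 78, nat_lit 66], ⟨[nat_lit 0xa206e5953289c20abd42bd8909998d], [nat_lit 173056, nat_lit 165120, nat_lit 162688, nat_lit 156736, nat_lit 152320, nat_lit 149040, nat_lit 144552, nat_lit 140168, nat_lit 135598, nat_lit 131362, nat_lit 364, nat_lit 4540, nat_lit 9880, nat_lit 13600, nat_lit 16448, nat_lit 22464, nat_lit 33792, nat_lit 37888, nat_lit 41773, nat_lit 38071, nat_lit 33318, nat_lit 28752, nat_lit 24720, nat_lit 20752, nat_lit 16512, nat_lit 12323, nat_lit 8203]⟩⟩⟩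
def p578 : AP := ⟨[], [], (nat_lit 217), ⟨[nat_lit 29, nat_lit 49], [nat_lit 0, nat_lit 79, nat_lit 56], ⟨[nat_lit 0xa5600b248d5cc4a3a2ef314311ba4c], [nat_lit 175104, nat_lit 168960, nat_lit 166912, nat_lit 163072, nat_lit 158400, nat_lit 152192, nat_lit 147728, nat_lit 144936, nat_lit 142024, nat_lit 138076, nat_lit 131519, nat_lit 318, nat_lit 5572, nat_lit 10160, nat_lit 18144, nat_lit 20608, nat_lit 25984, nat_lit 29696, nat_lit 33792, nat_lit 41090, nat_lit 37362, nat_lit 33432, nat_lit 28692, nat_lit 24847, nat_lit 20572, nat_lit 16427, nat_lit 12290, nat_lit 8194, nat_lit 32]⟩⟩⟩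
def p579 : AP := ⟨[nat_lit 117, nat_lit 135, nat_lit 111], [], (nat_lit 254), ⟨[nat_lit 38, nat_lit 58], [nat_lit 0, nat_lit 7, nat_lit 58], ⟨[nat_lit 0x5be179d5a9100a13906665a28951ca], [nat_lit 174080, nat_lit 170496, nat_lit 164864, nat_lit 162304, nat_lit 159296, nat_lit 155616, nat_lit 147696, nat_lit 143472, nat_lit 139916, nat_lit 138532, nat_lit 134763, nat_lit 166, nat_lit 4964, nat_lit 9824, nat_lit 13376, nat_lit 16576, nat_lit 20736, nat_lit 25344, nat_lit 29952, nat_lit 33792, nat_lit 41950, nat_lit 38132, nat_lit 32805, nat_lit 29819, nat_lit 25625, nat_lit 20498, nat_lit 16423, nat_lit 12807, nat_lit 8193, nat_lit 4129, nat_lit 2]⟩⟩⟩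
def l580 : List AP := [⟨[], [], (nat_lit 217), ⟨[nat_lit 0, nat_lit 35, nat_lit 51], [nat_lit 41, nat_lit 91], ⟨[nat_lit 0xa41ea45a6d180245baf2298478a6ac], [nat_lit 171520, nat_lit 163200, nat_lit 157312, nat_lit 153856, nat_lit 150944, nat_lit 145840, nat_lit 139908, nat_lit 136322, nat_lit 133440, nat_lit 902, nat_lit 5208, nat_lit 9112, nat_lit 13552, nat_lit 20928, nat_lit 25984, nat_lit 29696, nat_lit 41487, nat_lit 37238, nat_lit 33401, nat_lit 28707, nat_lit 24636, nat_lit 20498, nat_lit 16420, nat_lit 12295, nat_lit 8202]⟩⟩⟩,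
  ⟨[], [], (nat_lit 1034), ⟨[nat_lit 87, nat_lit 69], [nat_lit 81, nat_lit 89], ⟨[nat_lit 0x14ed7190f24a20053a86685f161575], [nat_lit 165632, nat_lit 159872, nat_lit 156096, nat_lit 152416, nat_lit 150080, nat_lit 144024, nat_lit 139316, nat_lit 135232, nat_lit 131219, nat_lit 1778, nat_lit 5064, nat_lit 8816, nat_lit 13232, nat_lit 16896, nat_lit 21248, nat_lit 26240, nat_lit 33280, nat_lit 41962, nat_lit 37053, nat_lit 34042, nat_lit 29301, nat_lit 24728, nat_lit 20994, nat_lit 12321, nat_lit 8202]⟩⟩⟩]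
theorem s580 : Suf yT 2080 (ldrop wU 61) (apW dcM p579) (tgtN dcM p579.e) := Suf.fin' (l := l580) (by decide +kernel)
def l579 : List AP := [⟨[nat_lit 26, nat_lit 24, nat_lit 23, nat_lit 21, nat_lit 23], [], (nat_lit 247), ⟨[nat_lit 0, nat_lit 15, nat_lit 51], [nat_lit 32, nat_lit 65], ⟨[nat_lit 0x9e0b9088a75d096d4608be74358ac], [nat_lit 168448, nat_lit 165376, nat_lit 160256, nat_lit 155776, nat_lit 153248, nat_lit 148880, nat_lit 144512, nat_lit 141512, nat_lit 136218, nat_lit 132278, nat_lit 902, nat_lit 4540, nat_lit 8320, nat_lit 13760, nat_lit 17440, nat_lit 21056, nat_lit 25216, nat_lit 29696, nat_lit 33792, nat_lit 41708, nat_lit 38040, nat_lit 32991, nat_lit 28685, nat_lit 24625, nat_lit 20482, nat_lit 16453, nat_lit 12417, nat_lit 8195, nat_lit 4101, nat_lit 4]⟩⟩⟩,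
  ⟨[nat_lit 651, nat_lit 649, nat_lit 112], [], (nat_lit 254), ⟨[nat_lit 83, nat_lit 50], [nat_lit 0, nat_lit 34, nat_lit 63], ⟨[nat_lit 0x1bcca6a0e09d169bc841a9624832ce], [nat_lit 173056, nat_lit 166656, nat_lit 161536, nat_lit 155712, nat_lit 152864, nat_lit 149088, nat_lit 144040, nat_lit 141228, nat_lit 137118, nat_lit 132121, nat_lit 1292, nat_lit 5768, nat_lit 9904, nat_lit 13296, nat_lit 16640, nat_lit 21248, nat_lit 24832, nat_lit 29696, nat_lit 34304, nat_lit 37888, nat_lit 41856, nat_lit 37995, nat_lit 32890, nat_lit 29291, nat_lit 24589, nat_lit 20487, nat_lit 12357, nat_lit 8194, nat_lit 4101, nat_lit 2]⟩⟩⟩]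
theorem s579 : Suf yT 2080 (ldrop wU 49) (apW dcM p578) (tgtN dcM p578.e) := Suf.seg (l := l579) (by decide +kernel) s580
def l578 : List AP := [⟨[nat_lit 635, nat_lit 26, nat_lit 637, nat_lit 22, nat_lit 22], [], (nat_lit 216), ⟨[nat_lit 20, nat_lit 70], [nat_lit 0, nat_lit 35, nat_lit 62], ⟨[nat_lit 0x8a1f48486611d8d0d8955940a9a5d7], [nat_lit 173056, nat_lit 165376, nat_lit 161280, nat_lit 156480, nat_lit 152288, nat_lit 148640, nat_lit 144520, nat_lit 140816, nat_lit 136162, nat_lit 132738, nat_lit 1140, nat_lit 4720, nat_lit 10160, nat_lit 13376, nat_lit 16864, nat_lit 26496, nat_lit 29184, nat_lit 33792, nat_lit 37888, nat_lit 41600, nat_lit 38216, nat_lit 33407, nat_lit 29042, nat_lit 24709, nat_lit 16640, nat_lit 12291, nat_lit 8194, nat_lit 4100]⟩⟩⟩,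
  ⟨[nat_lit 652, nat_lit 116], [], (nat_lit 254), ⟨[nat_lit 0, nat_lit 17, nat_lit 57], [nat_lit 0, nat_lit 21, nat_lit 66], ⟨[nat_lit 0x5b9e0ad0293b63744c70b30b2110ca], [nat_lit 173056, nat_lit 168448, nat_lit 164864, nat_lit 160896, nat_lit 155776, nat_lit 153888, nat_lit 147824, nat_lit 143400, nat_lit 141180, nat_lit 136244, nat_lit 132391, nat_lit 1842, nat_lit 4912, nat_lit 8208, nat_lit 12800, nat_lit 17184, nat_lit 21504, nat_lit 26240, nat_lit 29696, nat_lit 33792, nat_lit 41758, nat_lit 38188, nat_lit 34046, nat_lit 28704, nat_lit 24582, nat_lit 20483, nat_lit 16898, nat_lit 13314, nat_lit 8200, nat_lit 4129]⟩⟩⟩]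
theorem s578 : Suf yT 2080 (ldrop wU 37) (apW dcM p577) (tgtN dcM p577.e) := Suf.seg (l := l578) (by decide +kernel) s579
def l577 : List AP := [⟨[nat_lit 638, nat_lit 25, nat_lit 637], [], (nat_lit 1036), ⟨[nat_lit 78, nat_lit 67], [nat_lit 76, nat_lit 70], ⟨[nat_lit 0x222ec808a7902b6745a14cc6b7d146], [nat_lit 173056, nat_lit 168960, nat_lit 165120, nat_lit 160640, nat_lit 156800, nat_lit 153536, nat_lit 148528, nat_lit 144056, nat_lit 142916, nat_lit 136644, nat_lit 131336, nat_lit 786, nat_lit 6104, nat_lit 8224, nat_lit 14144, nat_lit 17536, nat_lit 22208, nat_lit 24704, nat_lit 28928, nat_lit 33792, nat_lit 41881, nat_lit 37348, nat_lit 33434, nat_lit 28716, nat_lit 24585, nat_lit 20482, nat_lit 16648, nat_lit 12292, nat_lit 4113, nat_lit 2]⟩⟩⟩,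
  ⟨[nat_lit 14, nat_lit 14, nat_lit 17, nat_lit 631], [], (nat_lit 70), ⟨[nat_lit 7, nat_lit 53], [nat_lit 32, nat_lit 56], ⟨[nat_lit 0x3a2837cc856cad5038315b20a15d26], [nat_lit 170496, nat_lit 164864, nat_lit 160384, nat_lit 158016, nat_lit 152864, nat_lit 148928, nat_lit 146216, nat_lit 141556, nat_lit 139182, nat_lit 134046, nat_lit 1614, nat_lit 4548, nat_lit 10232, nat_lit 13296, nat_lit 17728, nat_lit 21120, nat_lit 24704, nat_lit 29696, nat_lit 33280, nat_lit 37888, nat_lit 41227, nat_lit 37329, nat_lit 33488, nat_lit 28737, nat_lit 24704, nat_lit 20505, nat_lit 16429, nat_lit 12293, nat_lit 8194, nat_lit 4097]⟩⟩⟩]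
theorem s577 : Suf yT 2080 (ldrop wU 31) (apW dcM p576) (tgtN dcM p576.e) := Suf.seg (l := l577) (by decide +kernel) s578
def l576 : List AP := [⟨[], [], (nat_lit 255), ⟨[nat_lit 15, nat_lit 94], [nat_lit 21, nat_lit 66], ⟨[nat_lit 0x5118f19c49450d7906ae682362c26b], [nat_lit 174080, nat_lit 164352, nat_lit 161792, nat_lit 156352, nat_lit 153568, nat_lit 149760, nat_lit 146128, nat_lit 142540, nat_lit 137596, nat_lit 135023, nat_lit 1860, nat_lit 5448, nat_lit 9656, nat_lit 14304, nat_lit 18112, nat_lit 21312, nat_lit 24704, nat_lit 29184, nat_lit 34304, nat_lit 41870, nat_lit 38337, nat_lit 34033, nat_lit 28755, nat_lit 24613, nat_lit 20574, nat_lit 16390, nat_lit 12320, nat_lit 8209, nat_lit 4101]⟩⟩⟩,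
  ⟨[nat_lit 110, nat_lit 130, nat_lit 120], [], (nat_lit 246), ⟨[nat_lit 0, nat_lit 75, nat_lit 57], [nat_lit 18, nat_lit 65], ⟨[nat_lit 0x6126b2aa0fb8d09055ae0cad1a1c46], [nat_lit 174080, nat_lit 171520, nat_lit 165888, nat_lit 161664, nat_lit 157440, nat_lit 152704, nat_lit 150656, nat_lit 143800, nat_lit 139344, nat_lit 138768, nat_lit 134513, nat_lit 786, nat_lit 5084, nat_lit 9096, nat_lit 13216, nat_lit 16448, nat_lit 21504, nat_lit 24704, nat_lit 29184, nat_lit 33280, nat_lit 37888, nat_lit 40961, nat_lit 37057, nat_lit 32861, nat_lit 29279, nat_lit 24585, nat_lit 20495, nat_lit 16527, nat_lit 12326, nat_lit 4128]⟩⟩⟩]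
theorem s576 : Suf yT 2080 (ldrop wU 19) (apW dcM p575) (tgtN dcM p575.e) := Suf.seg (l := l576) (by decide +kernel) s577
def l575 : List AP := [⟨[nat_lit 115, nat_lit 135, nat_lit 137], [], (nat_lit 254), ⟨[nat_lit 78, nat_lit 93], [nat_lit 74, nat_lit 92], ⟨[nat_lit 0x9d0ca648301bd69a9e2813af6680a4], [nat_lit 165632, nat_lit 160896, nat_lit 155776, nat_lit 153216, nat_lit 149264, nat_lit 144128, nat_lit 140692, nat_lit 136128, nat_lit 131866, nat_lit 16, nat_lit 6016, nat_lit 8680, nat_lit 12976, nat_lit 22400, nat_lit 37888, nat_lit 41836, nat_lit 37250, nat_lit 28733, nat_lit 20638, nat_lit 16393, nat_lit 12308, nat_lit 8200, nat_lit 4129, nat_lit 4]⟩⟩⟩,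
  ⟨[nat_lit 135, nat_lit 652, nat_lit 111], [], (nat_lit 246), ⟨[nat_lit 22, nat_lit 48], [nat_lit 82, nat_lit 47], ⟨[nat_lit 0x65e6ba2a2d19109305cf3c012154b6], [nat_lit 175104, nat_lit 170496, nat_lit 166400, nat_lit 161408, nat_lit 156992, nat_lit 152320, nat_lit 150384, nat_lit 144488, nat_lit 139832, nat_lit 138892, nat_lit 134005, nat_lit 568, nat_lit 5544, nat_lit 8560, nat_lit 13120, nat_lit 18016, nat_lit 21120, nat_lit 30464, nat_lit 33280, nat_lit 37888, nat_lit 41411, nat_lit 37251, nat_lit 33448, nat_lit 28698, nat_lit 25637, nat_lit 20567, nat_lit 16418, nat_lit 12421, nat_lit 8203, nat_lit 4097, nat_lit 2]⟩⟩⟩]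
theorem s575 : Suf yT 2080 (ldrop wU 7) (apW dcM p574) (tgtN dcM p574.e) := Suf.seg (l := l575) (by decide +kernel) s576
def l574 : List AP := [⟨[nat_lit 3, nat_lit 625, nat_lit 3, nat_lit 627, nat_lit 626, nat_lit 8], [], (nat_lit 40), ⟨[nat_lit 39, nat_lit 52], [nat_lit 5, nat_lit 56], ⟨[nat_lit 0x6aaaf446f2740a064c461d829250eb], [nat_lit 171520, nat_lit 164864, nat_lit 160256, nat_lit 157312, nat_lit 152256, nat_lit 147600, nat_lit 144968, nat_lit 139756, nat_lit 135848, nat_lit 131931, nat_lit 1860, nat_lit 4568, nat_lit 9272, nat_lit 14192, nat_lit 16416, nat_lit 20992, nat_lit 24960, nat_lit 30208, nat_lit 34304, nat_lit 37888, nat_lit 41541, nat_lit 37137, nat_lit 33297, nat_lit 28714, nat_lit 25605, nat_lit 20504, nat_lit 16430, nat_lit 12320, nat_lit 8210, nat_lit 4097, nat_lit 2]⟩⟩⟩,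
  ⟨[nat_lit 32, nat_lit 26, nat_lit 32, nat_lit 28, nat_lit 635], [], (nat_lit 216), ⟨[nat_lit 71, nat_lit 66], [nat_lit 3, nat_lit 57], ⟨[nat_lit 0x61897b4e0d1d5c290527044ab429f4], [nat_lit 170496, nat_lit 164096, nat_lit 160384, nat_lit 159424, nat_lit 151904, nat_lit 147472, nat_lit 147184, nat_lit 142876, nat_lit 137910, nat_lit 134483, nat_lit 622, nat_lit 5296, nat_lit 9560, nat_lit 13920, nat_lit 17952, nat_lit 21696, nat_lit 25984, nat_lit 28928, nat_lit 37888, nat_lit 41825, nat_lit 38080, nat_lit 33425, nat_lit 28769, nat_lit 24626, nat_lit 20490, nat_lit 16457, nat_lit 12306, nat_lit 4112]⟩⟩⟩]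
theorem rU18 : Suf yT 2080 wU [yT.get 52] 0 := Suf.seg (l := l574) (by decide +kernel) s575

def p581 : AP := ⟨[nat_lit 51, nat_lit 68], [], (nat_lit 126), ⟨[nat_lit 43, nat_lit 61], [nat_lit 0, nat_lit 28, nat_lit 66], ⟨[nat_lit 0x119b6828208ad8ebcaa93cd05a3c83], [nat_lit 174080, nat_lit 171520, nat_lit 165888, nat_lit 161664, nat_lit 156928, nat_lit 151680, nat_lit 150992, nat_lit 143536, nat_lit 141076, nat_lit 139056, nat_lit 134542, nat_lit 1818, nat_lit 5552, nat_lit 10008, nat_lit 12320, nat_lit 16512, nat_lit 20608, nat_lit 25984, nat_lit 28928, nat_lit 34304, nat_lit 41668, nat_lit 37147, nat_lit 33404, nat_lit 28713, nat_lit 24837, nat_lit 20506, nat_lit 16419, nat_lit 12289, nat_lit 8450, nat_lit 4129]⟩⟩⟩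
def p582 : AP := ⟨[nat_lit 70, nat_lit 51, nat_lit 54], [], (nat_lit 120), ⟨[nat_lit 7, nat_lit 61], [], ⟨[nat_lit 0x32815115171866e5a5b1951f661207], [nat_lit 169472, nat_lit 165632, nat_lit 163328, nat_lit 157184, nat_lit 151776, nat_lit 148832, nat_lit 145384, nat_lit 139444, nat_lit 136742, nat_lit 132611, nat_lit 1054, nat_lit 4476, nat_lit 8936, nat_lit 14224, nat_lit 16448, nat_lit 21504, nat_lit 24704, nat_lit 30208, nat_lit 33280, nat_lit 37888, nat_lit 41632, nat_lit 38176, nat_lit 33280, nat_lit 28984, nat_lit 24623, nat_lit 20570, nat_lit 16430, nat_lit 12305, nat_lit 8225, nat_lit 4104]⟩⟩⟩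
def p583 : AP := ⟨[nat_lit 639, nat_lit 642, nat_lit 54, nat_lit 50], [], (nat_lit 120), ⟨[nat_lit 81, nat_lit 90], [nat_lit 2, nat_lit 68], ⟨[nat_lit 0x2b42762123928d5889d0a01f622e77], [nat_lit 168448, nat_lit 167168, nat_lit 160000, nat_lit 155712, nat_lit 151648, nat_lit 149360, nat_lit 143392, nat_lit 140820, nat_lit 135590, nat_lit 131784, nat_lit 1396, nat_lit 5688, nat_lit 8744, nat_lit 12304, nat_lit 16928, nat_lit 21696, nat_lit 26496, nat_lit 29440, nat_lit 33792, nat_lit 37888, nat_lit 41677, nat_lit 36918, nat_lit 32960, nat_lit 28760, nat_lit 24632, nat_lit 20499, nat_lit 16422, nat_lit 12352, nat_lit 8211, nat_lit 4097]⟩⟩⟩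
def p584 : AP := ⟨[nat_lit 49], [], (nat_lit 122), ⟨[nat_lit 5, nat_lit 53], [nat_lit 0, nat_lit 33, nat_lit 70], ⟨[nat_lit 0x85124b36a013d0b99eea8c9c11b0c5], [nat_lit 173056, nat_lit 168448, nat_lit 167168, nat_lit 163712, nat_lit 157824, nat_lit 154784, nat_lit 149184, nat_lit 145440, nat_lit 143180, nat_lit 135452, nat_lit 134668, nat_lit 364, nat_lit 5436, nat_lit 8504, nat_lit 12416, nat_lit 17408, nat_lit 21120, nat_lit 25728, nat_lit 30208, nat_lit 34304, nat_lit 41601, nat_lit 37042, nat_lit 32834, nat_lit 28685, nat_lit 24596, nat_lit 20995, nat_lit 16422, nat_lit 12289, nat_lit 8208, nat_lit 4100]⟩⟩⟩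
def p585 : AP := ⟨[nat_lit 661, nat_lit 171], [], (nat_lit 418), ⟨[nat_lit 0, nat_lit 84, nat_lit 94], [nat_lit 0, nat_lit 34, nat_lit 58], ⟨[nat_lit 0x910d6a21337c6ee381ab1154c08eb0], [nat_lit 168960, nat_lit 165888, nat_lit 157440, nat_lit 152256, nat_lit 148336, nat_lit 143536, nat_lit 140528, nat_lit 136424, nat_lit 132147, nat_lit 1698, nat_lit 4160, nat_lit 8560, nat_lit 12352, nat_lit 17472, nat_lit 21888, nat_lit 24960, nat_lit 34304, nat_lit 41856, nat_lit 38326, nat_lit 33818, nat_lit 28785, nat_lit 24748, nat_lit 20618, nat_lit 16421, nat_lit 12308, nat_lit 8210, nat_lit 4105, nat_lit 2]⟩⟩⟩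
def p586 : AP := ⟨[nat_lit 217], [], (nat_lit 393), ⟨[nat_lit 86, nat_lit 90], [nat_lit 39, nat_lit 90], ⟨[nat_lit 0xaae2914036034ca2526578d0773257], [nat_lit 168448, nat_lit 165120, nat_lit 160640, nat_lit 158400, nat_lit 152032, nat_lit 147856, nat_lit 145096, nat_lit 140184, nat_lit 135754, nat_lit 131259, nat_lit 1076, nat_lit 4412, nat_lit 10160, nat_lit 13552, nat_lit 17472, nat_lit 22016, nat_lit 25728, nat_lit 29952, nat_lit 33792, nat_lit 37888, nat_lit 41592, nat_lit 38278, nat_lit 33470, nat_lit 28736, nat_lit 24717, nat_lit 21012, nat_lit 16905, nat_lit 12326, nat_lit 8202, nat_lit 4100]⟩⟩⟩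
def l587 : List AP := [⟨[nat_lit 214, nat_lit 170], [], (nat_lit 390), ⟨[nat_lit 75, nat_lit 66], [nat_lit 0, nat_lit 77, nat_lit 65], ⟨[nat_lit 0x930682da133bdd7045ab09054aa546], [nat_lit 170496, nat_lit 165120, nat_lit 161792, nat_lit 156352, nat_lit 154528, nat_lit 150816, nat_lit 145624, nat_lit 140064, nat_lit 136670, nat_lit 135134, nat_lit 1720, nat_lit 5544, nat_lit 9320, nat_lit 12688, nat_lit 17664, nat_lit 20736, nat_lit 24704, nat_lit 29440, nat_lit 33792, nat_lit 41233, nat_lit 37313, nat_lit 33011, nat_lit 28942, nat_lit 24715, nat_lit 20567, nat_lit 16455, nat_lit 12423, nat_lit 8195]⟩⟩⟩,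
  ⟨[], [], (nat_lit 1034), ⟨[nat_lit 5, nat_lit 58], [nat_lit 0, nat_lit 33, nat_lit 47], ⟨[nat_lit 0x49c8532d0a88dd765a6083c35a49a2], [nat_lit 169984, nat_lit 166144, nat_lit 163072, nat_lit 158208, nat_lit 151840, nat_lit 150848, nat_lit 146704, nat_lit 141036, nat_lit 137672, nat_lit 132687, nat_lit 488, nat_lit 5084, nat_lit 13296, nat_lit 17600, nat_lit 21888, nat_lit 26112, nat_lit 29952, nat_lit 33792, nat_lit 41566, nat_lit 38232, nat_lit 32991, nat_lit 28712, nat_lit 24894, nat_lit 20551, nat_lit 16385, nat_lit 12422, nat_lit 8194, nat_lit 4097, nat_lit 2]⟩⟩⟩]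
theorem s587 : Suf yT 2112 (ldrop wU 61) (apW dcM p586) (tgtN dcM p586.e) := Suf.fin' (l := l587) (by decide +kernel)
def l586 : List AP := [⟨[nat_lit 662, nat_lit 216], [], (nat_lit 418), ⟨[nat_lit 76, nat_lit 60], [nat_lit 82, nat_lit 63], ⟨[nat_lit 0x490500dda3ab2533d9c602a25a216f], [nat_lit 174080, nat_lit 168448, nat_lit 164608, nat_lit 158016, nat_lit 154272, nat_lit 149632, nat_lit 144168, nat_lit 141704, nat_lit 135518, nat_lit 134806, nat_lit 796, nat_lit 5296, nat_lit 8632, nat_lit 14144, nat_lit 16992, nat_lit 20544, nat_lit 25856, nat_lit 29184, nat_lit 37888, nat_lit 41070, nat_lit 37368, nat_lit 32873, nat_lit 29201, nat_lit 24712, nat_lit 20489, nat_lit 16897, nat_lit 12289, nat_lit 9219, nat_lit 4097]⟩⟩⟩,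
  ⟨[nat_lit 218, nat_lit 663, nat_lit 170], [], (nat_lit 418), ⟨[nat_lit 33, nat_lit 64], [nat_lit 0, nat_lit 72, nat_lit 49], ⟨[nat_lit 0x6a0d0bbc4e05653515911d92ba04e4], [nat_lit 175104, nat_lit 171520, nat_lit 166912, nat_lit 160640, nat_lit 159424, nat_lit 154912, nat_lit 148496, nat_lit 147408, nat_lit 139768, nat_lit 135832, nat_lit 131838, nat_lit 1166, nat_lit 4112, nat_lit 10144, nat_lit 14144, nat_lit 17536, nat_lit 20544, nat_lit 25728, nat_lit 29696, nat_lit 41327, nat_lit 37260, nat_lit 33380, nat_lit 28982, nat_lit 24636, nat_lit 20488, nat_lit 16462, nat_lit 8258, nat_lit 4101, nat_lit 2]⟩⟩⟩]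
theorem s586 : Suf yT 2112 (ldrop wU 49) (apW dcM p585) (tgtN dcM p585.e) := Suf.seg (l := l586) (by decide +kernel) s587
def l585 : List AP := [⟨[nat_lit 17, nat_lit 633, nat_lit 39, nat_lit 14, nat_lit 17, nat_lit 633], [], (nat_lit 90), ⟨[nat_lit 24, nat_lit 58], [nat_lit 0, nat_lit 85, nat_lit 58], ⟨[nat_lit 0xb0888584d76c232a94693aa809b98f], [nat_lit 168448, nat_lit 164096, nat_lit 161024, nat_lit 156992, nat_lit 152704, nat_lit 148080, nat_lit 144184, nat_lit 139376, nat_lit 139244, nat_lit 131680, nat_lit 1318, nat_lit 5768, nat_lit 8504, nat_lit 13808, nat_lit 17280, nat_lit 20928, nat_lit 25216, nat_lit 30464, nat_lit 37888, nat_lit 41607, nat_lit 38333, nat_lit 32780, nat_lit 29789, nat_lit 24593, nat_lit 20506, nat_lit 16423, nat_lit 12310, nat_lit 8194, nat_lit 4100, nat_lit 8]⟩⟩⟩,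
  ⟨[nat_lit 72, nat_lit 54, nat_lit 641, nat_lit 56], [], (nat_lit 1046), ⟨[nat_lit 26, nat_lit 49], [nat_lit 21], ⟨[nat_lit 0x24e06bb2cd025614094389647abe8e], [nat_lit 168448, nat_lit 167680, nat_lit 161024, nat_lit 157248, nat_lit 155040, nat_lit 150368, nat_lit 145784, nat_lit 142280, nat_lit 137968, nat_lit 131462, nat_lit 342, nat_lit 4380, nat_lit 8408, nat_lit 14144, nat_lit 17568, nat_lit 21504, nat_lit 25984, nat_lit 29184, nat_lit 41634, nat_lit 38227, nat_lit 33307, nat_lit 29000, nat_lit 24855, nat_lit 20482, nat_lit 16454, nat_lit 12295, nat_lit 8201, nat_lit 8]⟩⟩⟩]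
theorem s585 : Suf yT 2112 (ldrop wU 37) (apW dcM p584) (tgtN dcM p584.e) := Suf.seg (l := l585) (by decide +kernel) s586
def l584 : List AP := [⟨[nat_lit 54, nat_lit 70, nat_lit 639], [], (nat_lit 121), ⟨[nat_lit 6, nat_lit 68], [nat_lit 0, nat_lit 44, nat_lit 54], ⟨[nat_lit 0xaa28083cf79bac590a296054d19166], [nat_lit 174080, nat_lit 170496, nat_lit 165888, nat_lit 160640, nat_lit 159296, nat_lit 154560, nat_lit 147696, nat_lit 146752, nat_lit 139472, nat_lit 136058, nat_lit 131233, nat_lit 1516, nat_lit 5296, nat_lit 9720, nat_lit 13312, nat_lit 17408, nat_lit 22336, nat_lit 24832, nat_lit 29952, nat_lit 41946, nat_lit 37937, nat_lit 32934, nat_lit 28767, nat_lit 24750, nat_lit 20509, nat_lit 16420, nat_lit 12305, nat_lit 8225, nat_lit 16]⟩⟩⟩,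
  ⟨[nat_lit 50], [], (nat_lit 120), ⟨[nat_lit 0, nat_lit 4, nat_lit 94], [nat_lit 86, nat_lit 59], ⟨[nat_lit 0xaa28083cf79bac590a296054d19166], [nat_lit 175104, nat_lit 170496, nat_lit 166144, nat_lit 160512, nat_lit 159232, nat_lit 154560, nat_lit 147680, nat_lit 146760, nat_lit 139472, nat_lit 136056, nat_lit 131233, nat_lit 1516, nat_lit 5296, nat_lit 9720, nat_lit 13312, nat_lit 17408, nat_lit 22336, nat_lit 24832, nat_lit 29952, nat_lit 41946, nat_lit 37937, nat_lit 32934, nat_lit 28767, nat_lit 24750, nat_lit 20509, nat_lit 16420, nat_lit 12305, nat_lit 8225, nat_lit 16]⟩⟩⟩]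
theorem s584 : Suf yT 2112 (ldrop wU 31) (apW dcM p583) (tgtN dcM p583.e) := Suf.seg (l := l584) (by decide +kernel) s585
def l583 : List AP := [⟨[nat_lit 641, nat_lit 46, nat_lit 54], [], (nat_lit 121), ⟨[nat_lit 0, nat_lit 34, nat_lit 63], [nat_lit 74, nat_lit 93], ⟨[nat_lit 0xaa647a41668d88a6bd80189c144cb7], [nat_lit 168960, nat_lit 165632, nat_lit 161664, nat_lit 158784, nat_lit 153056, nat_lit 148000, nat_lit 145008, nat_lit 141092, nat_lit 135748, nat_lit 132612, nat_lit 1076, nat_lit 5880, nat_lit 10032, nat_lit 14320, nat_lit 18240, nat_lit 21504, nat_lit 25600, nat_lit 29696, nat_lit 34304, nat_lit 41012, nat_lit 37218, nat_lit 32837, nat_lit 28740, nat_lit 21009, nat_lit 16425, nat_lit 12306, nat_lit 8323, nat_lit 4101]⟩⟩⟩,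
  ⟨[nat_lit 52, nat_lit 52, nat_lit 48], [], (nat_lit 120), ⟨[nat_lit 38], [nat_lit 0, nat_lit 75, nat_lit 57], ⟨[nat_lit 0x331b5b0ca042ee7a12329bd420a5d0], [nat_lit 164864, nat_lit 161280, nat_lit 157568, nat_lit 152640, nat_lit 147856, nat_lit 145664, nat_lit 139648, nat_lit 137212, nat_lit 133100, nat_lit 1698, nat_lit 4720, nat_lit 10168, nat_lit 12912, nat_lit 18336, nat_lit 21248, nat_lit 26112, nat_lit 29952, nat_lit 33792, nat_lit 37888, nat_lit 41568, nat_lit 37208, nat_lit 33408, nat_lit 28745, nat_lit 24738, nat_lit 20562, nat_lit 16388, nat_lit 12290, nat_lit 8194, nat_lit 4100, nat_lit 32]⟩⟩⟩]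
theorem s583 : Suf yT 2112 (ldrop wU 19) (apW dcM p582) (tgtN dcM p582.e) := Suf.seg (l := l583) (by decide +kernel) s584
def l582 : List AP := [⟨[nat_lit 70, nat_lit 69, nat_lit 46, nat_lit 46], [], (nat_lit 120), ⟨[nat_lit 43, nat_lit 46], [nat_lit 82, nat_lit 93], ⟨[nat_lit 0xb52e713570216a650df10b2684ba40], [nat_lit 173056, nat_lit 168448, nat_lit 167680, nat_lit 162176, nat_lit 158464, nat_lit 154400, nat_lit 147696, nat_lit 146888, nat_lit 141532, nat_lit 136112, nat_lit 134208, nat_lit 5572, nat_lit 10160, nat_lit 13904, nat_lit 16576, nat_lit 29440, nat_lit 33792, nat_lit 41383, nat_lit 37171, nat_lit 33342, nat_lit 29745, nat_lit 24589, nat_lit 21013, nat_lit 16523, nat_lit 12295, nat_lit 8202, nat_lit 4104, nat_lit 2]⟩⟩⟩,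
  ⟨[nat_lit 57, nat_lit 48, nat_lit 52], [], (nat_lit 121), ⟨[nat_lit 29, nat_lit 46], [nat_lit 0, nat_lit 43, nat_lit 49], ⟨[nat_lit 0x189552b201b2cc743a8f682449c6e9], [nat_lit 173056, nat_lit 166144, nat_lit 161408, nat_lit 155840, nat_lit 154656, nat_lit 150192, nat_lit 145672, nat_lit 142216, nat_lit 137560, nat_lit 132897, nat_lit 434, nat_lit 6084, nat_lit 8696, nat_lit 13552, nat_lit 16896, nat_lit 21504, nat_lit 24704, nat_lit 28928, nat_lit 41717, nat_lit 37322, nat_lit 33368, nat_lit 28952, nat_lit 24580, nat_lit 21518, nat_lit 16394, nat_lit 12295, nat_lit 8201, nat_lit 4101, nat_lit 2]⟩⟩⟩]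
theorem s582 : Suf yT 2112 (ldrop wU 7) (apW dcM p581) (tgtN dcM p581.e) := Suf.seg (l := l582) (by decide +kernel) s583
def l581 : List AP := [⟨[nat_lit 0, nat_lit 0, nat_lit 624, nat_lit 627, nat_lit 5, nat_lit 5], [], (nat_lit 1030), ⟨[nat_lit 0, nat_lit 83, nat_lit 54], [nat_lit 14, nat_lit 93], ⟨[nat_lit 0x14224481453058f38eb4436569dd6e], [nat_lit 173056, nat_lit 169472, nat_lit 165120, nat_lit 161024, nat_lit 157120, nat_lit 152128, nat_lit 147680, nat_lit 144592, nat_lit 139636, nat_lit 136460, nat_lit 133431, nat_lit 1972, nat_lit 5228, nat_lit 9328, nat_lit 13456, nat_lit 17888, nat_lit 22016, nat_lit 25344, nat_lit 33792, nat_lit 37888, nat_lit 41228, nat_lit 37246, nat_lit 33435, nat_lit 28741, nat_lit 24581, nat_lit 20501, nat_lit 16429, nat_lit 12306, nat_lit 4097]⟩⟩⟩,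
  ⟨[nat_lit 41, nat_lit 15, nat_lit 631, nat_lit 629, nat_lit 42], [], (nat_lit 123), ⟨[nat_lit 28, nat_lit 90], [nat_lit 6, nat_lit 66], ⟨[nat_lit 0x5a1d19b0e59082f852ad25809b8cca], [nat_lit 168960, nat_lit 166400, nat_lit 159872, nat_lit 155712, nat_lit 155488, nat_lit 150656, nat_lit 147200, nat_lit 142644, nat_lit 138592, nat_lit 131662, nat_lit 1580, nat_lit 5436, nat_lit 9760, nat_lit 13904, nat_lit 16608, nat_lit 21632, nat_lit 26368, nat_lit 29184, nat_lit 33792, nat_lit 37888, nat_lit 41303, nat_lit 37149, nat_lit 33502, nat_lit 29052, nat_lit 24833, nat_lit 20637, nat_lit 16519, nat_lit 12291, nat_lit 8321]⟩⟩⟩]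
theorem rU19 : Suf yT 2112 wU [yT.get 53] 0 := Suf.seg (l := l581) (by decide +kernel) s582


end

end CF.Mon.Tr
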