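import Cfsg.Agent.Mon.YW

set_option autoImplicit false
set_option maxRecDepth 100000

namespace CF.Mon.Tr

open CF.Comp

noncomputable section

def p588 : AP := ⟨[nat_lit 72, nat_lit 66], [], (nat_lit 126), ⟨[nat_lit 0, nat_lit 31, nat_lit 55], [nat_lit 0, nat_lit 6, nat_lit 59], ⟨[nat_lit 0x34d506adc7a49814d6c5782f122062], [nat_lit 169984, nat_lit 167680, nat_lit 163584, nat_lit 159360, nat_lit 152160, nat_lit 150928, nat_lit 146688, nat_lit 140104, nat_lit 137522, nat_lit 131083, nat_lit 1178, nat_lit 5072, nat_lit 8448, nat_lit 12304, nat_lit 16896, nat_lit 21056, nat_lit 24832, nat_lit 28928, nat_lit 33280, nat_lit 41537, nat_lit 38063, nat_lit 32922, nat_lit 29039, nat_lit 24746, nat_lit 20623, nat_lit 16394, nat_lit 12290, nat_lit 8257, nat_lit 64]⟩⟩⟩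
def p589 : AP := ⟨[nat_lit 73, nat_lit 56, nat_lit 55], [], (nat_lit 1046), ⟨[nat_lit 0, nat_lit 19, nat_lit 46], [nat_lit 77, nat_lit 57], ⟨[nat_lit 0x73cd78090d49eaa64c2ba14608da44], [nat_lit 173056, nat_lit 164352, nat_lit 160256, nat_lit 156224, nat_lit 152384, nat_lit 147632, nat_lit 144568, nat_lit 143204, nat_lit 135188, nat_lit 131740, nat_lit 680, nat_lit 5080, nat_lit 8208, nat_lit 12448, nat_lit 16896, nat_lit 21568, nat_lit 25344, nat_lit 29952, nat_lit 41876, nat_lit 37140, nat_lit 33282, nat_lit 28796, nat_lit 24577, nat_lit 20505, nat_lit 16397, nat_lit 12305, nat_lit 8193, nat_lit 4352, nat_lit 4]⟩⟩⟩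
def p590 : AP := ⟨[nat_lit 28, nat_lit 635, nat_lit 23], [], (nat_lit 116), ⟨[nat_lit 41, nat_lit 59], [nat_lit 0, nat_lit 43, nat_lit 53], ⟨[nat_lit 0x98eea3b0c504a888d44973da40c2cb], [nat_lit 173056, nat_lit 169472, nat_lit 166144, nat_lit 161152, nat_lit 156800, nat_lit 153888, nat_lit 151088, nat_lit 146456, nat_lit 143352, nat_lit 137284, nat_lit 131947, nat_lit 354, nat_lit 5016, nat_lit 8928, nat_lit 13264, nat_lit 16448, nat_lit 22080, nat_lit 24704, nat_lit 30464, nat_lit 33792, nat_lit 37888, nat_lit 41598, nat_lit 37318, nat_lit 33326, nat_lit 28721, nat_lit 24582, nat_lit 20503, nat_lit 16390, nat_lit 12292, nat_lit 8194, nat_lit 4101, nat_lit 2]⟩⟩⟩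
def p591 : AP := ⟨[nat_lit 640, nat_lit 639, nat_lit 72, nat_lit 47], [], (nat_lit 120), ⟨[nat_lit 36, nat_lit 51], [nat_lit 0, nat_lit 24, nat_lit 63], ⟨[nat_lit 0xa2e356a20e788d750c322a664b3007], [nat_lit 173056, nat_lit 169472, nat_lit 165888, nat_lit 160384, nat_lit 157120, nat_lit 152704, nat_lit 148688, nat_lit 144248, nat_lit 139496, nat_lit 136088, nat_lit 132301, nat_lit 1438, nat_lit 5276, nat_lit 9944, nat_lit 12976, nat_lit 16640, nat_lit 21632, nat_lit 25472, nat_lit 30208, nat_lit 37888, nat_lit 41962, nat_lit 38186, nat_lit 29201, nat_lit 24604, nat_lit 20485, nat_lit 12291, nat_lit 8227, nat_lit 4097]⟩⟩⟩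
def p592 : AP := ⟨[nat_lit 661, nat_lit 171], [], (nat_lit 418), ⟨[nat_lit 0, nat_lit 31, nat_lit 53], [nat_lit 0, nat_lit 38, nat_lit 68], ⟨[nat_lit 0x91a85b35d0031070916f4aa37a8873], [nat_lit 173056, nat_lit 165888, nat_lit 162560, nat_lit 158784, nat_lit 154560, nat_lit 149024, nat_lit 146360, nat_lit 142972, nat_lit 136514, nat_lit 135136, nat_lit 582, nat_lit 5024, nat_lit 8200, nat_lit 12592, nat_lit 17664, nat_lit 21632, nat_lit 24704, nat_lit 29184, nat_lit 33280, nat_lit 37888, nat_lit 41686, nat_lit 36919, nat_lit 32867, nat_lit 28731, nat_lit 24635, nat_lit 20507, nat_lit 16419, nat_lit 12310, nat_lit 8195, nat_lit 4097, nat_lit 2]⟩⟩⟩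
def p593 : AP := ⟨[nat_lit 51, nat_lit 68], [], (nat_lit 126), ⟨[nat_lit 1, nat_lit 65], [nat_lit 14, nat_lit 92], ⟨[nat_lit 0x316b37ac07bc5cd4d9500b10495062], [nat_lit 171520, nat_lit 166912, nat_lit 163200, nat_lit 159616, nat_lit 152288, nat_lit 149568, nat_lit 145824, nat_lit 139328, nat_lit 138644, nat_lit 131823, nat_lit 586, nat_lit 5072, nat_lit 8224, nat_lit 26240, nat_lit 30464, nat_lit 37888, nat_lit 41028, nat_lit 37009, nat_lit 32970, nat_lit 28992, nat_lit 24639, nat_lit 20495, nat_lit 16394, nat_lit 12290, nat_lit 8225, nat_lit 32]⟩⟩⟩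
def l594 : List AP := [⟨[nat_lit 68], [], (nat_lit 122), ⟨[nat_lit 0, nat_lit 8, nat_lit 52], [nat_lit 17, nat_lit 50], ⟨[nat_lit 0x41a546896aabae178e3024ec9030e5], [nat_lit 173056, nat_lit 164096, nat_lit 157440, nat_lit 151648, nat_lit 148672, nat_lit 143400, nat_lit 143240, nat_lit 135784, nat_lit 132098, nat_lit 1054, nat_lit 4540, nat_lit 8320, nat_lit 12752, nat_lit 18400, nat_lit 20608, nat_lit 25472, nat_lit 29952, nat_lit 33280, nat_lit 41141, nat_lit 37218, nat_lit 32836, nat_lit 28751, nat_lit 24758, nat_lit 20484, nat_lit 16455, nat_lit 12305, nat_lit 8194, nat_lit 4101, nat_lit 2]⟩⟩⟩,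
  ⟨[nat_lit 632, nat_lit 632], [], (nat_lit 1032), ⟨[nat_lit 7, nat_lit 93], [nat_lit 85, nat_lit 61], ⟨[nat_lit 0x200659c2f55b5e911827629c88d2d2], [nat_lit 169472, nat_lit 165376, nat_lit 160512, nat_lit 158336, nat_lit 152736, nat_lit 147568, nat_lit 143744, nat_lit 139632, nat_lit 135682, nat_lit 131842, nat_lit 696, nat_lit 5208, nat_lit 10128, nat_lit 14304, nat_lit 18336, nat_lit 20608, nat_lit 33280, nat_lit 41491, nat_lit 37213, nat_lit 33298, nat_lit 28772, nat_lit 24579, nat_lit 20612, nat_lit 16909, nat_lit 12551, nat_lit 8320, nat_lit 4160, nat_lit 2]⟩⟩⟩]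
theorem s594 : Suf yT 2176 (ldrop wU 61) (apW dcM p593) (tgtN dcM p593.e) := Suf.fin' (l := l594) (by decide +kernel)
def l593 : List AP := [⟨[nat_lit 216, nat_lit 172, nat_lit 170], [], (nat_lit 396), ⟨[nat_lit 2, nat_lit 47], [nat_lit 26, nat_lit 52], ⟨[nat_lit 0x52ca441cc98c9cdad82083e6ca0ee2], [nat_lit 174080, nat_lit 169472, nat_lit 163072, nat_lit 157376, nat_lit 153184, nat_lit 151360, nat_lit 145936, nat_lit 142600, nat_lit 138330, nat_lit 133746, nat_lit 1178, nat_lit 4328, nat_lit 8200, nat_lit 12320, nat_lit 16832, nat_lit 20928, nat_lit 24704, nat_lit 29184, nat_lit 34304, nat_lit 41125, nat_lit 37229, nat_lit 32926, nat_lit 28942, nat_lit 25126, nat_lit 20509, nat_lit 16387, nat_lit 12293, nat_lit 8193]⟩⟩⟩,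
  ⟨[nat_lit 47, nat_lit 52, nat_lit 48, nat_lit 67], [], (nat_lit 120), ⟨[nat_lit 0, nat_lit 88, nat_lit 60], [nat_lit 0, nat_lit 16, nat_lit 48], ⟨[nat_lit 0x46e64882e1caa7459b47c1535b085], [nat_lit 168960, nat_lit 164608, nat_lit 160128, nat_lit 156032, nat_lit 152992, nat_lit 147616, nat_lit 144336, nat_lit 142852, nat_lit 135592, nat_lit 132200, nat_lit 718, nat_lit 4396, nat_lit 8208, nat_lit 14112, nat_lit 16512, nat_lit 21376, nat_lit 25856, nat_lit 29696, nat_lit 33280, nat_lit 37888, nat_lit 41940, nat_lit 36874, nat_lit 32820, nat_lit 28793, nat_lit 24713, nat_lit 20548, nat_lit 16389, nat_lit 12419, nat_lit 8194, nat_lit 4100, nat_lit 16]⟩⟩⟩]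
theorem s593 : Suf yT 2176 (ldrop wU 49) (apW dcM p592) (tgtN dcM p592.e) := Suf.seg (l := l593) (by decide +kernel) s594
def l592 : List AP := [⟨[nat_lit 72, nat_lit 643, nat_lit 47, nat_lit 46], [], (nat_lit 120), ⟨[nat_lit 0, nat_lit 21, nat_lit 65], [nat_lit 26, nat_lit 60], ⟨[nat_lit 0x824a7452d1680d75498e091f598d62], [nat_lit 173056, nat_lit 168448, nat_lit 165376, nat_lit 160512, nat_lit 156928, nat_lit 155040, nat_lit 148288, nat_lit 144200, nat_lit 140624, nat_lit 136448, nat_lit 132251, nat_lit 586, nat_lit 5112, nat_lit 8200, nat_lit 12320, nat_lit 16992, nat_lit 21632, nat_lit 25856, nat_lit 30208, nat_lit 33792, nat_lit 37888, nat_lit 41808, nat_lit 37131, nat_lit 33495, nat_lit 28776, nat_lit 24712, nat_lit 20509, nat_lit 16420, nat_lit 12293, nat_lit 8201, nat_lit 8]⟩⟩⟩,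
  ⟨[nat_lit 641, nat_lit 73, nat_lit 54, nat_lit 67], [], (nat_lit 1046), ⟨[nat_lit 17, nat_lit 62], [nat_lit 0, nat_lit 30, nat_lit 59], ⟨[nat_lit 0x242e53282e11d88acc60b492ba45ed], [nat_lit 174080, nat_lit 169984, nat_lit 166656, nat_lit 160640, nat_lit 155712, nat_lit 153280, nat_lit 151488, nat_lit 145208, nat_lit 139648, nat_lit 138242, nat_lit 133666, nat_lit 1668, nat_lit 5884, nat_lit 10016, nat_lit 14144, nat_lit 17024, nat_lit 20608, nat_lit 25600, nat_lit 29184, nat_lit 33280, nat_lit 37888, nat_lit 41643, nat_lit 37045, nat_lit 32910, nat_lit 28753, nat_lit 24750, nat_lit 20491, nat_lit 16450, nat_lit 12291, nat_lit 8210, nat_lit 4097, nat_lit 2]⟩⟩⟩]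
theorem s592 : Suf yT 2176 (ldrop wU 37) (apW dcM p591) (tgtN dcM p591.e) := Suf.seg (l := l592) (by decide +kernel) s593
def l591 : List AP := [⟨[nat_lit 48, nat_lit 643, nat_lit 72, nat_lit 46], [], (nat_lit 120), ⟨[nat_lit 37, nat_lit 54], [nat_lit 26, nat_lit 67], ⟨[nat_lit 0xbc5a4128e60b9882c28f04d32b2c75], [nat_lit 174080, nat_lit 169984, nat_lit 166144, nat_lit 161664, nat_lit 156224, nat_lit 152352, nat_lit 149568, nat_lit 144944, nat_lit 140760, nat_lit 137650, nat_lit 134078, nat_lit 1770, nat_lit 5072, nat_lit 9752, nat_lit 13936, nat_lit 22080, nat_lit 24704, nat_lit 30464, nat_lit 41156, nat_lit 37012, nat_lit 32913, nat_lit 28727, nat_lit 25613, nat_lit 20622, nat_lit 16416, nat_lit 12290, nat_lit 8320, nat_lit 4100, nat_lit 2]⟩⟩⟩,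
  ⟨[nat_lit 641, nat_lit 46, nat_lit 54], [], (nat_lit 121), ⟨[nat_lit 0, nat_lit 37, nat_lit 62], [nat_lit 0, nat_lit 78, nat_lit 49], ⟨[nat_lit 0x30193a26f5b290b8144e911e30b627], [nat_lit 175104, nat_lit 166656, nat_lit 162560, nat_lit 159040, nat_lit 152672, nat_lit 147776, nat_lit 144840, nat_lit 142296, nat_lit 137276, nat_lit 131223, nat_lit 344, nat_lit 6084, nat_lit 8880, nat_lit 13680, nat_lit 18272, nat_lit 20864, nat_lit 25216, nat_lit 30464, nat_lit 34304, nat_lit 41586, nat_lit 38045, nat_lit 32774, nat_lit 29205, nat_lit 24605, nat_lit 20497, nat_lit 16394, nat_lit 12310, nat_lit 8195]⟩⟩⟩]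
theorem s591 : Suf yT 2176 (ldrop wU 31) (apW dcM p590) (tgtN dcM p590.e) := Suf.seg (l := l591) (by decide +kernel) s592
def l590 : List AP := [⟨[nat_lit 661, nat_lit 171], [], (nat_lit 418), ⟨[nat_lit 0, nat_lit 19, nat_lit 67], [nat_lit 0, nat_lit 7, nat_lit 62], ⟨[nat_lit 0x80ed4300f38b02d411d7a956f12552], [nat_lit 168448, nat_lit 164096, nat_lit 160000, nat_lit 156800, nat_lit 152704, nat_lit 147680, nat_lit 144936, nat_lit 139720, nat_lit 136900, nat_lit 133456, nat_lit 5904, nat_lit 8912, nat_lit 13744, nat_lit 17088, nat_lit 24704, nat_lit 29440, nat_lit 33792, nat_lit 41857, nat_lit 38383, nat_lit 32932, nat_lit 28731, nat_lit 24638, nat_lit 20481, nat_lit 16393, nat_lit 12308, nat_lit 8195]⟩⟩⟩,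
  ⟨[nat_lit 172], [], (nat_lit 390), ⟨[nat_lit 38, nat_lit 90], [nat_lit 0, nat_lit 23, nat_lit 70], ⟨[nat_lit 0x8d5e66c2c70a6531a885bae82601c8], [nat_lit 173056, nat_lit 168448, nat_lit 165632, nat_lit 159872, nat_lit 158976, nat_lit 152800, nat_lit 147808, nat_lit 144800, nat_lit 140056, nat_lit 135634, nat_lit 131421, nat_lit 256, nat_lit 5768, nat_lit 9904, nat_lit 12976, nat_lit 18144, nat_lit 20864, nat_lit 25600, nat_lit 29952, nat_lit 41586, nat_lit 38203, nat_lit 32960, nat_lit 28768, nat_lit 24615, nat_lit 20551, nat_lit 16388, nat_lit 12807, nat_lit 8203, nat_lit 4104, nat_lit 4]⟩⟩⟩]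
theorem s590 : Suf yT 2176 (ldrop wU 19) (apW dcM p589) (tgtN dcM p589.e) := Suf.seg (l := l590) (by decide +kernel) s591
def l589 : List AP := [⟨[nat_lit 68, nat_lit 47, nat_lit 57, nat_lit 49], [], (nat_lit 120), ⟨[nat_lit 0, nat_lit 78, nat_lit 64], [nat_lit 87, nat_lit 46], ⟨[nat_lit 0x440b59508a70cc778a710ddb602d89], [nat_lit 173056, nat_lit 168960, nat_lit 155712, nat_lit 154528, nat_lit 149040, nat_lit 144496, nat_lit 139340, nat_lit 136646, nat_lit 132466, nat_lit 1478, nat_lit 4380, nat_lit 8928, nat_lit 13552, nat_lit 17984, nat_lit 20928, nat_lit 26112, nat_lit 29440, nat_lit 33280, nat_lit 41951, nat_lit 38255, nat_lit 33855, nat_lit 28951, nat_lit 24597, nat_lit 20485, nat_lit 16454, nat_lit 12291, nat_lit 8194, nat_lit 8]⟩⟩⟩,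
  ⟨[nat_lit 641, nat_lit 639, nat_lit 72, nat_lit 49], [], (nat_lit 120), ⟨[nat_lit 0, nat_lit 28, nat_lit 94], [nat_lit 17], ⟨[nat_lit 0x55917a5569848c7005cf1b44c99225], [nat_lit 174080, nat_lit 171008, nat_lit 164096, nat_lit 161920, nat_lit 158656, nat_lit 154304, nat_lit 149072, nat_lit 145296, nat_lit 140444, nat_lit 138484, nat_lit 134925, nat_lit 1634, nat_lit 4924, nat_lit 9272, nat_lit 12592, nat_lit 16896, nat_lit 22464, nat_lit 26368, nat_lit 29952, nat_lit 37888, nat_lit 41970, nat_lit 37295, nat_lit 33398, nat_lit 28685, nat_lit 24587, nat_lit 21013, nat_lit 16425, nat_lit 12326, nat_lit 8201, nat_lit 4112]⟩⟩⟩]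
theorem s589 : Suf yT 2176 (ldrop wU 7) (apW dcM p588) (tgtN dcM p588.e) := Suf.seg (l := l589) (by decide +kernel) s590
def l588 : List AP := [⟨[nat_lit 2, nat_lit 9, nat_lit 7, nat_lit 11, nat_lit 8, nat_lit 0], [], (nat_lit 26), ⟨[nat_lit 0, nat_lit 24, nat_lit 90], [nat_lit 0, nat_lit 41, nat_lit 69], ⟨[nat_lit 0x15ae9440130a8a773c6b91aad24594], [nat_lit 164096, nat_lit 160640, nat_lit 158720, nat_lit 152576, nat_lit 148912, nat_lit 143568, nat_lit 140480, nat_lit 137192, nat_lit 132309, nat_lit 460, nat_lit 4476, nat_lit 8440, nat_lit 13472, nat_lit 16416, nat_lit 20544, nat_lit 25088, nat_lit 29184, nat_lit 34304, nat_lit 41536, nat_lit 38165, nat_lit 33483, nat_lit 29037, nat_lit 24583, nat_lit 20506, nat_lit 16427, nat_lit 12322, nat_lit 8259, nat_lit 16]⟩⟩⟩,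
  ⟨[nat_lit 43, nat_lit 629, nat_lit 37, nat_lit 630, nat_lit 631, nat_lit 15], [], (nat_lit 90), ⟨[nat_lit 28, nat_lit 48], [nat_lit 18, nat_lit 61], ⟨[nat_lit 0x88e4d26333d4bb96cd822a161e51], [nat_lit 165632, nat_lit 160512, nat_lit 156864, nat_lit 154944, nat_lit 147968, nat_lit 143456, nat_lit 140640, nat_lit 136088, nat_lit 132489, nat_lit 1694, nat_lit 4412, nat_lit 9016, nat_lit 13440, nat_lit 18272, nat_lit 26496, nat_lit 29696, nat_lit 33792, nat_lit 41248, nat_lit 37265, nat_lit 33446, nat_lit 28773, nat_lit 24717, nat_lit 20492, nat_lit 16641, nat_lit 12326, nat_lit 8211, nat_lit 4104, nat_lit 4]⟩⟩⟩]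
theorem rU20 : Suf yT 2176 wU [yT.get 54] 0 := Suf.seg (l := l588) (by decide +kernel) s589

def p595 : AP := ⟨[], [], (nat_lit 66), ⟨[nat_lit 92], [nat_lit 84, nat_lit 63], ⟨[nat_lit 0x8cd81592d2b9530a89d47a868698e0], [nat_lit 173056, nat_lit 168448, nat_lit 165120, nat_lit 160000, nat_lit 155712, nat_lit 152064, nat_lit 149568, nat_lit 144656, nat_lit 139792, nat_lit 135712, nat_lit 132486, nat_lit 16, nat_lit 5276, nat_lit 9720, nat_lit 13312, nat_lit 16640, nat_lit 20544, nat_lit 29184, nat_lit 41783, nat_lit 38094, nat_lit 32880, nat_lit 29281, nat_lit 24864, nat_lit 20502, nat_lit 12421, nat_lit 8201, nat_lit 4097]⟩⟩⟩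
def p596 : AP := ⟨[nat_lit 130, nat_lit 136, nat_lit 137], [], (nat_lit 246), ⟨[nat_lit 21, nat_lit 47], [nat_lit 24, nat_lit 63], ⟨[nat_lit 0x44476a4c4b85540391866bdc5906e9], [nat_lit 173056, nat_lit 171520, nat_lit 165376, nat_lit 161408, nat_lit 159040, nat_lit 152224, nat_lit 148000, nat_lit 145912, nat_lit 142092, nat_lit 137964, nat_lit 133575, nat_lit 1928, nat_lit 5688, nat_lit 9664, nat_lit 13872, nat_lit 17824, nat_lit 21824, nat_lit 26368, nat_lit 33792, nat_lit 41399, nat_lit 37067, nat_lit 33976, nat_lit 28763, nat_lit 24758, nat_lit 20563, nat_lit 16417, nat_lit 12295, nat_lit 8193]⟩⟩⟩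
def p597 : AP := ⟨[nat_lit 31, nat_lit 28, nat_lit 21, nat_lit 27], [], (nat_lit 88), ⟨[nat_lit 75, nat_lit 54], [nat_lit 11, nat_lit 58], ⟨[nat_lit 0x959cd5de68ac40153ce22d0d02246c], [nat_lit 174080, nat_lit 165376, nat_lit 161408, nat_lit 159168, nat_lit 155616, nat_lit 151280, nat_lit 143536, nat_lit 142008, nat_lit 135820, nat_lit 134679, nat_lit 1354, nat_lit 4404, nat_lit 9456, nat_lit 12304, nat_lit 16448, nat_lit 20800, nat_lit 24832, nat_lit 33792, nat_lit 41275, nat_lit 37038, nat_lit 32943, nat_lit 29044, nat_lit 24603, nat_lit 20743, nat_lit 16395, nat_lit 12291, nat_lit 8450, nat_lit 4097]⟩⟩⟩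
def p598 : AP := ⟨[nat_lit 26, nat_lit 32, nat_lit 636, nat_lit 25], [], (nat_lit 88), ⟨[nat_lit 0, nat_lit 41, nat_lit 46], [nat_lit 18, nat_lit 63], ⟨[nat_lit 0x4a1c1bc16794c0cb3682aa8b1219e3], [nat_lit 173056, nat_lit 169472, nat_lit 164096, nat_lit 160768, nat_lit 158720, nat_lit 149136, nat_lit 145232, nat_lit 139412, nat_lit 135410, nat_lit 131138, nat_lit 1174, nat_lit 5992, nat_lit 9216, nat_lit 14192, nat_lit 16896, nat_lit 22336, nat_lit 25088, nat_lit 29184, nat_lit 33792, nat_lit 37888, nat_lit 41925, nat_lit 37298, nat_lit 33526, nat_lit 28736, nat_lit 24633, nat_lit 20547, nat_lit 16426, nat_lit 12322, nat_lit 8448, nat_lit 4128, nat_lit 64]⟩⟩⟩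
def p599 : AP := ⟨[nat_lit 23, nat_lit 31, nat_lit 31, nat_lit 635, nat_lit 24, nat_lit 22], [], (nat_lit 216), ⟨[nat_lit 0, nat_lit 32, nat_lit 69], [nat_lit 0, nat_lit 7, nat_lit 57], ⟨[nat_lit 0x604d6011d448a63bc6aa3960b7a24d], [nat_lit 173056, nat_lit 168448, nat_lit 165376, nat_lit 160000, nat_lit 155904, nat_lit 151808, nat_lit 151520, nat_lit 143424, nat_lit 141072, nat_lit 137092, nat_lit 131412, nat_lit 508, nat_lit 5080, nat_lit 8768, nat_lit 14192, nat_lit 20736, nat_lit 24832, nat_lit 29696, nat_lit 34304, nat_lit 37888, nat_lit 41104, nat_lit 37348, nat_lit 32871, nat_lit 29236, nat_lit 24736, nat_lit 20549, nat_lit 16386, nat_lit 8225, nat_lit 4112]⟩⟩⟩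
def p600 : AP := ⟨[nat_lit 30, nat_lit 30, nat_lit 638], [], (nat_lit 68), ⟨[nat_lit 8, nat_lit 67], [nat_lit 45, nat_lit 91], ⟨[nat_lit 0xb982f4c2d45486272d932a22768095], [nat_lit 169472, nat_lit 165632, nat_lit 160384, nat_lit 159232, nat_lit 152640, nat_lit 148848, nat_lit 144464, nat_lit 139604, nat_lit 135734, nat_lit 132280, nat_lit 1698, nat_lit 5808, nat_lit 8680, nat_lit 14192, nat_lit 17280, nat_lit 21376, nat_lit 25472, nat_lit 28928, nat_lit 34304, nat_lit 37888, nat_lit 41408, nat_lit 36891, nat_lit 32965, nat_lit 28736, nat_lit 24608, nat_lit 20568, nat_lit 16389, nat_lit 12327, nat_lit 8200, nat_lit 4101]⟩⟩⟩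
def l601 : List AP := [⟨[nat_lit 637, nat_lit 28, nat_lit 25, nat_lit 21], [], (nat_lit 1036), ⟨[nat_lit 28, nat_lit 66], [nat_lit 0, nat_lit 87, nat_lit 56], ⟨[nat_lit 0x2bac08a8c79a2b40c0696496f15da4], [nat_lit 174080, nat_lit 170496, nat_lit 166400, nat_lit 160512, nat_lit 157184, nat_lit 152288, nat_lit 150000, nat_lit 143688, nat_lit 141172, nat_lit 138168, nat_lit 133595, nat_lit 1794, nat_lit 5884, nat_lit 9608, nat_lit 13712, nat_lit 17472, nat_lit 21568, nat_lit 26368, nat_lit 37888, nat_lit 41809, nat_lit 37201, nat_lit 33514, nat_lit 29012, nat_lit 24747, nat_lit 20486, nat_lit 16642, nat_lit 12293, nat_lit 8203]⟩⟩⟩,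
  ⟨[nat_lit 39, nat_lit 16, nat_lit 36], [], (nat_lit 1032), ⟨[nat_lit 84, nat_lit 54], [nat_lit 71, nat_lit 92], ⟨[nat_lit 0xe817c08a41e2e2cd6c6a4d2b5c55], [nat_lit 173056, nat_lit 168960, nat_lit 164608, nat_lit 161024, nat_lit 158208, nat_lit 152352, nat_lit 147872, nat_lit 144024, nat_lit 139292, nat_lit 135406, nat_lit 132202, nat_lit 1698, nat_lit 4816, nat_lit 8256, nat_lit 13952, nat_lit 17088, nat_lit 21312, nat_lit 30208, nat_lit 33792, nat_lit 41942, nat_lit 38214, nat_lit 34040, nat_lit 29264, nat_lit 24625, nat_lit 20547, nat_lit 16418, nat_lit 12291, nat_lit 8195, nat_lit 4101]⟩⟩⟩]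
theorem s601 : Suf yT 2304 (ldrop wU 61) (apW dcM p600) (tgtN dcM p600.e) := Suf.fin' (l := l601) (by decide +kernel)
def l600 : List AP := [⟨[nat_lit 110, nat_lit 653, nat_lit 110], [], (nat_lit 254), ⟨[nat_lit 0, nat_lit 81], [nat_lit 0, nat_lit 17, nat_lit 69], ⟨[nat_lit 0x1c4aa355e46592ba4e0e448e20b6e0], [nat_lit 175104, nat_lit 169984, nat_lit 164096, nat_lit 163200, nat_lit 159168, nat_lit 155488, nat_lit 149392, nat_lit 145296, nat_lit 141280, nat_lit 137638, nat_lit 133182, nat_lit 2, nat_lit 4756, nat_lit 8680, nat_lit 13712, nat_lit 17024, nat_lit 21312, nat_lit 24832, nat_lit 30464, nat_lit 34304, nat_lit 37888, nat_lit 41633, nat_lit 37273, nat_lit 32877, nat_lit 29197, nat_lit 24860, nat_lit 20496, nat_lit 16397, nat_lit 12295, nat_lit 8201, nat_lit 8]⟩⟩⟩,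
  ⟨[nat_lit 109, nat_lit 135, nat_lit 109], [], (nat_lit 246), ⟨[nat_lit 0, nat_lit 2], [nat_lit 0, nat_lit 84, nat_lit 61], ⟨[nat_lit 0x3d26b0c60f03528bb8752caca23046], [nat_lit 173056, nat_lit 171008, nat_lit 165120, nat_lit 161536, nat_lit 156224, nat_lit 152032, nat_lit 147632, nat_lit 144880, nat_lit 139660, nat_lit 136756, nat_lit 131139, nat_lit 786, nat_lit 4408, nat_lit 8704, nat_lit 14192, nat_lit 17408, nat_lit 20672, nat_lit 25600, nat_lit 30208, nat_lit 33280, nat_lit 37888, nat_lit 41472, nat_lit 36928, nat_lit 32817, nat_lit 28691, nat_lit 25112, nat_lit 20482, nat_lit 16457, nat_lit 12352, nat_lit 8194, nat_lit 4100, nat_lit 16]⟩⟩⟩]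
theorem s600 : Suf yT 2304 (ldrop wU 49) (apW dcM p599) (tgtN dcM p599.e) := Suf.seg (l := l600) (by decide +kernel) s601
def l599 : List AP := [⟨[nat_lit 32, nat_lit 24, nat_lit 30, nat_lit 21, nat_lit 27], [], (nat_lit 247), ⟨[nat_lit 85, nat_lit 59], [nat_lit 0, nat_lit 49], ⟨[nat_lit 0x2d608a2a446012b1b8c714df16d837], [nat_lit 174080, nat_lit 170496, nat_lit 166912, nat_lit 159872, nat_lit 157568, nat_lit 152032, nat_lit 150816, nat_lit 145088, nat_lit 141060, nat_lit 139066, nat_lit 134042, nat_lit 1142, nat_lit 4964, nat_lit 9928, nat_lit 13712, nat_lit 16928, nat_lit 21248, nat_lit 24960, nat_lit 30464, nat_lit 33280, nat_lit 41908, nat_lit 36893, nat_lit 32964, nat_lit 28929, nat_lit 24744, nat_lit 20560, nat_lit 16397, nat_lit 12290, nat_lit 8194, nat_lit 4097, nat_lit 2]⟩⟩⟩,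
  ⟨[nat_lit 130, nat_lit 652, nat_lit 109], [], (nat_lit 246), ⟨[nat_lit 14, nat_lit 57], [nat_lit 73, nat_lit 89], ⟨[nat_lit 0x5c02520e28b1cccb804f9bab26d149], [nat_lit 168448, nat_lit 164352, nat_lit 161280, nat_lit 156800, nat_lit 151616, nat_lit 148384, nat_lit 146384, nat_lit 140956, nat_lit 135788, nat_lit 131923, nat_lit 724, nat_lit 5580, nat_lit 10128, nat_lit 13104, nat_lit 17184, nat_lit 22464, nat_lit 25472, nat_lit 28928, nat_lit 41084, nat_lit 36888, nat_lit 32928, nat_lit 29043, nat_lit 24715, nat_lit 20760, nat_lit 16392, nat_lit 12305, nat_lit 9216, nat_lit 4097, nat_lit 2]⟩⟩⟩]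
theorem s599 : Suf yT 2304 (ldrop wU 37) (apW dcM p598) (tgtN dcM p598.e) := Suf.seg (l := l599) (by decide +kernel) s600
def l598 : List AP := [⟨[nat_lit 27, nat_lit 635, nat_lit 22], [], (nat_lit 89), ⟨[nat_lit 79, nat_lit 53], [nat_lit 0, nat_lit 82, nat_lit 69], ⟨[nat_lit 0xd0823ddee85a6564868a99496c560], [nat_lit 175104, nat_lit 168448, nat_lit 164352, nat_lit 160000, nat_lit 157824, nat_lit 155328, nat_lit 150160, nat_lit 144832, nat_lit 143228, nat_lit 136668, nat_lit 133916, nat_lit 986, nat_lit 4568, nat_lit 9328, nat_lit 13712, nat_lit 18400, nat_lit 21760, nat_lit 24960, nat_lit 28928, nat_lit 33280, nat_lit 41479, nat_lit 38168, nat_lit 32775, nat_lit 28734, nat_lit 24579, nat_lit 20621, nat_lit 16393, nat_lit 8195, nat_lit 4100, nat_lit 2]⟩⟩⟩,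
  ⟨[nat_lit 30, nat_lit 635, nat_lit 636, nat_lit 21], [], (nat_lit 88), ⟨[nat_lit 29, nat_lit 47], [nat_lit 0, nat_lit 84, nat_lit 49], ⟨[nat_lit 0x65ecda55ee3c4b21a84884cc40ad20], [nat_lit 174080, nat_lit 170496, nat_lit 164864, nat_lit 162816, nat_lit 158208, nat_lit 154848, nat_lit 148784, nat_lit 144488, nat_lit 140136, nat_lit 138856, nat_lit 134174, nat_lit 1478, nat_lit 5856, nat_lit 9752, nat_lit 13264, nat_lit 18144, nat_lit 21312, nat_lit 26240, nat_lit 28928, nat_lit 33792, nat_lit 41940, nat_lit 38049, nat_lit 32941, nat_lit 28717, nat_lit 25092, nat_lit 20551, nat_lit 16397, nat_lit 12295, nat_lit 8195, nat_lit 4097, nat_lit 2]⟩⟩⟩]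
theorem s598 : Suf yT 2304 (ldrop wU 31) (apW dcM p597) (tgtN dcM p597.e) := Suf.seg (l := l598) (by decide +kernel) s599
def l597 : List AP := [⟨[nat_lit 23, nat_lit 31, nat_lit 31, nat_lit 635, nat_lit 24, nat_lit 22], [], (nat_lit 216), ⟨[nat_lit 31, nat_lit 56], [nat_lit 36, nat_lit 89], ⟨[nat_lit 0xa388941eac0c251100737a8b659aed], [nat_lit 174080, nat_lit 164608, nat_lit 161920, nat_lit 156160, nat_lit 152608, nat_lit 149824, nat_lit 146344, nat_lit 142564, nat_lit 138442, nat_lit 134510, nat_lit 1516, nat_lit 4328, nat_lit 9040, nat_lit 12960, nat_lit 18208, nat_lit 22464, nat_lit 25472, nat_lit 29696, nat_lit 37888, nat_lit 41692, nat_lit 37260, nat_lit 33468, nat_lit 28699, nat_lit 25601, nat_lit 20485, nat_lit 16398, nat_lit 12289, nat_lit 8209, nat_lit 4]⟩⟩⟩,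
  ⟨[nat_lit 652, nat_lit 137], [], (nat_lit 217), ⟨[nat_lit 71, nat_lit 55], [nat_lit 0, nat_lit 76, nat_lit 50], ⟨[nat_lit 0xa814c340870a1b4944b34bac21beeb], [nat_lit 173056, nat_lit 168960, nat_lit 161152, nat_lit 159168, nat_lit 152928, nat_lit 148528, nat_lit 144392, nat_lit 141196, nat_lit 135608, nat_lit 133061, nat_lit 1966, nat_lit 5016, nat_lit 10088, nat_lit 12352, nat_lit 17408, nat_lit 21120, nat_lit 25984, nat_lit 29184, nat_lit 34304, nat_lit 41820, nat_lit 38028, nat_lit 32801, nat_lit 29303, nat_lit 24625, nat_lit 20575, nat_lit 16461, nat_lit 8208, nat_lit 4097, nat_lit 2]⟩⟩⟩]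
theorem s597 : Suf yT 2304 (ldrop wU 19) (apW dcM p596) (tgtN dcM p596.e) := Suf.seg (l := l597) (by decide +kernel) s598
def l596 : List AP := [⟨[nat_lit 635, nat_lit 638, nat_lit 637, nat_lit 636, nat_lit 22], [], (nat_lit 216), ⟨[nat_lit 0, nat_lit 30, nat_lit 65], [nat_lit 80, nat_lit 47], ⟨[nat_lit 0xac0b49208a3cdac344201d9eb15dc9], [nat_lit 173056, nat_lit 167424, nat_lit 159872, nat_lit 156352, nat_lit 152384, nat_lit 148144, nat_lit 144232, nat_lit 139508, nat_lit 135964, nat_lit 131440, nat_lit 434, nat_lit 4720, nat_lit 9904, nat_lit 14096, nat_lit 18336, nat_lit 20736, nat_lit 30208, nat_lit 33792, nat_lit 41579, nat_lit 38363, nat_lit 33395, nat_lit 28760, nat_lit 24761, nat_lit 16394, nat_lit 12310, nat_lit 8195, nat_lit 4101, nat_lit 4]⟩⟩⟩,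
  ⟨[nat_lit 653, nat_lit 120, nat_lit 130], [], (nat_lit 254), ⟨[nat_lit 42], [nat_lit 39, nat_lit 54], ⟨[nat_lit 0x79eca2a2ac8012b149ae1de3499026], [nat_lit 173056, nat_lit 169472, nat_lit 166656, nat_lit 160896, nat_lit 156864, nat_lit 151648, nat_lit 149376, nat_lit 144416, nat_lit 140736, nat_lit 136508, nat_lit 132226, nat_lit 1614, nat_lit 4352, nat_lit 8520, nat_lit 13040, nat_lit 16416, nat_lit 20736, nat_lit 29184, nat_lit 33792, nat_lit 37888, nat_lit 41675, nat_lit 37349, nat_lit 32780, nat_lit 29285, nat_lit 24598, nat_lit 20501, nat_lit 16421, nat_lit 12549, nat_lit 8225, nat_lit 8]⟩⟩⟩]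
theorem s596 : Suf yT 2304 (ldrop wU 7) (apW dcM p595) (tgtN dcM p595.e) := Suf.seg (l := l596) (by decide +kernel) s597
def l595 : List AP := [⟨[nat_lit 627, nat_lit 4, nat_lit 627, nat_lit 1], [], (nat_lit 24), ⟨[nat_lit 84, nat_lit 50], [nat_lit 0, nat_lit 13, nat_lit 69], ⟨[nat_lit 0x120143a8969982f75d6c68cb0aa632], [nat_lit 175104, nat_lit 169984, nat_lit 167424, nat_lit 161280, nat_lit 155776, nat_lit 153536, nat_lit 151360, nat_lit 145376, nat_lit 141216, nat_lit 138766, nat_lit 133309, nat_lit 1810, nat_lit 6084, nat_lit 8296, nat_lit 14080, nat_lit 16800, nat_lit 25088, nat_lit 33280, nat_lit 41225, nat_lit 37297, nat_lit 33514, nat_lit 28673, nat_lit 24861, nat_lit 20481, nat_lit 16650, nat_lit 12547, nat_lit 8257, nat_lit 4100]⟩⟩⟩,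
  ⟨[nat_lit 7, nat_lit 0, nat_lit 2, nat_lit 6, nat_lit 4, nat_lit 1], [], (nat_lit 40), ⟨[nat_lit 13, nat_lit 92], [nat_lit 42, nat_lit 52], ⟨[nat_lit 0x8cd81592d2b9530a89d47a868698e0], [nat_lit 168448, nat_lit 165120, nat_lit 160000, nat_lit 155712, nat_lit 152096, nat_lit 149568, nat_lit 144664, nat_lit 139796, nat_lit 135712, nat_lit 132487, nat_lit 16, nat_lit 5276, nat_lit 9720, nat_lit 13312, nat_lit 16640, nat_lit 20544, nat_lit 29184, nat_lit 41783, nat_lit 38094, nat_lit 32880, nat_lit 29281, nat_lit 24864, nat_lit 20502, nat_lit 12421, nat_lit 8201, nat_lit 4097]⟩⟩⟩]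
theorem rU21 : Suf yT 2304 wU [yT.get 55] 0 := Suf.seg (l := l595) (by decide +kernel) s596

def p602 : AP := ⟨[], [], (nat_lit 255), ⟨[nat_lit 0, nat_lit 43, nat_lit 92], [nat_lit 0, nat_lit 19, nat_lit 69], ⟨[nat_lit 0x4ccc56b24b3d02e7dc4440c11ada0a], [nat_lit 173056, nat_lit 169472, nat_lit 166400, nat_lit 161024, nat_lit 156544, nat_lit 155392, nat_lit 149776, nat_lit 146480, nat_lit 142144, nat_lit 137924, nat_lit 131740, nat_lit 1580, nat_lit 4476, nat_lit 9424, nat_lit 13120, nat_lit 17504, nat_lit 21696, nat_lit 25088, nat_lit 29952, nat_lit 34304, nat_lit 41226, nat_lit 36930, nat_lit 33010, nat_lit 28703, nat_lit 24596, nat_lit 20752, nat_lit 16454, nat_lit 12422, nat_lit 8195]⟩⟩⟩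
def p603 : AP := ⟨[nat_lit 636, nat_lit 638, nat_lit 27, nat_lit 28, nat_lit 635], [], (nat_lit 216), ⟨[nat_lit 0, nat_lit 75, nat_lit 68], [nat_lit 8, nat_lit 89], ⟨[nat_lit 0x6a4f01bdd49d8325205529ae022e2c], [nat_lit 175104, nat_lit 171008, nat_lit 166912, nat_lit 160768, nat_lit 159232, nat_lit 155424, nat_lit 149280, nat_lit 146656, nat_lit 139720, nat_lit 136332, nat_lit 133053, nat_lit 318, nat_lit 4568, nat_lit 8928, nat_lit 14192, nat_lit 16896, nat_lit 20544, nat_lit 25088, nat_lit 29696, nat_lit 33792, nat_lit 41496, nat_lit 37196, nat_lit 33305, nat_lit 28683, nat_lit 24632, nat_lit 20544, nat_lit 16399, nat_lit 8209, nat_lit 4100, nat_lit 16]⟩⟩⟩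
def p604 : AP := ⟨[nat_lit 32, nat_lit 22, nat_lit 23, nat_lit 27], [], (nat_lit 216), ⟨[nat_lit 0, nat_lit 44, nat_lit 57], [nat_lit 0, nat_lit 28, nat_lit 70], ⟨[nat_lit 0x8cd4d4bca7bad940390230ed2a8604], [nat_lit 175104, nat_lit 170496, nat_lit 167168, nat_lit 161280, nat_lit 159040, nat_lit 154368, nat_lit 147904, nat_lit 145520, nat_lit 140700, nat_lit 135364, nat_lit 131156, nat_lit 1778, nat_lit 4160, nat_lit 10008, nat_lit 14192, nat_lit 21760, nat_lit 30208, nat_lit 33792, nat_lit 37888, nat_lit 41568, nat_lit 37016, nat_lit 32884, nat_lit 29307, nat_lit 24621, nat_lit 20562, nat_lit 16392, nat_lit 12289, nat_lit 8225, nat_lit 4100, nat_lit 8]⟩⟩⟩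
def p605 : AP := ⟨[nat_lit 21, nat_lit 23, nat_lit 28, nat_lit 23], [], (nat_lit 88), ⟨[nat_lit 0, nat_lit 27, nat_lit 50], [nat_lit 76, nat_lit 59], ⟨[nat_lit 0x42c60a548684dee9362cb9cb652441], [nat_lit 175104, nat_lit 170496, nat_lit 164352, nat_lit 162432, nat_lit 159168, nat_lit 154464, nat_lit 147568, nat_lit 144432, nat_lit 139632, nat_lit 139196, nat_lit 134320, nat_lit 1760, nat_lit 4100, nat_lit 9664, nat_lit 12384, nat_lit 16864, nat_lit 21248, nat_lit 24960, nat_lit 29696, nat_lit 33280, nat_lit 41788, nat_lit 37899, nat_lit 33021, nat_lit 28743, nat_lit 24583, nat_lit 20486, nat_lit 16398, nat_lit 12310, nat_lit 8193, nat_lit 4097]⟩⟩⟩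
def p606 : AP := ⟨[], [], (nat_lit 217), ⟨[nat_lit 0, nat_lit 27, nat_lit 66], [nat_lit 16, nat_lit 66], ⟨[nat_lit 0x6a5e3bc4cc2900b98912506b6740f4], [nat_lit 173056, nat_lit 170496, nat_lit 165632, nat_lit 160768, nat_lit 157184, nat_lit 151584, nat_lit 148160, nat_lit 144904, nat_lit 140448, nat_lit 136540, nat_lit 132413, nat_lit 1214, nat_lit 5668, nat_lit 10224, nat_lit 12352, nat_lit 18272, nat_lit 20544, nat_lit 25088, nat_lit 30464, nat_lit 33280, nat_lit 37888, nat_lit 41974, nat_lit 34038, nat_lit 28717, nat_lit 24634, nat_lit 20562, nat_lit 16457, nat_lit 12324, nat_lit 8200, nat_lit 4112, nat_lit 2]⟩⟩⟩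
def p607 : AP := ⟨[nat_lit 132, nat_lit 117, nat_lit 130], [], (nat_lit 254), ⟨[nat_lit 0, nat_lit 13, nat_lit 56], [nat_lit 0, nat_lit 53], ⟨[nat_lit 0x4d4b00310b0bce490e2da09d799aca], [nat_lit 168960, nat_lit 166144, nat_lit 159872, nat_lit 157248, nat_lit 154272, nat_lit 150128, nat_lit 145584, nat_lit 141380, nat_lit 138380, nat_lit 132220, nat_lit 1580, nat_lit 5544, nat_lit 8336, nat_lit 13760, nat_lit 17280, nat_lit 21888, nat_lit 25600, nat_lit 30208, nat_lit 41746, nat_lit 37908, nat_lit 32967, nat_lit 28706, nat_lit 24628, nat_lit 20562, nat_lit 16399, nat_lit 12293, nat_lit 8194, nat_lit 4097]⟩⟩⟩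
def l608 : List AP := [⟨[], [], (nat_lit 217), ⟨[nat_lit 84, nat_lit 47], [nat_lit 0, nat_lit 84, nat_lit 55], ⟨[nat_lit 0x6d82f014f42416e8dc5348eaa448cc], [nat_lit 168448, nat_lit 164608, nat_lit 162688, nat_lit 156096, nat_lit 153536, nat_lit 147488, nat_lit 144584, nat_lit 140924, nat_lit 135534, nat_lit 132684, nat_lit 1580, nat_lit 5436, nat_lit 8536, nat_lit 13920, nat_lit 16864, nat_lit 20736, nat_lit 26112, nat_lit 29696, nat_lit 41448, nat_lit 37047, nat_lit 33903, nat_lit 28691, nat_lit 25608, nat_lit 20552, nat_lit 16512, nat_lit 12320, nat_lit 8451, nat_lit 4113, nat_lit 16]⟩⟩⟩,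
  ⟨[], [], (nat_lit 1034), ⟨[nat_lit 29, nat_lit 64], [nat_lit 0, nat_lit 73, nat_lit 54], ⟨[nat_lit 0x725809051379217895b439963156ca], [nat_lit 168960, nat_lit 165120, nat_lit 160384, nat_lit 156032, nat_lit 152800, nat_lit 148304, nat_lit 144024, nat_lit 140576, nat_lit 138582, nat_lit 131977, nat_lit 1808, nat_lit 5544, nat_lit 9304, nat_lit 13120, nat_lit 17472, nat_lit 21888, nat_lit 25984, nat_lit 30208, nat_lit 33280, nat_lit 41194, nat_lit 37354, nat_lit 32842, nat_lit 29234, nat_lit 24733, nat_lit 20507, nat_lit 16425, nat_lit 12325, nat_lit 8203, nat_lit 4097]⟩⟩⟩]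
theorem s608 : Suf yT 2560 (ldrop wU 61) (apW dcM p607) (tgtN dcM p607.e) := Suf.fin' (l := l608) (by decide +kernel)
def l607 : List AP := [⟨[nat_lit 635, nat_lit 24, nat_lit 23, nat_lit 29], [], (nat_lit 247), ⟨[nat_lit 3, nat_lit 92], [nat_lit 0, nat_lit 42, nat_lit 61], ⟨[nat_lit 0x1da988ec29d10b7114129af063e55], [nat_lit 173056, nat_lit 165376, nat_lit 160640, nat_lit 155840, nat_lit 153472, nat_lit 148560, nat_lit 146544, nat_lit 140964, nat_lit 136960, nat_lit 132630, nat_lit 1770, nat_lit 4412, nat_lit 10088, nat_lit 17568, nat_lit 22272, nat_lit 29696, nat_lit 40968, nat_lit 36879, nat_lit 33022, nat_lit 28715, nat_lit 24612, nat_lit 20566, nat_lit 16426, nat_lit 12290, nat_lit 8256, nat_lit 4104]⟩⟩⟩,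
  ⟨[nat_lit 116, nat_lit 130, nat_lit 110], [], (nat_lit 254), ⟨[nat_lit 0, nat_lit 2, nat_lit 90], [nat_lit 0, nat_lit 75, nat_lit 70], ⟨[nat_lit 0x812a914d9270d4b35e28784a703696], [nat_lit 173056, nat_lit 169984, nat_lit 165632, nat_lit 161024, nat_lit 159232, nat_lit 152800, nat_lit 147968, nat_lit 145952, nat_lit 143336, nat_lit 137900, nat_lit 135073, nat_lit 664, nat_lit 4340, nat_lit 9040, nat_lit 12976, nat_lit 18112, nat_lit 21440, nat_lit 25472, nat_lit 37888, nat_lit 41861, nat_lit 37916, nat_lit 32867, nat_lit 28771, nat_lit 24611, nat_lit 20562, nat_lit 12290, nat_lit 8194, nat_lit 4097, nat_lit 2]⟩⟩⟩]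
theorem s607 : Suf yT 2560 (ldrop wU 49) (apW dcM p606) (tgtN dcM p606.e) := Suf.seg (l := l607) (by decide +kernel) s608
def l606 : List AP := [⟨[nat_lit 23, nat_lit 22, nat_lit 637, nat_lit 32], [], (nat_lit 216), ⟨[nat_lit 0, nat_lit 86, nat_lit 49], [nat_lit 27, nat_lit 54], ⟨[nat_lit 0x73eed580f1ad994905259914344046], [nat_lit 164864, nat_lit 160256, nat_lit 156736, nat_lit 151584, nat_lit 147840, nat_lit 143504, nat_lit 140540, nat_lit 135652, nat_lit 133166, nat_lit 1024, nat_lit 4884, nat_lit 9640, nat_lit 12544, nat_lit 16640, nat_lit 21696, nat_lit 25088, nat_lit 29184, nat_lit 33280, nat_lit 41745, nat_lit 38299, nat_lit 33936, nat_lit 29039, nat_lit 24751, nat_lit 20618, nat_lit 17416, nat_lit 12304, nat_lit 8225, nat_lit 4225]⟩⟩⟩,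
  ⟨[nat_lit 651, nat_lit 653, nat_lit 109], [], (nat_lit 254), ⟨[nat_lit 5, nat_lit 65], [nat_lit 0, nat_lit 87, nat_lit 48], ⟨[nat_lit 0x4d2021caca604076c666b95d523d0b], [nat_lit 168960, nat_lit 165120, nat_lit 157504, nat_lit 152480, nat_lit 147792, nat_lit 144568, nat_lit 139620, nat_lit 136406, nat_lit 132852, nat_lit 1336, nat_lit 4824, nat_lit 10088, nat_lit 14192, nat_lit 16640, nat_lit 20672, nat_lit 26112, nat_lit 30208, nat_lit 33792, nat_lit 41600, nat_lit 38145, nat_lit 33409, nat_lit 29293, nat_lit 24735, nat_lit 20559, nat_lit 16431, nat_lit 12324, nat_lit 8224, nat_lit 4113, nat_lit 16]⟩⟩⟩]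
theorem s606 : Suf yT 2560 (ldrop wU 37) (apW dcM p605) (tgtN dcM p605.e) := Suf.seg (l := l606) (by decide +kernel) s607
def l605 : List AP := [⟨[nat_lit 652], [], (nat_lit 255), ⟨[nat_lit 0, nat_lit 35, nat_lit 69], [nat_lit 71, nat_lit 91], ⟨[nat_lit 0x49ac59c2aa63ae891de38848d1500b], [nat_lit 173056, nat_lit 164608, nat_lit 159872, nat_lit 158080, nat_lit 152512, nat_lit 147856, nat_lit 144896, nat_lit 141056, nat_lit 135434, nat_lit 132737, nat_lit 986, nat_lit 5016, nat_lit 8224, nat_lit 12704, nat_lit 16416, nat_lit 21952, nat_lit 24704, nat_lit 29952, nat_lit 33792, nat_lit 37888, nat_lit 41946, nat_lit 38115, nat_lit 33297, nat_lit 28720, nat_lit 24617, nat_lit 20553, nat_lit 16527, nat_lit 12307, nat_lit 8200, nat_lit 4097, nat_lit 2]⟩⟩⟩,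
  ⟨[], [], (nat_lit 246), ⟨[nat_lit 26, nat_lit 94], [nat_lit 25, nat_lit 89], ⟨[nat_lit 0x4ced23128863eea2c5c23860d1d40b], [nat_lit 173056, nat_lit 164608, nat_lit 160000, nat_lit 155712, nat_lit 152320, nat_lit 149744, nat_lit 145136, nat_lit 139572, nat_lit 135504, nat_lit 131094, nat_lit 986, nat_lit 5064, nat_lit 9408, nat_lit 12304, nat_lit 17696, nat_lit 21760, nat_lit 24832, nat_lit 29696, nat_lit 41674, nat_lit 38362, nat_lit 33012, nat_lit 28932, nat_lit 24704, nat_lit 20496, nat_lit 16399, nat_lit 8210, nat_lit 4097, nat_lit 2]⟩⟩⟩]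
theorem s605 : Suf yT 2560 (ldrop wU 31) (apW dcM p604) (tgtN dcM p604.e) := Suf.seg (l := l605) (by decide +kernel) s606
def l604 : List AP := [⟨[], [], (nat_lit 255), ⟨[nat_lit 0, nat_lit 4, nat_lit 93], [nat_lit 8, nat_lit 49], ⟨[nat_lit 0x4d10f1408b6d4a6bce2e6586009e4a], [nat_lit 173056, nat_lit 164864, nat_lit 161536, nat_lit 158208, nat_lit 151616, nat_lit 148208, nat_lit 143560, nat_lit 141108, nat_lit 136706, nat_lit 131915, nat_lit 1874, nat_lit 9096, nat_lit 14176, nat_lit 18176, nat_lit 21376, nat_lit 29696, nat_lit 33280, nat_lit 41675, nat_lit 38299, nat_lit 33356, nat_lit 28712, nat_lit 24634, nat_lit 20562, nat_lit 16387, nat_lit 12322, nat_lit 8193, nat_lit 4104]⟩⟩⟩,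
  ⟨[nat_lit 112, nat_lit 653, nat_lit 109], [], (nat_lit 246), ⟨[nat_lit 0, nat_lit 22, nat_lit 68], [nat_lit 7, nat_lit 63], ⟨[nat_lit 0x85589339a10150b1dae7a2a2f24e42], [nat_lit 175104, nat_lit 170496, nat_lit 166656, nat_lit 163584, nat_lit 156032, nat_lit 154368, nat_lit 150448, nat_lit 144600, nat_lit 142652, nat_lit 135944, nat_lit 132270, nat_lit 586, nat_lit 5572, nat_lit 8208, nat_lit 14192, nat_lit 18336, nat_lit 22400, nat_lit 25984, nat_lit 30464, nat_lit 33280, nat_lit 37888, nat_lit 41613, nat_lit 38090, nat_lit 32865, nat_lit 29737, nat_lit 24594, nat_lit 20486, nat_lit 16396, nat_lit 12304, nat_lit 8201, nat_lit 4128, nat_lit 4]⟩⟩⟩]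
theorem s604 : Suf yT 2560 (ldrop wU 19) (apW dcM p603) (tgtN dcM p603.e) := Suf.seg (l := l604) (by decide +kernel) s605
def l603 : List AP := [⟨[nat_lit 116, nat_lit 132, nat_lit 649], [], (nat_lit 246), ⟨[nat_lit 31, nat_lit 68], [nat_lit 44, nat_lit 91], ⟨[nat_lit 0x84549010a29c968ab28f09867bd9ae], [nat_lit 168960, nat_lit 165120, nat_lit 160768, nat_lit 156992, nat_lit 153440, nat_lit 149584, nat_lit 143376, nat_lit 140836, nat_lit 135868, nat_lit 132711, nat_lit 1624, nat_lit 5488, nat_lit 9928, nat_lit 13712, nat_lit 17632, nat_lit 21952, nat_lit 25344, nat_lit 29952, nat_lit 34304, nat_lit 37888, nat_lit 41776, nat_lit 38272, nat_lit 32808, nat_lit 28680, nat_lit 24588, nat_lit 20758, nat_lit 16399, nat_lit 12306, nat_lit 8200, nat_lit 4112, nat_lit 2]⟩⟩⟩,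
  ⟨[nat_lit 32, nat_lit 26, nat_lit 26, nat_lit 23], [], (nat_lit 88), ⟨[nat_lit 0, nat_lit 35, nat_lit 94], [nat_lit 28, nat_lit 61], ⟨[nat_lit 0x28e40a5a243cdae4b0577851582cca], [nat_lit 171008, nat_lit 164864, nat_lit 162944, nat_lit 156032, nat_lit 155584, nat_lit 150640, nat_lit 145528, nat_lit 140712, nat_lit 137214, nat_lit 133571, nat_lit 786, nat_lit 5544, nat_lit 9400, nat_lit 14064, nat_lit 16864, nat_lit 20864, nat_lit 25600, nat_lit 30208, nat_lit 33792, nat_lit 37888, nat_lit 41785, nat_lit 36867, nat_lit 32916, nat_lit 28951, nat_lit 24627, nat_lit 20571, nat_lit 16386, nat_lit 12323, nat_lit 8449, nat_lit 4097, nat_lit 2]⟩⟩⟩]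
theorem s603 : Suf yT 2560 (ldrop wU 7) (apW dcM p602) (tgtN dcM p602.e) := Suf.seg (l := l603) (by decide +kernel) s604
def l602 : List AP := [⟨[nat_lit 4, nat_lit 7, nat_lit 625, nat_lit 10, nat_lit 3, nat_lit 7], [], (nat_lit 40), ⟨[nat_lit 21, nat_lit 90], [nat_lit 0, nat_lit 16, nat_lit 66], ⟨[nat_lit 0x9d90082457690618c8ef628cba3aa5], [nat_lit 175104, nat_lit 168448, nat_lit 165888, nat_lit 163072, nat_lit 158272, nat_lit 151744, nat_lit 148704, nat_lit 145240, nat_lit 142076, nat_lit 137734, nat_lit 132231, nat_lit 1634, nat_lit 5444, nat_lit 10032, nat_lit 12672, nat_lit 17440, nat_lit 20608, nat_lit 25344, nat_lit 29696, nat_lit 37888, nat_lit 41683, nat_lit 37270, nat_lit 33002, nat_lit 28674, nat_lit 24625, nat_lit 20501, nat_lit 16425, nat_lit 12310, nat_lit 8194, nat_lit 4097, nat_lit 2]⟩⟩⟩,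
  ⟨[nat_lit 23, nat_lit 635, nat_lit 24, nat_lit 28, nat_lit 636], [], (nat_lit 216), ⟨[nat_lit 15, nat_lit 47], [nat_lit 0, nat_lit 36, nat_lit 46], ⟨[nat_lit 0x6a241996345a4958286e3dc02b19ec], [nat_lit 169472, nat_lit 165376, nat_lit 162048, nat_lit 156096, nat_lit 151776, nat_lit 147984, nat_lit 145016, nat_lit 141140, nat_lit 136980, nat_lit 131554, nat_lit 902, nat_lit 5716, nat_lit 9216, nat_lit 14304, nat_lit 17984, nat_lit 21504, nat_lit 25984, nat_lit 30464, nat_lit 33280, nat_lit 37888, nat_lit 41767, nat_lit 37248, nat_lit 33012, nat_lit 29031, nat_lit 24852, nat_lit 20566, nat_lit 16418, nat_lit 12291, nat_lit 8208, nat_lit 4105, nat_lit 8]⟩⟩⟩]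
theorem rU22 : Suf yT 2560 wU [yT.get 56] 0 := Suf.seg (l := l602) (by decide +kernel) s603

def p609 : AP := ⟨[nat_lit 72, nat_lit 66], [], (nat_lit 126), ⟨[nat_lit 23, nat_lit 68], [nat_lit 0, nat_lit 42, nat_lit 54], ⟨[nat_lit 0x4d8f53a87bb5058ad22b06b024866], [nat_lit 175104, nat_lit 170496, nat_lit 167168, nat_lit 162944, nat_lit 156736, nat_lit 154368, nat_lit 150944, nat_lit 144464, nat_lit 143240, nat_lit 135304, nat_lit 131085, nat_lit 158, nat_lit 4104, nat_lit 10160, nat_lit 14192, nat_lit 16448, nat_lit 22144, nat_lit 25600, nat_lit 29184, nat_lit 33792, nat_lit 41918, nat_lit 38170, nat_lit 32880, nat_lit 29277, nat_lit 24764, nat_lit 20613, nat_lit 16424, nat_lit 12320, nat_lit 5120, nat_lit 64]⟩⟩⟩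
def p610 : AP := ⟨[nat_lit 66, nat_lit 57, nat_lit 72, nat_lit 66, nat_lit 47], [], (nat_lit 1046), ⟨[nat_lit 8, nat_lit 65], [nat_lit 27, nat_lit 68], ⟨[nat_lit 0x71ca9aaecd43c4062a50998341de24], [nat_lit 169984, nat_lit 166912, nat_lit 162560, nat_lit 157888, nat_lit 152320, nat_lit 151024, nat_lit 146184, nat_lit 140696, nat_lit 138956, nat_lit 131792, nat_lit 1124, nat_lit 4568, nat_lit 9224, nat_lit 12800, nat_lit 16416, nat_lit 20992, nat_lit 26112, nat_lit 29952, nat_lit 33792, nat_lit 41474, nat_lit 38389, nat_lit 33461, nat_lit 28792, nat_lit 24755, nat_lit 20500, nat_lit 16422, nat_lit 12290, nat_lit 8227, nat_lit 4]⟩⟩⟩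
def p611 : AP := ⟨[nat_lit 32, nat_lit 32, nat_lit 638, nat_lit 24], [], (nat_lit 88), ⟨[nat_lit 12, nat_lit 68], [nat_lit 30, nat_lit 52], ⟨[nat_lit 0x81c2cac91155daf20e6e5d8a6a2440], [nat_lit 173056, nat_lit 168960, nat_lit 165120, nat_lit 160384, nat_lit 153504, nat_lit 149456, nat_lit 144136, nat_lit 140704, nat_lit 135860, nat_lit 132016, nat_lit 5568, nat_lit 13520, nat_lit 17312, nat_lit 25600, nat_lit 33792, nat_lit 37888, nat_lit 41577, nat_lit 38249, nat_lit 33300, nat_lit 25641, nat_lit 20494, nat_lit 16644, nat_lit 12326, nat_lit 8194, nat_lit 4100]⟩⟩⟩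
def p612 : AP := ⟨[nat_lit 214, nat_lit 217, nat_lit 170], [], (nat_lit 396), ⟨[nat_lit 0, nat_lit 6, nat_lit 93], [nat_lit 79, nat_lit 68], ⟨[nat_lit 0x80e2d65a81019c45096f41ef32caa9], [nat_lit 169984, nat_lit 164352, nat_lit 163712, nat_lit 156096, nat_lit 153632, nat_lit 149728, nat_lit 147240, nat_lit 140556, nat_lit 136340, nat_lit 133559, nat_lit 1918, nat_lit 5208, nat_lit 8600, nat_lit 12864, nat_lit 17696, nat_lit 21376, nat_lit 24832, nat_lit 33792, nat_lit 37888, nat_lit 41318, nat_lit 37287, nat_lit 33288, nat_lit 28788, nat_lit 24713, nat_lit 20561, nat_lit 16390, nat_lit 12323, nat_lit 8195]⟩⟩⟩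
def p613 : AP := ⟨[nat_lit 641, nat_lit 46, nat_lit 54], [], (nat_lit 121), ⟨[nat_lit 84, nat_lit 63], [nat_lit 0, nat_lit 74, nat_lit 67], ⟨[nat_lit 0xbb90b88d466504095a6d38609215f5], [nat_lit 165376, nat_lit 156864, nat_lit 151936, nat_lit 148032, nat_lit 145864, nat_lit 140404, nat_lit 135252, nat_lit 131444, nat_lit 1770, nat_lit 4780, nat_lit 8688, nat_lit 12304, nat_lit 18400, nat_lit 22336, nat_lit 25600, nat_lit 29696, nat_lit 37888, nat_lit 41974, nat_lit 36881, nat_lit 33813, nat_lit 28792, nat_lit 24704, nat_lit 20510, nat_lit 16428, nat_lit 8226, nat_lit 4112]⟩⟩⟩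
def p614 : AP := ⟨[nat_lit 55, nat_lit 49], [], (nat_lit 126), ⟨[nat_lit 0, nat_lit 81, nat_lit 50], [nat_lit 15], ⟨[nat_lit 0x192d0ac8268bd33a21d72b5475b002], [nat_lit 169472, nat_lit 164352, nat_lit 161024, nat_lit 157568, nat_lit 153376, nat_lit 148032, nat_lit 143696, nat_lit 140684, nat_lit 136786, nat_lit 132342, nat_lit 4, nat_lit 4408, nat_lit 13504, nat_lit 16832, nat_lit 21120, nat_lit 25600, nat_lit 29184, nat_lit 34304, nat_lit 37888, nat_lit 41897, nat_lit 38163, nat_lit 32817, nat_lit 29269, nat_lit 24751, nat_lit 20623, nat_lit 16642, nat_lit 12421, nat_lit 8194, nat_lit 4101, nat_lit 2]⟩⟩⟩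
def l615 : List AP := [⟨[nat_lit 68], [], (nat_lit 122), ⟨[nat_lit 0, nat_lit 33, nat_lit 46], [nat_lit 0, nat_lit 14], ⟨[nat_lit 0x3a47090088735f465af53062a14d65], [nat_lit 169472, nat_lit 160896, nat_lit 156992, nat_lit 151680, nat_lit 147920, nat_lit 143448, nat_lit 140104, nat_lit 136688, nat_lit 134826, nat_lit 128, nat_lit 4952, nat_lit 8464, nat_lit 13776, nat_lit 16768, nat_lit 20608, nat_lit 24832, nat_lit 29184, nat_lit 33280, nat_lit 41483, nat_lit 37137, nat_lit 33002, nat_lit 28673, nat_lit 24875, nat_lit 20747, nat_lit 16394, nat_lit 12311, nat_lit 8194, nat_lit 4097]⟩⟩⟩,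
  ⟨[nat_lit 39, nat_lit 36], [], (nat_lit 1032), ⟨[nat_lit 9, nat_lit 92], [nat_lit 18, nat_lit 94], ⟨[nat_lit 0xa052a882d3732e379d12a90468156d], [nat_lit 169472, nat_lit 164608, nat_lit 160768, nat_lit 157248, nat_lit 152544, nat_lit 148400, nat_lit 144248, nat_lit 141080, nat_lit 136606, nat_lit 134943, nat_lit 566, nat_lit 4952, nat_lit 8680, nat_lit 13440, nat_lit 16608, nat_lit 21760, nat_lit 25600, nat_lit 29696, nat_lit 33792, nat_lit 37888, nat_lit 41335, nat_lit 37080, nat_lit 34032, nat_lit 28779, nat_lit 24757, nat_lit 20609, nat_lit 16457, nat_lit 12325, nat_lit 8195, nat_lit 4100, nat_lit 2]⟩⟩⟩]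
theorem s615 : Suf yT 3072 (ldrop wU 61) (apW dcM p614) (tgtN dcM p614.e) := Suf.fin' (l := l615) (by decide +kernel)
def l614 : List AP := [⟨[nat_lit 49, nat_lit 641, nat_lit 49, nat_lit 71], [], (nat_lit 1046), ⟨[nat_lit 0, nat_lit 29, nat_lit 55], [nat_lit 0, nat_lit 75, nat_lit 63], ⟨[nat_lit 0x8ae44a5ce8515cdb4d81055f01a446], [nat_lit 174080, nat_lit 168960, nat_lit 164352, nat_lit 160512, nat_lit 158272, nat_lit 154944, nat_lit 150544, nat_lit 143568, nat_lit 142296, nat_lit 136986, nat_lit 134353, nat_lit 116, nat_lit 5568, nat_lit 9216, nat_lit 13312, nat_lit 16448, nat_lit 21248, nat_lit 24832, nat_lit 29952, nat_lit 33792, nat_lit 41750, nat_lit 36906, nat_lit 32963, nat_lit 28970, nat_lit 24744, nat_lit 20632, nat_lit 16416, nat_lit 12289, nat_lit 8195, nat_lit 4100]⟩⟩⟩,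
  ⟨[nat_lit 178, nat_lit 177], [], (nat_lit 396), ⟨[nat_lit 22, nat_lit 94], [nat_lit 0, nat_lit 18, nat_lit 93], ⟨[nat_lit 0x90d24a55f7b31cd020f0588d150665], [nat_lit 175104, nat_lit 169984, nat_lit 164864, nat_lit 163328, nat_lit 158080, nat_lit 155520, nat_lit 147792, nat_lit 143872, nat_lit 140300, nat_lit 138250, nat_lit 134336, nat_lit 1634, nat_lit 5164, nat_lit 9384, nat_lit 14144, nat_lit 16896, nat_lit 20800, nat_lit 25088, nat_lit 29696, nat_lit 37888, nat_lit 41517, nat_lit 37353, nat_lit 33320, nat_lit 28673, nat_lit 24891, nat_lit 20555, nat_lit 16416, nat_lit 12354, nat_lit 8195, nat_lit 4101]⟩⟩⟩]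
theorem s614 : Suf yT 3072 (ldrop wU 49) (apW dcM p613) (tgtN dcM p613.e) := Suf.seg (l := l614) (by decide +kernel) s615
def l613 : List AP := [⟨[nat_lit 57, nat_lit 51, nat_lit 641, nat_lit 56], [], (nat_lit 120), ⟨[nat_lit 85, nat_lit 66], [nat_lit 45, nat_lit 56], ⟨[nat_lit 0x7d91782d9198ea62c8544b4875002e], [nat_lit 173056, nat_lit 169984, nat_lit 166144, nat_lit 162432, nat_lit 158528, nat_lit 152224, nat_lit 150576, nat_lit 146960, nat_lit 139616, nat_lit 138400, nat_lit 131265, nat_lit 1972, nat_lit 6068, nat_lit 8352, nat_lit 13264, nat_lit 16608, nat_lit 21504, nat_lit 24960, nat_lit 29696, nat_lit 37888, nat_lit 41975, nat_lit 37316, nat_lit 33434, nat_lit 29258, nat_lit 24638, nat_lit 20511, nat_lit 16385, nat_lit 12293, nat_lit 8202, nat_lit 4101, nat_lit 4]⟩⟩⟩,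
  ⟨[nat_lit 68, nat_lit 641, nat_lit 51], [], (nat_lit 120), ⟨[nat_lit 34, nat_lit 66], [nat_lit 0, nat_lit 73, nat_lit 59], ⟨[nat_lit 0x3bd881c9d768a910048bad8aa9c126], [nat_lit 173056, nat_lit 168448, nat_lit 165120, nat_lit 160896, nat_lit 156032, nat_lit 151904, nat_lit 149248, nat_lit 144240, nat_lit 140344, nat_lit 136280, nat_lit 131749, nat_lit 1614, nat_lit 5572, nat_lit 8472, nat_lit 12960, nat_lit 16736, nat_lit 22464, nat_lit 24832, nat_lit 34304, nat_lit 41811, nat_lit 38239, nat_lit 32774, nat_lit 25652, nat_lit 20551, nat_lit 17414, nat_lit 12805, nat_lit 8209, nat_lit 8]⟩⟩⟩]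
theorem s613 : Suf yT 3072 (ldrop wU 37) (apW dcM p612) (tgtN dcM p612.e) := Suf.seg (l := l613) (by decide +kernel) s614
def l612 : List AP := [⟨[nat_lit 635, nat_lit 31, nat_lit 638, nat_lit 638, nat_lit 21, nat_lit 21], [], (nat_lit 338), ⟨[nat_lit 24, nat_lit 91], [nat_lit 9, nat_lit 56], ⟨[nat_lit 0x5d5573c4b0685c234a6403c6ca5928], [nat_lit 171520, nat_lit 164608, nat_lit 161024, nat_lit 156032, nat_lit 151712, nat_lit 147936, nat_lit 143864, nat_lit 139752, nat_lit 136196, nat_lit 132015, nat_lit 952, nat_lit 6084, nat_lit 9928, nat_lit 14032, nat_lit 18144, nat_lit 20736, nat_lit 25088, nat_lit 29696, nat_lit 33280, nat_lit 37888, nat_lit 41304, nat_lit 36992, nat_lit 33008, nat_lit 29000, nat_lit 20637, nat_lit 16514, nat_lit 12306, nat_lit 8224, nat_lit 4]⟩⟩⟩,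
  ⟨[], [], (nat_lit 393), ⟨[nat_lit 43, nat_lit 67], [nat_lit 29, nat_lit 91], ⟨[nat_lit 0xbba4049e96416301ac24628cd14df5], [nat_lit 175104, nat_lit 168448, nat_lit 164352, nat_lit 163712, nat_lit 157440, nat_lit 152224, nat_lit 150192, nat_lit 145968, nat_lit 143088, nat_lit 138838, nat_lit 135160, nat_lit 394, nat_lit 5900, nat_lit 9384, nat_lit 13360, nat_lit 18112, nat_lit 20672, nat_lit 25472, nat_lit 28928, nat_lit 37888, nat_lit 41060, nat_lit 37357, nat_lit 32989, nat_lit 28685, nat_lit 24602, nat_lit 21023, nat_lit 16390, nat_lit 12355, nat_lit 8210, nat_lit 4113, nat_lit 2]⟩⟩⟩]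
theorem s612 : Suf yT 3072 (ldrop wU 31) (apW dcM p611) (tgtN dcM p611.e) := Suf.seg (l := l612) (by decide +kernel) s613
def l611 : List AP := [⟨[nat_lit 661, nat_lit 171], [], (nat_lit 418), ⟨[nat_lit 44, nat_lit 51], [nat_lit 0, nat_lit 34, nat_lit 47], ⟨[nat_lit 0x830b10dd3338c0f43546259d55d052], [nat_lit 174080, nat_lit 168448, nat_lit 161408, nat_lit 158464, nat_lit 153984, nat_lit 151232, nat_lit 145256, nat_lit 141628, nat_lit 136510, nat_lit 134161, nat_lit 1140, nat_lit 5084, nat_lit 8224, nat_lit 12640, nat_lit 18336, nat_lit 20992, nat_lit 25984, nat_lit 29952, nat_lit 37888, nat_lit 41612, nat_lit 38359, nat_lit 33370, nat_lit 29753, nat_lit 24582, nat_lit 20628, nat_lit 16527, nat_lit 12309, nat_lit 8202, nat_lit 4104]⟩⟩⟩,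
  ⟨[nat_lit 216], [], (nat_lit 339), ⟨[nat_lit 75, nat_lit 50], [nat_lit 84, nat_lit 89], ⟨[nat_lit 0xa040b68a24b4a08ab92fb9d462b073], [nat_lit 165376, nat_lit 161664, nat_lit 157184, nat_lit 153280, nat_lit 148544, nat_lit 145272, nat_lit 141752, nat_lit 135342, nat_lit 132832, nat_lit 586, nat_lit 4404, nat_lit 8200, nat_lit 12416, nat_lit 17408, nat_lit 21056, nat_lit 25984, nat_lit 29696, nat_lit 33792, nat_lit 37888, nat_lit 41809, nat_lit 37004, nat_lit 32804, nat_lit 28757, nat_lit 24713, nat_lit 20490, nat_lit 16448, nat_lit 12292, nat_lit 8194, nat_lit 4100]⟩⟩⟩]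
theorem s611 : Suf yT 3072 (ldrop wU 19) (apW dcM p610) (tgtN dcM p610.e) := Suf.seg (l := l611) (by decide +kernel) s612
def l610 : List AP := [⟨[nat_lit 49, nat_lit 55, nat_lit 69], [], (nat_lit 1046), ⟨[nat_lit 83, nat_lit 70], [nat_lit 0, nat_lit 2, nat_lit 56], ⟨[nat_lit 0xb0aed3ae90281c49c5e1aa64650d88], [nat_lit 173056, nat_lit 170496, nat_lit 165888, nat_lit 162048, nat_lit 159680, nat_lit 151808, nat_lit 149904, nat_lit 145480, nat_lit 140284, nat_lit 138006, nat_lit 132548, nat_lit 1554, nat_lit 4404, nat_lit 8928, nat_lit 12544, nat_lit 18368, nat_lit 22464, nat_lit 24832, nat_lit 30208, nat_lit 33792, nat_lit 37888, nat_lit 41724, nat_lit 38162, nat_lit 32792, nat_lit 29280, nat_lit 24590, nat_lit 21003, nat_lit 16646, nat_lit 12295, nat_lit 8194, nat_lit 4100, nat_lit 8]⟩⟩⟩,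
  ⟨[nat_lit 219, nat_lit 180, nat_lit 171], [], (nat_lit 396), ⟨[nat_lit 0, nat_lit 29, nat_lit 52], [nat_lit 0, nat_lit 30, nat_lit 69], ⟨[nat_lit 0x982ad51ef65b1c478e3434112124a1], [nat_lit 175104, nat_lit 169472, nat_lit 164096, nat_lit 163328, nat_lit 152832, nat_lit 151184, nat_lit 146184, nat_lit 141376, nat_lit 137906, nat_lit 135132, nat_lit 1180, nat_lit 4224, nat_lit 9664, nat_lit 13600, nat_lit 17760, nat_lit 21440, nat_lit 25472, nat_lit 28928, nat_lit 37888, nat_lit 41795, nat_lit 37322, nat_lit 32995, nat_lit 28675, nat_lit 24837, nat_lit 20564, nat_lit 16417, nat_lit 12805, nat_lit 8193, nat_lit 4097]⟩⟩⟩]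
theorem s610 : Suf yT 3072 (ldrop wU 7) (apW dcM p609) (tgtN dcM p609.e) := Suf.seg (l := l610) (by decide +kernel) s611
def l609 : List AP := [⟨[nat_lit 11, nat_lit 4, nat_lit 11, nat_lit 6, nat_lit 626], [], (nat_lit 1030), ⟨[nat_lit 82, nat_lit 59], [nat_lit 80, nat_lit 68], ⟨[nat_lit 0x858c21c4b7ab288681413912e92df3], [nat_lit 170496, nat_lit 160768, nat_lit 157312, nat_lit 152224, nat_lit 149280, nat_lit 145128, nat_lit 140392, nat_lit 136418, nat_lit 131548, nat_lit 78, nat_lit 5296, nat_lit 8408, nat_lit 14176, nat_lit 18336, nat_lit 22464, nat_lit 26240, nat_lit 41200, nat_lit 36992, nat_lit 32786, nat_lit 29262, nat_lit 24741, nat_lit 20567, nat_lit 16416, nat_lit 12308, nat_lit 8210, nat_lit 4100]⟩⟩⟩,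
  ⟨[nat_lit 15, nat_lit 36, nat_lit 37, nat_lit 631, nat_lit 16, nat_lit 14], [], (nat_lit 90), ⟨[nat_lit 45, nat_lit 57], [nat_lit 0, nat_lit 19, nat_lit 47], ⟨[nat_lit 0x4095024cc3aa4ed0d2f1b2cae63e40], [nat_lit 171520, nat_lit 164096, nat_lit 161408, nat_lit 158592, nat_lit 152320, nat_lit 148016, nat_lit 147104, nat_lit 141712, nat_lit 138900, nat_lit 134182, nat_lit 4684, nat_lit 8408, nat_lit 13328, nat_lit 17248, nat_lit 22272, nat_lit 33280, nat_lit 37888, nat_lit 41789, nat_lit 38206, nat_lit 33854, nat_lit 28675, nat_lit 24635, nat_lit 20568, nat_lit 16399, nat_lit 12310, nat_lit 8208, nat_lit 4097, nat_lit 2]⟩⟩⟩]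
theorem rU23 : Suf yT 3072 wU [yT.get 57] 0 := Suf.seg (l := l609) (by decide +kernel) s610

def p616 : AP := ⟨[nat_lit 214, nat_lit 170, nat_lit 170], [], (nat_lit 396), ⟨[nat_lit 13, nat_lit 93], [nat_lit 0, nat_lit 1, nat_lit 94], ⟨[nat_lit 0x209574a24e1d16585aaf9b0013c4cd], [nat_lit 173056, nat_lit 168448, nat_lit 166400, nat_lit 160384, nat_lit 156416, nat_lit 152160, nat_lit 148672, nat_lit 144016, nat_lit 139944, nat_lit 136596, nat_lit 132450, nat_lit 236, nat_lit 4208, nat_lit 9648, nat_lit 12432, nat_lit 16736, nat_lit 20544, nat_lit 26496, nat_lit 29696, nat_lit 33280, nat_lit 41774, nat_lit 37120, nat_lit 32920, nat_lit 29013, nat_lit 24713, nat_lit 21511, nat_lit 16386, nat_lit 12322, nat_lit 8256, nat_lit 4105]⟩⟩⟩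
def p617 : AP := ⟨[nat_lit 53, nat_lit 73, nat_lit 52, nat_lit 50], [], (nat_lit 120), ⟨[nat_lit 0, nat_lit 21, nat_lit 49], [nat_lit 0, nat_lit 5, nat_lit 69], ⟨[nat_lit 0x4df515dd2594e6a34712250a606d0], [nat_lit 174080, nat_lit 168960, nat_lit 164864, nat_lit 160512, nat_lit 158464, nat_lit 155552, nat_lit 151504, nat_lit 144432, nat_lit 143064, nat_lit 135204, nat_lit 134896, nat_lit 1076, nat_lit 5772, nat_lit 9928, nat_lit 12816, nat_lit 18400, nat_lit 21760, nat_lit 29184, nat_lit 33280, nat_lit 37888, nat_lit 41979, nat_lit 36909, nat_lit 33978, nat_lit 29754, nat_lit 24577, nat_lit 20999, nat_lit 16394, nat_lit 12305, nat_lit 8195, nat_lit 4101]⟩⟩⟩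
def p618 : AP := ⟨[nat_lit 643, nat_lit 67], [], (nat_lit 1038), ⟨[nat_lit 0, nat_lit 35, nat_lit 54], [nat_lit 0, nat_lit 45, nat_lit 54], ⟨[nat_lit 0x4b4d5a3d0514ad75a8113cc838382c], [nat_lit 174080, nat_lit 171520, nat_lit 166656, nat_lit 161536, nat_lit 158272, nat_lit 153824, nat_lit 149024, nat_lit 146744, nat_lit 141304, nat_lit 135438, nat_lit 131457, nat_lit 2012, nat_lit 5992, nat_lit 8408, nat_lit 14112, nat_lit 18208, nat_lit 20928, nat_lit 24704, nat_lit 30208, nat_lit 33280, nat_lit 41971, nat_lit 37947, nat_lit 33280, nat_lit 28728, nat_lit 24584, nat_lit 20487, nat_lit 16520, nat_lit 32]⟩⟩⟩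
def p619 : AP := ⟨[nat_lit 50], [], (nat_lit 1046), ⟨[nat_lit 0, nat_lit 22, nat_lit 56], [nat_lit 75, nat_lit 54], ⟨[nat_lit 0x2486f8144e559684d2b79b00689c2d], [nat_lit 169472, nat_lit 165120, nat_lit 161920, nat_lit 157312, nat_lit 152896, nat_lit 149488, nat_lit 143792, nat_lit 140792, nat_lit 136684, nat_lit 132039, nat_lit 364, nat_lit 4224, nat_lit 8896, nat_lit 13664, nat_lit 16736, nat_lit 21824, nat_lit 25216, nat_lit 29696, nat_lit 33792, nat_lit 41662, nat_lit 38010, nat_lit 32921, nat_lit 28749, nat_lit 24729, nat_lit 21526, nat_lit 16452, nat_lit 12320, nat_lit 8259]⟩⟩⟩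
def p620 : AP := ⟨[nat_lit 53, nat_lit 51, nat_lit 642], [], (nat_lit 120), ⟨[nat_lit 22, nat_lit 61], [nat_lit 0, nat_lit 13, nat_lit 67], ⟨[nat_lit 0xac9b021dd71a625b316aa09e104d06], [nat_lit 175104, nat_lit 169472, nat_lit 164608, nat_lit 162816, nat_lit 156224, nat_lit 152864, nat_lit 149792, nat_lit 145840, nat_lit 141348, nat_lit 137760, nat_lit 135039, nat_lit 158, nat_lit 4508, nat_lit 9032, nat_lit 14128, nat_lit 18112, nat_lit 21184, nat_lit 25984, nat_lit 29184, nat_lit 33792, nat_lit 41981, nat_lit 36941, nat_lit 32836, nat_lit 28697, nat_lit 24842, nat_lit 21532, nat_lit 16391, nat_lit 12356, nat_lit 8211, nat_lit 4105]⟩⟩⟩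
def p621 : AP := ⟨[nat_lit 180, nat_lit 178], [], (nat_lit 419), ⟨[nat_lit 27, nat_lit 60], [nat_lit 0, nat_lit 85, nat_lit 66], ⟨[nat_lit 0x3b1708b48905e532983655103ab84f], [nat_lit 173056, nat_lit 169472, nat_lit 165888, nat_lit 162560, nat_lit 158784, nat_lit 153984, nat_lit 147568, nat_lit 147080, nat_lit 141684, nat_lit 136036, nat_lit 134520, nat_lit 1668, nat_lit 4192, nat_lit 8408, nat_lit 12432, nat_lit 16576, nat_lit 22336, nat_lit 25216, nat_lit 29440, nat_lit 41753, nat_lit 37289, nat_lit 32860, nat_lit 28793, nat_lit 24599, nat_lit 20505, nat_lit 16424, nat_lit 12327, nat_lit 8193, nat_lit 4105]⟩⟩⟩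
def p622 : AP := ⟨[nat_lit 171], [], (nat_lit 390), ⟨[nat_lit 15, nat_lit 50], [nat_lit 22, nat_lit 69], ⟨[nat_lit 0x6c6d28110250cd30542e7a574b9587], [nat_lit 173056, nat_lit 168448, nat_lit 165120, nat_lit 160384, nat_lit 155840, nat_lit 152640, nat_lit 149600, nat_lit 144752, nat_lit 139636, nat_lit 136482, nat_lit 131369, nat_lit 1166, nat_lit 4396, nat_lit 8528, nat_lit 13408, nat_lit 16416, nat_lit 24832, nat_lit 29440, nat_lit 33792, nat_lit 41914, nat_lit 38026, nat_lit 33508, nat_lit 28694, nat_lit 24580, nat_lit 20496, nat_lit 13317, nat_lit 8203]⟩⟩⟩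
def l623 : List AP := [⟨[], [], (nat_lit 1034), ⟨[nat_lit 0, nat_lit 17, nat_lit 70], [nat_lit 43, nat_lit 54], ⟨[nat_lit 0xb0634501333985280d8d221f5596ee], [nat_lit 168448, nat_lit 160384, nat_lit 156416, nat_lit 152544, nat_lit 148800, nat_lit 144880, nat_lit 139992, nat_lit 135498, nat_lit 134744, nat_lit 1972, nat_lit 4120, nat_lit 10032, nat_lit 13744, nat_lit 16640, nat_lit 20608, nat_lit 25984, nat_lit 30208, nat_lit 33792, nat_lit 37888, nat_lit 41861, nat_lit 37211, nat_lit 33335, nat_lit 28765, nat_lit 24614, nat_lit 20485, nat_lit 16519, nat_lit 12309, nat_lit 8193, nat_lit 4105]⟩⟩⟩]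
theorem s623 : Suf yT 2048 (ldrop vU 66) (apW dcM p622) (tgtN dcM p622.e) := Suf.fin' (l := l623) (by decide +kernel)
def l622 : List AP := [⟨[nat_lit 213, nat_lit 174], [], (nat_lit 396), ⟨[nat_lit 0, nat_lit 13, nat_lit 93], [nat_lit 0, nat_lit 8, nat_lit 93], ⟨[nat_lit 0x21500ac4ed94d624dc347c2c650d8e], [nat_lit 173056, nat_lit 171520, nat_lit 164352, nat_lit 161024, nat_lit 156160, nat_lit 152736, nat_lit 149472, nat_lit 144912, nat_lit 139672, nat_lit 136116, nat_lit 132325, nat_lit 166, nat_lit 4924, nat_lit 10168, nat_lit 12800, nat_lit 17792, nat_lit 21760, nat_lit 25984, nat_lit 29184, nat_lit 34304, nat_lit 37888, nat_lit 41920, nat_lit 37049, nat_lit 32800, nat_lit 29210, nat_lit 24591, nat_lit 20632, nat_lit 16427, nat_lit 12293, nat_lit 8201, nat_lit 8]⟩⟩⟩,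
  ⟨[nat_lit 50], [], (nat_lit 1046), ⟨[nat_lit 31, nat_lit 94], [nat_lit 0, nat_lit 7], ⟨[nat_lit 0x21500ac4ed94d624dc347c2c650d8e], [nat_lit 171008, nat_lit 164352, nat_lit 161152, nat_lit 156224, nat_lit 152704, nat_lit 149488, nat_lit 144920, nat_lit 139672, nat_lit 136118, nat_lit 132324, nat_lit 166, nat_lit 4924, nat_lit 10168, nat_lit 12800, nat_lit 17792, nat_lit 21760, nat_lit 25984, nat_lit 29184, nat_lit 34304, nat_lit 37888, nat_lit 41920, nat_lit 37049, nat_lit 32800, nat_lit 29210, nat_lit 24591, nat_lit 20632, nat_lit 16427, nat_lit 12293, nat_lit 8201, nat_lit 8]⟩⟩⟩]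
theorem s622 : Suf yT 2048 (ldrop vU 60) (apW dcM p621) (tgtN dcM p621.e) := Suf.seg (l := l622) (by decide +kernel) s623
def l621 : List AP := [⟨[nat_lit 641, nat_lit 46, nat_lit 54], [], (nat_lit 121), ⟨[nat_lit 72, nat_lit 67], [nat_lit 0, nat_lit 8, nat_lit 52], ⟨[nat_lit 0x38d859dd468bc100a1a9151d691175], [nat_lit 175104, nat_lit 168960, nat_lit 164096, nat_lit 159872, nat_lit 159488, nat_lit 154144, nat_lit 150032, nat_lit 143680, nat_lit 143004, nat_lit 135496, nat_lit 135012, nat_lit 1336, nat_lit 4756, nat_lit 8536, nat_lit 14048, nat_lit 18304, nat_lit 20800, nat_lit 25728, nat_lit 30464, nat_lit 33280, nat_lit 37888, nat_lit 41589, nat_lit 38215, nat_lit 33525, nat_lit 28697, nat_lit 24850, nat_lit 20999, nat_lit 16388, nat_lit 12420, nat_lit 8193, nat_lit 4097, nat_lit 2]⟩⟩⟩,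
  ⟨[nat_lit 71, nat_lit 47, nat_lit 639, nat_lit 51, nat_lit 48], [], (nat_lit 1046), ⟨[nat_lit 15, nat_lit 59], [nat_lit 0, nat_lit 19, nat_lit 46], ⟨[nat_lit 0xbc50da58c00b08e4aca2929f584c67], [nat_lit 171520, nat_lit 165376, nat_lit 162688, nat_lit 156352, nat_lit 154208, nat_lit 150384, nat_lit 145416, nat_lit 140816, nat_lit 136216, nat_lit 133171, nat_lit 1174, nat_lit 5668, nat_lit 9384, nat_lit 12352, nat_lit 18112, nat_lit 20800, nat_lit 25856, nat_lit 30208, nat_lit 34304, nat_lit 37888, nat_lit 41318, nat_lit 37195, nat_lit 33452, nat_lit 28996, nat_lit 24632, nat_lit 20508, nat_lit 16390, nat_lit 12291, nat_lit 8208, nat_lit 4097, nat_lit 2]⟩⟩⟩]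
theorem s621 : Suf yT 2048 (ldrop vU 48) (apW dcM p620) (tgtN dcM p620.e) := Suf.seg (l := l621) (by decide +kernel) s622
def l620 : List AP := [⟨[nat_lit 213, nat_lit 661], [], (nat_lit 396), ⟨[nat_lit 0, nat_lit 87, nat_lit 63], [nat_lit 25, nat_lit 91], ⟨[nat_lit 0x121649964019dae306f6646aaa25f0], [nat_lit 173056, nat_lit 169472, nat_lit 162432, nat_lit 156224, nat_lit 153568, nat_lit 147696, nat_lit 145160, nat_lit 139268, nat_lit 135816, nat_lit 131595, nat_lit 1874, nat_lit 4780, nat_lit 8848, nat_lit 14144, nat_lit 16448, nat_lit 20544, nat_lit 24704, nat_lit 28928, nat_lit 33792, nat_lit 41856, nat_lit 37888, nat_lit 32791, nat_lit 29233, nat_lit 24623, nat_lit 20575, nat_lit 16417, nat_lit 12359, nat_lit 8257, nat_lit 4100, nat_lit 16]⟩⟩⟩,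
  ⟨[nat_lit 642, nat_lit 71, nat_lit 49, nat_lit 49], [], (nat_lit 120), ⟨[nat_lit 27, nat_lit 67], [nat_lit 0, nat_lit 43, nat_lit 51], ⟨[nat_lit 0x4475441563cae62896e7d26d0a584], [nat_lit 173056, nat_lit 168448, nat_lit 164608, nat_lit 160512, nat_lit 158272, nat_lit 151776, nat_lit 149040, nat_lit 145000, nat_lit 141100, nat_lit 136122, nat_lit 132105, nat_lit 508, nat_lit 4476, nat_lit 9664, nat_lit 13552, nat_lit 16448, nat_lit 22016, nat_lit 26240, nat_lit 28928, nat_lit 33280, nat_lit 37888, nat_lit 41952, nat_lit 37011, nat_lit 33012, nat_lit 28939, nat_lit 24581, nat_lit 20483, nat_lit 16385, nat_lit 12294, nat_lit 8200, nat_lit 16]⟩⟩⟩]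
theorem s620 : Suf yT 2048 (ldrop vU 36) (apW dcM p619) (tgtN dcM p619.e) := Suf.seg (l := l620) (by decide +kernel) s621
def l619 : List AP := [⟨[nat_lit 635, nat_lit 638, nat_lit 29, nat_lit 22, nat_lit 23], [], (nat_lit 391), ⟨[nat_lit 1, nat_lit 54], [nat_lit 0, nat_lit 18, nat_lit 68], ⟨[nat_lit 0x4693394575b8d2524367d5a364104], [nat_lit 169472, nat_lit 164352, nat_lit 163200, nat_lit 157056, nat_lit 152096, nat_lit 147648, nat_lit 143432, nat_lit 140680, nat_lit 136474, nat_lit 133019, nat_lit 606, nat_lit 4156, nat_lit 9808, nat_lit 12544, nat_lit 16640, nat_lit 21184, nat_lit 24704, nat_lit 29952, nat_lit 33792, nat_lit 41133, nat_lit 37204, nat_lit 32987, nat_lit 28767, nat_lit 24583, nat_lit 21532, nat_lit 16425, nat_lit 12306, nat_lit 8259, nat_lit 4104, nat_lit 32]⟩⟩⟩,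
  ⟨[nat_lit 177, nat_lit 173, nat_lit 170], [], (nat_lit 396), ⟨[nat_lit 0, nat_lit 12, nat_lit 47], [nat_lit 15, nat_lit 52], ⟨[nat_lit 0x2486f8144e559684d2b79b00689c2d], [nat_lit 168960, nat_lit 164864, nat_lit 161792, nat_lit 157376, nat_lit 152896, nat_lit 149488, nat_lit 143792, nat_lit 140792, nat_lit 136686, nat_lit 132039, nat_lit 364, nat_lit 4224, nat_lit 8896, nat_lit 13664, nat_lit 16736, nat_lit 21824, nat_lit 25216, nat_lit 29696, nat_lit 33792, nat_lit 41662, nat_lit 38010, nat_lit 32921, nat_lit 28749, nat_lit 24729, nat_lit 21526, nat_lit 16452, nat_lit 12320, nat_lit 8259]⟩⟩⟩]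
theorem s619 : Suf yT 2048 (ldrop vU 24) (apW dcM p618) (tgtN dcM p618.e) := Suf.seg (l := l619) (by decide +kernel) s620
def l618 : List AP := [⟨[nat_lit 47, nat_lit 70, nat_lit 53], [], (nat_lit 121), ⟨[nat_lit 84, nat_lit 48], [nat_lit 0, nat_lit 20, nat_lit 67], ⟨[nat_lit 0xbc8d49bda7b0d6c8a925200500a1d5], [nat_lit 175104, nat_lit 171520, nat_lit 165888, nat_lit 160128, nat_lit 157696, nat_lit 153728, nat_lit 149168, nat_lit 146624, nat_lit 139428, nat_lit 136800, nat_lit 131518, nat_lit 394, nat_lit 6068, nat_lit 9904, nat_lit 13920, nat_lit 18144, nat_lit 20736, nat_lit 25216, nat_lit 29440, nat_lit 33280, nat_lit 41063, nat_lit 37179, nat_lit 33459, nat_lit 28764, nat_lit 24753, nat_lit 20488, nat_lit 16516, nat_lit 12294, nat_lit 8202, nat_lit 4104]⟩⟩⟩,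
  ⟨[nat_lit 50], [], (nat_lit 120), ⟨[nat_lit 0, nat_lit 71, nat_lit 90], [nat_lit 0, nat_lit 27, nat_lit 68], ⟨[nat_lit 0xbc8d49bda7b0d6c8a925200500a1d5], [nat_lit 174080, nat_lit 171520, nat_lit 166144, nat_lit 160128, nat_lit 157696, nat_lit 153760, nat_lit 149168, nat_lit 146632, nat_lit 139424, nat_lit 136800, nat_lit 131519, nat_lit 394, nat_lit 6068, nat_lit 9904, nat_lit 13920, nat_lit 18144, nat_lit 20736, nat_lit 25216, nat_lit 29440, nat_lit 33280, nat_lit 41063, nat_lit 37179, nat_lit 33459, nat_lit 28764, nat_lit 24753, nat_lit 20488, nat_lit 16516, nat_lit 12294, nat_lit 8202, nat_lit 4104]⟩⟩⟩]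
theorem s618 : Suf yT 2048 (ldrop vU 18) (apW dcM p617) (tgtN dcM p617.e) := Suf.seg (l := l618) (by decide +kernel) s619
def l617 : List AP := [⟨[nat_lit 50], [], (nat_lit 1046), ⟨[nat_lit 0, nat_lit 44, nat_lit 65], [nat_lit 72, nat_lit 48], ⟨[nat_lit 0x209574a24e1d16585aaf9b0013c4cd], [nat_lit 173056, nat_lit 166400, nat_lit 160256, nat_lit 156480, nat_lit 152160, nat_lit 148672, nat_lit 144016, nat_lit 139948, nat_lit 136598, nat_lit 132450, nat_lit 236, nat_lit 4208, nat_lit 9648, nat_lit 12432, nat_lit 16736, nat_lit 20544, nat_lit 26496, nat_lit 29696, nat_lit 33280, nat_lit 41774, nat_lit 37120, nat_lit 32920, nat_lit 29013, nat_lit 24713, nat_lit 21511, nat_lit 16386, nat_lit 12322, nat_lit 8256, nat_lit 4105]⟩⟩⟩,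
  ⟨[nat_lit 174, nat_lit 659, nat_lit 170], [], (nat_lit 396), ⟨[nat_lit 9, nat_lit 60], [nat_lit 0, nat_lit 27, nat_lit 53], ⟨[nat_lit 0x602ae345e89ac8d29c37526c2a0e50], [nat_lit 171520, nat_lit 164608, nat_lit 160128, nat_lit 157568, nat_lit 152288, nat_lit 149056, nat_lit 144560, nat_lit 140544, nat_lit 135714, nat_lit 131337, nat_lit 760, nat_lit 5572, nat_lit 8200, nat_lit 12320, nat_lit 18336, nat_lit 20992, nat_lit 24832, nat_lit 30464, nat_lit 33280, nat_lit 37888, nat_lit 41474, nat_lit 37962, nat_lit 32901, nat_lit 28996, nat_lit 24705, nat_lit 20508, nat_lit 16416, nat_lit 12308, nat_lit 8208, nat_lit 5120, nat_lit 128]⟩⟩⟩]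
theorem s617 : Suf yT 2048 (ldrop vU 6) (apW dcM p616) (tgtN dcM p616.e) := Suf.seg (l := l617) (by decide +kernel) s618
def l616 : List AP := [⟨[nat_lit 628, nat_lit 624, nat_lit 626, nat_lit 8, nat_lit 3, nat_lit 8], [], (nat_lit 40), ⟨[nat_lit 71, nat_lit 51], [nat_lit 0, nat_lit 85, nat_lit 59], ⟨[nat_lit 0x64aa76812f22c6540611bd04a33ad3], [nat_lit 168448, nat_lit 161024, nat_lit 157632, nat_lit 152352, nat_lit 148064, nat_lit 143576, nat_lit 139388, nat_lit 136456, nat_lit 134997, nat_lit 1530, nat_lit 4340, nat_lit 9136, nat_lit 12976, nat_lit 17472, nat_lit 20800, nat_lit 24704, nat_lit 29184, nat_lit 41967, nat_lit 38354, nat_lit 34016, nat_lit 28731, nat_lit 25656, nat_lit 20609, nat_lit 16390, nat_lit 12295, nat_lit 8200, nat_lit 4101, nat_lit 4]⟩⟩⟩,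
  ⟨[nat_lit 29, nat_lit 634, nat_lit 27, nat_lit 28, nat_lit 30, nat_lit 22], [], (nat_lit 338), ⟨[nat_lit 0, nat_lit 11, nat_lit 46], [nat_lit 27, nat_lit 47], ⟨[nat_lit 0x75c2ba89aa3a608a46c57b0d304883], [nat_lit 173056, nat_lit 164608, nat_lit 161280, nat_lit 156096, nat_lit 152384, nat_lit 148720, nat_lit 144480, nat_lit 141328, nat_lit 135622, nat_lit 131615, nat_lit 8, nat_lit 4692, nat_lit 20544, nat_lit 25856, nat_lit 29696, nat_lit 37888, nat_lit 41774, nat_lit 38031, nat_lit 33317, nat_lit 28928, nat_lit 24587, nat_lit 21003, nat_lit 16391, nat_lit 12293, nat_lit 4113, nat_lit 8]⟩⟩⟩]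
theorem rU24 : Suf yT 2048 vU [yT.get 46] 0 := Suf.seg (l := l616) (by decide +kernel) s617

def p624 : AP := ⟨[nat_lit 25, nat_lit 638], [], (nat_lit 68), ⟨[nat_lit 0, nat_lit 82, nat_lit 60], [nat_lit 36, nat_lit 54], ⟨[nat_lit 0xbb1b39047525a06724e243c055aa34], [nat_lit 165120, nat_lit 161536, nat_lit 155968, nat_lit 153280, nat_lit 148816, nat_lit 145384, nat_lit 140488, nat_lit 137480, nat_lit 131748, nat_lit 1842, nat_lit 4608, nat_lit 9560, nat_lit 13264, nat_lit 16704, nat_lit 20992, nat_lit 26240, nat_lit 29184, nat_lit 33792, nat_lit 41850, nat_lit 37018, nat_lit 34036, nat_lit 28785, nat_lit 24738, nat_lit 20487, nat_lit 16449, nat_lit 8224, nat_lit 4]⟩⟩⟩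
def p625 : AP := ⟨[nat_lit 25, nat_lit 27, nat_lit 634, nat_lit 634, nat_lit 22], [], (nat_lit 118), ⟨[nat_lit 0, nat_lit 16, nat_lit 67], [nat_lit 0, nat_lit 87, nat_lit 62], ⟨[nat_lit 0x114d465da18a08e829e7b240bacc72], [nat_lit 175104, nat_lit 169472, nat_lit 165632, nat_lit 161536, nat_lit 159488, nat_lit 155168, nat_lit 149744, nat_lit 143408, nat_lit 141484, nat_lit 136162, nat_lit 134006, nat_lit 1140, nat_lit 5680, nat_lit 9384, nat_lit 17344, nat_lit 25984, nat_lit 33792, nat_lit 37888, nat_lit 41119, nat_lit 37336, nat_lit 32794, nat_lit 29252, nat_lit 24627, nat_lit 20481, nat_lit 16456, nat_lit 12294, nat_lit 8200, nat_lit 4101]⟩⟩⟩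
def p626 : AP := ⟨[], [], (nat_lit 245), ⟨[nat_lit 1, nat_lit 59], [nat_lit 23, nat_lit 68], ⟨[nat_lit 0x3d1a64a9968202495e6f88cab70815], [nat_lit 175104, nat_lit 171520, nat_lit 167680, nat_lit 160512, nat_lit 156224, nat_lit 152160, nat_lit 150512, nat_lit 143936, nat_lit 139680, nat_lit 138388, nat_lit 134549, nat_lit 1766, nat_lit 5904, nat_lit 9416, nat_lit 14192, nat_lit 16864, nat_lit 21952, nat_lit 25984, nat_lit 29696, nat_lit 34304, nat_lit 41813, nat_lit 38334, nat_lit 33013, nat_lit 28984, nat_lit 24586, nat_lit 20760, nat_lit 16391, nat_lit 12324, nat_lit 8210, nat_lit 4]⟩⟩⟩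
def p627 : AP := ⟨[nat_lit 23, nat_lit 31, nat_lit 25, nat_lit 31], [], (nat_lit 247), ⟨[nat_lit 0, nat_lit 71, nat_lit 68], [nat_lit 7], ⟨[nat_lit 0xa2aab299ccbd9091ca2184c0279da4], [nat_lit 174080, nat_lit 164608, nat_lit 160896, nat_lit 157568, nat_lit 153472, nat_lit 149296, nat_lit 145192, nat_lit 139348, nat_lit 136574, nat_lit 131933, nat_lit 508, nat_lit 5488, nat_lit 8208, nat_lit 13152, nat_lit 17408, nat_lit 22208, nat_lit 24960, nat_lit 30208, nat_lit 33792, nat_lit 41795, nat_lit 37092, nat_lit 32946, nat_lit 28685, nat_lit 24638, nat_lit 20564, nat_lit 16388, nat_lit 8211, nat_lit 4100, nat_lit 2]⟩⟩⟩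
def p628 : AP := ⟨[nat_lit 637, nat_lit 28, nat_lit 25, nat_lit 21], [], (nat_lit 1036), ⟨[nat_lit 0, nat_lit 79, nat_lit 70], [nat_lit 0, nat_lit 75, nat_lit 47], ⟨[nat_lit 0x356cc00da555e213cdd2151107a564], [nat_lit 173056, nat_lit 168960, nat_lit 164096, nat_lit 160640, nat_lit 155968, nat_lit 151968, nat_lit 148416, nat_lit 147144, nat_lit 141088, nat_lit 136364, nat_lit 132559, nat_lit 508, nat_lit 5072, nat_lit 9752, nat_lit 14112, nat_lit 17568, nat_lit 22336, nat_lit 24704, nat_lit 28928, nat_lit 41736, nat_lit 37017, nat_lit 33000, nat_lit 28776, nat_lit 24616, nat_lit 20510, nat_lit 16422, nat_lit 12304, nat_lit 8194, nat_lit 512]⟩⟩⟩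
def l629 : List AP := [⟨[nat_lit 633, nat_lit 40, nat_lit 36], [], (nat_lit 1032), ⟨[nat_lit 27], [nat_lit 0, nat_lit 79, nat_lit 69], ⟨[nat_lit 0x24615638b653433419377c80b1d0e2], [nat_lit 175104, nat_lit 170496, nat_lit 166912, nat_lit 162688, nat_lit 157504, nat_lit 155584, nat_lit 149888, nat_lit 144624, nat_lit 141952, nat_lit 135344, nat_lit 132099, nat_lit 1178, nat_lit 5084, nat_lit 10128, nat_lit 12320, nat_lit 18336, nat_lit 22400, nat_lit 25984, nat_lit 29184, nat_lit 33280, nat_lit 41892, nat_lit 38016, nat_lit 32823, nat_lit 28755, nat_lit 24619, nat_lit 20566, nat_lit 16386, nat_lit 12292, nat_lit 4113, nat_lit 2]⟩⟩⟩]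
theorem s629 : Suf yT 4096 (ldrop wQ 37) (apW dcM p628) (tgtN dcM p628.e) := Suf.fin' (l := l629) (by decide +kernel)
def l628 : List AP := [⟨[], [], (nat_lit 246), ⟨[nat_lit 34, nat_lit 46], [nat_lit 0, nat_lit 4, nat_lit 70], ⟨[nat_lit 0xa5ea9289d05590b90c8f64c060b4f1], [nat_lit 169472, nat_lit 160000, nat_lit 157248, nat_lit 152576, nat_lit 149392, nat_lit 143872, nat_lit 142892, nat_lit 135422, nat_lit 132655, nat_lit 1694, nat_lit 5488, nat_lit 8704, nat_lit 13456, nat_lit 18080, nat_lit 22080, nat_lit 25088, nat_lit 29440, nat_lit 33792, nat_lit 41525, nat_lit 38181, nat_lit 32860, nat_lit 28763, nat_lit 24580, nat_lit 21511, nat_lit 16422, nat_lit 12421, nat_lit 8195, nat_lit 4100, nat_lit 2]⟩⟩⟩,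
  ⟨[nat_lit 634, nat_lit 29, nat_lit 24], [], (nat_lit 68), ⟨[nat_lit 26, nat_lit 48], [nat_lit 0, nat_lit 87, nat_lit 54], ⟨[nat_lit 0xb0c257b0978012ea28c868a4b3ce35], [nat_lit 173056, nat_lit 168960, nat_lit 166912, nat_lit 160256, nat_lit 156928, nat_lit 154720, nat_lit 151120, nat_lit 147304, nat_lit 142848, nat_lit 138068, nat_lit 131694, nat_lit 2012, nat_lit 4924, nat_lit 9384, nat_lit 12432, nat_lit 18112, nat_lit 21824, nat_lit 26112, nat_lit 33280, nat_lit 41918, nat_lit 37074, nat_lit 32770, nat_lit 29264, nat_lit 25129, nat_lit 20569, nat_lit 16396, nat_lit 12305, nat_lit 8193]⟩⟩⟩]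
theorem s628 : Suf yT 4096 (ldrop wQ 29) (apW dcM p627) (tgtN dcM p627.e) := Suf.seg (l := l628) (by decide +kernel) s629
def l627 : List AP := [⟨[nat_lit 55, nat_lit 70], [], (nat_lit 128), ⟨[nat_lit 0, nat_lit 22, nat_lit 70], [nat_lit 82, nat_lit 91], ⟨[nat_lit 0x4080725a8a81971bc9a19d46c73d25], [nat_lit 169984, nat_lit 164864, nat_lit 163200, nat_lit 156096, nat_lit 154560, nat_lit 149920, nat_lit 147040, nat_lit 141260, nat_lit 135756, nat_lit 133267, nat_lit 568, nat_lit 5444, nat_lit 8408, nat_lit 14304, nat_lit 17152, nat_lit 21312, nat_lit 30208, nat_lit 41926, nat_lit 37927, nat_lit 33374, nat_lit 28950, nat_lit 24630, nat_lit 20482, nat_lit 16395, nat_lit 12293, nat_lit 8200, nat_lit 4097]⟩⟩⟩,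
  ⟨[], [], (nat_lit 1040), ⟨[nat_lit 0, nat_lit 43, nat_lit 93], [nat_lit 17, nat_lit 50], ⟨[nat_lit 0x98b67baa283167bc813236291a154], [nat_lit 175104, nat_lit 170496, nat_lit 167168, nat_lit 162688, nat_lit 156288, nat_lit 154944, nat_lit 150112, nat_lit 144912, nat_lit 142928, nat_lit 137018, nat_lit 132721, nat_lit 1842, nat_lit 5604, nat_lit 9904, nat_lit 12544, nat_lit 18400, nat_lit 20736, nat_lit 33280, nat_lit 37888, nat_lit 41183, nat_lit 36917, nat_lit 32969, nat_lit 29005, nat_lit 24592, nat_lit 20507, nat_lit 16429, nat_lit 12292, nat_lit 4113, nat_lit 2]⟩⟩⟩]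
theorem s627 : Suf yT 4096 (ldrop wQ 23) (apW dcM p626) (tgtN dcM p626.e) := Suf.seg (l := l627) (by decide +kernel) s628
def l626 : List AP := [⟨[], [], (nat_lit 129), ⟨[nat_lit 0, nat_lit 18, nat_lit 90], [nat_lit 0, nat_lit 3, nat_lit 69], ⟨[nat_lit 0x5004535ea81be76824913b1aba05d2], [nat_lit 174080, nat_lit 169472, nat_lit 164352, nat_lit 161152, nat_lit 159296, nat_lit 154880, nat_lit 150496, nat_lit 144672, nat_lit 142900, nat_lit 135308, nat_lit 134964, nat_lit 1140, nat_lit 6068, nat_lit 10160, nat_lit 13296, nat_lit 17728, nat_lit 22208, nat_lit 25216, nat_lit 33280, nat_lit 41083, nat_lit 37218, nat_lit 33379, nat_lit 28712, nat_lit 25123, nat_lit 20617, nat_lit 17412, nat_lit 12310, nat_lit 8195, nat_lit 4100]⟩⟩⟩,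
  ⟨[nat_lit 53, nat_lit 48, nat_lit 51, nat_lit 47], [], (nat_lit 244), ⟨[nat_lit 0, nat_lit 32, nat_lit 58], [nat_lit 0, nat_lit 20, nat_lit 90], ⟨[nat_lit 0x3c1a44ad91a2026bcaaeb0caa78053], [nat_lit 173056, nat_lit 171008, nat_lit 166656, nat_lit 162304, nat_lit 158656, nat_lit 153216, nat_lit 151472, nat_lit 146216, nat_lit 140076, nat_lit 138384, nat_lit 132771, nat_lit 404, nat_lit 5084, nat_lit 9976, nat_lit 14192, nat_lit 16928, nat_lit 21376, nat_lit 25344, nat_lit 29696, nat_lit 37888, nat_lit 41942, nat_lit 37356, nat_lit 32914, nat_lit 28956, nat_lit 25122, nat_lit 20510, nat_lit 16427, nat_lit 12320, nat_lit 8201]⟩⟩⟩]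
theorem s626 : Suf yT 4096 (ldrop wQ 14) (apW dcM p625) (tgtN dcM p625.e) := Suf.seg (l := l626) (by decide +kernel) s627
def l625 : List AP := [⟨[nat_lit 24, nat_lit 28, nat_lit 637, nat_lit 31], [], (nat_lit 88), ⟨[nat_lit 4], [nat_lit 0, nat_lit 26, nat_lit 91], ⟨[nat_lit 0x2de02755340ade041d84b1a23549b3], [nat_lit 175104, nat_lit 171520, nat_lit 164608, nat_lit 162432, nat_lit 158528, nat_lit 155328, nat_lit 148176, nat_lit 144416, nat_lit 139580, nat_lit 138652, nat_lit 134709, nat_lit 590, nat_lit 5900, nat_lit 9384, nat_lit 12784, nat_lit 16864, nat_lit 21632, nat_lit 24960, nat_lit 30208, nat_lit 40965, nat_lit 37215, nat_lit 33450, nat_lit 29040, nat_lit 24848, nat_lit 20505, nat_lit 16397, nat_lit 12309, nat_lit 8193, nat_lit 4]⟩⟩⟩,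
  ⟨[], [], (nat_lit 89), ⟨[nat_lit 0, nat_lit 10, nat_lit 70], [nat_lit 0, nat_lit 34, nat_lit 61], ⟨[nat_lit 0x2860070d36bade23a26aa1a352364c], [nat_lit 173056, nat_lit 168960, nat_lit 161664, nat_lit 155840, nat_lit 152160, nat_lit 148272, nat_lit 145584, nat_lit 140036, nat_lit 136152, nat_lit 132006, nat_lit 210, nat_lit 4412, nat_lit 8680, nat_lit 12304, nat_lit 17952, nat_lit 22016, nat_lit 25344, nat_lit 30208, nat_lit 33792, nat_lit 41016, nat_lit 37330, nat_lit 33323, nat_lit 28993, nat_lit 24878, nat_lit 20511, nat_lit 16422, nat_lit 8224, nat_lit 4101, nat_lit 4]⟩⟩⟩]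
theorem s625 : Suf yT 4096 (ldrop wQ 6) (apW dcM p624) (tgtN dcM p624.e) := Suf.seg (l := l625) (by decide +kernel) s626
def l624 : List AP := [⟨[nat_lit 628, nat_lit 624, nat_lit 6, nat_lit 4, nat_lit 11, nat_lit 628], [], (nat_lit 26), ⟨[nat_lit 87, nat_lit 90], [nat_lit 0, nat_lit 28, nat_lit 65], ⟨[nat_lit 0x91921729768be752c048b9c8c68283], [nat_lit 174080, nat_lit 170496, nat_lit 166656, nat_lit 159872, nat_lit 157248, nat_lit 152288, nat_lit 150592, nat_lit 144384, nat_lit 140740, nat_lit 137808, nat_lit 133770, nat_lit 1818, nat_lit 5944, nat_lit 8680, nat_lit 12320, nat_lit 16576, nat_lit 22464, nat_lit 25088, nat_lit 29440, nat_lit 34304, nat_lit 41636, nat_lit 37323, nat_lit 33001, nat_lit 29008, nat_lit 24594, nat_lit 20499, nat_lit 16420, nat_lit 12294, nat_lit 8200, nat_lit 4101]⟩⟩⟩,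
  ⟨[nat_lit 42, nat_lit 36, nat_lit 38, nat_lit 39, nat_lit 16], [], (nat_lit 70), ⟨[nat_lit 0, nat_lit 39, nat_lit 60], [nat_lit 15, nat_lit 61], ⟨[nat_lit 0x2ad4105aa471c6f449978268d9c446], [nat_lit 169984, nat_lit 164864, nat_lit 163712, nat_lit 156864, nat_lit 155488, nat_lit 150256, nat_lit 146848, nat_lit 139288, nat_lit 136196, nat_lit 134154, nat_lit 1720, nat_lit 5360, nat_lit 8704, nat_lit 12992, nat_lit 16704, nat_lit 20864, nat_lit 25856, nat_lit 29952, nat_lit 33792, nat_lit 37888, nat_lit 41975, nat_lit 37354, nat_lit 33510, nat_lit 28705, nat_lit 24593, nat_lit 20499, nat_lit 16388, nat_lit 12546, nat_lit 8203, nat_lit 4105]⟩⟩⟩]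
theorem rQ0 : Suf yT 4096 wQ [yT.get 34] 0 := Suf.seg (l := l624) (by decide +kernel) s625

def p630 : AP := ⟨[nat_lit 25, nat_lit 638], [], (nat_lit 68), ⟨[nat_lit 45, nat_lit 59], [nat_lit 0, nat_lit 37, nat_lit 50], ⟨[nat_lit 0xa216d610b60dde3548469a4e08c1d5], [nat_lit 161280, nat_lit 157504, nat_lit 152960, nat_lit 151408, nat_lit 143680, nat_lit 139996, nat_lit 135614, nat_lit 133037, nat_lit 1778, nat_lit 4420, nat_lit 10224, nat_lit 13392, nat_lit 16448, nat_lit 21632, nat_lit 25088, nat_lit 28928, nat_lit 33792, nat_lit 37888, nat_lit 41938, nat_lit 37328, nat_lit 33408, nat_lit 28701, nat_lit 24639, nat_lit 20548, nat_lit 16391, nat_lit 12323, nat_lit 8211, nat_lit 4113]⟩⟩⟩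
def p631 : AP := ⟨[nat_lit 23, nat_lit 22, nat_lit 635, nat_lit 24, nat_lit 27, nat_lit 22], [], (nat_lit 118), ⟨[nat_lit 45, nat_lit 48], [nat_lit 0, nat_lit 30, nat_lit 59], ⟨[nat_lit 0x8066214e265d10a36499d54e8bd76], [nat_lit 173056, nat_lit 164352, nat_lit 162688, nat_lit 157440, nat_lit 153184, nat_lit 148160, nat_lit 143704, nat_lit 141084, nat_lit 136560, nat_lit 131763, nat_lit 568, nat_lit 4952, nat_lit 8408, nat_lit 13664, nat_lit 18336, nat_lit 20736, nat_lit 25472, nat_lit 29184, nat_lit 33792, nat_lit 37888, nat_lit 41731, nat_lit 37031, nat_lit 32838, nat_lit 28755, nat_lit 24719, nat_lit 20999, nat_lit 16448, nat_lit 12308, nat_lit 8208]⟩⟩⟩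
def p632 : AP := ⟨[], [], (nat_lit 245), ⟨[nat_lit 8, nat_lit 92], [nat_lit 1, nat_lit 55], ⟨[nat_lit 0x389840b6d55d26653d232dd108b812], [nat_lit 168960, nat_lit 167424, nat_lit 162560, nat_lit 157888, nat_lit 154240, nat_lit 149072, nat_lit 146632, nat_lit 142224, nat_lit 135598, nat_lit 133639, nat_lit 492, nat_lit 5856, nat_lit 10160, nat_lit 13392, nat_lit 16448, nat_lit 21632, nat_lit 25088, nat_lit 29184, nat_lit 33792, nat_lit 41416, nat_lit 36964, nat_lit 34001, nat_lit 29769, nat_lit 25130, nat_lit 21013, nat_lit 16416, nat_lit 12359, nat_lit 8193, nat_lit 4160]⟩⟩⟩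
def p633 : AP := ⟨[nat_lit 22, nat_lit 638, nat_lit 25], [], (nat_lit 88), ⟨[nat_lit 0, nat_lit 8, nat_lit 94], [nat_lit 0, nat_lit 79, nat_lit 46], ⟨[nat_lit 0x222c07c0c51cc2dbd592a28e25a5d1], [nat_lit 168960, nat_lit 165632, nat_lit 159872, nat_lit 158144, nat_lit 149328, nat_lit 144728, nat_lit 140488, nat_lit 135610, nat_lit 132253, nat_lit 512, nat_lit 4720, nat_lit 10224, nat_lit 12768, nat_lit 18336, nat_lit 21824, nat_lit 24704, nat_lit 29952, nat_lit 33792, nat_lit 37888, nat_lit 41955, nat_lit 37923, nat_lit 32960, nat_lit 29023, nat_lit 21506, nat_lit 16388, nat_lit 12290, nat_lit 8194, nat_lit 4100, nat_lit 32]⟩⟩⟩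
def p634 : AP := ⟨[nat_lit 23, nat_lit 24, nat_lit 24, nat_lit 21], [], (nat_lit 1036), ⟨[nat_lit 0, nat_lit 78, nat_lit 66], [nat_lit 0, nat_lit 6, nat_lit 50], ⟨[nat_lit 0x24a2f08da75c2a035dd614d5462125], [nat_lit 173056, nat_lit 169472, nat_lit 164864, nat_lit 160640, nat_lit 156032, nat_lit 152800, nat_lit 149136, nat_lit 146296, nat_lit 140640, nat_lit 131614, nat_lit 1054, nat_lit 5580, nat_lit 8712, nat_lit 13552, nat_lit 17600, nat_lit 22336, nat_lit 26496, nat_lit 28928, nat_lit 33792, nat_lit 37888, nat_lit 41577, nat_lit 38182, nat_lit 33388, nat_lit 28797, nat_lit 24633, nat_lit 16392, nat_lit 12290, nat_lit 8321, nat_lit 64]⟩⟩⟩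
def l635 : List AP := [⟨[nat_lit 631, nat_lit 43, nat_lit 36], [], (nat_lit 1032), ⟨[nat_lit 0, nat_lit 10, nat_lit 92], [nat_lit 28, nat_lit 93], ⟨[nat_lit 0x4549174c725a982824d73940d786d4], [nat_lit 173056, nat_lit 170496, nat_lit 164608, nat_lit 161408, nat_lit 158784, nat_lit 152544, nat_lit 148464, nat_lit 145912, nat_lit 142904, nat_lit 138318, nat_lit 134588, nat_lit 622, nat_lit 4340, nat_lit 8400, nat_lit 14144, nat_lit 18016, nat_lit 20992, nat_lit 26368, nat_lit 29440, nat_lit 33792, nat_lit 41377, nat_lit 36969, nat_lit 32830, nat_lit 28698, nat_lit 25096, nat_lit 20481, nat_lit 16524, nat_lit 12289, nat_lit 8195]⟩⟩⟩]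
theorem s635 : Suf yT 8192 (ldrop wQ 37) (apW dcM p634) (tgtN dcM p634.e) := Suf.fin' (l := l635) (by decide +kernel)
def l634 : List AP := [⟨[], [], (nat_lit 89), ⟨[nat_lit 26, nat_lit 46], [nat_lit 0, nat_lit 35, nat_lit 69], ⟨[nat_lit 0x20ecd788d444c20ade2b2a8f09392c], [nat_lit 169472, nat_lit 164864, nat_lit 160384, nat_lit 156928, nat_lit 151936, nat_lit 149344, nat_lit 144640, nat_lit 141696, nat_lit 136162, nat_lit 132779, nat_lit 210, nat_lit 5568, nat_lit 10160, nat_lit 13120, nat_lit 18400, nat_lit 29952, nat_lit 34304, nat_lit 37888, nat_lit 41621, nat_lit 38081, nat_lit 33006, nat_lit 29031, nat_lit 24628, nat_lit 20559, nat_lit 16388, nat_lit 12327, nat_lit 8200, nat_lit 32]⟩⟩⟩,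
  ⟨[nat_lit 22, nat_lit 24, nat_lit 25], [], (nat_lit 69), ⟨[nat_lit 84, nat_lit 50], [nat_lit 0, nat_lit 42, nat_lit 61], ⟨[nat_lit 0xaad03218146aa65bc0523a5f10b996], [nat_lit 175104, nat_lit 168960, nat_lit 164608, nat_lit 160384, nat_lit 157376, nat_lit 151712, nat_lit 147952, nat_lit 144744, nat_lit 139452, nat_lit 136402, nat_lit 131391, nat_lit 1720, nat_lit 5436, nat_lit 9136, nat_lit 12928, nat_lit 17952, nat_lit 21120, nat_lit 25984, nat_lit 30208, nat_lit 34304, nat_lit 37888, nat_lit 41434, nat_lit 36889, nat_lit 34010, nat_lit 28776, nat_lit 24712, nat_lit 20552, nat_lit 16905, nat_lit 12294]⟩⟩⟩]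
theorem s634 : Suf yT 8192 (ldrop wQ 29) (apW dcM p633) (tgtN dcM p633.e) := Suf.seg (l := l634) (by decide +kernel) s635
def l633 : List AP := [⟨[nat_lit 640, nat_lit 642], [], (nat_lit 129), ⟨[nat_lit 23, nat_lit 89], [nat_lit 18, nat_lit 68], ⟨[nat_lit 0x535c204e28a3204494c3aac37b1e4f], [nat_lit 173056, nat_lit 169984, nat_lit 164864, nat_lit 160768, nat_lit 159104, nat_lit 152864, nat_lit 149008, nat_lit 147368, nat_lit 141388, nat_lit 138820, nat_lit 133329, nat_lit 1318, nat_lit 6044, nat_lit 10096, nat_lit 14176, nat_lit 18112, nat_lit 20864, nat_lit 26496, nat_lit 30464, nat_lit 41215, nat_lit 36873, nat_lit 32865, nat_lit 28679, nat_lit 24872, nat_lit 20509, nat_lit 16390, nat_lit 12290, nat_lit 8210, nat_lit 4105]⟩⟩⟩,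
  ⟨[nat_lit 48, nat_lit 56, nat_lit 47], [], (nat_lit 1040), ⟨[nat_lit 0, nat_lit 32, nat_lit 64], [nat_lit 44, nat_lit 48], ⟨[nat_lit 0x1007284661624b7536a4a2cefb38c8], [nat_lit 169984, nat_lit 165632, nat_lit 160128, nat_lit 157504, nat_lit 153184, nat_lit 147536, nat_lit 145280, nat_lit 139628, nat_lit 136294, nat_lit 132791, nat_lit 952, nat_lit 5120, nat_lit 9648, nat_lit 13920, nat_lit 18304, nat_lit 22016, nat_lit 25600, nat_lit 30208, nat_lit 33280, nat_lit 37888, nat_lit 41530, nat_lit 36935, nat_lit 32912, nat_lit 28935, nat_lit 25093, nat_lit 21530, nat_lit 16527, nat_lit 12305, nat_lit 4160, nat_lit 8]⟩⟩⟩]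
theorem s633 : Suf yT 8192 (ldrop wQ 23) (apW dcM p632) (tgtN dcM p632.e) := Suf.seg (l := l633) (by decide +kernel) s634
def l632 : List AP := [⟨[], [], (nat_lit 129), ⟨[nat_lit 17, nat_lit 89], [nat_lit 0, nat_lit 6, nat_lit 69], ⟨[nat_lit 0x435c29822a35df02d64c0d13619167], [nat_lit 168448, nat_lit 164352, nat_lit 159872, nat_lit 157440, nat_lit 152512, nat_lit 147472, nat_lit 145048, nat_lit 140872, nat_lit 135760, nat_lit 133672, nat_lit 1860, nat_lit 5276, nat_lit 10064, nat_lit 12304, nat_lit 17376, nat_lit 21952, nat_lit 25728, nat_lit 29440, nat_lit 41813, nat_lit 38240, nat_lit 32983, nat_lit 28799, nat_lit 24590, nat_lit 20638, nat_lit 16519, nat_lit 12293, nat_lit 8193, nat_lit 4097, nat_lit 2]⟩⟩⟩,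
  ⟨[nat_lit 52, nat_lit 51, nat_lit 51, nat_lit 48], [], (nat_lit 244), ⟨[nat_lit 27, nat_lit 47], [nat_lit 0, nat_lit 26, nat_lit 53], ⟨[nat_lit 0x3ad860c2c5152647aa51add0d181c9], [nat_lit 173056, nat_lit 169472, nat_lit 164864, nat_lit 160384, nat_lit 158976, nat_lit 153568, nat_lit 149392, nat_lit 144688, nat_lit 139624, nat_lit 135170, nat_lit 131324, nat_lit 1478, nat_lit 4720, nat_lit 10224, nat_lit 12352, nat_lit 17984, nat_lit 20672, nat_lit 24704, nat_lit 28928, nat_lit 33280, nat_lit 37888, nat_lit 41603, nat_lit 37375, nat_lit 32960, nat_lit 28736, nat_lit 21023, nat_lit 16395, nat_lit 8195, nat_lit 4101, nat_lit 4]⟩⟩⟩]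
theorem s632 : Suf yT 8192 (ldrop wQ 14) (apW dcM p631) (tgtN dcM p631.e) := Suf.seg (l := l632) (by decide +kernel) s633
def l631 : List AP := [⟨[nat_lit 26, nat_lit 21, nat_lit 22, nat_lit 32], [], (nat_lit 247), ⟨[nat_lit 0, nat_lit 82, nat_lit 46], [nat_lit 0, nat_lit 2, nat_lit 57], ⟨[nat_lit 0x7da69701a62850b5325711eb484464], [nat_lit 164352, nat_lit 156928, nat_lit 151968, nat_lit 148944, nat_lit 143632, nat_lit 139572, nat_lit 136786, nat_lit 133524, nat_lit 16, nat_lit 5580, nat_lit 8504, nat_lit 12352, nat_lit 16416, nat_lit 20544, nat_lit 25600, nat_lit 30208, nat_lit 33792, nat_lit 37888, nat_lit 41266, nat_lit 37044, nat_lit 32780, nat_lit 29250, nat_lit 24625, nat_lit 20507, nat_lit 16385, nat_lit 12322, nat_lit 8323, nat_lit 4128]⟩⟩⟩,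
  ⟨[], [], (nat_lit 246), ⟨[nat_lit 82, nat_lit 46], [nat_lit 15, nat_lit 91], ⟨[nat_lit 0x7966b751a2b05096289031ea0b8e32], [nat_lit 164352, nat_lit 155904, nat_lit 154016, nat_lit 147888, nat_lit 143664, nat_lit 140660, nat_lit 136312, nat_lit 133011, nat_lit 1140, nat_lit 4568, nat_lit 9336, nat_lit 17504, nat_lit 20992, nat_lit 25344, nat_lit 41075, nat_lit 37081, nat_lit 32864, nat_lit 29230, nat_lit 24715, nat_lit 20482, nat_lit 16449, nat_lit 12308, nat_lit 8209, nat_lit 4128, nat_lit 8]⟩⟩⟩]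
theorem s631 : Suf yT 8192 (ldrop wQ 6) (apW dcM p630) (tgtN dcM p630.e) := Suf.seg (l := l631) (by decide +kernel) s632
def l630 : List AP := [⟨[nat_lit 9, nat_lit 3, nat_lit 5, nat_lit 2, nat_lit 0, nat_lit 1], [], (nat_lit 1030), ⟨[nat_lit 0, nat_lit 45, nat_lit 57], [nat_lit 26, nat_lit 58], ⟨[nat_lit 0x7c2206a12199aea152ce2b06792ea4], [nat_lit 173056, nat_lit 168960, nat_lit 167424, nat_lit 160512, nat_lit 155712, nat_lit 151872, nat_lit 147488, nat_lit 144856, nat_lit 139392, nat_lit 137006, nat_lit 131452, nat_lit 1778, nat_lit 5064, nat_lit 8824, nat_lit 13616, nat_lit 16640, nat_lit 22464, nat_lit 25472, nat_lit 29184, nat_lit 34304, nat_lit 37888, nat_lit 41470, nat_lit 37302, nat_lit 32828, nat_lit 29262, nat_lit 24706, nat_lit 20561, nat_lit 16389, nat_lit 12323, nat_lit 8211, nat_lit 4101, nat_lit 2]⟩⟩⟩,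
  ⟨[nat_lit 37, nat_lit 36, nat_lit 37, nat_lit 42], [], (nat_lit 70), ⟨[nat_lit 0, nat_lit 79, nat_lit 62], [nat_lit 20, nat_lit 90], ⟨[nat_lit 0x3426a5b9a7b1535882ef0c99410d04], [nat_lit 174080, nat_lit 171520, nat_lit 166144, nat_lit 163200, nat_lit 155712, nat_lit 154720, nat_lit 150624, nat_lit 144904, nat_lit 142724, nat_lit 136870, nat_lit 132791, nat_lit 1794, nat_lit 4156, nat_lit 10168, nat_lit 14224, nat_lit 18336, nat_lit 22144, nat_lit 25984, nat_lit 30464, nat_lit 34304, nat_lit 41916, nat_lit 38003, nat_lit 33451, nat_lit 28734, nat_lit 24893, nat_lit 20627, nat_lit 16396, nat_lit 12308, nat_lit 4224, nat_lit 32]⟩⟩⟩]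
theorem rQ1 : Suf yT 8192 wQ [yT.get 35] 0 := Suf.seg (l := l630) (by decide +kernel) s631

def p636 : AP := ⟨[nat_lit 25, nat_lit 638], [], (nat_lit 68), ⟨[nat_lit 21, nat_lit 56], [nat_lit 0, nat_lit 78, nat_lit 91], ⟨[nat_lit 0xbbdc0194d455828641248b4eb9c855], [nat_lit 165376, nat_lit 162816, nat_lit 156608, nat_lit 152256, nat_lit 148480, nat_lit 145016, nat_lit 139788, nat_lit 135436, nat_lit 132644, nat_lit 1634, nat_lit 5084, nat_lit 9256, nat_lit 13344, nat_lit 16768, nat_lit 26368, nat_lit 37888, nat_lit 41555, nat_lit 38099, nat_lit 32784, nat_lit 28757, nat_lit 24757, nat_lit 20567, nat_lit 16425, nat_lit 12307, nat_lit 8201, nat_lit 4112]⟩⟩⟩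
def p637 : AP := ⟨[nat_lit 32, nat_lit 28, nat_lit 32, nat_lit 29], [], (nat_lit 191), ⟨[nat_lit 0, nat_lit 36, nat_lit 66], [nat_lit 3, nat_lit 69], ⟨[nat_lit 0x84675b5e921ad86408af3a5c0205aa], [nat_lit 175104, nat_lit 169472, nat_lit 158912, nat_lit 155136, nat_lit 150336, nat_lit 145120, nat_lit 143172, nat_lit 135676, nat_lit 133445, nat_lit 1808, nat_lit 5884, nat_lit 9960, nat_lit 13712, nat_lit 18144, nat_lit 20928, nat_lit 25728, nat_lit 29440, nat_lit 33280, nat_lit 41431, nat_lit 36957, nat_lit 32805, nat_lit 29734, nat_lit 24716, nat_lit 20551, nat_lit 16422, nat_lit 12293, nat_lit 8202, nat_lit 4101, nat_lit 4]⟩⟩⟩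
def p638 : AP := ⟨[], [], (nat_lit 183), ⟨[nat_lit 13, nat_lit 54], [nat_lit 0, nat_lit 34, nat_lit 64], ⟨[nat_lit 0x5d5b230dee988f15321640524a00b7], [nat_lit 164608, nat_lit 161152, nat_lit 155776, nat_lit 152288, nat_lit 149264, nat_lit 147224, nat_lit 139776, nat_lit 135298, nat_lit 132419, nat_lit 1148, nat_lit 5444, nat_lit 9328, nat_lit 12320, nat_lit 16416, nat_lit 25472, nat_lit 33280, nat_lit 37888, nat_lit 41790, nat_lit 38366, nat_lit 33923, nat_lit 28714, nat_lit 24620, nat_lit 20488, nat_lit 16392, nat_lit 8193, nat_lit 4224]⟩⟩⟩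
def p639 : AP := ⟨[nat_lit 21, nat_lit 28, nat_lit 25, nat_lit 21], [], (nat_lit 88), ⟨[nat_lit 0, nat_lit 72, nat_lit 57], [nat_lit 0, nat_lit 87, nat_lit 56], ⟨[nat_lit 0x2da221dcd062001391eb9266e555b4], [nat_lit 175104, nat_lit 168448, nat_lit 164096, nat_lit 159872, nat_lit 158016, nat_lit 154176, nat_lit 150960, nat_lit 144568, nat_lit 142148, nat_lit 135856, nat_lit 134302, nat_lit 1108, nat_lit 5900, nat_lit 8712, nat_lit 13408, nat_lit 16864, nat_lit 22016, nat_lit 26112, nat_lit 33280, nat_lit 41611, nat_lit 36897, nat_lit 32895, nat_lit 28734, nat_lit 24609, nat_lit 20556, nat_lit 16397, nat_lit 12290, nat_lit 8211, nat_lit 4100]⟩⟩⟩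
def p640 : AP := ⟨[nat_lit 23, nat_lit 24, nat_lit 24, nat_lit 21], [], (nat_lit 1036), ⟨[nat_lit 11, nat_lit 55], [nat_lit 37, nat_lit 50], ⟨[nat_lit 0x2a15110e47726a125e7602df483586], [nat_lit 173056, nat_lit 169472, nat_lit 164096, nat_lit 160512, nat_lit 151584, nat_lit 148224, nat_lit 147384, nat_lit 140032, nat_lit 136808, nat_lit 131688, nat_lit 1516, nat_lit 4404, nat_lit 9280, nat_lit 12352, nat_lit 17184, nat_lit 21760, nat_lit 25600, nat_lit 29952, nat_lit 41638, nat_lit 38126, nat_lit 32893, nat_lit 29766, nat_lit 24591, nat_lit 20616, nat_lit 16645, nat_lit 8258, nat_lit 4]⟩⟩⟩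
def l641 : List AP := [⟨[nat_lit 629, nat_lit 38, nat_lit 36], [], (nat_lit 1032), ⟨[nat_lit 0, nat_lit 12, nat_lit 60], [nat_lit 0, nat_lit 12, nat_lit 51], ⟨[nat_lit 0x9312174d00536227ac70b9cc42d2d5], [nat_lit 173056, nat_lit 171008, nat_lit 164352, nat_lit 159040, nat_lit 153568, nat_lit 149024, nat_lit 145872, nat_lit 143312, nat_lit 138230, nat_lit 134777, nat_lit 1730, nat_lit 4340, nat_lit 9384, nat_lit 13520, nat_lit 16416, nat_lit 20608, nat_lit 26240, nat_lit 29696, nat_lit 33280, nat_lit 37888, nat_lit 41200, nat_lit 37285, nat_lit 33472, nat_lit 28709, nat_lit 24618, nat_lit 20491, nat_lit 16389, nat_lit 12326, nat_lit 8193, nat_lit 4]⟩⟩⟩]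
theorem s641 : Suf yT 16384 (ldrop wQ 37) (apW dcM p640) (tgtN dcM p640.e) := Suf.fin' (l := l641) (by decide +kernel)
def l640 : List AP := [⟨[], [], (nat_lit 89), ⟨[nat_lit 0, nat_lit 78, nat_lit 62], [nat_lit 0, nat_lit 88, nat_lit 70], ⟨[nat_lit 0x2b2211b8d2b200221e8a826775b6af], [nat_lit 174080, nat_lit 171520, nat_lit 166656, nat_lit 162944, nat_lit 157376, nat_lit 155296, nat_lit 150176, nat_lit 144008, nat_lit 142836, nat_lit 135372, nat_lit 133109, nat_lit 394, nat_lit 5900, nat_lit 8408, nat_lit 14064, nat_lit 17120, nat_lit 21760, nat_lit 26112, nat_lit 30208, nat_lit 33280, nat_lit 41638, nat_lit 38106, nat_lit 32789, nat_lit 28689, nat_lit 24636, nat_lit 20566, nat_lit 16451, nat_lit 12309, nat_lit 8195, nat_lit 4100, nat_lit 2]⟩⟩⟩,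
  ⟨[nat_lit 637, nat_lit 21, nat_lit 22], [], (nat_lit 69), ⟨[nat_lit 0, nat_lit 44, nat_lit 63], [nat_lit 0, nat_lit 84, nat_lit 67], ⟨[nat_lit 0xb39e83997413264ac1322b47150037], [nat_lit 175104, nat_lit 160000, nat_lit 155712, nat_lit 152352, nat_lit 148528, nat_lit 144656, nat_lit 140800, nat_lit 136820, nat_lit 131851, nat_lit 116, nat_lit 5120, nat_lit 9328, nat_lit 14096, nat_lit 17664, nat_lit 20736, nat_lit 24960, nat_lit 29696, nat_lit 41609, nat_lit 38339, nat_lit 33354, nat_lit 29713, nat_lit 25130, nat_lit 20544, nat_lit 16520, nat_lit 12423, nat_lit 8193]⟩⟩⟩]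
theorem s640 : Suf yT 16384 (ldrop wQ 29) (apW dcM p639) (tgtN dcM p639.e) := Suf.seg (l := l640) (by decide +kernel) s641
def l639 : List AP := [⟨[nat_lit 76, nat_lit 103], [], (nat_lit 198), ⟨[nat_lit 29, nat_lit 91], [nat_lit 34, nat_lit 68], ⟨[nat_lit 0x3148e6b1e712234506f0b2e63a8249], [nat_lit 173056, nat_lit 167424, nat_lit 161408, nat_lit 156608, nat_lit 154720, nat_lit 150624, nat_lit 146224, nat_lit 142472, nat_lit 138572, nat_lit 132272, nat_lit 1478, nat_lit 4412, nat_lit 10200, nat_lit 13552, nat_lit 17632, nat_lit 20544, nat_lit 25984, nat_lit 30464, nat_lit 33792, nat_lit 41036, nat_lit 37178, nat_lit 33528, nat_lit 28699, nat_lit 24619, nat_lit 20510, nat_lit 16394, nat_lit 12295, nat_lit 8202, nat_lit 4]⟩⟩⟩,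
  ⟨[], [], (nat_lit 177), ⟨[nat_lit 42], [nat_lit 0, nat_lit 80, nat_lit 69], ⟨[nat_lit 0x214ed639e6909340ceebb0d50ac500], [nat_lit 175104, nat_lit 169984, nat_lit 167168, nat_lit 163072, nat_lit 156736, nat_lit 155488, nat_lit 150192, nat_lit 143920, nat_lit 141380, nat_lit 136216, nat_lit 131482, nat_lit 1972, nat_lit 4180, nat_lit 9648, nat_lit 14160, nat_lit 16544, nat_lit 20544, nat_lit 25600, nat_lit 29696, nat_lit 33280, nat_lit 37888, nat_lit 41916, nat_lit 37020, nat_lit 32810, nat_lit 29259, nat_lit 24723, nat_lit 20743, nat_lit 16515, nat_lit 12322, nat_lit 4105]⟩⟩⟩]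
theorem s639 : Suf yT 16384 (ldrop wQ 23) (apW dcM p638) (tgtN dcM p638.e) := Suf.seg (l := l639) (by decide +kernel) s640
def l638 : List AP := [⟨[nat_lit 648, nat_lit 83], [], (nat_lit 199), ⟨[nat_lit 34, nat_lit 63], [nat_lit 0, nat_lit 11, nat_lit 47], ⟨[nat_lit 0x2bd80a0aa444db75cace1c0f10a4ca], [nat_lit 173056, nat_lit 164352, nat_lit 160128, nat_lit 157056, nat_lit 152160, nat_lit 147904, nat_lit 141376, nat_lit 135718, nat_lit 131095, nat_lit 1814, nat_lit 4548, nat_lit 9216, nat_lit 13888, nat_lit 17600, nat_lit 21824, nat_lit 24704, nat_lit 28928, nat_lit 34304, nat_lit 37888, nat_lit 41924, nat_lit 37361, nat_lit 33473, nat_lit 29244, nat_lit 24596, nat_lit 20743, nat_lit 16419, nat_lit 12423, nat_lit 8194, nat_lit 4100]⟩⟩⟩,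
  ⟨[nat_lit 645, nat_lit 77, nat_lit 103], [], (nat_lit 182), ⟨[nat_lit 0, nat_lit 72, nat_lit 60], [nat_lit 3, nat_lit 50], ⟨[nat_lit 0x5cdb1311e8a88f262af470523b1410], [nat_lit 168960, nat_lit 164096, nat_lit 159872, nat_lit 156224, nat_lit 152256, nat_lit 149792, nat_lit 143776, nat_lit 135296, nat_lit 131722, nat_lit 64, nat_lit 5508, nat_lit 9472, nat_lit 13024, nat_lit 17120, nat_lit 20672, nat_lit 24832, nat_lit 33280, nat_lit 37888, nat_lit 41654, nat_lit 38158, nat_lit 32976, nat_lit 28962, nat_lit 24706, nat_lit 20496, nat_lit 16392, nat_lit 12289, nat_lit 9218, nat_lit 4225, nat_lit 2]⟩⟩⟩]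
theorem s638 : Suf yT 16384 (ldrop wQ 14) (apW dcM p637) (tgtN dcM p637.e) := Suf.seg (l := l638) (by decide +kernel) s639
def l637 : List AP := [⟨[nat_lit 634, nat_lit 31, nat_lit 638, nat_lit 21], [], (nat_lit 88), ⟨[nat_lit 0, nat_lit 37, nat_lit 57], [nat_lit 0, nat_lit 36, nat_lit 92], ⟨[nat_lit 0x2216f75cb561c019c5a64c28292876], [nat_lit 175104, nat_lit 168960, nat_lit 164096, nat_lit 160512, nat_lit 158464, nat_lit 154368, nat_lit 151024, nat_lit 145088, nat_lit 142968, nat_lit 135738, nat_lit 134359, nat_lit 688, nat_lit 5544, nat_lit 9928, nat_lit 18208, nat_lit 22336, nat_lit 26240, nat_lit 28928, nat_lit 33792, nat_lit 37888, nat_lit 41933, nat_lit 37952, nat_lit 33408, nat_lit 28781, nat_lit 24598, nat_lit 20485, nat_lit 16455, nat_lit 12293, nat_lit 8194, nat_lit 4101, nat_lit 2]⟩⟩⟩,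
  ⟨[], [], (nat_lit 89), ⟨[nat_lit 0, nat_lit 7, nat_lit 61], [nat_lit 1, nat_lit 60], ⟨[nat_lit 0x23161708a941c0f8ced2ac29730d4d], [nat_lit 173056, nat_lit 164864, nat_lit 159872, nat_lit 156800, nat_lit 151776, nat_lit 147904, nat_lit 143680, nat_lit 142972, nat_lit 135624, nat_lit 132228, nat_lit 488, nat_lit 5884, nat_lit 8200, nat_lit 13312, nat_lit 16768, nat_lit 21312, nat_lit 24960, nat_lit 30208, nat_lit 34304, nat_lit 41420, nat_lit 37004, nat_lit 33984, nat_lit 28780, nat_lit 24630, nat_lit 20506, nat_lit 16393, nat_lit 12292, nat_lit 4097]⟩⟩⟩]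
theorem s637 : Suf yT 16384 (ldrop wQ 6) (apW dcM p636) (tgtN dcM p636.e) := Suf.seg (l := l637) (by decide +kernel) s638
def l636 : List AP := [⟨[nat_lit 1, nat_lit 6, nat_lit 0, nat_lit 626, nat_lit 626, nat_lit 11], [], (nat_lit 1030), ⟨[nat_lit 0, nat_lit 78, nat_lit 62], [nat_lit 84, nat_lit 64], ⟨[nat_lit 0x78537b1a9038c135915113115715b2], [nat_lit 175104, nat_lit 165376, nat_lit 160128, nat_lit 156992, nat_lit 148016, nat_lit 143728, nat_lit 140360, nat_lit 136386, nat_lit 132808, nat_lit 492, nat_lit 5900, nat_lit 10032, nat_lit 13584, nat_lit 17952, nat_lit 20608, nat_lit 25600, nat_lit 28928, nat_lit 33280, nat_lit 37888, nat_lit 40978, nat_lit 37280, nat_lit 33440, nat_lit 29216, nat_lit 21001, nat_lit 17409, nat_lit 12325, nat_lit 8200, nat_lit 4112, nat_lit 2]⟩⟩⟩,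
  ⟨[nat_lit 39, nat_lit 17, nat_lit 37, nat_lit 39, nat_lit 39], [], (nat_lit 70), ⟨[nat_lit 15, nat_lit 57], [nat_lit 0, nat_lit 28, nat_lit 49], ⟨[nat_lit 0x2a514ab5e689ed058e4e12993082e4], [nat_lit 169472, nat_lit 165888, nat_lit 162176, nat_lit 158848, nat_lit 154496, nat_lit 148480, nat_lit 145744, nat_lit 142760, nat_lit 135708, nat_lit 134238, nat_lit 508, nat_lit 5512, nat_lit 8680, nat_lit 13712, nat_lit 17312, nat_lit 21504, nat_lit 25728, nat_lit 29440, nat_lit 33280, nat_lit 41230, nat_lit 36969, nat_lit 33021, nat_lit 28799, nat_lit 24718, nat_lit 20544, nat_lit 16394, nat_lit 12291, nat_lit 4105]⟩⟩⟩]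
theorem rQ2 : Suf yT 16384 wQ [yT.get 36] 0 := Suf.seg (l := l636) (by decide +kernel) s637

def p642 : AP := ⟨[], [], (nat_lit 393), ⟨[nat_lit 0, nat_lit 79, nat_lit 65], [nat_lit 72, nat_lit 60], ⟨[nat_lit 0xb046b621d5688b203cd1250e982a77], [nat_lit 173056, nat_lit 166656, nat_lit 159872, nat_lit 156992, nat_lit 152064, nat_lit 148560, nat_lit 145368, nat_lit 139540, nat_lit 135216, nat_lit 131345, nat_lit 1396, nat_lit 5688, nat_lit 9560, nat_lit 12960, nat_lit 17984, nat_lit 21696, nat_lit 25344, nat_lit 33280, nat_lit 41696, nat_lit 36940, nat_lit 28691, nat_lit 24631, nat_lit 20482, nat_lit 16449, nat_lit 12804, nat_lit 8195, nat_lit 4097]⟩⟩⟩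
def p643 : AP := ⟨[nat_lit 172, nat_lit 175, nat_lit 177, nat_lit 172], [], (nat_lit 858), ⟨[nat_lit 0, nat_lit 85, nat_lit 60], [nat_lit 26, nat_lit 56], ⟨[nat_lit 0xabdb391496bad30130ca3a02e8d060], [nat_lit 169472, nat_lit 164608, nat_lit 162176, nat_lit 155840, nat_lit 153344, nat_lit 147568, nat_lit 144704, nat_lit 139932, nat_lit 135330, nat_lit 132494, nat_lit 128, nat_lit 4804, nat_lit 10128, nat_lit 12800, nat_lit 20992, nat_lit 26368, nat_lit 29184, nat_lit 33792, nat_lit 41856, nat_lit 37008, nat_lit 32839, nat_lit 28758, nat_lit 24751, nat_lit 20562, nat_lit 16461, nat_lit 12323, nat_lit 8208, nat_lit 4129]⟩⟩⟩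
def p644 : AP := ⟨[], [], (nat_lit 860), ⟨[nat_lit 73, nat_lit 69], [nat_lit 0, nat_lit 21, nat_lit 47], ⟨[nat_lit 0x345f62ce8c6c0f525dd24094900d61], [nat_lit 171008, nat_lit 165632, nat_lit 160512, nat_lit 159296, nat_lit 151712, nat_lit 148976, nat_lit 147352, nat_lit 141568, nat_lit 137450, nat_lit 134073, nat_lit 588, nat_lit 5072, nat_lit 8768, nat_lit 13264, nat_lit 17472, nat_lit 20800, nat_lit 24960, nat_lit 29184, nat_lit 33792, nat_lit 41047, nat_lit 37235, nat_lit 32915, nat_lit 29023, nat_lit 24621, nat_lit 20486, nat_lit 16646, nat_lit 12294, nat_lit 8201, nat_lit 4100]⟩⟩⟩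
def p645 : AP := ⟨[nat_lit 175, nat_lit 173, nat_lit 171], [], (nat_lit 396), ⟨[nat_lit 0, nat_lit 73, nat_lit 60], [nat_lit 0, nat_lit 23, nat_lit 52], ⟨[nat_lit 0x8e8d4c806a948e51c535a2ef83236], [nat_lit 173056, nat_lit 168960, nat_lit 165120, nat_lit 160256, nat_lit 155904, nat_lit 152512, nat_lit 149168, nat_lit 144352, nat_lit 140552, nat_lit 136602, nat_lit 132422, nat_lit 696, nat_lit 4924, nat_lit 8528, nat_lit 14112, nat_lit 16608, nat_lit 22208, nat_lit 25600, nat_lit 30464, nat_lit 33280, nat_lit 37888, nat_lit 41728, nat_lit 38329, nat_lit 33835, nat_lit 29284, nat_lit 24733, nat_lit 20750, nat_lit 16517, nat_lit 12304, nat_lit 8227, nat_lit 4100]⟩⟩⟩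
def p646 : AP := ⟨[], [], (nat_lit 339), ⟨[nat_lit 0, nat_lit 83, nat_lit 52], [nat_lit 0, nat_lit 18, nat_lit 70], ⟨[nat_lit 0x84e890d46825cea345a279640b31cb], [nat_lit 175104, nat_lit 171520, nat_lit 165632, nat_lit 162944, nat_lit 159424, nat_lit 154208, nat_lit 149072, nat_lit 144248, nat_lit 140400, nat_lit 138270, nat_lit 133164, nat_lit 1336, nat_lit 5228, nat_lit 8928, nat_lit 12976, nat_lit 17088, nat_lit 21248, nat_lit 24704, nat_lit 30464, nat_lit 41751, nat_lit 38264, nat_lit 33011, nat_lit 28695, nat_lit 24868, nat_lit 20766, nat_lit 16398, nat_lit 12304, nat_lit 8193, nat_lit 4097]⟩⟩⟩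
def l647 : List AP := [⟨[], [], (nat_lit 1034), ⟨[nat_lit 85, nat_lit 64], [nat_lit 26, nat_lit 64], ⟨[nat_lit 0x5858305265925f0722d538a37329a4], [nat_lit 173056, nat_lit 168448, nat_lit 165632, nat_lit 161280, nat_lit 157056, nat_lit 153984, nat_lit 148656, nat_lit 144624, nat_lit 140768, nat_lit 135648, nat_lit 132266, nat_lit 508, nat_lit 5884, nat_lit 9560, nat_lit 12672, nat_lit 17408, nat_lit 20864, nat_lit 24704, nat_lit 29440, nat_lit 37888, nat_lit 41724, nat_lit 37047, nat_lit 32835, nat_lit 28704, nat_lit 24867, nat_lit 20488, nat_lit 16910, nat_lit 12305, nat_lit 8704, nat_lit 4100, nat_lit 2]⟩⟩⟩]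
theorem s647 : Suf yT 32768 (ldrop wQ 37) (apW dcM p646) (tgtN dcM p646.e) := Suf.fin' (l := l647) (by decide +kernel)
def l646 : List AP := [⟨[], [], (nat_lit 1046), ⟨[nat_lit 0, nat_lit 81, nat_lit 64], [nat_lit 0, nat_lit 29, nat_lit 66], ⟨[nat_lit 0xd68e4bc0b1948d3aad0322f29c582], [nat_lit 175104, nat_lit 171520, nat_lit 166144, nat_lit 160128, nat_lit 157760, nat_lit 153696, nat_lit 147792, nat_lit 146488, nat_lit 140224, nat_lit 135518, nat_lit 132715, nat_lit 586, nat_lit 5716, nat_lit 8704, nat_lit 13664, nat_lit 17824, nat_lit 21184, nat_lit 29440, nat_lit 33792, nat_lit 41736, nat_lit 37335, nat_lit 33439, nat_lit 29268, nat_lit 24878, nat_lit 20570, nat_lit 16420, nat_lit 12293, nat_lit 8201, nat_lit 8]⟩⟩⟩,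
  ⟨[nat_lit 172], [], (nat_lit 392), ⟨[nat_lit 0, nat_lit 84, nat_lit 66], [nat_lit 0, nat_lit 29, nat_lit 61], ⟨[nat_lit 0xb044f2b8d52013219d105516c9b637], [nat_lit 175104, nat_lit 171008, nat_lit 166912, nat_lit 161792, nat_lit 156096, nat_lit 154176, nat_lit 150352, nat_lit 145040, nat_lit 142960, nat_lit 137072, nat_lit 131646, nat_lit 960, nat_lit 5004, nat_lit 8232, nat_lit 13712, nat_lit 16544, nat_lit 22400, nat_lit 25728, nat_lit 29696, nat_lit 33280, nat_lit 37888, nat_lit 41900, nat_lit 36876, nat_lit 33888, nat_lit 28770, nat_lit 24745, nat_lit 20630, nat_lit 16398, nat_lit 12295, nat_lit 8202, nat_lit 4105]⟩⟩⟩]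
theorem s646 : Suf yT 32768 (ldrop wQ 29) (apW dcM p645) (tgtN dcM p645.e) := Suf.seg (l := l646) (by decide +kernel) s647
def l645 : List AP := [⟨[nat_lit 416, nat_lit 411, nat_lit 413], [], (nat_lit 940), ⟨[nat_lit 0, nat_lit 39, nat_lit 58], [nat_lit 2, nat_lit 60], ⟨[nat_lit 0x92c646d213bb820616a7b290f4c4c2], [nat_lit 168960, nat_lit 164352, nat_lit 161152, nat_lit 157376, nat_lit 154592, nat_lit 148544, nat_lit 144368, nat_lit 140480, nat_lit 135486, nat_lit 132637, nat_lit 586, nat_lit 4548, nat_lit 8704, nat_lit 13152, nat_lit 17408, nat_lit 21504, nat_lit 25216, nat_lit 29440, nat_lit 33280, nat_lit 37888, nat_lit 41497, nat_lit 37344, nat_lit 33429, nat_lit 29248, nat_lit 24848, nat_lit 20496, nat_lit 16424, nat_lit 12306, nat_lit 8257, nat_lit 4104, nat_lit 64]⟩⟩⟩,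
  ⟨[], [], (nat_lit 1236), ⟨[nat_lit 25, nat_lit 52], [nat_lit 0, nat_lit 84, nat_lit 59], ⟨[nat_lit 0xabdb221676624e00d05058cce45e2a], [nat_lit 168448, nat_lit 165376, nat_lit 162560, nat_lit 156416, nat_lit 152384, nat_lit 148224, nat_lit 143752, nat_lit 140112, nat_lit 135744, nat_lit 131133, nat_lit 1938, nat_lit 4580, nat_lit 9648, nat_lit 12400, nat_lit 16896, nat_lit 21056, nat_lit 24832, nat_lit 29696, nat_lit 33792, nat_lit 37888, nat_lit 41144, nat_lit 37021, nat_lit 32960, nat_lit 24847, nat_lit 21528, nat_lit 16905, nat_lit 12359, nat_lit 8211, nat_lit 4101]⟩⟩⟩]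
theorem s645 : Suf yT 32768 (ldrop wQ 23) (apW dcM p644) (tgtN dcM p644.e) := Suf.seg (l := l645) (by decide +kernel) s646
def l644 : List AP := [⟨[], [], (nat_lit 941), ⟨[nat_lit 23, nat_lit 68], [nat_lit 0, nat_lit 85, nat_lit 63], ⟨[nat_lit 0x92c70251b38d9c7add020a58f31540], [nat_lit 168448, nat_lit 160128, nat_lit 157568, nat_lit 153632, nat_lit 149472, nat_lit 144984, nat_lit 140256, nat_lit 136928, nat_lit 131603, nat_lit 32, nat_lit 5904, nat_lit 9720, nat_lit 13152, nat_lit 18368, nat_lit 20544, nat_lit 24704, nat_lit 29696, nat_lit 41006, nat_lit 37205, nat_lit 32828, nat_lit 28790, nat_lit 24615, nat_lit 16526, nat_lit 12304, nat_lit 8259, nat_lit 4097]⟩⟩⟩,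
  ⟨[nat_lit 674, nat_lit 413, nat_lit 676], [], (nat_lit 1238), ⟨[nat_lit 0, nat_lit 40, nat_lit 94], [nat_lit 0, nat_lit 79, nat_lit 48], ⟨[nat_lit 0x335f52a6888c0f6b90206095392c6e], [nat_lit 175104, nat_lit 169472, nat_lit 167168, nat_lit 163328, nat_lit 158592, nat_lit 153344, nat_lit 149472, nat_lit 144168, nat_lit 142036, nat_lit 137524, nat_lit 132167, nat_lit 1530, nat_lit 5580, nat_lit 9752, nat_lit 17056, nat_lit 20864, nat_lit 25088, nat_lit 30208, nat_lit 37888, nat_lit 41270, nat_lit 37290, nat_lit 32933, nat_lit 28998, nat_lit 24745, nat_lit 20499, nat_lit 16420, nat_lit 12290, nat_lit 16]⟩⟩⟩]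
theorem s644 : Suf yT 32768 (ldrop wQ 14) (apW dcM p643) (tgtN dcM p643.e) := Suf.seg (l := l644) (by decide +kernel) s645
def l643 : List AP := [⟨[nat_lit 661, nat_lit 219, nat_lit 170], [], (nat_lit 396), ⟨[nat_lit 0, nat_lit 45, nat_lit 59], [nat_lit 23, nat_lit 66], ⟨[nat_lit 0x288044c60abd9cd9a17238c266568f], [nat_lit 173056, nat_lit 171520, nat_lit 165376, nat_lit 159872, nat_lit 155968, nat_lit 153152, nat_lit 147712, nat_lit 143400, nat_lit 135528, nat_lit 132904, nat_lit 394, nat_lit 4380, nat_lit 9840, nat_lit 14000, nat_lit 17408, nat_lit 21504, nat_lit 24960, nat_lit 29952, nat_lit 33280, nat_lit 37888, nat_lit 41912, nat_lit 37056, nat_lit 33976, nat_lit 29214, nat_lit 24759, nat_lit 20569, nat_lit 16416, nat_lit 12355, nat_lit 8323, nat_lit 4104, nat_lit 4]⟩⟩⟩,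
  ⟨[], [], (nat_lit 1046), ⟨[nat_lit 18, nat_lit 63], [nat_lit 0, nat_lit 2, nat_lit 52], ⟨[nat_lit 0x2dc0d49a07159c444dec50c31952ab], [nat_lit 175104, nat_lit 168960, nat_lit 165632, nat_lit 160128, nat_lit 157312, nat_lit 153184, nat_lit 149248, nat_lit 145168, nat_lit 139468, nat_lit 136986, nat_lit 131181, nat_lit 1336, nat_lit 6104, nat_lit 9456, nat_lit 12928, nat_lit 18240, nat_lit 21504, nat_lit 25856, nat_lit 33792, nat_lit 41608, nat_lit 38344, nat_lit 33302, nat_lit 29714, nat_lit 24857, nat_lit 20485, nat_lit 16522, nat_lit 12359, nat_lit 8225, nat_lit 4097, nat_lit 2]⟩⟩⟩]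
theorem s643 : Suf yT 32768 (ldrop wQ 6) (apW dcM p642) (tgtN dcM p642.e) := Suf.seg (l := l643) (by decide +kernel) s644
def l642 : List AP := [⟨[nat_lit 624, nat_lit 6, nat_lit 624, nat_lit 6, nat_lit 2, nat_lit 2], [], (nat_lit 40), ⟨[nat_lit 0, nat_lit 74], [nat_lit 0, nat_lit 78, nat_lit 66], ⟨[nat_lit 0x7b134058688d60a091b3708d2594f7], [nat_lit 173056, nat_lit 171520, nat_lit 164096, nat_lit 163200, nat_lit 156992, nat_lit 155520, nat_lit 151520, nat_lit 147352, nat_lit 139496, nat_lit 136662, nat_lit 133430, nat_lit 1268, nat_lit 5668, nat_lit 9928, nat_lit 13104, nat_lit 17984, nat_lit 20608, nat_lit 25728, nat_lit 29696, nat_lit 41913, nat_lit 37956, nat_lit 33391, nat_lit 28677, nat_lit 25144, nat_lit 20485, nat_lit 16647, nat_lit 12806, nat_lit 8193, nat_lit 4]⟩⟩⟩,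
  ⟨[nat_lit 27, nat_lit 32, nat_lit 637, nat_lit 638, nat_lit 25, nat_lit 27], [], (nat_lit 338), ⟨[nat_lit 77, nat_lit 60], [nat_lit 73, nat_lit 54], ⟨[nat_lit 0x84cd2036a86502aba46e2162713ecb], [nat_lit 173056, nat_lit 166912, nat_lit 162432, nat_lit 158144, nat_lit 154880, nat_lit 149360, nat_lit 145600, nat_lit 141916, nat_lit 135434, nat_lit 133181, nat_lit 566, nat_lit 6116, nat_lit 9040, nat_lit 13360, nat_lit 17024, nat_lit 21696, nat_lit 24704, nat_lit 29952, nat_lit 41183, nat_lit 37338, nat_lit 32891, nat_lit 29189, nat_lit 24607, nat_lit 20740, nat_lit 16425, nat_lit 12291, nat_lit 8195, nat_lit 4101]⟩⟩⟩]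
theorem rQ3 : Suf yT 32768 wQ [yT.get 37] 0 := Suf.seg (l := l642) (by decide +kernel) s643

def p648 : AP := ⟨[], [], (nat_lit 393), ⟨[nat_lit 3, nat_lit 69], [nat_lit 0, nat_lit 23, nat_lit 52], ⟨[nat_lit 0xbc9e3a24953044a5963341dcc6c016], [nat_lit 175104, nat_lit 169472, nat_lit 166144, nat_lit 162688, nat_lit 158272, nat_lit 153152, nat_lit 147488, nat_lit 143348, nat_lit 137908, nat_lit 132297, nat_lit 1918, nat_lit 5948, nat_lit 8680, nat_lit 12976, nat_lit 17568, nat_lit 21184, nat_lit 25216, nat_lit 29696, nat_lit 33280, nat_lit 37888, nat_lit 41451, nat_lit 36922, nat_lit 32859, nat_lit 28774, nat_lit 24761, nat_lit 20628, nat_lit 16426, nat_lit 12293, nat_lit 8203, nat_lit 4101]⟩⟩⟩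
def p649 : AP := ⟨[nat_lit 659, nat_lit 219, nat_lit 175, nat_lit 172], [], (nat_lit 858), ⟨[nat_lit 0, nat_lit 40, nat_lit 49], [nat_lit 88, nat_lit 66], ⟨[nat_lit 0xb254534e15b882762e23901a8251ee], [nat_lit 171008, nat_lit 160384, nat_lit 158400, nat_lit 152128, nat_lit 147904, nat_lit 147168, nat_lit 141940, nat_lit 138310, nat_lit 134188, nat_lit 1530, nat_lit 4988, nat_lit 10128, nat_lit 13056, nat_lit 16640, nat_lit 20608, nat_lit 25984, nat_lit 28928, nat_lit 34304, nat_lit 41906, nat_lit 37221, nat_lit 33480, nat_lit 28750, nat_lit 24754, nat_lit 20485, nat_lit 16457, nat_lit 12353, nat_lit 8193, nat_lit 4225]⟩⟩⟩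
def p650 : AP := ⟨[], [], (nat_lit 940), ⟨[nat_lit 3, nat_lit 52], [nat_lit 0, nat_lit 11, nat_lit 57], ⟨[nat_lit 0xa98b269d4118a937248045a2b65e0f], [nat_lit 174080, nat_lit 169472, nat_lit 165632, nat_lit 163328, nat_lit 156608, nat_lit 151968, nat_lit 151008, nat_lit 147104, nat_lit 143316, nat_lit 137434, nat_lit 134720, nat_lit 1014, nat_lit 6080, nat_lit 9912, nat_lit 14112, nat_lit 17248, nat_lit 21888, nat_lit 25984, nat_lit 30464, nat_lit 37888, nat_lit 41758, nat_lit 38346, nat_lit 34040, nat_lit 28745, nat_lit 24706, nat_lit 20751, nat_lit 16387, nat_lit 12295, nat_lit 8201, nat_lit 4101]⟩⟩⟩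
def p651 : AP := ⟨[nat_lit 215, nat_lit 215], [], (nat_lit 396), ⟨[nat_lit 15, nat_lit 61], [nat_lit 0, nat_lit 86, nat_lit 50], ⟨[nat_lit 0x89ecd2b2579d08e52d0110c09a9a0f], [nat_lit 169472, nat_lit 165888, nat_lit 161024, nat_lit 156992, nat_lit 153824, nat_lit 149664, nat_lit 146048, nat_lit 143028, nat_lit 137832, nat_lit 131820, nat_lit 394, nat_lit 4476, nat_lit 9456, nat_lit 14112, nat_lit 17344, nat_lit 21888, nat_lit 25728, nat_lit 33280, nat_lit 41578, nat_lit 38056, nat_lit 33004, nat_lit 28741, nat_lit 24577, nat_lit 20505, nat_lit 16392, nat_lit 12291, nat_lit 8323, nat_lit 8]⟩⟩⟩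
def p652 : AP := ⟨[], [], (nat_lit 339), ⟨[nat_lit 0, nat_lit 3, nat_lit 70], [nat_lit 0, nat_lit 79, nat_lit 51], ⟨[nat_lit 0x4325611d2ba395133da1012f51ccb0], [nat_lit 174080, nat_lit 168448, nat_lit 162048, nat_lit 152192, nat_lit 150208, nat_lit 146880, nat_lit 142892, nat_lit 138910, nat_lit 133486, nat_lit 1246, nat_lit 5860, nat_lit 9384, nat_lit 12352, nat_lit 18112, nat_lit 21056, nat_lit 26496, nat_lit 29184, nat_lit 34304, nat_lit 37888, nat_lit 41105, nat_lit 37155, nat_lit 32975, nat_lit 28969, nat_lit 24753, nat_lit 20612, nat_lit 16388, nat_lit 12289, nat_lit 8208, nat_lit 4129]⟩⟩⟩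
def l653 : List AP := [⟨[], [], (nat_lit 1034), ⟨[nat_lit 87, nat_lit 58], [nat_lit 0, nat_lit 11, nat_lit 51], ⟨[nat_lit 0x728d0a01286586f69e6b95622286e4], [nat_lit 164096, nat_lit 160128, nat_lit 155776, nat_lit 152128, nat_lit 148592, nat_lit 143376, nat_lit 140176, nat_lit 135782, nat_lit 133164, nat_lit 16, nat_lit 5220, nat_lit 9328, nat_lit 13120, nat_lit 17440, nat_lit 21568, nat_lit 24832, nat_lit 29184, nat_lit 33280, nat_lit 37888, nat_lit 41942, nat_lit 37957, nat_lit 33023, nat_lit 28942, nat_lit 24625, nat_lit 20497, nat_lit 16420, nat_lit 12550, nat_lit 8195, nat_lit 4101]⟩⟩⟩]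
theorem s653 : Suf yT 65536 (ldrop wQ 37) (apW dcM p652) (tgtN dcM p652.e) := Suf.fin' (l := l653) (by decide +kernel)
def l652 : List AP := [⟨[], [], (nat_lit 1046), ⟨[nat_lit 0, nat_lit 41, nat_lit 62], [nat_lit 10, nat_lit 65], ⟨[nat_lit 0x8cece2a6423d08d5a9f5b8c0c0c0c8], [nat_lit 174080, nat_lit 168448, nat_lit 166912, nat_lit 162176, nat_lit 158272, nat_lit 152768, nat_lit 147536, nat_lit 144512, nat_lit 142068, nat_lit 138792, nat_lit 131141, nat_lit 256, nat_lit 4548, nat_lit 8576, nat_lit 12464, nat_lit 18016, nat_lit 22464, nat_lit 24960, nat_lit 33792, nat_lit 41818, nat_lit 38232, nat_lit 32997, nat_lit 29030, nat_lit 24867, nat_lit 20755, nat_lit 16430, nat_lit 12308, nat_lit 8202, nat_lit 128]⟩⟩⟩,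
  ⟨[nat_lit 660, nat_lit 170], [], (nat_lit 392), ⟨[nat_lit 0, nat_lit 5, nat_lit 56], [nat_lit 32, nat_lit 67], ⟨[nat_lit 0xab573825f7146471a9056100e30696], [nat_lit 175104, nat_lit 169472, nat_lit 166400, nat_lit 163584, nat_lit 159616, nat_lit 153088, nat_lit 148720, nat_lit 143776, nat_lit 142500, nat_lit 138482, nat_lit 131816, nat_lit 1918, nat_lit 5604, nat_lit 9664, nat_lit 14112, nat_lit 16960, nat_lit 21312, nat_lit 26368, nat_lit 34304, nat_lit 41778, nat_lit 37912, nat_lit 33480, nat_lit 28761, nat_lit 24621, nat_lit 20574, nat_lit 16390, nat_lit 12359]⟩⟩⟩]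
theorem s652 : Suf yT 65536 (ldrop wQ 29) (apW dcM p651) (tgtN dcM p651.e) := Suf.seg (l := l652) (by decide +kernel) s653
def l651 : List AP := [⟨[nat_lit 416, nat_lit 468, nat_lit 466, nat_lit 467], [], (nat_lit 940), ⟨[nat_lit 39, nat_lit 54], [nat_lit 19, nat_lit 89], ⟨[nat_lit 0x930546d81341061499ee3d5572c570], [nat_lit 171520, nat_lit 163072, nat_lit 157568, nat_lit 154240, nat_lit 150416, nat_lit 146600, nat_lit 140160, nat_lit 135512, nat_lit 134431, nat_lit 760, nat_lit 5016, nat_lit 9352, nat_lit 13232, nat_lit 17504, nat_lit 20544, nat_lit 25984, nat_lit 30464, nat_lit 33792, nat_lit 37888, nat_lit 41538, nat_lit 38218, nat_lit 32845, nat_lit 28754, nat_lit 24756, nat_lit 20481, nat_lit 16518, nat_lit 12548, nat_lit 8209, nat_lit 4097]⟩⟩⟩,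
  ⟨[], [], (nat_lit 1236), ⟨[nat_lit 0, nat_lit 21, nat_lit 64], [nat_lit 39, nat_lit 56], ⟨[nat_lit 0xa854522c16349a7445c98086ca5df3], [nat_lit 169984, nat_lit 166656, nat_lit 161920, nat_lit 158464, nat_lit 152384, nat_lit 149648, nat_lit 146536, nat_lit 139948, nat_lit 139024, nat_lit 132512, nat_lit 404, nat_lit 5296, nat_lit 8296, nat_lit 14144, nat_lit 17312, nat_lit 20608, nat_lit 25472, nat_lit 28928, nat_lit 41734, nat_lit 38321, nat_lit 33874, nat_lit 29269, nat_lit 24623, nat_lit 20490, nat_lit 16648, nat_lit 12290, nat_lit 8211]⟩⟩⟩]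
theorem s651 : Suf yT 65536 (ldrop wQ 23) (apW dcM p650) (tgtN dcM p650.e) := Suf.seg (l := l651) (by decide +kernel) s652
def l650 : List AP := [⟨[], [], (nat_lit 941), ⟨[nat_lit 7, nat_lit 93], [nat_lit 44, nat_lit 53], ⟨[nat_lit 0x9b854440f28d581bd8ca200696956f], [nat_lit 173056, nat_lit 168960, nat_lit 164608, nat_lit 161408, nat_lit 158400, nat_lit 152672, nat_lit 147648, nat_lit 144296, nat_lit 140360, nat_lit 135594, nat_lit 132599, nat_lit 1668, nat_lit 5016, nat_lit 9944, nat_lit 14112, nat_lit 17472, nat_lit 20544, nat_lit 30464, nat_lit 34304, nat_lit 37888, nat_lit 41277, nat_lit 37059, nat_lit 32983, nat_lit 29055, nat_lit 16641, nat_lit 12289, nat_lit 8210, nat_lit 8]⟩⟩⟩,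
  ⟨[nat_lit 675, nat_lit 674, nat_lit 463], [], (nat_lit 941), ⟨[nat_lit 0, nat_lit 12, nat_lit 65], [nat_lit 0, nat_lit 26, nat_lit 68], ⟨[nat_lit 0xa8cb36ad4830a924b9ec0da27042e4], [nat_lit 170496, nat_lit 166144, nat_lit 162816, nat_lit 157952, nat_lit 151968, nat_lit 149952, nat_lit 145512, nat_lit 140084, nat_lit 139044, nat_lit 133033, nat_lit 1124, nat_lit 5064, nat_lit 9248, nat_lit 13520, nat_lit 18112, nat_lit 21248, nat_lit 26496, nat_lit 29952, nat_lit 41087, nat_lit 37277, nat_lit 32836, nat_lit 29263, nat_lit 24594, nat_lit 20497, nat_lit 16416, nat_lit 12802, nat_lit 8201, nat_lit 4097, nat_lit 2]⟩⟩⟩]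
theorem s650 : Suf yT 65536 (ldrop wQ 14) (apW dcM p649) (tgtN dcM p649.e) := Suf.seg (l := l650) (by decide +kernel) s651
def l649 : List AP := [⟨[nat_lit 213, nat_lit 659], [], (nat_lit 418), ⟨[nat_lit 0, nat_lit 83, nat_lit 65], [nat_lit 36, nat_lit 66], ⟨[nat_lit 0x48892a1cadab21303ec15987153ae8], [nat_lit 175104, nat_lit 168960, nat_lit 165376, nat_lit 163072, nat_lit 156672, nat_lit 151584, nat_lit 149504, nat_lit 145944, nat_lit 142964, nat_lit 137698, nat_lit 134348, nat_lit 1438, nat_lit 4328, nat_lit 9904, nat_lit 13616, nat_lit 18208, nat_lit 20864, nat_lit 25344, nat_lit 29184, nat_lit 41217, nat_lit 37249, nat_lit 32891, nat_lit 29208, nat_lit 24849, nat_lit 20555, nat_lit 16520, nat_lit 12292, nat_lit 8193]⟩⟩⟩,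
  ⟨[], [], (nat_lit 419), ⟨[nat_lit 24, nat_lit 61], [nat_lit 81, nat_lit 60], ⟨[nat_lit 0x4d493a44ab132127810a698670ddd6], [nat_lit 170496, nat_lit 164096, nat_lit 160256, nat_lit 157312, nat_lit 152896, nat_lit 147952, nat_lit 144816, nat_lit 139352, nat_lit 135508, nat_lit 132191, nat_lit 184, nat_lit 6068, nat_lit 9928, nat_lit 13168, nat_lit 16768, nat_lit 22464, nat_lit 26368, nat_lit 29952, nat_lit 33792, nat_lit 41472, nat_lit 37248, nat_lit 33495, nat_lit 29240, nat_lit 24614, nat_lit 20549, nat_lit 16387, nat_lit 12294, nat_lit 8193, nat_lit 4104]⟩⟩⟩]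
theorem s649 : Suf yT 65536 (ldrop wQ 6) (apW dcM p648) (tgtN dcM p648.e) := Suf.seg (l := l649) (by decide +kernel) s650
def l648 : List AP := [⟨[nat_lit 3, nat_lit 5, nat_lit 4, nat_lit 2, nat_lit 624, nat_lit 6], [], (nat_lit 40), ⟨[nat_lit 0, nat_lit 82, nat_lit 49], [nat_lit 0, nat_lit 4, nat_lit 54], ⟨[nat_lit 0x521c393430a55e2b99712b080b24f3], [nat_lit 169472, nat_lit 167680, nat_lit 162176, nat_lit 158784, nat_lit 153952, nat_lit 149472, nat_lit 146280, nat_lit 143144, nat_lit 137070, nat_lit 133924, nat_lit 1928, nat_lit 5488, nat_lit 9600, nat_lit 12976, nat_lit 18112, nat_lit 21504, nat_lit 25088, nat_lit 30208, nat_lit 41051, nat_lit 36951, nat_lit 32997, nat_lit 29008, nat_lit 24832, nat_lit 20568, nat_lit 16396, nat_lit 12304, nat_lit 8203, nat_lit 4]⟩⟩⟩,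
  ⟨[nat_lit 30, nat_lit 28, nat_lit 30, nat_lit 23, nat_lit 23, nat_lit 22], [], (nat_lit 338), ⟨[nat_lit 23, nat_lit 56], [nat_lit 0, nat_lit 36, nat_lit 57], ⟨[nat_lit 0x5a92629c881ce8f905d66c6a060af0], [nat_lit 175104, nat_lit 164864, nat_lit 162432, nat_lit 156736, nat_lit 153024, nat_lit 151008, nat_lit 145648, nat_lit 141812, nat_lit 138690, nat_lit 134544, nat_lit 1246, nat_lit 4328, nat_lit 8256, nat_lit 13280, nat_lit 17440, nat_lit 20864, nat_lit 24832, nat_lit 33792, nat_lit 41793, nat_lit 38320, nat_lit 33006, nat_lit 28946, nat_lit 24577, nat_lit 20637, nat_lit 16390, nat_lit 12419, nat_lit 8193]⟩⟩⟩]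
theorem rQ4 : Suf yT 65536 wQ [yT.get 38] 0 := Suf.seg (l := l648) (by decide +kernel) s649

def p654 : AP := ⟨[], [], (nat_lit 393), ⟨[nat_lit 75, nat_lit 62], [nat_lit 43, nat_lit 58], ⟨[nat_lit 0xbb66c240d62810f5522b11dc908e55], [nat_lit 173056, nat_lit 168448, nat_lit 164608, nat_lit 161024, nat_lit 159680, nat_lit 153024, nat_lit 149232, nat_lit 143648, nat_lit 140300, nat_lit 135660, nat_lit 131147, nat_lit 1698, nat_lit 9672, nat_lit 17632, nat_lit 20672, nat_lit 30208, nat_lit 37888, nat_lit 41813, nat_lit 38165, nat_lit 32954, nat_lit 28764, nat_lit 24635, nat_lit 20557, nat_lit 16424, nat_lit 12308, nat_lit 8210, nat_lit 4104]⟩⟩⟩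
def p655 : AP := ⟨[nat_lit 659, nat_lit 213, nat_lit 659], [], (nat_lit 441), ⟨[nat_lit 45, nat_lit 47], [nat_lit 0, nat_lit 75, nat_lit 56], ⟨[nat_lit 0x148c4736612aacc7a2a705e905a623], [nat_lit 173056, nat_lit 168448, nat_lit 165888, nat_lit 162176, nat_lit 158592, nat_lit 154848, nat_lit 147504, nat_lit 147008, nat_lit 141876, nat_lit 135594, nat_lit 133496, nat_lit 484, nat_lit 6084, nat_lit 9752, nat_lit 12800, nat_lit 16448, nat_lit 20544, nat_lit 25472, nat_lit 28928, nat_lit 33792, nat_lit 41048, nat_lit 37118, nat_lit 32878, nat_lit 28777, nat_lit 24766, nat_lit 20624, nat_lit 16416, nat_lit 12295, nat_lit 8200, nat_lit 4100]⟩⟩⟩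
def p656 : AP := ⟨[], [], (nat_lit 413), ⟨[nat_lit 0, nat_lit 9, nat_lit 64], [nat_lit 0, nat_lit 18, nat_lit 93], ⟨[nat_lit 0x28603592281554cb25c0a5cf279a6d], [nat_lit 173056, nat_lit 165632, nat_lit 161664, nat_lit 156352, nat_lit 153248, nat_lit 149744, nat_lit 144920, nat_lit 140572, nat_lit 136558, nat_lit 133038, nat_lit 508, nat_lit 5024, nat_lit 9720, nat_lit 14192, nat_lit 22336, nat_lit 26496, nat_lit 29696, nat_lit 33792, nat_lit 41385, nat_lit 36880, nat_lit 33980, nat_lit 29818, nat_lit 24707, nat_lit 20488, nat_lit 8449, nat_lit 4097]⟩⟩⟩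
def p657 : AP := ⟨[nat_lit 176, nat_lit 217], [], (nat_lit 418), ⟨[nat_lit 0, nat_lit 10, nat_lit 66], [nat_lit 72, nat_lit 54], ⟨[nat_lit 0x394907a6a189a531a9b6b890c5d1c0], [nat_lit 174080, nat_lit 168448, nat_lit 167424, nat_lit 162944, nat_lit 157760, nat_lit 152768, nat_lit 149168, nat_lit 143968, nat_lit 141756, nat_lit 138312, nat_lit 132802, nat_lit 1478, nat_lit 4720, nat_lit 10128, nat_lit 12672, nat_lit 17760, nat_lit 20544, nat_lit 26368, nat_lit 30464, nat_lit 37888, nat_lit 41682, nat_lit 37043, nat_lit 32857, nat_lit 29269, nat_lit 24628, nat_lit 20486, nat_lit 16392, nat_lit 12292, nat_lit 8194]⟩⟩⟩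
def p658 : AP := ⟨[], [], (nat_lit 339), ⟨[nat_lit 0, nat_lit 71, nat_lit 49], [nat_lit 81, nat_lit 51], ⟨[nat_lit 0x80ecc996488b434329cfba4f52004b], [nat_lit 173056, nat_lit 168960, nat_lit 165376, nat_lit 163456, nat_lit 156992, nat_lit 152416, nat_lit 148352, nat_lit 143920, nat_lit 140096, nat_lit 136850, nat_lit 132679, nat_lit 986, nat_lit 5084, nat_lit 8320, nat_lit 13600, nat_lit 16512, nat_lit 21056, nat_lit 26240, nat_lit 28928, nat_lit 33792, nat_lit 41722, nat_lit 38266, nat_lit 33480, nat_lit 28741, nat_lit 24709, nat_lit 20482, nat_lit 16393, nat_lit 12305, nat_lit 8195, nat_lit 4101, nat_lit 4]⟩⟩⟩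
def l659 : List AP := [⟨[], [], (nat_lit 1034), ⟨[nat_lit 85, nat_lit 93], [nat_lit 82, nat_lit 89], ⟨[nat_lit 0x901a322855b5df02ba6742d9130534], [nat_lit 175104, nat_lit 171008, nat_lit 166656, nat_lit 161664, nat_lit 155968, nat_lit 151648, nat_lit 150144, nat_lit 145136, nat_lit 140480, nat_lit 138218, nat_lit 133711, nat_lit 1842, nat_lit 5604, nat_lit 9664, nat_lit 13312, nat_lit 17344, nat_lit 21504, nat_lit 25600, nat_lit 29184, nat_lit 37888, nat_lit 40991, nat_lit 37349, nat_lit 33449, nat_lit 29278, nat_lit 24892, nat_lit 20489, nat_lit 16449, nat_lit 12320, nat_lit 8195, nat_lit 4097]⟩⟩⟩]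
theorem s659 : Suf yT 131072 (ldrop wQ 37) (apW dcM p658) (tgtN dcM p658.e) := Suf.fin' (l := l659) (by decide +kernel)
def l658 : List AP := [⟨[], [], (nat_lit 419), ⟨[nat_lit 0, nat_lit 80, nat_lit 48], [nat_lit 77, nat_lit 61], ⟨[nat_lit 0x3c4937b2b729a5050c0b08909b3a8d], [nat_lit 166656, nat_lit 160384, nat_lit 156864, nat_lit 154400, nat_lit 150432, nat_lit 146232, nat_lit 143336, nat_lit 137652, nat_lit 132267, nat_lit 210, nat_lit 4380, nat_lit 10128, nat_lit 12336, nat_lit 16832, nat_lit 20800, nat_lit 25728, nat_lit 29696, nat_lit 41782, nat_lit 37203, nat_lit 32884, nat_lit 28770, nat_lit 24617, nat_lit 20566, nat_lit 16423, nat_lit 12309, nat_lit 8194]⟩⟩⟩,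
  ⟨[nat_lit 213], [], (nat_lit 392), ⟨[nat_lit 0, nat_lit 15, nat_lit 65], [nat_lit 0, nat_lit 41, nat_lit 58], ⟨[nat_lit 0xb1a6d0d1753a0a21ca2a03d2e23217], [nat_lit 169472, nat_lit 164864, nat_lit 160256, nat_lit 156864, nat_lit 154624, nat_lit 148272, nat_lit 144288, nat_lit 139296, nat_lit 135858, nat_lit 131270, nat_lit 1108, nat_lit 4476, nat_lit 10224, nat_lit 13728, nat_lit 16448, nat_lit 20544, nat_lit 26112, nat_lit 30208, nat_lit 41128, nat_lit 37238, nat_lit 32955, nat_lit 28929, nat_lit 24587, nat_lit 20505, nat_lit 16429, nat_lit 12321, nat_lit 8210, nat_lit 4100]⟩⟩⟩]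
theorem s658 : Suf yT 131072 (ldrop wQ 29) (apW dcM p657) (tgtN dcM p657.e) := Suf.seg (l := l658) (by decide +kernel) s659
def l657 : List AP := [⟨[nat_lit 214, nat_lit 181, nat_lit 178, nat_lit 170], [], (nat_lit 440), ⟨[nat_lit 73, nat_lit 92], [nat_lit 0, nat_lit 11, nat_lit 59], ⟨[nat_lit 0x11a2a9956160e80ac1d24a2cfb90ed], [nat_lit 169472, nat_lit 162304, nat_lit 156288, nat_lit 153312, nat_lit 148048, nat_lit 144712, nat_lit 141064, nat_lit 136494, nat_lit 132725, nat_lit 364, nat_lit 5488, nat_lit 8984, nat_lit 13712, nat_lit 16992, nat_lit 21184, nat_lit 25216, nat_lit 30464, nat_lit 34304, nat_lit 41600, nat_lit 38362, nat_lit 32896, nat_lit 28797, nat_lit 24751, nat_lit 20503, nat_lit 16392, nat_lit 12289, nat_lit 8227, nat_lit 4097]⟩⟩⟩,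
  ⟨[nat_lit 175, nat_lit 219, nat_lit 216, nat_lit 171], [], (nat_lit 440), ⟨[nat_lit 77, nat_lit 91], [nat_lit 0, nat_lit 13, nat_lit 67], ⟨[nat_lit 0x1524823061aa620bbcb652ccd740f3], [nat_lit 173056, nat_lit 166912, nat_lit 160896, nat_lit 157376, nat_lit 154240, nat_lit 150784, nat_lit 146816, nat_lit 142456, nat_lit 138644, nat_lit 132965, nat_lit 880, nat_lit 6060, nat_lit 10224, nat_lit 13600, nat_lit 18112, nat_lit 21120, nat_lit 24832, nat_lit 29440, nat_lit 33280, nat_lit 37888, nat_lit 41940, nat_lit 37370, nat_lit 33473, nat_lit 29224, nat_lit 24620, nat_lit 20574, nat_lit 16399, nat_lit 12305, nat_lit 8200, nat_lit 4101]⟩⟩⟩]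
theorem s657 : Suf yT 131072 (ldrop wQ 23) (apW dcM p656) (tgtN dcM p656.e) := Suf.seg (l := l657) (by decide +kernel) s658
def l656 : List AP := [⟨[nat_lit 181, nat_lit 177, nat_lit 659], [], (nat_lit 440), ⟨[nat_lit 75, nat_lit 59], [nat_lit 20, nat_lit 60], ⟨[nat_lit 0xd2cf52d82256281cdd24dcd0694e0], [nat_lit 173056, nat_lit 170496, nat_lit 165888, nat_lit 162944, nat_lit 158208, nat_lit 152000, nat_lit 151376, nat_lit 146512, nat_lit 141064, nat_lit 138260, nat_lit 131420, nat_lit 986, nat_lit 5276, nat_lit 10176, nat_lit 13856, nat_lit 17248, nat_lit 21696, nat_lit 26368, nat_lit 29696, nat_lit 34304, nat_lit 41429, nat_lit 37092, nat_lit 33875, nat_lit 28678, nat_lit 24578, nat_lit 21002, nat_lit 17411, nat_lit 12293, nat_lit 8194, nat_lit 4097]⟩⟩⟩,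
  ⟨[nat_lit 659, nat_lit 179, nat_lit 170], [], (nat_lit 412), ⟨[nat_lit 0, nat_lit 26, nat_lit 55], [nat_lit 0, nat_lit 82, nat_lit 56], ⟨[nat_lit 0x28a0c5ca340d5434d9af45ce404cce], [nat_lit 164096, nat_lit 161280, nat_lit 156864, nat_lit 151840, nat_lit 148880, nat_lit 144984, nat_lit 140420, nat_lit 136658, nat_lit 132814, nat_lit 1530, nat_lit 4600, nat_lit 10160, nat_lit 13152, nat_lit 22336, nat_lit 26368, nat_lit 28928, nat_lit 33792, nat_lit 41415, nat_lit 33999, nat_lit 28757, nat_lit 24608, nat_lit 20502, nat_lit 12547, nat_lit 8193, nat_lit 4105, nat_lit 4]⟩⟩⟩]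
theorem s656 : Suf yT 131072 (ldrop wQ 14) (apW dcM p655) (tgtN dcM p655.e) := Suf.seg (l := l656) (by decide +kernel) s657
def l655 : List AP := [⟨[nat_lit 177, nat_lit 173], [], (nat_lit 419), ⟨[nat_lit 7, nat_lit 60], [nat_lit 0, nat_lit 35, nat_lit 55], ⟨[nat_lit 0x5a933a9c2c8a250716e01349630e8f], [nat_lit 175104, nat_lit 169472, nat_lit 164096, nat_lit 162048, nat_lit 157376, nat_lit 153568, nat_lit 150336, nat_lit 146656, nat_lit 141576, nat_lit 137582, nat_lit 134216, nat_lit 1014, nat_lit 4460, nat_lit 8544, nat_lit 13152, nat_lit 17120, nat_lit 21504, nat_lit 29184, nat_lit 34304, nat_lit 37888, nat_lit 41726, nat_lit 38297, nat_lit 32786, nat_lit 28793, nat_lit 24706, nat_lit 20496, nat_lit 16426, nat_lit 12289, nat_lit 8706, nat_lit 4113]⟩⟩⟩,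
  ⟨[], [], (nat_lit 418), ⟨[nat_lit 0, nat_lit 37, nat_lit 58], [nat_lit 0, nat_lit 29, nat_lit 94], ⟨[nat_lit 0x5c530ad822522532b9e66348705077], [nat_lit 171008, nat_lit 164608, nat_lit 162560, nat_lit 156864, nat_lit 154528, nat_lit 151408, nat_lit 147312, nat_lit 139980, nat_lit 136878, nat_lit 135058, nat_lit 1148, nat_lit 4328, nat_lit 9952, nat_lit 12976, nat_lit 17024, nat_lit 20544, nat_lit 26240, nat_lit 30208, nat_lit 33280, nat_lit 37888, nat_lit 41460, nat_lit 37055, nat_lit 33809, nat_lit 28944, nat_lit 24577, nat_lit 20485, nat_lit 16398, nat_lit 8193, nat_lit 4113, nat_lit 2]⟩⟩⟩]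
theorem s655 : Suf yT 131072 (ldrop wQ 6) (apW dcM p654) (tgtN dcM p654.e) := Suf.seg (l := l655) (by decide +kernel) s656
def l654 : List AP := [⟨[nat_lit 1, nat_lit 7, nat_lit 11, nat_lit 2, nat_lit 1, nat_lit 2], [], (nat_lit 40), ⟨[nat_lit 0, nat_lit 27, nat_lit 94], [nat_lit 0, nat_lit 13, nat_lit 65], ⟨[nat_lit 0x4c4a3849b504d065d98a391d713c34], [nat_lit 168448, nat_lit 165120, nat_lit 159872, nat_lit 157568, nat_lit 152704, nat_lit 149168, nat_lit 145184, nat_lit 140992, nat_lit 135626, nat_lit 131314, nat_lit 1108, nat_lit 10088, nat_lit 14176, nat_lit 17024, nat_lit 22336, nat_lit 26368, nat_lit 30464, nat_lit 33280, nat_lit 41872, nat_lit 38089, nat_lit 33302, nat_lit 29804, nat_lit 24639, nat_lit 20488, nat_lit 16462, nat_lit 12292, nat_lit 8200, nat_lit 16]⟩⟩⟩,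
  ⟨[nat_lit 636, nat_lit 30, nat_lit 25, nat_lit 22, nat_lit 30, nat_lit 21], [], (nat_lit 338), ⟨[nat_lit 0, nat_lit 43, nat_lit 54], [nat_lit 38, nat_lit 69], ⟨[nat_lit 0x5b2c0208700dda9795d2a46a799948], [nat_lit 168448, nat_lit 164608, nat_lit 160384, nat_lit 157184, nat_lit 147968, nat_lit 144208, nat_lit 142420, nat_lit 136444, nat_lit 132299, nat_lit 1554, nat_lit 5904, nat_lit 9216, nat_lit 13392, nat_lit 18112, nat_lit 22272, nat_lit 25600, nat_lit 29440, nat_lit 41476, nat_lit 38296, nat_lit 33432, nat_lit 29225, nat_lit 24580, nat_lit 20626, nat_lit 16393, nat_lit 12289, nat_lit 4128, nat_lit 2]⟩⟩⟩]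
theorem rQ5 : Suf yT 131072 wQ [yT.get 39] 0 := Suf.seg (l := l654) (by decide +kernel) s655

def p660 : AP := ⟨[nat_lit 214, nat_lit 170], [], (nat_lit 392), ⟨[nat_lit 0, nat_lit 78], [nat_lit 8], ⟨[nat_lit 0xb069143c95908e61b1b098149595d7], [nat_lit 174080, nat_lit 170496, nat_lit 167168, nat_lit 160768, nat_lit 158144, nat_lit 154016, nat_lit 149408, nat_lit 147112, nat_lit 140512, nat_lit 135694, nat_lit 132008, nat_lit 796, nat_lit 5228, nat_lit 10032, nat_lit 14304, nat_lit 18368, nat_lit 21056, nat_lit 26240, nat_lit 29184, nat_lit 33792, nat_lit 37888, nat_lit 41925, nat_lit 37336, nat_lit 33424, nat_lit 28715, nat_lit 24603, nat_lit 20611, nat_lit 16457, nat_lit 12294, nat_lit 8202, nat_lit 4104]⟩⟩⟩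
def p661 : AP := ⟨[nat_lit 171, nat_lit 214, nat_lit 662, nat_lit 175], [], (nat_lit 858), ⟨[nat_lit 0, nat_lit 78, nat_lit 62], [nat_lit 0, nat_lit 28, nat_lit 66], ⟨[nat_lit 0xb3da802c551b8b1604d23dc8982a74], [nat_lit 170496, nat_lit 166400, nat_lit 163584, nat_lit 159680, nat_lit 153312, nat_lit 150912, nat_lit 146824, nat_lit 141168, nat_lit 137606, nat_lit 132684, nat_lit 622, nat_lit 5112, nat_lit 9560, nat_lit 13584, nat_lit 17056, nat_lit 20736, nat_lit 25344, nat_lit 29184, nat_lit 41153, nat_lit 36974, nat_lit 32802, nat_lit 28690, nat_lit 24599, nat_lit 20482, nat_lit 16451, nat_lit 12804, nat_lit 8195, nat_lit 4097, nat_lit 2]⟩⟩⟩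
def p662 : AP := ⟨[], [], (nat_lit 860), ⟨[nat_lit 0, nat_lit 40, nat_lit 49], [nat_lit 32, nat_lit 67], ⟨[nat_lit 0x7c576110e572a75a25b2622f009860], [nat_lit 168448, nat_lit 159872, nat_lit 156736, nat_lit 152704, nat_lit 150368, nat_lit 145008, nat_lit 140028, nat_lit 135552, nat_lit 132437, nat_lit 16, nat_lit 4104, nat_lit 8288, nat_lit 12304, nat_lit 16448, nat_lit 21120, nat_lit 24704, nat_lit 29696, nat_lit 37888, nat_lit 41424, nat_lit 36919, nat_lit 33792, nat_lit 28757, nat_lit 24592, nat_lit 20489, nat_lit 12290, nat_lit 8321, nat_lit 4104]⟩⟩⟩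
def p663 : AP := ⟨[nat_lit 215, nat_lit 215], [], (nat_lit 396), ⟨[nat_lit 35, nat_lit 65], [nat_lit 0, nat_lit 9, nat_lit 58], ⟨[nat_lit 0xba18d4c2920c48e32cf518aca79413], [nat_lit 173056, nat_lit 168448, nat_lit 165120, nat_lit 160128, nat_lit 159232, nat_lit 153216, nat_lit 149264, nat_lit 143728, nat_lit 140004, nat_lit 136460, nat_lit 132960, nat_lit 526, nat_lit 4684, nat_lit 9624, nat_lit 14112, nat_lit 17568, nat_lit 20928, nat_lit 33792, nat_lit 41564, nat_lit 38396, nat_lit 32917, nat_lit 28795, nat_lit 20620, nat_lit 16418, nat_lit 8209, nat_lit 4097]⟩⟩⟩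
def p664 : AP := ⟨[], [], (nat_lit 339), ⟨[nat_lit 7, nat_lit 48], [nat_lit 6, nat_lit 91], ⟨[nat_lit 0x416efa91cb898279b40cb52421a550], [nat_lit 169472, nat_lit 160384, nat_lit 156928, nat_lit 151616, nat_lit 150240, nat_lit 145024, nat_lit 140644, nat_lit 135254, nat_lit 1874, nat_lit 5508, nat_lit 8256, nat_lit 12304, nat_lit 16448, nat_lit 22336, nat_lit 26112, nat_lit 29952, nat_lit 33280, nat_lit 37888, nat_lit 41264, nat_lit 37284, nat_lit 33310, nat_lit 29034, nat_lit 24606, nat_lit 20488, nat_lit 16388, nat_lit 8210, nat_lit 4101, nat_lit 2]⟩⟩⟩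
def l665 : List AP := [⟨[], [], (nat_lit 1034), ⟨[nat_lit 21, nat_lit 52], [nat_lit 79, nat_lit 93], ⟨[nat_lit 0x9145001ed52386f6dd534a0c15c68c], [nat_lit 175104, nat_lit 168448, nat_lit 165376, nat_lit 162816, nat_lit 156480, nat_lit 153056, nat_lit 150256, nat_lit 146312, nat_lit 141924, nat_lit 139020, nat_lit 134701, nat_lit 1440, nat_lit 4380, nat_lit 8384, nat_lit 13264, nat_lit 17632, nat_lit 20544, nat_lit 25856, nat_lit 29952, nat_lit 34304, nat_lit 37888, nat_lit 41059, nat_lit 37290, nat_lit 32880, nat_lit 29257, nat_lit 24719, nat_lit 20483, nat_lit 16653, nat_lit 12304, nat_lit 8202, nat_lit 4097]⟩⟩⟩]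
theorem s665 : Suf yT 262144 (ldrop wQ 37) (apW dcM p664) (tgtN dcM p664.e) := Suf.fin' (l := l665) (by decide +kernel)
def l664 : List AP := [⟨[], [], (nat_lit 1046), ⟨[nat_lit 0, nat_lit 28, nat_lit 52], [nat_lit 0, nat_lit 3, nat_lit 66], ⟨[nat_lit 0xb858e4aa834448d59a6f90ad0a80a7], [nat_lit 175104, nat_lit 170496, nat_lit 167424, nat_lit 160128, nat_lit 157312, nat_lit 151616, nat_lit 149984, nat_lit 144072, nat_lit 140344, nat_lit 139014, nat_lit 133243, nat_lit 1054, nat_lit 5276, nat_lit 9096, nat_lit 13632, nat_lit 16672, nat_lit 21056, nat_lit 25984, nat_lit 33792, nat_lit 41929, nat_lit 37221, nat_lit 32877, nat_lit 29719, nat_lit 24589, nat_lit 20756, nat_lit 16428, nat_lit 12321, nat_lit 8194, nat_lit 4101, nat_lit 2]⟩⟩⟩,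
  ⟨[nat_lit 660, nat_lit 170], [], (nat_lit 392), ⟨[nat_lit 0, nat_lit 34, nat_lit 60], [nat_lit 1, nat_lit 63], ⟨[nat_lit 0xad00a7123738ca90a18d9897033e56], [nat_lit 173056, nat_lit 168960, nat_lit 165632, nat_lit 159872, nat_lit 156032, nat_lit 151680, nat_lit 151424, nat_lit 144488, nat_lit 140320, nat_lit 135352, nat_lit 131826, nat_lit 680, nat_lit 5560, nat_lit 8624, nat_lit 13152, nat_lit 16448, nat_lit 22080, nat_lit 25600, nat_lit 34304, nat_lit 37888, nat_lit 41444, nat_lit 36944, nat_lit 33857, nat_lit 29015, nat_lit 24605, nat_lit 20609, nat_lit 12357, nat_lit 8257, nat_lit 4129]⟩⟩⟩]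
theorem s664 : Suf yT 262144 (ldrop wQ 29) (apW dcM p663) (tgtN dcM p663.e) := Suf.seg (l := l664) (by decide +kernel) s665
def l663 : List AP := [⟨[nat_lit 410, nat_lit 412, nat_lit 468], [], (nat_lit 941), ⟨[nat_lit 0, nat_lit 7, nat_lit 93], [nat_lit 0, nat_lit 24, nat_lit 92], ⟨[nat_lit 0x90d67320332d5844ddaaa004f845d6], [nat_lit 166912, nat_lit 160768, nat_lit 157184, nat_lit 153184, nat_lit 148976, nat_lit 143832, nat_lit 141200, nat_lit 135206, nat_lit 131232, nat_lit 952, nat_lit 4240, nat_lit 9648, nat_lit 14112, nat_lit 17536, nat_lit 21248, nat_lit 24832, nat_lit 29952, nat_lit 33280, nat_lit 37888, nat_lit 41753, nat_lit 37138, nat_lit 32923, nat_lit 28975, nat_lit 24599, nat_lit 20627, nat_lit 16463, nat_lit 12304, nat_lit 8227, nat_lit 4129]⟩⟩⟩,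
  ⟨[nat_lit 676, nat_lit 675, nat_lit 413, nat_lit 416], [], (nat_lit 1236), ⟨[nat_lit 35, nat_lit 47], [nat_lit 80], ⟨[nat_lit 0xabdb463af65914790a013152888073], [nat_lit 174080, nat_lit 170496, nat_lit 166656, nat_lit 162048, nat_lit 156480, nat_lit 155552, nat_lit 149600, nat_lit 144336, nat_lit 142004, nat_lit 135224, nat_lit 131578, nat_lit 1530, nat_lit 5616, nat_lit 10168, nat_lit 12800, nat_lit 17312, nat_lit 20992, nat_lit 26368, nat_lit 30464, nat_lit 33280, nat_lit 41868, nat_lit 37323, nat_lit 32862, nat_lit 28674, nat_lit 24833, nat_lit 20492, nat_lit 16451, nat_lit 12292, nat_lit 8195, nat_lit 4101]⟩⟩⟩]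
theorem s663 : Suf yT 262144 (ldrop wQ 23) (apW dcM p662) (tgtN dcM p662.e) := Suf.seg (l := l663) (by decide +kernel) s664
def l662 : List AP := [⟨[], [], (nat_lit 941), ⟨[nat_lit 0, nat_lit 29, nat_lit 94], [nat_lit 72, nat_lit 67], ⟨[nat_lit 0x9ac6905ab253e86bb1040c5ae38a05], [nat_lit 171520, nat_lit 164864, nat_lit 162304, nat_lit 156608, nat_lit 153632, nat_lit 151408, nat_lit 146752, nat_lit 139996, nat_lit 136122, nat_lit 133758, nat_lit 568, nat_lit 5860, nat_lit 8320, nat_lit 13040, nat_lit 18336, nat_lit 21376, nat_lit 26368, nat_lit 33280, nat_lit 37888, nat_lit 41601, nat_lit 38223, nat_lit 33407, nat_lit 28788, nat_lit 24757, nat_lit 20483, nat_lit 16389, nat_lit 12804, nat_lit 8193, nat_lit 4105]⟩⟩⟩,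
  ⟨[nat_lit 467, nat_lit 468, nat_lit 419, nat_lit 410], [], (nat_lit 1238), ⟨[nat_lit 73, nat_lit 46], [nat_lit 0, nat_lit 74, nat_lit 92], ⟨[nat_lit 0x7b975140ec8aa764d0012a2e490ccd], [nat_lit 173056, nat_lit 169472, nat_lit 165120, nat_lit 158592, nat_lit 152736, nat_lit 148704, nat_lit 143648, nat_lit 140024, nat_lit 136438, nat_lit 131422, nat_lit 428, nat_lit 4940, nat_lit 9024, nat_lit 13776, nat_lit 16448, nat_lit 22016, nat_lit 25600, nat_lit 29952, nat_lit 34304, nat_lit 37888, nat_lit 41792, nat_lit 38127, nat_lit 33393, nat_lit 28951, nat_lit 24626, nat_lit 20561, nat_lit 12417, nat_lit 8450, nat_lit 4129]⟩⟩⟩]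
theorem s662 : Suf yT 262144 (ldrop wQ 14) (apW dcM p661) (tgtN dcM p661.e) := Suf.seg (l := l662) (by decide +kernel) s663
def l661 : List AP := [⟨[nat_lit 171, nat_lit 175, nat_lit 172], [], (nat_lit 396), ⟨[nat_lit 0, nat_lit 16, nat_lit 91], [nat_lit 80, nat_lit 94], ⟨[nat_lit 0xb46644bc703d1ae9302b45caa30815], [nat_lit 174080, nat_lit 170496, nat_lit 167168, nat_lit 159552, nat_lit 155552, nat_lit 148864, nat_lit 146528, nat_lit 139508, nat_lit 137076, nat_lit 132047, nat_lit 394, nat_lit 5856, nat_lit 10088, nat_lit 13152, nat_lit 16864, nat_lit 21952, nat_lit 25600, nat_lit 29696, nat_lit 34304, nat_lit 37888, nat_lit 41887, nat_lit 37024, nat_lit 34029, nat_lit 28680, nat_lit 24584, nat_lit 20504, nat_lit 16385, nat_lit 4097]⟩⟩⟩,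
  ⟨[], [], (nat_lit 1046), ⟨[nat_lit 0, nat_lit 85, nat_lit 62], [nat_lit 0, nat_lit 23, nat_lit 62], ⟨[nat_lit 0xb1e6e4a8688d1a464aa685caf58041], [nat_lit 174080, nat_lit 171520, nat_lit 165888, nat_lit 160512, nat_lit 156032, nat_lit 153024, nat_lit 150336, nat_lit 144640, nat_lit 141240, nat_lit 138772, nat_lit 133484, nat_lit 1808, nat_lit 4100, nat_lit 10000, nat_lit 13264, nat_lit 17408, nat_lit 21376, nat_lit 26240, nat_lit 29440, nat_lit 34304, nat_lit 41570, nat_lit 36943, nat_lit 32791, nat_lit 28695, nat_lit 25112, nat_lit 20499, nat_lit 16428, nat_lit 12289, nat_lit 8194, nat_lit 4097]⟩⟩⟩]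
theorem s661 : Suf yT 262144 (ldrop wQ 6) (apW dcM p660) (tgtN dcM p660.e) := Suf.seg (l := l661) (by decide +kernel) s662
def l660 : List AP := [⟨[nat_lit 624, nat_lit 2, nat_lit 627, nat_lit 8, nat_lit 627, nat_lit 4], [], (nat_lit 40), ⟨[nat_lit 84, nat_lit 91], [nat_lit 88, nat_lit 58], ⟨[nat_lit 0x21c29029cd14e285da83815f533257], [nat_lit 175104, nat_lit 170496, nat_lit 167168, nat_lit 161152, nat_lit 156864, nat_lit 152640, nat_lit 150864, nat_lit 143952, nat_lit 140824, nat_lit 138594, nat_lit 133909, nat_lit 1140, nat_lit 4964, nat_lit 9704, nat_lit 12688, nat_lit 16864, nat_lit 22144, nat_lit 25216, nat_lit 30464, nat_lit 33792, nat_lit 37888, nat_lit 41859, nat_lit 38092, nat_lit 33332, nat_lit 29720, nat_lit 24881, nat_lit 20481, nat_lit 12353, nat_lit 8706, nat_lit 4097, nat_lit 2]⟩⟩⟩,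
  ⟨[nat_lit 21, nat_lit 635, nat_lit 29, nat_lit 23, nat_lit 636], [], (nat_lit 391), ⟨[nat_lit 0, nat_lit 71, nat_lit 90], [nat_lit 0, nat_lit 20, nat_lit 46], ⟨[nat_lit 0x9c22852d32115f52028cb9da3b05c6], [nat_lit 171520, nat_lit 167424, nat_lit 162048, nat_lit 159424, nat_lit 153568, nat_lit 150176, nat_lit 146952, nat_lit 141260, nat_lit 139032, nat_lit 131210, nat_lit 1720, nat_lit 5228, nat_lit 8296, nat_lit 13264, nat_lit 18368, nat_lit 21952, nat_lit 29440, nat_lit 33792, nat_lit 41557, nat_lit 37921, nat_lit 32924, nat_lit 28991, nat_lit 25146, nat_lit 20621, nat_lit 16390, nat_lit 12295, nat_lit 8203, nat_lit 8]⟩⟩⟩]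
theorem rQ6 : Suf yT 262144 wQ [yT.get 40] 0 := Suf.seg (l := l660) (by decide +kernel) s661

def p666 : AP := ⟨[], [], (nat_lit 393), ⟨[nat_lit 0, nat_lit 15, nat_lit 59], [nat_lit 0, nat_lit 40, nat_lit 48], ⟨[nat_lit 0xb4d2d4459590607701e61114ba0cb7], [nat_lit 173056, nat_lit 171520, nat_lit 164864, nat_lit 160640, nat_lit 157312, nat_lit 151744, nat_lit 148224, nat_lit 145368, nat_lit 140540, nat_lit 135374, nat_lit 131703, nat_lit 1652, nat_lit 4952, nat_lit 9152, nat_lit 14256, nat_lit 18208, nat_lit 20992, nat_lit 26240, nat_lit 29184, nat_lit 33792, nat_lit 37888, nat_lit 41776, nat_lit 37286, nat_lit 33446, nat_lit 28751, nat_lit 24720, nat_lit 20489, nat_lit 16461, nat_lit 12321, nat_lit 8259, nat_lit 4112]⟩⟩⟩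
def p667 : AP := ⟨[nat_lit 181, nat_lit 170, nat_lit 662, nat_lit 170], [], (nat_lit 440), ⟨[nat_lit 0, nat_lit 75, nat_lit 59], [nat_lit 0, nat_lit 37, nat_lit 70], ⟨[nat_lit 0x158e09adc148e2d4289463cd7a9650], [nat_lit 173056, nat_lit 170496, nat_lit 167168, nat_lit 162816, nat_lit 157696, nat_lit 152416, nat_lit 150880, nat_lit 146184, nat_lit 141304, nat_lit 138392, nat_lit 132987, nat_lit 1698, nat_lit 5080, nat_lit 8584, nat_lit 13616, nat_lit 17088, nat_lit 22144, nat_lit 29184, nat_lit 34304, nat_lit 37888, nat_lit 41626, nat_lit 38292, nat_lit 33452, nat_lit 28960, nat_lit 24616, nat_lit 20545, nat_lit 17423, nat_lit 12322, nat_lit 8211, nat_lit 8]⟩⟩⟩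
def p668 : AP := ⟨[], [], (nat_lit 1046), ⟨[nat_lit 0, nat_lit 9, nat_lit 53], [nat_lit 79, nat_lit 68], ⟨[nat_lit 0x8d80e1520f4a1649dd8351cc56d432], [nat_lit 173056, nat_lit 169472, nat_lit 164864, nat_lit 160256, nat_lit 157056, nat_lit 155456, nat_lit 149280, nat_lit 143760, nat_lit 139596, nat_lit 135296, nat_lit 131817, nat_lit 1762, nat_lit 4128, nat_lit 10024, nat_lit 12432, nat_lit 18272, nat_lit 26368, nat_lit 29696, nat_lit 33280, nat_lit 37888, nat_lit 41493, nat_lit 38261, nat_lit 33464, nat_lit 29048, nat_lit 24864, nat_lit 20492, nat_lit 16456, nat_lit 12323, nat_lit 8202, nat_lit 4]⟩⟩⟩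
def p669 : AP := ⟨[nat_lit 174, nat_lit 174], [], (nat_lit 396), ⟨[nat_lit 18, nat_lit 70], [nat_lit 2, nat_lit 65], ⟨[nat_lit 0xb9a8db20114ac8e115813be7282875], [nat_lit 173056, nat_lit 167168, nat_lit 160000, nat_lit 157312, nat_lit 152096, nat_lit 144552, nat_lit 141028, nat_lit 136260, nat_lit 132737, nat_lit 2018, nat_lit 5636, nat_lit 9560, nat_lit 12352, nat_lit 16608, nat_lit 21376, nat_lit 25088, nat_lit 29696, nat_lit 33280, nat_lit 37888, nat_lit 41896, nat_lit 37151, nat_lit 32894, nat_lit 29757, nat_lit 24894, nat_lit 20757, nat_lit 16517, nat_lit 12323, nat_lit 8320, nat_lit 4129]⟩⟩⟩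
def p670 : AP := ⟨[], [], (nat_lit 339), ⟨[nat_lit 0, nat_lit 8, nat_lit 91], [nat_lit 12, nat_lit 92], ⟨[nat_lit 0x5d5d6b9810545f3a12422b4e908d88], [nat_lit 175104, nat_lit 168960, nat_lit 164352, nat_lit 160128, nat_lit 156672, nat_lit 152224, nat_lit 148464, nat_lit 143984, nat_lit 139704, nat_lit 135702, nat_lit 131271, nat_lit 952, nat_lit 5436, nat_lit 9520, nat_lit 13312, nat_lit 16608, nat_lit 22464, nat_lit 25600, nat_lit 33792, nat_lit 41125, nat_lit 37209, nat_lit 32980, nat_lit 29039, nat_lit 20634, nat_lit 16394, nat_lit 12294, nat_lit 8202, nat_lit 32]⟩⟩⟩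
def l671 : List AP := [⟨[], [], (nat_lit 1034), ⟨[nat_lit 72, nat_lit 49], [nat_lit 41, nat_lit 61], ⟨[nat_lit 0x100cf9a281aa603bb0f62c5b222d4e], [nat_lit 167680, nat_lit 160896, nat_lit 156608, nat_lit 153504, nat_lit 147520, nat_lit 143904, nat_lit 140480, nat_lit 137064, nat_lit 132718, nat_lit 166, nat_lit 5228, nat_lit 9904, nat_lit 14192, nat_lit 21888, nat_lit 25472, nat_lit 29184, nat_lit 37888, nat_lit 41728, nat_lit 37024, nat_lit 32883, nat_lit 28695, nat_lit 24861, nat_lit 20566, nat_lit 16424, nat_lit 12320, nat_lit 8194, nat_lit 4101, nat_lit 2]⟩⟩⟩]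
theorem s671 : Suf yT 524288 (ldrop wQ 37) (apW dcM p670) (tgtN dcM p670.e) := Suf.fin' (l := l671) (by decide +kernel)
def l670 : List AP := [⟨[], [], (nat_lit 1046), ⟨[nat_lit 0, nat_lit 45, nat_lit 69], [nat_lit 0, nat_lit 23, nat_lit 91], ⟨[nat_lit 0xba68eb480732c8d28ab08be6808d4c], [nat_lit 173056, nat_lit 168960, nat_lit 161408, nat_lit 156352, nat_lit 152416, nat_lit 148608, nat_lit 143648, nat_lit 140964, nat_lit 136120, nat_lit 132443, nat_lit 1580, nat_lit 4412, nat_lit 8496, nat_lit 17312, nat_lit 21184, nat_lit 24832, nat_lit 30208, nat_lit 37888, nat_lit 41896, nat_lit 37245, nat_lit 32832, nat_lit 28719, nat_lit 24863, nat_lit 20619, nat_lit 16463, nat_lit 12294, nat_lit 8202, nat_lit 4097, nat_lit 2]⟩⟩⟩,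
  ⟨[nat_lit 213, nat_lit 172], [], (nat_lit 392), ⟨[nat_lit 0, nat_lit 86, nat_lit 61], [nat_lit 0, nat_lit 12, nat_lit 50], ⟨[nat_lit 0xbba3300d9691d4111170a212f299b5], [nat_lit 173056, nat_lit 164864, nat_lit 161536, nat_lit 155840, nat_lit 151776, nat_lit 147824, nat_lit 147384, nat_lit 139836, nat_lit 135712, nat_lit 131514, nat_lit 1770, nat_lit 5900, nat_lit 8352, nat_lit 12416, nat_lit 17536, nat_lit 21440, nat_lit 26112, nat_lit 29696, nat_lit 41352, nat_lit 37370, nat_lit 33330, nat_lit 28738, nat_lit 24757, nat_lit 20570, nat_lit 16455, nat_lit 8225, nat_lit 4097]⟩⟩⟩]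
theorem s670 : Suf yT 524288 (ldrop wQ 29) (apW dcM p669) (tgtN dcM p669.e) := Suf.seg (l := l670) (by decide +kernel) s671
def l669 : List AP := [⟨[nat_lit 218, nat_lit 173, nat_lit 173, nat_lit 180], [], (nat_lit 440), ⟨[nat_lit 0, nat_lit 24, nat_lit 53], [nat_lit 0, nat_lit 7, nat_lit 54], ⟨[nat_lit 0x14a8fac1a1580e32dd16638c924e2a], [nat_lit 173056, nat_lit 161408, nat_lit 158336, nat_lit 153088, nat_lit 148048, nat_lit 144224, nat_lit 140164, nat_lit 135962, nat_lit 131100, nat_lit 1874, nat_lit 6084, nat_lit 9560, nat_lit 14192, nat_lit 16896, nat_lit 22464, nat_lit 25088, nat_lit 30208, nat_lit 33792, nat_lit 41948, nat_lit 38295, nat_lit 33835, nat_lit 28983, nat_lit 24622, nat_lit 20566, nat_lit 16426, nat_lit 12320, nat_lit 8193, nat_lit 4112]⟩⟩⟩,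
  ⟨[nat_lit 175, nat_lit 219, nat_lit 216, nat_lit 171], [], (nat_lit 440), ⟨[nat_lit 26, nat_lit 94], [nat_lit 27, nat_lit 61], ⟨[nat_lit 0x15a2dbbe61180e963966a968a81248], [nat_lit 174080, nat_lit 171520, nat_lit 167680, nat_lit 160384, nat_lit 159360, nat_lit 154208, nat_lit 148272, nat_lit 145832, nat_lit 139424, nat_lit 136522, nat_lit 132073, nat_lit 1554, nat_lit 6140, nat_lit 10216, nat_lit 14112, nat_lit 16640, nat_lit 24832, nat_lit 29184, nat_lit 33792, nat_lit 41928, nat_lit 37941, nat_lit 32840, nat_lit 29205, nat_lit 24606, nat_lit 20611, nat_lit 16455, nat_lit 8258, nat_lit 4129, nat_lit 16]⟩⟩⟩]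
theorem s669 : Suf yT 524288 (ldrop wQ 23) (apW dcM p668) (tgtN dcM p668.e) := Suf.seg (l := l669) (by decide +kernel) s670
def l668 : List AP := [⟨[nat_lit 175, nat_lit 219, nat_lit 216, nat_lit 171], [], (nat_lit 440), ⟨[nat_lit 87, nat_lit 63], [nat_lit 0, nat_lit 8, nat_lit 65], ⟨[nat_lit 0x118e020ca1526535a211ab68ebb2cf], [nat_lit 169472, nat_lit 164352, nat_lit 159872, nat_lit 156736, nat_lit 152960, nat_lit 148304, nat_lit 147256, nat_lit 139880, nat_lit 137192, nat_lit 131749, nat_lit 1488, nat_lit 5716, nat_lit 9928, nat_lit 12976, nat_lit 16736, nat_lit 22336, nat_lit 26368, nat_lit 29696, nat_lit 33792, nat_lit 37888, nat_lit 41805, nat_lit 38165, nat_lit 33941, nat_lit 28728, nat_lit 24878, nat_lit 20489, nat_lit 16388, nat_lit 12324, nat_lit 8203, nat_lit 4101, nat_lit 2]⟩⟩⟩,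
  ⟨[nat_lit 172, nat_lit 177, nat_lit 170], [], (nat_lit 396), ⟨[nat_lit 8, nat_lit 61], [nat_lit 35, nat_lit 56], ⟨[nat_lit 0x8a4041160ab216ebce4d79cd4186ac], [nat_lit 168960, nat_lit 165120, nat_lit 162304, nat_lit 156480, nat_lit 151584, nat_lit 149184, nat_lit 143480, nat_lit 140916, nat_lit 135620, nat_lit 132375, nat_lit 2012, nat_lit 4540, nat_lit 8504, nat_lit 12416, nat_lit 16416, nat_lit 20608, nat_lit 24960, nat_lit 29696, nat_lit 33280, nat_lit 41671, nat_lit 37184, nat_lit 33489, nat_lit 24595, nat_lit 20496, nat_lit 16416, nat_lit 8194, nat_lit 4097, nat_lit 2]⟩⟩⟩]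
theorem s668 : Suf yT 524288 (ldrop wQ 14) (apW dcM p667) (tgtN dcM p667.e) := Suf.seg (l := l668) (by decide +kernel) s669
def l667 : List AP := [⟨[nat_lit 178, nat_lit 661], [], (nat_lit 396), ⟨[nat_lit 19, nat_lit 63], [nat_lit 78, nat_lit 91], ⟨[nat_lit 0x3a82eb5690481a49c657595e311988], [nat_lit 175104, nat_lit 171008, nat_lit 164864, nat_lit 162176, nat_lit 157760, nat_lit 154240, nat_lit 148544, nat_lit 144536, nat_lit 139820, nat_lit 138464, nat_lit 134269, nat_lit 2018, nat_lit 4156, nat_lit 9216, nat_lit 13312, nat_lit 18336, nat_lit 22336, nat_lit 24832, nat_lit 29952, nat_lit 33792, nat_lit 41089, nat_lit 37217, nat_lit 33002, nat_lit 28995, nat_lit 24577, nat_lit 20636, nat_lit 16428, nat_lit 12308, nat_lit 8200, nat_lit 4097]⟩⟩⟩,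
  ⟨[], [], (nat_lit 1046), ⟨[nat_lit 0, nat_lit 45, nat_lit 60], [nat_lit 74, nat_lit 93], ⟨[nat_lit 0x3a424b0e8b501ae8cd02815f5bb0d2], [nat_lit 169472, nat_lit 164608, nat_lit 159872, nat_lit 156992, nat_lit 152864, nat_lit 148192, nat_lit 145920, nat_lit 139448, nat_lit 136660, nat_lit 131122, nat_lit 1140, nat_lit 5436, nat_lit 8928, nat_lit 18336, nat_lit 22400, nat_lit 25728, nat_lit 29952, nat_lit 41352, nat_lit 37032, nat_lit 33892, nat_lit 28940, nat_lit 24750, nat_lit 20504, nat_lit 16427, nat_lit 12289, nat_lit 8256, nat_lit 4100, nat_lit 8]⟩⟩⟩]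
theorem s667 : Suf yT 524288 (ldrop wQ 6) (apW dcM p666) (tgtN dcM p666.e) := Suf.seg (l := l667) (by decide +kernel) s668
def l666 : List AP := [⟨[nat_lit 7, nat_lit 6, nat_lit 628, nat_lit 0, nat_lit 9, nat_lit 1], [], (nat_lit 40), ⟨[nat_lit 36, nat_lit 89], [nat_lit 0, nat_lit 35, nat_lit 53], ⟨[nat_lit 0x6a2173c66302964096b67b8c265132], [nat_lit 173056, nat_lit 169984, nat_lit 165376, nat_lit 161536, nat_lit 157568, nat_lit 152544, nat_lit 148352, nat_lit 144704, nat_lit 140944, nat_lit 135172, nat_lit 131837, nat_lit 1140, nat_lit 6084, nat_lit 8224, nat_lit 13552, nat_lit 17600, nat_lit 26240, nat_lit 28928, nat_lit 33792, nat_lit 41684, nat_lit 37167, nat_lit 33394, nat_lit 29780, nat_lit 24869, nat_lit 20569, nat_lit 16460, nat_lit 12290, nat_lit 8208, nat_lit 32]⟩⟩⟩,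
  ⟨[nat_lit 21, nat_lit 28, nat_lit 637, nat_lit 26, nat_lit 31], [], (nat_lit 338), ⟨[nat_lit 8, nat_lit 46], [nat_lit 0, nat_lit 32, nat_lit 56], ⟨[nat_lit 0x858ec6b80854c51add23a11f22982b], [nat_lit 174080, nat_lit 169984, nat_lit 167424, nat_lit 163200, nat_lit 157248, nat_lit 154624, nat_lit 151232, nat_lit 144784, nat_lit 143120, nat_lit 136812, nat_lit 132020, nat_lit 986, nat_lit 6068, nat_lit 9136, nat_lit 13824, nat_lit 16832, nat_lit 20928, nat_lit 24704, nat_lit 29696, nat_lit 34304, nat_lit 37888, nat_lit 41812, nat_lit 38223, nat_lit 33880, nat_lit 28716, nat_lit 25616, nat_lit 20610, nat_lit 16911, nat_lit 12322, nat_lit 512]⟩⟩⟩]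
theorem rQ7 : Suf yT 524288 wQ [yT.get 41] 0 := Suf.seg (l := l666) (by decide +kernel) s667


end

end CF.Mon.Tr
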