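import Cfsg.Agent.Mon.YW

set_option autoImplicit false
set_option maxRecDepth 100000

namespace CF.Mon.Tr

open CF.Comp

noncomputable section

def p672 : AP := ⟨[nat_lit 72, nat_lit 66], [], (nat_lit 126), ⟨[nat_lit 22, nat_lit 55], [nat_lit 0, nat_lit 76, nat_lit 48], ⟨[nat_lit 0x1392b9a2a609185b5c6f6c24054687], [nat_lit 168448, nat_lit 165888, nat_lit 161664, nat_lit 156864, nat_lit 153408, nat_lit 147776, nat_lit 144152, nat_lit 135970, nat_lit 131585, nat_lit 1438, nat_lit 5564, nat_lit 8328, nat_lit 13536, nat_lit 17344, nat_lit 20992, nat_lit 25600, nat_lit 29440, nat_lit 41280, nat_lit 37173, nat_lit 32904, nat_lit 28936, nat_lit 25600, nat_lit 21019, nat_lit 16902, nat_lit 12323, nat_lit 8201, nat_lit 4113]⟩⟩⟩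
def p673 : AP := ⟨[nat_lit 71, nat_lit 49, nat_lit 46, nat_lit 640], [], (nat_lit 368), ⟨[nat_lit 0, nat_lit 31, nat_lit 91], [nat_lit 71, nat_lit 65], ⟨[nat_lit 0x3326d5c92538411aa9e2b1217a0dc8], [nat_lit 173056, nat_lit 168448, nat_lit 164864, nat_lit 161152, nat_lit 156672, nat_lit 152800, nat_lit 147536, nat_lit 143792, nat_lit 140124, nat_lit 135178, nat_lit 131208, nat_lit 1396, nat_lit 4720, nat_lit 8200, nat_lit 13488, nat_lit 17824, nat_lit 24704, nat_lit 41392, nat_lit 37134, nat_lit 32796, nat_lit 28736, nat_lit 24704, nat_lit 20489, nat_lit 16653, nat_lit 12321, nat_lit 8448, nat_lit 4608, nat_lit 16]⟩⟩⟩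
def p674 : AP := ⟨[], [], (nat_lit 404), ⟨[nat_lit 78, nat_lit 62], [nat_lit 31, nat_lit 67], ⟨[nat_lit 0xa5a35325c362c0713545bce5078488], [nat_lit 175104, nat_lit 169472, nat_lit 166912, nat_lit 162432, nat_lit 158592, nat_lit 152256, nat_lit 148000, nat_lit 144208, nat_lit 142460, nat_lit 138400, nat_lit 133053, nat_lit 2018, nat_lit 5588, nat_lit 9664, nat_lit 14192, nat_lit 16448, nat_lit 22016, nat_lit 24832, nat_lit 41743, nat_lit 37993, nat_lit 32978, nat_lit 28928, nat_lit 24618, nat_lit 20569, nat_lit 16386, nat_lit 12290, nat_lit 32]⟩⟩⟩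
def p675 : AP := ⟨[nat_lit 643, nat_lit 641, nat_lit 69, nat_lit 66], [], (nat_lit 1046), ⟨[nat_lit 35, nat_lit 93], [nat_lit 0, nat_lit 10, nat_lit 56], ⟨[nat_lit 0x158049c4d52ddae0c92f60d7051d14], [nat_lit 173056, nat_lit 171008, nat_lit 165120, nat_lit 160000, nat_lit 156864, nat_lit 153248, nat_lit 148560, nat_lit 143576, nat_lit 139268, nat_lit 136456, nat_lit 131625, nat_lit 1214, nat_lit 4824, nat_lit 9096, nat_lit 14144, nat_lit 16448, nat_lit 20544, nat_lit 24960, nat_lit 33280, nat_lit 37888, nat_lit 41160, nat_lit 33000, nat_lit 29034, nat_lit 24893, nat_lit 20760, nat_lit 16416, nat_lit 12549, nat_lit 8200, nat_lit 4224, nat_lit 4]⟩⟩⟩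
def p676 : AP := ⟨[nat_lit 68], [], (nat_lit 122), ⟨[nat_lit 0, nat_lit 43, nat_lit 56], [nat_lit 0, nat_lit 12], ⟨[nat_lit 0x23e4505d47b55b335161708704b228], [nat_lit 174080, nat_lit 165376, nat_lit 159872, nat_lit 159488, nat_lit 154272, nat_lit 150800, nat_lit 144200, nat_lit 143160, nat_lit 136082, nat_lit 133190, nat_lit 1396, nat_lit 4924, nat_lit 8400, nat_lit 14320, nat_lit 18336, nat_lit 21248, nat_lit 25088, nat_lit 29184, nat_lit 33280, nat_lit 37888, nat_lit 41333, nat_lit 37034, nat_lit 32959, nat_lit 29030, nat_lit 24735, nat_lit 20766, nat_lit 16520, nat_lit 12291, nat_lit 8257, nat_lit 4100]⟩⟩⟩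
def l677 : List AP := [⟨[nat_lit 16, nat_lit 39], [], (nat_lit 1032), ⟨[nat_lit 0, nat_lit 67], [nat_lit 25, nat_lit 56], ⟨[nat_lit 0x7d08d64d218de05158c3938085d547], [nat_lit 173056, nat_lit 169984, nat_lit 164352, nat_lit 161408, nat_lit 159616, nat_lit 151840, nat_lit 148368, nat_lit 146584, nat_lit 141944, nat_lit 137532, nat_lit 133632, nat_lit 1860, nat_lit 4436, nat_lit 9384, nat_lit 12416, nat_lit 16864, nat_lit 22272, nat_lit 24704, nat_lit 29952, nat_lit 33792, nat_lit 37888, nat_lit 41451, nat_lit 37093, nat_lit 33908, nat_lit 28794, nat_lit 24755, nat_lit 20510, nat_lit 16391, nat_lit 12327, nat_lit 4113, nat_lit 8]⟩⟩⟩]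
theorem s677 : Suf yT 1048576 (ldrop wQ 37) (apW dcM p676) (tgtN dcM p676.e) := Suf.fin' (l := l677) (by decide +kernel)
def l676 : List AP := [⟨[], [], (nat_lit 396), ⟨[nat_lit 0, nat_lit 28, nat_lit 48], [nat_lit 78, nat_lit 59], ⟨[nat_lit 0x1140e9c0ccb5da49068aa8d717a0e9], [nat_lit 169472, nat_lit 164352, nat_lit 161024, nat_lit 158080, nat_lit 153344, nat_lit 147936, nat_lit 143512, nat_lit 139732, nat_lit 136496, nat_lit 132532, nat_lit 344, nat_lit 5508, nat_lit 9904, nat_lit 14112, nat_lit 16768, nat_lit 22016, nat_lit 25088, nat_lit 30464, nat_lit 34304, nat_lit 37888, nat_lit 41320, nat_lit 36928, nat_lit 34039, nat_lit 28686, nat_lit 24602, nat_lit 21516, nat_lit 16458, nat_lit 8224, nat_lit 4097, nat_lit 2]⟩⟩⟩,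
  ⟨[nat_lit 52, nat_lit 51], [], (nat_lit 126), ⟨[nat_lit 75, nat_lit 91], [nat_lit 88, nat_lit 48], ⟨[nat_lit 0xa6a2938e345dec2cc0d8aed025146], [nat_lit 175104, nat_lit 171008, nat_lit 165888, nat_lit 161792, nat_lit 155776, nat_lit 154016, nat_lit 151040, nat_lit 145048, nat_lit 142164, nat_lit 136040, nat_lit 132200, nat_lit 786, nat_lit 5544, nat_lit 10128, nat_lit 12304, nat_lit 18368, nat_lit 20544, nat_lit 25472, nat_lit 30464, nat_lit 34304, nat_lit 41622, nat_lit 38015, nat_lit 32931, nat_lit 28775, nat_lit 24731, nat_lit 20496, nat_lit 16420, nat_lit 12352, nat_lit 4224, nat_lit 2]⟩⟩⟩]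
theorem s676 : Suf yT 1048576 (ldrop wQ 29) (apW dcM p675) (tgtN dcM p675.e) := Suf.seg (l := l676) (by decide +kernel) s677
def l675 : List AP := [⟨[nat_lit 172, nat_lit 175, nat_lit 179], [], (nat_lit 400), ⟨[nat_lit 0, nat_lit 77, nat_lit 51], [nat_lit 0, nat_lit 44], ⟨[nat_lit 0x45994291aba9a0200d2f92a2e386f3], [nat_lit 169472, nat_lit 165632, nat_lit 161664, nat_lit 155904, nat_lit 153408, nat_lit 150656, nat_lit 145064, nat_lit 139916, nat_lit 137094, nat_lit 131140, nat_lit 606, nat_lit 5688, nat_lit 8584, nat_lit 12528, nat_lit 18112, nat_lit 22208, nat_lit 25984, nat_lit 30208, nat_lit 37888, nat_lit 41493, nat_lit 38334, nat_lit 32904, nat_lit 29016, nat_lit 24626, nat_lit 20496, nat_lit 16396, nat_lit 12309, nat_lit 8210, nat_lit 4097]⟩⟩⟩,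
  ⟨[nat_lit 178, nat_lit 172, nat_lit 174], [], (nat_lit 1088), ⟨[nat_lit 0, nat_lit 14, nat_lit 90], [nat_lit 0, nat_lit 83, nat_lit 56], ⟨[nat_lit 0x2b0478d5266a80b905f3412171d1d6], [nat_lit 175104, nat_lit 171520, nat_lit 164864, nat_lit 162560, nat_lit 158464, nat_lit 155168, nat_lit 149184, nat_lit 144024, nat_lit 141296, nat_lit 138386, nat_lit 133337, nat_lit 1292, nat_lit 5208, nat_lit 10128, nat_lit 12320, nat_lit 16736, nat_lit 20928, nat_lit 25984, nat_lit 28928, nat_lit 34304, nat_lit 37888, nat_lit 41943, nat_lit 36873, nat_lit 33899, nat_lit 28711, nat_lit 24615, nat_lit 20555, nat_lit 16398, nat_lit 12295, nat_lit 8195, nat_lit 4097, nat_lit 2]⟩⟩⟩]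
theorem s675 : Suf yT 1048576 (ldrop wQ 23) (apW dcM p674) (tgtN dcM p674.e) := Suf.seg (l := l675) (by decide +kernel) s676
def l674 : List AP := [⟨[nat_lit 172, nat_lit 215, nat_lit 171], [], (nat_lit 400), ⟨[nat_lit 91], [nat_lit 17, nat_lit 60], ⟨[nat_lit 0x45e2e1994b6858401650a4de938ad5], [nat_lit 175104, nat_lit 164352, nat_lit 161280, nat_lit 157248, nat_lit 152128, nat_lit 149376, nat_lit 144480, nat_lit 139272, nat_lit 136304, nat_lit 131375, nat_lit 738, nat_lit 5208, nat_lit 9216, nat_lit 13936, nat_lit 16448, nat_lit 22464, nat_lit 26240, nat_lit 29440, nat_lit 41373, nat_lit 37361, nat_lit 32960, nat_lit 28760, nat_lit 24730, nat_lit 20500, nat_lit 16426, nat_lit 12293, nat_lit 4097]⟩⟩⟩,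
  ⟨[nat_lit 170, nat_lit 177, nat_lit 217], [], (nat_lit 405), ⟨[nat_lit 0, nat_lit 72, nat_lit 57], [nat_lit 0, nat_lit 33, nat_lit 64], ⟨[nat_lit 0xa3227341d7b2c156890f1ce492902a], [nat_lit 165632, nat_lit 158656, nat_lit 152832, nat_lit 148416, nat_lit 144240, nat_lit 140904, nat_lit 135888, nat_lit 131157, nat_lit 1874, nat_lit 4160, nat_lit 9616, nat_lit 14032, nat_lit 16448, nat_lit 22016, nat_lit 24704, nat_lit 34304, nat_lit 41693, nat_lit 37945, nat_lit 32952, nat_lit 28736, nat_lit 24631, nat_lit 20570, nat_lit 16390, nat_lit 12325, nat_lit 8210]⟩⟩⟩]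
theorem s674 : Suf yT 1048576 (ldrop wQ 14) (apW dcM p673) (tgtN dcM p673.e) := Suf.seg (l := l674) (by decide +kernel) s675
def l673 : List AP := [⟨[nat_lit 70, nat_lit 51, nat_lit 53, nat_lit 66], [], (nat_lit 1046), ⟨[nat_lit 73, nat_lit 55], [nat_lit 26, nat_lit 89], ⟨[nat_lit 0x51aae18261b21a47dd27a2cac14650], [nat_lit 173056, nat_lit 169472, nat_lit 164608, nat_lit 159872, nat_lit 155712, nat_lit 152064, nat_lit 147472, nat_lit 145304, nat_lit 140800, nat_lit 135832, nat_lit 133383, nat_lit 64, nat_lit 4412, nat_lit 8704, nat_lit 12592, nat_lit 17824, nat_lit 21952, nat_lit 25088, nat_lit 29184, nat_lit 33792, nat_lit 37888, nat_lit 41831, nat_lit 37074, nat_lit 33797, nat_lit 28737, nat_lit 24591, nat_lit 20759, nat_lit 16422, nat_lit 12354, nat_lit 8200, nat_lit 4112]⟩⟩⟩,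
  ⟨[], [], (nat_lit 396), ⟨[nat_lit 0, nat_lit 81, nat_lit 90], [nat_lit 16, nat_lit 62], ⟨[nat_lit 0x55aa41b274321aebbe020aca03ca29], [nat_lit 173056, nat_lit 168960, nat_lit 166912, nat_lit 160128, nat_lit 157056, nat_lit 154432, nat_lit 150656, nat_lit 146200, nat_lit 142972, nat_lit 139042, nat_lit 131621, nat_lit 344, nat_lit 4924, nat_lit 13552, nat_lit 17824, nat_lit 22400, nat_lit 24832, nat_lit 29184, nat_lit 33792, nat_lit 41060, nat_lit 37369, nat_lit 33535, nat_lit 28674, nat_lit 25115, nat_lit 20498, nat_lit 16425, nat_lit 12289, nat_lit 8448, nat_lit 8]⟩⟩⟩]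
theorem s673 : Suf yT 1048576 (ldrop wQ 6) (apW dcM p672) (tgtN dcM p672.e) := Suf.seg (l := l673) (by decide +kernel) s674
def l672 : List AP := [⟨[nat_lit 626, nat_lit 628, nat_lit 625, nat_lit 626, nat_lit 2, nat_lit 11], [], (nat_lit 26), ⟨[nat_lit 0, nat_lit 35, nat_lit 69], [nat_lit 0, nat_lit 86, nat_lit 68], ⟨[nat_lit 0x93957600cda2df02d4760c4f342444], [nat_lit 173056, nat_lit 169472, nat_lit 165120, nat_lit 161664, nat_lit 157632, nat_lit 151808, nat_lit 148848, nat_lit 143560, nat_lit 139776, nat_lit 136140, nat_lit 134952, nat_lit 16, nat_lit 5568, nat_lit 8208, nat_lit 13952, nat_lit 16640, nat_lit 21568, nat_lit 25984, nat_lit 30208, nat_lit 34304, nat_lit 41233, nat_lit 37137, nat_lit 33513, nat_lit 28982, nat_lit 24754, nat_lit 20484, nat_lit 16398, nat_lit 12311, nat_lit 8195, nat_lit 4100]⟩⟩⟩,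
  ⟨[nat_lit 39, nat_lit 43, nat_lit 42, nat_lit 630, nat_lit 15, nat_lit 15], [], (nat_lit 90), ⟨[nat_lit 85, nat_lit 50], [nat_lit 33, nat_lit 65], ⟨[nat_lit 0x8cef411ca05b14db56504b9e8204c3], [nat_lit 174080, nat_lit 169472, nat_lit 164096, nat_lit 161920, nat_lit 151584, nat_lit 151024, nat_lit 145456, nat_lit 142216, nat_lit 138198, nat_lit 134269, nat_lit 1174, nat_lit 5120, nat_lit 9360, nat_lit 12304, nat_lit 16640, nat_lit 20736, nat_lit 25344, nat_lit 29696, nat_lit 34304, nat_lit 41277, nat_lit 37273, nat_lit 33472, nat_lit 29304, nat_lit 24767, nat_lit 20505, nat_lit 16393, nat_lit 12289, nat_lit 8257, nat_lit 4100]⟩⟩⟩]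
theorem rQ8 : Suf yT 1048576 wQ [yT.get 42] 0 := Suf.seg (l := l672) (by decide +kernel) s673

def p678 : AP := ⟨[nat_lit 72, nat_lit 66], [], (nat_lit 126), ⟨[nat_lit 0, nat_lit 8, nat_lit 46], [nat_lit 14, nat_lit 62], ⟨[nat_lit 0xcee542e29964d3312bb11f58a281], [nat_lit 173056, nat_lit 164864, nat_lit 161408, nat_lit 157952, nat_lit 152544, nat_lit 149152, nat_lit 143624, nat_lit 139976, nat_lit 136864, nat_lit 132343, nat_lit 1760, nat_lit 4128, nat_lit 9904, nat_lit 13664, nat_lit 18048, nat_lit 20736, nat_lit 24832, nat_lit 29696, nat_lit 37888, nat_lit 41936, nat_lit 38325, nat_lit 32858, nat_lit 29720, nat_lit 24628, nat_lit 20560, nat_lit 16455, nat_lit 12416, nat_lit 8224, nat_lit 4113, nat_lit 16]⟩⟩⟩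
def p679 : AP := ⟨[nat_lit 56, nat_lit 68, nat_lit 642], [], (nat_lit 121), ⟨[nat_lit 81, nat_lit 89], [nat_lit 73, nat_lit 46], ⟨[nat_lit 0x3dcce7a935022645c8a2a3211b0c2d], [nat_lit 175104, nat_lit 171520, nat_lit 167168, nat_lit 160640, nat_lit 157120, nat_lit 153280, nat_lit 151328, nat_lit 144880, nat_lit 140796, nat_lit 137290, nat_lit 134455, nat_lit 494, nat_lit 5884, nat_lit 9968, nat_lit 14240, nat_lit 17472, nat_lit 22208, nat_lit 25344, nat_lit 33792, nat_lit 41647, nat_lit 38168, nat_lit 32793, nat_lit 29210, nat_lit 24624, nat_lit 20489, nat_lit 16461, nat_lit 12307, nat_lit 8193, nat_lit 4097, nat_lit 2]⟩⟩⟩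
def p680 : AP := ⟨[], [], (nat_lit 131), ⟨[nat_lit 0, nat_lit 36, nat_lit 50], [nat_lit 0, nat_lit 28, nat_lit 69], ⟨[nat_lit 0x48d8e82051b124d02cc77d665baa81], [nat_lit 168448, nat_lit 167680, nat_lit 160256, nat_lit 157056, nat_lit 152320, nat_lit 148576, nat_lit 144664, nat_lit 140820, nat_lit 135240, nat_lit 131144, nat_lit 1808, nat_lit 4128, nat_lit 9024, nat_lit 13840, nat_lit 17504, nat_lit 20608, nat_lit 24832, nat_lit 28928, nat_lit 41011, nat_lit 37188, nat_lit 33499, nat_lit 28719, nat_lit 25092, nat_lit 20635, nat_lit 16420, nat_lit 12418, nat_lit 8202, nat_lit 4101, nat_lit 4]⟩⟩⟩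
def p681 : AP := ⟨[nat_lit 640, nat_lit 51, nat_lit 642, nat_lit 55], [], (nat_lit 1046), ⟨[nat_lit 18, nat_lit 63], [nat_lit 0, nat_lit 85, nat_lit 93], ⟨[nat_lit 0xa314d4d8c78088ebae710542878cb2], [nat_lit 173056, nat_lit 171520, nat_lit 163200, nat_lit 157184, nat_lit 155552, nat_lit 149952, nat_lit 146432, nat_lit 141028, nat_lit 137012, nat_lit 134172, nat_lit 696, nat_lit 5796, nat_lit 9048, nat_lit 14176, nat_lit 17280, nat_lit 22336, nat_lit 26112, nat_lit 28928, nat_lit 33280, nat_lit 37888, nat_lit 41958, nat_lit 38375, nat_lit 34023, nat_lit 29817, nat_lit 25636, nat_lit 20492, nat_lit 16526, nat_lit 12289, nat_lit 8225, nat_lit 4161]⟩⟩⟩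
def p682 : AP := ⟨[nat_lit 68], [], (nat_lit 122), ⟨[nat_lit 27, nat_lit 54], [nat_lit 7, nat_lit 58], ⟨[nat_lit 0x5a8961c9e861eee48a6da1a110d405], [nat_lit 168960, nat_lit 164352, nat_lit 160768, nat_lit 156736, nat_lit 153536, nat_lit 147472, nat_lit 144064, nat_lit 139392, nat_lit 136168, nat_lit 132410, nat_lit 128, nat_lit 5856, nat_lit 8680, nat_lit 13520, nat_lit 16800, nat_lit 22208, nat_lit 24832, nat_lit 28928, nat_lit 36888, nat_lit 32901, nat_lit 28997, nat_lit 24704, nat_lit 20489, nat_lit 16904, nat_lit 12323, nat_lit 8450, nat_lit 4100, nat_lit 2]⟩⟩⟩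
def l683 : List AP := [⟨[nat_lit 36, nat_lit 39], [], (nat_lit 1032), ⟨[nat_lit 88, nat_lit 60], [nat_lit 45, nat_lit 56], ⟨[nat_lit 0xbb1e9838041c4cd3957494d5610515], [nat_lit 174080, nat_lit 169984, nat_lit 167168, nat_lit 163456, nat_lit 157120, nat_lit 154688, nat_lit 151536, nat_lit 143688, nat_lit 143228, nat_lit 135876, nat_lit 132991, nat_lit 342, nat_lit 4352, nat_lit 9904, nat_lit 13024, nat_lit 18336, nat_lit 21056, nat_lit 25728, nat_lit 29184, nat_lit 33792, nat_lit 41437, nat_lit 37283, nat_lit 32996, nat_lit 28753, nat_lit 24628, nat_lit 20550, nat_lit 16395, nat_lit 12307, nat_lit 8194, nat_lit 4100]⟩⟩⟩]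
theorem s683 : Suf yT 2097152 (ldrop wQ 37) (apW dcM p682) (tgtN dcM p682.e) := Suf.fin' (l := l683) (by decide +kernel)
def l682 : List AP := [⟨[], [], (nat_lit 396), ⟨[nat_lit 0, nat_lit 45, nat_lit 59], [nat_lit 0, nat_lit 6, nat_lit 57], ⟨[nat_lit 0xa414e4a0c06088d5de4f3d43689473], [nat_lit 166912, nat_lit 161024, nat_lit 157376, nat_lit 153056, nat_lit 147584, nat_lit 145224, nat_lit 140908, nat_lit 136334, nat_lit 131126, nat_lit 846, nat_lit 4604, nat_lit 10032, nat_lit 12800, nat_lit 16544, nat_lit 21952, nat_lit 26240, nat_lit 29184, nat_lit 33280, nat_lit 37888, nat_lit 41597, nat_lit 37120, nat_lit 32936, nat_lit 29030, nat_lit 24733, nat_lit 20748, nat_lit 16456, nat_lit 12307, nat_lit 8224, nat_lit 4113]⟩⟩⟩,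
  ⟨[nat_lit 53], [], (nat_lit 126), ⟨[nat_lit 0, nat_lit 9, nat_lit 60], [nat_lit 0, nat_lit 34, nat_lit 59], ⟨[nat_lit 0x1c28b5526a0dd122d8f9960a6de42], [nat_lit 174080, nat_lit 171520, nat_lit 165376, nat_lit 163328, nat_lit 158336, nat_lit 153760, nat_lit 147536, nat_lit 144232, nat_lit 139796, nat_lit 137788, nat_lit 134766, nat_lit 1766, nat_lit 4752, nat_lit 13712, nat_lit 16864, nat_lit 22400, nat_lit 25600, nat_lit 29696, nat_lit 33280, nat_lit 41093, nat_lit 37171, nat_lit 32797, nat_lit 29760, nat_lit 24704, nat_lit 21014, nat_lit 12294, nat_lit 8194, nat_lit 4101]⟩⟩⟩]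
theorem s682 : Suf yT 2097152 (ldrop wQ 29) (apW dcM p681) (tgtN dcM p681.e) := Suf.seg (l := l682) (by decide +kernel) s683
def l681 : List AP := [⟨[nat_lit 48, nat_lit 53, nat_lit 47], [], (nat_lit 120), ⟨[nat_lit 0, nat_lit 25, nat_lit 89], [nat_lit 73, nat_lit 57], ⟨[nat_lit 0xb9cc2986155ba4553491a2468b300f], [nat_lit 168960, nat_lit 165632, nat_lit 161024, nat_lit 156288, nat_lit 151936, nat_lit 148192, nat_lit 145048, nat_lit 140816, nat_lit 137662, nat_lit 131893, nat_lit 1896, nat_lit 5992, nat_lit 8504, nat_lit 12976, nat_lit 17600, nat_lit 21824, nat_lit 25472, nat_lit 33280, nat_lit 41932, nat_lit 37082, nat_lit 32794, nat_lit 29304, nat_lit 25123, nat_lit 20559, nat_lit 16394, nat_lit 12291, nat_lit 4097, nat_lit 2]⟩⟩⟩,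
  ⟨[nat_lit 641, nat_lit 46, nat_lit 54], [], (nat_lit 121), ⟨[nat_lit 84, nat_lit 58], [nat_lit 29, nat_lit 46], ⟨[nat_lit 0x35eb4258a76a8704b26013e2b0a24e], [nat_lit 171520, nat_lit 164864, nat_lit 162944, nat_lit 155776, nat_lit 155136, nat_lit 150960, nat_lit 145416, nat_lit 140188, nat_lit 136544, nat_lit 134715, nat_lit 1292, nat_lit 9904, nat_lit 13264, nat_lit 16768, nat_lit 20736, nat_lit 24832, nat_lit 29184, nat_lit 41277, nat_lit 37253, nat_lit 32872, nat_lit 29184, nat_lit 24894, nat_lit 20485, nat_lit 16457, nat_lit 12304, nat_lit 8193, nat_lit 4104]⟩⟩⟩]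
theorem s681 : Suf yT 2097152 (ldrop wQ 23) (apW dcM p680) (tgtN dcM p680.e) := Suf.seg (l := l681) (by decide +kernel) s682
def l680 : List AP := [⟨[nat_lit 50], [], (nat_lit 120), ⟨[nat_lit 10, nat_lit 59], [nat_lit 33, nat_lit 51], ⟨[nat_lit 0x3dcce7a935022645c8a2a3211b0c2d], [nat_lit 174080, nat_lit 171520, nat_lit 166912, nat_lit 160512, nat_lit 157056, nat_lit 153280, nat_lit 151328, nat_lit 144880, nat_lit 140796, nat_lit 137288, nat_lit 134454, nat_lit 494, nat_lit 5884, nat_lit 9968, nat_lit 14240, nat_lit 17472, nat_lit 22208, nat_lit 25344, nat_lit 33792, nat_lit 41647, nat_lit 38168, nat_lit 32793, nat_lit 29210, nat_lit 24624, nat_lit 20489, nat_lit 16461, nat_lit 12307, nat_lit 8193, nat_lit 4097, nat_lit 2]⟩⟩⟩,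
  ⟨[nat_lit 47, nat_lit 47, nat_lit 69, nat_lit 46], [], (nat_lit 130), ⟨[nat_lit 0, nat_lit 7, nat_lit 69], [nat_lit 2], ⟨[nat_lit 0x4d98d8144f1924e580378d6683d146], [nat_lit 173056, nat_lit 168448, nat_lit 165376, nat_lit 163456, nat_lit 157632, nat_lit 151936, nat_lit 148144, nat_lit 144992, nat_lit 141180, nat_lit 136108, nat_lit 131122, nat_lit 786, nat_lit 5884, nat_lit 10152, nat_lit 14144, nat_lit 18400, nat_lit 21504, nat_lit 24704, nat_lit 28928, nat_lit 37888, nat_lit 41873, nat_lit 38013, nat_lit 33367, nat_lit 28693, nat_lit 25092, nat_lit 20555, nat_lit 16517, nat_lit 12357, nat_lit 8201, nat_lit 4128, nat_lit 2]⟩⟩⟩]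
theorem s680 : Suf yT 2097152 (ldrop wQ 14) (apW dcM p679) (tgtN dcM p679.e) := Suf.seg (l := l680) (by decide +kernel) s681
def l679 : List AP := [⟨[nat_lit 51, nat_lit 56, nat_lit 47, nat_lit 72], [], (nat_lit 1046), ⟨[nat_lit 0, nat_lit 24, nat_lit 53], [nat_lit 0, nat_lit 32, nat_lit 90], ⟨[nat_lit 0x58264484d0655cda5ecf2891289c6a], [nat_lit 164352, nat_lit 159872, nat_lit 156416, nat_lit 153376, nat_lit 148576, nat_lit 144384, nat_lit 140544, nat_lit 138294, nat_lit 131369, nat_lit 1808, nat_lit 4104, nat_lit 9096, nat_lit 12800, nat_lit 21824, nat_lit 25088, nat_lit 37888, nat_lit 41862, nat_lit 36874, nat_lit 33956, nat_lit 29708, nat_lit 24586, nat_lit 20760, nat_lit 16416, nat_lit 12290, nat_lit 8193]⟩⟩⟩,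
  ⟨[], [], (nat_lit 396), ⟨[nat_lit 0, nat_lit 82, nat_lit 56], [nat_lit 0, nat_lit 83, nat_lit 93], ⟨[nat_lit 0x5b26d4c8c5055c4bd1518090178cf6], [nat_lit 169472, nat_lit 164352, nat_lit 161664, nat_lit 156160, nat_lit 153088, nat_lit 149472, nat_lit 143768, nat_lit 140260, nat_lit 136198, nat_lit 132663, nat_lit 696, nat_lit 5668, nat_lit 9768, nat_lit 14176, nat_lit 17760, nat_lit 22336, nat_lit 24960, nat_lit 28928, nat_lit 33280, nat_lit 37888, nat_lit 41932, nat_lit 38348, nat_lit 33996, nat_lit 29772, nat_lit 25612, nat_lit 20509, nat_lit 16419, nat_lit 8210, nat_lit 4097]⟩⟩⟩]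
theorem s679 : Suf yT 2097152 (ldrop wQ 6) (apW dcM p678) (tgtN dcM p678.e) := Suf.seg (l := l679) (by decide +kernel) s680
def l678 : List AP := [⟨[nat_lit 2, nat_lit 11, nat_lit 8, nat_lit 9, nat_lit 11, nat_lit 1], [], (nat_lit 26), ⟨[nat_lit 0, nat_lit 44, nat_lit 52], [nat_lit 38, nat_lit 55], ⟨[nat_lit 0x1a12583d57a8ac43b5815d24e98226], [nat_lit 175104, nat_lit 171520, nat_lit 167680, nat_lit 160768, nat_lit 158656, nat_lit 154592, nat_lit 147632, nat_lit 146552, nat_lit 139932, nat_lit 136316, nat_lit 131406, nat_lit 1024, nat_lit 5196, nat_lit 9136, nat_lit 13664, nat_lit 18048, nat_lit 20608, nat_lit 24960, nat_lit 28928, nat_lit 33792, nat_lit 41896, nat_lit 36999, nat_lit 33982, nat_lit 29199, nat_lit 24589, nat_lit 21504, nat_lit 16650, nat_lit 12291, nat_lit 8209, nat_lit 4105, nat_lit 4]⟩⟩⟩,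
  ⟨[nat_lit 629, nat_lit 39, nat_lit 17, nat_lit 632, nat_lit 36], [], (nat_lit 90), ⟨[nat_lit 31, nat_lit 52], [nat_lit 1, nat_lit 50], ⟨[nat_lit 0x4487323ab1135e902af4b320509ccb], [nat_lit 175104, nat_lit 169984, nat_lit 165888, nat_lit 162176, nat_lit 156288, nat_lit 155200, nat_lit 150208, nat_lit 145032, nat_lit 141684, nat_lit 135560, nat_lit 131777, nat_lit 1860, nat_lit 6104, nat_lit 9136, nat_lit 13264, nat_lit 16960, nat_lit 20608, nat_lit 25088, nat_lit 29184, nat_lit 33792, nat_lit 41746, nat_lit 36955, nat_lit 33974, nat_lit 29024, nat_lit 24704, nat_lit 20755, nat_lit 16419, nat_lit 12294, nat_lit 8195, nat_lit 4101, nat_lit 4]⟩⟩⟩]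
theorem rQ9 : Suf yT 2097152 wQ [yT.get 43] 0 := Suf.seg (l := l678) (by decide +kernel) s679

def p684 : AP := ⟨[], [], (nat_lit 393), ⟨[nat_lit 29, nat_lit 57], [nat_lit 73, nat_lit 48], ⟨[nat_lit 0xb39487841748e679459459450234d5], [nat_lit 164096, nat_lit 159872, nat_lit 156096, nat_lit 153024, nat_lit 147632, nat_lit 143368, nat_lit 139812, nat_lit 138676, nat_lit 132311, nat_lit 1760, nat_lit 5120, nat_lit 8968, nat_lit 12672, nat_lit 16448, nat_lit 20736, nat_lit 25600, nat_lit 30208, nat_lit 33792, nat_lit 37888, nat_lit 41602, nat_lit 38241, nat_lit 32802, nat_lit 28686, nat_lit 24607, nat_lit 20736, nat_lit 16461, nat_lit 12357, nat_lit 8195]⟩⟩⟩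
def p685 : AP := ⟨[nat_lit 660, nat_lit 179, nat_lit 213, nat_lit 170], [], (nat_lit 858), ⟨[nat_lit 20], [nat_lit 81, nat_lit 58], ⟨[nat_lit 0xaa00c95c96345ee5068d2c16999c43], [nat_lit 175104, nat_lit 168960, nat_lit 165120, nat_lit 160128, nat_lit 158272, nat_lit 154208, nat_lit 150752, nat_lit 145112, nat_lit 142940, nat_lit 135586, nat_lit 134749, nat_lit 1148, nat_lit 4324, nat_lit 8200, nat_lit 13296, nat_lit 18112, nat_lit 20800, nat_lit 26240, nat_lit 29696, nat_lit 34304, nat_lit 37888, nat_lit 41017, nat_lit 37033, nat_lit 32808, nat_lit 29286, nat_lit 24580, nat_lit 20763, nat_lit 16395, nat_lit 12309, nat_lit 8194, nat_lit 4101]⟩⟩⟩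
def p686 : AP := ⟨[], [], (nat_lit 818), ⟨[nat_lit 30, nat_lit 56], [nat_lit 21, nat_lit 47], ⟨[nat_lit 0xb41b453d1311d774d48060623338b2], [nat_lit 175104, nat_lit 171520, nat_lit 166400, nat_lit 160384, nat_lit 158656, nat_lit 153664, nat_lit 147472, nat_lit 146600, nat_lit 139524, nat_lit 137032, nat_lit 132608, nat_lit 590, nat_lit 4812, nat_lit 8408, nat_lit 13152, nat_lit 16736, nat_lit 21504, nat_lit 26368, nat_lit 29184, nat_lit 33280, nat_lit 37888, nat_lit 41086, nat_lit 37128, nat_lit 33411, nat_lit 28931, nat_lit 25655, nat_lit 20488, nat_lit 17422, nat_lit 4353, nat_lit 64]⟩⟩⟩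
def p687 : AP := ⟨[nat_lit 178, nat_lit 217], [], (nat_lit 419), ⟨[nat_lit 0, nat_lit 85, nat_lit 91], [nat_lit 0, nat_lit 36, nat_lit 93], ⟨[nat_lit 0x1530bb4e6a3e7262ea87047620a2a], [nat_lit 169472, nat_lit 167168, nat_lit 162176, nat_lit 158336, nat_lit 154272, nat_lit 146808, nat_lit 143036, nat_lit 135680, nat_lit 133197, nat_lit 1298, nat_lit 5884, nat_lit 8704, nat_lit 12304, nat_lit 16704, nat_lit 21632, nat_lit 25856, nat_lit 29440, nat_lit 33280, nat_lit 37888, nat_lit 41325, nat_lit 37086, nat_lit 32771, nat_lit 29189, nat_lit 24728, nat_lit 21518, nat_lit 16388, nat_lit 12416, nat_lit 8195, nat_lit 4097, nat_lit 2]⟩⟩⟩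
def p688 : AP := ⟨[nat_lit 214, nat_lit 170], [], (nat_lit 390), ⟨[nat_lit 35, nat_lit 70], [nat_lit 0, nat_lit 86, nat_lit 91], ⟨[nat_lit 0x331e1459b2a8cf4240514814575d73], [nat_lit 173056, nat_lit 170496, nat_lit 165376, nat_lit 162432, nat_lit 157056, nat_lit 153824, nat_lit 150672, nat_lit 146296, nat_lit 140120, nat_lit 136312, nat_lit 134513, nat_lit 404, nat_lit 4340, nat_lit 9928, nat_lit 13456, nat_lit 18144, nat_lit 21120, nat_lit 26368, nat_lit 33280, nat_lit 41128, nat_lit 37132, nat_lit 33385, nat_lit 28790, nat_lit 24613, nat_lit 20558, nat_lit 16515, nat_lit 12289, nat_lit 4097, nat_lit 2]⟩⟩⟩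
def l689 : List AP := [⟨[], [], (nat_lit 1034), ⟨[nat_lit 78, nat_lit 67], [nat_lit 0, nat_lit 33, nat_lit 89], ⟨[nat_lit 0x8d02e33daab2ee5acd8224a0938103], [nat_lit 174080, nat_lit 171008, nat_lit 167168, nat_lit 161408, nat_lit 158720, nat_lit 155040, nat_lit 148032, nat_lit 147088, nat_lit 140872, nat_lit 136242, nat_lit 132542, nat_lit 8, nat_lit 5524, nat_lit 10168, nat_lit 13920, nat_lit 16704, nat_lit 22336, nat_lit 25344, nat_lit 29440, nat_lit 33792, nat_lit 41224, nat_lit 37173, nat_lit 33441, nat_lit 29020, nat_lit 24759, nat_lit 20484, nat_lit 16394, nat_lit 12291, nat_lit 8225, nat_lit 4105, nat_lit 4]⟩⟩⟩]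
theorem s689 : Suf yT 4194304 (ldrop wQ 37) (apW dcM p688) (tgtN dcM p688.e) := Suf.fin' (l := l689) (by decide +kernel)
def l688 : List AP := [⟨[], [], (nat_lit 418), ⟨[nat_lit 85, nat_lit 91], [nat_lit 0, nat_lit 86, nat_lit 63], ⟨[nat_lit 0x5132bd8ee2be705b1443046d44455], [nat_lit 173056, nat_lit 171008, nat_lit 164352, nat_lit 161920, nat_lit 156928, nat_lit 154272, nat_lit 150928, nat_lit 146536, nat_lit 141304, nat_lit 135238, nat_lit 133704, nat_lit 1766, nat_lit 5208, nat_lit 8704, nat_lit 12544, nat_lit 16704, nat_lit 21696, nat_lit 24832, nat_lit 30208, nat_lit 41501, nat_lit 37374, nat_lit 33449, nat_lit 29297, nat_lit 24868, nat_lit 20564, nat_lit 16388, nat_lit 12416, nat_lit 8195, nat_lit 4097, nat_lit 2]⟩⟩⟩,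
  ⟨[nat_lit 217], [], (nat_lit 393), ⟨[nat_lit 0, nat_lit 7, nat_lit 55], [nat_lit 45, nat_lit 65], ⟨[nat_lit 0xbadaf4c275744071851461242328b6], [nat_lit 168960, nat_lit 164608, nat_lit 157760, nat_lit 152032, nat_lit 149040, nat_lit 143784, nat_lit 140928, nat_lit 136180, nat_lit 132308, nat_lit 760, nat_lit 5480, nat_lit 8320, nat_lit 13152, nat_lit 16864, nat_lit 21504, nat_lit 24704, nat_lit 33280, nat_lit 41904, nat_lit 37935, nat_lit 33407, nat_lit 28736, nat_lit 24595, nat_lit 20744, nat_lit 16455, nat_lit 12320, nat_lit 8211, nat_lit 4101]⟩⟩⟩]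
theorem s688 : Suf yT 4194304 (ldrop wQ 29) (apW dcM p687) (tgtN dcM p687.e) := Suf.seg (l := l688) (by decide +kernel) s689
def l687 : List AP := [⟨[nat_lit 464, nat_lit 416, nat_lit 416], [], (nat_lit 941), ⟨[nat_lit 23, nat_lit 61], [nat_lit 0, nat_lit 3, nat_lit 57], ⟨[nat_lit 0x99c20a929254105b384b7a477644cd], [nat_lit 168448, nat_lit 165120, nat_lit 160768, nat_lit 156992, nat_lit 152064, nat_lit 150480, nat_lit 144944, nat_lit 139972, nat_lit 136288, nat_lit 132062, nat_lit 508, nat_lit 5436, nat_lit 9208, nat_lit 12672, nat_lit 17408, nat_lit 20992, nat_lit 26368, nat_lit 29952, nat_lit 37888, nat_lit 41066, nat_lit 36912, nat_lit 32910, nat_lit 28696, nat_lit 25658, nat_lit 20997, nat_lit 16393, nat_lit 12307, nat_lit 8225, nat_lit 4104]⟩⟩⟩,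
  ⟨[nat_lit 676, nat_lit 675, nat_lit 413, nat_lit 416], [], (nat_lit 1236), ⟨[nat_lit 0, nat_lit 19, nat_lit 63], [nat_lit 19, nat_lit 48], ⟨[nat_lit 0xb52e521cd50c5cb98d2d449e250190], [nat_lit 174080, nat_lit 168448, nat_lit 164352, nat_lit 163456, nat_lit 156160, nat_lit 152384, nat_lit 149888, nat_lit 145744, nat_lit 142904, nat_lit 138366, nat_lit 135037, nat_lit 1246, nat_lit 4476, nat_lit 9832, nat_lit 13248, nat_lit 16864, nat_lit 21760, nat_lit 24704, nat_lit 30208, nat_lit 41665, nat_lit 37057, nat_lit 32998, nat_lit 28943, nat_lit 24628, nat_lit 20565, nat_lit 16457, nat_lit 12305, nat_lit 8202, nat_lit 4097]⟩⟩⟩]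
theorem s687 : Suf yT 4194304 (ldrop wQ 23) (apW dcM p686) (tgtN dcM p686.e) := Suf.seg (l := l687) (by decide +kernel) s688
def l686 : List AP := [⟨[], [], (nat_lit 941), ⟨[nat_lit 0, nat_lit 33, nat_lit 66], [nat_lit 0, nat_lit 40, nat_lit 56], ⟨[nat_lit 0x92417245b34196f130a3a1ece806aa], [nat_lit 173056, nat_lit 171008, nat_lit 164352, nat_lit 160512, nat_lit 157632, nat_lit 152288, nat_lit 148144, nat_lit 145392, nat_lit 139756, nat_lit 137086, nat_lit 132733, nat_lit 1298, nat_lit 5104, nat_lit 9280, nat_lit 13136, nat_lit 16864, nat_lit 21760, nat_lit 25088, nat_lit 33792, nat_lit 37888, nat_lit 41597, nat_lit 38018, nat_lit 32952, nat_lit 28979, nat_lit 24589, nat_lit 20503, nat_lit 16388, nat_lit 12357, nat_lit 8210, nat_lit 4101]⟩⟩⟩,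
  ⟨[nat_lit 418, nat_lit 675, nat_lit 675, nat_lit 464], [], (nat_lit 1226), ⟨[nat_lit 0, nat_lit 3, nat_lit 65], [nat_lit 0, nat_lit 73, nat_lit 55], ⟨[nat_lit 0xb09b750d0c81d74aa6469862f015c4], [nat_lit 169472, nat_lit 164096, nat_lit 161152, nat_lit 156096, nat_lit 152256, nat_lit 149424, nat_lit 146368, nat_lit 139712, nat_lit 136316, nat_lit 132099, nat_lit 16, nat_lit 5768, nat_lit 9440, nat_lit 12304, nat_lit 18400, nat_lit 22336, nat_lit 25344, nat_lit 29184, nat_lit 33792, nat_lit 37888, nat_lit 41090, nat_lit 37304, nat_lit 33280, nat_lit 28728, nat_lit 24590, nat_lit 20509, nat_lit 16429, nat_lit 12289, nat_lit 8225, nat_lit 4160, nat_lit 8]⟩⟩⟩]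
theorem s686 : Suf yT 4194304 (ldrop wQ 14) (apW dcM p685) (tgtN dcM p685.e) := Suf.seg (l := l686) (by decide +kernel) s687
def l685 : List AP := [⟨[nat_lit 180, nat_lit 216], [], (nat_lit 418), ⟨[nat_lit 87, nat_lit 94], [nat_lit 73, nat_lit 53], ⟨[nat_lit 0x51013a34c5b3a12606e27a1353ae23], [nat_lit 166400, nat_lit 161792, nat_lit 157952, nat_lit 154912, nat_lit 149248, nat_lit 147448, nat_lit 141984, nat_lit 135982, nat_lit 134602, nat_lit 484, nat_lit 4568, nat_lit 9432, nat_lit 13472, nat_lit 16480, nat_lit 22144, nat_lit 29184, nat_lit 37888, nat_lit 41769, nat_lit 36905, nat_lit 33820, nat_lit 28783, nat_lit 24710, nat_lit 20506, nat_lit 16420, nat_lit 12290, nat_lit 8209, nat_lit 4100]⟩⟩⟩,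
  ⟨[], [], (nat_lit 419), ⟨[nat_lit 0, nat_lit 23, nat_lit 70], [nat_lit 0, nat_lit 34, nat_lit 61], ⟨[nat_lit 0x55812a54cf23a130b0672a12d14577], [nat_lit 174080, nat_lit 169984, nat_lit 162560, nat_lit 158080, nat_lit 154912, nat_lit 147712, nat_lit 145080, nat_lit 139640, nat_lit 139048, nat_lit 133389, nat_lit 1966, nat_lit 4756, nat_lit 9032, nat_lit 12608, nat_lit 17600, nat_lit 22016, nat_lit 24960, nat_lit 28928, nat_lit 37888, nat_lit 41733, nat_lit 36869, nat_lit 33905, nat_lit 28695, nat_lit 24857, nat_lit 20552, nat_lit 16394, nat_lit 12289, nat_lit 8193, nat_lit 4097, nat_lit 2]⟩⟩⟩]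
theorem s685 : Suf yT 4194304 (ldrop wQ 6) (apW dcM p684) (tgtN dcM p684.e) := Suf.seg (l := l685) (by decide +kernel) s686
def l684 : List AP := [⟨[nat_lit 6, nat_lit 626, nat_lit 627, nat_lit 8, nat_lit 4, nat_lit 2], [], (nat_lit 40), ⟨[nat_lit 0, nat_lit 78, nat_lit 68], [nat_lit 40, nat_lit 63], ⟨[nat_lit 0xa31ab905c7a8869416c4546f33400f], [nat_lit 173056, nat_lit 165376, nat_lit 161152, nat_lit 157440, nat_lit 153088, nat_lit 148352, nat_lit 145192, nat_lit 139576, nat_lit 138266, nat_lit 131678, nat_lit 1896, nat_lit 5992, nat_lit 8712, nat_lit 13152, nat_lit 17632, nat_lit 20992, nat_lit 25600, nat_lit 30464, nat_lit 41482, nat_lit 37948, nat_lit 33018, nat_lit 28799, nat_lit 24637, nat_lit 20549, nat_lit 16421, nat_lit 12290, nat_lit 8211, nat_lit 4097, nat_lit 2]⟩⟩⟩,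
  ⟨[nat_lit 21, nat_lit 25, nat_lit 30, nat_lit 636, nat_lit 28, nat_lit 30], [], (nat_lit 338), ⟨[nat_lit 79, nat_lit 63], [nat_lit 0, nat_lit 81, nat_lit 50], ⟨[nat_lit 0x855ed4ceeb39ad1538059068223068], [nat_lit 171008, nat_lit 165632, nat_lit 160512, nat_lit 159168, nat_lit 153120, nat_lit 149440, nat_lit 146920, nat_lit 142332, nat_lit 138184, nat_lit 134896, nat_lit 846, nat_lit 4404, nat_lit 8200, nat_lit 12304, nat_lit 16640, nat_lit 20800, nat_lit 25216, nat_lit 29184, nat_lit 33280, nat_lit 37888, nat_lit 41967, nat_lit 38121, nat_lit 32897, nat_lit 28769, nat_lit 24710, nat_lit 20553, nat_lit 16397, nat_lit 12308, nat_lit 8210, nat_lit 4100]⟩⟩⟩]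
theorem rQ10 : Suf yT 4194304 wQ [yT.get 44] 0 := Suf.seg (l := l684) (by decide +kernel) s685

def p690 : AP := ⟨[], [], (nat_lit 255), ⟨[nat_lit 88, nat_lit 53], [nat_lit 9, nat_lit 65], ⟨[nat_lit 0x5de2735a69a111208d8273da0ac0aa], [nat_lit 173056, nat_lit 171520, nat_lit 164352, nat_lit 162176, nat_lit 156608, nat_lit 155584, nat_lit 151344, nat_lit 145744, nat_lit 140620, nat_lit 136716, nat_lit 133148, nat_lit 1938, nat_lit 5544, nat_lit 9032, nat_lit 13120, nat_lit 16864, nat_lit 21312, nat_lit 24704, nat_lit 28928, nat_lit 41835, nat_lit 38109, nat_lit 32911, nat_lit 29043, nat_lit 24613, nat_lit 20547, nat_lit 16392, nat_lit 12306, nat_lit 8225, nat_lit 4097, nat_lit 2]⟩⟩⟩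
def p691 : AP := ⟨[nat_lit 115, nat_lit 110, nat_lit 134], [], (nat_lit 259), ⟨[nat_lit 9, nat_lit 65], [nat_lit 0, nat_lit 43, nat_lit 68], ⟨[nat_lit 0x20a3595c25531686a5cf34ec0a40e3], [nat_lit 174080, nat_lit 165120, nat_lit 160384, nat_lit 158016, nat_lit 154080, nat_lit 150896, nat_lit 144672, nat_lit 143320, nat_lit 135214, nat_lit 133220, nat_lit 1148, nat_lit 4328, nat_lit 9272, nat_lit 12320, nat_lit 17024, nat_lit 22208, nat_lit 26112, nat_lit 30208, nat_lit 34304, nat_lit 37888, nat_lit 41554, nat_lit 36899, nat_lit 32929, nat_lit 28724, nat_lit 24617, nat_lit 20559, nat_lit 16520, nat_lit 12289, nat_lit 8209]⟩⟩⟩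
def p692 : AP := ⟨[], [], (nat_lit 259), ⟨[nat_lit 0, nat_lit 71, nat_lit 66], [nat_lit 23, nat_lit 62], ⟨[nat_lit 0xa2251580c5c06439aef6ca7472555], [nat_lit 170496, nat_lit 164608, nat_lit 162176, nat_lit 156224, nat_lit 155008, nat_lit 150480, nat_lit 145992, nat_lit 140048, nat_lit 136022, nat_lit 133473, nat_lit 804, nat_lit 5544, nat_lit 8264, nat_lit 13856, nat_lit 16864, nat_lit 20608, nat_lit 26496, nat_lit 29440, nat_lit 33792, nat_lit 41909, nat_lit 36984, nat_lit 33992, nat_lit 28790, nat_lit 24733, nat_lit 20501, nat_lit 16389, nat_lit 12289, nat_lit 8210, nat_lit 4]⟩⟩⟩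
def p693 : AP := ⟨[nat_lit 116, nat_lit 649, nat_lit 112], [], (nat_lit 254), ⟨[nat_lit 28, nat_lit 93], [nat_lit 0, nat_lit 72, nat_lit 48], ⟨[nat_lit 0x69eebab0c890d49881eeb4282204b3], [nat_lit 173056, nat_lit 166656, nat_lit 160128, nat_lit 156672, nat_lit 153920, nat_lit 150048, nat_lit 146816, nat_lit 142560, nat_lit 137654, nat_lit 131073, nat_lit 880, nat_lit 4540, nat_lit 8504, nat_lit 12576, nat_lit 16512, nat_lit 21056, nat_lit 25344, nat_lit 28928, nat_lit 33280, nat_lit 37888, nat_lit 41666, nat_lit 37250, nat_lit 33516, nat_lit 28770, nat_lit 24736, nat_lit 20508, nat_lit 16398, nat_lit 12308]⟩⟩⟩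
def p694 : AP := ⟨[], [], (nat_lit 217), ⟨[nat_lit 0, nat_lit 86, nat_lit 64], [nat_lit 87, nat_lit 63], ⟨[nat_lit 0x6903695d541cc08494d183d6e3d44c], [nat_lit 174080, nat_lit 164352, nat_lit 160896, nat_lit 158080, nat_lit 153696, nat_lit 149968, nat_lit 145272, nat_lit 142104, nat_lit 135544, nat_lit 135032, nat_lit 1354, nat_lit 4408, nat_lit 9128, nat_lit 12880, nat_lit 18336, nat_lit 21824, nat_lit 25216, nat_lit 29952, nat_lit 33280, nat_lit 41543, nat_lit 37334, nat_lit 32991, nat_lit 28962, nat_lit 24706, nat_lit 20484, nat_lit 16387, nat_lit 12357, nat_lit 8194, nat_lit 4097]⟩⟩⟩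
def l695 : List AP := [⟨[], [], (nat_lit 1034), ⟨[nat_lit 0, nat_lit 44, nat_lit 65], [nat_lit 82, nat_lit 89], ⟨[nat_lit 0x93da071114b0e172c4c29a82b3a6ac], [nat_lit 168960, nat_lit 164352, nat_lit 161280, nat_lit 157440, nat_lit 151808, nat_lit 151280, nat_lit 144424, nat_lit 140284, nat_lit 136312, nat_lit 131335, nat_lit 2012, nat_lit 4396, nat_lit 9856, nat_lit 13552, nat_lit 16832, nat_lit 21568, nat_lit 26240, nat_lit 29952, nat_lit 33280, nat_lit 37888, nat_lit 41459, nat_lit 36944, nat_lit 33831, nat_lit 28750, nat_lit 24766, nat_lit 20509, nat_lit 16427, nat_lit 12295, nat_lit 8201, nat_lit 4097, nat_lit 2]⟩⟩⟩]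
theorem s695 : Suf yT 8392704 (ldrop wQ 37) (apW dcM p694) (tgtN dcM p694.e) := Suf.fin' (l := l695) (by decide +kernel)
def l694 : List AP := [⟨[], [], (nat_lit 255), ⟨[nat_lit 0, nat_lit 5, nat_lit 89], [nat_lit 0, nat_lit 11, nat_lit 94], ⟨[nat_lit 0x6cae9a88d638d4b046644428c7142f], [nat_lit 164096, nat_lit 161280, nat_lit 156288, nat_lit 152896, nat_lit 147520, nat_lit 144984, nat_lit 142468, nat_lit 136524, nat_lit 131387, nat_lit 1488, nat_lit 4100, nat_lit 8320, nat_lit 13824, nat_lit 18336, nat_lit 21632, nat_lit 25856, nat_lit 30464, nat_lit 34304, nat_lit 37888, nat_lit 41668, nat_lit 38208, nat_lit 33328, nat_lit 28944, nat_lit 24621, nat_lit 20555, nat_lit 16398, nat_lit 12310, nat_lit 64]⟩⟩⟩,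
  ⟨[nat_lit 653, nat_lit 652, nat_lit 112], [], (nat_lit 254), ⟨[nat_lit 0, nat_lit 74, nat_lit 52], [nat_lit 41, nat_lit 70], ⟨[nat_lit 0x484b530eeb13413a32d27c0e443a2a], [nat_lit 168960, nat_lit 164352, nat_lit 161024, nat_lit 157440, nat_lit 153408, nat_lit 149088, nat_lit 147024, nat_lit 141088, nat_lit 137164, nat_lit 132076, nat_lit 1818, nat_lit 4568, nat_lit 10168, nat_lit 12544, nat_lit 16640, nat_lit 20672, nat_lit 26240, nat_lit 29696, nat_lit 37888, nat_lit 41928, nat_lit 38095, nat_lit 32776, nat_lit 29757, nat_lit 24767, nat_lit 20497, nat_lit 16392, nat_lit 4160]⟩⟩⟩]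
theorem s694 : Suf yT 8392704 (ldrop wQ 29) (apW dcM p693) (tgtN dcM p693.e) := Suf.seg (l := l694) (by decide +kernel) s695
def l693 : List AP := [⟨[nat_lit 651, nat_lit 119, nat_lit 132, nat_lit 109], [], (nat_lit 258), ⟨[nat_lit 0, nat_lit 86, nat_lit 69], [nat_lit 0, nat_lit 34], ⟨[nat_lit 0x2d0625aae4041a84c5e13b1d69caa6], [nat_lit 175104, nat_lit 171520, nat_lit 167680, nat_lit 161024, nat_lit 157376, nat_lit 153440, nat_lit 150192, nat_lit 145376, nat_lit 140344, nat_lit 139040, nat_lit 134853, nat_lit 786, nat_lit 5208, nat_lit 8536, nat_lit 12624, nat_lit 16864, nat_lit 20928, nat_lit 26112, nat_lit 29440, nat_lit 37888, nat_lit 41903, nat_lit 38153, nat_lit 32779, nat_lit 29307, nat_lit 24748, nat_lit 20572, nat_lit 16386, nat_lit 12321, nat_lit 8201, nat_lit 4112]⟩⟩⟩,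
  ⟨[nat_lit 119, nat_lit 649, nat_lit 135, nat_lit 115], [], (nat_lit 258), ⟨[nat_lit 25, nat_lit 49], [nat_lit 0, nat_lit 77, nat_lit 68], ⟨[nat_lit 0x2c1213bea46aa8b12246b006ebcd91], [nat_lit 175104, nat_lit 171008, nat_lit 167424, nat_lit 160640, nat_lit 158144, nat_lit 155328, nat_lit 147680, nat_lit 146480, nat_lit 139880, nat_lit 136272, nat_lit 131355, nat_lit 78, nat_lit 5716, nat_lit 8296, nat_lit 13664, nat_lit 16544, nat_lit 20928, nat_lit 25344, nat_lit 30208, nat_lit 34304, nat_lit 37888, nat_lit 41171, nat_lit 37325, nat_lit 33477, nat_lit 28704, nat_lit 24632, nat_lit 20502, nat_lit 16388, nat_lit 12295, nat_lit 8202, nat_lit 4]⟩⟩⟩]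
theorem s693 : Suf yT 8392704 (ldrop wQ 23) (apW dcM p692) (tgtN dcM p692.e) := Suf.seg (l := l693) (by decide +kernel) s694
def l692 : List AP := [⟨[nat_lit 120, nat_lit 135, nat_lit 132, nat_lit 109], [], (nat_lit 258), ⟨[nat_lit 0, nat_lit 75, nat_lit 70], [nat_lit 29, nat_lit 49], ⟨[nat_lit 0x21a70944e5ab9f4b31b702d2152043], [nat_lit 173056, nat_lit 169984, nat_lit 165632, nat_lit 160896, nat_lit 155840, nat_lit 152064, nat_lit 147648, nat_lit 143400, nat_lit 139660, nat_lit 136502, nat_lit 131216, nat_lit 1818, nat_lit 4100, nat_lit 8448, nat_lit 12800, nat_lit 16832, nat_lit 20736, nat_lit 25856, nat_lit 29184, nat_lit 34304, nat_lit 41246, nat_lit 36997, nat_lit 32875, nat_lit 28738, nat_lit 24706, nat_lit 20747, nat_lit 17416, nat_lit 12289, nat_lit 8210, nat_lit 4112, nat_lit 8]⟩⟩⟩,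
  ⟨[nat_lit 112, nat_lit 117, nat_lit 133, nat_lit 119], [], (nat_lit 258), ⟨[nat_lit 0, nat_lit 79, nat_lit 47], [nat_lit 18, nat_lit 55], ⟨[nat_lit 0xae241500d4406531eae64a767a937], [nat_lit 173056, nat_lit 169472, nat_lit 161408, nat_lit 156288, nat_lit 155488, nat_lit 149040, nat_lit 144720, nat_lit 139636, nat_lit 135440, nat_lit 132694, nat_lit 1108, nat_lit 5604, nat_lit 8264, nat_lit 14144, nat_lit 18080, nat_lit 21184, nat_lit 24832, nat_lit 30208, nat_lit 33280, nat_lit 41952, nat_lit 37085, nat_lit 33020, nat_lit 28791, nat_lit 24718, nat_lit 20553, nat_lit 16421, nat_lit 8210]⟩⟩⟩]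
theorem s692 : Suf yT 8392704 (ldrop wQ 14) (apW dcM p691) (tgtN dcM p691.e) := Suf.seg (l := l692) (by decide +kernel) s693
def l691 : List AP := [⟨[nat_lit 653, nat_lit 131, nat_lit 111], [], (nat_lit 246), ⟨[nat_lit 7, nat_lit 53], [nat_lit 77, nat_lit 56], ⟨[nat_lit 0x11208702a1a3d6934c6abb0e56da51], [nat_lit 169472, nat_lit 160128, nat_lit 155904, nat_lit 153536, nat_lit 149408, nat_lit 144208, nat_lit 140628, nat_lit 136086, nat_lit 134037, nat_lit 512, nat_lit 9040, nat_lit 12976, nat_lit 18400, nat_lit 21440, nat_lit 25728, nat_lit 29184, nat_lit 33280, nat_lit 37888, nat_lit 41599, nat_lit 37154, nat_lit 32818, nat_lit 28702, nat_lit 25660, nat_lit 20755, nat_lit 16527, nat_lit 12292, nat_lit 8200, nat_lit 4160]⟩⟩⟩,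
  ⟨[], [], (nat_lit 247), ⟨[nat_lit 0, nat_lit 36, nat_lit 91], [nat_lit 34, nat_lit 46], ⟨[nat_lit 0x15209716b723d6899a2d0b0e054ac3], [nat_lit 164864, nat_lit 163072, nat_lit 156864, nat_lit 152864, nat_lit 147744, nat_lit 145248, nat_lit 139976, nat_lit 136204, nat_lit 131779, nat_lit 688, nat_lit 5544, nat_lit 8296, nat_lit 12416, nat_lit 16928, nat_lit 22016, nat_lit 25856, nat_lit 37888, nat_lit 41950, nat_lit 37083, nat_lit 32917, nat_lit 28783, nat_lit 24706, nat_lit 20555, nat_lit 16385, nat_lit 12291, nat_lit 8226, nat_lit 4104, nat_lit 2]⟩⟩⟩]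
theorem s691 : Suf yT 8392704 (ldrop wQ 6) (apW dcM p690) (tgtN dcM p690.e) := Suf.seg (l := l691) (by decide +kernel) s692
def l690 : List AP := [⟨[nat_lit 0, nat_lit 10, nat_lit 627, nat_lit 7, nat_lit 9], [], (nat_lit 40), ⟨[nat_lit 26, nat_lit 59], [nat_lit 0, nat_lit 83, nat_lit 54], ⟨[nat_lit 0xadd1063a6a3d1e0b04ad12e4331229], [nat_lit 174080, nat_lit 171008, nat_lit 166144, nat_lit 163584, nat_lit 156928, nat_lit 153920, nat_lit 149712, nat_lit 144208, nat_lit 141756, nat_lit 135662, nat_lit 132024, nat_lit 724, nat_lit 6084, nat_lit 10144, nat_lit 13312, nat_lit 17408, nat_lit 21312, nat_lit 25088, nat_lit 29440, nat_lit 33280, nat_lit 41962, nat_lit 38209, nat_lit 33927, nat_lit 29247, nat_lit 24890, nat_lit 20761, nat_lit 16396, nat_lit 12304, nat_lit 4161, nat_lit 64]⟩⟩⟩,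
  ⟨[nat_lit 638, nat_lit 27, nat_lit 24, nat_lit 635, nat_lit 28], [], (nat_lit 216), ⟨[nat_lit 0, nat_lit 38, nat_lit 54], [nat_lit 84, nat_lit 51], ⟨[nat_lit 0xa284b9190d4b8f125ca3ac260b3c2c], [nat_lit 175104, nat_lit 169472, nat_lit 165632, nat_lit 160896, nat_lit 155840, nat_lit 152192, nat_lit 149120, nat_lit 144856, nat_lit 139736, nat_lit 135196, nat_lit 131512, nat_lit 902, nat_lit 5120, nat_lit 8784, nat_lit 13152, nat_lit 16832, nat_lit 20800, nat_lit 26240, nat_lit 29440, nat_lit 33280, nat_lit 37888, nat_lit 41920, nat_lit 37120, nat_lit 33320, nat_lit 29737, nat_lit 24738, nat_lit 20506, nat_lit 16391, nat_lit 12295, nat_lit 8203, nat_lit 8]⟩⟩⟩]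
theorem rQ11 : Suf yT 8392704 wQ [yT.get 45] 0 := Suf.seg (l := l690) (by decide +kernel) s691

def p696 : AP := ⟨[nat_lit 72, nat_lit 66], [], (nat_lit 126), ⟨[nat_lit 35, nat_lit 50], [nat_lit 23, nat_lit 47], ⟨[nat_lit 0x155509ae8009583bbc966a127945c6], [nat_lit 169984, nat_lit 167168, nat_lit 162304, nat_lit 158208, nat_lit 151744, nat_lit 149600, nat_lit 146592, nat_lit 140184, nat_lit 137874, nat_lit 131618, nat_lit 158, nat_lit 5228, nat_lit 9648, nat_lit 12704, nat_lit 16608, nat_lit 22400, nat_lit 25600, nat_lit 30464, nat_lit 33792, nat_lit 41734, nat_lit 37030, nat_lit 33899, nat_lit 29226, nat_lit 24888, nat_lit 20747, nat_lit 16450, nat_lit 12418, nat_lit 8194, nat_lit 16]⟩⟩⟩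
def p697 : AP := ⟨[nat_lit 57, nat_lit 66, nat_lit 71, nat_lit 57, nat_lit 47], [], (nat_lit 368), ⟨[nat_lit 0, nat_lit 3, nat_lit 57], [nat_lit 40, nat_lit 65], ⟨[nat_lit 0x3004408ce58d67653d6ea5e124b588], [nat_lit 168448, nat_lit 164352, nat_lit 160896, nat_lit 155904, nat_lit 152736, nat_lit 148496, nat_lit 147376, nat_lit 140140, nat_lit 135424, nat_lit 131165, nat_lit 236, nat_lit 4404, nat_lit 9904, nat_lit 13552, nat_lit 17632, nat_lit 21696, nat_lit 24704, nat_lit 37888, nat_lit 41137, nat_lit 37135, nat_lit 32796, nat_lit 28760, nat_lit 24704, nat_lit 20488, nat_lit 16392, nat_lit 12290, nat_lit 8449, nat_lit 4]⟩⟩⟩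
def p698 : AP := ⟨[], [], (nat_lit 405), ⟨[nat_lit 22, nat_lit 47], [nat_lit 80, nat_lit 63], ⟨[nat_lit 0x609e76a29172e1599641b00d71a889], [nat_lit 169472, nat_lit 167680, nat_lit 161664, nat_lit 156480, nat_lit 153344, nat_lit 148816, nat_lit 139268, nat_lit 135900, nat_lit 132186, nat_lit 724, nat_lit 5588, nat_lit 9096, nat_lit 12544, nat_lit 18080, nat_lit 22400, nat_lit 25600, nat_lit 29440, nat_lit 33280, nat_lit 37888, nat_lit 41085, nat_lit 37280, nat_lit 32894, nat_lit 29216, nat_lit 24894, nat_lit 20503, nat_lit 16422, nat_lit 8224, nat_lit 4101, nat_lit 4]⟩⟩⟩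
def p699 : AP := ⟨[nat_lit 48, nat_lit 66, nat_lit 52, nat_lit 57], [], (nat_lit 1046), ⟨[nat_lit 0, nat_lit 5, nat_lit 55], [nat_lit 80, nat_lit 53], ⟨[nat_lit 0xb3d6d3b2630c08ea453215500b9945], [nat_lit 165888, nat_lit 161664, nat_lit 155968, nat_lit 155040, nat_lit 151520, nat_lit 146672, nat_lit 143200, nat_lit 138428, nat_lit 132520, nat_lit 1938, nat_lit 4540, nat_lit 8744, nat_lit 13008, nat_lit 18112, nat_lit 22208, nat_lit 25472, nat_lit 28928, nat_lit 37888, nat_lit 41587, nat_lit 38276, nat_lit 32898, nat_lit 28674, nat_lit 25133, nat_lit 21014, nat_lit 16463, nat_lit 12289, nat_lit 8211, nat_lit 4097, nat_lit 2]⟩⟩⟩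
def p700 : AP := ⟨[nat_lit 68], [], (nat_lit 122), ⟨[nat_lit 36, nat_lit 69], [nat_lit 0, nat_lit 18, nat_lit 56], ⟨[nat_lit 0x53a64154a7958104c4cc68df758688], [nat_lit 174080, nat_lit 171520, nat_lit 164608, nat_lit 163712, nat_lit 159168, nat_lit 154624, nat_lit 148480, nat_lit 144312, nat_lit 140120, nat_lit 138002, nat_lit 134114, nat_lit 2018, nat_lit 4128, nat_lit 9104, nat_lit 13040, nat_lit 16416, nat_lit 20736, nat_lit 25344, nat_lit 29952, nat_lit 34304, nat_lit 37888, nat_lit 41945, nat_lit 38232, nat_lit 33926, nat_lit 28729, nat_lit 24867, nat_lit 20497, nat_lit 16423, nat_lit 12291, nat_lit 8209, nat_lit 4100]⟩⟩⟩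
def l701 : List AP := [⟨[nat_lit 43, nat_lit 41], [], (nat_lit 1032), ⟨[nat_lit 0, nat_lit 7, nat_lit 56], [nat_lit 0, nat_lit 7, nat_lit 60], ⟨[nat_lit 0x50cf988282b87749e24b2ab26b170], [nat_lit 168448, nat_lit 165120, nat_lit 161536, nat_lit 156032, nat_lit 152480, nat_lit 149328, nat_lit 145392, nat_lit 141732, nat_lit 136986, nat_lit 133002, nat_lit 428, nat_lit 5084, nat_lit 8928, nat_lit 14112, nat_lit 17536, nat_lit 21120, nat_lit 24832, nat_lit 29696, nat_lit 37888, nat_lit 41863, nat_lit 37370, nat_lit 33012, nat_lit 28931, nat_lit 24612, nat_lit 20492, nat_lit 16515, nat_lit 12321, nat_lit 8194, nat_lit 8]⟩⟩⟩]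
theorem s701 : Suf yT 2048 (ldrop wQ 37) (apW dcM p700) (tgtN dcM p700.e) := Suf.fin' (l := l701) (by decide +kernel)
def l700 : List AP := [⟨[], [], (nat_lit 396), ⟨[nat_lit 10, nat_lit 64], [nat_lit 0, nat_lit 89], ⟨[nat_lit 0xb056e382627c08d8d0b71d50c928c9], [nat_lit 160384, nat_lit 156352, nat_lit 152704, nat_lit 149152, nat_lit 144752, nat_lit 139792, nat_lit 136258, nat_lit 133815, nat_lit 1478, nat_lit 4548, nat_lit 9936, nat_lit 12528, nat_lit 18112, nat_lit 21824, nat_lit 25472, nat_lit 29696, nat_lit 34304, nat_lit 37888, nat_lit 41974, nat_lit 38028, nat_lit 33310, nat_lit 29813, nat_lit 24883, nat_lit 20487, nat_lit 16462, nat_lit 12306, nat_lit 8194, nat_lit 4097]⟩⟩⟩,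
  ⟨[nat_lit 68, nat_lit 47], [], (nat_lit 126), ⟨[nat_lit 0, nat_lit 12, nat_lit 59], [nat_lit 87, nat_lit 59], ⟨[nat_lit 0x3c5815dc43aa250228b47d92e03666], [nat_lit 174080, nat_lit 164096, nat_lit 160896, nat_lit 158208, nat_lit 154368, nat_lit 150256, nat_lit 144896, nat_lit 141708, nat_lit 136124, nat_lit 134245, nat_lit 116, nat_lit 5688, nat_lit 8680, nat_lit 13712, nat_lit 17984, nat_lit 22400, nat_lit 26496, nat_lit 30464, nat_lit 33280, nat_lit 37888, nat_lit 41380, nat_lit 37053, nat_lit 33797, nat_lit 28759, nat_lit 24601, nat_lit 20491, nat_lit 16452, nat_lit 12292, nat_lit 8200]⟩⟩⟩]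
theorem s700 : Suf yT 2048 (ldrop wQ 29) (apW dcM p699) (tgtN dcM p699.e) := Suf.seg (l := l700) (by decide +kernel) s701
def l699 : List AP := [⟨[nat_lit 173, nat_lit 181, nat_lit 176], [], (nat_lit 400), ⟨[nat_lit 0, nat_lit 28, nat_lit 94], [nat_lit 15, nat_lit 89], ⟨[nat_lit 0x43e05934eb70594300961563348eea], [nat_lit 173056, nat_lit 168448, nat_lit 167424, nat_lit 162560, nat_lit 157696, nat_lit 154016, nat_lit 148576, nat_lit 146224, nat_lit 143004, nat_lit 137056, nat_lit 134033, nat_lit 1818, nat_lit 4964, nat_lit 9560, nat_lit 13984, nat_lit 17184, nat_lit 22016, nat_lit 25344, nat_lit 29184, nat_lit 34304, nat_lit 41418, nat_lit 37102, nat_lit 33894, nat_lit 28723, nat_lit 24597, nat_lit 20499, nat_lit 16398, nat_lit 12311, nat_lit 8209, nat_lit 4101, nat_lit 4]⟩⟩⟩,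
  ⟨[nat_lit 178, nat_lit 172, nat_lit 174], [], (nat_lit 1088), ⟨[nat_lit 83, nat_lit 69], [nat_lit 0, nat_lit 75, nat_lit 66], ⟨[nat_lit 0x2cc1142466bd04754aac5b616785c4], [nat_lit 175104, nat_lit 167424, nat_lit 163072, nat_lit 159040, nat_lit 153088, nat_lit 147600, nat_lit 143576, nat_lit 142436, nat_lit 138466, nat_lit 131541, nat_lit 680, nat_lit 4720, nat_lit 9664, nat_lit 13584, nat_lit 16896, nat_lit 21056, nat_lit 25600, nat_lit 29952, nat_lit 33280, nat_lit 37888, nat_lit 41907, nat_lit 37166, nat_lit 33414, nat_lit 29022, nat_lit 24704, nat_lit 20502, nat_lit 16417, nat_lit 12294, nat_lit 16]⟩⟩⟩]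
theorem s699 : Suf yT 2048 (ldrop wQ 23) (apW dcM p698) (tgtN dcM p698.e) := Suf.seg (l := l699) (by decide +kernel) s700
def l698 : List AP := [⟨[nat_lit 172, nat_lit 215, nat_lit 171], [], (nat_lit 400), ⟨[nat_lit 16, nat_lit 56], [nat_lit 21, nat_lit 48], ⟨[nat_lit 0x43213089ab202342c8763a5e653af5], [nat_lit 173056, nat_lit 169472, nat_lit 164864, nat_lit 161664, nat_lit 155776, nat_lit 151904, nat_lit 149296, nat_lit 143664, nat_lit 142236, nat_lit 135784, nat_lit 131248, nat_lit 1766, nat_lit 4756, nat_lit 9136, nat_lit 14048, nat_lit 18336, nat_lit 20928, nat_lit 26112, nat_lit 29952, nat_lit 37888, nat_lit 41254, nat_lit 37339, nat_lit 33316, nat_lit 28700, nat_lit 24618, nat_lit 20567, nat_lit 16388, nat_lit 12324, nat_lit 8208, nat_lit 4097]⟩⟩⟩,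
  ⟨[nat_lit 213, nat_lit 177, nat_lit 216, nat_lit 175], [], (nat_lit 404), ⟨[nat_lit 21, nat_lit 51], [nat_lit 75, nat_lit 62], ⟨[nat_lit 0x639f56de9612e072cd23880c809152], [nat_lit 174080, nat_lit 168448, nat_lit 164864, nat_lit 159872, nat_lit 157952, nat_lit 154112, nat_lit 151376, nat_lit 144392, nat_lit 141424, nat_lit 136206, nat_lit 134021, nat_lit 1140, nat_lit 4964, nat_lit 9072, nat_lit 13728, nat_lit 16608, nat_lit 20928, nat_lit 25856, nat_lit 41732, nat_lit 38373, nat_lit 32873, nat_lit 29280, nat_lit 24853, nat_lit 20558, nat_lit 16419, nat_lit 12355, nat_lit 8202]⟩⟩⟩]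
theorem s698 : Suf yT 2048 (ldrop wQ 14) (apW dcM p697) (tgtN dcM p697.e) := Suf.seg (l := l698) (by decide +kernel) s699
def l697 : List AP := [⟨[nat_lit 72, nat_lit 641, nat_lit 46, nat_lit 54], [], (nat_lit 1046), ⟨[nat_lit 20, nat_lit 62], [nat_lit 0, nat_lit 8, nat_lit 93], ⟨[nat_lit 0x40cdb044a1c48eb952744eb2a2d8f], [nat_lit 173056, nat_lit 169472, nat_lit 164864, nat_lit 161024, nat_lit 155968, nat_lit 153376, nat_lit 147856, nat_lit 143608, nat_lit 139332, nat_lit 138246, nat_lit 132214, nat_lit 1668, nat_lit 4380, nat_lit 8928, nat_lit 13264, nat_lit 17568, nat_lit 26496, nat_lit 29184, nat_lit 33280, nat_lit 37888, nat_lit 41913, nat_lit 37194, nat_lit 33283, nat_lit 28677, nat_lit 24597, nat_lit 20503, nat_lit 16425, nat_lit 12294, nat_lit 8202, nat_lit 4104, nat_lit 32]⟩⟩⟩,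
  ⟨[], [], (nat_lit 396), ⟨[nat_lit 0, nat_lit 39, nat_lit 61], [nat_lit 14, nat_lit 60], ⟨[nat_lit 0xcceb48488448d2ddf454ea13b169], [nat_lit 173056, nat_lit 164864, nat_lit 160128, nat_lit 157568, nat_lit 152384, nat_lit 149456, nat_lit 143880, nat_lit 140300, nat_lit 136140, nat_lit 131645, nat_lit 344, nat_lit 5080, nat_lit 8928, nat_lit 13552, nat_lit 16992, nat_lit 22272, nat_lit 25088, nat_lit 30208, nat_lit 34304, nat_lit 37888, nat_lit 41919, nat_lit 37348, nat_lit 32800, nat_lit 29191, nat_lit 24739, nat_lit 20500, nat_lit 16430, nat_lit 12295, nat_lit 8194, nat_lit 8]⟩⟩⟩]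
theorem s697 : Suf yT 2048 (ldrop wQ 6) (apW dcM p696) (tgtN dcM p696.e) := Suf.seg (l := l697) (by decide +kernel) s698
def l696 : List AP := [⟨[nat_lit 8, nat_lit 5, nat_lit 9, nat_lit 626, nat_lit 9], [], (nat_lit 1030), ⟨[nat_lit 44], [nat_lit 0, nat_lit 8, nat_lit 63], ⟨[nat_lit 0x788d1522c9034b20c184a2ef570e67], [nat_lit 169472, nat_lit 167680, nat_lit 159872, nat_lit 152320, nat_lit 148336, nat_lit 143496, nat_lit 139764, nat_lit 136720, nat_lit 131361, nat_lit 1438, nat_lit 4628, nat_lit 10168, nat_lit 12544, nat_lit 17152, nat_lit 21504, nat_lit 25984, nat_lit 41462, nat_lit 37171, nat_lit 33315, nat_lit 28743, nat_lit 24594, nat_lit 21011, nat_lit 16455, nat_lit 12292, nat_lit 8200, nat_lit 4161]⟩⟩⟩,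
  ⟨[nat_lit 17, nat_lit 630, nat_lit 38, nat_lit 15, nat_lit 42, nat_lit 15], [], (nat_lit 90), ⟨[nat_lit 34, nat_lit 60], [nat_lit 0, nat_lit 7, nat_lit 91], ⟨[nat_lit 0x8948e150c85b552ac19649ee378660], [nat_lit 169472, nat_lit 164352, nat_lit 160512, nat_lit 157056, nat_lit 154400, nat_lit 147728, nat_lit 143848, nat_lit 139480, nat_lit 135178, nat_lit 132651, nat_lit 32, nat_lit 4684, nat_lit 8808, nat_lit 14144, nat_lit 17856, nat_lit 22336, nat_lit 26112, nat_lit 29696, nat_lit 37888, nat_lit 41747, nat_lit 38003, nat_lit 32889, nat_lit 28701, nat_lit 24608, nat_lit 20508, nat_lit 16420, nat_lit 8194, nat_lit 4097]⟩⟩⟩]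
theorem rQ12 : Suf yT 2048 wQ [yT.get 46] 0 := Suf.seg (l := l696) (by decide +kernel) s697

def p702 : AP := ⟨[], [], (nat_lit 255), ⟨[nat_lit 0, nat_lit 22, nat_lit 92], [nat_lit 0, nat_lit 28, nat_lit 67], ⟨[nat_lit 0x59c110c8a96beeeb5195340481cc8a], [nat_lit 173056, nat_lit 169472, nat_lit 165120, nat_lit 161024, nat_lit 157184, nat_lit 153376, nat_lit 148512, nat_lit 145344, nat_lit 140868, nat_lit 136030, nat_lit 132476, nat_lit 1810, nat_lit 5588, nat_lit 9560, nat_lit 16640, nat_lit 21184, nat_lit 25856, nat_lit 28928, nat_lit 33280, nat_lit 41792, nat_lit 37248, nat_lit 33457, nat_lit 29276, nat_lit 24718, nat_lit 20753, nat_lit 16450, nat_lit 8193, nat_lit 4160]⟩⟩⟩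
def p703 : AP := ⟨[nat_lit 120, nat_lit 649, nat_lit 113, nat_lit 116, nat_lit 650], [], (nat_lit 310), ⟨[nat_lit 0, nat_lit 40, nat_lit 50], [nat_lit 71, nat_lit 47], ⟨[nat_lit 0x299569c135a0c287aeed1124c038f1], [nat_lit 173056, nat_lit 168448, nat_lit 164352, nat_lit 161664, nat_lit 158912, nat_lit 153152, nat_lit 148784, nat_lit 144864, nat_lit 139320, nat_lit 135638, nat_lit 131487, nat_lit 1694, nat_lit 5276, nat_lit 10224, nat_lit 12976, nat_lit 16512, nat_lit 22400, nat_lit 25088, nat_lit 33280, nat_lit 37888, nat_lit 41680, nat_lit 38138, nat_lit 32879, nat_lit 29712, nat_lit 24637, nat_lit 20566, nat_lit 16463, nat_lit 12320, nat_lit 4104, nat_lit 2]⟩⟩⟩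
def p704 : AP := ⟨[], [], (nat_lit 914), ⟨[nat_lit 11, nat_lit 47], [nat_lit 0, nat_lit 33, nat_lit 49], ⟨[nat_lit 0x32ace0c969014f1a910d7c18315e93], [nat_lit 165632, nat_lit 161280, nat_lit 156288, nat_lit 152128, nat_lit 148464, nat_lit 143480, nat_lit 141032, nat_lit 136168, nat_lit 132651, nat_lit 590, nat_lit 5656, nat_lit 8224, nat_lit 12320, nat_lit 18336, nat_lit 25600, nat_lit 30208, nat_lit 33792, nat_lit 41024, nat_lit 37314, nat_lit 33529, nat_lit 29252, nat_lit 24638, nat_lit 20500, nat_lit 16428, nat_lit 12308, nat_lit 8203, nat_lit 4101]⟩⟩⟩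
def p705 : AP := ⟨[nat_lit 134, nat_lit 649, nat_lit 119, nat_lit 109], [], (nat_lit 846), ⟨[nat_lit 0, nat_lit 21, nat_lit 91], [nat_lit 0, nat_lit 74, nat_lit 49], ⟨[nat_lit 0x73cb21920242a66ba42dac687b016c], [nat_lit 168448, nat_lit 160000, nat_lit 156160, nat_lit 152448, nat_lit 150400, nat_lit 144672, nat_lit 140028, nat_lit 135942, nat_lit 131828, nat_lit 318, nat_lit 5064, nat_lit 8928, nat_lit 12976, nat_lit 17824, nat_lit 21888, nat_lit 26368, nat_lit 29952, nat_lit 33280, nat_lit 37888, nat_lit 41520, nat_lit 38208, nat_lit 33387, nat_lit 28688, nat_lit 24596, nat_lit 20496, nat_lit 16385, nat_lit 12295, nat_lit 8195, nat_lit 4]⟩⟩⟩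
def p706 : AP := ⟨[], [], (nat_lit 217), ⟨[nat_lit 0, nat_lit 28, nat_lit 59], [nat_lit 6, nat_lit 58], ⟨[nat_lit 0x6d4ee11814940972d92b0cde888d4c], [nat_lit 175104, nat_lit 168960, nat_lit 164608, nat_lit 160384, nat_lit 152608, nat_lit 149088, nat_lit 145128, nat_lit 140392, nat_lit 137002, nat_lit 131374, nat_lit 1580, nat_lit 5436, nat_lit 10168, nat_lit 12800, nat_lit 16960, nat_lit 20992, nat_lit 25856, nat_lit 29696, nat_lit 33792, nat_lit 37888, nat_lit 41447, nat_lit 37077, nat_lit 32798, nat_lit 29245, nat_lit 24712, nat_lit 20556, nat_lit 16654, nat_lit 12324, nat_lit 8224, nat_lit 4097, nat_lit 2]⟩⟩⟩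
def l707 : List AP := [⟨[], [], (nat_lit 1034), ⟨[nat_lit 0, nat_lit 6, nat_lit 91], [nat_lit 0, nat_lit 27, nat_lit 49], ⟨[nat_lit 0x2a220b098193a17551eb3d48d34c69], [nat_lit 168448, nat_lit 165632, nat_lit 161024, nat_lit 156736, nat_lit 152000, nat_lit 148272, nat_lit 144648, nat_lit 142136, nat_lit 136350, nat_lit 131306, nat_lit 1928, nat_lit 5580, nat_lit 8200, nat_lit 13312, nat_lit 16992, nat_lit 20928, nat_lit 24960, nat_lit 30464, nat_lit 34304, nat_lit 41443, nat_lit 37278, nat_lit 33324, nat_lit 28732, nat_lit 24586, nat_lit 20633, nat_lit 16525, nat_lit 12292, nat_lit 8195, nat_lit 4101, nat_lit 4]⟩⟩⟩]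
theorem s707 : Suf yT 2049 (ldrop wQ 37) (apW dcM p706) (tgtN dcM p706.e) := Suf.fin' (l := l707) (by decide +kernel)
def l706 : List AP := [⟨[], [], (nat_lit 1230), ⟨[nat_lit 0, nat_lit 22, nat_lit 62], [nat_lit 3, nat_lit 91], ⟨[nat_lit 0x720a619e157aa724dd96146846ac01], [nat_lit 175104, nat_lit 164352, nat_lit 162432, nat_lit 156480, nat_lit 151776, nat_lit 150176, nat_lit 146088, nat_lit 142428, nat_lit 139100, nat_lit 133667, nat_lit 1180, nat_lit 5276, nat_lit 8752, nat_lit 13264, nat_lit 17408, nat_lit 21824, nat_lit 26240, nat_lit 30464, nat_lit 41535, nat_lit 38336, nat_lit 33493, nat_lit 28767, nat_lit 24707, nat_lit 20511, nat_lit 16416, nat_lit 12294, nat_lit 8203]⟩⟩⟩,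
  ⟨[nat_lit 649, nat_lit 130, nat_lit 109], [], (nat_lit 254), ⟨[nat_lit 80, nat_lit 65], [nat_lit 39, nat_lit 54], ⟨[nat_lit 0x4b9048d80b33c23656872b61390aea], [nat_lit 173056, nat_lit 169984, nat_lit 165376, nat_lit 163712, nat_lit 157568, nat_lit 153824, nat_lit 150528, nat_lit 146296, nat_lit 140520, nat_lit 135216, nat_lit 134582, nat_lit 1814, nat_lit 4964, nat_lit 9928, nat_lit 14016, nat_lit 17280, nat_lit 22080, nat_lit 25472, nat_lit 29440, nat_lit 33792, nat_lit 41820, nat_lit 37048, nat_lit 32962, nat_lit 28747, nat_lit 24758, nat_lit 20550, nat_lit 16386, nat_lit 12291, nat_lit 8195, nat_lit 4101, nat_lit 4]⟩⟩⟩]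
theorem s706 : Suf yT 2049 (ldrop wQ 29) (apW dcM p705) (tgtN dcM p705.e) := Suf.seg (l := l706) (by decide +kernel) s707
def l705 : List AP := [⟨[nat_lit 658, nat_lit 147, nat_lit 143], [], (nat_lit 314), ⟨[nat_lit 0, nat_lit 15, nat_lit 65], [nat_lit 8, nat_lit 46], ⟨[nat_lit 0x248c2aa1e76ba611ad31bd200658aa], [nat_lit 173056, nat_lit 168448, nat_lit 166656, nat_lit 159872, nat_lit 155712, nat_lit 153344, nat_lit 148816, nat_lit 144128, nat_lit 139736, nat_lit 136238, nat_lit 132219, nat_lit 1554, nat_lit 5160, nat_lit 9616, nat_lit 12976, nat_lit 17664, nat_lit 21760, nat_lit 24704, nat_lit 28928, nat_lit 33280, nat_lit 40992, nat_lit 37208, nat_lit 28736, nat_lit 24749, nat_lit 20569, nat_lit 16431, nat_lit 12309, nat_lit 8201, nat_lit 4101]⟩⟩⟩,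
  ⟨[], [], (nat_lit 1082), ⟨[nat_lit 84, nat_lit 56], [nat_lit 2, nat_lit 57], ⟨[nat_lit 0xaa8284ba25051ac9d8521dce482ccf], [nat_lit 175104, nat_lit 171008, nat_lit 166144, nat_lit 162432, nat_lit 156096, nat_lit 154144, nat_lit 151136, nat_lit 144880, nat_lit 143352, nat_lit 135618, nat_lit 133083, nat_lit 1014, nat_lit 6104, nat_lit 9136, nat_lit 14112, nat_lit 17408, nat_lit 21056, nat_lit 24704, nat_lit 29696, nat_lit 37888, nat_lit 41279, nat_lit 36868, nat_lit 33851, nat_lit 28749, nat_lit 24713, nat_lit 21531, nat_lit 16388, nat_lit 12417, nat_lit 8194, nat_lit 4100, nat_lit 128]⟩⟩⟩]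
theorem s705 : Suf yT 2049 (ldrop wQ 23) (apW dcM p704) (tgtN dcM p704.e) := Suf.seg (l := l705) (by decide +kernel) s706
def l704 : List AP := [⟨[], [], (nat_lit 315), ⟨[nat_lit 42, nat_lit 59], [nat_lit 0, nat_lit 85, nat_lit 57], ⟨[nat_lit 0x3964b1b2a475cc255a93482216a20f], [nat_lit 169472, nat_lit 166144, nat_lit 160128, nat_lit 156224, nat_lit 154144, nat_lit 150192, nat_lit 146152, nat_lit 142720, nat_lit 138710, nat_lit 132622, nat_lit 1668, nat_lit 4476, nat_lit 8312, nat_lit 14112, nat_lit 17632, nat_lit 21952, nat_lit 24832, nat_lit 28928, nat_lit 33792, nat_lit 37888, nat_lit 41407, nat_lit 37273, nat_lit 33524, nat_lit 29275, nat_lit 24626, nat_lit 20558, nat_lit 16424, nat_lit 12291, nat_lit 8210, nat_lit 8]⟩⟩⟩,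
  ⟨[nat_lit 656, nat_lit 141, nat_lit 139, nat_lit 139], [], (nat_lit 1076), ⟨[nat_lit 80, nat_lit 66], [nat_lit 0, nat_lit 5, nat_lit 93], ⟨[nat_lit 0x302d108d6f514ee256624c1926d2e8], [nat_lit 173056, nat_lit 168448, nat_lit 164608, nat_lit 161536, nat_lit 157504, nat_lit 153216, nat_lit 148336, nat_lit 146320, nat_lit 140896, nat_lit 135682, nat_lit 131680, nat_lit 1396, nat_lit 4156, nat_lit 8224, nat_lit 13456, nat_lit 17536, nat_lit 21824, nat_lit 26368, nat_lit 29952, nat_lit 33280, nat_lit 41304, nat_lit 37342, nat_lit 33442, nat_lit 29252, nat_lit 24860, nat_lit 20568, nat_lit 16392, nat_lit 12305, nat_lit 8448, nat_lit 4225, nat_lit 2]⟩⟩⟩]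
theorem s704 : Suf yT 2049 (ldrop wQ 14) (apW dcM p703) (tgtN dcM p703.e) := Suf.seg (l := l704) (by decide +kernel) s705
def l703 : List AP := [⟨[nat_lit 133, nat_lit 653, nat_lit 652, nat_lit 109], [], (nat_lit 846), ⟨[nat_lit 0, nat_lit 45, nat_lit 47], [nat_lit 0, nat_lit 13, nat_lit 56], ⟨[nat_lit 0x190b23d56c52661322ed7c04eb0234], [nat_lit 175104, nat_lit 171008, nat_lit 164096, nat_lit 162688, nat_lit 159424, nat_lit 154272, nat_lit 148816, nat_lit 145288, nat_lit 140684, nat_lit 138904, nat_lit 135055, nat_lit 1730, nat_lit 5312, nat_lit 9648, nat_lit 12432, nat_lit 17088, nat_lit 25856, nat_lit 28928, nat_lit 34304, nat_lit 37888, nat_lit 41825, nat_lit 37035, nat_lit 33935, nat_lit 28987, nat_lit 24746, nat_lit 20481, nat_lit 16458, nat_lit 12290, nat_lit 8211, nat_lit 4101]⟩⟩⟩,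
  ⟨[], [], (nat_lit 1230), ⟨[nat_lit 18, nat_lit 51], [nat_lit 0, nat_lit 81, nat_lit 64], ⟨[nat_lit 0x1a8a13b96f2267241a96640556c417], [nat_lit 175104, nat_lit 171520, nat_lit 166656, nat_lit 162304, nat_lit 156928, nat_lit 153728, nat_lit 150912, nat_lit 145280, nat_lit 142360, nat_lit 136526, nat_lit 132988, nat_lit 960, nat_lit 5856, nat_lit 9648, nat_lit 13712, nat_lit 16672, nat_lit 21696, nat_lit 24960, nat_lit 30208, nat_lit 33280, nat_lit 41924, nat_lit 37358, nat_lit 33475, nat_lit 28688, nat_lit 24604, nat_lit 20486, nat_lit 16459, nat_lit 12289, nat_lit 4112]⟩⟩⟩]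
theorem s703 : Suf yT 2049 (ldrop wQ 6) (apW dcM p702) (tgtN dcM p702.e) := Suf.seg (l := l703) (by decide +kernel) s704
def l702 : List AP := [⟨[nat_lit 5, nat_lit 6, nat_lit 625, nat_lit 628, nat_lit 9, nat_lit 0], [], (nat_lit 40), ⟨[nat_lit 88, nat_lit 69], [nat_lit 0, nat_lit 77, nat_lit 60], ⟨[nat_lit 0x5c94f83af46cc20289352586861a27], [nat_lit 175104, nat_lit 170496, nat_lit 166400, nat_lit 161920, nat_lit 155968, nat_lit 154496, nat_lit 149904, nat_lit 144960, nat_lit 141676, nat_lit 135698, nat_lit 132203, nat_lit 810, nat_lit 4924, nat_lit 9136, nat_lit 13664, nat_lit 17760, nat_lit 20992, nat_lit 25856, nat_lit 37888, nat_lit 41243, nat_lit 37223, nat_lit 33482, nat_lit 28993, nat_lit 24712, nat_lit 20552, nat_lit 17423, nat_lit 12322, nat_lit 4104]⟩⟩⟩,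
  ⟨[nat_lit 21, nat_lit 21, nat_lit 23, nat_lit 23, nat_lit 21], [], (nat_lit 216), ⟨[nat_lit 0, nat_lit 25, nat_lit 62], [nat_lit 0, nat_lit 25, nat_lit 53], ⟨[nat_lit 0xa2c022442d9c155324b693c67ba1cc], [nat_lit 173056, nat_lit 170496, nat_lit 164352, nat_lit 160640, nat_lit 155904, nat_lit 153248, nat_lit 148816, nat_lit 144568, nat_lit 140384, nat_lit 135532, nat_lit 131314, nat_lit 1354, nat_lit 5768, nat_lit 9904, nat_lit 13712, nat_lit 16832, nat_lit 21824, nat_lit 25856, nat_lit 33280, nat_lit 37888, nat_lit 41848, nat_lit 37338, nat_lit 32939, nat_lit 29043, nat_lit 24727, nat_lit 20500, nat_lit 16417, nat_lit 12352, nat_lit 8203, nat_lit 4105, nat_lit 8]⟩⟩⟩]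
theorem rQ13 : Suf yT 2049 wQ [yT.get 47] 0 := Suf.seg (l := l702) (by decide +kernel) s703

def p708 : AP := ⟨[nat_lit 644], [], (nat_lit 193), ⟨[nat_lit 0, nat_lit 73, nat_lit 65], [nat_lit 0, nat_lit 87, nat_lit 51], ⟨[nat_lit 0x4b983934968222232c07a95f355037], [nat_lit 169472, nat_lit 167680, nat_lit 162176, nat_lit 159488, nat_lit 154752, nat_lit 147584, nat_lit 145928, nat_lit 143256, nat_lit 136276, nat_lit 133425, nat_lit 1142, nat_lit 4128, nat_lit 9024, nat_lit 13712, nat_lit 17952, nat_lit 21888, nat_lit 25216, nat_lit 29440, nat_lit 37888, nat_lit 41259, nat_lit 36891, nat_lit 33881, nat_lit 28787, nat_lit 24711, nat_lit 20551, nat_lit 16417, nat_lit 12294, nat_lit 8201, nat_lit 4100, nat_lit 2]⟩⟩⟩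
def p709 : AP := ⟨[nat_lit 106, nat_lit 106, nat_lit 646, nat_lit 80], [], (nat_lit 370), ⟨[nat_lit 0, nat_lit 80, nat_lit 93], [nat_lit 0, nat_lit 46], ⟨[nat_lit 0x2422c099e2022936a56775aa5ba872], [nat_lit 175104, nat_lit 165632, nat_lit 160768, nat_lit 157248, nat_lit 152928, nat_lit 148080, nat_lit 144592, nat_lit 141216, nat_lit 136596, nat_lit 131138, nat_lit 1810, nat_lit 4972, nat_lit 13312, nat_lit 17088, nat_lit 21376, nat_lit 24704, nat_lit 29696, nat_lit 34304, nat_lit 37888, nat_lit 41543, nat_lit 37935, nat_lit 32909, nat_lit 28721, nat_lit 25132, nat_lit 20611, nat_lit 16418, nat_lit 12291, nat_lit 8257, nat_lit 4105, nat_lit 4]⟩⟩⟩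
def p710 : AP := ⟨[], [], (nat_lit 1234), ⟨[nat_lit 0, nat_lit 16, nat_lit 52], [nat_lit 78, nat_lit 48], ⟨[nat_lit 0xb01d3799a9a951482a44b8e2c38961], [nat_lit 175104, nat_lit 169472, nat_lit 165632, nat_lit 160384, nat_lit 156416, nat_lit 152512, nat_lit 149344, nat_lit 145304, nat_lit 139824, nat_lit 136084, nat_lit 132096, nat_lit 1180, nat_lit 6104, nat_lit 9216, nat_lit 13264, nat_lit 16416, nat_lit 22208, nat_lit 24960, nat_lit 30208, nat_lit 33280, nat_lit 37888, nat_lit 41784, nat_lit 37073, nat_lit 32880, nat_lit 29265, nat_lit 24590, nat_lit 20507, nat_lit 16429, nat_lit 12291, nat_lit 8]⟩⟩⟩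
def p711 : AP := ⟨[nat_lit 647, nat_lit 87, nat_lit 647, nat_lit 86], [], (nat_lit 844), ⟨[nat_lit 19, nat_lit 67], [nat_lit 0, nat_lit 20, nat_lit 93], ⟨[nat_lit 0x8984970037b3d0aa94ec22e436c274], [nat_lit 173056, nat_lit 169472, nat_lit 165376, nat_lit 161408, nat_lit 157312, nat_lit 153280, nat_lit 148960, nat_lit 143416, nat_lit 139444, nat_lit 136712, nat_lit 133919, nat_lit 32, nat_lit 4684, nat_lit 8584, nat_lit 12352, nat_lit 17856, nat_lit 22464, nat_lit 30464, nat_lit 37888, nat_lit 41599, nat_lit 37976, nat_lit 32915, nat_lit 28769, nat_lit 24733, nat_lit 20491, nat_lit 16453, nat_lit 12309, nat_lit 8201]⟩⟩⟩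
def p712 : AP := ⟨[nat_lit 76], [], (nat_lit 196), ⟨[nat_lit 45, nat_lit 62], [nat_lit 0, nat_lit 76, nat_lit 92], ⟨[nat_lit 0x942237d106511973b9766953508813], [nat_lit 173056, nat_lit 169472, nat_lit 165376, nat_lit 160512, nat_lit 156032, nat_lit 154464, nat_lit 148064, nat_lit 144888, nat_lit 140852, nat_lit 135962, nat_lit 132276, nat_lit 622, nat_lit 4684, nat_lit 8224, nat_lit 12864, nat_lit 17952, nat_lit 21056, nat_lit 26112, nat_lit 30464, nat_lit 34304, nat_lit 41440, nat_lit 37216, nat_lit 32987, nat_lit 28714, nat_lit 24608, nat_lit 20488, nat_lit 16646, nat_lit 12294, nat_lit 4097]⟩⟩⟩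
def l713 : List AP := [⟨[nat_lit 629, nat_lit 36], [], (nat_lit 1032), ⟨[nat_lit 8, nat_lit 46], [nat_lit 75, nat_lit 53], ⟨[nat_lit 0x7892b75ec32411431c2d2d64a8b260], [nat_lit 174080, nat_lit 168960, nat_lit 165120, nat_lit 160256, nat_lit 158336, nat_lit 153984, nat_lit 151136, nat_lit 145176, nat_lit 142208, nat_lit 136118, nat_lit 134321, nat_lit 318, nat_lit 5688, nat_lit 9328, nat_lit 12368, nat_lit 16736, nat_lit 22464, nat_lit 25728, nat_lit 29184, nat_lit 37888, nat_lit 41614, nat_lit 38306, nat_lit 32840, nat_lit 29725, nat_lit 24619, nat_lit 20497, nat_lit 16398, nat_lit 12309, nat_lit 8193, nat_lit 4]⟩⟩⟩]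
theorem s713 : Suf yT 2050 (ldrop wQ 37) (apW dcM p712) (tgtN dcM p712.e) := Suf.fin' (l := l713) (by decide +kernel)
def l712 : List AP := [⟨[], [], (nat_lit 1228), ⟨[nat_lit 0, nat_lit 19, nat_lit 67], [nat_lit 71, nat_lit 46], ⟨[nat_lit 0x8d84a70c2433d092d68dbae4064e07], [nat_lit 173056, nat_lit 165120, nat_lit 161536, nat_lit 157056, nat_lit 152800, nat_lit 148704, nat_lit 146888, nat_lit 141060, nat_lit 135356, nat_lit 133089, nat_lit 1174, nat_lit 4476, nat_lit 9560, nat_lit 12352, nat_lit 17184, nat_lit 21952, nat_lit 26240, nat_lit 30208, nat_lit 37888, nat_lit 41558, nat_lit 37294, nat_lit 32951, nat_lit 28744, nat_lit 24752, nat_lit 20501, nat_lit 16422, nat_lit 12290, nat_lit 8224, nat_lit 4104]⟩⟩⟩,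
  ⟨[nat_lit 81], [], (nat_lit 192), ⟨[nat_lit 26, nat_lit 68], [nat_lit 44, nat_lit 63], ⟨[nat_lit 0x9044069ee861aab2d1ca7a6c488e70], [nat_lit 174080, nat_lit 168960, nat_lit 164352, nat_lit 163328, nat_lit 157376, nat_lit 149600, nat_lit 145920, nat_lit 141380, nat_lit 139196, nat_lit 134118, nat_lit 1246, nat_lit 4684, nat_lit 9152, nat_lit 13856, nat_lit 16448, nat_lit 20672, nat_lit 24832, nat_lit 29952, nat_lit 33280, nat_lit 37888, nat_lit 41771, nat_lit 38285, nat_lit 32940, nat_lit 29030, nat_lit 24577, nat_lit 20766, nat_lit 16385, nat_lit 12419, nat_lit 8449, nat_lit 4128]⟩⟩⟩]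
theorem s712 : Suf yT 2050 (ldrop wQ 29) (apW dcM p711) (tgtN dcM p711.e) := Suf.seg (l := l712) (by decide +kernel) s713
def l711 : List AP := [⟨[nat_lit 214, nat_lit 212], [], (nat_lit 413), ⟨[nat_lit 0, nat_lit 35, nat_lit 53], [nat_lit 0, nat_lit 79, nat_lit 50], ⟨[nat_lit 0x78d94bce02891cb548ad4241635427], [nat_lit 173056, nat_lit 171520, nat_lit 164352, nat_lit 160768, nat_lit 157696, nat_lit 151776, nat_lit 149104, nat_lit 145760, nat_lit 142092, nat_lit 138570, nat_lit 133830, nat_lit 1180, nat_lit 5120, nat_lit 9384, nat_lit 13952, nat_lit 18112, nat_lit 21504, nat_lit 25728, nat_lit 28928, nat_lit 33280, nat_lit 41341, nat_lit 37331, nat_lit 33393, nat_lit 28996, nat_lit 24729, nat_lit 20499, nat_lit 16398, nat_lit 12309, nat_lit 4104, nat_lit 2]⟩⟩⟩,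
  ⟨[nat_lit 219, nat_lit 214, nat_lit 172], [], (nat_lit 382), ⟨[nat_lit 0, nat_lit 71, nat_lit 46], [nat_lit 0, nat_lit 22, nat_lit 68], ⟨[nat_lit 0xb2d0a1be44bd689809c589da101993], [nat_lit 174080, nat_lit 171520, nat_lit 167680, nat_lit 160768, nat_lit 159552, nat_lit 153632, nat_lit 149088, nat_lit 146368, nat_lit 141104, nat_lit 135786, nat_lit 131887, nat_lit 1318, nat_lit 5716, nat_lit 8784, nat_lit 13328, nat_lit 18272, nat_lit 21568, nat_lit 25728, nat_lit 29440, nat_lit 34304, nat_lit 41841, nat_lit 38249, nat_lit 32920, nat_lit 29055, nat_lit 24719, nat_lit 20509, nat_lit 16398, nat_lit 12291, nat_lit 8210]⟩⟩⟩]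
theorem s711 : Suf yT 2050 (ldrop wQ 23) (apW dcM p710) (tgtN dcM p710.e) := Suf.seg (l := l711) (by decide +kernel) s712
def l710 : List AP := [⟨[nat_lit 171, nat_lit 173], [], (nat_lit 413), ⟨[nat_lit 36], [nat_lit 0, nat_lit 42, nat_lit 60], ⟨[nat_lit 0x6b067546ae4242591a025d9f3bd004], [nat_lit 169984, nat_lit 164096, nat_lit 157376, nat_lit 151648, nat_lit 147648, nat_lit 144048, nat_lit 140744, nat_lit 135356, nat_lit 131305, nat_lit 16, nat_lit 4684, nat_lit 9280, nat_lit 14144, nat_lit 16896, nat_lit 22272, nat_lit 25728, nat_lit 30464, nat_lit 33792, nat_lit 41065, nat_lit 37311, nat_lit 32964, nat_lit 29036, nat_lit 24628, nat_lit 20567, nat_lit 16387, nat_lit 12421, nat_lit 8201, nat_lit 4112, nat_lit 2]⟩⟩⟩,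
  ⟨[nat_lit 172, nat_lit 213, nat_lit 214, nat_lit 212, nat_lit 170], [], (nat_lit 854), ⟨[nat_lit 0, nat_lit 17, nat_lit 53], [nat_lit 82, nat_lit 54], ⟨[nat_lit 0xb55d47b1b7015135402748e2622c52], [nat_lit 169472, nat_lit 166144, nat_lit 156416, nat_lit 155072, nat_lit 149856, nat_lit 146632, nat_lit 142828, nat_lit 138318, nat_lit 131304, nat_lit 1140, nat_lit 4408, nat_lit 8928, nat_lit 13696, nat_lit 17856, nat_lit 25216, nat_lit 30464, nat_lit 33280, nat_lit 37888, nat_lit 41710, nat_lit 38353, nat_lit 33354, nat_lit 29704, nat_lit 24615, nat_lit 20545, nat_lit 16643, nat_lit 12801, nat_lit 64]⟩⟩⟩]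
theorem s710 : Suf yT 2050 (ldrop wQ 14) (apW dcM p709) (tgtN dcM p709.e) := Suf.seg (l := l710) (by decide +kernel) s711
def l709 : List AP := [⟨[nat_lit 648, nat_lit 647, nat_lit 644, nat_lit 85], [], (nat_lit 844), ⟨[nat_lit 80, nat_lit 60], [nat_lit 0, nat_lit 10, nat_lit 47], ⟨[nat_lit 0xac4105c9e4b0d48098b46b2e23cdc9], [nat_lit 168960, nat_lit 164608, nat_lit 160256, nat_lit 157248, nat_lit 153504, nat_lit 148240, nat_lit 143400, nat_lit 141260, nat_lit 136068, nat_lit 132783, nat_lit 1928, nat_lit 4720, nat_lit 10160, nat_lit 12944, nat_lit 18336, nat_lit 22464, nat_lit 30208, nat_lit 41902, nat_lit 36952, nat_lit 32992, nat_lit 28733, nat_lit 24624, nat_lit 20560, nat_lit 16388, nat_lit 12418, nat_lit 8195, nat_lit 4101, nat_lit 4]⟩⟩⟩,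
  ⟨[], [], (nat_lit 1228), ⟨[nat_lit 10, nat_lit 54], [nat_lit 31, nat_lit 61], ⟨[nat_lit 0xad808589ed88d5030527232f2a3a65], [nat_lit 168960, nat_lit 164352, nat_lit 161280, nat_lit 157248, nat_lit 152480, nat_lit 149248, nat_lit 144736, nat_lit 141704, nat_lit 135998, nat_lit 132627, nat_lit 718, nat_lit 5024, nat_lit 10128, nat_lit 13616, nat_lit 18304, nat_lit 20736, nat_lit 24832, nat_lit 28928, nat_lit 41898, nat_lit 37990, nat_lit 32965, nat_lit 29050, nat_lit 24850, nat_lit 20619, nat_lit 16388, nat_lit 12419, nat_lit 8200, nat_lit 4160, nat_lit 2]⟩⟩⟩]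
theorem s709 : Suf yT 2050 (ldrop wQ 6) (apW dcM p708) (tgtN dcM p708.e) := Suf.seg (l := l709) (by decide +kernel) s710
def l708 : List AP := [⟨[nat_lit 7, nat_lit 2, nat_lit 625, nat_lit 628, nat_lit 0, nat_lit 2], [], (nat_lit 26), ⟨[nat_lit 0, nat_lit 16, nat_lit 62], [nat_lit 0, nat_lit 3, nat_lit 51], ⟨[nat_lit 0x5a24eaa8e0a0ca96daf33309078451], [nat_lit 174080, nat_lit 171008, nat_lit 167168, nat_lit 160128, nat_lit 157248, nat_lit 152768, nat_lit 150368, nat_lit 144376, nat_lit 140684, nat_lit 138914, nat_lit 133964, nat_lit 1298, nat_lit 4100, nat_lit 8704, nat_lit 13664, nat_lit 17888, nat_lit 21120, nat_lit 25088, nat_lit 29184, nat_lit 34304, nat_lit 41787, nat_lit 38231, nat_lit 32988, nat_lit 28973, nat_lit 24630, nat_lit 20547, nat_lit 16420, nat_lit 12289, nat_lit 8195, nat_lit 4100]⟩⟩⟩,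
  ⟨[nat_lit 41, nat_lit 41, nat_lit 37, nat_lit 16, nat_lit 632], [], (nat_lit 150), ⟨[nat_lit 84, nat_lit 61], [nat_lit 0, nat_lit 20, nat_lit 50], ⟨[nat_lit 0x3b9f29a48b896950820660d17136ca], [nat_lit 175104, nat_lit 166656, nat_lit 162176, nat_lit 159680, nat_lit 152000, nat_lit 148352, nat_lit 143536, nat_lit 142456, nat_lit 138014, nat_lit 131085, nat_lit 724, nat_lit 5544, nat_lit 9040, nat_lit 12384, nat_lit 17888, nat_lit 22144, nat_lit 24704, nat_lit 29184, nat_lit 33792, nat_lit 41558, nat_lit 38296, nat_lit 33520, nat_lit 29296, nat_lit 25122, nat_lit 20510, nat_lit 16399, nat_lit 12290, nat_lit 8195, nat_lit 4097]⟩⟩⟩]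
theorem rQ14 : Suf yT 2050 wQ [yT.get 48] 0 := Suf.seg (l := l708) (by decide +kernel) s709

def p714 : AP := ⟨[nat_lit 644], [], (nat_lit 193), ⟨[nat_lit 0, nat_lit 25, nat_lit 51], [nat_lit 38, nat_lit 52], ⟨[nat_lit 0x9568c00dd069a243895742e6f286c9], [nat_lit 173056, nat_lit 168448, nat_lit 164864, nat_lit 160256, nat_lit 156928, nat_lit 152640, nat_lit 147840, nat_lit 147048, nat_lit 140292, nat_lit 135730, nat_lit 131447, nat_lit 1918, nat_lit 5580, nat_lit 9664, nat_lit 12416, nat_lit 17152, nat_lit 22336, nat_lit 24704, nat_lit 29184, nat_lit 37888, nat_lit 41694, nat_lit 37986, nat_lit 32911, nat_lit 29046, nat_lit 24584, nat_lit 20506, nat_lit 16426, nat_lit 8194, nat_lit 4097, nat_lit 2]⟩⟩⟩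
def p715 : AP := ⟨[nat_lit 100, nat_lit 102, nat_lit 76], [], (nat_lit 180), ⟨[nat_lit 0, nat_lit 45, nat_lit 57], [nat_lit 0, nat_lit 1, nat_lit 49], ⟨[nat_lit 0x8c26629c925b0757aae0a3449b202e], [nat_lit 174080, nat_lit 168448, nat_lit 164096, nat_lit 163456, nat_lit 156160, nat_lit 152128, nat_lit 150864, nat_lit 147296, nat_lit 142848, nat_lit 138742, nat_lit 133582, nat_lit 810, nat_lit 6068, nat_lit 9904, nat_lit 12976, nat_lit 17248, nat_lit 22464, nat_lit 25984, nat_lit 29696, nat_lit 33792, nat_lit 37888, nat_lit 41750, nat_lit 38051, nat_lit 32826, nat_lit 29284, nat_lit 24724, nat_lit 20767, nat_lit 16391, nat_lit 12544, nat_lit 8193, nat_lit 4097]⟩⟩⟩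
def p716 : AP := ⟨[], [], (nat_lit 1226), ⟨[nat_lit 0, nat_lit 78, nat_lit 60], [nat_lit 13, nat_lit 89], ⟨[nat_lit 0x78677440922d554331cb1a407b09b1], [nat_lit 173056, nat_lit 165632, nat_lit 160256, nat_lit 158400, nat_lit 151872, nat_lit 147872, nat_lit 144560, nat_lit 140544, nat_lit 135954, nat_lit 131696, nat_lit 1004, nat_lit 5488, nat_lit 8256, nat_lit 13952, nat_lit 17152, nat_lit 22272, nat_lit 30208, nat_lit 34304, nat_lit 37888, nat_lit 41654, nat_lit 38374, nat_lit 32874, nat_lit 29787, nat_lit 20628, nat_lit 16426, nat_lit 12324, nat_lit 4112, nat_lit 2]⟩⟩⟩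
def p717 : AP := ⟨[nat_lit 87, nat_lit 79, nat_lit 77, nat_lit 78, nat_lit 76], [], (nat_lit 844), ⟨[nat_lit 35, nat_lit 49], [nat_lit 43, nat_lit 48], ⟨[nat_lit 0x1a4ea844c175a682098f2d0156caeb], [nat_lit 173056, nat_lit 170496, nat_lit 164608, nat_lit 161280, nat_lit 157376, nat_lit 152928, nat_lit 148640, nat_lit 143416, nat_lit 139732, nat_lit 136536, nat_lit 132315, nat_lit 1966, nat_lit 4568, nat_lit 8520, nat_lit 13712, nat_lit 16864, nat_lit 21120, nat_lit 26112, nat_lit 29184, nat_lit 37888, nat_lit 41632, nat_lit 32792, nat_lit 29711, nat_lit 24586, nat_lit 20634, nat_lit 16416, nat_lit 12291, nat_lit 8209, nat_lit 4097, nat_lit 2]⟩⟩⟩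
def p718 : AP := ⟨[nat_lit 76], [], (nat_lit 196), ⟨[nat_lit 0, nat_lit 36, nat_lit 61], [nat_lit 39, nat_lit 89], ⟨[nat_lit 0x4b992082688d577a08cf29d50b0da4], [nat_lit 173056, nat_lit 168448, nat_lit 164352, nat_lit 160000, nat_lit 156352, nat_lit 151840, nat_lit 148192, nat_lit 143920, nat_lit 140236, nat_lit 136318, nat_lit 133521, nat_lit 16, nat_lit 5884, nat_lit 8688, nat_lit 12976, nat_lit 16448, nat_lit 21184, nat_lit 24832, nat_lit 29952, nat_lit 37888, nat_lit 41378, nat_lit 36914, nat_lit 32969, nat_lit 28967, nat_lit 24593, nat_lit 20639, nat_lit 16385, nat_lit 8323, nat_lit 4224]⟩⟩⟩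
def l719 : List AP := [⟨[nat_lit 38, nat_lit 39, nat_lit 36], [], (nat_lit 1032), ⟨[nat_lit 0, nat_lit 31, nat_lit 90], [nat_lit 5, nat_lit 51], ⟨[nat_lit 0x2d50015cca9ba964ad903c48d78e41], [nat_lit 174080, nat_lit 168960, nat_lit 164608, nat_lit 159872, nat_lit 158976, nat_lit 154976, nat_lit 150816, nat_lit 143896, nat_lit 142912, nat_lit 136254, nat_lit 134920, nat_lit 1142, nat_lit 9336, nat_lit 14176, nat_lit 17120, nat_lit 22336, nat_lit 25216, nat_lit 29952, nat_lit 34304, nat_lit 37888, nat_lit 41475, nat_lit 37888, nat_lit 32963, nat_lit 28723, nat_lit 24861, nat_lit 20492, nat_lit 16392, nat_lit 12291, nat_lit 8227, nat_lit 4097]⟩⟩⟩]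
theorem s719 : Suf yT 2052 (ldrop wQ 37) (apW dcM p718) (tgtN dcM p718.e) := Suf.fin' (l := l719) (by decide +kernel)
def l718 : List AP := [⟨[], [], (nat_lit 1228), ⟨[nat_lit 28, nat_lit 68], [nat_lit 0, nat_lit 18, nat_lit 92], ⟨[nat_lit 0x1b8e8854c54da6a1116d0d0117de4c], [nat_lit 175104, nat_lit 170496, nat_lit 164352, nat_lit 162944, nat_lit 158400, nat_lit 154528, nat_lit 147968, nat_lit 143520, nat_lit 140220, nat_lit 138144, nat_lit 134745, nat_lit 2012, nat_lit 4412, nat_lit 9328, nat_lit 14176, nat_lit 17440, nat_lit 20736, nat_lit 25600, nat_lit 33280, nat_lit 37888, nat_lit 41763, nat_lit 38176, nat_lit 33841, nat_lit 28750, nat_lit 24717, nat_lit 21504, nat_lit 16641, nat_lit 12291, nat_lit 8320, nat_lit 4097]⟩⟩⟩,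
  ⟨[nat_lit 78], [], (nat_lit 192), ⟨[nat_lit 36, nat_lit 66], [nat_lit 87, nat_lit 50], ⟨[nat_lit 0xb52b28ce17111cb38d0d49581501e6], [nat_lit 171008, nat_lit 164352, nat_lit 160384, nat_lit 158208, nat_lit 151872, nat_lit 147808, nat_lit 146368, nat_lit 143088, nat_lit 137462, nat_lit 134076, nat_lit 1614, nat_lit 4388, nat_lit 9776, nat_lit 13152, nat_lit 17152, nat_lit 20544, nat_lit 25088, nat_lit 28928, nat_lit 37888, nat_lit 41345, nat_lit 36929, nat_lit 33911, nat_lit 29005, nat_lit 24590, nat_lit 20634, nat_lit 16391, nat_lit 12292, nat_lit 8202, nat_lit 4101]⟩⟩⟩]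
theorem s718 : Suf yT 2052 (ldrop wQ 29) (apW dcM p717) (tgtN dcM p717.e) := Suf.seg (l := l718) (by decide +kernel) s719
def l717 : List AP := [⟨[nat_lit 642, nat_lit 68, nat_lit 51, nat_lit 49], [], (nat_lit 130), ⟨[nat_lit 24, nat_lit 58], [nat_lit 34, nat_lit 48], ⟨[nat_lit 0x604725a60f9ddb5b28e0315d1a2044], [nat_lit 174080, nat_lit 168448, nat_lit 166656, nat_lit 163072, nat_lit 158336, nat_lit 152992, nat_lit 148976, nat_lit 145352, nat_lit 141340, nat_lit 137246, nat_lit 132566, nat_lit 16, nat_lit 5568, nat_lit 8448, nat_lit 14144, nat_lit 17568, nat_lit 30208, nat_lit 33280, nat_lit 41350, nat_lit 37190, nat_lit 32951, nat_lit 28965, nat_lit 25128, nat_lit 20552, nat_lit 16516, nat_lit 12352, nat_lit 8194, nat_lit 256]⟩⟩⟩,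
  ⟨[nat_lit 46, nat_lit 67, nat_lit 51, nat_lit 48], [], (nat_lit 1044), ⟨[nat_lit 0, nat_lit 72, nat_lit 49], [nat_lit 0, nat_lit 10, nat_lit 47], ⟨[nat_lit 0x18036a5ea262a474349332e2f2ba09], [nat_lit 175104, nat_lit 168960, nat_lit 165376, nat_lit 161664, nat_lit 157824, nat_lit 155104, nat_lit 149616, nat_lit 143400, nat_lit 142140, nat_lit 136592, nat_lit 133846, nat_lit 434, nat_lit 5508, nat_lit 10224, nat_lit 14304, nat_lit 17920, nat_lit 20800, nat_lit 24704, nat_lit 29184, nat_lit 33280, nat_lit 41485, nat_lit 37138, nat_lit 33404, nat_lit 28739, nat_lit 24631, nat_lit 20555, nat_lit 16423, nat_lit 12304, nat_lit 8195, nat_lit 4097]⟩⟩⟩]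
theorem s717 : Suf yT 2052 (ldrop wQ 23) (apW dcM p716) (tgtN dcM p716.e) := Suf.seg (l := l717) (by decide +kernel) s718
def l716 : List AP := [⟨[nat_lit 72, nat_lit 641, nat_lit 46, nat_lit 68], [], (nat_lit 130), ⟨[nat_lit 3, nat_lit 66], [nat_lit 73, nat_lit 57], ⟨[nat_lit 0x3d915a662511b62c0e3355c8bc834], [nat_lit 175104, nat_lit 166912, nat_lit 162176, nat_lit 158272, nat_lit 153248, nat_lit 147984, nat_lit 145376, nat_lit 142004, nat_lit 138570, nat_lit 131643, nat_lit 1108, nat_lit 9664, nat_lit 12320, nat_lit 17248, nat_lit 20992, nat_lit 25984, nat_lit 28928, nat_lit 33280, nat_lit 40977, nat_lit 37341, nat_lit 33523, nat_lit 29263, nat_lit 24578, nat_lit 20744, nat_lit 16516, nat_lit 12545, nat_lit 8194, nat_lit 4100, nat_lit 8]⟩⟩⟩,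
  ⟨[nat_lit 73, nat_lit 643, nat_lit 55, nat_lit 69, nat_lit 53], [], (nat_lit 818), ⟨[nat_lit 13, nat_lit 58], [nat_lit 1, nat_lit 52], ⟨[nat_lit 0x7967441c830d55761a36924105b44e], [nat_lit 175104, nat_lit 169472, nat_lit 163328, nat_lit 156416, nat_lit 153472, nat_lit 150144, nat_lit 146568, nat_lit 143180, nat_lit 138396, nat_lit 133693, nat_lit 810, nat_lit 4800, nat_lit 8472, nat_lit 12624, nat_lit 18336, nat_lit 20544, nat_lit 26240, nat_lit 28928, nat_lit 33792, nat_lit 37888, nat_lit 41747, nat_lit 37037, nat_lit 33917, nat_lit 28742, nat_lit 24613, nat_lit 20509, nat_lit 16397, nat_lit 12306, nat_lit 8201, nat_lit 4101]⟩⟩⟩]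
theorem s716 : Suf yT 2052 (ldrop wQ 14) (apW dcM p715) (tgtN dcM p715.e) := Suf.seg (l := l716) (by decide +kernel) s717
def l715 : List AP := [⟨[nat_lit 77, nat_lit 646, nat_lit 85, nat_lit 84, nat_lit 76], [], (nat_lit 844), ⟨[nat_lit 0, nat_lit 82, nat_lit 90], [nat_lit 0, nat_lit 10, nat_lit 46], ⟨[nat_lit 0xbaea873c85a592a14a038cc203b4cc], [nat_lit 175104, nat_lit 171008, nat_lit 166144, nat_lit 160896, nat_lit 158720, nat_lit 154432, nat_lit 148464, nat_lit 145904, nat_lit 140548, nat_lit 135702, nat_lit 132069, nat_lit 210, nat_lit 5436, nat_lit 8264, nat_lit 13152, nat_lit 16576, nat_lit 21632, nat_lit 26368, nat_lit 28928, nat_lit 33792, nat_lit 41501, nat_lit 37080, nat_lit 32992, nat_lit 29022, nat_lit 24872, nat_lit 20630, nat_lit 16513, nat_lit 12293, nat_lit 8202, nat_lit 4101, nat_lit 4]⟩⟩⟩,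
  ⟨[], [], (nat_lit 1228), ⟨[nat_lit 0, nat_lit 24, nat_lit 54], [nat_lit 0, nat_lit 38, nat_lit 60], ⟨[nat_lit 0xbd2aa700915d928909872cc2f199b0], [nat_lit 169472, nat_lit 164096, nat_lit 157632, nat_lit 151936, nat_lit 149184, nat_lit 143568, nat_lit 141172, nat_lit 136630, nat_lit 133256, nat_lit 64, nat_lit 5884, nat_lit 9640, nat_lit 12352, nat_lit 17504, nat_lit 21248, nat_lit 25088, nat_lit 29696, nat_lit 33280, nat_lit 41682, nat_lit 38371, nat_lit 32866, nat_lit 29733, nat_lit 24577, nat_lit 20625, nat_lit 16526, nat_lit 12289, nat_lit 8227, nat_lit 4128]⟩⟩⟩]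
theorem s715 : Suf yT 2052 (ldrop wQ 6) (apW dcM p714) (tgtN dcM p714.e) := Suf.seg (l := l715) (by decide +kernel) s716
def l714 : List AP := [⟨[nat_lit 7, nat_lit 628, nat_lit 8, nat_lit 625, nat_lit 2], [], (nat_lit 26), ⟨[nat_lit 0, nat_lit 34, nat_lit 94], [nat_lit 0, nat_lit 16, nat_lit 48], ⟨[nat_lit 0x4d0688b48a986b0b9847b300f92cae], [nat_lit 173056, nat_lit 167168, nat_lit 162304, nat_lit 158336, nat_lit 153824, nat_lit 148912, nat_lit 146512, nat_lit 142760, nat_lit 135388, nat_lit 133130, nat_lit 1624, nat_lit 4952, nat_lit 10032, nat_lit 14176, nat_lit 16896, nat_lit 20992, nat_lit 24960, nat_lit 28928, nat_lit 41555, nat_lit 37269, nat_lit 32970, nat_lit 28732, nat_lit 24860, nat_lit 20633, nat_lit 16459, nat_lit 12304, nat_lit 8195, nat_lit 4100]⟩⟩⟩,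
  ⟨[nat_lit 15, nat_lit 43, nat_lit 15, nat_lit 17, nat_lit 14], [], (nat_lit 150), ⟨[nat_lit 18, nat_lit 46], [nat_lit 79, nat_lit 51], ⟨[nat_lit 0x9b1af849d1486843544a282e81d967], [nat_lit 168448, nat_lit 164608, nat_lit 160384, nat_lit 157632, nat_lit 152256, nat_lit 147600, nat_lit 145000, nat_lit 139368, nat_lit 137060, nat_lit 131454, nat_lit 1182, nat_lit 5080, nat_lit 9720, nat_lit 16928, nat_lit 22336, nat_lit 26112, nat_lit 28928, nat_lit 33280, nat_lit 37888, nat_lit 41887, nat_lit 38355, nat_lit 33994, nat_lit 29708, nat_lit 24853, nat_lit 20488, nat_lit 16515, nat_lit 8195]⟩⟩⟩]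
theorem rQ15 : Suf yT 2052 wQ [yT.get 49] 0 := Suf.seg (l := l714) (by decide +kernel) s715

def p720 : AP := ⟨[], [], (nat_lit 393), ⟨[nat_lit 28, nat_lit 65], [nat_lit 38, nat_lit 50], ⟨[nat_lit 0xb362103a5560e905a0ea310a97cc57], [nat_lit 175104, nat_lit 171008, nat_lit 166656, nat_lit 162176, nat_lit 157312, nat_lit 153952, nat_lit 150240, nat_lit 144488, nat_lit 142816, nat_lit 136854, nat_lit 131640, nat_lit 960, nat_lit 4488, nat_lit 10088, nat_lit 13376, nat_lit 18336, nat_lit 22208, nat_lit 25472, nat_lit 30208, nat_lit 33280, nat_lit 37888, nat_lit 41612, nat_lit 36988, nat_lit 32903, nat_lit 28796, nat_lit 24599, nat_lit 20502, nat_lit 16394, nat_lit 12310, nat_lit 8203, nat_lit 4101]⟩⟩⟩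
def p721 : AP := ⟨[nat_lit 175, nat_lit 215, nat_lit 215, nat_lit 170], [], (nat_lit 858), ⟨[nat_lit 0, nat_lit 9, nat_lit 94], [nat_lit 0, nat_lit 88, nat_lit 93], ⟨[nat_lit 0xab2854c836446e35994e99db0209e0], [nat_lit 173056, nat_lit 164864, nat_lit 161152, nat_lit 156096, nat_lit 152704, nat_lit 149408, nat_lit 143768, nat_lit 140856, nat_lit 137014, nat_lit 133048, nat_lit 5992, nat_lit 12960, nat_lit 16448, nat_lit 22336, nat_lit 29440, nat_lit 33280, nat_lit 37888, nat_lit 41463, nat_lit 37066, nat_lit 32948, nat_lit 29049, nat_lit 24601, nat_lit 20756, nat_lit 16457, nat_lit 12353, nat_lit 4608]⟩⟩⟩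
def p722 : AP := ⟨[], [], (nat_lit 941), ⟨[nat_lit 0, nat_lit 12, nat_lit 50], [nat_lit 0, nat_lit 44, nat_lit 46], ⟨[nat_lit 0x6dd9303d05186b2342c48d14b3b922], [nat_lit 175104, nat_lit 171008, nat_lit 166656, nat_lit 160768, nat_lit 159232, nat_lit 155168, nat_lit 147208, nat_lit 139512, nat_lit 136812, nat_lit 132877, nat_lit 1178, nat_lit 4780, nat_lit 8408, nat_lit 12368, nat_lit 16736, nat_lit 20800, nat_lit 26240, nat_lit 29952, nat_lit 33792, nat_lit 37888, nat_lit 41784, nat_lit 38368, nat_lit 33000, nat_lit 28705, nat_lit 24600, nat_lit 20485, nat_lit 16462, nat_lit 12357, nat_lit 8]⟩⟩⟩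
def p723 : AP := ⟨[nat_lit 171, nat_lit 214, nat_lit 170], [], (nat_lit 396), ⟨[nat_lit 0, nat_lit 16, nat_lit 50], [nat_lit 0, nat_lit 9, nat_lit 58], ⟨[nat_lit 0x1822da3eb33408e096eab08e962172], [nat_lit 174080, nat_lit 170496, nat_lit 166144, nat_lit 161536, nat_lit 157760, nat_lit 153952, nat_lit 147696, nat_lit 146088, nat_lit 140072, nat_lit 136100, nat_lit 132213, nat_lit 492, nat_lit 5296, nat_lit 9352, nat_lit 13920, nat_lit 17024, nat_lit 21888, nat_lit 25600, nat_lit 29696, nat_lit 34304, nat_lit 37888, nat_lit 41572, nat_lit 37183, nat_lit 32975, nat_lit 28747, nat_lit 24720, nat_lit 21014, nat_lit 16390, nat_lit 12294, nat_lit 8202, nat_lit 32]⟩⟩⟩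
def p724 : AP := ⟨[], [], (nat_lit 339), ⟨[nat_lit 74, nat_lit 54], [nat_lit 36, nat_lit 47], ⟨[nat_lit 0x58d31abce89b5c131052558ac05e90], [nat_lit 174080, nat_lit 169984, nat_lit 165888, nat_lit 160000, nat_lit 157760, nat_lit 155200, nat_lit 148944, nat_lit 145808, nat_lit 140480, nat_lit 136938, nat_lit 131984, nat_lit 1076, nat_lit 4380, nat_lit 9328, nat_lit 14112, nat_lit 17888, nat_lit 20992, nat_lit 24832, nat_lit 28928, nat_lit 37888, nat_lit 41845, nat_lit 38394, nat_lit 32840, nat_lit 28744, nat_lit 24584, nat_lit 21533, nat_lit 17423, nat_lit 12293, nat_lit 8200, nat_lit 4112, nat_lit 4]⟩⟩⟩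
def l725 : List AP := [⟨[], [], (nat_lit 1034), ⟨[nat_lit 35, nat_lit 57], [nat_lit 13, nat_lit 46], ⟨[nat_lit 0x3850f2016cb087035e25ab9b39512a], [nat_lit 173056, nat_lit 169472, nat_lit 165376, nat_lit 160512, nat_lit 156416, nat_lit 153504, nat_lit 147664, nat_lit 143680, nat_lit 139328, nat_lit 135398, nat_lit 133632, nat_lit 724, nat_lit 5904, nat_lit 8944, nat_lit 14208, nat_lit 17216, nat_lit 20672, nat_lit 24704, nat_lit 30464, nat_lit 34304, nat_lit 37888, nat_lit 41633, nat_lit 37902, nat_lit 32997, nat_lit 28985, nat_lit 24635, nat_lit 20566, nat_lit 16453, nat_lit 12307, nat_lit 8193, nat_lit 4097, nat_lit 2]⟩⟩⟩]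
theorem s725 : Suf yT 2056 (ldrop wQ 37) (apW dcM p724) (tgtN dcM p724.e) := Suf.fin' (l := l725) (by decide +kernel)
def l724 : List AP := [⟨[], [], (nat_lit 1046), ⟨[nat_lit 0, nat_lit 85, nat_lit 46], [nat_lit 0, nat_lit 74, nat_lit 60], ⟨[nat_lit 0x19a2ea26b60408d2864c988ef52d17], [nat_lit 174080, nat_lit 165888, nat_lit 163200, nat_lit 157952, nat_lit 152128, nat_lit 149440, nat_lit 145040, nat_lit 142056, nat_lit 137632, nat_lit 132790, nat_lit 434, nat_lit 5316, nat_lit 9752, nat_lit 12736, nat_lit 18272, nat_lit 20800, nat_lit 26240, nat_lit 29440, nat_lit 34304, nat_lit 41598, nat_lit 37363, nat_lit 32984, nat_lit 28759, nat_lit 24629, nat_lit 20494, nat_lit 16463, nat_lit 12305]⟩⟩⟩,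
  ⟨[nat_lit 659], [], (nat_lit 392), ⟨[nat_lit 0, nat_lit 6, nat_lit 92], [nat_lit 86, nat_lit 93], ⟨[nat_lit 0xb99e7729350a2251920b94e8d60056], [nat_lit 174080, nat_lit 171520, nat_lit 166912, nat_lit 160768, nat_lit 155712, nat_lit 152480, nat_lit 149840, nat_lit 144392, nat_lit 141224, nat_lit 138098, nat_lit 134582, nat_lit 700, nat_lit 5544, nat_lit 8680, nat_lit 13856, nat_lit 17536, nat_lit 21056, nat_lit 29952, nat_lit 34304, nat_lit 37888, nat_lit 41588, nat_lit 36937, nat_lit 32893, nat_lit 28719, nat_lit 24845, nat_lit 20484, nat_lit 16398, nat_lit 12311, nat_lit 8208, nat_lit 4097, nat_lit 2]⟩⟩⟩]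
theorem s724 : Suf yT 2056 (ldrop wQ 29) (apW dcM p723) (tgtN dcM p723.e) := Suf.seg (l := l724) (by decide +kernel) s725
def l723 : List AP := [⟨[nat_lit 413, nat_lit 677, nat_lit 418, nat_lit 411], [], (nat_lit 940), ⟨[nat_lit 0, nat_lit 72, nat_lit 57], [nat_lit 0, nat_lit 34, nat_lit 48], ⟨[nat_lit 0x931c7356d3a056d01222825457dc68], [nat_lit 174080, nat_lit 171520, nat_lit 164352, nat_lit 162688, nat_lit 159104, nat_lit 154944, nat_lit 149152, nat_lit 144192, nat_lit 140524, nat_lit 137440, nat_lit 134427, nat_lit 2018, nat_lit 5020, nat_lit 9072, nat_lit 13920, nat_lit 16416, nat_lit 22336, nat_lit 28928, nat_lit 34304, nat_lit 41755, nat_lit 37270, nat_lit 33475, nat_lit 28752, nat_lit 24716, nat_lit 20492, nat_lit 16461, nat_lit 12289, nat_lit 8226, nat_lit 4101]⟩⟩⟩,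
  ⟨[], [], (nat_lit 1236), ⟨[nat_lit 0, nat_lit 13, nat_lit 46], [nat_lit 3, nat_lit 90], ⟨[nat_lit 0xa85308897629de404aea9a074731a6], [nat_lit 173056, nat_lit 169472, nat_lit 165632, nat_lit 161024, nat_lit 156416, nat_lit 152576, nat_lit 148608, nat_lit 145104, nat_lit 141324, nat_lit 135212, nat_lit 131178, nat_lit 1516, nat_lit 5436, nat_lit 9216, nat_lit 13232, nat_lit 17248, nat_lit 20544, nat_lit 25600, nat_lit 34304, nat_lit 37888, nat_lit 41732, nat_lit 37026, nat_lit 32967, nat_lit 28764, nat_lit 24625, nat_lit 20565, nat_lit 16453, nat_lit 12420, nat_lit 8194, nat_lit 4101, nat_lit 2]⟩⟩⟩]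
theorem s723 : Suf yT 2056 (ldrop wQ 23) (apW dcM p722) (tgtN dcM p722.e) := Suf.seg (l := l723) (by decide +kernel) s724
def l722 : List AP := [⟨[], [], (nat_lit 941), ⟨[nat_lit 45, nat_lit 94], [nat_lit 36], ⟨[nat_lit 0x95cb47119349a2ab204f804676d560], [nat_lit 168960, nat_lit 161408, nat_lit 156864, nat_lit 152960, nat_lit 150944, nat_lit 143568, nat_lit 140460, nat_lit 136992, nat_lit 132371, nat_lit 16, nat_lit 5064, nat_lit 9408, nat_lit 13600, nat_lit 17280, nat_lit 21376, nat_lit 25856, nat_lit 28928, nat_lit 33792, nat_lit 37888, nat_lit 41722, nat_lit 37980, nat_lit 32984, nat_lit 29024, nat_lit 24583, nat_lit 20496, nat_lit 16391, nat_lit 12293, nat_lit 8202]⟩⟩⟩,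
  ⟨[nat_lit 675, nat_lit 675, nat_lit 468], [], (nat_lit 940), ⟨[nat_lit 0, nat_lit 2, nat_lit 68], [nat_lit 0, nat_lit 42, nat_lit 46], ⟨[nat_lit 0x68d9202d11b86b3818472d14f225d6], [nat_lit 173056, nat_lit 171008, nat_lit 167168, nat_lit 162560, nat_lit 159616, nat_lit 151840, nat_lit 150880, nat_lit 145464, nat_lit 139532, nat_lit 138290, nat_lit 131696, nat_lit 354, nat_lit 5228, nat_lit 9752, nat_lit 12720, nat_lit 18112, nat_lit 20608, nat_lit 25728, nat_lit 30464, nat_lit 41470, nat_lit 37214, nat_lit 33509, nat_lit 29012, nat_lit 24606, nat_lit 20625, nat_lit 16424, nat_lit 12294]⟩⟩⟩]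
theorem s722 : Suf yT 2056 (ldrop wQ 14) (apW dcM p721) (tgtN dcM p721.e) := Suf.seg (l := l722) (by decide +kernel) s723
def l721 : List AP := [⟨[nat_lit 659, nat_lit 661], [], (nat_lit 419), ⟨[nat_lit 35, nat_lit 69], [nat_lit 0, nat_lit 28, nat_lit 94], ⟨[nat_lit 0x7d1301216401653b183762ab169c6e], [nat_lit 173056, nat_lit 168448, nat_lit 165888, nat_lit 160512, nat_lit 155840, nat_lit 153120, nat_lit 147760, nat_lit 144688, nat_lit 140464, nat_lit 135292, nat_lit 131109, nat_lit 810, nat_lit 4812, nat_lit 9904, nat_lit 12544, nat_lit 16896, nat_lit 22464, nat_lit 26240, nat_lit 29952, nat_lit 33280, nat_lit 41337, nat_lit 37094, nat_lit 32915, nat_lit 29018, nat_lit 24729, nat_lit 20998, nat_lit 16448, nat_lit 12291, nat_lit 8193, nat_lit 4105, nat_lit 4]⟩⟩⟩,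
  ⟨[], [], (nat_lit 418), ⟨[nat_lit 0, nat_lit 11], [nat_lit 0, nat_lit 13, nat_lit 50], ⟨[nat_lit 0x781331456ca1650359cd22aa8b8ce1], [nat_lit 171008, nat_lit 159872, nat_lit 157248, nat_lit 152480, nat_lit 148944, nat_lit 143448, nat_lit 139432, nat_lit 136294, nat_lit 132925, nat_lit 1180, nat_lit 4608, nat_lit 9008, nat_lit 13024, nat_lit 17856, nat_lit 21440, nat_lit 25344, nat_lit 29696, nat_lit 33792, nat_lit 41887, nat_lit 37178, nat_lit 33355, nat_lit 29808, nat_lit 24705, nat_lit 20573, nat_lit 16419, nat_lit 12289, nat_lit 8258, nat_lit 4097, nat_lit 2]⟩⟩⟩]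
theorem s721 : Suf yT 2056 (ldrop wQ 6) (apW dcM p720) (tgtN dcM p720.e) := Suf.seg (l := l721) (by decide +kernel) s722
def l720 : List AP := [⟨[nat_lit 1, nat_lit 5, nat_lit 3, nat_lit 1, nat_lit 628, nat_lit 0], [], (nat_lit 40), ⟨[nat_lit 0, nat_lit 43, nat_lit 55], [nat_lit 85, nat_lit 63], ⟨[nat_lit 0x63dcb854e26a548a0c91b48a0986e6], [nat_lit 175104, nat_lit 169984, nat_lit 164608, nat_lit 163200, nat_lit 158336, nat_lit 154752, nat_lit 147936, nat_lit 145144, nat_lit 140672, nat_lit 139114, nat_lit 133928, nat_lit 738, nat_lit 4756, nat_lit 9872, nat_lit 12848, nat_lit 16480, nat_lit 20928, nat_lit 25600, nat_lit 29696, nat_lit 33792, nat_lit 37888, nat_lit 40961, nat_lit 37244, nat_lit 33405, nat_lit 28673, nat_lit 25097, nat_lit 20495, nat_lit 16451, nat_lit 12292, nat_lit 8195]⟩⟩⟩,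
  ⟨[nat_lit 23, nat_lit 31, nat_lit 634, nat_lit 638, nat_lit 23, nat_lit 29], [], (nat_lit 338), ⟨[nat_lit 0, nat_lit 20, nat_lit 53], [nat_lit 7, nat_lit 64], ⟨[nat_lit 0x831d3bd548018a29362f190274da8b], [nat_lit 175104, nat_lit 169984, nat_lit 164352, nat_lit 162944, nat_lit 158848, nat_lit 155488, nat_lit 149264, nat_lit 144104, nat_lit 140080, nat_lit 137856, nat_lit 133403, nat_lit 1336, nat_lit 5112, nat_lit 8632, nat_lit 13424, nat_lit 18112, nat_lit 21184, nat_lit 25472, nat_lit 30208, nat_lit 34304, nat_lit 37888, nat_lit 41011, nat_lit 36976, nat_lit 32827, nat_lit 28777, nat_lit 24611, nat_lit 20567, nat_lit 16416, nat_lit 12420, nat_lit 8203, nat_lit 4097]⟩⟩⟩]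
theorem rQ16 : Suf yT 2056 wQ [yT.get 50] 0 := Suf.seg (l := l720) (by decide +kernel) s721

def p726 : AP := ⟨[], [], (nat_lit 393), ⟨[nat_lit 0, nat_lit 83, nat_lit 55], [nat_lit 43, nat_lit 51], ⟨[nat_lit 0xbc4c75a676285e8509a4a31d000e55], [nat_lit 175104, nat_lit 168960, nat_lit 166912, nat_lit 163328, nat_lit 158208, nat_lit 152800, nat_lit 149216, nat_lit 143656, nat_lit 141344, nat_lit 138048, nat_lit 133071, nat_lit 804, nat_lit 5572, nat_lit 9000, nat_lit 16640, nat_lit 21440, nat_lit 29952, nat_lit 41528, nat_lit 36997, nat_lit 32786, nat_lit 28702, nat_lit 24631, nat_lit 20546, nat_lit 16423, nat_lit 12295, nat_lit 8201]⟩⟩⟩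
def p727 : AP := ⟨[nat_lit 663, nat_lit 213, nat_lit 212], [], (nat_lit 440), ⟨[nat_lit 0, nat_lit 83, nat_lit 54], [nat_lit 0, nat_lit 81, nat_lit 64], ⟨[nat_lit 0x148e06a2e14a8d358df46122e2d6d0], [nat_lit 173056, nat_lit 166912, nat_lit 161280, nat_lit 155776, nat_lit 152640, nat_lit 149008, nat_lit 143368, nat_lit 140068, nat_lit 136244, nat_lit 131123, nat_lit 760, nat_lit 5208, nat_lit 10224, nat_lit 12912, nat_lit 16448, nat_lit 22144, nat_lit 24704, nat_lit 29696, nat_lit 33280, nat_lit 41936, nat_lit 36877, nat_lit 32928, nat_lit 28960, nat_lit 25658, nat_lit 20547, nat_lit 17412, nat_lit 12321, nat_lit 8211, nat_lit 4100, nat_lit 2]⟩⟩⟩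
def p728 : AP := ⟨[], [], (nat_lit 1236), ⟨[nat_lit 0, nat_lit 82, nat_lit 62], [nat_lit 26, nat_lit 48], ⟨[nat_lit 0x9a25529d3710556819a0710715b28f], [nat_lit 175104, nat_lit 164096, nat_lit 163200, nat_lit 156864, nat_lit 152480, nat_lit 149968, nat_lit 145944, nat_lit 143164, nat_lit 137490, nat_lit 134485, nat_lit 1014, nat_lit 4380, nat_lit 8928, nat_lit 14144, nat_lit 17888, nat_lit 20992, nat_lit 25728, nat_lit 28928, nat_lit 34304, nat_lit 41817, nat_lit 38026, nat_lit 33361, nat_lit 28769, nat_lit 24630, nat_lit 20508, nat_lit 16421, nat_lit 12295, nat_lit 8200, nat_lit 4100]⟩⟩⟩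
def p729 : AP := ⟨[nat_lit 177, nat_lit 218], [], (nat_lit 418), ⟨[nat_lit 0, nat_lit 21, nat_lit 58], [nat_lit 0, nat_lit 14, nat_lit 60], ⟨[nat_lit 0x42932a04ef8ae7070ae42b41619aac], [nat_lit 173056, nat_lit 169472, nat_lit 164352, nat_lit 161024, nat_lit 157440, nat_lit 152992, nat_lit 148016, nat_lit 144144, nat_lit 140964, nat_lit 138460, nat_lit 132110, nat_lit 2012, nat_lit 5436, nat_lit 8504, nat_lit 13312, nat_lit 17472, nat_lit 21312, nat_lit 25600, nat_lit 28928, nat_lit 33280, nat_lit 41783, nat_lit 38006, nat_lit 33303, nat_lit 28707, nat_lit 24888, nat_lit 20552, nat_lit 16395, nat_lit 12294, nat_lit 8194, nat_lit 4101, nat_lit 2]⟩⟩⟩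
def p730 : AP := ⟨[nat_lit 214, nat_lit 170], [], (nat_lit 390), ⟨[nat_lit 29, nat_lit 70], [nat_lit 0, nat_lit 32, nat_lit 66], ⟨[nat_lit 0x9268a2c6e60a1e72016c85843ab5d3], [nat_lit 170496, nat_lit 161152, nat_lit 156864, nat_lit 153024, nat_lit 149456, nat_lit 143856, nat_lit 140024, nat_lit 136528, nat_lit 132590, nat_lit 78, nat_lit 5652, nat_lit 9648, nat_lit 12560, nat_lit 17152, nat_lit 21184, nat_lit 29440, nat_lit 37888, nat_lit 40995, nat_lit 37263, nat_lit 33397, nat_lit 28942, nat_lit 24756, nat_lit 20509, nat_lit 16392, nat_lit 12293, nat_lit 8195, nat_lit 4101]⟩⟩⟩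
def l731 : List AP := [⟨[], [], (nat_lit 1034), ⟨[nat_lit 1, nat_lit 60], [nat_lit 0, nat_lit 28, nat_lit 89], ⟨[nat_lit 0x202c5a0e51136ee64d275a83541a0f], [nat_lit 168960, nat_lit 165632, nat_lit 161408, nat_lit 157120, nat_lit 151968, nat_lit 145944, nat_lit 141152, nat_lit 135786, nat_lit 132424, nat_lit 394, nat_lit 4160, nat_lit 8464, nat_lit 12544, nat_lit 16864, nat_lit 22208, nat_lit 25088, nat_lit 29184, nat_lit 33792, nat_lit 41905, nat_lit 38073, nat_lit 32781, nat_lit 29819, nat_lit 24706, nat_lit 21529, nat_lit 17408, nat_lit 8449, nat_lit 4224, nat_lit 16]⟩⟩⟩]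
theorem s731 : Suf yT 2064 (ldrop wQ 37) (apW dcM p730) (tgtN dcM p730.e) := Suf.fin' (l := l731) (by decide +kernel)
def l730 : List AP := [⟨[], [], (nat_lit 419), ⟨[nat_lit 0, nat_lit 22, nat_lit 54], [nat_lit 0, nat_lit 37, nat_lit 68], ⟨[nat_lit 0x44530a58e552e72139837b401254d7], [nat_lit 171520, nat_lit 164352, nat_lit 163584, nat_lit 156800, nat_lit 155520, nat_lit 149680, nat_lit 145800, nat_lit 140288, nat_lit 136314, nat_lit 134673, nat_lit 116, nat_lit 4756, nat_lit 9928, nat_lit 13376, nat_lit 17408, nat_lit 22144, nat_lit 24704, nat_lit 29696, nat_lit 37888, nat_lit 41308, nat_lit 36914, nat_lit 33937, nat_lit 28792, nat_lit 24765, nat_lit 20637, nat_lit 16395, nat_lit 12310, nat_lit 8194, nat_lit 4101, nat_lit 2]⟩⟩⟩,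
  ⟨[nat_lit 217], [], (nat_lit 393), ⟨[nat_lit 0, nat_lit 38, nat_lit 50], [nat_lit 0, nat_lit 29, nat_lit 65], ⟨[nat_lit 0xab0f2151577a5a0190ab0c11174cd6], [nat_lit 169472, nat_lit 165632, nat_lit 161152, nat_lit 157184, nat_lit 155264, nat_lit 148688, nat_lit 143560, nat_lit 139980, nat_lit 135976, nat_lit 131285, nat_lit 664, nat_lit 5332, nat_lit 9136, nat_lit 12624, nat_lit 16800, nat_lit 24960, nat_lit 33792, nat_lit 41440, nat_lit 36927, nat_lit 33966, nat_lit 29760, nat_lit 24867, nat_lit 16911, nat_lit 12353, nat_lit 8203, nat_lit 4101]⟩⟩⟩]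
theorem s730 : Suf yT 2064 (ldrop wQ 29) (apW dcM p729) (tgtN dcM p729.e) := Suf.seg (l := l730) (by decide +kernel) s731
def l729 : List AP := [⟨[nat_lit 180, nat_lit 663, nat_lit 173], [], (nat_lit 440), ⟨[nat_lit 15, nat_lit 52], [nat_lit 15, nat_lit 50], ⟨[nat_lit 0xcacd1aca2baa84ab8117a0cc4c0f3], [nat_lit 173056, nat_lit 171008, nat_lit 166912, nat_lit 162176, nat_lit 157760, nat_lit 151616, nat_lit 149584, nat_lit 145752, nat_lit 139632, nat_lit 138854, nat_lit 132379, nat_lit 404, nat_lit 5448, nat_lit 8392, nat_lit 13552, nat_lit 18112, nat_lit 22080, nat_lit 25728, nat_lit 33280, nat_lit 41938, nat_lit 38272, nat_lit 33792, nat_lit 28754, nat_lit 24622, nat_lit 20565, nat_lit 16396, nat_lit 12304, nat_lit 8202, nat_lit 4101]⟩⟩⟩,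
  ⟨[nat_lit 175, nat_lit 219, nat_lit 216, nat_lit 171], [], (nat_lit 440), ⟨[nat_lit 71, nat_lit 48], [nat_lit 0, nat_lit 10, nat_lit 67], ⟨[nat_lit 0xd8d348d8272230b94126ae9553ce4], [nat_lit 168448, nat_lit 164352, nat_lit 161536, nat_lit 156032, nat_lit 152416, nat_lit 148048, nat_lit 145736, nat_lit 139876, nat_lit 135978, nat_lit 132678, nat_lit 1166, nat_lit 4396, nat_lit 9456, nat_lit 12704, nat_lit 18048, nat_lit 22336, nat_lit 25472, nat_lit 28928, nat_lit 33792, nat_lit 41838, nat_lit 37114, nat_lit 32872, nat_lit 28680, nat_lit 24604, nat_lit 20489, nat_lit 16389, nat_lit 12324, nat_lit 8201, nat_lit 4609, nat_lit 2]⟩⟩⟩]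
theorem s729 : Suf yT 2064 (ldrop wQ 23) (apW dcM p728) (tgtN dcM p728.e) := Suf.seg (l := l729) (by decide +kernel) s730
def l728 : List AP := [⟨[nat_lit 175, nat_lit 219, nat_lit 216, nat_lit 171], [], (nat_lit 440), ⟨[nat_lit 3, nat_lit 69], [nat_lit 71, nat_lit 69], ⟨[nat_lit 0x158e09adc1522841a5b1ac24565ccf], [nat_lit 171520, nat_lit 166656, nat_lit 162176, nat_lit 159616, nat_lit 152736, nat_lit 150544, nat_lit 145672, nat_lit 141200, nat_lit 137370, nat_lit 132847, nat_lit 796, nat_lit 6104, nat_lit 8584, nat_lit 13152, nat_lit 16896, nat_lit 22016, nat_lit 26496, nat_lit 33792, nat_lit 41922, nat_lit 38172, nat_lit 33984, nat_lit 29276, nat_lit 25126, nat_lit 20559, nat_lit 16421, nat_lit 12292, nat_lit 8203, nat_lit 4]⟩⟩⟩,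
  ⟨[nat_lit 181, nat_lit 173, nat_lit 174, nat_lit 173], [], (nat_lit 858), ⟨[nat_lit 82, nat_lit 62], [nat_lit 0, nat_lit 19, nat_lit 60], ⟨[nat_lit 0x98a562c52e40555341ebb90670518d], [nat_lit 171008, nat_lit 165632, nat_lit 160128, nat_lit 156480, nat_lit 152864, nat_lit 149424, nat_lit 144504, nat_lit 140572, nat_lit 136628, nat_lit 131383, nat_lit 1004, nat_lit 4924, nat_lit 9160, nat_lit 12976, nat_lit 17696, nat_lit 20992, nat_lit 25728, nat_lit 29952, nat_lit 37888, nat_lit 41264, nat_lit 37322, nat_lit 32958, nat_lit 28696, nat_lit 24588, nat_lit 20493, nat_lit 16527, nat_lit 12320, nat_lit 8201]⟩⟩⟩]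
theorem s728 : Suf yT 2064 (ldrop wQ 14) (apW dcM p727) (tgtN dcM p727.e) := Suf.seg (l := l728) (by decide +kernel) s729
def l727 : List AP := [⟨[nat_lit 176, nat_lit 216], [], (nat_lit 396), ⟨[nat_lit 0, nat_lit 78, nat_lit 56], [nat_lit 0, nat_lit 87, nat_lit 46], ⟨[nat_lit 0x814d5cdf249dc4b40c288cb74568c], [nat_lit 173056, nat_lit 171520, nat_lit 164864, nat_lit 159872, nat_lit 158400, nat_lit 152064, nat_lit 148032, nat_lit 146784, nat_lit 141708, nat_lit 138292, nat_lit 134928, nat_lit 880, nat_lit 4380, nat_lit 9384, nat_lit 12960, nat_lit 18208, nat_lit 20736, nat_lit 25984, nat_lit 28928, nat_lit 34304, nat_lit 37888, nat_lit 41355, nat_lit 37227, nat_lit 32815, nat_lit 28707, nat_lit 25096, nat_lit 20502, nat_lit 16424, nat_lit 12309, nat_lit 4097]⟩⟩⟩,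
  ⟨[], [], (nat_lit 1046), ⟨[nat_lit 31, nat_lit 91], [nat_lit 20, nat_lit 62], ⟨[nat_lit 0xa5445ddf101dcd8598890cb3152a6], [nat_lit 174080, nat_lit 168960, nat_lit 164352, nat_lit 161280, nat_lit 159104, nat_lit 154816, nat_lit 150096, nat_lit 144528, nat_lit 141820, nat_lit 135956, nat_lit 133316, nat_lit 116, nat_lit 4756, nat_lit 8224, nat_lit 12448, nat_lit 16416, nat_lit 21504, nat_lit 25984, nat_lit 29696, nat_lit 33792, nat_lit 37888, nat_lit 41129, nat_lit 36937, nat_lit 32769, nat_lit 28673, nat_lit 25096, nat_lit 20497, nat_lit 16431, nat_lit 12307, nat_lit 8200]⟩⟩⟩]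
theorem s727 : Suf yT 2064 (ldrop wQ 6) (apW dcM p726) (tgtN dcM p726.e) := Suf.seg (l := l727) (by decide +kernel) s728
def l726 : List AP := [⟨[nat_lit 9, nat_lit 3, nat_lit 628, nat_lit 626, nat_lit 10, nat_lit 1], [], (nat_lit 40), ⟨[nat_lit 0, nat_lit 80, nat_lit 68], [nat_lit 9, nat_lit 48], ⟨[nat_lit 0x93141850d301ec3255cf5a2e51452d], [nat_lit 165120, nat_lit 160640, nat_lit 156096, nat_lit 155456, nat_lit 147472, nat_lit 144832, nat_lit 139456, nat_lit 136962, nat_lit 131083, nat_lit 460, nat_lit 5604, nat_lit 8704, nat_lit 14256, nat_lit 16448, nat_lit 21952, nat_lit 25600, nat_lit 29440, nat_lit 37888, nat_lit 41952, nat_lit 37088, nat_lit 32888, nat_lit 28777, nat_lit 24583, nat_lit 20623, nat_lit 16648, nat_lit 12421, nat_lit 8200]⟩⟩⟩,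
  ⟨[nat_lit 21, nat_lit 638, nat_lit 31, nat_lit 27, nat_lit 635, nat_lit 21], [], (nat_lit 338), ⟨[nat_lit 43, nat_lit 58], [nat_lit 76, nat_lit 56], ⟨[nat_lit 0x5b87191ed00cd2d7d184282a2b9948], [nat_lit 175104, nat_lit 168960, nat_lit 163072, nat_lit 155712, nat_lit 153440, nat_lit 150160, nat_lit 145672, nat_lit 142400, nat_lit 138924, nat_lit 134081, nat_lit 1438, nat_lit 4964, nat_lit 9864, nat_lit 12928, nat_lit 16864, nat_lit 21440, nat_lit 24832, nat_lit 28928, nat_lit 33280, nat_lit 41882, nat_lit 38360, nat_lit 32817, nat_lit 29710, nat_lit 24577, nat_lit 20752, nat_lit 16521, nat_lit 12307, nat_lit 8203, nat_lit 4104]⟩⟩⟩]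
theorem rQ17 : Suf yT 2064 wQ [yT.get 51] 0 := Suf.seg (l := l726) (by decide +kernel) s727

def p732 : AP := ⟨[], [], (nat_lit 255), ⟨[nat_lit 0, nat_lit 3, nat_lit 68], [nat_lit 7, nat_lit 50], ⟨[nat_lit 0x488662464ba20f70b2d378215734aa], [nat_lit 170496, nat_lit 164096, nat_lit 161664, nat_lit 157184, nat_lit 152416, nat_lit 148208, nat_lit 145240, nat_lit 139548, nat_lit 135438, nat_lit 131786, nat_lit 1298, nat_lit 5244, nat_lit 10032, nat_lit 12512, nat_lit 16864, nat_lit 21824, nat_lit 25600, nat_lit 29696, nat_lit 34304, nat_lit 41823, nat_lit 34002, nat_lit 29005, nat_lit 24758, nat_lit 20566, nat_lit 16385, nat_lit 12545, nat_lit 8203, nat_lit 4101]⟩⟩⟩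
def p733 : AP := ⟨[nat_lit 110, nat_lit 136, nat_lit 652, nat_lit 118], [], (nat_lit 258), ⟨[nat_lit 71, nat_lit 51], [nat_lit 0, nat_lit 6, nat_lit 47], ⟨[nat_lit 0x2b5c661de40816810d2a85a549d637], [nat_lit 175104, nat_lit 164608, nat_lit 163072, nat_lit 157184, nat_lit 152800, nat_lit 149920, nat_lit 145680, nat_lit 142356, nat_lit 137272, nat_lit 134837, nat_lit 1652, nat_lit 4328, nat_lit 8824, nat_lit 13232, nat_lit 16416, nat_lit 21504, nat_lit 26496, nat_lit 30208, nat_lit 33280, nat_lit 37888, nat_lit 41622, nat_lit 37243, nat_lit 33327, nat_lit 29717, nat_lit 24871, nat_lit 20560, nat_lit 16448, nat_lit 12803, nat_lit 4097, nat_lit 2]⟩⟩⟩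
def p734 : AP := ⟨[], [], (nat_lit 258), ⟨[nat_lit 0, nat_lit 76, nat_lit 69], [nat_lit 0, nat_lit 15, nat_lit 46], ⟨[nat_lit 0xb48249b17141dc530e157880955db4], [nat_lit 173056, nat_lit 166400, nat_lit 160768, nat_lit 156928, nat_lit 155104, nat_lit 149520, nat_lit 146912, nat_lit 142036, nat_lit 139150, nat_lit 132805, nat_lit 460, nat_lit 4380, nat_lit 9328, nat_lit 13072, nat_lit 18368, nat_lit 22464, nat_lit 25984, nat_lit 30208, nat_lit 41366, nat_lit 37076, nat_lit 33991, nat_lit 28687, nat_lit 24610, nat_lit 20498, nat_lit 16426, nat_lit 12305, nat_lit 8320, nat_lit 4097, nat_lit 2]⟩⟩⟩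
def p735 : AP := ⟨[nat_lit 119, nat_lit 111], [], (nat_lit 254), ⟨[nat_lit 5, nat_lit 94], [nat_lit 0, nat_lit 11, nat_lit 51], ⟨[nat_lit 0x93ac98550f0994b8cca205cf460da4], [nat_lit 174080, nat_lit 171008, nat_lit 164608, nat_lit 162176, nat_lit 158208, nat_lit 154688, nat_lit 147776, nat_lit 144408, nat_lit 140188, nat_lit 138494, nat_lit 134727, nat_lit 1778, nat_lit 5900, nat_lit 8800, nat_lit 13552, nat_lit 16416, nat_lit 22016, nat_lit 24832, nat_lit 29440, nat_lit 33280, nat_lit 41578, nat_lit 38235, nat_lit 32853, nat_lit 28780, nat_lit 24741, nat_lit 20491, nat_lit 16385, nat_lit 12320, nat_lit 8321]⟩⟩⟩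
def p736 : AP := ⟨[], [], (nat_lit 217), ⟨[nat_lit 18, nat_lit 54], [nat_lit 24, nat_lit 57], ⟨[nat_lit 0xa1d099ac0d93c2a8d8b0b88c37548c], [nat_lit 171008, nat_lit 166400, nat_lit 162944, nat_lit 158400, nat_lit 153504, nat_lit 151168, nat_lit 147248, nat_lit 140948, nat_lit 137794, nat_lit 131182, nat_lit 2012, nat_lit 5064, nat_lit 8928, nat_lit 13648, nat_lit 16704, nat_lit 20864, nat_lit 25216, nat_lit 30464, nat_lit 37888, nat_lit 41526, nat_lit 37311, nat_lit 32786, nat_lit 28754, nat_lit 24753, nat_lit 20492, nat_lit 16520, nat_lit 12308, nat_lit 8193, nat_lit 4]⟩⟩⟩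
def l737 : List AP := [⟨[], [], (nat_lit 1034), ⟨[nat_lit 16, nat_lit 59], [nat_lit 0, nat_lit 72, nat_lit 66], ⟨[nat_lit 0x7d697506653a2003444b636ce24869], [nat_lit 173056, nat_lit 169472, nat_lit 164864, nat_lit 161536, nat_lit 157248, nat_lit 152160, nat_lit 148784, nat_lit 143816, nat_lit 141032, nat_lit 138386, nat_lit 131701, nat_lit 434, nat_lit 4104, nat_lit 10160, nat_lit 12304, nat_lit 21056, nat_lit 25344, nat_lit 29440, nat_lit 33280, nat_lit 41661, nat_lit 38394, nat_lit 32968, nat_lit 29009, nat_lit 24850, nat_lit 20501, nat_lit 16398, nat_lit 12290, nat_lit 8208, nat_lit 32]⟩⟩⟩]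
theorem s737 : Suf yT 2080 (ldrop wQ 37) (apW dcM p736) (tgtN dcM p736.e) := Suf.fin' (l := l737) (by decide +kernel)
def l736 : List AP := [⟨[], [], (nat_lit 255), ⟨[nat_lit 28, nat_lit 49], [nat_lit 0, nat_lit 31, nat_lit 93], ⟨[nat_lit 0x906cb85100719499c48c7dcf513465], [nat_lit 165632, nat_lit 161664, nat_lit 156352, nat_lit 155200, nat_lit 147520, nat_lit 144096, nat_lit 139328, nat_lit 135268, nat_lit 131379, nat_lit 364, nat_lit 6020, nat_lit 8320, nat_lit 12416, nat_lit 17600, nat_lit 20608, nat_lit 24832, nat_lit 29952, nat_lit 33280, nat_lit 41977, nat_lit 38233, nat_lit 33827, nat_lit 29005, nat_lit 24589, nat_lit 20510, nat_lit 16421, nat_lit 12311, nat_lit 8201, nat_lit 4113, nat_lit 4]⟩⟩⟩,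
  ⟨[nat_lit 653, nat_lit 652, nat_lit 112], [], (nat_lit 254), ⟨[nat_lit 3, nat_lit 60], [nat_lit 85, nat_lit 66], ⟨[nat_lit 0x5a27469c09340b79558f1c6c22382a], [nat_lit 175104, nat_lit 168448, nat_lit 164096, nat_lit 163584, nat_lit 156288, nat_lit 153280, nat_lit 150608, nat_lit 147416, nat_lit 141600, nat_lit 137496, nat_lit 133744, nat_lit 1808, nat_lit 6068, nat_lit 9096, nat_lit 13344, nat_lit 18336, nat_lit 21952, nat_lit 25600, nat_lit 30464, nat_lit 37888, nat_lit 41083, nat_lit 37130, nat_lit 32819, nat_lit 28786, nat_lit 24731, nat_lit 20562, nat_lit 16391, nat_lit 12291, nat_lit 8195, nat_lit 4100, nat_lit 2]⟩⟩⟩]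
theorem s736 : Suf yT 2080 (ldrop wQ 29) (apW dcM p735) (tgtN dcM p735.e) := Suf.seg (l := l736) (by decide +kernel) s737
def l735 : List AP := [⟨[nat_lit 652, nat_lit 651, nat_lit 117, nat_lit 111], [], (nat_lit 258), ⟨[nat_lit 7, nat_lit 46], [nat_lit 37, nat_lit 54], ⟨[nat_lit 0x21a8813a256c0e14ce5658ea07aaec], [nat_lit 175104, nat_lit 170496, nat_lit 167168, nat_lit 161920, nat_lit 157376, nat_lit 153792, nat_lit 151104, nat_lit 144128, nat_lit 141940, nat_lit 135984, nat_lit 132206, nat_lit 1354, nat_lit 5768, nat_lit 9704, nat_lit 13472, nat_lit 17696, nat_lit 20928, nat_lit 25344, nat_lit 30464, nat_lit 33280, nat_lit 37888, nat_lit 41908, nat_lit 37340, nat_lit 33339, nat_lit 28757, nat_lit 24604, nat_lit 20763, nat_lit 16399, nat_lit 12307, nat_lit 8193, nat_lit 4097, nat_lit 2]⟩⟩⟩,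
  ⟨[nat_lit 119, nat_lit 649, nat_lit 135, nat_lit 115], [], (nat_lit 258), ⟨[nat_lit 20, nat_lit 51], [nat_lit 0, nat_lit 8, nat_lit 89], ⟨[nat_lit 0x2460b08d05a2ac615e6e3a58d93ea0], [nat_lit 168448, nat_lit 165376, nat_lit 160640, nat_lit 152704, nat_lit 149360, nat_lit 147336, nat_lit 140904, nat_lit 137176, nat_lit 132796, nat_lit 8, nat_lit 5856, nat_lit 9864, nat_lit 16960, nat_lit 22336, nat_lit 25088, nat_lit 29440, nat_lit 33792, nat_lit 41958, nat_lit 38126, nat_lit 33340, nat_lit 29816, nat_lit 25646, nat_lit 20498, nat_lit 16423, nat_lit 8209, nat_lit 4097]⟩⟩⟩]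
theorem s735 : Suf yT 2080 (ldrop wQ 23) (apW dcM p734) (tgtN dcM p734.e) := Suf.seg (l := l735) (by decide +kernel) s736
def l734 : List AP := [⟨[nat_lit 119, nat_lit 649, nat_lit 135, nat_lit 115], [], (nat_lit 258), ⟨[nat_lit 0, nat_lit 74, nat_lit 55], [nat_lit 9, nat_lit 91], ⟨[nat_lit 0x2d07105a44334eb0a44f53a70bb115], [nat_lit 173056, nat_lit 171008, nat_lit 164608, nat_lit 161792, nat_lit 157440, nat_lit 154560, nat_lit 149744, nat_lit 146432, nat_lit 140492, nat_lit 135884, nat_lit 133532, nat_lit 2018, nat_lit 5208, nat_lit 9312, nat_lit 12960, nat_lit 16448, nat_lit 20800, nat_lit 24832, nat_lit 30208, nat_lit 33280, nat_lit 41111, nat_lit 37123, nat_lit 32971, nat_lit 29029, nat_lit 24595, nat_lit 20621, nat_lit 16448, nat_lit 12292, nat_lit 8193, nat_lit 4097, nat_lit 2]⟩⟩⟩,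
  ⟨[nat_lit 110, nat_lit 137, nat_lit 110], [], (nat_lit 259), ⟨[nat_lit 15, nat_lit 94], [nat_lit 72], ⟨[nat_lit 0xb20259a56f91dc419a8a8880cab6f0], [nat_lit 174080, nat_lit 168448, nat_lit 166656, nat_lit 162048, nat_lit 158976, nat_lit 151648, nat_lit 148544, nat_lit 144432, nat_lit 143320, nat_lit 138100, nat_lit 132692, nat_lit 1076, nat_lit 5508, nat_lit 8680, nat_lit 13280, nat_lit 18176, nat_lit 20864, nat_lit 25728, nat_lit 30464, nat_lit 33792, nat_lit 41422, nat_lit 37108, nat_lit 33839, nat_lit 28958, nat_lit 24586, nat_lit 20637, nat_lit 16392, nat_lit 12305, nat_lit 8320, nat_lit 4097, nat_lit 2]⟩⟩⟩]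
theorem s734 : Suf yT 2080 (ldrop wQ 14) (apW dcM p733) (tgtN dcM p733.e) := Suf.seg (l := l734) (by decide +kernel) s735
def l733 : List AP := [⟨[nat_lit 137, nat_lit 137], [], (nat_lit 246), ⟨[nat_lit 18, nat_lit 54], [nat_lit 0, nat_lit 7, nat_lit 89], ⟨[nat_lit 0xa2ac99c401bd50b3b5867b8a414870], [nat_lit 170496, nat_lit 157312, nat_lit 152096, nat_lit 148032, nat_lit 143368, nat_lit 139936, nat_lit 137206, nat_lit 131585, nat_lit 64, nat_lit 5580, nat_lit 16896, nat_lit 21888, nat_lit 26496, nat_lit 29184, nat_lit 37888, nat_lit 41524, nat_lit 37313, nat_lit 33473, nat_lit 24590, nat_lit 21534, nat_lit 12326, nat_lit 8200, nat_lit 4128, nat_lit 512]⟩⟩⟩,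
  ⟨[], [], (nat_lit 247), ⟨[nat_lit 0, nat_lit 18, nat_lit 54], [nat_lit 0, nat_lit 17, nat_lit 91], ⟨[nat_lit 0xa5ecb9900f5550969e020b8b130e4c], [nat_lit 168448, nat_lit 164864, nat_lit 160256, nat_lit 157312, nat_lit 152576, nat_lit 150256, nat_lit 144120, nat_lit 140172, nat_lit 137212, nat_lit 131096, nat_lit 318, nat_lit 5080, nat_lit 8200, nat_lit 13152, nat_lit 16896, nat_lit 21312, nat_lit 25216, nat_lit 29184, nat_lit 33280, nat_lit 41548, nat_lit 37279, nat_lit 33443, nat_lit 28688, nat_lit 25620, nat_lit 20750, nat_lit 12352, nat_lit 8448, nat_lit 4128, nat_lit 512]⟩⟩⟩]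
theorem s733 : Suf yT 2080 (ldrop wQ 6) (apW dcM p732) (tgtN dcM p732.e) := Suf.seg (l := l733) (by decide +kernel) s734
def l732 : List AP := [⟨[nat_lit 1, nat_lit 8, nat_lit 627, nat_lit 625, nat_lit 627, nat_lit 1], [], (nat_lit 40), ⟨[nat_lit 77, nat_lit 91], [nat_lit 30, nat_lit 92], ⟨[nat_lit 0x89180a2270a8d21559ed148ee31577], [nat_lit 169472, nat_lit 167424, nat_lit 160000, nat_lit 156736, nat_lit 153376, nat_lit 148496, nat_lit 144128, nat_lit 140192, nat_lit 135744, nat_lit 131113, nat_lit 1396, nat_lit 4824, nat_lit 10032, nat_lit 12432, nat_lit 17312, nat_lit 22400, nat_lit 24832, nat_lit 28928, nat_lit 33792, nat_lit 41216, nat_lit 36963, nat_lit 32777, nat_lit 28691, nat_lit 20998, nat_lit 16519, nat_lit 12545, nat_lit 8208]⟩⟩⟩,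
  ⟨[nat_lit 638, nat_lit 23, nat_lit 636, nat_lit 24, nat_lit 32], [], (nat_lit 216), ⟨[nat_lit 0, nat_lit 15, nat_lit 58], [nat_lit 0, nat_lit 8, nat_lit 50], ⟨[nat_lit 0x68ef270a3449d6a214c8801f6acc2c], [nat_lit 173056, nat_lit 169472, nat_lit 165632, nat_lit 161536, nat_lit 156608, nat_lit 152128, nat_lit 147760, nat_lit 145128, nat_lit 141844, nat_lit 136650, nat_lit 131510, nat_lit 880, nat_lit 4100, nat_lit 8504, nat_lit 13472, nat_lit 16608, nat_lit 21824, nat_lit 25856, nat_lit 30208, nat_lit 41389, nat_lit 36924, nat_lit 32828, nat_lit 28788, nat_lit 24604, nat_lit 20508, nat_lit 16389, nat_lit 12327, nat_lit 8195, nat_lit 4]⟩⟩⟩]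
theorem rQ18 : Suf yT 2080 wQ [yT.get 52] 0 := Suf.seg (l := l732) (by decide +kernel) s733

def p738 : AP := ⟨[nat_lit 72, nat_lit 66], [], (nat_lit 126), ⟨[nat_lit 71, nat_lit 50], [nat_lit 0, nat_lit 43, nat_lit 62], ⟨[nat_lit 0x1cad76be00aa8ae62cd411c9342621], [nat_lit 174080, nat_lit 169984, nat_lit 166912, nat_lit 161024, nat_lit 158912, nat_lit 154496, nat_lit 148688, nat_lit 147296, nat_lit 141232, nat_lit 135872, nat_lit 132283, nat_lit 588, nat_lit 6084, nat_lit 9664, nat_lit 13920, nat_lit 16960, nat_lit 21440, nat_lit 28928, nat_lit 33280, nat_lit 41631, nat_lit 37192, nat_lit 33000, nat_lit 28976, nat_lit 24765, nat_lit 20564, nat_lit 16430, nat_lit 8209, nat_lit 4100, nat_lit 16]⟩⟩⟩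
def p739 : AP := ⟨[nat_lit 643, nat_lit 51, nat_lit 639, nat_lit 46], [], (nat_lit 178), ⟨[nat_lit 0, nat_lit 82, nat_lit 65], [nat_lit 0, nat_lit 15, nat_lit 48], ⟨[nat_lit 0x40407a0e2e22dec68a57995504d6c6], [nat_lit 173056, nat_lit 164864, nat_lit 161024, nat_lit 156160, nat_lit 152416, nat_lit 149360, nat_lit 145528, nat_lit 140508, nat_lit 135876, nat_lit 132141, nat_lit 1720, nat_lit 5208, nat_lit 9624, nat_lit 13312, nat_lit 17824, nat_lit 22464, nat_lit 25984, nat_lit 28928, nat_lit 37888, nat_lit 41352, nat_lit 36872, nat_lit 32829, nat_lit 28763, nat_lit 24612, nat_lit 20495, nat_lit 16515, nat_lit 12294, nat_lit 8201, nat_lit 4100, nat_lit 2]⟩⟩⟩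
def p740 : AP := ⟨[], [], (nat_lit 371), ⟨[nat_lit 0, nat_lit 36, nat_lit 48], [nat_lit 0, nat_lit 11, nat_lit 49], ⟨[nat_lit 0x7551179980a2db094c830a92515ae7], [nat_lit 175104, nat_lit 168448, nat_lit 165120, nat_lit 161536, nat_lit 155968, nat_lit 151840, nat_lit 147872, nat_lit 143640, nat_lit 140976, nat_lit 136394, nat_lit 131228, nat_lit 158, nat_lit 4328, nat_lit 9928, nat_lit 12992, nat_lit 17632, nat_lit 20928, nat_lit 25088, nat_lit 29184, nat_lit 41797, nat_lit 38331, nat_lit 33933, nat_lit 29038, nat_lit 24855, nat_lit 20614, nat_lit 16463, nat_lit 12292, nat_lit 8195, nat_lit 4097]⟩⟩⟩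
def p741 : AP := ⟨[nat_lit 47, nat_lit 642, nat_lit 54, nat_lit 68], [], (nat_lit 1046), ⟨[nat_lit 0, nat_lit 29, nat_lit 60], [nat_lit 0, nat_lit 39, nat_lit 51], ⟨[nat_lit 0x1da440c2a6625cd2d22099c5752d0f], [nat_lit 173056, nat_lit 165376, nat_lit 159680, nat_lit 153088, nat_lit 147584, nat_lit 144712, nat_lit 139468, nat_lit 136244, nat_lit 132932, nat_lit 122, nat_lit 4824, nat_lit 10192, nat_lit 14112, nat_lit 16640, nat_lit 21376, nat_lit 25600, nat_lit 30208, nat_lit 33792, nat_lit 41973, nat_lit 37241, nat_lit 32867, nat_lit 28692, nat_lit 20755, nat_lit 16423, nat_lit 12289, nat_lit 8209, nat_lit 4100, nat_lit 8]⟩⟩⟩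
def p742 : AP := ⟨[nat_lit 68], [], (nat_lit 122), ⟨[nat_lit 30, nat_lit 63], [nat_lit 86, nat_lit 89], ⟨[nat_lit 0x245c0a56ea1b4d0908ec42d3678665], [nat_lit 174080, nat_lit 169984, nat_lit 165632, nat_lit 162688, nat_lit 159424, nat_lit 154784, nat_lit 147712, nat_lit 144152, nat_lit 140588, nat_lit 137578, nat_lit 133664, nat_lit 1634, nat_lit 5164, nat_lit 9384, nat_lit 14304, nat_lit 17184, nat_lit 22080, nat_lit 25216, nat_lit 30208, nat_lit 33792, nat_lit 37888, nat_lit 41759, nat_lit 38181, nat_lit 33900, nat_lit 28683, nat_lit 24592, nat_lit 20486, nat_lit 16398, nat_lit 12289, nat_lit 8195, nat_lit 4101]⟩⟩⟩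
def l743 : List AP := [⟨[nat_lit 633, nat_lit 43], [], (nat_lit 1032), ⟨[nat_lit 79, nat_lit 93], [nat_lit 9, nat_lit 56], ⟨[nat_lit 0xb996d188137d8aa88650a9d0c23a89], [nat_lit 168960, nat_lit 165632, nat_lit 160640, nat_lit 157632, nat_lit 152896, nat_lit 147488, nat_lit 143480, nat_lit 141572, nat_lit 137038, nat_lit 132861, nat_lit 1066, nat_lit 4380, nat_lit 10144, nat_lit 13504, nat_lit 16416, nat_lit 20928, nat_lit 24704, nat_lit 30464, nat_lit 33280, nat_lit 37888, nat_lit 41361, nat_lit 37139, nat_lit 33335, nat_lit 28772, nat_lit 24709, nat_lit 20574, nat_lit 16425, nat_lit 12323, nat_lit 8200, nat_lit 4112, nat_lit 32]⟩⟩⟩]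
theorem s743 : Suf yT 2112 (ldrop wQ 37) (apW dcM p742) (tgtN dcM p742.e) := Suf.fin' (l := l743) (by decide +kernel)
def l742 : List AP := [⟨[], [], (nat_lit 396), ⟨[nat_lit 34, nat_lit 58], [nat_lit 0, nat_lit 19, nat_lit 57], ⟨[nat_lit 0x1b24d0deb3b25c4a15ea31c5002171], [nat_lit 174080, nat_lit 168960, nat_lit 164608, nat_lit 160512, nat_lit 158016, nat_lit 154304, nat_lit 151424, nat_lit 144632, nat_lit 143068, nat_lit 136488, nat_lit 134302, nat_lit 1652, nat_lit 4568, nat_lit 10096, nat_lit 13968, nat_lit 18208, nat_lit 21696, nat_lit 24832, nat_lit 29440, nat_lit 33280, nat_lit 41490, nat_lit 38268, nat_lit 32958, nat_lit 29035, nat_lit 24759, nat_lit 20554, nat_lit 16516, nat_lit 12324, nat_lit 8201, nat_lit 4097]⟩⟩⟩,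
  ⟨[nat_lit 69], [], (nat_lit 126), ⟨[nat_lit 0, nat_lit 45, nat_lit 65], [nat_lit 0, nat_lit 31, nat_lit 91], ⟨[nat_lit 0xaa329ddc7b3cb0aac74300884b582], [nat_lit 175104, nat_lit 169472, nat_lit 165376, nat_lit 160256, nat_lit 157696, nat_lit 153696, nat_lit 151072, nat_lit 145176, nat_lit 143060, nat_lit 136618, nat_lit 134488, nat_lit 1136, nat_lit 4408, nat_lit 9368, nat_lit 13552, nat_lit 16544, nat_lit 20544, nat_lit 24960, nat_lit 37888, nat_lit 41340, nat_lit 37137, nat_lit 32973, nat_lit 28944, nat_lit 24751, nat_lit 20493, nat_lit 16463, nat_lit 12291, nat_lit 8209, nat_lit 4097]⟩⟩⟩]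
theorem s742 : Suf yT 2112 (ldrop wQ 29) (apW dcM p741) (tgtN dcM p741.e) := Suf.seg (l := l742) (by decide +kernel) s743
def l741 : List AP := [⟨[nat_lit 86, nat_lit 105, nat_lit 84], [], (nat_lit 195), ⟨[nat_lit 0, nat_lit 26, nat_lit 58], [nat_lit 0, nat_lit 88, nat_lit 55], ⟨[nat_lit 0x4a9d61cce8bc1b100aac2d1e40c966], [nat_lit 171520, nat_lit 164864, nat_lit 161024, nat_lit 159104, nat_lit 151840, nat_lit 148240, nat_lit 145504, nat_lit 141976, nat_lit 137786, nat_lit 133586, nat_lit 1614, nat_lit 6104, nat_lit 9000, nat_lit 13264, nat_lit 17408, nat_lit 20608, nat_lit 26496, nat_lit 33280, nat_lit 37888, nat_lit 41121, nat_lit 37200, nat_lit 33359, nat_lit 29720, nat_lit 25105, nat_lit 20639, nat_lit 16385, nat_lit 12291, nat_lit 8227, nat_lit 4097]⟩⟩⟩,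
  ⟨[nat_lit 647, nat_lit 80, nat_lit 104], [], (nat_lit 182), ⟨[nat_lit 33, nat_lit 92], [nat_lit 0, nat_lit 1, nat_lit 48], ⟨[nat_lit 0x990aa7b17045e36ab84708e49a34c0], [nat_lit 173056, nat_lit 168448, nat_lit 166144, nat_lit 160768, nat_lit 156928, nat_lit 154752, nat_lit 150752, nat_lit 146184, nat_lit 141876, nat_lit 138638, nat_lit 131529, nat_lit 318, nat_lit 5436, nat_lit 8680, nat_lit 12496, nat_lit 18400, nat_lit 21056, nat_lit 25600, nat_lit 29440, nat_lit 41338, nat_lit 36988, nat_lit 33945, nat_lit 29025, nat_lit 24578, nat_lit 20740, nat_lit 16900, nat_lit 12306, nat_lit 8193]⟩⟩⟩]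
theorem s741 : Suf yT 2112 (ldrop wQ 23) (apW dcM p740) (tgtN dcM p740.e) := Suf.seg (l := l741) (by decide +kernel) s742
def l740 : List AP := [⟨[], [], (nat_lit 195), ⟨[nat_lit 0, nat_lit 83, nat_lit 65], [nat_lit 77], ⟨[nat_lit 0x6b1603520f88d129d48ebd92111547], [nat_lit 164608, nat_lit 161152, nat_lit 157504, nat_lit 153824, nat_lit 149376, nat_lit 145328, nat_lit 139420, nat_lit 135868, nat_lit 131658, nat_lit 1214, nat_lit 5036, nat_lit 8320, nat_lit 13216, nat_lit 18304, nat_lit 20608, nat_lit 25600, nat_lit 28928, nat_lit 41899, nat_lit 37963, nat_lit 32916, nat_lit 29054, nat_lit 24616, nat_lit 20499, nat_lit 16429, nat_lit 12306, nat_lit 8200, nat_lit 4113]⟩⟩⟩,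
  ⟨[nat_lit 104, nat_lit 87, nat_lit 103, nat_lit 100, nat_lit 81], [], (nat_lit 370), ⟨[nat_lit 37, nat_lit 66], [nat_lit 0, nat_lit 2, nat_lit 92], ⟨[nat_lit 0x7511079581aadb19c8e2029261dec4], [nat_lit 173056, nat_lit 168960, nat_lit 165376, nat_lit 162176, nat_lit 155712, nat_lit 152960, nat_lit 148464, nat_lit 144408, nat_lit 139764, nat_lit 135684, nat_lit 132113, nat_lit 680, nat_lit 4112, nat_lit 9816, nat_lit 12416, nat_lit 17408, nat_lit 21248, nat_lit 26240, nat_lit 29440, nat_lit 34304, nat_lit 37888, nat_lit 41899, nat_lit 36982, nat_lit 32988, nat_lit 28686, nat_lit 24846, nat_lit 21014, nat_lit 16450, nat_lit 8193, nat_lit 4161, nat_lit 2]⟩⟩⟩]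
theorem s740 : Suf yT 2112 (ldrop wQ 14) (apW dcM p739) (tgtN dcM p739.e) := Suf.seg (l := l740) (by decide +kernel) s741
def l739 : List AP := [⟨[nat_lit 54, nat_lit 70, nat_lit 641, nat_lit 641], [], (nat_lit 1046), ⟨[nat_lit 0, nat_lit 39, nat_lit 55], [nat_lit 0, nat_lit 11], ⟨[nat_lit 0x13eae0d8c58a48d94ee01aa883c18b], [nat_lit 170496, nat_lit 163200, nat_lit 155136, nat_lit 149504, nat_lit 145480, nat_lit 139768, nat_lit 135788, nat_lit 134693, nat_lit 354, nat_lit 4476, nat_lit 8928, nat_lit 14160, nat_lit 17472, nat_lit 20736, nat_lit 24704, nat_lit 28928, nat_lit 37888, nat_lit 41718, nat_lit 38193, nat_lit 33455, nat_lit 28775, nat_lit 24583, nat_lit 20628, nat_lit 16420, nat_lit 12290, nat_lit 8195, nat_lit 4100]⟩⟩⟩,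
  ⟨[], [], (nat_lit 396), ⟨[nat_lit 0, nat_lit 20, nat_lit 54], [nat_lit 85, nat_lit 59], ⟨[nat_lit 0x146ad0a0c37a48e9c9672aa9603217], [nat_lit 173056, nat_lit 168960, nat_lit 166912, nat_lit 160128, nat_lit 156352, nat_lit 151968, nat_lit 147920, nat_lit 144656, nat_lit 140944, nat_lit 135714, nat_lit 131648, nat_lit 1396, nat_lit 4476, nat_lit 9520, nat_lit 12976, nat_lit 17120, nat_lit 22272, nat_lit 24832, nat_lit 29952, nat_lit 33280, nat_lit 37888, nat_lit 41643, nat_lit 37120, nat_lit 33447, nat_lit 28935, nat_lit 24600, nat_lit 20489, nat_lit 16453, nat_lit 12304, nat_lit 8203, nat_lit 4100]⟩⟩⟩]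
theorem s739 : Suf yT 2112 (ldrop wQ 6) (apW dcM p738) (tgtN dcM p738.e) := Suf.seg (l := l739) (by decide +kernel) s740
def l738 : List AP := [⟨[nat_lit 3, nat_lit 625, nat_lit 8, nat_lit 626, nat_lit 6, nat_lit 0], [], (nat_lit 26), ⟨[nat_lit 0, nat_lit 87, nat_lit 48], [nat_lit 73, nat_lit 64], ⟨[nat_lit 0x85d44930714016d9d127718a1b0aaf], [nat_lit 168448, nat_lit 167424, nat_lit 160768, nat_lit 155776, nat_lit 154144, nat_lit 150480, nat_lit 145464, nat_lit 142020, nat_lit 137562, nat_lit 132477, nat_lit 394, nat_lit 5716, nat_lit 10088, nat_lit 12816, nat_lit 17984, nat_lit 21824, nat_lit 25600, nat_lit 29184, nat_lit 34304, nat_lit 41594, nat_lit 36898, nat_lit 32855, nat_lit 28794, nat_lit 24634, nat_lit 20490, nat_lit 16388, nat_lit 12327, nat_lit 8194, nat_lit 4097, nat_lit 2]⟩⟩⟩,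
  ⟨[nat_lit 14, nat_lit 38, nat_lit 633, nat_lit 37, nat_lit 15, nat_lit 14], [], (nat_lit 90), ⟨[nat_lit 74, nat_lit 52], [nat_lit 0, nat_lit 38, nat_lit 48], ⟨[nat_lit 0x93ed54c1c8291b35500688d823dc2b], [nat_lit 168960, nat_lit 164608, nat_lit 161024, nat_lit 158720, nat_lit 152160, nat_lit 148320, nat_lit 144008, nat_lit 139340, nat_lit 135272, nat_lit 132062, nat_lit 1966, nat_lit 4160, nat_lit 9112, nat_lit 12448, nat_lit 17248, nat_lit 20928, nat_lit 24832, nat_lit 30464, nat_lit 33792, nat_lit 41256, nat_lit 37068, nat_lit 32832, nat_lit 29226, nat_lit 20501, nat_lit 16396, nat_lit 12309, nat_lit 8211, nat_lit 4]⟩⟩⟩]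
theorem rQ19 : Suf yT 2112 wQ [yT.get 53] 0 := Suf.seg (l := l738) (by decide +kernel) s739

def p744 : AP := ⟨[], [], (nat_lit 393), ⟨[nat_lit 0, nat_lit 2, nat_lit 51], [nat_lit 0, nat_lit 71], ⟨[nat_lit 0xb9cad78875451ca24d61818098c996], [nat_lit 173056, nat_lit 168960, nat_lit 164864, nat_lit 160768, nat_lit 156928, nat_lit 152320, nat_lit 148960, nat_lit 144680, nat_lit 142812, nat_lit 136368, nat_lit 131536, nat_lit 700, nat_lit 4408, nat_lit 14064, nat_lit 16704, nat_lit 22336, nat_lit 26112, nat_lit 29440, nat_lit 34304, nat_lit 40964, nat_lit 37372, nat_lit 33330, nat_lit 28935, nat_lit 24746, nat_lit 20566, nat_lit 16431, nat_lit 12310]⟩⟩⟩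
def p745 : AP := ⟨[nat_lit 212, nat_lit 213, nat_lit 662, nat_lit 170], [], (nat_lit 858), ⟨[nat_lit 19, nat_lit 93], [nat_lit 43, nat_lit 56], ⟨[nat_lit 0xa805121a7665db00a8ef951092b963], [nat_lit 174080, nat_lit 164864, nat_lit 159872, nat_lit 157248, nat_lit 152672, nat_lit 147984, nat_lit 143584, nat_lit 140900, nat_lit 135300, nat_lit 131931, nat_lit 688, nat_lit 6104, nat_lit 9136, nat_lit 12576, nat_lit 17408, nat_lit 21248, nat_lit 25600, nat_lit 28928, nat_lit 33280, nat_lit 37888, nat_lit 41248, nat_lit 37271, nat_lit 33503, nat_lit 29207, nat_lit 24865, nat_lit 20553, nat_lit 16905, nat_lit 12310, nat_lit 64]⟩⟩⟩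
def p746 : AP := ⟨[], [], (nat_lit 940), ⟨[nat_lit 0, nat_lit 23, nat_lit 89], [nat_lit 0, nat_lit 15, nat_lit 60], ⟨[nat_lit 0x6aa320428719ad3131217dd152b964], [nat_lit 173056, nat_lit 168960, nat_lit 164864, nat_lit 159872, nat_lit 158016, nat_lit 152096, nat_lit 148384, nat_lit 143712, nat_lit 139664, nat_lit 135794, nat_lit 131602, nat_lit 1778, nat_lit 5016, nat_lit 10224, nat_lit 13584, nat_lit 16448, nat_lit 24704, nat_lit 28928, nat_lit 34304, nat_lit 37888, nat_lit 41343, nat_lit 37344, nat_lit 33450, nat_lit 28736, nat_lit 24589, nat_lit 20992, nat_lit 16385, nat_lit 12357, nat_lit 16]⟩⟩⟩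
def p747 : AP := ⟨[nat_lit 171, nat_lit 178, nat_lit 170], [], (nat_lit 396), ⟨[nat_lit 0, nat_lit 25, nat_lit 94], [nat_lit 0, nat_lit 85, nat_lit 51], ⟨[nat_lit 0x6504d096e6541c4444ef9da4058d35], [nat_lit 173056, nat_lit 168448, nat_lit 165376, nat_lit 161792, nat_lit 156672, nat_lit 151936, nat_lit 148960, nat_lit 144560, nat_lit 139688, nat_lit 136910, nat_lit 132462, nat_lit 1634, nat_lit 5444, nat_lit 9872, nat_lit 12416, nat_lit 17696, nat_lit 21888, nat_lit 26112, nat_lit 33792, nat_lit 37888, nat_lit 41743, nat_lit 38012, nat_lit 33435, nat_lit 24872, nat_lit 20739, nat_lit 16391, nat_lit 12294, nat_lit 8202]⟩⟩⟩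
def p748 : AP := ⟨[], [], (nat_lit 339), ⟨[nat_lit 77, nat_lit 91], [nat_lit 0, nat_lit 80, nat_lit 58], ⟨[nat_lit 0x804f564648224afb9853b39541b40b], [nat_lit 173056, nat_lit 171008, nat_lit 165120, nat_lit 160128, nat_lit 156224, nat_lit 153056, nat_lit 148784, nat_lit 143568, nat_lit 141072, nat_lit 137074, nat_lit 132325, nat_lit 986, nat_lit 4568, nat_lit 8680, nat_lit 12800, nat_lit 18176, nat_lit 20992, nat_lit 26496, nat_lit 28928, nat_lit 33280, nat_lit 41436, nat_lit 33021, nat_lit 28980, nat_lit 24713, nat_lit 20505, nat_lit 16425, nat_lit 8195, nat_lit 4097, nat_lit 2]⟩⟩⟩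
def l749 : List AP := [⟨[], [], (nat_lit 1034), ⟨[nat_lit 17, nat_lit 60], [nat_lit 8, nat_lit 68], ⟨[nat_lit 0x2c9c3bd955209f0425740b226980ed], [nat_lit 169984, nat_lit 164864, nat_lit 162688, nat_lit 156544, nat_lit 154112, nat_lit 149872, nat_lit 145800, nat_lit 140180, nat_lit 136516, nat_lit 133783, nat_lit 1516, nat_lit 5668, nat_lit 8680, nat_lit 13408, nat_lit 18112, nat_lit 20544, nat_lit 25856, nat_lit 29184, nat_lit 41703, nat_lit 36902, nat_lit 32893, nat_lit 29818, nat_lit 24598, nat_lit 20501, nat_lit 16397, nat_lit 12311, nat_lit 8209, nat_lit 16]⟩⟩⟩]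
theorem s749 : Suf yT 2176 (ldrop wQ 37) (apW dcM p748) (tgtN dcM p748.e) := Suf.fin' (l := l749) (by decide +kernel)
def l748 : List AP := [⟨[], [], (nat_lit 1046), ⟨[nat_lit 43, nat_lit 70], [nat_lit 3, nat_lit 66], ⟨[nat_lit 0x62844082f3a41cd8a2ab35a457a467], [nat_lit 168960, nat_lit 164352, nat_lit 161280, nat_lit 157056, nat_lit 152288, nat_lit 149152, nat_lit 144624, nat_lit 140632, nat_lit 136520, nat_lit 134499, nat_lit 1174, nat_lit 5276, nat_lit 9752, nat_lit 14304, nat_lit 16512, nat_lit 22336, nat_lit 26112, nat_lit 34304, nat_lit 41432, nat_lit 37260, nat_lit 32981, nat_lit 28715, nat_lit 24594, nat_lit 20507, nat_lit 16416, nat_lit 12304, nat_lit 8448, nat_lit 4097, nat_lit 2]⟩⟩⟩,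
  ⟨[nat_lit 659], [], (nat_lit 392), ⟨[nat_lit 0, nat_lit 4, nat_lit 55], [nat_lit 0, nat_lit 35, nat_lit 61], ⟨[nat_lit 0xb152e69d7523e8a00e019c64232197], [nat_lit 174080, nat_lit 168448, nat_lit 164864, nat_lit 162432, nat_lit 157440, nat_lit 153568, nat_lit 149584, nat_lit 147184, nat_lit 142416, nat_lit 138948, nat_lit 133758, nat_lit 1354, nat_lit 4328, nat_lit 8400, nat_lit 14240, nat_lit 16832, nat_lit 22080, nat_lit 25344, nat_lit 29696, nat_lit 33792, nat_lit 41733, nat_lit 38066, nat_lit 32847, nat_lit 29234, nat_lit 24835, nat_lit 20481, nat_lit 16385, nat_lit 12353, nat_lit 8193, nat_lit 4097, nat_lit 2]⟩⟩⟩]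
theorem s748 : Suf yT 2176 (ldrop wQ 29) (apW dcM p747) (tgtN dcM p747.e) := Suf.seg (l := l748) (by decide +kernel) s749
def l747 : List AP := [⟨[nat_lit 417, nat_lit 678, nat_lit 414, nat_lit 411], [], (nat_lit 940), ⟨[nat_lit 0, nat_lit 36, nat_lit 64], [nat_lit 0, nat_lit 75, nat_lit 54], ⟨[nat_lit 0x94288389d3aa8850d80b798714ddac], [nat_lit 164864, nat_lit 161024, nat_lit 157504, nat_lit 153152, nat_lit 148752, nat_lit 144192, nat_lit 143060, nat_lit 136304, nat_lit 131393, nat_lit 210, nat_lit 4408, nat_lit 10136, nat_lit 13552, nat_lit 18144, nat_lit 21056, nat_lit 25856, nat_lit 29184, nat_lit 33280, nat_lit 41772, nat_lit 38268, nat_lit 32910, nat_lit 28986, nat_lit 25145, nat_lit 20492, nat_lit 16520, nat_lit 12290, nat_lit 8211, nat_lit 4097, nat_lit 2]⟩⟩⟩,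
  ⟨[], [], (nat_lit 1236), ⟨[nat_lit 0, nat_lit 41, nat_lit 93], [nat_lit 5, nat_lit 92], ⟨[nat_lit 0xacca68293610e543ac0f745b743081], [nat_lit 174080, nat_lit 171008, nat_lit 166912, nat_lit 160512, nat_lit 157632, nat_lit 152640, nat_lit 151200, nat_lit 143696, nat_lit 139924, nat_lit 137656, nat_lit 133165, nat_lit 1808, nat_lit 4112, nat_lit 8504, nat_lit 13136, nat_lit 16640, nat_lit 21440, nat_lit 25472, nat_lit 29184, nat_lit 37888, nat_lit 41747, nat_lit 38142, nat_lit 33414, nat_lit 29243, nat_lit 24764, nat_lit 20569, nat_lit 16398, nat_lit 12309, nat_lit 8193, nat_lit 4097]⟩⟩⟩]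
theorem s747 : Suf yT 2176 (ldrop wQ 23) (apW dcM p746) (tgtN dcM p746.e) := Suf.seg (l := l747) (by decide +kernel) s748
def l746 : List AP := [⟨[], [], (nat_lit 941), ⟨[nat_lit 0, nat_lit 86, nat_lit 89], [nat_lit 0, nat_lit 17, nat_lit 89], ⟨[nat_lit 0x902a66a213bc4676082b2152ea3eca], [nat_lit 168448, nat_lit 166912, nat_lit 160000, nat_lit 155968, nat_lit 152288, nat_lit 149152, nat_lit 144480, nat_lit 140144, nat_lit 135412, nat_lit 131227, nat_lit 1554, nat_lit 5544, nat_lit 8408, nat_lit 14144, nat_lit 16512, nat_lit 21504, nat_lit 26112, nat_lit 33792, nat_lit 41344, nat_lit 37184, nat_lit 33010, nat_lit 28996, nat_lit 24887, nat_lit 20630, nat_lit 16522, nat_lit 12308, nat_lit 8208, nat_lit 4097]⟩⟩⟩,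
  ⟨[nat_lit 421, nat_lit 675, nat_lit 414], [], (nat_lit 941), ⟨[nat_lit 88, nat_lit 89], [nat_lit 27, nat_lit 52], ⟨[nat_lit 0x68e330568f51ad2608853dd100adc9], [nat_lit 175104, nat_lit 170496, nat_lit 164608, nat_lit 162816, nat_lit 158016, nat_lit 155072, nat_lit 148864, nat_lit 144808, nat_lit 140144, nat_lit 138302, nat_lit 135079, nat_lit 804, nat_lit 4720, nat_lit 9752, nat_lit 13264, nat_lit 16928, nat_lit 20672, nat_lit 26240, nat_lit 30464, nat_lit 37888, nat_lit 41838, nat_lit 37311, nat_lit 33504, nat_lit 28767, nat_lit 24583, nat_lit 21003, nat_lit 16399, nat_lit 12293, nat_lit 8193, nat_lit 4097]⟩⟩⟩]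
theorem s746 : Suf yT 2176 (ldrop wQ 14) (apW dcM p745) (tgtN dcM p745.e) := Suf.seg (l := l746) (by decide +kernel) s747
def l745 : List AP := [⟨[nat_lit 216, nat_lit 180, nat_lit 170], [], (nat_lit 418), ⟨[nat_lit 0, nat_lit 71, nat_lit 55], [nat_lit 0, nat_lit 2, nat_lit 66], ⟨[nat_lit 0x650d3026f50aa5059c44439a3b3e25], [nat_lit 175104, nat_lit 168960, nat_lit 167424, nat_lit 162944, nat_lit 157696, nat_lit 153056, nat_lit 148896, nat_lit 143648, nat_lit 142268, nat_lit 137666, nat_lit 133070, nat_lit 568, nat_lit 6084, nat_lit 9328, nat_lit 12416, nat_lit 18208, nat_lit 22336, nat_lit 29184, nat_lit 34304, nat_lit 41414, nat_lit 37279, nat_lit 33517, nat_lit 28775, nat_lit 24714, nat_lit 20572, nat_lit 16427, nat_lit 12305, nat_lit 8259, nat_lit 8]⟩⟩⟩,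
  ⟨[], [], (nat_lit 419), ⟨[nat_lit 34, nat_lit 59], [nat_lit 31, nat_lit 91], ⟨[nat_lit 0x604d000ee8a2a533acb6ab9a9245e2], [nat_lit 168448, nat_lit 164352, nat_lit 161280, nat_lit 156544, nat_lit 153248, nat_lit 148064, nat_lit 145672, nat_lit 141072, nat_lit 135170, nat_lit 132849, nat_lit 488, nat_lit 4780, nat_lit 8704, nat_lit 12304, nat_lit 18208, nat_lit 22336, nat_lit 24832, nat_lit 29952, nat_lit 41708, nat_lit 37365, nat_lit 33468, nat_lit 29192, nat_lit 24632, nat_lit 20504, nat_lit 16426, nat_lit 8321, nat_lit 4112, nat_lit 128]⟩⟩⟩]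
theorem s745 : Suf yT 2176 (ldrop wQ 6) (apW dcM p744) (tgtN dcM p744.e) := Suf.seg (l := l745) (by decide +kernel) s746
def l744 : List AP := [⟨[nat_lit 626, nat_lit 4, nat_lit 625, nat_lit 0, nat_lit 627], [], (nat_lit 40), ⟨[nat_lit 42, nat_lit 56], [nat_lit 0, nat_lit 76, nat_lit 63], ⟨[nat_lit 0x922d53b6832c4cb4c1ee5045323017], [nat_lit 168960, nat_lit 166656, nat_lit 163328, nat_lit 158912, nat_lit 154304, nat_lit 148640, nat_lit 147432, nat_lit 143236, nat_lit 136394, nat_lit 134542, nat_lit 1354, nat_lit 5464, nat_lit 9328, nat_lit 13712, nat_lit 16544, nat_lit 22016, nat_lit 26496, nat_lit 29952, nat_lit 34304, nat_lit 41205, nat_lit 37279, nat_lit 33019, nat_lit 28779, nat_lit 24748, nat_lit 20486, nat_lit 16641, nat_lit 12295, nat_lit 8202, nat_lit 4105, nat_lit 4]⟩⟩⟩,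
  ⟨[nat_lit 29, nat_lit 27, nat_lit 25, nat_lit 25, nat_lit 635, nat_lit 23], [], (nat_lit 338), ⟨[nat_lit 28, nat_lit 51], [nat_lit 2, nat_lit 53], ⟨[nat_lit 0x5c42c4d0c8696af25a5310ee772810], [nat_lit 169472, nat_lit 165376, nat_lit 161152, nat_lit 157376, nat_lit 154848, nat_lit 149440, nat_lit 144576, nat_lit 139464, nat_lit 136250, nat_lit 131109, nat_lit 64, nat_lit 5904, nat_lit 10224, nat_lit 13424, nat_lit 18112, nat_lit 21632, nat_lit 25216, nat_lit 29952, nat_lit 33280, nat_lit 37888, nat_lit 41368, nat_lit 37280, nat_lit 33503, nat_lit 28773, nat_lit 24709, nat_lit 20558, nat_lit 16640, nat_lit 12307, nat_lit 8203, nat_lit 4100, nat_lit 2]⟩⟩⟩]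
theorem rQ20 : Suf yT 2176 wQ [yT.get 54] 0 := Suf.seg (l := l744) (by decide +kernel) s745

def p750 : AP := ⟨[], [], (nat_lit 255), ⟨[nat_lit 13, nat_lit 90], [nat_lit 83, nat_lit 58], ⟨[nat_lit 0x59193b8d09a81cd95a213d04683caa], [nat_lit 173056, nat_lit 169472, nat_lit 165120, nat_lit 160640, nat_lit 156608, nat_lit 152864, nat_lit 146208, nat_lit 140580, nat_lit 135852, nat_lit 132553, nat_lit 1818, nat_lit 5444, nat_lit 8760, nat_lit 12352, nat_lit 18016, nat_lit 22336, nat_lit 24704, nat_lit 29696, nat_lit 41768, nat_lit 38112, nat_lit 32790, nat_lit 28756, nat_lit 24586, nat_lit 20485, nat_lit 16524, nat_lit 8225, nat_lit 4160]⟩⟩⟩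
def p751 : AP := ⟨[nat_lit 112, nat_lit 112, nat_lit 137, nat_lit 109], [], (nat_lit 258), ⟨[nat_lit 25, nat_lit 56], [nat_lit 72, nat_lit 90], ⟨[nat_lit 0x20e115a025a9c54680ce62a574cdf6], [nat_lit 169472, nat_lit 166656, nat_lit 161536, nat_lit 156288, nat_lit 151648, nat_lit 147872, nat_lit 145040, nat_lit 141012, nat_lit 135808, nat_lit 133103, nat_lit 952, nat_lit 5788, nat_lit 8352, nat_lit 12880, nat_lit 17440, nat_lit 20736, nat_lit 25984, nat_lit 33280, nat_lit 41655, nat_lit 37358, nat_lit 32820, nat_lit 29294, nat_lit 25134, nat_lit 20756, nat_lit 16397, nat_lit 12290, nat_lit 8210, nat_lit 4101]⟩⟩⟩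
def p752 : AP := ⟨[], [], (nat_lit 259), ⟨[nat_lit 17, nat_lit 59], [nat_lit 0, nat_lit 25, nat_lit 47], ⟨[nat_lit 0x130058a2c1ad1e43ad4d9c1c6bc869], [nat_lit 168960, nat_lit 165888, nat_lit 160256, nat_lit 155904, nat_lit 152032, nat_lit 148816, nat_lit 143680, nat_lit 140084, nat_lit 135278, nat_lit 131078, nat_lit 434, nat_lit 5580, nat_lit 9672, nat_lit 12544, nat_lit 18272, nat_lit 21056, nat_lit 29696, nat_lit 33792, nat_lit 37888, nat_lit 41280, nat_lit 37135, nat_lit 32947, nat_lit 28975, nat_lit 25606, nat_lit 20755, nat_lit 16524, nat_lit 12291, nat_lit 8258, nat_lit 4105, nat_lit 8]⟩⟩⟩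
def p753 : AP := ⟨[nat_lit 114], [], (nat_lit 246), ⟨[nat_lit 13, nat_lit 49], [nat_lit 76, nat_lit 63], ⟨[nat_lit 0x7146ba805195109998963a9e1bb1b0], [nat_lit 173056, nat_lit 169472, nat_lit 165376, nat_lit 160640, nat_lit 156480, nat_lit 152096, nat_lit 149200, nat_lit 144032, nat_lit 141204, nat_lit 135512, nat_lit 133382, nat_lit 64, nat_lit 4240, nat_lit 8680, nat_lit 13712, nat_lit 16576, nat_lit 21504, nat_lit 25088, nat_lit 30208, nat_lit 33280, nat_lit 37888, nat_lit 41858, nat_lit 38271, nat_lit 32808, nat_lit 29188, nat_lit 24577, nat_lit 20610, nat_lit 16387, nat_lit 12292, nat_lit 8195, nat_lit 4101]⟩⟩⟩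
def p754 : AP := ⟨[], [], (nat_lit 217), ⟨[nat_lit 0, nat_lit 28, nat_lit 68], [nat_lit 0, nat_lit 34, nat_lit 94], ⟨[nat_lit 0x691e2bae4c404aa9c0078a5d5b0cd4], [nat_lit 171008, nat_lit 165888, nat_lit 163712, nat_lit 158528, nat_lit 151936, nat_lit 151200, nat_lit 145640, nat_lit 140952, nat_lit 138404, nat_lit 132468, nat_lit 664, nat_lit 6104, nat_lit 8200, nat_lit 12320, nat_lit 17440, nat_lit 21504, nat_lit 25216, nat_lit 29440, nat_lit 34304, nat_lit 41524, nat_lit 37942, nat_lit 32885, nat_lit 28734, nat_lit 24588, nat_lit 20494, nat_lit 16527, nat_lit 12325, nat_lit 8224, nat_lit 8]⟩⟩⟩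
def l755 : List AP := [⟨[], [], (nat_lit 1034), ⟨[nat_lit 0, nat_lit 5], [nat_lit 0, nat_lit 41, nat_lit 67], ⟨[nat_lit 0x5542071873926f038a2f6b288258ab], [nat_lit 174080, nat_lit 165120, nat_lit 161664, nat_lit 155776, nat_lit 152960, nat_lit 147888, nat_lit 144296, nat_lit 140292, nat_lit 136744, nat_lit 131798, nat_lit 354, nat_lit 4952, nat_lit 9128, nat_lit 12832, nat_lit 16640, nat_lit 20736, nat_lit 25984, nat_lit 28928, nat_lit 33792, nat_lit 41838, nat_lit 37160, nat_lit 32968, nat_lit 29032, nat_lit 24845, nat_lit 20635, nat_lit 16427, nat_lit 12323, nat_lit 8258, nat_lit 4101, nat_lit 4]⟩⟩⟩]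
theorem s755 : Suf yT 2304 (ldrop wQ 37) (apW dcM p754) (tgtN dcM p754.e) := Suf.fin' (l := l755) (by decide +kernel)
def l754 : List AP := [⟨[], [], (nat_lit 247), ⟨[nat_lit 31, nat_lit 68], [nat_lit 0, nat_lit 76, nat_lit 58], ⟨[nat_lit 0x74869a84472d10b34e178a9e0b3584], [nat_lit 168960, nat_lit 165632, nat_lit 161024, nat_lit 156608, nat_lit 152576, nat_lit 149232, nat_lit 144584, nat_lit 141116, nat_lit 138880, nat_lit 132623, nat_lit 508, nat_lit 4396, nat_lit 8504, nat_lit 12896, nat_lit 16576, nat_lit 21248, nat_lit 26112, nat_lit 29440, nat_lit 41749, nat_lit 37983, nat_lit 33397, nat_lit 28766, nat_lit 24609, nat_lit 20573, nat_lit 16387, nat_lit 12291, nat_lit 8195, nat_lit 4101, nat_lit 4]⟩⟩⟩,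
  ⟨[nat_lit 130, nat_lit 112, nat_lit 130], [], (nat_lit 254), ⟨[nat_lit 0, nat_lit 87, nat_lit 53], [nat_lit 12, nat_lit 48], ⟨[nat_lit 0x4861119cca995976bc089508ea8acb], [nat_lit 175104, nat_lit 164096, nat_lit 163584, nat_lit 155968, nat_lit 153568, nat_lit 150672, nat_lit 147120, nat_lit 142960, nat_lit 139020, nat_lit 134924, nat_lit 1860, nat_lit 5668, nat_lit 10112, nat_lit 13808, nat_lit 18336, nat_lit 21888, nat_lit 26112, nat_lit 29952, nat_lit 33280, nat_lit 37888, nat_lit 41519, nat_lit 37007, nat_lit 32911, nat_lit 28735, nat_lit 24604, nat_lit 20624, nat_lit 16395, nat_lit 12292, nat_lit 8203]⟩⟩⟩]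
theorem s754 : Suf yT 2304 (ldrop wQ 29) (apW dcM p753) (tgtN dcM p753.e) := Suf.seg (l := l754) (by decide +kernel) s755
def l753 : List AP := [⟨[nat_lit 651, nat_lit 114, nat_lit 114], [], (nat_lit 258), ⟨[nat_lit 0, nat_lit 43, nat_lit 60], [nat_lit 28, nat_lit 67], ⟨[nat_lit 0x2daa34a0440c4f382df46b0c092aee], [nat_lit 168448, nat_lit 166912, nat_lit 155712, nat_lit 153088, nat_lit 149328, nat_lit 143376, nat_lit 140328, nat_lit 136452, nat_lit 131095, nat_lit 960, nat_lit 4964, nat_lit 9904, nat_lit 17344, nat_lit 25216, nat_lit 29440, nat_lit 37888, nat_lit 41882, nat_lit 37998, nat_lit 32800, nat_lit 29300, nat_lit 24592, nat_lit 20744, nat_lit 16449, nat_lit 12320, nat_lit 8195, nat_lit 4100, nat_lit 2]⟩⟩⟩,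
  ⟨[nat_lit 119, nat_lit 649, nat_lit 135, nat_lit 115], [], (nat_lit 258), ⟨[nat_lit 81, nat_lit 67], [nat_lit 80, nat_lit 94], ⟨[nat_lit 0x2b98912c24322d751e50a022d9bea3], [nat_lit 171008, nat_lit 167680, nat_lit 162432, nat_lit 158720, nat_lit 153152, nat_lit 149808, nat_lit 146344, nat_lit 141044, nat_lit 139188, nat_lit 132451, nat_lit 1770, nat_lit 5072, nat_lit 9160, nat_lit 14192, nat_lit 18176, nat_lit 21888, nat_lit 25216, nat_lit 33792, nat_lit 37888, nat_lit 41905, nat_lit 38041, nat_lit 32954, nat_lit 28992, nat_lit 24618, nat_lit 20574, nat_lit 16389, nat_lit 12357, nat_lit 8201, nat_lit 4097, nat_lit 2]⟩⟩⟩]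
theorem s753 : Suf yT 2304 (ldrop wQ 23) (apW dcM p752) (tgtN dcM p752.e) := Suf.seg (l := l753) (by decide +kernel) s754
def l752 : List AP := [⟨[nat_lit 119, nat_lit 649, nat_lit 135, nat_lit 115], [], (nat_lit 258), ⟨[nat_lit 73, nat_lit 67], [nat_lit 0, nat_lit 72, nat_lit 94], ⟨[nat_lit 0x225483acc565830a362303e7515e4e], [nat_lit 170496, nat_lit 167680, nat_lit 162176, nat_lit 159104, nat_lit 152704, nat_lit 150080, nat_lit 147416, nat_lit 140928, nat_lit 138316, nat_lit 132364, nat_lit 960, nat_lit 5080, nat_lit 10160, nat_lit 12608, nat_lit 18336, nat_lit 21696, nat_lit 24960, nat_lit 28928, nat_lit 37888, nat_lit 41834, nat_lit 38248, nat_lit 32970, nat_lit 29039, nat_lit 24840, nat_lit 20615, nat_lit 16393, nat_lit 12311, nat_lit 8195, nat_lit 4]⟩⟩⟩,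
  ⟨[nat_lit 118, nat_lit 113, nat_lit 110, nat_lit 649], [], (nat_lit 258), ⟨[nat_lit 16, nat_lit 60], [nat_lit 0, nat_lit 79, nat_lit 52], ⟨[nat_lit 0x1540489ad3651e559d370c1c868e4a], [nat_lit 175104, nat_lit 168448, nat_lit 164608, nat_lit 161152, nat_lit 156864, nat_lit 152640, nat_lit 148000, nat_lit 145160, nat_lit 140968, nat_lit 135276, nat_lit 132359, nat_lit 786, nat_lit 4860, nat_lit 8528, nat_lit 16640, nat_lit 22464, nat_lit 29952, nat_lit 33792, nat_lit 37888, nat_lit 41024, nat_lit 36871, nat_lit 32923, nat_lit 28991, nat_lit 25613, nat_lit 20628, nat_lit 16416, nat_lit 12358, nat_lit 8257, nat_lit 4105]⟩⟩⟩]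
theorem s752 : Suf yT 2304 (ldrop wQ 14) (apW dcM p751) (tgtN dcM p751.e) := Suf.seg (l := l752) (by decide +kernel) s753
def l751 : List AP := [⟨[nat_lit 114, nat_lit 137, nat_lit 113], [], (nat_lit 254), ⟨[nat_lit 87], [nat_lit 0, nat_lit 13, nat_lit 69], ⟨[nat_lit 0x9a4b60aa0b39493cc68a3c856de30], [nat_lit 168960, nat_lit 165120, nat_lit 161408, nat_lit 156800, nat_lit 151936, nat_lit 148288, nat_lit 143384, nat_lit 142908, nat_lit 137082, nat_lit 131993, nat_lit 1076, nat_lit 4568, nat_lit 8256, nat_lit 13712, nat_lit 17632, nat_lit 22208, nat_lit 24704, nat_lit 29184, nat_lit 33280, nat_lit 37888, nat_lit 41180, nat_lit 37051, nat_lit 32964, nat_lit 28788, nat_lit 24593, nat_lit 20626, nat_lit 16453, nat_lit 12293, nat_lit 8193, nat_lit 4128, nat_lit 4]⟩⟩⟩,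
  ⟨[], [], (nat_lit 255), ⟨[nat_lit 38, nat_lit 50], [nat_lit 88, nat_lit 49], ⟨[nat_lit 0xda49616b43394b99e0d03c82446e3], [nat_lit 169472, nat_lit 164352, nat_lit 163072, nat_lit 156224, nat_lit 151872, nat_lit 147968, nat_lit 143736, nat_lit 140528, nat_lit 137080, nat_lit 132553, nat_lit 1148, nat_lit 5580, nat_lit 8704, nat_lit 12544, nat_lit 16896, nat_lit 20736, nat_lit 25600, nat_lit 29184, nat_lit 34304, nat_lit 41960, nat_lit 37947, nat_lit 32785, nat_lit 28688, nat_lit 25139, nat_lit 20554, nat_lit 16516, nat_lit 12322, nat_lit 8208, nat_lit 4129, nat_lit 2]⟩⟩⟩]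
theorem s751 : Suf yT 2304 (ldrop wQ 6) (apW dcM p750) (tgtN dcM p750.e) := Suf.seg (l := l751) (by decide +kernel) s752
def l750 : List AP := [⟨[nat_lit 627, nat_lit 628, nat_lit 6, nat_lit 11, nat_lit 5, nat_lit 1], [], (nat_lit 40), ⟨[nat_lit 12, nat_lit 49], [nat_lit 0, nat_lit 1, nat_lit 56], ⟨[nat_lit 0x25d2b0c54f38aa02da1271a8d62073], [nat_lit 170496, nat_lit 164608, nat_lit 161408, nat_lit 157568, nat_lit 153568, nat_lit 148048, nat_lit 145280, nat_lit 141064, nat_lit 135978, nat_lit 132904, nat_lit 78, nat_lit 4404, nat_lit 8592, nat_lit 12800, nat_lit 16480, nat_lit 21568, nat_lit 25856, nat_lit 41472, nat_lit 37325, nat_lit 33485, nat_lit 29229, nat_lit 24712, nat_lit 20566, nat_lit 16425, nat_lit 12290, nat_lit 8211, nat_lit 4104]⟩⟩⟩,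
  ⟨[nat_lit 25, nat_lit 23, nat_lit 22, nat_lit 636, nat_lit 638], [], (nat_lit 216), ⟨[nat_lit 0, nat_lit 8, nat_lit 49], [nat_lit 35, nat_lit 57], ⟨[nat_lit 0xa38a855cedb02b3898445a4727c02c], [nat_lit 174080, nat_lit 168448, nat_lit 164864, nat_lit 157888, nat_lit 153888, nat_lit 150720, nat_lit 144648, nat_lit 141948, nat_lit 136392, nat_lit 134486, nat_lit 1354, nat_lit 4160, nat_lit 8504, nat_lit 14112, nat_lit 17120, nat_lit 22016, nat_lit 29952, nat_lit 41785, nat_lit 37002, nat_lit 32951, nat_lit 29016, nat_lit 24600, nat_lit 20616, nat_lit 16463, nat_lit 12295, nat_lit 8195, nat_lit 4100]⟩⟩⟩]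
theorem rQ21 : Suf yT 2304 wQ [yT.get 55] 0 := Suf.seg (l := l750) (by decide +kernel) s751


end

end CF.Mon.Tr
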