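import Cfsg.Agent.Mon.YW

set_option autoImplicit false
set_option maxRecDepth 100000

namespace CF.Mon.Tr

open CF.Comp

noncomputable section

def p756 : AP := ⟨[], [], (nat_lit 66), ⟨[nat_lit 72, nat_lit 93], [nat_lit 0, nat_lit 20, nat_lit 58], ⟨[nat_lit 0x152af3d933941a159a377290361480], [nat_lit 173056, nat_lit 171520, nat_lit 164864, nat_lit 162432, nat_lit 157376, nat_lit 154208, nat_lit 150576, nat_lit 146208, nat_lit 141252, nat_lit 135830, nat_lit 134805, nat_lit 16, nat_lit 4396, nat_lit 9440, nat_lit 12976, nat_lit 17312, nat_lit 22144, nat_lit 25984, nat_lit 28928, nat_lit 34304, nat_lit 41318, nat_lit 37059, nat_lit 34010, nat_lit 28933, nat_lit 24618, nat_lit 20555, nat_lit 16520, nat_lit 12291, nat_lit 8449, nat_lit 4104, nat_lit 2]⟩⟩⟩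
def p757 : AP := ⟨[nat_lit 32, nat_lit 28, nat_lit 635, nat_lit 634], [], (nat_lit 116), ⟨[nat_lit 44, nat_lit 54], [nat_lit 30, nat_lit 52], ⟨[nat_lit 0xbaeb319dd4116cc044282494683d2d], [nat_lit 175104, nat_lit 168448, nat_lit 164096, nat_lit 161920, nat_lit 156352, nat_lit 152064, nat_lit 151440, nat_lit 147120, nat_lit 142848, nat_lit 137924, nat_lit 133406, nat_lit 1066, nat_lit 5488, nat_lit 10200, nat_lit 14112, nat_lit 17024, nat_lit 21504, nat_lit 25600, nat_lit 29184, nat_lit 33792, nat_lit 41037, nat_lit 37121, nat_lit 32845, nat_lit 28756, nat_lit 24621, nat_lit 20573, nat_lit 16429, nat_lit 12293, nat_lit 8193, nat_lit 4097, nat_lit 2]⟩⟩⟩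
def p758 : AP := ⟨[], [], (nat_lit 1226), ⟨[nat_lit 0, nat_lit 22, nat_lit 52], [nat_lit 10, nat_lit 55], ⟨[nat_lit 0x6d41431c4e5c8b70b10a1c5f349216], [nat_lit 175104, nat_lit 168960, nat_lit 165120, nat_lit 162560, nat_lit 157248, nat_lit 152512, nat_lit 150896, nat_lit 146632, nat_lit 141976, nat_lit 138156, nat_lit 134886, nat_lit 760, nat_lit 5668, nat_lit 10144, nat_lit 13440, nat_lit 18112, nat_lit 20544, nat_lit 25856, nat_lit 30208, nat_lit 33280, nat_lit 41283, nat_lit 37287, nat_lit 33004, nat_lit 28779, nat_lit 24764, nat_lit 20483, nat_lit 12418, nat_lit 8256, nat_lit 4097, nat_lit 2]⟩⟩⟩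
def p759 : AP := ⟨[nat_lit 629, nat_lit 629, nat_lit 14, nat_lit 633, nat_lit 14], [], (nat_lit 70), ⟨[nat_lit 79, nat_lit 60], [nat_lit 48], ⟨[nat_lit 0xa2de405e760c8a66a8f54260273071], [nat_lit 175104, nat_lit 168960, nat_lit 164352, nat_lit 160000, nat_lit 158592, nat_lit 155008, nat_lit 150352, nat_lit 143768, nat_lit 143252, nat_lit 135252, nat_lit 134847, nat_lit 1652, nat_lit 4404, nat_lit 10168, nat_lit 12800, nat_lit 18336, nat_lit 21888, nat_lit 26240, nat_lit 29696, nat_lit 37888, nat_lit 41939, nat_lit 37142, nat_lit 33332, nat_lit 28737, nat_lit 24596, nat_lit 20497, nat_lit 16397, nat_lit 12293, nat_lit 8202, nat_lit 4100]⟩⟩⟩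
def p760 : AP := ⟨[], [], (nat_lit 1032), ⟨[nat_lit 0, nat_lit 77, nat_lit 67], [nat_lit 0, nat_lit 20, nat_lit 60], ⟨[nat_lit 0x640f3191c15cae08d84a4a1e6a15b5], [nat_lit 173056, nat_lit 165120, nat_lit 160896, nat_lit 156096, nat_lit 152960, nat_lit 149968, nat_lit 145040, nat_lit 141020, nat_lit 136594, nat_lit 131122, nat_lit 1778, nat_lit 5900, nat_lit 9272, nat_lit 14144, nat_lit 17408, nat_lit 22400, nat_lit 26240, nat_lit 29440, nat_lit 34304, nat_lit 37888, nat_lit 41744, nat_lit 36956, nat_lit 33009, nat_lit 28728, nat_lit 24855, nat_lit 20563, nat_lit 12416, nat_lit 8225, nat_lit 4097]⟩⟩⟩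
def l761 : List AP := [⟨[nat_lit 627, nat_lit 627, nat_lit 6, nat_lit 0], [], (nat_lit 25), ⟨[nat_lit 0, nat_lit 10, nat_lit 57], [nat_lit 73, nat_lit 69], ⟨[nat_lit 0x4bcc82d5b45dc12b2851640f370c81], [nat_lit 174080, nat_lit 170496, nat_lit 165376, nat_lit 163712, nat_lit 158592, nat_lit 155488, nat_lit 147568, nat_lit 144464, nat_lit 140268, nat_lit 139186, nat_lit 133761, nat_lit 1760, nat_lit 4112, nat_lit 10168, nat_lit 12304, nat_lit 17152, nat_lit 20736, nat_lit 26496, nat_lit 29440, nat_lit 41939, nat_lit 37030, nat_lit 32787, nat_lit 29282, nat_lit 24759, nat_lit 20544, nat_lit 16388, nat_lit 12295, nat_lit 8200, nat_lit 4097]⟩⟩⟩]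
theorem s761 : Suf yT 2560 (ldrop wQ 37) (apW dcM p760) (tgtN dcM p760.e) := Suf.fin' (l := l761) (by decide +kernel)
def l760 : List AP := [⟨[], [], (nat_lit 1036), ⟨[nat_lit 0, nat_lit 12, nat_lit 54], [nat_lit 0, nat_lit 29, nat_lit 65], ⟨[nat_lit 0xa05e600a685c8a45362eb2617a8d87], [nat_lit 173056, nat_lit 165376, nat_lit 159872, nat_lit 155904, nat_lit 153248, nat_lit 148720, nat_lit 143760, nat_lit 142944, nat_lit 135312, nat_lit 131144, nat_lit 1178, nat_lit 4408, nat_lit 8200, nat_lit 13936, nat_lit 16832, nat_lit 21376, nat_lit 24832, nat_lit 28928, nat_lit 33792, nat_lit 41866, nat_lit 37137, nat_lit 33008, nat_lit 28940, nat_lit 24704, nat_lit 20508, nat_lit 16387, nat_lit 12321]⟩⟩⟩,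
  ⟨[nat_lit 39, nat_lit 41], [], (nat_lit 36), ⟨[nat_lit 0, nat_lit 13, nat_lit 69], [nat_lit 0, nat_lit 9, nat_lit 66], ⟨[nat_lit 0x98ee283d94019ab0a1c5392d2aa931], [nat_lit 175104, nat_lit 171520, nat_lit 166144, nat_lit 161024, nat_lit 158400, nat_lit 155168, nat_lit 148544, nat_lit 146880, nat_lit 139316, nat_lit 135194, nat_lit 132439, nat_lit 1298, nat_lit 4780, nat_lit 8704, nat_lit 13456, nat_lit 17376, nat_lit 20992, nat_lit 30464, nat_lit 34304, nat_lit 41704, nat_lit 36970, nat_lit 32920, nat_lit 28935, nat_lit 25106, nat_lit 20548, nat_lit 16392, nat_lit 12289, nat_lit 8225, nat_lit 4]⟩⟩⟩]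
theorem s760 : Suf yT 2560 (ldrop wQ 29) (apW dcM p759) (tgtN dcM p759.e) := Suf.seg (l := l760) (by decide +kernel) s761
def l759 : List AP := [⟨[nat_lit 55], [], (nat_lit 126), ⟨[nat_lit 45, nat_lit 49], [nat_lit 23, nat_lit 61], ⟨[nat_lit 0x28c334c944ad8f17b60645c4e5d00c], [nat_lit 173056, nat_lit 160768, nat_lit 155776, nat_lit 152480, nat_lit 147504, nat_lit 144432, nat_lit 140644, nat_lit 135204, nat_lit 132906, nat_lit 318, nat_lit 4412, nat_lit 8896, nat_lit 13504, nat_lit 17760, nat_lit 21312, nat_lit 25728, nat_lit 28928, nat_lit 33280, nat_lit 37888, nat_lit 41303, nat_lit 37101, nat_lit 33879, nat_lit 29225, nat_lit 24756, nat_lit 20545, nat_lit 16388, nat_lit 12803, nat_lit 8202, nat_lit 4097, nat_lit 2]⟩⟩⟩,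
  ⟨[nat_lit 68], [], (nat_lit 122), ⟨[nat_lit 15, nat_lit 61], [nat_lit 0, nat_lit 41, nat_lit 47], ⟨[nat_lit 0x31c947822990d4e68608b54b713173], [nat_lit 169472, nat_lit 165376, nat_lit 160512, nat_lit 157312, nat_lit 152864, nat_lit 149456, nat_lit 143648, nat_lit 141032, nat_lit 136496, nat_lit 134690, nat_lit 404, nat_lit 4684, nat_lit 8928, nat_lit 13664, nat_lit 18048, nat_lit 20608, nat_lit 25216, nat_lit 28928, nat_lit 34304, nat_lit 37888, nat_lit 41646, nat_lit 37979, nat_lit 33013, nat_lit 28928, nat_lit 24746, nat_lit 20608, nat_lit 16388, nat_lit 12358, nat_lit 8195, nat_lit 4097, nat_lit 2]⟩⟩⟩]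
theorem s759 : Suf yT 2560 (ldrop wQ 23) (apW dcM p758) (tgtN dcM p758.e) := Suf.seg (l := l759) (by decide +kernel) s760
def l758 : List AP := [⟨[nat_lit 642, nat_lit 52], [], (nat_lit 124), ⟨[nat_lit 0, nat_lit 22, nat_lit 70], [nat_lit 0, nat_lit 24, nat_lit 63], ⟨[nat_lit 0x8466713156702a96a0777ae8121a45], [nat_lit 167168, nat_lit 160768, nat_lit 157184, nat_lit 154208, nat_lit 150464, nat_lit 146936, nat_lit 141792, nat_lit 137876, nat_lit 132937, nat_lit 1054, nat_lit 4412, nat_lit 9528, nat_lit 14208, nat_lit 17408, nat_lit 20608, nat_lit 26368, nat_lit 34304, nat_lit 41308, nat_lit 37047, nat_lit 33841, nat_lit 28706, nat_lit 24884, nat_lit 20609, nat_lit 16461, nat_lit 12355, nat_lit 8210, nat_lit 32]⟩⟩⟩,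
  ⟨[nat_lit 46, nat_lit 642, nat_lit 55, nat_lit 639], [], (nat_lit 818), ⟨[nat_lit 0, nat_lit 20, nat_lit 57], [nat_lit 0, nat_lit 16, nat_lit 48], ⟨[nat_lit 0x6ac1734c43ac8b4606c9745e754088], [nat_lit 171520, nat_lit 165632, nat_lit 160256, nat_lit 158592, nat_lit 151808, nat_lit 148624, nat_lit 147016, nat_lit 141600, nat_lit 138236, nat_lit 134030, nat_lit 846, nat_lit 5928, nat_lit 9240, nat_lit 12352, nat_lit 18112, nat_lit 20928, nat_lit 24832, nat_lit 30208, nat_lit 34304, nat_lit 41217, nat_lit 37277, nat_lit 33015, nat_lit 28777, nat_lit 24585, nat_lit 20635, nat_lit 12357, nat_lit 8201, nat_lit 4129]⟩⟩⟩]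
theorem s758 : Suf yT 2560 (ldrop wQ 14) (apW dcM p757) (tgtN dcM p757.e) := Suf.seg (l := l758) (by decide +kernel) s759
def l757 : List AP := [⟨[nat_lit 21, nat_lit 21, nat_lit 30, nat_lit 23, nat_lit 22], [], (nat_lit 216), ⟨[nat_lit 0, nat_lit 44, nat_lit 58], [nat_lit 29, nat_lit 64], ⟨[nat_lit 0x9902c128177a5b4b4a2b354a81c0ee], [nat_lit 175104, nat_lit 169984, nat_lit 166912, nat_lit 160768, nat_lit 157184, nat_lit 153568, nat_lit 151200, nat_lit 144584, nat_lit 140760, nat_lit 138248, nat_lit 135081, nat_lit 166, nat_lit 5380, nat_lit 10224, nat_lit 12352, nat_lit 17760, nat_lit 22272, nat_lit 24832, nat_lit 28928, nat_lit 33280, nat_lit 41872, nat_lit 37094, nat_lit 33979, nat_lit 28741, nat_lit 24610, nat_lit 20573, nat_lit 16426, nat_lit 12293, nat_lit 8193, nat_lit 4129]⟩⟩⟩,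
  ⟨[], [], (nat_lit 217), ⟨[nat_lit 0, nat_lit 85, nat_lit 90], [nat_lit 0, nat_lit 43], ⟨[nat_lit 0x9bc3412006225ac959c3bd4aa59e11], [nat_lit 165888, nat_lit 161024, nat_lit 156352, nat_lit 152608, nat_lit 148544, nat_lit 144832, nat_lit 137200, nat_lit 131634, nat_lit 1694, nat_lit 5016, nat_lit 9096, nat_lit 12352, nat_lit 16864, nat_lit 20736, nat_lit 25600, nat_lit 28928, nat_lit 33792, nat_lit 41749, nat_lit 37071, nat_lit 32840, nat_lit 24840, nat_lit 17408, nat_lit 12546, nat_lit 8208, nat_lit 4104, nat_lit 4]⟩⟩⟩]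
theorem s757 : Suf yT 2560 (ldrop wQ 6) (apW dcM p756) (tgtN dcM p756.e) := Suf.seg (l := l757) (by decide +kernel) s758
def l756 : List AP := [⟨[nat_lit 8, nat_lit 0, nat_lit 628, nat_lit 6], [], (nat_lit 25), ⟨[nat_lit 0, nat_lit 85, nat_lit 62], [nat_lit 88, nat_lit 93], ⟨[nat_lit 0x440c98dea453814908253b1f368ecb], [nat_lit 174080, nat_lit 164096, nat_lit 161664, nat_lit 159488, nat_lit 154240, nat_lit 150960, nat_lit 144912, nat_lit 142232, nat_lit 136838, nat_lit 133284, nat_lit 1966, nat_lit 5404, nat_lit 9928, nat_lit 13712, nat_lit 16480, nat_lit 20608, nat_lit 25088, nat_lit 29952, nat_lit 34304, nat_lit 41693, nat_lit 37370, nat_lit 33285, nat_lit 28775, nat_lit 24744, nat_lit 20501, nat_lit 16398, nat_lit 8195, nat_lit 4101]⟩⟩⟩,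
  ⟨[nat_lit 10, nat_lit 627, nat_lit 2, nat_lit 11, nat_lit 11], [], (nat_lit 40), ⟨[nat_lit 0, nat_lit 26, nat_lit 89], [nat_lit 0, nat_lit 41, nat_lit 53], ⟨[nat_lit 0x152af3d933941a159a377290361480], [nat_lit 173056, nat_lit 171008, nat_lit 164864, nat_lit 162304, nat_lit 157376, nat_lit 154176, nat_lit 150576, nat_lit 146208, nat_lit 141252, nat_lit 135830, nat_lit 134804, nat_lit 16, nat_lit 4396, nat_lit 9440, nat_lit 12976, nat_lit 17312, nat_lit 22144, nat_lit 25984, nat_lit 28928, nat_lit 34304, nat_lit 41318, nat_lit 37059, nat_lit 34010, nat_lit 28933, nat_lit 24618, nat_lit 20555, nat_lit 16520, nat_lit 12291, nat_lit 8449, nat_lit 4104, nat_lit 2]⟩⟩⟩]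
theorem rQ22 : Suf yT 2560 wQ [yT.get 56] 0 := Suf.seg (l := l756) (by decide +kernel) s757

def p762 : AP := ⟨[nat_lit 72, nat_lit 66], [], (nat_lit 126), ⟨[nat_lit 0, nat_lit 45], [nat_lit 0, nat_lit 8, nat_lit 61], ⟨[nat_lit 0x391eb85cc3536b49266e2c6c243001], [nat_lit 174080, nat_lit 164096, nat_lit 161152, nat_lit 159552, nat_lit 154880, nat_lit 149792, nat_lit 145336, nat_lit 143220, nat_lit 135292, nat_lit 133326, nat_lit 1142, nat_lit 5492, nat_lit 8504, nat_lit 13632, nat_lit 17760, nat_lit 21440, nat_lit 25600, nat_lit 29184, nat_lit 37888, nat_lit 41743, nat_lit 37888, nat_lit 33484, nat_lit 28692, nat_lit 24583, nat_lit 20505, nat_lit 16387, nat_lit 12295, nat_lit 8193, nat_lit 4105]⟩⟩⟩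
def p763 : AP := ⟨[nat_lit 640, nat_lit 47, nat_lit 49], [], (nat_lit 1046), ⟨[nat_lit 0, nat_lit 40, nat_lit 65], [nat_lit 2, nat_lit 48], ⟨[nat_lit 0x726ac450e495e2b9946f55840819a1], [nat_lit 168960, nat_lit 164096, nat_lit 160256, nat_lit 156928, nat_lit 155456, nat_lit 148080, nat_lit 143952, nat_lit 139600, nat_lit 136840, nat_lit 131882, nat_lit 494, nat_lit 4128, nat_lit 9672, nat_lit 13696, nat_lit 16576, nat_lit 21504, nat_lit 25728, nat_lit 33280, nat_lit 37888, nat_lit 41311, nat_lit 37265, nat_lit 33497, nat_lit 28780, nat_lit 24624, nat_lit 20502, nat_lit 16417, nat_lit 12420, nat_lit 8211, nat_lit 4097, nat_lit 2]⟩⟩⟩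
def p764 : AP := ⟨[], [], (nat_lit 417), ⟨[nat_lit 86, nat_lit 92], [nat_lit 32, nat_lit 48], ⟨[nat_lit 0xbc882a00d09d8e34a14e896a163dab], [nat_lit 173056, nat_lit 168960, nat_lit 165120, nat_lit 161536, nat_lit 156224, nat_lit 152064, nat_lit 148464, nat_lit 144168, nat_lit 141240, nat_lit 136878, nat_lit 134271, nat_lit 986, nat_lit 5468, nat_lit 8680, nat_lit 13056, nat_lit 16576, nat_lit 21120, nat_lit 25984, nat_lit 29184, nat_lit 33280, nat_lit 37888, nat_lit 41967, nat_lit 38016, nat_lit 33436, nat_lit 28694, nat_lit 24860, nat_lit 20556, nat_lit 16393, nat_lit 12293, nat_lit 8195, nat_lit 4101]⟩⟩⟩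
def p765 : AP := ⟨[nat_lit 640, nat_lit 56, nat_lit 54, nat_lit 71, nat_lit 46], [], (nat_lit 1046), ⟨[nat_lit 20, nat_lit 61], [nat_lit 0, nat_lit 73, nat_lit 54], ⟨[nat_lit 0x1c92e08aa7659a42d10b03d5184ee6], [nat_lit 173056, nat_lit 168448, nat_lit 164864, nat_lit 161664, nat_lit 156224, nat_lit 152640, nat_lit 147904, nat_lit 143704, nat_lit 143124, nat_lit 135304, nat_lit 131613, nat_lit 116, nat_lit 5688, nat_lit 9216, nat_lit 13584, nat_lit 16800, nat_lit 20800, nat_lit 25088, nat_lit 30208, nat_lit 33792, nat_lit 41948, nat_lit 38343, nat_lit 33914, nat_lit 29037, nat_lit 24764, nat_lit 20551, nat_lit 16420, nat_lit 12423, nat_lit 8195, nat_lit 4100, nat_lit 2]⟩⟩⟩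
def p766 : AP := ⟨[nat_lit 68], [], (nat_lit 122), ⟨[nat_lit 84, nat_lit 47], [nat_lit 0, nat_lit 33, nat_lit 57], ⟨[nat_lit 0x525a0b48a878a97832633562b0b887], [nat_lit 173056, nat_lit 169472, nat_lit 164864, nat_lit 159872, nat_lit 156160, nat_lit 151904, nat_lit 149216, nat_lit 145248, nat_lit 139660, nat_lit 136132, nat_lit 131417, nat_lit 1182, nat_lit 4112, nat_lit 10160, nat_lit 13264, nat_lit 20672, nat_lit 25216, nat_lit 29184, nat_lit 41501, nat_lit 36992, nat_lit 32856, nat_lit 29184, nat_lit 24856, nat_lit 20495, nat_lit 16394, nat_lit 12304, nat_lit 4104]⟩⟩⟩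
def l767 : List AP := [⟨[nat_lit 15, nat_lit 36], [], (nat_lit 1032), ⟨[nat_lit 79, nat_lit 57], [nat_lit 0, nat_lit 35, nat_lit 58], ⟨[nat_lit 0x9b96da3ca20c523bda48612a051cd0], [nat_lit 175104, nat_lit 169984, nat_lit 167680, nat_lit 161408, nat_lit 157696, nat_lit 154656, nat_lit 148720, nat_lit 147432, nat_lit 139900, nat_lit 136466, nat_lit 132778, nat_lit 1246, nat_lit 4316, nat_lit 9096, nat_lit 14112, nat_lit 17824, nat_lit 22016, nat_lit 25216, nat_lit 30208, nat_lit 33792, nat_lit 41336, nat_lit 36936, nat_lit 32968, nat_lit 28765, nat_lit 24612, nat_lit 20495, nat_lit 16518, nat_lit 12293, nat_lit 8200, nat_lit 4113, nat_lit 4]⟩⟩⟩]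
theorem s767 : Suf yT 3072 (ldrop wQ 37) (apW dcM p766) (tgtN dcM p766.e) := Suf.fin' (l := l767) (by decide +kernel)
def l766 : List AP := [⟨[], [], (nat_lit 396), ⟨[nat_lit 0, nat_lit 38, nat_lit 61], [nat_lit 3, nat_lit 92], ⟨[nat_lit 0x1b1240c6a0959aea14d03bd425de68], [nat_lit 171008, nat_lit 164608, nat_lit 161536, nat_lit 156096, nat_lit 151744, nat_lit 147712, nat_lit 144272, nat_lit 140604, nat_lit 136816, nat_lit 132537, nat_lit 846, nat_lit 5688, nat_lit 8448, nat_lit 12464, nat_lit 16640, nat_lit 21568, nat_lit 24832, nat_lit 29440, nat_lit 33280, nat_lit 41688, nat_lit 38341, nat_lit 32832, nat_lit 28717, nat_lit 24887, nat_lit 20551, nat_lit 16420, nat_lit 12423, nat_lit 8211, nat_lit 4100, nat_lit 2]⟩⟩⟩,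
  ⟨[nat_lit 55, nat_lit 67], [], (nat_lit 126), ⟨[nat_lit 0], [nat_lit 0, nat_lit 86, nat_lit 66], ⟨[nat_lit 0x391f2454464ae6e851962dd406c423], [nat_lit 175104, nat_lit 171008, nat_lit 164352, nat_lit 162560, nat_lit 158912, nat_lit 155232, nat_lit 148240, nat_lit 145192, nat_lit 140140, nat_lit 138696, nat_lit 134278, nat_lit 1770, nat_lit 4104, nat_lit 9480, nat_lit 12800, nat_lit 17664, nat_lit 22208, nat_lit 26368, nat_lit 33280, nat_lit 37888, nat_lit 41622, nat_lit 37125, nat_lit 33367, nat_lit 29734, nat_lit 24859, nat_lit 20633, nat_lit 16522, nat_lit 12294, nat_lit 8203, nat_lit 4097]⟩⟩⟩]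
theorem s766 : Suf yT 3072 (ldrop wQ 29) (apW dcM p765) (tgtN dcM p765.e) := Suf.seg (l := l766) (by decide +kernel) s767
def l765 : List AP := [⟨[nat_lit 181, nat_lit 176], [], (nat_lit 419), ⟨[nat_lit 0, nat_lit 31, nat_lit 58], [nat_lit 0, nat_lit 30, nat_lit 90], ⟨[nat_lit 0x844146a8f2bac697bac23542562264], [nat_lit 175104, nat_lit 171520, nat_lit 167680, nat_lit 160000, nat_lit 157504, nat_lit 153408, nat_lit 149872, nat_lit 143504, nat_lit 139664, nat_lit 138288, nat_lit 133745, nat_lit 1794, nat_lit 5232, nat_lit 9288, nat_lit 13632, nat_lit 16512, nat_lit 20608, nat_lit 25600, nat_lit 41456, nat_lit 37316, nat_lit 32925, nat_lit 28771, nat_lit 24754, nat_lit 20497, nat_lit 16385, nat_lit 12546, nat_lit 8202, nat_lit 4105]⟩⟩⟩,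
  ⟨[nat_lit 217, nat_lit 172], [], (nat_lit 396), ⟨[nat_lit 73, nat_lit 56], [nat_lit 0, nat_lit 39, nat_lit 68], ⟨[nat_lit 0x6a607a0dee0da72b9805129155b091], [nat_lit 168960, nat_lit 164864, nat_lit 161280, nat_lit 157248, nat_lit 152352, nat_lit 148000, nat_lit 146136, nat_lit 141196, nat_lit 136278, nat_lit 131358, nat_lit 1250, nat_lit 4396, nat_lit 8928, nat_lit 12304, nat_lit 16896, nat_lit 22464, nat_lit 25856, nat_lit 28928, nat_lit 33280, nat_lit 41001, nat_lit 37280, nat_lit 32920, nat_lit 28928, nat_lit 24588, nat_lit 21013, nat_lit 16393, nat_lit 12294, nat_lit 8200, nat_lit 4100, nat_lit 16]⟩⟩⟩]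
theorem s765 : Suf yT 3072 (ldrop wQ 23) (apW dcM p764) (tgtN dcM p764.e) := Suf.seg (l := l765) (by decide +kernel) s766
def l764 : List AP := [⟨[nat_lit 661, nat_lit 171], [], (nat_lit 418), ⟨[nat_lit 0, nat_lit 44, nat_lit 58], [nat_lit 43, nat_lit 54], ⟨[nat_lit 0x844283d59255057215636a40f35a6e], [nat_lit 175104, nat_lit 171520, nat_lit 165120, nat_lit 161792, nat_lit 157888, nat_lit 153824, nat_lit 148416, nat_lit 145144, nat_lit 140660, nat_lit 138486, nat_lit 134657, nat_lit 342, nat_lit 4340, nat_lit 9384, nat_lit 14096, nat_lit 17504, nat_lit 20608, nat_lit 25472, nat_lit 29440, nat_lit 37888, nat_lit 41439, nat_lit 36919, nat_lit 33962, nat_lit 29809, nat_lit 24888, nat_lit 20611, nat_lit 16389, nat_lit 12293, nat_lit 8194, nat_lit 4100]⟩⟩⟩,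
  ⟨[nat_lit 172, nat_lit 179, nat_lit 170], [], (nat_lit 416), ⟨[nat_lit 0, nat_lit 45, nat_lit 93], [nat_lit 0, nat_lit 86, nat_lit 68], ⟨[nat_lit 0xbcc83a04d1958e24256c816a0735ea], [nat_lit 173056, nat_lit 168448, nat_lit 165120, nat_lit 161152, nat_lit 156864, nat_lit 152064, nat_lit 148848, nat_lit 144704, nat_lit 140168, nat_lit 137522, nat_lit 132916, nat_lit 1808, nat_lit 5992, nat_lit 8592, nat_lit 12608, nat_lit 16672, nat_lit 22336, nat_lit 25344, nat_lit 29440, nat_lit 33792, nat_lit 37888, nat_lit 41450, nat_lit 36970, nat_lit 32940, nat_lit 28753, nat_lit 24618, nat_lit 20482, nat_lit 16395, nat_lit 12294, nat_lit 8195]⟩⟩⟩]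
theorem s764 : Suf yT 3072 (ldrop wQ 14) (apW dcM p763) (tgtN dcM p763.e) := Suf.seg (l := l764) (by decide +kernel) s765
def l763 : List AP := [⟨[nat_lit 66, nat_lit 640, nat_lit 69], [], (nat_lit 1046), ⟨[nat_lit 3], [nat_lit 0, nat_lit 24, nat_lit 57], ⟨[nat_lit 0xabd2439601145cd95c7454c08b3166], [nat_lit 164352, nat_lit 162560, nat_lit 156544, nat_lit 152416, nat_lit 147744, nat_lit 144800, nat_lit 139716, nat_lit 135992, nat_lit 131644, nat_lit 1720, nat_lit 4952, nat_lit 8928, nat_lit 14160, nat_lit 16640, nat_lit 20672, nat_lit 25728, nat_lit 28928, nat_lit 33792, nat_lit 37888, nat_lit 41631, nat_lit 38111, nat_lit 32992, nat_lit 28713, nat_lit 24874, nat_lit 20633, nat_lit 16416, nat_lit 12355, nat_lit 8194, nat_lit 8]⟩⟩⟩,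
  ⟨[], [], (nat_lit 396), ⟨[nat_lit 0, nat_lit 12, nat_lit 94], [nat_lit 0, nat_lit 14, nat_lit 62], ⟨[nat_lit 0xa892d3a20a7c5c4bc8d60cc05a2d83], [nat_lit 173056, nat_lit 168448, nat_lit 166912, nat_lit 161536, nat_lit 155840, nat_lit 152288, nat_lit 147856, nat_lit 145304, nat_lit 140096, nat_lit 135584, nat_lit 131863, nat_lit 484, nat_lit 4156, nat_lit 8928, nat_lit 12320, nat_lit 16640, nat_lit 20736, nat_lit 26240, nat_lit 29440, nat_lit 34304, nat_lit 37888, nat_lit 41975, nat_lit 38199, nat_lit 33898, nat_lit 28952, nat_lit 24619, nat_lit 20489, nat_lit 16653, nat_lit 12321, nat_lit 8194, nat_lit 32]⟩⟩⟩]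
theorem s763 : Suf yT 3072 (ldrop wQ 6) (apW dcM p762) (tgtN dcM p762.e) := Suf.seg (l := l763) (by decide +kernel) s764
def l762 : List AP := [⟨[nat_lit 9, nat_lit 626, nat_lit 627, nat_lit 7, nat_lit 10, nat_lit 3], [], (nat_lit 26), ⟨[nat_lit 1, nat_lit 67], [nat_lit 22, nat_lit 93], ⟨[nat_lit 0x1052f9c14e8d0a3b0244aa1973996d], [nat_lit 173056, nat_lit 168448, nat_lit 164352, nat_lit 161664, nat_lit 159040, nat_lit 152480, nat_lit 148336, nat_lit 143680, nat_lit 139664, nat_lit 137088, nat_lit 132415, nat_lit 428, nat_lit 5016, nat_lit 9136, nat_lit 14048, nat_lit 17248, nat_lit 21440, nat_lit 25600, nat_lit 29952, nat_lit 41280, nat_lit 36983, nat_lit 33008, nat_lit 28790, nat_lit 24580, nat_lit 20638, nat_lit 16393, nat_lit 12291, nat_lit 8256]⟩⟩⟩,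
  ⟨[nat_lit 632, nat_lit 16, nat_lit 632, nat_lit 16, nat_lit 14, nat_lit 15], [], (nat_lit 90), ⟨[nat_lit 0, nat_lit 24, nat_lit 69], [nat_lit 0, nat_lit 69], ⟨[nat_lit 0x1b21475412224a67dc53686d13a90b], [nat_lit 175104, nat_lit 171520, nat_lit 165632, nat_lit 162048, nat_lit 158656, nat_lit 155392, nat_lit 147552, nat_lit 143576, nat_lit 140996, nat_lit 138304, nat_lit 133580, nat_lit 1336, nat_lit 4824, nat_lit 9096, nat_lit 13760, nat_lit 17120, nat_lit 20736, nat_lit 25728, nat_lit 30208, nat_lit 33792, nat_lit 37888, nat_lit 41337, nat_lit 37146, nat_lit 33342, nat_lit 28674, nat_lit 25658, nat_lit 20483, nat_lit 16905, nat_lit 12806, nat_lit 8200, nat_lit 4097]⟩⟩⟩]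
theorem rQ23 : Suf yT 3072 wQ [yT.get 57] 0 := Suf.seg (l := l762) (by decide +kernel) s763

def p768 : AP := ⟨[nat_lit 217, nat_lit 179, nat_lit 170], [], (nat_lit 858), ⟨[nat_lit 0, nat_lit 20, nat_lit 67], [nat_lit 1, nat_lit 61], ⟨[nat_lit 0x6b98b0127553d09a1c3285ca334456], [nat_lit 173056, nat_lit 169472, nat_lit 164096, nat_lit 161408, nat_lit 156352, nat_lit 153120, nat_lit 149872, nat_lit 144016, nat_lit 140220, nat_lit 136224, nat_lit 132550, nat_lit 680, nat_lit 5084, nat_lit 8704, nat_lit 13312, nat_lit 17408, nat_lit 20736, nat_lit 25856, nat_lit 29696, nat_lit 33792, nat_lit 37888, nat_lit 41421, nat_lit 36907, nat_lit 34013, nat_lit 28688, nat_lit 25610, nat_lit 21021, nat_lit 16392, nat_lit 12304, nat_lit 8226, nat_lit 4128]⟩⟩⟩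
def p769 : AP := ⟨[], [], (nat_lit 943), ⟨[nat_lit 20, nat_lit 59], [nat_lit 0, nat_lit 35, nat_lit 58], ⟨[nat_lit 0x225b15228305e5313eae306c53ad90], [nat_lit 173056, nat_lit 168960, nat_lit 167424, nat_lit 160384, nat_lit 156480, nat_lit 152320, nat_lit 147824, nat_lit 144264, nat_lit 139664, nat_lit 136388, nat_lit 131522, nat_lit 1246, nat_lit 4156, nat_lit 8928, nat_lit 12352, nat_lit 18048, nat_lit 20992, nat_lit 24832, nat_lit 28928, nat_lit 41246, nat_lit 37152, nat_lit 33524, nat_lit 28699, nat_lit 24584, nat_lit 20992, nat_lit 16523, nat_lit 12353, nat_lit 8194, nat_lit 8]⟩⟩⟩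
def p770 : AP := ⟨[nat_lit 288, nat_lit 285, nat_lit 669, nat_lit 289, nat_lit 285], [], (nat_lit 686), ⟨[nat_lit 0, nat_lit 6, nat_lit 93], [nat_lit 0, nat_lit 79, nat_lit 57], ⟨[nat_lit 0x1265650e9035ead895d359d880048f], [nat_lit 168960, nat_lit 165632, nat_lit 159872, nat_lit 157376, nat_lit 151776, nat_lit 148560, nat_lit 146792, nat_lit 141076, nat_lit 136504, nat_lit 132903, nat_lit 1896, nat_lit 4112, nat_lit 8504, nat_lit 13920, nat_lit 17600, nat_lit 22336, nat_lit 24832, nat_lit 29696, nat_lit 33280, nat_lit 41495, nat_lit 38239, nat_lit 33359, nat_lit 28798, nat_lit 24616, nat_lit 20505, nat_lit 16417, nat_lit 12305, nat_lit 8320, nat_lit 4100, nat_lit 8]⟩⟩⟩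
def p771 : AP := ⟨[], [], (nat_lit 874), ⟨[nat_lit 0, nat_lit 34, nat_lit 52], [nat_lit 0, nat_lit 38, nat_lit 62], ⟨[nat_lit 0xaa9053b2cfb980284a84705311b66b], [nat_lit 169472, nat_lit 166400, nat_lit 160384, nat_lit 157312, nat_lit 154528, nat_lit 151248, nat_lit 146416, nat_lit 143128, nat_lit 138478, nat_lit 132764, nat_lit 404, nat_lit 5024, nat_lit 8928, nat_lit 12800, nat_lit 16480, nat_lit 21952, nat_lit 25344, nat_lit 30208, nat_lit 41852, nat_lit 38319, nat_lit 32942, nat_lit 28696, nat_lit 25125, nat_lit 20552, nat_lit 16398, nat_lit 12304, nat_lit 8195, nat_lit 4100, nat_lit 2]⟩⟩⟩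
def p772 : AP := ⟨[nat_lit 466, nat_lit 674, nat_lit 464, nat_lit 463], [], (nat_lit 940), ⟨[nat_lit 44, nat_lit 58], [nat_lit 0, nat_lit 12, nat_lit 46], ⟨[nat_lit 0x5a989a101230af01c6c56b90fa9c33], [nat_lit 168448, nat_lit 164608, nat_lit 159872, nat_lit 155968, nat_lit 152960, nat_lit 150496, nat_lit 144176, nat_lit 139656, nat_lit 135506, nat_lit 131756, nat_lit 606, nat_lit 4112, nat_lit 8824, nat_lit 12704, nat_lit 18112, nat_lit 20672, nat_lit 26240, nat_lit 28928, nat_lit 37888, nat_lit 41468, nat_lit 36967, nat_lit 32976, nat_lit 28928, nat_lit 24592, nat_lit 21017, nat_lit 16392, nat_lit 12309, nat_lit 8200]⟩⟩⟩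
def l773 : List AP := [⟨[], [], (nat_lit 1236), ⟨[nat_lit 6, nat_lit 48], [nat_lit 81, nat_lit 57], ⟨[nat_lit 0x78c282c8158a9936dd74224ce140f6], [nat_lit 169472, nat_lit 160640, nat_lit 157632, nat_lit 152256, nat_lit 147488, nat_lit 144608, nat_lit 141052, nat_lit 136200, nat_lit 132600, nat_lit 696, nat_lit 5668, nat_lit 8256, nat_lit 12912, nat_lit 18400, nat_lit 20736, nat_lit 29696, nat_lit 41698, nat_lit 37931, nat_lit 32800, nat_lit 29257, nat_lit 24591, nat_lit 20736, nat_lit 16388, nat_lit 12355, nat_lit 8200, nat_lit 4097]⟩⟩⟩,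
  ⟨[nat_lit 171, nat_lit 171], [], (nat_lit 390), ⟨[nat_lit 0, nat_lit 79, nat_lit 46], [nat_lit 75, nat_lit 47], ⟨[nat_lit 0xa40322452e532664596013db519ee5], [nat_lit 170496, nat_lit 164864, nat_lit 159872, nat_lit 156672, nat_lit 152640, nat_lit 147536, nat_lit 143560, nat_lit 139460, nat_lit 135278, nat_lit 131589, nat_lit 1268, nat_lit 4328, nat_lit 8824, nat_lit 12800, nat_lit 18304, nat_lit 21824, nat_lit 25984, nat_lit 29184, nat_lit 33280, nat_lit 37888, nat_lit 41512, nat_lit 38270, nat_lit 33499, nat_lit 28697, nat_lit 24588, nat_lit 21512, nat_lit 16526, nat_lit 8208, nat_lit 4100, nat_lit 2]⟩⟩⟩,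
  ⟨[], [], (nat_lit 1034), ⟨[nat_lit 0, nat_lit 33, nat_lit 46], [nat_lit 80, nat_lit 54], ⟨[nat_lit 0x64542a00c3858f3591150a5b27ddc5], [nat_lit 168960, nat_lit 165120, nat_lit 160512, nat_lit 156160, nat_lit 153440, nat_lit 148320, nat_lit 144176, nat_lit 140952, nat_lit 136192, nat_lit 133819, nat_lit 128, nat_lit 4564, nat_lit 9328, nat_lit 14304, nat_lit 17504, nat_lit 22464, nat_lit 25472, nat_lit 30208, nat_lit 41779, nat_lit 36993, nat_lit 34037, nat_lit 29018, nat_lit 24879, nat_lit 20572, nat_lit 16420, nat_lit 12289, nat_lit 4353]⟩⟩⟩]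
theorem s773 : Suf yT 2048 (ldrop vQ 36) (apW dcM p772) (tgtN dcM p772.e) := Suf.fin' (l := l773) (by decide +kernel)
def l772 : List AP := [⟨[nat_lit 467, nat_lit 420, nat_lit 463], [], (nat_lit 942), ⟨[nat_lit 0, nat_lit 19, nat_lit 47], [nat_lit 39, nat_lit 59], ⟨[nat_lit 0xab11112d4438650339e06cec91d2e5], [nat_lit 169984, nat_lit 167680, nat_lit 163712, nat_lit 159424, nat_lit 152544, nat_lit 150848, nat_lit 145688, nat_lit 139584, nat_lit 138590, nat_lit 132986, nat_lit 1268, nat_lit 4952, nat_lit 9912, nat_lit 12416, nat_lit 16416, nat_lit 20992, nat_lit 25216, nat_lit 29184, nat_lit 33792, nat_lit 37888, nat_lit 41953, nat_lit 38244, nat_lit 33838, nat_lit 28759, nat_lit 24741, nat_lit 20560, nat_lit 16454, nat_lit 12290, nat_lit 8210, nat_lit 4097, nat_lit 2]⟩⟩⟩,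
  ⟨[], [], (nat_lit 943), ⟨[nat_lit 18, nat_lit 48], [nat_lit 2, nat_lit 61], ⟨[nat_lit 0xa9d101254d60651718a324ecb05e8f], [nat_lit 174080, nat_lit 169472, nat_lit 167168, nat_lit 162688, nat_lit 158016, nat_lit 153056, nat_lit 148464, nat_lit 145112, nat_lit 142256, nat_lit 138580, nat_lit 132629, nat_lit 796, nat_lit 5604, nat_lit 9328, nat_lit 14144, nat_lit 18400, nat_lit 20544, nat_lit 25856, nat_lit 29696, nat_lit 34304, nat_lit 41125, nat_lit 37001, nat_lit 32810, nat_lit 29214, nat_lit 24627, nat_lit 20482, nat_lit 16463, nat_lit 12295, nat_lit 8200, nat_lit 4]⟩⟩⟩]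
theorem s772 : Suf yT 2048 (ldrop vQ 28) (apW dcM p771) (tgtN dcM p771.e) := Suf.seg (l := l772) (by decide +kernel) s773
def l771 : List AP := [⟨[], [], (nat_lit 687), ⟨[nat_lit 6, nat_lit 89], [nat_lit 28, nat_lit 64], ⟨[nat_lit 0x11a4d5228b4deb62c5e081d839902e], [nat_lit 167424, nat_lit 160256, nat_lit 156160, nat_lit 152224, nat_lit 148064, nat_lit 144256, nat_lit 140216, nat_lit 136890, nat_lit 132474, nat_lit 1530, nat_lit 4352, nat_lit 10144, nat_lit 12304, nat_lit 16640, nat_lit 21120, nat_lit 25472, nat_lit 30208, nat_lit 34304, nat_lit 41029, nat_lit 37280, nat_lit 33355, nat_lit 28686, nat_lit 24586, nat_lit 20503, nat_lit 16392, nat_lit 12309, nat_lit 8201, nat_lit 8]⟩⟩⟩,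
  ⟨[nat_lit 351, nat_lit 673, nat_lit 291], [], (nat_lit 817), ⟨[nat_lit 31, nat_lit 90], [nat_lit 0, nat_lit 32, nat_lit 65], ⟨[nat_lit 0x80124bb98f6dab45866691c682c44a], [nat_lit 175104, nat_lit 170496, nat_lit 167168, nat_lit 163456, nat_lit 157376, nat_lit 154720, nat_lit 149920, nat_lit 144416, nat_lit 143168, nat_lit 135206, nat_lit 131760, nat_lit 166, nat_lit 4408, nat_lit 9648, nat_lit 14304, nat_lit 16640, nat_lit 22208, nat_lit 25216, nat_lit 28928, nat_lit 33792, nat_lit 37888, nat_lit 41565, nat_lit 37362, nat_lit 33526, nat_lit 29278, nat_lit 25150, nat_lit 20632, nat_lit 16416, nat_lit 12352, nat_lit 4608]⟩⟩⟩]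
theorem s771 : Suf yT 2048 (ldrop vQ 19) (apW dcM p770) (tgtN dcM p770.e) := Suf.seg (l := l771) (by decide +kernel) s772
def l770 : List AP := [⟨[nat_lit 467, nat_lit 467, nat_lit 417, nat_lit 411, nat_lit 418], [], (nat_lit 912), ⟨[nat_lit 0, nat_lit 7, nat_lit 54], [nat_lit 82, nat_lit 91], ⟨[nat_lit 0x23ad759d4c1140d820744d43393cd1], [nat_lit 175104, nat_lit 168448, nat_lit 165120, nat_lit 162176, nat_lit 156672, nat_lit 151616, nat_lit 151488, nat_lit 146376, nat_lit 142368, nat_lit 137936, nat_lit 134767, nat_lit 1694, nat_lit 5864, nat_lit 8376, nat_lit 14176, nat_lit 18112, nat_lit 21504, nat_lit 25472, nat_lit 29440, nat_lit 34304, nat_lit 41796, nat_lit 36980, nat_lit 33893, nat_lit 28683, nat_lit 25147, nat_lit 20739, nat_lit 12358, nat_lit 8258, nat_lit 4129]⟩⟩⟩,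
  ⟨[nat_lit 285, nat_lit 295, nat_lit 355, nat_lit 285], [], (nat_lit 802), ⟨[nat_lit 22], [nat_lit 9, nat_lit 93], ⟨[nat_lit 0x186b2281e8bcd8da2a2b125c7312d0], [nat_lit 173056, nat_lit 169472, nat_lit 165632, nat_lit 161408, nat_lit 157504, nat_lit 151808, nat_lit 144352, nat_lit 140688, nat_lit 136874, nat_lit 134033, nat_lit 64, nat_lit 5668, nat_lit 10144, nat_lit 14064, nat_lit 17408, nat_lit 21632, nat_lit 24832, nat_lit 28928, nat_lit 41763, nat_lit 38138, nat_lit 32879, nat_lit 29196, nat_lit 24577, nat_lit 20750, nat_lit 16527, nat_lit 12307, nat_lit 8320, nat_lit 4112]⟩⟩⟩]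
theorem s770 : Suf yT 2048 (ldrop vQ 13) (apW dcM p769) (tgtN dcM p769.e) := Suf.seg (l := l770) (by decide +kernel) s771
def l769 : List AP := [⟨[], [], (nat_lit 941), ⟨[nat_lit 17, nat_lit 48], [nat_lit 27, nat_lit 56], ⟨[nat_lit 0x1bef60361212d2e285843c68a41ab3], [nat_lit 167168, nat_lit 162304, nat_lit 158848, nat_lit 153664, nat_lit 148208, nat_lit 147112, nat_lit 143272, nat_lit 135358, nat_lit 133258, nat_lit 1614, nat_lit 5900, nat_lit 9384, nat_lit 13040, nat_lit 16864, nat_lit 20736, nat_lit 24704, nat_lit 28928, nat_lit 41479, nat_lit 38336, nat_lit 33456, nat_lit 29280, nat_lit 24880, nat_lit 20619, nat_lit 16386, nat_lit 12323, nat_lit 8195, nat_lit 4]⟩⟩⟩,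
  ⟨[nat_lit 674, nat_lit 410, nat_lit 411], [], (nat_lit 942), ⟨[nat_lit 39, nat_lit 60], [nat_lit 85, nat_lit 70], ⟨[nat_lit 0x201b3516864de5178a07186c873175], [nat_lit 164864, nat_lit 163328, nat_lit 157568, nat_lit 152800, nat_lit 147760, nat_lit 143736, nat_lit 140460, nat_lit 137138, nat_lit 131155, nat_lit 1634, nat_lit 4952, nat_lit 8928, nat_lit 13200, nat_lit 17472, nat_lit 20736, nat_lit 25728, nat_lit 30208, nat_lit 33280, nat_lit 37888, nat_lit 41674, nat_lit 38250, nat_lit 32781, nat_lit 29219, nat_lit 25610, nat_lit 21021, nat_lit 16429, nat_lit 12321, nat_lit 8194]⟩⟩⟩]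
theorem s769 : Suf yT 2048 (ldrop vQ 5) (apW dcM p768) (tgtN dcM p768.e) := Suf.seg (l := l769) (by decide +kernel) s770
def l768 : List AP := [⟨[nat_lit 628, nat_lit 624, nat_lit 626, nat_lit 8, nat_lit 3, nat_lit 8], [], (nat_lit 40), ⟨[nat_lit 71, nat_lit 51], [nat_lit 0, nat_lit 85, nat_lit 59], ⟨[nat_lit 0x64aa76812f22c6540611bd04a33ad3], [nat_lit 168448, nat_lit 161024, nat_lit 157632, nat_lit 152352, nat_lit 148064, nat_lit 143576, nat_lit 139388, nat_lit 136456, nat_lit 134997, nat_lit 1530, nat_lit 4340, nat_lit 9136, nat_lit 12976, nat_lit 17472, nat_lit 20800, nat_lit 24704, nat_lit 29184, nat_lit 41967, nat_lit 38354, nat_lit 34016, nat_lit 28731, nat_lit 25656, nat_lit 20609, nat_lit 16390, nat_lit 12295, nat_lit 8200, nat_lit 4101, nat_lit 4]⟩⟩⟩,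
  ⟨[nat_lit 26, nat_lit 634, nat_lit 26, nat_lit 638, nat_lit 22, nat_lit 634], [], (nat_lit 338), ⟨[nat_lit 5, nat_lit 67], [nat_lit 0, nat_lit 12, nat_lit 49], ⟨[nat_lit 0x554282a5d133d7015a7221c776b280], [nat_lit 175104, nat_lit 168448, nat_lit 166656, nat_lit 163328, nat_lit 159616, nat_lit 152896, nat_lit 148736, nat_lit 145376, nat_lit 141664, nat_lit 137302, nat_lit 132887, nat_lit 1478, nat_lit 5604, nat_lit 9488, nat_lit 13552, nat_lit 17824, nat_lit 20736, nat_lit 25344, nat_lit 28928, nat_lit 41099, nat_lit 37254, nat_lit 32802, nat_lit 29308, nat_lit 24728, nat_lit 20482, nat_lit 16527, nat_lit 12293, nat_lit 8201]⟩⟩⟩]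
theorem rQ24 : Suf yT 2048 vQ [yT.get 46] 0 := Suf.seg (l := l768) (by decide +kernel) s769


end

end CF.Mon.Tr
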