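import Cfsg.Agent.Mon.Y2M
import Cfsg.Agent.Mon.Y2N
import Cfsg.Agent.Mon.Y2C0
import Cfsg.Agent.Mon.Y2C1

set_option autoImplicit false
set_option maxRecDepth 1000000
set_option maxHeartbeats 0
set_option Elab.async false

namespace CF.Dce.E6
open CF.Comp

noncomputable def cF : BT Fc := (BT.node (nat_lit 448) (BT.node (nat_lit 224) (BT.node (nat_lit 96) (BT.node (nat_lit 32) cF0 (BT.node (nat_lit 64) cF32 cF64)) (BT.node (nat_lit 160) (BT.node (nat_lit 128) cF96 cF128) (BT.node (nat_lit 192) cF160 cF192))) (BT.node (nat_lit 320) (BT.node (nat_lit 256) cF224 (BT.node (nat_lit 288) cF256 cF288)) (BT.node (nat_lit 384) (BT.node (nat_lit 352) cF320 cF352) (BT.node (nat_lit 416) cF384 cF416)))) (BT.node (nat_lit 672) (BT.node (nat_lit 544) (BT.node (nat_lit 480) cF448 (BT.node (nat_lit 512) cF480 cF512)) (BT.node (nat_lit 608) (BT.node (nat_lit 576) cF544 cF576) (BT.node (nat_lit 640) cF608 cF640))) (BT.node (nat_lit 768) (BT.node (nat_lit 704) cF672 (BT.node (nat_lit 736) cF704 cF736)) (BT.node (nat_lit 832) (BT.node (nat_lit 800) cF768 cF800) (BT.node (nat_lit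 864) cF832 cF864)))))
noncomputable def cP : BT Pf := (BT.node (nat_lit 448) (BT.node (nat_lit 224) (BT.node (nat_lit 96) (BT.node (nat_lit 32) cP0 (BT.node (nat_lit 64) cP32 cP64)) (BT.node (nat_lit 160) (BT.node (nat_lit 128) cP96 cP128) (BT.node (nat_lit 192) cP160 cP192))) (BT.node (nat_lit 320) (BT.node (nat_lit 256) cP224 (BT.node (nat_lit 288) cP256 cP288)) (BT.node (nat_lit 384) (BT.node (nat_lit 352) cP320 cP352) (BT.node (nat_lit 416) cP384 cP416)))) (BT.node (nat_lit 672) (BT.node (nat_lit 544) (BT.node (nat_lit 480) cP448 (BT.node (nat_lit 512) cP480 cP512)) (BT.node (nat_lit 608) (BT.node (nat_lit 576) cP544 cP576) (BT.node (nat_lit 640) cP608 cP640))) (BT.node (nat_lit 768) (BT.node (nat_lit 704) cP672 (BT.node (nat_lit 736) cP704 cP736)) (BT.node (nat_lit 832) (BT.node (nat_lit 800) cP768 cP800) (BT.node (nat_lit 864) cP832 cP864)))))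
noncomputable def cnd : BT Nat := (BT.node (nat_lit 7) (BT.node (nat_lit 3) (BT.node (nat_lit 1) (BT.leaf (nat_lit 0)) (BT.node (nat_lit 2) (BT.leaf (nat_lit 8)) (BT.leaf (nat_lit 24)))) (BT.node (nat_lit 5) (BT.node (nat_lit 4) (BT.leaf (nat_lit 44)) (BT.leaf (nat_lit 77))) (BT.node (nat_lit 6) (BT.leaf (nat_lit 169)) (BT.leaf (nat_lit 211))))) (BT.node (nat_lit 10) (BT.node (nat_lit 8) (BT.leaf (nat_lit 260)) (BT.node (nat_lit 9) (BT.leaf (nat_lit 296)) (BT.leaf (nat_lit 335)))) (BT.node (nat_lit 12) (BT.node (nat_lit 11) (BT.leaf (nat_lit 357)) (BT.leaf (nat_lit 366))) (BT.node (nat_lit 13) (BT.leaf (nat_lit 436)) (BT.leaf (nat_lit 563))))))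
noncomputable def cR : List (List Nat) := [[(nat_lit 0x80000000000000000001000000000000000000020000000000000000000400000000000000000008000000000000000000500000000000000000002000000000000000000040000000000000000000800000000000000000210000000000000000001200000000000000003024000000000000000000080000000000000000001000000000000000019020000000000000002801400000000000000000008000000000000001a2110000000000000008208a0000000000000016a224000000000000002b0c8800000000000003ee32100000000000000000002000000000000000000040000000000000000000800000000000000000010000000000000000000200000000000000000004000000000000000000080000000000000000001000000000000e20003b01110000000038a32007226100000000000000008000000000030000080104000000000f38c8040a180000000000000000040000000000000000000800000000000000000010000000000108000c405020100000000000000040000000000000000000800000000380000d80050000000000000000400200000000388000ec844000000000000000000008000000038a320076260000000000000000000020000000180200ca01420204000013088328818a040800010000080200010000000238c82448080200000000000000020004000000000000000000080000000000000000001000000f080026c99020c004000420003101c080000000600003200180008000000a320c92220001000008000020000020020000180200ca01424200000013088328818a840000024e300be07620300010050000204880000020001cc3201020208000400080000100000004008003c20009b2640838000007080036c0002000020020a320d8220000000400730880208082040008024e300be07620301000080800100800204000201c20009b22408100004073088260800004000081c61005202200100001060000268090004000021c6100c30200810000046000016c0102000000086e320da004000000001),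 (nat_lit 0x80000000000000000001000000000000000000020000000000000000000400000000000000000008000000000000000000500000000000000000002000000000000000000040000000000000000000800000000000000000210000000000000000001200000000000000003024000000000000000000080000000000000000001000000000000000019020000000000000002801400000000000000000008000000000000001a2110000000000000008208a0000000000000016a224000000000000002b0c8800000000000003ee32100000000000000000002000000000000000000040000000000000000000800000000000000000010000000000000000000200000000000000000004000000000000000000080000000000000000001000000000000e20003b01110000000038a32007226100000000000000008000000000030000080104000000000f38c8040a180000000000000000040000000000000000000800000000000000000010000000000108000c405020100000000000000040000000000000000000800000000380000d80050000000000000000400200000000388000ec844000000000000000000008000000038a320076260000000000000000000020000000180200ca01420204000013088328818a040800010000080200010000000238c82448080200000000000000020004000000000000000000080000000000000000001000000f080026c99020c004000420003101c080000000600003200180008000000a320c92220001000008000020000020020000180200ca01424200000013088328818a840000024e300be07620300010050000204880000020001cc3201020208000400080000100000004008003c20009b2640838000007080036c0002000020020a320d8220000000400730880208082040008024e300be07620301000080800100800204000201c20009b22408100004073088260800004000081c61005202200100001060000268090004000021c6100c30200810000046000016c0102000000086e320da004000000001),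 (nat_lit 0x80000000000000000001000000000000000000020000000000000000000400000000000000000008000000000000000000500000000000000000002000000000000000000040000000000000000000800000000000000000210000000000000000001200000000000000003024000000000000000000080000000000000000001000000000000000019020000000000000002801400000000000000000008000000000000001a2110000000000000008208a0000000000000016a224000000000000002b0c8800000000000003ee32100000000000000000002000000000000000000040000000000000000000800000000000000000010000000000000000000200000000000000000004000000000000000000080000000000000000001000000000000e20003b01110000000038a32007226100000000000000008000000000030000080104000000000f38c8040a180000000000000000040000000000000000000800000000000000000010000000000108000c405020100000000000000040000000000000000000800000000380000d80050000000000000000400200000000388000ec844000000000000000000008000000038a320076260000000000000000000020000000180200ca01420204000013088328818a040800010000080200010000000238c82448080200000000000000020004000000000000000000080000000000000000001000000f080026c99020c004000420003101c080000000600003200180008000000a320c92220001000008000020000020020000180200ca01424200000013088328818a840000024e300be07620300010050000204880000020001cc3201020208000400080000100000004008003c20009b2640838000007080036c0002000020020a320d8220000000400730880208082040008024e300be07620301000080800100800204000201c20009b22408100004073088260800004000081c61005202200100001060000268090004000021c6100c30200810000046000016c0102000000086e320da004000000001),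 (nat_lit 0x80000000000000000001000000000000000000020000000000000000000400000000000000000008000000000000000000500000000000000000002000000000000000000040000000000000000000800000000000000000210000000000000000001200000000000000003024000000000000000000080000000000000000001000000000000000019020000000000000002801400000000000000000008000000000000001a2110000000000000008208a0000000000000016a224000000000000002b0c8800000000000003ee32100000000000000000002000000000000000000040000000000000000000800000000000000000010000000000000000000200000000000000000004000000000000000000080000000000000000001000000000000e20003b01110000000038a32007226100000000000000008000000000030000080104000000000f38c8040a180000000000000000040000000000000000000800000000000000000010000000000108000c405020100000000000000040000000000000000000800000000380000d80050000000000000000400200000000388000ec844000000000000000000008000000038a320076260000000000000000000020000000180200ca01420204000013088328818a040800010000080200010000000238c82448080200000000000000020004000000000000000000080000000000000000001000000f080026c99020c004000420003101c080000000600003200180008000000a320c92220001000008000020000020020000180200ca01424200000013088328818a840000024e300be07620300010050000204880000020001cc3201020208000400080000100000004008003c20009b2640838000007080036c0002000020020a320d8220000000400730880208082040008024e300be07620301000080800100800204000201c20009b22408100004073088260800004000081c61005202200100001060000268090004000021c6100c30200810000046000016c0102000000086e320da004000000001)]]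
noncomputable def cnds0 : Nd := ⟨(nat_lit 1), (nat_lit 641), [((nat_lit 10), [(nat_lit 1)]), ((nat_lit 11), [(nat_lit 3)]), ((nat_lit 12), [(nat_lit 5)]), ((nat_lit 13), [(nat_lit 7)]), ((nat_lit 14), [(nat_lit 15)]), ((nat_lit 15), [(nat_lit 17)]), ((nat_lit 16), [(nat_lit 9)]), ((nat_lit 17), [(nat_lit 11)])], (nat_lit 8)⟩
noncomputable def cnds1 : Nd := ⟨(nat_lit 2), (nat_lit 658), [((nat_lit 37), [(nat_lit 13)]), ((nat_lit 39), [(nat_lit 5), (nat_lit 3)]), ((nat_lit 659), [(nat_lit 11), (nat_lit 9)]), ((nat_lit 660), [(nat_lit 7), (nat_lit 3)]), ((nat_lit 661), [(nat_lit 1), (nat_lit 15)])], (nat_lit 9)⟩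
noncomputable def cnds2 : Nd := ⟨(nat_lit 3), (nat_lit 686), [((nat_lit 687), [(nat_lit 7), (nat_lit 9), (nat_lit 5), (nat_lit 7), (nat_lit 15), (nat_lit 11), (nat_lit 13), (nat_lit 9), (nat_lit 11), (nat_lit 7), (nat_lit 9), (nat_lit 5), (nat_lit 7), (nat_lit 15), (nat_lit 17), (nat_lit 15), (nat_lit 7), (nat_lit 9), (nat_lit 5), (nat_lit 7), (nat_lit 15), (nat_lit 3), (nat_lit 5), (nat_lit 7), (nat_lit 9), (nat_lit 11), (nat_lit 13), (nat_lit 5)]), ((nat_lit 688), [(nat_lit 1), (nat_lit 3), (nat_lit 5), (nat_lit 7), (nat_lit 15), (nat_lit 17), (nat_lit 9), (nat_lit 7), (nat_lit 15), (nat_lit 11), (nat_lit 9), (nat_lit 7), (nat_lit 5), (nat_lit 3), (nat_lit 1), (nat_lit 11), (nat_lit 7), (nat_lit 9), (nat_lit 5), (nat_lit 7), (nat_lit 15), (nat_lit 17), (nat_lit 7), (nat_lit 15), (nat_lit 5), (nat_lit 7), (nat_lit 9), (nat_lit 7), (nat_lit 15), (nat_lit 5), (nat_lit 7)])], (nat_lit 11)⟩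
noncomputable def cnds3 : Nd := ⟨(nat_lit 4), (nat_lit 706), [((nat_lit 707), [(nat_lit 15), (nat_lit 7)]), ((nat_lit 708), [(nat_lit 1), (nat_lit 17)]), ((nat_lit 709), [(nat_lit 5), (nat_lit 7), (nat_lit 9), (nat_lit 11), (nat_lit 13), (nat_lit 15), (nat_lit 7), (nat_lit 9), (nat_lit 11), (nat_lit 5), (nat_lit 7), (nat_lit 9), (nat_lit 15), (nat_lit 7), (nat_lit 5), (nat_lit 3)])], (nat_lit 9)⟩
noncomputable def cnds4 : Nd := ⟨(nat_lit 5), (nat_lit 743), [((nat_lit 744), [(nat_lit 9), (nat_lit 11), (nat_lit 13), (nat_lit 9), (nat_lit 7), (nat_lit 15), (nat_lit 17), (nat_lit 11), (nat_lit 7), (nat_lit 9), (nat_lit 15), (nat_lit 3), (nat_lit 5)]), ((nat_lit 745), [(nat_lit 5), (nat_lit 7), (nat_lit 15), (nat_lit 17), (nat_lit 9), (nat_lit 7), (nat_lit 15), (nat_lit 11), (nat_lit 5), (nat_lit 7), (nat_lit 9), (nat_lit 7), (nat_lit 15), (nat_lit 7)])], (nat_lit 12)⟩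
noncomputable def cnds5 : Nd := ⟨(nat_lit 6), (nat_lit 769), [((nat_lit 770), [(nat_lit 13), (nat_lit 11), (nat_lit 9), (nat_lit 7), (nat_lit 5), (nat_lit 3), (nat_lit 1), (nat_lit 15), (nat_lit 7), (nat_lit 9), (nat_lit 3), (nat_lit 5), (nat_lit 7), (nat_lit 15), (nat_lit 17), (nat_lit 3), (nat_lit 5), (nat_lit 7), (nat_lit 9), (nat_lit 7), (nat_lit 15), (nat_lit 7)]), ((nat_lit 771), [(nat_lit 17), (nat_lit 11), (nat_lit 9), (nat_lit 7), (nat_lit 15), (nat_lit 3), (nat_lit 5), (nat_lit 7), (nat_lit 9), (nat_lit 11), (nat_lit 13), (nat_lit 11), (nat_lit 9), (nat_lit 7), (nat_lit 15), (nat_lit 7), (nat_lit 9), (nat_lit 11), (nat_lit 5), (nat_lit 7), (nat_lit 9), (nat_lit 7), (nat_lit 3), (nat_lit 5), (nat_lit 3)])], (nat_lit 11)⟩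
noncomputable def cnds6 : Nd := ⟨(nat_lit 7), (nat_lit 797), [((nat_lit 798), [(nat_lit 13), (nat_lit 7), (nat_lit 15), (nat_lit 5), (nat_lit 7), (nat_lit 5)]), ((nat_lit 799), [(nat_lit 3), (nat_lit 5), (nat_lit 7), (nat_lit 15), (nat_lit 9), (nat_lit 11), (nat_lit 7), (nat_lit 9), (nat_lit 5), (nat_lit 7), (nat_lit 15), (nat_lit 11), (nat_lit 3), (nat_lit 5), (nat_lit 7), (nat_lit 9), (nat_lit 11)]), ((nat_lit 800), [(nat_lit 11), (nat_lit 9), (nat_lit 7), (nat_lit 15), (nat_lit 17), (nat_lit 5), (nat_lit 7), (nat_lit 15), (nat_lit 9), (nat_lit 7), (nat_lit 5), (nat_lit 3), (nat_lit 1), (nat_lit 11), (nat_lit 9), (nat_lit 7), (nat_lit 15), (nat_lit 17), (nat_lit 5), (nat_lit 7), (nat_lit 9), (nat_lit 3), (nat_lit 5), (nat_lit 7)])], (nat_lit 7)⟩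
noncomputable def cnds7 : Nd := ⟨(nat_lit 8), (nat_lit 806), [((nat_lit 807), [(nat_lit 11), (nat_lit 13), (nat_lit 11), (nat_lit 9), (nat_lit 7), (nat_lit 5), (nat_lit 3), (nat_lit 1), (nat_lit 15), (nat_lit 11), (nat_lit 7), (nat_lit 9), (nat_lit 5), (nat_lit 7), (nat_lit 15), (nat_lit 3), (nat_lit 5), (nat_lit 7), (nat_lit 9)]), ((nat_lit 299), [(nat_lit 15), (nat_lit 17), (nat_lit 7), (nat_lit 15), (nat_lit 9), (nat_lit 7), (nat_lit 5), (nat_lit 3), (nat_lit 1), (nat_lit 9), (nat_lit 7), (nat_lit 15), (nat_lit 17), (nat_lit 7), (nat_lit 15), (nat_lit 3), (nat_lit 5), (nat_lit 7), (nat_lit 9), (nat_lit 3), (nat_lit 5), (nat_lit 7), (nat_lit 15), (nat_lit 3)])], (nat_lit 12)⟩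
noncomputable def cnds8 : Nd := ⟨(nat_lit 9), (nat_lit 809), [((nat_lit 810), [(nat_lit 7), (nat_lit 15), (nat_lit 17), (nat_lit 15), (nat_lit 7), (nat_lit 3)]), ((nat_lit 811), [(nat_lit 9), (nat_lit 3), (nat_lit 5), (nat_lit 7), (nat_lit 15), (nat_lit 17), (nat_lit 7), (nat_lit 9), (nat_lit 3), (nat_lit 5), (nat_lit 7), (nat_lit 15), (nat_lit 11), (nat_lit 9), (nat_lit 7), (nat_lit 5), (nat_lit 3), (nat_lit 1), (nat_lit 17), (nat_lit 7), (nat_lit 15), (nat_lit 9), (nat_lit 11), (nat_lit 7), (nat_lit 9), (nat_lit 7), (nat_lit 15), (nat_lit 7), (nat_lit 5), (nat_lit 3)]), ((nat_lit 812), [(nat_lit 17), (nat_lit 15), (nat_lit 3), (nat_lit 5), (nat_lit 7), (nat_lit 9), (nat_lit 11), (nat_lit 13), (nat_lit 3), (nat_lit 5), (nat_lit 7), (nat_lit 15), (nat_lit 9), (nat_lit 11), (nat_lit 7), (nat_lit 9), (nat_lit 5), (nat_lit 7), (nat_lit 15), (nat_lit 17), (nat_lit 7), (nat_lit 9), (nat_lit 11), (nat_lit 5), (nat_lit 7), (nat_lit 9), (nat_lit 7), (nat_lit 15), (nat_lit 3), (nat_lit 5), (nat_lit 3)])], (nat_lit 8)⟩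
noncomputable def cnds9 : Nd := ⟨(nat_lit 10), (nat_lit 825), [((nat_lit 826), [(nat_lit 13), (nat_lit 9), (nat_lit 7), (nat_lit 5), (nat_lit 3), (nat_lit 1), (nat_lit 9), (nat_lit 11), (nat_lit 5), (nat_lit 7), (nat_lit 9), (nat_lit 11), (nat_lit 7), (nat_lit 3), (nat_lit 5), (nat_lit 3)]), ((nat_lit 827), [(nat_lit 7), (nat_lit 5), (nat_lit 3), (nat_lit 1), (nat_lit 15), (nat_lit 7), (nat_lit 9), (nat_lit 5), (nat_lit 7), (nat_lit 15), (nat_lit 17), (nat_lit 11), (nat_lit 7), (nat_lit 9), (nat_lit 11), (nat_lit 15), (nat_lit 3), (nat_lit 5), (nat_lit 7), (nat_lit 5)])], (nat_lit 12)⟩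
noncomputable def cnds10 : Nd := ⟨(nat_lit 11), (nat_lit 836), [((nat_lit 837), [(nat_lit 5), (nat_lit 7), (nat_lit 15), (nat_lit 7), (nat_lit 9), (nat_lit 11), (nat_lit 5), (nat_lit 7), (nat_lit 9), (nat_lit 5), (nat_lit 7), (nat_lit 15), (nat_lit 7), (nat_lit 5)]), ((nat_lit 838), [(nat_lit 11), (nat_lit 9), (nat_lit 7), (nat_lit 15), (nat_lit 17), (nat_lit 13), (nat_lit 11), (nat_lit 9), (nat_lit 5), (nat_lit 7), (nat_lit 15), (nat_lit 1), (nat_lit 3), (nat_lit 5), (nat_lit 7), (nat_lit 9), (nat_lit 11), (nat_lit 13), (nat_lit 1), (nat_lit 11), (nat_lit 9), (nat_lit 5), (nat_lit 7), (nat_lit 15), (nat_lit 17), (nat_lit 3), (nat_lit 5), (nat_lit 7), (nat_lit 15), (nat_lit 7)])], (nat_lit 18)⟩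
noncomputable def cnds11 : Nd := ⟨(nat_lit 12), (nat_lit 859), [((nat_lit 450), [(nat_lit 15), (nat_lit 17), (nat_lit 7), (nat_lit 15), (nat_lit 9), (nat_lit 11), (nat_lit 5), (nat_lit 7), (nat_lit 9), (nat_lit 3), (nat_lit 5), (nat_lit 7), (nat_lit 15), (nat_lit 17), (nat_lit 11), (nat_lit 9), (nat_lit 3), (nat_lit 5), (nat_lit 7), (nat_lit 15), (nat_lit 7)]), ((nat_lit 860), [(nat_lit 7), (nat_lit 15), (nat_lit 17), (nat_lit 13), (nat_lit 11), (nat_lit 9), (nat_lit 7), (nat_lit 15), (nat_lit 1), (nat_lit 3), (nat_lit 5), (nat_lit 7), (nat_lit 9), (nat_lit 11), (nat_lit 13), (nat_lit 17), (nat_lit 15), (nat_lit 11), (nat_lit 9), (nat_lit 7), (nat_lit 5), (nat_lit 3), (nat_lit 1), (nat_lit 15), (nat_lit 17), (nat_lit 7), (nat_lit 9), (nat_lit 11), (nat_lit 15), (nat_lit 5), (nat_lit 7)])], (nat_lit 16)⟩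
noncomputable def cnds12 : Nd := ⟨(nat_lit 13), (nat_lit 879), [((nat_lit 880), [(nat_lit 15), (nat_lit 7), (nat_lit 9), (nat_lit 5), (nat_lit 7), (nat_lit 15), (nat_lit 17), (nat_lit 7), (nat_lit 9), (nat_lit 11), (nat_lit 5), (nat_lit 7), (nat_lit 9), (nat_lit 3), (nat_lit 5), (nat_lit 7), (nat_lit 3), (nat_lit 5), (nat_lit 3)]), ((nat_lit 881), [(nat_lit 15), (nat_lit 17), (nat_lit 7), (nat_lit 9), (nat_lit 5), (nat_lit 7), (nat_lit 15), (nat_lit 3), (nat_lit 5), (nat_lit 7), (nat_lit 9), (nat_lit 11), (nat_lit 13), (nat_lit 15), (nat_lit 7), (nat_lit 5), (nat_lit 3), (nat_lit 1), (nat_lit 9), (nat_lit 7), (nat_lit 15), (nat_lit 17), (nat_lit 11), (nat_lit 5), (nat_lit 7), (nat_lit 9), (nat_lit 15)])], (nat_lit 12)⟩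
noncomputable def cnds : List Nd := [cnds0, cnds1, cnds2, cnds3, cnds4, cnds5, cnds6, cnds7, cnds8, cnds9, cnds10, cnds11, cnds12]
noncomputable def cA : Alg := ⟨mu, e78, fun _ => true, fun _ _ => nat_lit 0, nat_lit 0, fun _ => true, fun _ => nat_lit 0, e78,
  nth (nat_lit 0) L78, (nat_lit 174762), fun x => mapW NT [x], (nat_lit 16383)⟩
noncomputable def ck : Nat → Bool := chkAt cA cF.get cP.get (bsOf cA Ns []) (nth [] cR) cnd.get

end CF.Dce.E6
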