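import Cfsg.Agent.Comp.Real
import Cfsg.Agent.Comp.Fi22.Main
import Cfsg.Agent.Mon.Y2C
import Cfsg.Agent.Mon.Y2OD

/-! Lower bounds for the orders of thirteen subgroups of `Fi22`. -/

set_option autoImplicit false
set_option maxRecDepth 1000000
set_option maxHeartbeats 0
set_option Elab.async false

namespace CF.Dce.E6
open CF.Comp

theorem le_card {ν : Net} {N0 N1 : List Net} {n k m s : ℕ} {W ws : List (List ℕ)} {c : List Lvl}
    (h : ChainGe N0 N1 n k m W c s) (h1 : wfAll [ν] 3510 = true) (h2 : n ≤ 3510)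
    (h3 : subOK Fi22.N0 N0 ν ws n k = true) (h4 : ws.length = m) : s ≤ Nat.card (clo Fi22.f0 ws) :=
  h.le_card (Fi22.reps0.sub_of_OK h1 h2 h.le h3) (fun _ hi => evs_eq_one (h4 ▸ hi))
    (evs_mem fun _ => ev_mem_clo _)

theorem ch0 : ChainGe o00 o01 351 9 8 o0W o0C 4585351680 :=
  ⟨rfl, by decide, by decide, slp_of_slpOK (by decide +kernel), by decide +kernel, by decide +kernel,
    by decide +kernel⟩
theorem ord0 : 4585351680 ≤ Nat.card (clo Fi22.f0 cnds0.ws) :=
  le_card (ν := o0v) ch0 (by decide +kernel) (by decide) (by decide +kernel) rfl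
theorem ch1 : ChainGe o10 o11 126 7 5 o1W o1C 92897280 :=
  ⟨rfl, by decide, by decide, slp_of_slpOK (by decide +kernel), by decide +kernel, by decide +kernel,
    by decide +kernel⟩
theorem ord1 : 92897280 ≤ Nat.card (clo Fi22.f0 cnds1.ws) :=
  le_card (ν := o1v) ch1 (by decide +kernel) (by decide) (by decide +kernel) rfl
theorem ch2 : ChainGe o20 o21 1296 11 2 o2W o2C 1679616 :=
  ⟨rfl, by decide, by decide, slp_of_slpOK (by decide +kernel), by decide +kernel, by decide +kernel,
    by decide +kernel⟩
theorem ord2 : 1679616 ≤ Nat.card (clo Fi22.f0 cnds2.ws) :=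
  le_card (ν := o2v) ch2 (by decide +kernel) (by decide) (by decide +kernel) rfl
theorem ch3 : ChainGe o30 o31 45 6 3 o3W o3C 3628800 :=
  ⟨rfl, by decide, by decide, slp_of_slpOK (by decide +kernel), by decide +kernel, by decide +kernel,
    by decide +kernel⟩
theorem ord3 : 3628800 ≤ Nat.card (clo Fi22.f0 cnds3.ws) :=
  le_card (ν := o3v) ch3 (by decide +kernel) (by decide) (by decide +kernel) rfl
theorem ch4 : ChainGe o40 o41 351 9 2 o4W o4C 4245696 :=
  ⟨rfl, by decide, by decide, slp_of_slpOK (by decide +kernel), by decide +kernel, by decide +kernel,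
    by decide +kernel⟩
theorem ord4 : 4245696 ≤ Nat.card (clo Fi22.f0 cnds4.ws) :=
  le_card (ν := o4v) ch4 (by decide +kernel) (by decide) (by decide +kernel) rfl
theorem ch5 : ChainGe o50 o51 144 8 2 o5W o5C 95040 :=
  ⟨rfl, by decide, by decide, slp_of_slpOK (by decide +kernel), by decide +kernel, by decide +kernel,
    by decide +kernel⟩
theorem ord5 : 95040 ≤ Nat.card (clo Fi22.f0 cnds5.ws) :=
  le_card (ν := o5v) ch5 (by decide +kernel) (by decide) (by decide +kernel) rfl
theorem ch6 : ChainGe o60 o61 64 6 3 o6W o6C 161280 :=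
  ⟨rfl, by decide, by decide, slp_of_slpOK (by decide +kernel), by decide +kernel, by decide +kernel,
    by decide +kernel⟩
theorem ord6 : 161280 ≤ Nat.card (clo Fi22.f0 cnds6.ws) :=
  le_card (ν := o6v) ch6 (by decide +kernel) (by decide) (by decide +kernel) rfl
theorem ch7 : ChainGe o70 o71 1024 10 2 o7W o7C 454164480 :=
  ⟨rfl, by decide, by decide, slp_of_slpOK (by decide +kernel), by decide +kernel, by decide +kernel,
    by decide +kernel⟩
theorem ord7 : 454164480 ≤ Nat.card (clo Fi22.f0 cnds7.ws) :=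
  le_card (ν := o7v) ch7 (by decide +kernel) (by decide) (by decide +kernel) rfl
theorem ch8 : ChainGe o80 o81 3510 12 3 o8W o8C 17971200 :=
  ⟨rfl, by decide, by decide, slp_of_slpOK (by decide +kernel), by decide +kernel, by decide +kernel,
    by decide +kernel⟩
theorem ord8 : 17971200 ≤ Nat.card (clo Fi22.f0 cnds8.ws) :=
  le_card (ν := o8v) ch8 (by decide +kernel) (by decide) (by decide +kernel) rfl
theorem ch9 : ChainGe o90 o91 126 7 2 o9W o9C 387072 :=
  ⟨rfl, by decide, by decide, slp_of_slpOK (by decide +kernel), by decide +kernel, by decide +kernel,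
    by decide +kernel⟩
theorem ord9 : 387072 ≤ Nat.card (clo Fi22.f0 cnds9.ws) :=
  le_card (ν := o9v) ch9 (by decide +kernel) (by decide) (by decide +kernel) rfl
theorem ch10 : ChainGe o100 o101 64 6 2 o10W o10C 368640 :=
  ⟨rfl, by decide, by decide, slp_of_slpOK (by decide +kernel), by decide +kernel, by decide +kernel,
    by decide +kernel⟩
theorem ord10 : 368640 ≤ Nat.card (clo Fi22.f0 cnds10.ws) :=
  le_card (ν := o10v) ch10 (by decide +kernel) (by decide) (by decide +kernel) rfl
theorem ch11 : ChainGe o110 o111 112 7 2 o11W o11C 80640 :=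
  ⟨rfl, by decide, by decide, slp_of_slpOK (by decide +kernel), by decide +kernel, by decide +kernel,
    by decide +kernel⟩
theorem ord11 : 80640 ≤ Nat.card (clo Fi22.f0 cnds11.ws) :=
  le_card (ν := o11v) ch11 (by decide +kernel) (by decide) (by decide +kernel) rfl
theorem ch12 : ChainGe o120 o121 352 9 2 o12W o12C 887040 :=
  ⟨rfl, by decide, by decide, slp_of_slpOK (by decide +kernel), by decide +kernel, by decide +kernel,
    by decide +kernel⟩
theorem ord12 : 887040 ≤ Nat.card (clo Fi22.f0 cnds12.ws) :=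
  le_card (ν := o12v) ch12 (by decide +kernel) (by decide) (by decide +kernel) rfl

end CF.Dce.E6
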