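import Cfsg.Agent.Mon.thD

set_option autoImplicit false
set_option maxRecDepth 100000

namespace CF.Mon.Tr

open CF.Comp

noncomputable section

def pth70 : AP := ⟨[nat_lit 225, nat_lit 263, nat_lit 260, nat_lit 223], [], (nat_lit 612), ⟨[nat_lit 43, nat_lit 91], [nat_lit 12, nat_lit 67], ⟨[nat_lit 0x13d7489af5382436ba650d94c24128], [nat_lit 175104, nat_lit 168960, nat_lit 164352, nat_lit 161664, nat_lit 156160, nat_lit 153024, nat_lit 147680, nat_lit 144288, nat_lit 140448, nat_lit 136824, nat_lit 131208, nat_lit 2018, nat_lit 4548, nat_lit 9432, nat_lit 12512, nat_lit 17408, nat_lit 21504, nat_lit 24960, nat_lit 28928, nat_lit 33792, nat_lit 41159, nat_lit 37075, nat_lit 32896, nat_lit 29041, nat_lit 24752, nat_lit 16394, nat_lit 12306, nat_lit 9219, nat_lit 64]⟩⟩⟩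
def pth71 : AP := ⟨[nat_lit 263, nat_lit 233, nat_lit 223, nat_lit 227], [], (nat_lit 512), ⟨[nat_lit 31, nat_lit 91], [nat_lit 0, nat_lit 8, nat_lit 54], ⟨[nat_lit 0x410f51dc2a7c8c26c405b4d70a392c], [nat_lit 174080, nat_lit 169472, nat_lit 165632, nat_lit 161664, nat_lit 159616, nat_lit 154144, nat_lit 151152, nat_lit 144744, nat_lit 142160, nat_lit 136840, nat_lit 134070, nat_lit 1354, nat_lit 4720, nat_lit 10128, nat_lit 13552, nat_lit 18176, nat_lit 20544, nat_lit 26112, nat_lit 29696, nat_lit 41466, nat_lit 37213, nat_lit 33458, nat_lit 29018, nat_lit 24873, nat_lit 20502, nat_lit 16425, nat_lit 12295, nat_lit 8200, nat_lit 4100]⟩⟩⟩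
def lth72 : List AP := [⟨[nat_lit 224, nat_lit 666], [], (nat_lit 1120), ⟨[nat_lit 6, nat_lit 68], [nat_lit 0, nat_lit 36, nat_lit 48], ⟨[nat_lit 0x7d970024ea14cd27048d1d4b4432f1], [nat_lit 174080, nat_lit 167424, nat_lit 163456, nat_lit 158016, nat_lit 152576, nat_lit 148560, nat_lit 144080, nat_lit 141444, nat_lit 137482, nat_lit 131889, nat_lit 1652, nat_lit 6084, nat_lit 9168, nat_lit 13968, nat_lit 18272, nat_lit 22208, nat_lit 25088, nat_lit 29184, nat_lit 33280, nat_lit 37888, nat_lit 41201, nat_lit 37037, nat_lit 32779, nat_lit 28674, nat_lit 24609, nat_lit 20547, nat_lit 17411, nat_lit 12545, nat_lit 8705, nat_lit 4097, nat_lit 2]⟩⟩⟩,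
  ⟨[], [], (nat_lit 151), ⟨[nat_lit 8, nat_lit 93], [nat_lit 27, nat_lit 62], ⟨[nat_lit 0x5bc32145c8250c5b9ed548e0c9814d], [nat_lit 171520, nat_lit 165376, nat_lit 160384, nat_lit 156608, nat_lit 151648, nat_lit 147696, nat_lit 143528, nat_lit 139332, nat_lit 136018, nat_lit 132415, nat_lit 1004, nat_lit 5884, nat_lit 8680, nat_lit 12512, nat_lit 17440, nat_lit 20672, nat_lit 24832, nat_lit 30464, nat_lit 33280, nat_lit 37888, nat_lit 41512, nat_lit 38324, nat_lit 32979, nat_lit 28947, nat_lit 24704, nat_lit 21512, nat_lit 16641, nat_lit 12803, nat_lit 8193, nat_lit 4097]⟩⟩⟩,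
  ⟨[nat_lit 39, nat_lit 36], [], (nat_lit 1032), ⟨[nat_lit 24, nat_lit 56], [nat_lit 14, nat_lit 94], ⟨[nat_lit 0x5822e0a9901d4a2225163bdb735272], [nat_lit 175104, nat_lit 169984, nat_lit 165888, nat_lit 161664, nat_lit 155712, nat_lit 151680, nat_lit 151488, nat_lit 145184, nat_lit 139616, nat_lit 138014, nat_lit 134857, nat_lit 1810, nat_lit 5688, nat_lit 9592, nat_lit 14016, nat_lit 17216, nat_lit 21504, nat_lit 29696, nat_lit 33280, nat_lit 37888, nat_lit 41897, nat_lit 37974, nat_lit 33325, nat_lit 29036, nat_lit 24577, nat_lit 20627, nat_lit 16520, nat_lit 12324, nat_lit 8211, nat_lit 4112]⟩⟩⟩]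
theorem sth72 : Suf thT 19005990 (ldrop (lapp thwr8 [3, 0, 1]) 15) (apW dcM pth71) (tgtN dcM pth71.e) := Suf.fin' (l := lth72) (by decide +kernel)
def lth71 : List AP := [⟨[nat_lit 288, nat_lit 670, nat_lit 354, nat_lit 288], [], (nat_lit 1178), ⟨[nat_lit 7, nat_lit 94], [nat_lit 15, nat_lit 92], ⟨[nat_lit 0x39aa88386555233bb56c7905200536], [nat_lit 174080, nat_lit 170496, nat_lit 166656, nat_lit 163584, nat_lit 153600, nat_lit 151536, nat_lit 143544, nat_lit 141956, nat_lit 136200, nat_lit 131369, nat_lit 1292, nat_lit 4720, nat_lit 9664, nat_lit 12976, nat_lit 16992, nat_lit 21312, nat_lit 25856, nat_lit 33280, nat_lit 37888, nat_lit 41764, nat_lit 37324, nat_lit 32842, nat_lit 28752, nat_lit 24708, nat_lit 21520, nat_lit 16388, nat_lit 12289, nat_lit 8194]⟩⟩⟩,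
  ⟨[nat_lit 142, nat_lit 655, nat_lit 145, nat_lit 148, nat_lit 144, nat_lit 141], [], (nat_lit 476), ⟨[nat_lit 0, nat_lit 81, nat_lit 69], [nat_lit 24, nat_lit 53], ⟨[nat_lit 0x3cda1044cc455cf84ac91d04a592e5], [nat_lit 169984, nat_lit 165120, nat_lit 160128, nat_lit 156032, nat_lit 152128, nat_lit 147648, nat_lit 144352, nat_lit 139596, nat_lit 135816, nat_lit 132897, nat_lit 1268, nat_lit 4952, nat_lit 8360, nat_lit 13264, nat_lit 16896, nat_lit 20928, nat_lit 26240, nat_lit 29184, nat_lit 37888, nat_lit 41312, nat_lit 32886, nat_lit 28732, nat_lit 24872, nat_lit 20630, nat_lit 16391, nat_lit 12320, nat_lit 8211, nat_lit 4105, nat_lit 2]⟩⟩⟩]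
theorem sth71 : Suf thT 19005990 (ldrop (lapp thwr8 [3, 0, 1]) 7) (apW dcM pth70) (tgtN dcM pth70.e) := Suf.seg (l := lth71) (by decide +kernel) sth72
def lth70 : List AP := [⟨[nat_lit 14, nat_lit 40, nat_lit 43, nat_lit 633, nat_lit 631, nat_lit 37], [], (nat_lit 150), ⟨[nat_lit 26, nat_lit 47], [nat_lit 0, nat_lit 42, nat_lit 52], ⟨[nat_lit 0x48a37612d49a8753c24f42cad0182e], [nat_lit 173056, nat_lit 168960, nat_lit 165376, nat_lit 161280, nat_lit 155904, nat_lit 152704, nat_lit 151296, nat_lit 144720, nat_lit 141164, nat_lit 136018, nat_lit 132242, nat_lit 1972, nat_lit 4112, nat_lit 9136, nat_lit 12880, nat_lit 17408, nat_lit 21440, nat_lit 26496, nat_lit 29696, nat_lit 41354, nat_lit 37181, nat_lit 32872, nat_lit 28688, nat_lit 24624, nat_lit 20545, nat_lit 16393, nat_lit 12308, nat_lit 8201, nat_lit 8]⟩⟩⟩,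
  ⟨[nat_lit 105, nat_lit 76, nat_lit 106, nat_lit 77, nat_lit 77], [], (nat_lit 534), ⟨[nat_lit 75, nat_lit 90], [nat_lit 0, nat_lit 76, nat_lit 60], ⟨[nat_lit 0x40d6c118af045b2abac1226f354287], [nat_lit 174080, nat_lit 168448, nat_lit 164864, nat_lit 159872, nat_lit 157184, nat_lit 152768, nat_lit 147968, nat_lit 144144, nat_lit 140596, nat_lit 135210, nat_lit 131172, nat_lit 158, nat_lit 4380, nat_lit 10184, nat_lit 14112, nat_lit 18112, nat_lit 21504, nat_lit 25600, nat_lit 29440, nat_lit 33280, nat_lit 41786, nat_lit 38074, nat_lit 33430, nat_lit 28767, nat_lit 24584, nat_lit 20482, nat_lit 16385, nat_lit 12357, nat_lit 8201, nat_lit 4128]⟩⟩⟩]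
theorem thcr8_2 : Suf thT 19005990 (lapp thwr8 [3, 0, 1]) (iC3 :: apW dcM q0) (tgtN dcM q0.e) := Suf.seg (l := lth70) (by decide +kernel) sth71

def pth73 : AP := ⟨[nat_lit 655, nat_lit 139, nat_lit 656, nat_lit 143, nat_lit 139], [], (nat_lit 724), ⟨[nat_lit 0, nat_lit 88, nat_lit 56], [nat_lit 73, nat_lit 65], ⟨[nat_lit 0x199ae124aa882047c975622930dae7], [nat_lit 174080, nat_lit 169472, nat_lit 166656, nat_lit 162944, nat_lit 159040, nat_lit 151872, nat_lit 148896, nat_lit 144736, nat_lit 141428, nat_lit 137790, nat_lit 131389, nat_lit 344, nat_lit 4328, nat_lit 9928, nat_lit 13056, nat_lit 18112, nat_lit 21760, nat_lit 25856, nat_lit 30208, nat_lit 41190, nat_lit 37222, nat_lit 33299, nat_lit 28742, nat_lit 24581, nat_lit 20751, nat_lit 16385, nat_lit 12292, nat_lit 8195, nat_lit 4097]⟩⟩⟩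
def pth74 : AP := ⟨[nat_lit 288, nat_lit 671, nat_lit 285, nat_lit 285], [], (nat_lit 1150), ⟨[nat_lit 9, nat_lit 89], [nat_lit 18, nat_lit 61], ⟨[nat_lit 0x8068998ea824a2e01d827dae62b54b], [nat_lit 173056, nat_lit 168960, nat_lit 165632, nat_lit 160896, nat_lit 156032, nat_lit 152448, nat_lit 148768, nat_lit 145768, nat_lit 140632, nat_lit 135842, nat_lit 131675, nat_lit 1224, nat_lit 5072, nat_lit 9512, nat_lit 12416, nat_lit 18336, nat_lit 22016, nat_lit 26496, nat_lit 29696, nat_lit 33280, nat_lit 37888, nat_lit 41689, nat_lit 37331, nat_lit 32804, nat_lit 28733, nat_lit 25115, nat_lit 20619, nat_lit 16430, nat_lit 8193, nat_lit 4097, nat_lit 2]⟩⟩⟩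
def lth75 : List AP := [⟨[nat_lit 668, nat_lit 666, nat_lit 227, nat_lit 231], [], (nat_lit 488), ⟨[nat_lit 0, nat_lit 11, nat_lit 62], [nat_lit 0, nat_lit 24, nat_lit 69], ⟨[nat_lit 0x13a6a0c1e9292a7045a860d72bd8d4], [nat_lit 168448, nat_lit 165376, nat_lit 160768, nat_lit 159552, nat_lit 153280, nat_lit 148848, nat_lit 145280, nat_lit 140832, nat_lit 136800, nat_lit 131104, nat_lit 664, nat_lit 4488, nat_lit 9928, nat_lit 14144, nat_lit 16960, nat_lit 21504, nat_lit 25216, nat_lit 29184, nat_lit 41736, nat_lit 38368, nat_lit 32960, nat_lit 28754, nat_lit 24582, nat_lit 21003, nat_lit 16514, nat_lit 12805, nat_lit 8200, nat_lit 4129, nat_lit 4]⟩⟩⟩,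
  ⟨[], [], (nat_lit 1052), ⟨[nat_lit 0, nat_lit 84, nat_lit 58], [nat_lit 7, nat_lit 61], ⟨[nat_lit 0x7ad31aa067b8544315d0936d49b002], [nat_lit 173056, nat_lit 168448, nat_lit 166912, nat_lit 159872, nat_lit 156160, nat_lit 153120, nat_lit 147904, nat_lit 145008, nat_lit 140068, nat_lit 135274, nat_lit 132043, nat_lit 4, nat_lit 4408, nat_lit 8448, nat_lit 12480, nat_lit 17216, nat_lit 22400, nat_lit 25088, nat_lit 30208, nat_lit 33280, nat_lit 37888, nat_lit 41897, nat_lit 37320, nat_lit 32832, nat_lit 28733, nat_lit 24867, nat_lit 20547, nat_lit 16525, nat_lit 12422, nat_lit 8194, nat_lit 4101, nat_lit 2]⟩⟩⟩,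
  ⟨[], [], (nat_lit 1034), ⟨[nat_lit 72, nat_lit 61], [nat_lit 0, nat_lit 17, nat_lit 49], ⟨[nat_lit 0x848ef3002eb508c145372a1ab50eb3], [nat_lit 173056, nat_lit 164096, nat_lit 161024, nat_lit 157632, nat_lit 152064, nat_lit 147760, nat_lit 143496, nat_lit 140436, nat_lit 137056, nat_lit 133199, nat_lit 582, nat_lit 5856, nat_lit 9384, nat_lit 12576, nat_lit 17696, nat_lit 22336, nat_lit 24832, nat_lit 28928, nat_lit 33280, nat_lit 41583, nat_lit 38306, nat_lit 33297, nat_lit 28952, nat_lit 24627, nat_lit 20487, nat_lit 16389, nat_lit 12550, nat_lit 8195, nat_lit 4]⟩⟩⟩]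
theorem sth75 : Suf thT 2048 (ldrop (lapp thwr8 [1, 0, 1]) 15) (apW dcM pth74) (tgtN dcM pth74.e) := Suf.fin' (l := lth75) (by decide +kernel)
def lth74 : List AP := [⟨[nat_lit 673, nat_lit 293, nat_lit 290, nat_lit 285], [], (nat_lit 668), ⟨[nat_lit 0, nat_lit 44, nat_lit 53], [nat_lit 0, nat_lit 19, nat_lit 57], ⟨[nat_lit 0x2896ca4a30034ea205c94186fb5e75], [nat_lit 173056, nat_lit 169472, nat_lit 165632, nat_lit 160768, nat_lit 156608, nat_lit 151648, nat_lit 147856, nat_lit 144368, nat_lit 140288, nat_lit 135956, nat_lit 132980, nat_lit 1762, nat_lit 5688, nat_lit 9384, nat_lit 13568, nat_lit 17696, nat_lit 22144, nat_lit 28928, nat_lit 33792, nat_lit 33014, nat_lit 29054, nat_lit 20494, nat_lit 16654, nat_lit 12307, nat_lit 8195, nat_lit 4100]⟩⟩⟩,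
  ⟨[nat_lit 351, nat_lit 353, nat_lit 670, nat_lit 285, nat_lit 285], [], (nat_lit 1158), ⟨[nat_lit 0, nat_lit 42, nat_lit 68], [nat_lit 0, nat_lit 14, nat_lit 65], ⟨[nat_lit 0x41269834aea814fb8d8b11c31b4a86], [nat_lit 173056, nat_lit 166912, nat_lit 163328, nat_lit 159552, nat_lit 155360, nat_lit 148336, nat_lit 147296, nat_lit 143248, nat_lit 137204, nat_lit 134921, nat_lit 1516, nat_lit 5604, nat_lit 10064, nat_lit 12640, nat_lit 16544, nat_lit 21504, nat_lit 24704, nat_lit 29184, nat_lit 33280, nat_lit 37888, nat_lit 41286, nat_lit 36993, nat_lit 33865, nat_lit 29206, nat_lit 24613, nat_lit 20483, nat_lit 16518, nat_lit 12547, nat_lit 8201, nat_lit 4128]⟩⟩⟩]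
theorem sth74 : Suf thT 2048 (ldrop (lapp thwr8 [1, 0, 1]) 7) (apW dcM pth73) (tgtN dcM pth73.e) := Suf.seg (l := lth74) (by decide +kernel) sth75
def lth73 : List AP := [⟨[nat_lit 29, nat_lit 31, nat_lit 637, nat_lit 23, nat_lit 26, nat_lit 23], [], (nat_lit 338), ⟨[nat_lit 0, nat_lit 77, nat_lit 51], [nat_lit 34, nat_lit 53], ⟨[nat_lit 0x14540bda4b74da809eaf2160965066], [nat_lit 171008, nat_lit 163712, nat_lit 156608, nat_lit 154336, nat_lit 150736, nat_lit 146888, nat_lit 140052, nat_lit 136774, nat_lit 133747, nat_lit 1720, nat_lit 4404, nat_lit 8904, nat_lit 13312, nat_lit 16608, nat_lit 21056, nat_lit 26112, nat_lit 30208, nat_lit 33792, nat_lit 37888, nat_lit 41601, nat_lit 38016, nat_lit 32809, nat_lit 29760, nat_lit 24615, nat_lit 20575, nat_lit 16387, nat_lit 12291, nat_lit 8258, nat_lit 4104]⟩⟩⟩,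
  ⟨[nat_lit 218, nat_lit 180, nat_lit 661, nat_lit 213], [], (nat_lit 394), ⟨[nat_lit 0, nat_lit 83, nat_lit 50], [nat_lit 38, nat_lit 46], ⟨[nat_lit 0x8bca074c81a2968b26f5349a238d90], [nat_lit 171520, nat_lit 164608, nat_lit 160256, nat_lit 159168, nat_lit 151648, nat_lit 147520, nat_lit 145768, nat_lit 143216, nat_lit 137388, nat_lit 133966, nat_lit 526, nat_lit 4476, nat_lit 8200, nat_lit 13968, nat_lit 18112, nat_lit 21952, nat_lit 25344, nat_lit 29184, nat_lit 37888, nat_lit 41793, nat_lit 38352, nat_lit 33829, nat_lit 29191, nat_lit 24851, nat_lit 20498, nat_lit 16397, nat_lit 12309, nat_lit 8208, nat_lit 4097]⟩⟩⟩]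
theorem thcr8_3 : Suf thT 2048 (lapp thwr8 [1, 0, 1]) (apW dcM q1) (tgtN dcM q1.e) := Suf.seg (l := lth73) (by decide +kernel) sth74

def pth76 : AP := ⟨[nat_lit 352, nat_lit 355, nat_lit 290], [], (nat_lit 1132), ⟨[nat_lit 0, nat_lit 76, nat_lit 59], [nat_lit 25, nat_lit 67], ⟨[nat_lit 0x3ae644b9f250c113504c686e5ada08], [nat_lit 174080, nat_lit 169984, nat_lit 166144, nat_lit 162432, nat_lit 157056, nat_lit 155264, nat_lit 149856, nat_lit 145216, nat_lit 142948, nat_lit 137008, nat_lit 131581, nat_lit 952, nat_lit 5400, nat_lit 9904, nat_lit 12592, nat_lit 16512, nat_lit 21632, nat_lit 30208, nat_lit 33280, nat_lit 41390, nat_lit 37340, nat_lit 32786, nat_lit 29205, nat_lit 24717, nat_lit 21530, nat_lit 16416, nat_lit 12422, nat_lit 8193, nat_lit 4105, nat_lit 4]⟩⟩⟩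
def pth77 : AP := ⟨[nat_lit 259, nat_lit 224], [], (nat_lit 604), ⟨[nat_lit 31, nat_lit 55], [nat_lit 13, nat_lit 50], ⟨[nat_lit 0x226e15a9f161cd22d00868e029daae], [nat_lit 174080, nat_lit 169984, nat_lit 166400, nat_lit 160256, nat_lit 157568, nat_lit 153056, nat_lit 151536, nat_lit 143968, nat_lit 140096, nat_lit 138202, nat_lit 134535, nat_lit 166, nat_lit 5208, nat_lit 9384, nat_lit 12512, nat_lit 18336, nat_lit 21440, nat_lit 26112, nat_lit 28928, nat_lit 33280, nat_lit 37888, nat_lit 41845, nat_lit 38304, nat_lit 32861, nat_lit 29256, nat_lit 24605, nat_lit 21522, nat_lit 16385, nat_lit 12353, nat_lit 8202, nat_lit 4100]⟩⟩⟩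
def lth78 : List AP := [⟨[nat_lit 290, nat_lit 356, nat_lit 287], [], (nat_lit 1218), ⟨[nat_lit 42, nat_lit 63], [nat_lit 0, nat_lit 13, nat_lit 53], ⟨[nat_lit 0x794c06c642752e38590459e756052a], [nat_lit 173056, nat_lit 169984, nat_lit 164096, nat_lit 159872, nat_lit 156800, nat_lit 152320, nat_lit 149472, nat_lit 145096, nat_lit 139404, nat_lit 137040, nat_lit 132297, nat_lit 1298, nat_lit 6084, nat_lit 9664, nat_lit 13552, nat_lit 16864, nat_lit 21696, nat_lit 26496, nat_lit 34304, nat_lit 41181, nat_lit 32816, nat_lit 28717, nat_lit 24580, nat_lit 20503, nat_lit 16385, nat_lit 12290, nat_lit 8194]⟩⟩⟩,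
  ⟨[nat_lit 81], [], (nat_lit 196), ⟨[nat_lit 14, nat_lit 69], [nat_lit 7, nat_lit 50], ⟨[nat_lit 0xab42978eca9208b619d0bd22711660], [nat_lit 173056, nat_lit 169472, nat_lit 164096, nat_lit 159872, nat_lit 156224, nat_lit 152960, nat_lit 147520, nat_lit 146120, nat_lit 139896, nat_lit 135810, nat_lit 131610, nat_lit 8, nat_lit 4684, nat_lit 8320, nat_lit 12416, nat_lit 18112, nat_lit 21312, nat_lit 25344, nat_lit 29184, nat_lit 37888, nat_lit 41704, nat_lit 38225, nat_lit 32968, nat_lit 28680, nat_lit 24855, nat_lit 21019, nat_lit 16387, nat_lit 12292, nat_lit 8200, nat_lit 4097]⟩⟩⟩,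
  ⟨[nat_lit 16, nat_lit 633, nat_lit 36], [], (nat_lit 1032), ⟨[nat_lit 54], [nat_lit 0, nat_lit 73, nat_lit 68], ⟨[nat_lit 0x83c41a36b24cd4eb1c682ac1724586], [nat_lit 173056, nat_lit 168448, nat_lit 166400, nat_lit 162432, nat_lit 158528, nat_lit 154304, nat_lit 147696, nat_lit 146368, nat_lit 141864, nat_lit 136024, nat_lit 133408, nat_lit 1516, nat_lit 5436, nat_lit 10040, nat_lit 12672, nat_lit 17408, nat_lit 26240, nat_lit 29184, nat_lit 33792, nat_lit 37888, nat_lit 41183, nat_lit 36914, nat_lit 32769, nat_lit 29707, nat_lit 24725, nat_lit 21013, nat_lit 16392, nat_lit 12305, nat_lit 8226, nat_lit 4097]⟩⟩⟩]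
theorem sth78 : Suf thT 19005990 (ldrop (lapp thwr9 [1, 0, 1]) 15) (apW dcM pth77) (tgtN dcM pth77.e) := Suf.fin' (l := lth78) (by decide +kernel)
def lth77 : List AP := [⟨[nat_lit 261, nat_lit 224, nat_lit 224, nat_lit 666, nat_lit 223], [], (nat_lit 608), ⟨[nat_lit 1, nat_lit 64], [nat_lit 54], ⟨[nat_lit 0x69686455e98ac6750093106ec93ad0], [nat_lit 175104, nat_lit 169984, nat_lit 164864, nat_lit 163712, nat_lit 159296, nat_lit 154112, nat_lit 144136, nat_lit 141224, nat_lit 138994, nat_lit 134606, nat_lit 1698, nat_lit 5208, nat_lit 10224, nat_lit 13920, nat_lit 17088, nat_lit 21376, nat_lit 29952, nat_lit 33792, nat_lit 41787, nat_lit 38002, nat_lit 33333, nat_lit 28702, nat_lit 24591, nat_lit 20765, nat_lit 16391, nat_lit 12358, nat_lit 8193]⟩⟩⟩,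
  ⟨[], [], (nat_lit 1136), ⟨[nat_lit 0, nat_lit 72, nat_lit 53], [nat_lit 72, nat_lit 48], ⟨[nat_lit 0x69686455e98ac6750093106ec93ad0], [nat_lit 175104, nat_lit 170496, nat_lit 164864, nat_lit 163584, nat_lit 159296, nat_lit 154144, nat_lit 147472, nat_lit 144128, nat_lit 141228, nat_lit 138994, nat_lit 134606, nat_lit 1698, nat_lit 5208, nat_lit 10224, nat_lit 13920, nat_lit 17088, nat_lit 21376, nat_lit 29952, nat_lit 33792, nat_lit 41787, nat_lit 38002, nat_lit 33333, nat_lit 28702, nat_lit 24591, nat_lit 20765, nat_lit 16391, nat_lit 12358, nat_lit 8193]⟩⟩⟩]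
theorem sth77 : Suf thT 19005990 (ldrop (lapp thwr9 [1, 0, 1]) 7) (apW dcM pth76) (tgtN dcM pth76.e) := Suf.seg (l := lth77) (by decide +kernel) sth78
def lth76 : List AP := [⟨[nat_lit 16, nat_lit 16, nat_lit 16, nat_lit 17, nat_lit 43, nat_lit 16], [], (nat_lit 150), ⟨[nat_lit 5, nat_lit 62], [nat_lit 33, nat_lit 94], ⟨[nat_lit 0x2aeb1540f74cc94605af009c391916], [nat_lit 173056, nat_lit 165632, nat_lit 161152, nat_lit 158208, nat_lit 153440, nat_lit 149248, nat_lit 144016, nat_lit 141128, nat_lit 136256, nat_lit 131657, nat_lit 760, nat_lit 5988, nat_lit 8840, nat_lit 17696, nat_lit 21824, nat_lit 25600, nat_lit 29184, nat_lit 33280, nat_lit 37888, nat_lit 41164, nat_lit 37187, nat_lit 33323, nat_lit 29712, nat_lit 24581, nat_lit 20744, nat_lit 16516, nat_lit 12304, nat_lit 8257, nat_lit 4609]⟩⟩⟩,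
  ⟨[nat_lit 84, nat_lit 644, nat_lit 102, nat_lit 77, nat_lit 76], [], (nat_lit 718), ⟨[nat_lit 41, nat_lit 64], [nat_lit 0, nat_lit 77, nat_lit 93], ⟨[nat_lit 0x815a00924c39ae9555eeb457315068], [nat_lit 165376, nat_lit 160000, nat_lit 155968, nat_lit 152128, nat_lit 151008, nat_lit 144880, nat_lit 139664, nat_lit 135620, nat_lit 131359, nat_lit 846, nat_lit 4932, nat_lit 8224, nat_lit 12320, nat_lit 16640, nat_lit 20736, nat_lit 25088, nat_lit 34304, nat_lit 37888, nat_lit 41232, nat_lit 37136, nat_lit 32900, nat_lit 28686, nat_lit 24586, nat_lit 20507, nat_lit 16385, nat_lit 12327, nat_lit 8200, nat_lit 4129, nat_lit 16]⟩⟩⟩]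
theorem thcr9_0 : Suf thT 19005990 (lapp thwr9 [1, 0, 1]) (apW dcM q0) (tgtN dcM q0.e) := Suf.seg (l := lth76) (by decide +kernel) sth77

def pth79 : AP := ⟨[nat_lit 672, nat_lit 290, nat_lit 293, nat_lit 284], [], (nat_lit 872), ⟨[nat_lit 0, nat_lit 43, nat_lit 55], [nat_lit 14, nat_lit 63], ⟨[nat_lit 0x6ce9562d3508c3897349470ba90f], [nat_lit 174080, nat_lit 169984, nat_lit 165376, nat_lit 163200, nat_lit 159040, nat_lit 155328, nat_lit 149296, nat_lit 144184, nat_lit 140328, nat_lit 137670, nat_lit 133321, nat_lit 394, nat_lit 5372, nat_lit 8488, nat_lit 13920, nat_lit 16544, nat_lit 22016, nat_lit 25344, nat_lit 30464, nat_lit 41609, nat_lit 37129, nat_lit 33421, nat_lit 29029, nat_lit 24594, nat_lit 20628, nat_lit 16428, nat_lit 12290, nat_lit 8225, nat_lit 4105]⟩⟩⟩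
def pth80 : AP := ⟨[nat_lit 676, nat_lit 678, nat_lit 466, nat_lit 413, nat_lit 418], [], (nat_lit 1242), ⟨[nat_lit 42, nat_lit 91], [nat_lit 28, nat_lit 62], ⟨[nat_lit 0x32e6384595b804d3c828b15c4a292f], [nat_lit 173056, nat_lit 169984, nat_lit 164352, nat_lit 161280, nat_lit 156224, nat_lit 153024, nat_lit 149264, nat_lit 144248, nat_lit 140004, nat_lit 135924, nat_lit 132695, nat_lit 122, nat_lit 6084, nat_lit 8408, nat_lit 12320, nat_lit 16896, nat_lit 20992, nat_lit 24960, nat_lit 29696, nat_lit 33280, nat_lit 41600, nat_lit 38362, nat_lit 28748, nat_lit 24757, nat_lit 20488, nat_lit 12320, nat_lit 8321, nat_lit 4]⟩⟩⟩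
def lth81 : List AP := [⟨[nat_lit 673, nat_lit 295], [], (nat_lit 1222), ⟨[nat_lit 25, nat_lit 91], [nat_lit 31, nat_lit 54], ⟨[nat_lit 0x23aa90de76145af650e81c14b048c5], [nat_lit 175104, nat_lit 169472, nat_lit 165632, nat_lit 160512, nat_lit 159488, nat_lit 153664, nat_lit 150672, nat_lit 143752, nat_lit 142188, nat_lit 136550, nat_lit 134776, nat_lit 1268, nat_lit 6104, nat_lit 9456, nat_lit 14048, nat_lit 16448, nat_lit 22016, nat_lit 25344, nat_lit 37888, nat_lit 41921, nat_lit 38179, nat_lit 32897, nat_lit 28718, nat_lit 25150, nat_lit 20609, nat_lit 16463, nat_lit 12323, nat_lit 8201, nat_lit 4112]⟩⟩⟩,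
  ⟨[nat_lit 68, nat_lit 46], [], (nat_lit 122), ⟨[nat_lit 27, nat_lit 61], [nat_lit 0, nat_lit 42, nat_lit 47], ⟨[nat_lit 0x39aaaa46682418073d37095b2b0963], [nat_lit 171008, nat_lit 164096, nat_lit 161408, nat_lit 155968, nat_lit 152864, nat_lit 148848, nat_lit 143808, nat_lit 141048, nat_lit 135570, nat_lit 132537, nat_lit 688, nat_lit 4568, nat_lit 8704, nat_lit 12800, nat_lit 18016, nat_lit 21760, nat_lit 25984, nat_lit 33280, nat_lit 37888, nat_lit 41600, nat_lit 38055, nat_lit 32837, nat_lit 29757, nat_lit 24837, nat_lit 20614, nat_lit 16427, nat_lit 12289, nat_lit 8]⟩⟩⟩,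
  ⟨[nat_lit 15, nat_lit 633], [], (nat_lit 1032), ⟨[nat_lit 7, nat_lit 63], [nat_lit 0, nat_lit 44, nat_lit 90], ⟨[nat_lit 0x55a8198229854eebc88d2a0c37898b], [nat_lit 173056, nat_lit 164096, nat_lit 161280, nat_lit 157504, nat_lit 153088, nat_lit 148208, nat_lit 144944, nat_lit 141264, nat_lit 135518, nat_lit 134934, nat_lit 986, nat_lit 4408, nat_lit 8928, nat_lit 13696, nat_lit 16672, nat_lit 22336, nat_lit 28928, nat_lit 34304, nat_lit 37888, nat_lit 41891, nat_lit 37027, nat_lit 32908, nat_lit 28707, nat_lit 24605, nat_lit 20505, nat_lit 16418, nat_lit 12291, nat_lit 8195, nat_lit 4100]⟩⟩⟩]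
theorem sth81 : Suf thT 19005990 (ldrop (lapp thwr9 [2, 0, 1]) 15) (apW dcM pth80) (tgtN dcM pth80.e) := Suf.fin' (l := lth81) (by decide +kernel)
def lth80 : List AP := [⟨[nat_lit 674, nat_lit 466, nat_lit 414, nat_lit 677], [], (nat_lit 875), ⟨[nat_lit 3, nat_lit 48], [nat_lit 0, nat_lit 70], ⟨[nat_lit 0x705f1b1d2c42c5299480adc70551a6], [nat_lit 175104, nat_lit 169472, nat_lit 161792, nat_lit 156480, nat_lit 152544, nat_lit 150416, nat_lit 145680, nat_lit 141740, nat_lit 137442, nat_lit 134275, nat_lit 158, nat_lit 5488, nat_lit 10152, nat_lit 12320, nat_lit 18272, nat_lit 20928, nat_lit 25472, nat_lit 29440, nat_lit 34304, nat_lit 41818, nat_lit 38277, nat_lit 33948, nat_lit 28975, nat_lit 24718, nat_lit 20550, nat_lit 16910, nat_lit 12421, nat_lit 8201]⟩⟩⟩,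
  ⟨[], [], (nat_lit 874), ⟨[nat_lit 0, nat_lit 12, nat_lit 70], [nat_lit 12], ⟨[nat_lit 0x705f1b1d2c42c5299480adc70551a6], [nat_lit 174080, nat_lit 168960, nat_lit 164096, nat_lit 161920, nat_lit 156416, nat_lit 152544, nat_lit 150400, nat_lit 145688, nat_lit 141740, nat_lit 137442, nat_lit 134275, nat_lit 158, nat_lit 5488, nat_lit 10152, nat_lit 12320, nat_lit 18272, nat_lit 20928, nat_lit 25472, nat_lit 29440, nat_lit 34304, nat_lit 41818, nat_lit 38277, nat_lit 33948, nat_lit 28975, nat_lit 24718, nat_lit 20550, nat_lit 16910, nat_lit 12421, nat_lit 8201]⟩⟩⟩]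
theorem sth80 : Suf thT 19005990 (ldrop (lapp thwr9 [2, 0, 1]) 7) (apW dcM pth79) (tgtN dcM pth79.e) := Suf.seg (l := lth80) (by decide +kernel) sth81
def lth79 : List AP := [⟨[nat_lit 38, nat_lit 630, nat_lit 41, nat_lit 41, nat_lit 37], [], (nat_lit 90), ⟨[nat_lit 0, nat_lit 40, nat_lit 69], [nat_lit 28, nat_lit 51], ⟨[nat_lit 0x5b6f1306121d6c4a2993781c712505], [nat_lit 164352, nat_lit 156416, nat_lit 147520, nat_lit 143688, nat_lit 139408, nat_lit 138298, nat_lit 132289, nat_lit 1054, nat_lit 4352, nat_lit 9664, nat_lit 13584, nat_lit 17120, nat_lit 22144, nat_lit 28928, nat_lit 33280, nat_lit 41933, nat_lit 37186, nat_lit 32819, nat_lit 28694, nat_lit 25088, nat_lit 20753, nat_lit 16517, nat_lit 13315, nat_lit 16]⟩⟩⟩,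
  ⟨[nat_lit 56, nat_lit 56, nat_lit 47, nat_lit 642, nat_lit 47, nat_lit 46], [], (nat_lit 716), ⟨[nat_lit 5, nat_lit 67], [nat_lit 0, nat_lit 41, nat_lit 68], ⟨[nat_lit 0x239acb8511394cf550504c876acc0b], [nat_lit 164096, nat_lit 160384, nat_lit 156032, nat_lit 152064, nat_lit 147536, nat_lit 144840, nat_lit 140284, nat_lit 137830, nat_lit 131175, nat_lit 986, nat_lit 4684, nat_lit 9384, nat_lit 13264, nat_lit 17632, nat_lit 20800, nat_lit 25600, nat_lit 29952, nat_lit 33792, nat_lit 37888, nat_lit 41638, nat_lit 37286, nat_lit 33344, nat_lit 28766, nat_lit 24760, nat_lit 20500, nat_lit 16421, nat_lit 12295, nat_lit 8200, nat_lit 4100, nat_lit 2]⟩⟩⟩]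
theorem thcr9_1 : Suf thT 19005990 (lapp thwr9 [2, 0, 1]) (iC2 :: apW dcM q0) (tgtN dcM q0.e) := Suf.seg (l := lth79) (by decide +kernel) sth80

def pth82 : AP := ⟨[nat_lit 665, nat_lit 228, nat_lit 264, nat_lit 222], [], (nat_lit 1106), ⟨[nat_lit 0, nat_lit 42, nat_lit 48], [nat_lit 0, nat_lit 73, nat_lit 93], ⟨[nat_lit 0x80c37330086a482a48e5b4d6a7ba35], [nat_lit 169472, nat_lit 167424, nat_lit 159872, nat_lit 156032, nat_lit 154976, nat_lit 150704, nat_lit 146504, nat_lit 143128, nat_lit 138932, nat_lit 132226, nat_lit 2012, nat_lit 4924, nat_lit 9648, nat_lit 13664, nat_lit 16864, nat_lit 21056, nat_lit 26496, nat_lit 28928, nat_lit 33280, nat_lit 37888, nat_lit 41117, nat_lit 37135, nat_lit 32898, nat_lit 29046, nat_lit 24758, nat_lit 20639, nat_lit 16385, nat_lit 12290, nat_lit 8194]⟩⟩⟩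
def pth83 : AP := ⟨[nat_lit 223, nat_lit 229, nat_lit 227, nat_lit 222], [], (nat_lit 506), ⟨[nat_lit 7, nat_lit 64], [nat_lit 76, nat_lit 56], ⟨[nat_lit 0x78e37209004b4cca28f62cd7283835], [nat_lit 164864, nat_lit 156032, nat_lit 152992, nat_lit 148304, nat_lit 145312, nat_lit 142872, nat_lit 135542, nat_lit 132422, nat_lit 1766, nat_lit 4100, nat_lit 10224, nat_lit 13408, nat_lit 18400, nat_lit 21824, nat_lit 25472, nat_lit 29440, nat_lit 33792, nat_lit 41821, nat_lit 37961, nat_lit 33371, nat_lit 28762, nat_lit 24749, nat_lit 20499, nat_lit 16388, nat_lit 12422, nat_lit 8200]⟩⟩⟩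
def lth84 : List AP := [⟨[nat_lit 264, nat_lit 668, nat_lit 226], [], (nat_lit 1120), ⟨[nat_lit 0, nat_lit 5, nat_lit 58], [nat_lit 13, nat_lit 64], ⟨[nat_lit 0xb86b2bceab90128a5b3808d4432b6], [nat_lit 174080, nat_lit 170496, nat_lit 166912, nat_lit 160512, nat_lit 159488, nat_lit 154176, nat_lit 148784, nat_lit 147376, nat_lit 141176, nat_lit 137078, nat_lit 132784, nat_lit 1488, nat_lit 5208, nat_lit 8712, nat_lit 13920, nat_lit 16576, nat_lit 22400, nat_lit 25600, nat_lit 29440, nat_lit 37888, nat_lit 41444, nat_lit 37175, nat_lit 32807, nat_lit 29804, nat_lit 25623, nat_lit 20569, nat_lit 16459, nat_lit 8194, nat_lit 4097]⟩⟩⟩,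
  ⟨[nat_lit 78], [], (nat_lit 196), ⟨[nat_lit 21, nat_lit 59], [nat_lit 31, nat_lit 61], ⟨[nat_lit 0x408c0b3872aa8b759e309d02f6112d], [nat_lit 174080, nat_lit 170496, nat_lit 166400, nat_lit 163712, nat_lit 156032, nat_lit 154784, nat_lit 149888, nat_lit 143376, nat_lit 141424, nat_lit 135646, nat_lit 133110, nat_lit 1624, nat_lit 4720, nat_lit 10144, nat_lit 13552, nat_lit 16672, nat_lit 21120, nat_lit 25344, nat_lit 29440, nat_lit 33280, nat_lit 37888, nat_lit 41748, nat_lit 37228, nat_lit 33012, nat_lit 28774, nat_lit 24722, nat_lit 20553, nat_lit 16417, nat_lit 12290]⟩⟩⟩,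
  ⟨[nat_lit 633], [], (nat_lit 1032), ⟨[nat_lit 79, nat_lit 64], [nat_lit 0, nat_lit 8, nat_lit 52], ⟨[nat_lit 0x85c51a28282397379d32b1865032ad], [nat_lit 174080, nat_lit 169984, nat_lit 167424, nat_lit 161664, nat_lit 157184, nat_lit 152096, nat_lit 149728, nat_lit 145152, nat_lit 139524, nat_lit 138356, nat_lit 134710, nat_lit 210, nat_lit 5900, nat_lit 8680, nat_lit 13872, nat_lit 18080, nat_lit 21696, nat_lit 26240, nat_lit 28928, nat_lit 41281, nat_lit 37223, nat_lit 32833, nat_lit 28761, nat_lit 24577, nat_lit 20998, nat_lit 16520, nat_lit 12423, nat_lit 8201, nat_lit 4101, nat_lit 4]⟩⟩⟩]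
theorem sth84 : Suf thT 19005990 (ldrop (lapp thwr9 [3, 0, 1]) 15) (apW dcM pth83) (tgtN dcM pth83.e) := Suf.fin' (l := lth84) (by decide +kernel)
def lth83 : List AP := [⟨[nat_lit 225, nat_lit 222, nat_lit 259, nat_lit 266], [], (nat_lit 488), ⟨[nat_lit 40, nat_lit 60], [nat_lit 17, nat_lit 89], ⟨[nat_lit 0xb0e3042aa024d2f749670b1b431457], [nat_lit 175104, nat_lit 171008, nat_lit 165888, nat_lit 160000, nat_lit 156416, nat_lit 153248, nat_lit 149520, nat_lit 143752, nat_lit 140420, nat_lit 138736, nat_lit 134836, nat_lit 1136, nat_lit 4964, nat_lit 8320, nat_lit 12560, nat_lit 17472, nat_lit 20544, nat_lit 24704, nat_lit 29696, nat_lit 34304, nat_lit 41293, nat_lit 37232, nat_lit 33452, nat_lit 28682, nat_lit 24630, nat_lit 20561, nat_lit 16449, nat_lit 12421, nat_lit 8195, nat_lit 4097, nat_lit 2]⟩⟩⟩,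
  ⟨[], [], (nat_lit 489), ⟨[nat_lit 0, nat_lit 45, nat_lit 57], [nat_lit 36, nat_lit 54], ⟨[nat_lit 0xb0e3042aa024d2f749670b1b431457], [nat_lit 175104, nat_lit 171008, nat_lit 166144, nat_lit 160128, nat_lit 156480, nat_lit 153216, nat_lit 149504, nat_lit 143752, nat_lit 140420, nat_lit 138738, nat_lit 134837, nat_lit 1136, nat_lit 4964, nat_lit 8320, nat_lit 12560, nat_lit 17472, nat_lit 20544, nat_lit 24704, nat_lit 29696, nat_lit 34304, nat_lit 41293, nat_lit 37232, nat_lit 33452, nat_lit 28682, nat_lit 24630, nat_lit 20561, nat_lit 16449, nat_lit 12421, nat_lit 8195, nat_lit 4097, nat_lit 2]⟩⟩⟩]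
theorem sth83 : Suf thT 19005990 (ldrop (lapp thwr9 [3, 0, 1]) 7) (apW dcM pth82) (tgtN dcM pth82.e) := Suf.seg (l := lth83) (by decide +kernel) sth84
def lth82 : List AP := [⟨[nat_lit 632, nat_lit 37, nat_lit 14, nat_lit 39, nat_lit 17, nat_lit 40], [], (nat_lit 150), ⟨[nat_lit 0, nat_lit 11, nat_lit 48], [nat_lit 0, nat_lit 1, nat_lit 58], ⟨[nat_lit 0x8c0b51a64d0d006b9d4b612ce40a6f], [nat_lit 175104, nat_lit 168448, nat_lit 166144, nat_lit 162816, nat_lit 158784, nat_lit 153344, nat_lit 149088, nat_lit 144152, nat_lit 142652, nat_lit 138824, nat_lit 131528, nat_lit 1318, nat_lit 4780, nat_lit 10088, nat_lit 13920, nat_lit 18336, nat_lit 21888, nat_lit 25472, nat_lit 29440, nat_lit 33792, nat_lit 41786, nat_lit 37936, nat_lit 32852, nat_lit 28697, nat_lit 24613, nat_lit 20546, nat_lit 16390, nat_lit 12290, nat_lit 8194, nat_lit 4097, nat_lit 2]⟩⟩⟩,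
  ⟨[nat_lit 101, nat_lit 83, nat_lit 100, nat_lit 646, nat_lit 105], [], (nat_lit 534), ⟨[nat_lit 30, nat_lit 89], [nat_lit 72], ⟨[nat_lit 0x73ca05d992ab60a0c66435c7441c49], [nat_lit 173056, nat_lit 171520, nat_lit 164608, nat_lit 163200, nat_lit 156352, nat_lit 154912, nat_lit 151408, nat_lit 146664, nat_lit 141140, nat_lit 135692, nat_lit 134262, nat_lit 1918, nat_lit 5568, nat_lit 9184, nat_lit 12368, nat_lit 16480, nat_lit 21184, nat_lit 25216, nat_lit 29184, nat_lit 37888, nat_lit 41244, nat_lit 37097, nat_lit 32919, nat_lit 29000, nat_lit 24760, nat_lit 20488, nat_lit 16520, nat_lit 12327, nat_lit 8194, nat_lit 4097]⟩⟩⟩]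
theorem thcr9_2 : Suf thT 19005990 (lapp thwr9 [3, 0, 1]) (iC3 :: apW dcM q0) (tgtN dcM q0.e) := Suf.seg (l := lth82) (by decide +kernel) sth83

def pth85 : AP := ⟨[nat_lit 226, nat_lit 222, nat_lit 264, nat_lit 265, nat_lit 222], [], (nat_lit 636), ⟨[nat_lit 38, nat_lit 89], [nat_lit 87, nat_lit 63], ⟨[nat_lit 0x5d69190c2a24d2501d9630aef73510], [nat_lit 160256, nat_lit 157632, nat_lit 151744, nat_lit 148992, nat_lit 145560, nat_lit 140420, nat_lit 136886, nat_lit 131597, nat_lit 428, nat_lit 6076, nat_lit 10224, nat_lit 12352, nat_lit 17056, nat_lit 21760, nat_lit 24832, nat_lit 29184, nat_lit 33280, nat_lit 41756, nat_lit 37190, nat_lit 32941, nat_lit 29020, nat_lit 24587, nat_lit 20633, nat_lit 16513, nat_lit 12292, nat_lit 8201, nat_lit 4161, nat_lit 4]⟩⟩⟩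
def pth86 : AP := ⟨[nat_lit 288, nat_lit 671, nat_lit 285, nat_lit 285], [], (nat_lit 1150), ⟨[nat_lit 9, nat_lit 89], [nat_lit 18, nat_lit 61], ⟨[nat_lit 0x8068998ea824a2e01d827dae62b54b], [nat_lit 173056, nat_lit 168960, nat_lit 165632, nat_lit 160896, nat_lit 156032, nat_lit 152448, nat_lit 148768, nat_lit 145768, nat_lit 140632, nat_lit 135842, nat_lit 131675, nat_lit 1224, nat_lit 5072, nat_lit 9512, nat_lit 12416, nat_lit 18336, nat_lit 22016, nat_lit 26496, nat_lit 29696, nat_lit 33280, nat_lit 37888, nat_lit 41689, nat_lit 37331, nat_lit 32804, nat_lit 28733, nat_lit 25115, nat_lit 20619, nat_lit 16430, nat_lit 8193, nat_lit 4097, nat_lit 2]⟩⟩⟩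
def lth87 : List AP := [⟨[nat_lit 668, nat_lit 666, nat_lit 227, nat_lit 231], [], (nat_lit 488), ⟨[nat_lit 0, nat_lit 11, nat_lit 62], [nat_lit 0, nat_lit 24, nat_lit 69], ⟨[nat_lit 0x13a6a0c1e9292a7045a860d72bd8d4], [nat_lit 168448, nat_lit 165376, nat_lit 160768, nat_lit 159552, nat_lit 153280, nat_lit 148848, nat_lit 145280, nat_lit 140832, nat_lit 136800, nat_lit 131104, nat_lit 664, nat_lit 4488, nat_lit 9928, nat_lit 14144, nat_lit 16960, nat_lit 21504, nat_lit 25216, nat_lit 29184, nat_lit 41736, nat_lit 38368, nat_lit 32960, nat_lit 28754, nat_lit 24582, nat_lit 21003, nat_lit 16514, nat_lit 12805, nat_lit 8200, nat_lit 4129, nat_lit 4]⟩⟩⟩,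
  ⟨[], [], (nat_lit 1052), ⟨[nat_lit 0, nat_lit 84, nat_lit 58], [nat_lit 7, nat_lit 61], ⟨[nat_lit 0x7ad31aa067b8544315d0936d49b002], [nat_lit 173056, nat_lit 168448, nat_lit 166912, nat_lit 159872, nat_lit 156160, nat_lit 153120, nat_lit 147904, nat_lit 145008, nat_lit 140068, nat_lit 135274, nat_lit 132043, nat_lit 4, nat_lit 4408, nat_lit 8448, nat_lit 12480, nat_lit 17216, nat_lit 22400, nat_lit 25088, nat_lit 30208, nat_lit 33280, nat_lit 37888, nat_lit 41897, nat_lit 37320, nat_lit 32832, nat_lit 28733, nat_lit 24867, nat_lit 20547, nat_lit 16525, nat_lit 12422, nat_lit 8194, nat_lit 4101, nat_lit 2]⟩⟩⟩,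
  ⟨[], [], (nat_lit 1034), ⟨[nat_lit 72, nat_lit 61], [nat_lit 0, nat_lit 17, nat_lit 49], ⟨[nat_lit 0x848ef3002eb508c145372a1ab50eb3], [nat_lit 173056, nat_lit 164096, nat_lit 161024, nat_lit 157632, nat_lit 152064, nat_lit 147760, nat_lit 143496, nat_lit 140436, nat_lit 137056, nat_lit 133199, nat_lit 582, nat_lit 5856, nat_lit 9384, nat_lit 12576, nat_lit 17696, nat_lit 22336, nat_lit 24832, nat_lit 28928, nat_lit 33280, nat_lit 41583, nat_lit 38306, nat_lit 33297, nat_lit 28952, nat_lit 24627, nat_lit 20487, nat_lit 16389, nat_lit 12550, nat_lit 8195, nat_lit 4]⟩⟩⟩]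
theorem sth87 : Suf thT 2048 (ldrop (lapp thwr9 [1, 0, 1]) 15) (apW dcM pth86) (tgtN dcM pth86.e) := Suf.fin' (l := lth87) (by decide +kernel)
def lth86 : List AP := [⟨[nat_lit 286, nat_lit 294, nat_lit 352, nat_lit 290, nat_lit 284], [], (nat_lit 668), ⟨[nat_lit 0, nat_lit 84, nat_lit 51], [nat_lit 32, nat_lit 56], ⟨[nat_lit 0x41269834aea814fb8d8b11c31b4a86], [nat_lit 167168, nat_lit 163456, nat_lit 159552, nat_lit 155328, nat_lit 148336, nat_lit 147296, nat_lit 143248, nat_lit 137204, nat_lit 134920, nat_lit 1516, nat_lit 5604, nat_lit 10064, nat_lit 12640, nat_lit 16544, nat_lit 21504, nat_lit 24704, nat_lit 29184, nat_lit 33280, nat_lit 37888, nat_lit 41286, nat_lit 36993, nat_lit 33865, nat_lit 29206, nat_lit 24613, nat_lit 20483, nat_lit 16518, nat_lit 12547, nat_lit 8201, nat_lit 4128]⟩⟩⟩,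
  ⟨[], [], (nat_lit 1158), ⟨[nat_lit 0, nat_lit 42, nat_lit 68], [nat_lit 0, nat_lit 14, nat_lit 65], ⟨[nat_lit 0x41269834aea814fb8d8b11c31b4a86], [nat_lit 173056, nat_lit 166912, nat_lit 163328, nat_lit 159552, nat_lit 155360, nat_lit 148336, nat_lit 147296, nat_lit 143248, nat_lit 137204, nat_lit 134921, nat_lit 1516, nat_lit 5604, nat_lit 10064, nat_lit 12640, nat_lit 16544, nat_lit 21504, nat_lit 24704, nat_lit 29184, nat_lit 33280, nat_lit 37888, nat_lit 41286, nat_lit 36993, nat_lit 33865, nat_lit 29206, nat_lit 24613, nat_lit 20483, nat_lit 16518, nat_lit 12547, nat_lit 8201, nat_lit 4128]⟩⟩⟩]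
theorem sth86 : Suf thT 2048 (ldrop (lapp thwr9 [1, 0, 1]) 7) (apW dcM pth85) (tgtN dcM pth85.e) := Suf.seg (l := lth86) (by decide +kernel) sth87
def lth85 : List AP := [⟨[nat_lit 21, nat_lit 25, nat_lit 32, nat_lit 22, nat_lit 30, nat_lit 25], [], (nat_lit 276), ⟨[nat_lit 0, nat_lit 2, nat_lit 92], [nat_lit 78, nat_lit 62], ⟨[nat_lit 0x5c0223506e4c6d551e44281f79a1ac], [nat_lit 173056, nat_lit 168448, nat_lit 161664, nat_lit 157376, nat_lit 155424, nat_lit 148032, nat_lit 144936, nat_lit 140996, nat_lit 136826, nat_lit 132958, nat_lit 210, nat_lit 4380, nat_lit 9112, nat_lit 13488, nat_lit 16768, nat_lit 22016, nat_lit 25344, nat_lit 34304, nat_lit 41719, nat_lit 37144, nat_lit 32944, nat_lit 29000, nat_lit 24708, nat_lit 20560, nat_lit 16455, nat_lit 12310, nat_lit 8201, nat_lit 4097, nat_lit 2]⟩⟩⟩,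
  ⟨[nat_lit 144, nat_lit 143, nat_lit 656, nat_lit 658, nat_lit 149], [], (nat_lit 476), ⟨[nat_lit 0, nat_lit 31, nat_lit 63], [nat_lit 0, nat_lit 9, nat_lit 67], ⟨[nat_lit 0xb826e1b2d1220c70b690155f22a54b], [nat_lit 173056, nat_lit 168960, nat_lit 165888, nat_lit 161280, nat_lit 153760, nat_lit 149952, nat_lit 145616, nat_lit 142652, nat_lit 138426, nat_lit 133082, nat_lit 1224, nat_lit 4952, nat_lit 9752, nat_lit 13552, nat_lit 17728, nat_lit 21248, nat_lit 25728, nat_lit 29184, nat_lit 41405, nat_lit 37055, nat_lit 34035, nat_lit 28758, nat_lit 24728, nat_lit 21005, nat_lit 16428, nat_lit 12294, nat_lit 8202, nat_lit 4105, nat_lit 2]⟩⟩⟩]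
theorem thcr9_3 : Suf thT 2048 (lapp thwr9 [1, 0, 1]) (apW dcM q1) (tgtN dcM q1.e) := Suf.seg (l := lth85) (by decide +kernel) sth86

theorem thcr10 : Chk thT thwr10 := .inr (by decide +kernel)

theorem thcr11 : Chk thT thwr11 := .inr (by decide +kernel)

theorem thcr12 : Chk thT thwr12 := .inr (by decide +kernel)

def pth88 : AP := ⟨[nat_lit 228, nat_lit 232, nat_lit 262, nat_lit 222], [], (nat_lit 1102), ⟨[nat_lit 0, nat_lit 9, nat_lit 63], [nat_lit 0, nat_lit 33, nat_lit 70], ⟨[nat_lit 0xa90435480d985eb65cce81e342a136], [nat_lit 173056, nat_lit 168960, nat_lit 161536, nat_lit 156224, nat_lit 152704, nat_lit 147904, nat_lit 145264, nat_lit 139292, nat_lit 135346, nat_lit 132206, nat_lit 696, nat_lit 5572, nat_lit 8784, nat_lit 12416, nat_lit 16896, nat_lit 21824, nat_lit 25600, nat_lit 29184, nat_lit 33280, nat_lit 41123, nat_lit 37241, nat_lit 33501, nat_lit 28964, nat_lit 25148, nat_lit 20748, nat_lit 16905, nat_lit 12320, nat_lit 8257]⟩⟩⟩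
def pth89 : AP := ⟨[nat_lit 233, nat_lit 224, nat_lit 668, nat_lit 230, nat_lit 222], [], (nat_lit 616), ⟨[nat_lit 0, nat_lit 13, nat_lit 63], [nat_lit 0, nat_lit 21, nat_lit 92], ⟨[nat_lit 0x5bd5035428026c761664bba541446d], [nat_lit 175104, nat_lit 169984, nat_lit 164864, nat_lit 162176, nat_lit 158016, nat_lit 154368, nat_lit 149232, nat_lit 145384, nat_lit 141064, nat_lit 137708, nat_lit 134869, nat_lit 484, nat_lit 5900, nat_lit 8704, nat_lit 12800, nat_lit 16416, nat_lit 20544, nat_lit 24832, nat_lit 29952, nat_lit 33280, nat_lit 37888, nat_lit 41631, nat_lit 37125, nat_lit 32891, nat_lit 29716, nat_lit 24880, nat_lit 20752, nat_lit 16640, nat_lit 12295, nat_lit 8200, nat_lit 4097, nat_lit 2]⟩⟩⟩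
def pth90 : AP := ⟨[nat_lit 264, nat_lit 261, nat_lit 226, nat_lit 224], [], (nat_lit 1104), ⟨[nat_lit 0, nat_lit 4, nat_lit 89], [nat_lit 21, nat_lit 60], ⟨[nat_lit 0x5d8d52a2324918f68674802ee12867], [nat_lit 173056, nat_lit 168448, nat_lit 166912, nat_lit 160256, nat_lit 157312, nat_lit 151968, nat_lit 147472, nat_lit 144584, nat_lit 139504, nat_lit 135916, nat_lit 131798, nat_lit 1438, nat_lit 4576, nat_lit 9096, nat_lit 12928, nat_lit 18336, nat_lit 22336, nat_lit 26368, nat_lit 29440, nat_lit 41559, nat_lit 37120, nat_lit 32864, nat_lit 28683, nat_lit 24864, nat_lit 20757, nat_lit 16396, nat_lit 12292, nat_lit 8193, nat_lit 4225]⟩⟩⟩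
def pth91 : AP := ⟨[nat_lit 665, nat_lit 222, nat_lit 231], [], (nat_lit 546), ⟨[nat_lit 38, nat_lit 59], [nat_lit 10, nat_lit 59], ⟨[nat_lit 0xb99938349672c2f92051052a939543], [nat_lit 168448, nat_lit 166400, nat_lit 162816, nat_lit 159104, nat_lit 153888, nat_lit 147872, nat_lit 145832, nat_lit 142208, nat_lit 136860, nat_lit 133215, nat_lit 484, nat_lit 5884, nat_lit 8960, nat_lit 12416, nat_lit 17184, nat_lit 21952, nat_lit 25600, nat_lit 30208, nat_lit 33792, nat_lit 41321, nat_lit 36985, nat_lit 34016, nat_lit 28754, nat_lit 24742, nat_lit 20510, nat_lit 16387, nat_lit 12294, nat_lit 8203]⟩⟩⟩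
def pth92 : AP := ⟨[nat_lit 226, nat_lit 227, nat_lit 664, nat_lit 263], [], (nat_lit 510), ⟨[nat_lit 79, nat_lit 59], [nat_lit 44, nat_lit 50], ⟨[nat_lit 0x1bd9743a474c5a629036a816aa0a70], [nat_lit 175104, nat_lit 170496, nat_lit 167424, nat_lit 162688, nat_lit 156160, nat_lit 155296, nat_lit 151024, nat_lit 144312, nat_lit 142044, nat_lit 136934, nat_lit 132187, nat_lit 526, nat_lit 5688, nat_lit 8224, nat_lit 13584, nat_lit 18336, nat_lit 20544, nat_lit 25728, nat_lit 28928, nat_lit 37888, nat_lit 41603, nat_lit 38263, nat_lit 33003, nat_lit 28989, nat_lit 24723, nat_lit 20503, nat_lit 16393, nat_lit 12309, nat_lit 8200, nat_lit 4128, nat_lit 2]⟩⟩⟩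
def pth93 : AP := ⟨[nat_lit 176, nat_lit 171, nat_lit 177, nat_lit 172, nat_lit 171], [], (nat_lit 1092), ⟨[nat_lit 29, nat_lit 69], [nat_lit 89], ⟨[nat_lit 0x74ac129107a3c7315d90ab6203256a], [nat_lit 164608, nat_lit 161280, nat_lit 155968, nat_lit 152608, nat_lit 150240, nat_lit 143880, nat_lit 139536, nat_lit 136562, nat_lit 131797, nat_lit 1794, nat_lit 5064, nat_lit 9752, nat_lit 12480, nat_lit 17408, nat_lit 21696, nat_lit 25984, nat_lit 30464, nat_lit 33280, nat_lit 37888, nat_lit 41263, nat_lit 37136, nat_lit 33472, nat_lit 28992, nat_lit 24837, nat_lit 21525, nat_lit 16395, nat_lit 12307, nat_lit 8194]⟩⟩⟩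
def pth94 : AP := ⟨[nat_lit 265, nat_lit 230, nat_lit 260, nat_lit 223], [], (nat_lit 554), ⟨[nat_lit 0, nat_lit 26, nat_lit 56], [nat_lit 6, nat_lit 67], ⟨[nat_lit 0x54475a2e414cee261dcdb2010218af], [nat_lit 171520, nat_lit 166656, nat_lit 163200, nat_lit 159232, nat_lit 152992, nat_lit 149984, nat_lit 146704, nat_lit 140464, nat_lit 138742, nat_lit 131218, nat_lit 394, nat_lit 4952, nat_lit 10040, nat_lit 14192, nat_lit 16448, nat_lit 21568, nat_lit 24704, nat_lit 30208, nat_lit 33792, nat_lit 37888, nat_lit 41858, nat_lit 36994, nat_lit 33799, nat_lit 28948, nat_lit 24616, nat_lit 20563, nat_lit 16425, nat_lit 12321, nat_lit 8451, nat_lit 32]⟩⟩⟩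
def pth95 : AP := ⟨[nat_lit 178, nat_lit 662, nat_lit 218, nat_lit 662, nat_lit 171], [], (nat_lit 482), ⟨[nat_lit 41, nat_lit 62], [nat_lit 0, nat_lit 6, nat_lit 70], ⟨[nat_lit 0xbd0934aa0719a212b1d21550d78176], [nat_lit 175104, nat_lit 171008, nat_lit 166144, nat_lit 160256, nat_lit 157568, nat_lit 153184, nat_lit 151504, nat_lit 143544, nat_lit 139516, nat_lit 137570, nat_lit 135114, nat_lit 354, nat_lit 5544, nat_lit 8680, nat_lit 12560, nat_lit 18176, nat_lit 21376, nat_lit 24960, nat_lit 33280, nat_lit 41200, nat_lit 37041, nat_lit 32881, nat_lit 29248, nat_lit 24612, nat_lit 20500, nat_lit 16426, nat_lit 12289, nat_lit 8208, nat_lit 4097, nat_lit 2]⟩⟩⟩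
def pth96 : AP := ⟨[nat_lit 261, nat_lit 265, nat_lit 226, nat_lit 226, nat_lit 222], [], (nat_lit 506), ⟨[nat_lit 4, nat_lit 50], [nat_lit 0, nat_lit 84, nat_lit 64], ⟨[nat_lit 0x6548941dd480a720062333ecb6dd45], [nat_lit 174080, nat_lit 168448, nat_lit 165632, nat_lit 161920, nat_lit 155904, nat_lit 152864, nat_lit 150592, nat_lit 146568, nat_lit 141704, nat_lit 138382, nat_lit 133710, nat_lit 1054, nat_lit 4964, nat_lit 9096, nat_lit 13712, nat_lit 17312, nat_lit 22016, nat_lit 25472, nat_lit 30208, nat_lit 37888, nat_lit 41561, nat_lit 37165, nat_lit 33428, nat_lit 28738, nat_lit 24739, nat_lit 20483, nat_lit 16391, nat_lit 12294, nat_lit 8194, nat_lit 4100]⟩⟩⟩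
def pth97 : AP := ⟨[nat_lit 259, nat_lit 224], [], (nat_lit 604), ⟨[nat_lit 31, nat_lit 55], [nat_lit 13, nat_lit 50], ⟨[nat_lit 0x226e15a9f161cd22d00868e029daae], [nat_lit 174080, nat_lit 169984, nat_lit 166400, nat_lit 160256, nat_lit 157568, nat_lit 153056, nat_lit 151536, nat_lit 143968, nat_lit 140096, nat_lit 138202, nat_lit 134535, nat_lit 166, nat_lit 5208, nat_lit 9384, nat_lit 12512, nat_lit 18336, nat_lit 21440, nat_lit 26112, nat_lit 28928, nat_lit 33280, nat_lit 37888, nat_lit 41845, nat_lit 38304, nat_lit 32861, nat_lit 29256, nat_lit 24605, nat_lit 21522, nat_lit 16385, nat_lit 12353, nat_lit 8202, nat_lit 4100]⟩⟩⟩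
def lth98 : List AP := [⟨[nat_lit 290, nat_lit 356, nat_lit 287], [], (nat_lit 1218), ⟨[nat_lit 42, nat_lit 63], [nat_lit 0, nat_lit 13, nat_lit 53], ⟨[nat_lit 0x794c06c642752e38590459e756052a], [nat_lit 173056, nat_lit 169984, nat_lit 164096, nat_lit 159872, nat_lit 156800, nat_lit 152320, nat_lit 149472, nat_lit 145096, nat_lit 139404, nat_lit 137040, nat_lit 132297, nat_lit 1298, nat_lit 6084, nat_lit 9664, nat_lit 13552, nat_lit 16864, nat_lit 21696, nat_lit 26496, nat_lit 34304, nat_lit 41181, nat_lit 32816, nat_lit 28717, nat_lit 24580, nat_lit 20503, nat_lit 16385, nat_lit 12290, nat_lit 8194]⟩⟩⟩,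
  ⟨[nat_lit 81], [], (nat_lit 196), ⟨[nat_lit 14, nat_lit 69], [nat_lit 7, nat_lit 50], ⟨[nat_lit 0xab42978eca9208b619d0bd22711660], [nat_lit 173056, nat_lit 169472, nat_lit 164096, nat_lit 159872, nat_lit 156224, nat_lit 152960, nat_lit 147520, nat_lit 146120, nat_lit 139896, nat_lit 135810, nat_lit 131610, nat_lit 8, nat_lit 4684, nat_lit 8320, nat_lit 12416, nat_lit 18112, nat_lit 21312, nat_lit 25344, nat_lit 29184, nat_lit 37888, nat_lit 41704, nat_lit 38225, nat_lit 32968, nat_lit 28680, nat_lit 24855, nat_lit 21019, nat_lit 16387, nat_lit 12292, nat_lit 8200, nat_lit 4097]⟩⟩⟩,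
  ⟨[nat_lit 16, nat_lit 633, nat_lit 36], [], (nat_lit 1032), ⟨[nat_lit 54], [nat_lit 0, nat_lit 73, nat_lit 68], ⟨[nat_lit 0x83c41a36b24cd4eb1c682ac1724586], [nat_lit 173056, nat_lit 168448, nat_lit 166400, nat_lit 162432, nat_lit 158528, nat_lit 154304, nat_lit 147696, nat_lit 146368, nat_lit 141864, nat_lit 136024, nat_lit 133408, nat_lit 1516, nat_lit 5436, nat_lit 10040, nat_lit 12672, nat_lit 17408, nat_lit 26240, nat_lit 29184, nat_lit 33792, nat_lit 37888, nat_lit 41183, nat_lit 36914, nat_lit 32769, nat_lit 29707, nat_lit 24725, nat_lit 21013, nat_lit 16392, nat_lit 12305, nat_lit 8226, nat_lit 4097]⟩⟩⟩]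
theorem sth98 : Suf thT 19005990 (ldrop (lapp thwr13 [1, 0, 1]) 91) (apW dcM pth97) (tgtN dcM pth97.e) := Suf.fin' (l := lth98) (by decide +kernel)
def lth97 : List AP := [⟨[nat_lit 265, nat_lit 664, nat_lit 232, nat_lit 222, nat_lit 222], [], (nat_lit 608), ⟨[nat_lit 0, nat_lit 27, nat_lit 52], [nat_lit 0, nat_lit 75, nat_lit 61], ⟨[nat_lit 0x55df468049a943319ed16208693970], [nat_lit 173056, nat_lit 169472, nat_lit 164864, nat_lit 160768, nat_lit 156352, nat_lit 153088, nat_lit 149456, nat_lit 141044, nat_lit 135220, nat_lit 134899, nat_lit 64, nat_lit 5016, nat_lit 10224, nat_lit 12704, nat_lit 17408, nat_lit 20544, nat_lit 30464, nat_lit 33280, nat_lit 37888, nat_lit 41793, nat_lit 38324, nat_lit 33792, nat_lit 29220, nat_lit 24591, nat_lit 20481, nat_lit 16512, nat_lit 12358, nat_lit 8193, nat_lit 4097]⟩⟩⟩,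
  ⟨[nat_lit 351, nat_lit 353, nat_lit 292, nat_lit 292], [], (nat_lit 1136), ⟨[nat_lit 0, nat_lit 72, nat_lit 53], [nat_lit 72, nat_lit 48], ⟨[nat_lit 0x69686455e98ac6750093106ec93ad0], [nat_lit 175104, nat_lit 170496, nat_lit 164864, nat_lit 163584, nat_lit 159296, nat_lit 154144, nat_lit 147472, nat_lit 144128, nat_lit 141228, nat_lit 138994, nat_lit 134606, nat_lit 1698, nat_lit 5208, nat_lit 10224, nat_lit 13920, nat_lit 17088, nat_lit 21376, nat_lit 29952, nat_lit 33792, nat_lit 41787, nat_lit 38002, nat_lit 33333, nat_lit 28702, nat_lit 24591, nat_lit 20765, nat_lit 16391, nat_lit 12358, nat_lit 8193]⟩⟩⟩]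
theorem sth97 : Suf thT 19005990 (ldrop (lapp thwr13 [1, 0, 1]) 81) (apW dcM pth96) (tgtN dcM pth96.e) := Suf.seg (l := lth97) (by decide +kernel) sth98
def lth96 : List AP := [⟨[nat_lit 227, nat_lit 225, nat_lit 260, nat_lit 223], [], (nat_lit 1100), ⟨[nat_lit 0, nat_lit 4, nat_lit 70], [nat_lit 0, nat_lit 15, nat_lit 54], ⟨[nat_lit 0x3c2954acd26ccac14483b382a782e8], [nat_lit 173056, nat_lit 169984, nat_lit 167424, nat_lit 162304, nat_lit 158272, nat_lit 151712, nat_lit 149728, nat_lit 145480, nat_lit 140348, nat_lit 138494, nat_lit 132341, nat_lit 1396, nat_lit 4824, nat_lit 9328, nat_lit 13920, nat_lit 16864, nat_lit 21376, nat_lit 25856, nat_lit 41926, nat_lit 38084, nat_lit 33002, nat_lit 28978, nat_lit 24730, nat_lit 20509, nat_lit 16416, nat_lit 12290, nat_lit 8195, nat_lit 4097, nat_lit 2]⟩⟩⟩,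
  ⟨[nat_lit 179, nat_lit 178, nat_lit 660, nat_lit 215, nat_lit 180], [], (nat_lit 486), ⟨[nat_lit 72, nat_lit 70], [nat_lit 84, nat_lit 53], ⟨[nat_lit 0x10d45bd164ab201782d3724cd8c907], [nat_lit 173056, nat_lit 165120, nat_lit 160000, nat_lit 156928, nat_lit 153824, nat_lit 148304, nat_lit 143536, nat_lit 140408, nat_lit 135212, nat_lit 132371, nat_lit 1214, nat_lit 5200, nat_lit 8592, nat_lit 13696, nat_lit 16640, nat_lit 20608, nat_lit 26112, nat_lit 29696, nat_lit 33792, nat_lit 37888, nat_lit 41126, nat_lit 37034, nat_lit 32977, nat_lit 28704, nat_lit 24865, nat_lit 16451, nat_lit 12802, nat_lit 9218, nat_lit 4113]⟩⟩⟩]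
theorem sth96 : Suf thT 19005990 (ldrop (lapp thwr13 [1, 0, 1]) 71) (apW dcM pth95) (tgtN dcM pth95.e) := Suf.seg (l := lth96) (by decide +kernel) sth97
def lth95 : List AP := [⟨[nat_lit 229, nat_lit 262, nat_lit 224, nat_lit 227], [], (nat_lit 475), ⟨[nat_lit 0, nat_lit 31, nat_lit 67], [nat_lit 0, nat_lit 5, nat_lit 67], ⟨[nat_lit 0x3a6640c502032c57496f85e8a19aad], [nat_lit 173056, nat_lit 171520, nat_lit 164608, nat_lit 160256, nat_lit 152608, nat_lit 148496, nat_lit 144360, nat_lit 139500, nat_lit 137076, nat_lit 132301, nat_lit 1004, nat_lit 5900, nat_lit 9216, nat_lit 12800, nat_lit 16864, nat_lit 21440, nat_lit 26496, nat_lit 29184, nat_lit 33792, nat_lit 37888, nat_lit 41913, nat_lit 37120, nat_lit 33448, nat_lit 29000, nat_lit 24740, nat_lit 20496, nat_lit 16387, nat_lit 8256, nat_lit 4097]⟩⟩⟩,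
  ⟨[nat_lit 656, nat_lit 145, nat_lit 140, nat_lit 657], [], (nat_lit 387), ⟨[nat_lit 0, nat_lit 9, nat_lit 89], [nat_lit 24, nat_lit 91], ⟨[nat_lit 0x102f69454b330ef734a40d2a384d28], [nat_lit 173056, nat_lit 171520, nat_lit 165120, nat_lit 160768, nat_lit 156736, nat_lit 151744, nat_lit 149232, nat_lit 143424, nat_lit 141292, nat_lit 136550, nat_lit 131896, nat_lit 846, nat_lit 6084, nat_lit 9496, nat_lit 12352, nat_lit 18016, nat_lit 22016, nat_lit 26496, nat_lit 30208, nat_lit 33280, nat_lit 40992, nat_lit 37061, nat_lit 33008, nat_lit 28965, nat_lit 24723, nat_lit 20739, nat_lit 16427, nat_lit 12304, nat_lit 8259, nat_lit 4]⟩⟩⟩]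
theorem sth95 : Suf thT 19005990 (ldrop (lapp thwr13 [1, 0, 1]) 65) (apW dcM pth94) (tgtN dcM pth94.e) := Suf.seg (l := lth95) (by decide +kernel) sth96
def lth94 : List AP := [⟨[nat_lit 352, nat_lit 357, nat_lit 672], [], (nat_lit 1128), ⟨[nat_lit 0, nat_lit 77, nat_lit 66], [nat_lit 39, nat_lit 52], ⟨[nat_lit 0x9c828156cabc08f638096d0b159c66], [nat_lit 174080, nat_lit 171008, nat_lit 164864, nat_lit 163072, nat_lit 159424, nat_lit 155456, nat_lit 149328, nat_lit 144976, nat_lit 140764, nat_lit 137892, nat_lit 133336, nat_lit 738, nat_lit 5072, nat_lit 8824, nat_lit 13312, nat_lit 18400, nat_lit 20800, nat_lit 25344, nat_lit 29696, nat_lit 33792, nat_lit 41569, nat_lit 37258, nat_lit 32815, nat_lit 28673, nat_lit 25649, nat_lit 20750, nat_lit 16449, nat_lit 12291, nat_lit 4104]⟩⟩⟩,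
  ⟨[nat_lit 215, nat_lit 212, nat_lit 176, nat_lit 172, nat_lit 175], [], (nat_lit 486), ⟨[nat_lit 38, nat_lit 61], [nat_lit 78, nat_lit 64], ⟨[nat_lit 0x910d5baa6b858236b234480ae121e7], [nat_lit 175104, nat_lit 171520, nat_lit 166912, nat_lit 160128, nat_lit 156352, nat_lit 152064, nat_lit 149568, nat_lit 143864, nat_lit 139652, nat_lit 137592, nat_lit 135081, nat_lit 1014, nat_lit 5296, nat_lit 9696, nat_lit 12928, nat_lit 17216, nat_lit 21120, nat_lit 26112, nat_lit 28928, nat_lit 33280, nat_lit 37888, nat_lit 41762, nat_lit 38366, nat_lit 33927, nat_lit 28677, nat_lit 24623, nat_lit 20496, nat_lit 16385, nat_lit 12358, nat_lit 8193, nat_lit 4160, nat_lit 2]⟩⟩⟩]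
theorem sth94 : Suf thT 19005990 (ldrop (lapp thwr13 [1, 0, 1]) 55) (apW dcM pth93) (tgtN dcM pth93.e) := Suf.seg (l := lth94) (by decide +kernel) sth95
def lth93 : List AP := [⟨[nat_lit 225, nat_lit 226, nat_lit 664, nat_lit 226], [], (nat_lit 475), ⟨[nat_lit 0, nat_lit 38, nat_lit 63], [nat_lit 2, nat_lit 61], ⟨[nat_lit 0x242c7882e128daa3092e45573651f2], [nat_lit 168960, nat_lit 164352, nat_lit 160256, nat_lit 155904, nat_lit 152064, nat_lit 148528, nat_lit 144232, nat_lit 141064, nat_lit 136392, nat_lit 134014, nat_lit 5716, nat_lit 9840, nat_lit 14176, nat_lit 17248, nat_lit 21888, nat_lit 26496, nat_lit 29952, nat_lit 34304, nat_lit 41798, nat_lit 36868, nat_lit 33795, nat_lit 28799, nat_lit 24728, nat_lit 20490, nat_lit 16394, nat_lit 12291, nat_lit 8258, nat_lit 4104]⟩⟩⟩,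
  ⟨[nat_lit 657, nat_lit 144, nat_lit 144, nat_lit 139], [], (nat_lit 380), ⟨[nat_lit 0, nat_lit 27, nat_lit 65], [nat_lit 0, nat_lit 81, nat_lit 90], ⟨[nat_lit 0x6d19642ca4bd5cf88c309c84049d46], [nat_lit 173056, nat_lit 171008, nat_lit 166144, nat_lit 161920, nat_lit 158272, nat_lit 152768, nat_lit 149776, nat_lit 146464, nat_lit 141140, nat_lit 137252, nat_lit 132136, nat_lit 786, nat_lit 6104, nat_lit 9096, nat_lit 13648, nat_lit 17792, nat_lit 22464, nat_lit 26240, nat_lit 28928, nat_lit 33280, nat_lit 37888, nat_lit 40962, nat_lit 37250, nat_lit 32962, nat_lit 28766, nat_lit 24716, nat_lit 20497, nat_lit 16393, nat_lit 12309, nat_lit 8195, nat_lit 4097, nat_lit 2]⟩⟩⟩]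
theorem sth93 : Suf thT 19005990 (ldrop (lapp thwr13 [1, 0, 1]) 45) (apW dcM pth92) (tgtN dcM pth92.e) := Suf.seg (l := lth93) (by decide +kernel) sth94
def lth92 : List AP := [⟨[nat_lit 223, nat_lit 227], [], (nat_lit 553), ⟨[nat_lit 7, nat_lit 64], [nat_lit 17, nat_lit 54], ⟨[nat_lit 0xa62e15cc06cd63a4092aa8a863cf6], [nat_lit 174080, nat_lit 168960, nat_lit 164096, nat_lit 160384, nat_lit 158720, nat_lit 154592, nat_lit 149552, nat_lit 144480, nat_lit 143272, nat_lit 135224, nat_lit 134434, nat_lit 1488, nat_lit 4328, nat_lit 9928, nat_lit 13840, nat_lit 16480, nat_lit 22080, nat_lit 25216, nat_lit 28928, nat_lit 41670, nat_lit 38363, nat_lit 32797, nat_lit 28701, nat_lit 24620, nat_lit 20497, nat_lit 16397, nat_lit 12310, nat_lit 8193, nat_lit 4]⟩⟩⟩,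
  ⟨[nat_lit 229, nat_lit 666, nat_lit 262, nat_lit 224], [], (nat_lit 510), ⟨[nat_lit 8, nat_lit 57], [nat_lit 0, nat_lit 21, nat_lit 47], ⟨[nat_lit 0x75ccd09ec34d08b7c102501928cea5], [nat_lit 175104, nat_lit 168448, nat_lit 164608, nat_lit 163456, nat_lit 156672, nat_lit 153536, nat_lit 151312, nat_lit 145848, nat_lit 142908, nat_lit 138870, nat_lit 134218, nat_lit 1054, nat_lit 5900, nat_lit 9384, nat_lit 12800, nat_lit 17984, nat_lit 20544, nat_lit 25728, nat_lit 33792, nat_lit 41298, nat_lit 37354, nat_lit 33287, nat_lit 28723, nat_lit 24868, nat_lit 20613, nat_lit 16423, nat_lit 12352, nat_lit 8226, nat_lit 4128]⟩⟩⟩]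
theorem sth92 : Suf thT 19005990 (ldrop (lapp thwr13 [1, 0, 1]) 35) (apW dcM pth91) (tgtN dcM pth91.e) := Suf.seg (l := lth92) (by decide +kernel) sth93
def lth91 : List AP := [⟨[nat_lit 215, nat_lit 219, nat_lit 659, nat_lit 212], [], (nat_lit 486), ⟨[nat_lit 21, nat_lit 48], [nat_lit 0, nat_lit 82, nat_lit 91], ⟨[nat_lit 0x14125500910a246659afa3af59ace3], [nat_lit 173056, nat_lit 169472, nat_lit 164864, nat_lit 161280, nat_lit 156736, nat_lit 151968, nat_lit 147792, nat_lit 145128, nat_lit 141232, nat_lit 136254, nat_lit 134847, nat_lit 8, nat_lit 5276, nat_lit 10056, nat_lit 13904, nat_lit 17696, nat_lit 21440, nat_lit 25728, nat_lit 30208, nat_lit 33280, nat_lit 37888, nat_lit 41813, nat_lit 38300, nat_lit 34036, nat_lit 28716, nat_lit 25136, nat_lit 20505, nat_lit 16390, nat_lit 12323, nat_lit 8195]⟩⟩⟩,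
  ⟨[nat_lit 266, nat_lit 233, nat_lit 225], [], (nat_lit 512), ⟨[nat_lit 33, nat_lit 51], [nat_lit 76, nat_lit 60], ⟨[nat_lit 0x9244c992b01dc058a82d33dd445967], [nat_lit 168448, nat_lit 165376, nat_lit 160640, nat_lit 157120, nat_lit 152288, nat_lit 150528, nat_lit 144336, nat_lit 141164, nat_lit 135940, nat_lit 132166, nat_lit 1166, nat_lit 5064, nat_lit 9704, nat_lit 13840, nat_lit 16416, nat_lit 20736, nat_lit 24832, nat_lit 29952, nat_lit 34304, nat_lit 41832, nat_lit 38109, nat_lit 33310, nat_lit 29015, nat_lit 24624, nat_lit 20510, nat_lit 12326, nat_lit 8195]⟩⟩⟩]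
theorem sth91 : Suf thT 19005990 (ldrop (lapp thwr13 [1, 0, 1]) 29) (apW dcM pth90) (tgtN dcM pth90.e) := Suf.seg (l := lth91) (by decide +kernel) sth92
def lth90 : List AP := [⟨[nat_lit 355, nat_lit 352, nat_lit 353, nat_lit 351], [], (nat_lit 680), ⟨[nat_lit 16, nat_lit 91], [nat_lit 42, nat_lit 49], ⟨[nat_lit 0x9be8a821b6148910d4b730d6961c0e], [nat_lit 169472, nat_lit 166144, nat_lit 161024, nat_lit 156672, nat_lit 152192, nat_lit 148864, nat_lit 143520, nat_lit 139716, nat_lit 136104, nat_lit 131368, nat_lit 1972, nat_lit 5276, nat_lit 9904, nat_lit 13552, nat_lit 17472, nat_lit 21824, nat_lit 26112, nat_lit 30464, nat_lit 33280, nat_lit 41976, nat_lit 37905, nat_lit 32961, nat_lit 28790, nat_lit 24589, nat_lit 20637, nat_lit 16524, nat_lit 12304, nat_lit 8195, nat_lit 4100, nat_lit 2]⟩⟩⟩,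
  ⟨[nat_lit 225, nat_lit 664, nat_lit 228, nat_lit 259], [], (nat_lit 500), ⟨[nat_lit 0, nat_lit 76], [nat_lit 0, nat_lit 79, nat_lit 68], ⟨[nat_lit 0x228142b6660c06f3a056756f15c92c], [nat_lit 169472, nat_lit 167168, nat_lit 161792, nat_lit 158336, nat_lit 154688, nat_lit 148048, nat_lit 146280, nat_lit 142256, nat_lit 137058, nat_lit 134784, nat_lit 210, nat_lit 5572, nat_lit 9752, nat_lit 13552, nat_lit 17312, nat_lit 25856, nat_lit 34304, nat_lit 37888, nat_lit 41882, nat_lit 38164, nat_lit 33926, nat_lit 29286, nat_lit 24739, nat_lit 20491, nat_lit 16647, nat_lit 12293, nat_lit 8202, nat_lit 4100]⟩⟩⟩]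
theorem sth90 : Suf thT 19005990 (ldrop (lapp thwr13 [1, 0, 1]) 19) (apW dcM pth89) (tgtN dcM pth89.e) := Suf.seg (l := lth90) (by decide +kernel) sth91
def lth89 : List AP := [⟨[nat_lit 175, nat_lit 174, nat_lit 171, nat_lit 177], [], (nat_lit 600), ⟨[nat_lit 77, nat_lit 62], [nat_lit 39, nat_lit 52], ⟨[nat_lit 0x13aad23e2998e169218501e8652ee1], [nat_lit 175104, nat_lit 169984, nat_lit 166656, nat_lit 160384, nat_lit 157760, nat_lit 153792, nat_lit 148992, nat_lit 145592, nat_lit 139420, nat_lit 135812, nat_lit 131749, nat_lit 1142, nat_lit 5992, nat_lit 10192, nat_lit 13264, nat_lit 16544, nat_lit 21696, nat_lit 26112, nat_lit 30208, nat_lit 33280, nat_lit 37888, nat_lit 41857, nat_lit 36888, nat_lit 33817, nat_lit 28792, nat_lit 24630, nat_lit 20573, nat_lit 16392, nat_lit 12293, nat_lit 8203, nat_lit 4097, nat_lit 2]⟩⟩⟩,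
  ⟨[nat_lit 357, nat_lit 291, nat_lit 286, nat_lit 291], [], (nat_lit 1136), ⟨[nat_lit 9, nat_lit 69], [nat_lit 1, nat_lit 46], ⟨[nat_lit 0x40a744954c692b7b2e2333c01940ee], [nat_lit 164864, nat_lit 163456, nat_lit 157568, nat_lit 152352, nat_lit 147760, nat_lit 145328, nat_lit 141192, nat_lit 136862, nat_lit 131134, nat_lit 810, nat_lit 6068, nat_lit 10224, nat_lit 13952, nat_lit 17120, nat_lit 20608, nat_lit 25856, nat_lit 33280, nat_lit 37888, nat_lit 41192, nat_lit 37337, nat_lit 33489, nat_lit 28783, nat_lit 24741, nat_lit 16911, nat_lit 12354, nat_lit 8210, nat_lit 4113, nat_lit 2]⟩⟩⟩]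
theorem sth89 : Suf thT 19005990 (ldrop (lapp thwr13 [1, 0, 1]) 9) (apW dcM pth88) (tgtN dcM pth88.e) := Suf.seg (l := lth89) (by decide +kernel) sth90
def lth88 : List AP := [⟨[nat_lit 37, nat_lit 631, nat_lit 42, nat_lit 38, nat_lit 632, nat_lit 14], [], (nat_lit 150), ⟨[nat_lit 15, nat_lit 51], [nat_lit 31, nat_lit 47], ⟨[nat_lit 0xa3aef42633ad9ac11c812980392e0a], [nat_lit 175104, nat_lit 166912, nat_lit 162560, nat_lit 157952, nat_lit 152960, nat_lit 147520, nat_lit 145040, nat_lit 141628, nat_lit 138880, nat_lit 132695, nat_lit 724, nat_lit 5508, nat_lit 9752, nat_lit 17280, nat_lit 22272, nat_lit 25344, nat_lit 29696, nat_lit 33280, nat_lit 41282, nat_lit 37186, nat_lit 32860, nat_lit 28687, nat_lit 24581, nat_lit 20490, nat_lit 16646, nat_lit 12304]⟩⟩⟩,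
  ⟨[nat_lit 104, nat_lit 644, nat_lit 78, nat_lit 105, nat_lit 646, nat_lit 76], [], (nat_lit 534), ⟨[nat_lit 44, nat_lit 50], [nat_lit 84, nat_lit 56], ⟨[nat_lit 0x654342da4988a6eb920b33ce368148], [nat_lit 173056, nat_lit 170496, nat_lit 164608, nat_lit 161792, nat_lit 157184, nat_lit 155072, nat_lit 151440, nat_lit 147152, nat_lit 140460, nat_lit 135780, nat_lit 134715, nat_lit 952, nat_lit 5544, nat_lit 8680, nat_lit 12976, nat_lit 17312, nat_lit 20736, nat_lit 25472, nat_lit 34304, nat_lit 37888, nat_lit 41977, nat_lit 37121, nat_lit 32851, nat_lit 28774, nat_lit 24737, nat_lit 20481, nat_lit 16393, nat_lit 12292, nat_lit 8200]⟩⟩⟩]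
theorem thcr13_0 : Suf thT 19005990 (lapp thwr13 [1, 0, 1]) (apW dcM q0) (tgtN dcM q0.e) := Suf.seg (l := lth88) (by decide +kernel) sth89

def pth99 : AP := ⟨[nat_lit 262, nat_lit 264, nat_lit 666, nat_lit 259], [], (nat_lit 541), ⟨[nat_lit 74, nat_lit 51], [nat_lit 83, nat_lit 89], ⟨[nat_lit 0x50062740f7a924db3cb389a8c0ad09], [nat_lit 173056, nat_lit 168960, nat_lit 164864, nat_lit 161280, nat_lit 158336, nat_lit 153152, nat_lit 147968, nat_lit 145120, nat_lit 140028, nat_lit 137060, nat_lit 131965, nat_lit 434, nat_lit 4824, nat_lit 8928, nat_lit 12944, nat_lit 17472, nat_lit 21120, nat_lit 26368, nat_lit 29952, nat_lit 37888, nat_lit 41792, nat_lit 36957, nat_lit 32973, nat_lit 28768, nat_lit 24719, nat_lit 20484, nat_lit 16907, nat_lit 12290, nat_lit 8208, nat_lit 4100, nat_lit 64]⟩⟩⟩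
def pth100 : AP := ⟨[nat_lit 215, nat_lit 218, nat_lit 174, nat_lit 170], [], (nat_lit 406), ⟨[nat_lit 82, nat_lit 52], [nat_lit 31, nat_lit 64], ⟨[nat_lit 0x938089a5818de051d84652cf5a35e4], [nat_lit 174080, nat_lit 169472, nat_lit 165888, nat_lit 162560, nat_lit 158976, nat_lit 153376, nat_lit 149424, nat_lit 144456, nat_lit 141752, nat_lit 138254, nat_lit 132127, nat_lit 508, nat_lit 4780, nat_lit 8888, nat_lit 14144, nat_lit 17792, nat_lit 20736, nat_lit 25600, nat_lit 29696, nat_lit 33792, nat_lit 41380, nat_lit 37176, nat_lit 32810, nat_lit 28765, nat_lit 24737, nat_lit 20490, nat_lit 16393, nat_lit 12290, nat_lit 8259, nat_lit 4]⟩⟩⟩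
def pth101 : AP := ⟨[nat_lit 147, nat_lit 140, nat_lit 656, nat_lit 656, nat_lit 140], [], (nat_lit 738), ⟨[nat_lit 1, nat_lit 52], [nat_lit 24, nat_lit 91], ⟨[nat_lit 0xb1e22addc8481a39c18a348342156f], [nat_lit 175104, nat_lit 169472, nat_lit 164864, nat_lit 161664, nat_lit 159232, nat_lit 153760, nat_lit 150544, nat_lit 143520, nat_lit 142768, nat_lit 137160, nat_lit 134668, nat_lit 796, nat_lit 5296, nat_lit 8320, nat_lit 14192, nat_lit 16416, nat_lit 20608, nat_lit 26112, nat_lit 29952, nat_lit 41401, nat_lit 37037, nat_lit 33871, nat_lit 29021, nat_lit 24847, nat_lit 20509, nat_lit 16393, nat_lit 12289, nat_lit 8224, nat_lit 4097]⟩⟩⟩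
def pth102 : AP := ⟨[nat_lit 219], [], (nat_lit 392), ⟨[nat_lit 0, nat_lit 80, nat_lit 66], [nat_lit 0, nat_lit 22, nat_lit 61], ⟨[nat_lit 0x6c831ad80e5244cbc166a166838c8f], [nat_lit 170496, nat_lit 163584, nat_lit 155712, nat_lit 154432, nat_lit 149696, nat_lit 147088, nat_lit 140740, nat_lit 136274, nat_lit 133899, nat_lit 1488, nat_lit 4444, nat_lit 10168, nat_lit 14192, nat_lit 16640, nat_lit 21568, nat_lit 25728, nat_lit 29184, nat_lit 33792, nat_lit 41881, nat_lit 38097, nat_lit 32793, nat_lit 29763, nat_lit 24767, nat_lit 20572, nat_lit 16393, nat_lit 12290, nat_lit 8256, nat_lit 4105]⟩⟩⟩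
def pth103 : AP := ⟨[nat_lit 668, nat_lit 265, nat_lit 665, nat_lit 664], [], (nat_lit 681), ⟨[nat_lit 0, nat_lit 11, nat_lit 89], [nat_lit 82], ⟨[nat_lit 0x13da042ed55513784ce4185cc29a32], [nat_lit 173056, nat_lit 171520, nat_lit 167424, nat_lit 161920, nat_lit 158592, nat_lit 153216, nat_lit 150816, nat_lit 146176, nat_lit 141060, nat_lit 137242, nat_lit 131536, nat_lit 4568, nat_lit 9440, nat_lit 14256, nat_lit 18240, nat_lit 22080, nat_lit 26496, nat_lit 29696, nat_lit 37888, nat_lit 41512, nat_lit 37131, nat_lit 33497, nat_lit 28996, nat_lit 24859, nat_lit 21515, nat_lit 16514, nat_lit 12355, nat_lit 8210, nat_lit 32]⟩⟩⟩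
def pth104 : AP := ⟨[nat_lit 227, nat_lit 231, nat_lit 259, nat_lit 225], [], (nat_lit 1108), ⟨[nat_lit 19, nat_lit 61], [nat_lit 4, nat_lit 93], ⟨[nat_lit 0x4b5159048b70077a3ca611e0a8b2d3], [nat_lit 169472, nat_lit 165376, nat_lit 161408, nat_lit 157312, nat_lit 152224, nat_lit 149008, nat_lit 143760, nat_lit 139552, nat_lit 139194, nat_lit 131645, nat_lit 588, nat_lit 4340, nat_lit 8504, nat_lit 13248, nat_lit 16864, nat_lit 21568, nat_lit 26496, nat_lit 29952, nat_lit 34304, nat_lit 41969, nat_lit 37054, nat_lit 34047, nat_lit 28750, nat_lit 24758, nat_lit 20501, nat_lit 16416, nat_lit 12294, nat_lit 4097]⟩⟩⟩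
def pth105 : AP := ⟨[nat_lit 353, nat_lit 290, nat_lit 285, nat_lit 284], [], (nat_lit 1156), ⟨[nat_lit 79, nat_lit 91], [nat_lit 18, nat_lit 60], ⟨[nat_lit 0x429942a66219d7035de493a36036a1], [nat_lit 174080, nat_lit 167168, nat_lit 162816, nat_lit 159552, nat_lit 152736, nat_lit 148176, nat_lit 144912, nat_lit 141316, nat_lit 139240, nat_lit 132951, nat_lit 1760, nat_lit 5900, nat_lit 9664, nat_lit 13344, nat_lit 18048, nat_lit 21952, nat_lit 26240, nat_lit 29696, nat_lit 37888, nat_lit 41502, nat_lit 37321, nat_lit 32954, nat_lit 28944, nat_lit 24622, nat_lit 20548, nat_lit 16387, nat_lit 12291, nat_lit 8195, nat_lit 4100, nat_lit 2]⟩⟩⟩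
def pth106 : AP := ⟨[nat_lit 232, nat_lit 261, nat_lit 263], [], (nat_lit 699), ⟨[nat_lit 79, nat_lit 56], [nat_lit 0, nat_lit 72, nat_lit 57], ⟨[nat_lit 0x748942b277021af12ed58a60130cea], [nat_lit 173056, nat_lit 168960, nat_lit 167168, nat_lit 161408, nat_lit 156736, nat_lit 155136, nat_lit 151056, nat_lit 147168, nat_lit 142228, nat_lit 138604, nat_lit 132783, nat_lit 1580, nat_lit 4792, nat_lit 9096, nat_lit 13312, nat_lit 17056, nat_lit 21504, nat_lit 25728, nat_lit 34304, nat_lit 41688, nat_lit 37933, nat_lit 32977, nat_lit 28750, nat_lit 24631, nat_lit 20494, nat_lit 16388, nat_lit 12294, nat_lit 8194, nat_lit 4101]⟩⟩⟩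
def pth107 : AP := ⟨[nat_lit 262, nat_lit 665, nat_lit 229, nat_lit 667, nat_lit 222], [], (nat_lit 624), ⟨[nat_lit 0, nat_lit 85, nat_lit 89], [nat_lit 0, nat_lit 74, nat_lit 93], ⟨[nat_lit 0x55cc45d653b0c096510f0960e68a27], [nat_lit 175104, nat_lit 169984, nat_lit 164096, nat_lit 162432, nat_lit 159616, nat_lit 155040, nat_lit 149088, nat_lit 143608, nat_lit 140876, nat_lit 138118, nat_lit 134309, nat_lit 1694, nat_lit 5488, nat_lit 8704, nat_lit 12400, nat_lit 18336, nat_lit 21888, nat_lit 25728, nat_lit 30208, nat_lit 34304, nat_lit 41101, nat_lit 36877, nat_lit 32821, nat_lit 28749, nat_lit 24636, nat_lit 20509, nat_lit 16393, nat_lit 12294, nat_lit 8203, nat_lit 4105, nat_lit 2]⟩⟩⟩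
def pth108 : AP := ⟨[nat_lit 464, nat_lit 410, nat_lit 421, nat_lit 677, nat_lit 412], [], (nat_lit 1242), ⟨[nat_lit 45, nat_lit 49], [nat_lit 0, nat_lit 79, nat_lit 64], ⟨[nat_lit 0x2d121b5913a9d5a403699482b992f], [nat_lit 173056, nat_lit 168960, nat_lit 167424, nat_lit 162944, nat_lit 158784, nat_lit 155456, nat_lit 147824, nat_lit 146000, nat_lit 142392, nat_lit 136324, nat_lit 133610, nat_lit 1668, nat_lit 4780, nat_lit 9216, nat_lit 13712, nat_lit 18144, nat_lit 22208, nat_lit 24832, nat_lit 29440, nat_lit 41881, nat_lit 38194, nat_lit 34029, nat_lit 29186, nat_lit 24877, nat_lit 20624, nat_lit 16397, nat_lit 8208, nat_lit 4097]⟩⟩⟩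
def lth109 : List AP := [⟨[nat_lit 290, nat_lit 292], [], (nat_lit 1222), ⟨[nat_lit 7, nat_lit 50], [nat_lit 2, nat_lit 64], ⟨[nat_lit 0x43943bc4cb151f59d8e901185941a1], [nat_lit 173056, nat_lit 169984, nat_lit 161152, nat_lit 156608, nat_lit 152032, nat_lit 149248, nat_lit 144600, nat_lit 139472, nat_lit 135452, nat_lit 131073, nat_lit 494, nat_lit 4608, nat_lit 9080, nat_lit 16704, nat_lit 21952, nat_lit 24704, nat_lit 29184, nat_lit 33280, nat_lit 37888, nat_lit 41936, nat_lit 34030, nat_lit 28742, nat_lit 24732, nat_lit 20758, nat_lit 16458, nat_lit 12320, nat_lit 8322, nat_lit 4097, nat_lit 2]⟩⟩⟩,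
  ⟨[nat_lit 73, nat_lit 53], [], (nat_lit 122), ⟨[nat_lit 38, nat_lit 69], [nat_lit 2, nat_lit 55], ⟨[nat_lit 0x4244a836a7584038d8cfb91d2a30b3], [nat_lit 173056, nat_lit 167168, nat_lit 163072, nat_lit 159616, nat_lit 153888, nat_lit 147808, nat_lit 146744, nat_lit 142996, nat_lit 136840, nat_lit 133442, nat_lit 718, nat_lit 5024, nat_lit 8728, nat_lit 13696, nat_lit 17984, nat_lit 22464, nat_lit 26496, nat_lit 33792, nat_lit 41299, nat_lit 37174, nat_lit 32939, nat_lit 28783, nat_lit 24765, nat_lit 20617, nat_lit 16449, nat_lit 12420, nat_lit 8193, nat_lit 4097, nat_lit 2]⟩⟩⟩,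
  ⟨[nat_lit 14, nat_lit 36], [], (nat_lit 1032), ⟨[nat_lit 85, nat_lit 47], [nat_lit 8, nat_lit 47], ⟨[nat_lit 0x4a2b312dc66b2d1916e72280f85023], [nat_lit 173056, nat_lit 170496, nat_lit 167680, nat_lit 163072, nat_lit 159360, nat_lit 152736, nat_lit 150704, nat_lit 146064, nat_lit 140540, nat_lit 137298, nat_lit 132101, nat_lit 582, nat_lit 4128, nat_lit 8768, nat_lit 13232, nat_lit 17536, nat_lit 22336, nat_lit 25600, nat_lit 41951, nat_lit 36990, nat_lit 33980, nat_lit 29810, nat_lit 24586, nat_lit 20499, nat_lit 16386, nat_lit 12290, nat_lit 8323, nat_lit 4100, nat_lit 32]⟩⟩⟩]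
theorem sth109 : Suf thT 19005990 (ldrop (lapp thwr13 [2, 0, 1]) 91) (apW dcM pth108) (tgtN dcM pth108.e) := Suf.fin' (l := lth109) (by decide +kernel)
def lth108 : List AP := [⟨[nat_lit 672, nat_lit 673, nat_lit 354], [], (nat_lit 792), ⟨[nat_lit 0, nat_lit 7, nat_lit 70], [nat_lit 31, nat_lit 94], ⟨[nat_lit 0x43e76a355030ef55a4a1882471308e], [nat_lit 166144, nat_lit 163584, nat_lit 158976, nat_lit 153792, nat_lit 147968, nat_lit 146528, nat_lit 142088, nat_lit 135882, nat_lit 133368, nat_lit 1624, nat_lit 4396, nat_lit 10144, nat_lit 13376, nat_lit 18336, nat_lit 21632, nat_lit 25344, nat_lit 28928, nat_lit 33280, nat_lit 37888, nat_lit 41484, nat_lit 37106, nat_lit 33019, nat_lit 29006, nat_lit 24629, nat_lit 20545, nat_lit 16398, nat_lit 12311, nat_lit 8195, nat_lit 4100]⟩⟩⟩,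
  ⟨[nat_lit 355, nat_lit 357, nat_lit 284, nat_lit 284], [], (nat_lit 874), ⟨[nat_lit 18, nat_lit 53], [nat_lit 0, nat_lit 45, nat_lit 61], ⟨[nat_lit 0xbade071e2d49a482c022a58931d58a], [nat_lit 175104, nat_lit 164352, nat_lit 162560, nat_lit 155840, nat_lit 153312, nat_lit 150912, nat_lit 146352, nat_lit 141964, nat_lit 137584, nat_lit 133715, nat_lit 1580, nat_lit 4404, nat_lit 8824, nat_lit 13392, nat_lit 18112, nat_lit 22272, nat_lit 25856, nat_lit 29184, nat_lit 41682, nat_lit 37039, nat_lit 32899, nat_lit 29052, nat_lit 24622, nat_lit 20506, nat_lit 12325, nat_lit 4104, nat_lit 2]⟩⟩⟩]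
theorem sth108 : Suf thT 19005990 (ldrop (lapp thwr13 [2, 0, 1]) 81) (apW dcM pth107) (tgtN dcM pth107.e) := Suf.seg (l := lth108) (by decide +kernel) sth109
def lth107 : List AP := [⟨[nat_lit 355, nat_lit 669, nat_lit 289], [], (nat_lit 792), ⟨[nat_lit 0, nat_lit 46], [nat_lit 0, nat_lit 83, nat_lit 60], ⟨[nat_lit 0x7a1a271a1790d330a8a4650f1056cb], [nat_lit 175104, nat_lit 164096, nat_lit 155712, nat_lit 152192, nat_lit 148576, nat_lit 144440, nat_lit 139892, nat_lit 136258, nat_lit 132034, nat_lit 354, nat_lit 6104, nat_lit 10112, nat_lit 12976, nat_lit 17888, nat_lit 21056, nat_lit 25216, nat_lit 29952, nat_lit 33792, nat_lit 37888, nat_lit 41440, nat_lit 37312, nat_lit 33392, nat_lit 29053, nat_lit 24722, nat_lit 20756, nat_lit 16463, nat_lit 12291, nat_lit 8225, nat_lit 4097, nat_lit 2]⟩⟩⟩,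
  ⟨[nat_lit 670, nat_lit 291, nat_lit 291, nat_lit 292], [], (nat_lit 1136), ⟨[nat_lit 0, nat_lit 85, nat_lit 93], [nat_lit 42, nat_lit 50], ⟨[nat_lit 0x8b260412901baf6698e113d2b554b2], [nat_lit 173056, nat_lit 168960, nat_lit 165632, nat_lit 159872, nat_lit 157120, nat_lit 153504, nat_lit 151456, nat_lit 145080, nat_lit 135866, nat_lit 132058, nat_lit 1762, nat_lit 4952, nat_lit 9880, nat_lit 13376, nat_lit 16512, nat_lit 20928, nat_lit 24704, nat_lit 34304, nat_lit 37888, nat_lit 41720, nat_lit 37360, nat_lit 32778, nat_lit 28694, nat_lit 24592, nat_lit 20491, nat_lit 16386, nat_lit 12322, nat_lit 8323, nat_lit 4112, nat_lit 4]⟩⟩⟩]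
theorem sth107 : Suf thT 19005990 (ldrop (lapp thwr13 [2, 0, 1]) 71) (apW dcM pth106) (tgtN dcM pth106.e) := Suf.seg (l := lth107) (by decide +kernel) sth108
def lth106 : List AP := [⟨[nat_lit 295, nat_lit 669, nat_lit 671, nat_lit 669], [], (nat_lit 1172), ⟨[nat_lit 0, nat_lit 25, nat_lit 59], [nat_lit 0, nat_lit 30, nat_lit 67], ⟨[nat_lit 0x4b96809e1730ab31d0b205a245358f], [nat_lit 174080, nat_lit 163200, nat_lit 156160, nat_lit 153504, nat_lit 149520, nat_lit 146112, nat_lit 143256, nat_lit 138460, nat_lit 133729, nat_lit 1014, nat_lit 5716, nat_lit 8992, nat_lit 12448, nat_lit 18368, nat_lit 21504, nat_lit 26240, nat_lit 29696, nat_lit 41906, nat_lit 37257, nat_lit 32841, nat_lit 29248, nat_lit 24638, nat_lit 20567, nat_lit 16393, nat_lit 12292, nat_lit 8194, nat_lit 4097]⟩⟩⟩,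
  ⟨[nat_lit 664, nat_lit 233, nat_lit 667, nat_lit 259, nat_lit 223], [], (nat_lit 544), ⟨[nat_lit 0, nat_lit 77, nat_lit 46], [nat_lit 73, nat_lit 59], ⟨[nat_lit 0x59d2354aed84ca2a1036301cc7c6a8], [nat_lit 169472, nat_lit 164352, nat_lit 160896, nat_lit 157376, nat_lit 152032, nat_lit 149120, nat_lit 144664, nat_lit 139316, nat_lit 136244, nat_lit 132949, nat_lit 2018, nat_lit 4156, nat_lit 9648, nat_lit 14176, nat_lit 18208, nat_lit 22336, nat_lit 25984, nat_lit 29184, nat_lit 33280, nat_lit 41743, nat_lit 37195, nat_lit 33532, nat_lit 28979, nat_lit 25112, nat_lit 20488, nat_lit 16449, nat_lit 8320, nat_lit 4113, nat_lit 2]⟩⟩⟩]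
theorem sth106 : Suf thT 19005990 (ldrop (lapp thwr13 [2, 0, 1]) 65) (apW dcM pth105) (tgtN dcM pth105.e) := Suf.seg (l := lth106) (by decide +kernel) sth107
def lth105 : List AP := [⟨[nat_lit 478, nat_lit 484, nat_lit 511, nat_lit 679, nat_lit 483], [], (nat_lit 992), ⟨[nat_lit 14, nat_lit 60], [nat_lit 32, nat_lit 50], ⟨[nat_lit 0x3410e2324b0ced1bbc4d0512a3d465], [nat_lit 173056, nat_lit 168448, nat_lit 165888, nat_lit 160640, nat_lit 157376, nat_lit 154048, nat_lit 150912, nat_lit 147296, nat_lit 142508, nat_lit 137838, nat_lit 132610, nat_lit 1634, nat_lit 4404, nat_lit 8824, nat_lit 12416, nat_lit 16864, nat_lit 21504, nat_lit 25984, nat_lit 29952, nat_lit 34304, nat_lit 41898, nat_lit 37258, nat_lit 32977, nat_lit 28696, nat_lit 24636, nat_lit 20570, nat_lit 16395, nat_lit 12295, nat_lit 8200, nat_lit 4]⟩⟩⟩,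
  ⟨[nat_lit 673, nat_lit 354, nat_lit 669, nat_lit 290, nat_lit 284], [], (nat_lit 668), ⟨[nat_lit 8, nat_lit 91], [nat_lit 30, nat_lit 89], ⟨[nat_lit 0x7a93369e25220151d1661402e95997], [nat_lit 175104, nat_lit 168448, nat_lit 165632, nat_lit 163200, nat_lit 157056, nat_lit 151648, nat_lit 150656, nat_lit 147352, nat_lit 143296, nat_lit 137594, nat_lit 134681, nat_lit 1354, nat_lit 4328, nat_lit 9928, nat_lit 14096, nat_lit 16544, nat_lit 22080, nat_lit 26496, nat_lit 33280, nat_lit 41421, nat_lit 36877, nat_lit 33984, nat_lit 28759, nat_lit 24730, nat_lit 20496, nat_lit 16417, nat_lit 12293, nat_lit 8194, nat_lit 4097, nat_lit 2]⟩⟩⟩]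
theorem sth105 : Suf thT 19005990 (ldrop (lapp thwr13 [2, 0, 1]) 55) (apW dcM pth104) (tgtN dcM pth104.e) := Suf.seg (l := lth105) (by decide +kernel) sth106
def lth104 : List AP := [⟨[nat_lit 294, nat_lit 357, nat_lit 351, nat_lit 289], [], (nat_lit 816), ⟨[nat_lit 73, nat_lit 55], [nat_lit 0, nat_lit 42, nat_lit 56], ⟨[nat_lit 0x45e693445586c3721953913482af3], [nat_lit 173056, nat_lit 168960, nat_lit 166400, nat_lit 163584, nat_lit 157888, nat_lit 155616, nat_lit 148080, nat_lit 146608, nat_lit 141876, nat_lit 136660, nat_lit 133936, nat_lit 526, nat_lit 4964, nat_lit 9560, nat_lit 13712, nat_lit 16768, nat_lit 21120, nat_lit 24704, nat_lit 29696, nat_lit 33280, nat_lit 37888, nat_lit 41823, nat_lit 38364, nat_lit 33829, nat_lit 28781, nat_lit 24591, nat_lit 20610, nat_lit 16645, nat_lit 12295, nat_lit 8201, nat_lit 4100, nat_lit 8]⟩⟩⟩,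
  ⟨[nat_lit 672, nat_lit 295, nat_lit 672, nat_lit 287], [], (nat_lit 1132), ⟨[nat_lit 0, nat_lit 10, nat_lit 51], [nat_lit 42, nat_lit 92], ⟨[nat_lit 0x6c64299eaba5c6e85888505892bc06], [nat_lit 174080, nat_lit 169472, nat_lit 164352, nat_lit 161792, nat_lit 156992, nat_lit 151680, nat_lit 150928, nat_lit 145728, nat_lit 142944, nat_lit 137552, nat_lit 134085, nat_lit 158, nat_lit 5276, nat_lit 10088, nat_lit 12752, nat_lit 17952, nat_lit 21760, nat_lit 25472, nat_lit 29696, nat_lit 33792, nat_lit 37888, nat_lit 41559, nat_lit 36916, nat_lit 32769, nat_lit 28707, nat_lit 24607, nat_lit 20638, nat_lit 16422, nat_lit 12306, nat_lit 8224]⟩⟩⟩]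
theorem sth104 : Suf thT 19005990 (ldrop (lapp thwr13 [2, 0, 1]) 45) (apW dcM pth103) (tgtN dcM pth103.e) := Suf.seg (l := lth104) (by decide +kernel) sth105
def lth103 : List AP := [⟨[nat_lit 219, nat_lit 661, nat_lit 175, nat_lit 216], [], (nat_lit 394), ⟨[nat_lit 31, nat_lit 48], [nat_lit 73, nat_lit 93], ⟨[nat_lit 0x7a512ac1d60aa878948c68873bac06], [nat_lit 173056, nat_lit 169472, nat_lit 160768, nat_lit 158720, nat_lit 152768, nat_lit 148608, nat_lit 145136, nat_lit 140260, nat_lit 136184, nat_lit 131715, nat_lit 1024, nat_lit 6104, nat_lit 9328, nat_lit 12976, nat_lit 18240, nat_lit 21952, nat_lit 25600, nat_lit 28928, nat_lit 33280, nat_lit 41396, nat_lit 36996, nat_lit 33826, nat_lit 29038, nat_lit 24585, nat_lit 20632, nat_lit 16527, nat_lit 12356, nat_lit 8203, nat_lit 4101, nat_lit 2]⟩⟩⟩,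
  ⟨[nat_lit 655, nat_lit 142, nat_lit 143, nat_lit 140, nat_lit 146], [], (nat_lit 474), ⟨[nat_lit 0, nat_lit 14, nat_lit 58], [nat_lit 71, nat_lit 69], ⟨[nat_lit 0x7ba88606055d8e64cef10124d18aaa], [nat_lit 168960, nat_lit 165376, nat_lit 159872, nat_lit 157568, nat_lit 152480, nat_lit 148736, nat_lit 145008, nat_lit 139732, nat_lit 137258, nat_lit 131659, nat_lit 1808, nat_lit 4596, nat_lit 8200, nat_lit 14064, nat_lit 16864, nat_lit 20672, nat_lit 24704, nat_lit 33792, nat_lit 41534, nat_lit 37326, nat_lit 32782, nat_lit 29248, nat_lit 25088, nat_lit 21520, nat_lit 16395, nat_lit 12309, nat_lit 8200, nat_lit 4101]⟩⟩⟩]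
theorem sth103 : Suf thT 19005990 (ldrop (lapp thwr13 [2, 0, 1]) 35) (apW dcM pth102) (tgtN dcM pth102.e) := Suf.seg (l := lth103) (by decide +kernel) sth104
def lth102 : List AP := [⟨[nat_lit 284, nat_lit 672, nat_lit 293, nat_lit 284], [], (nat_lit 688), ⟨[nat_lit 8, nat_lit 50], [nat_lit 21, nat_lit 51], ⟨[nat_lit 0x526219d2c0792eb80cc7a950e6c982], [nat_lit 169472, nat_lit 165632, nat_lit 161280, nat_lit 155392, nat_lit 148416, nat_lit 145328, nat_lit 140724, nat_lit 137124, nat_lit 131503, nat_lit 488, nat_lit 4380, nat_lit 12560, nat_lit 18304, nat_lit 26368, nat_lit 29696, nat_lit 37888, nat_lit 41120, nat_lit 37361, nat_lit 32987, nat_lit 29051, nat_lit 24601, nat_lit 20494, nat_lit 16388, nat_lit 12323, nat_lit 8201, nat_lit 8]⟩⟩⟩,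
  ⟨[nat_lit 355, nat_lit 295, nat_lit 295, nat_lit 288], [], (nat_lit 678), ⟨[nat_lit 50], [nat_lit 0, nat_lit 41, nat_lit 92], ⟨[nat_lit 0x624417d6e872c85b0e66549b1a4007], [nat_lit 175104, nat_lit 171520, nat_lit 164864, nat_lit 163328, nat_lit 159360, nat_lit 154208, nat_lit 148480, nat_lit 144064, nat_lit 139872, nat_lit 137920, nat_lit 134173, nat_lit 1246, nat_lit 5856, nat_lit 8824, nat_lit 13920, nat_lit 16832, nat_lit 22144, nat_lit 24832, nat_lit 29696, nat_lit 33792, nat_lit 37888, nat_lit 41285, nat_lit 37358, nat_lit 32837, nat_lit 29240, nat_lit 24581, nat_lit 20487, nat_lit 16515, nat_lit 12803, nat_lit 8193, nat_lit 4]⟩⟩⟩]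
theorem sth102 : Suf thT 19005990 (ldrop (lapp thwr13 [2, 0, 1]) 29) (apW dcM pth101) (tgtN dcM pth101.e) := Suf.seg (l := lth102) (by decide +kernel) sth103
def lth101 : List AP := [⟨[nat_lit 149, nat_lit 655, nat_lit 141], [], (nat_lit 376), ⟨[nat_lit 11, nat_lit 90], [nat_lit 21, nat_lit 90], ⟨[nat_lit 0x480ac9d8875a21514877a39b1504cf], [nat_lit 173056, nat_lit 171520, nat_lit 163712, nat_lit 156736, nat_lit 155104, nat_lit 149680, nat_lit 147392, nat_lit 140668, nat_lit 136476, nat_lit 133695, nat_lit 1488, nat_lit 5120, nat_lit 8504, nat_lit 12704, nat_lit 18016, nat_lit 21056, nat_lit 25728, nat_lit 30208, nat_lit 34304, nat_lit 37888, nat_lit 41893, nat_lit 36985, nat_lit 32916, nat_lit 29016, nat_lit 24606, nat_lit 21014, nat_lit 16455, nat_lit 12290, nat_lit 8224, nat_lit 4100]⟩⟩⟩,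
  ⟨[nat_lit 662, nat_lit 217, nat_lit 181, nat_lit 170], [], (nat_lit 386), ⟨[nat_lit 18, nat_lit 54], [nat_lit 0, nat_lit 79, nat_lit 48], ⟨[nat_lit 0x1cda8b008161a8e85e274bc525d545], [nat_lit 173056, nat_lit 168960, nat_lit 164864, nat_lit 160000, nat_lit 156736, nat_lit 151584, nat_lit 149104, nat_lit 143872, nat_lit 141024, nat_lit 136682, nat_lit 134205, nat_lit 128, nat_lit 5904, nat_lit 8560, nat_lit 13376, nat_lit 18176, nat_lit 22336, nat_lit 26112, nat_lit 28928, nat_lit 37888, nat_lit 41961, nat_lit 37009, nat_lit 33022, nat_lit 28725, nat_lit 24877, nat_lit 20628, nat_lit 16450, nat_lit 12291, nat_lit 8323]⟩⟩⟩]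
theorem sth101 : Suf thT 19005990 (ldrop (lapp thwr13 [2, 0, 1]) 19) (apW dcM pth100) (tgtN dcM pth100.e) := Suf.seg (l := lth101) (by decide +kernel) sth102
def lth100 : List AP := [⟨[nat_lit 263, nat_lit 665, nat_lit 231, nat_lit 665], [], (nat_lit 488), ⟨[nat_lit 0, nat_lit 20, nat_lit 67], [nat_lit 28, nat_lit 90], ⟨[nat_lit 0x9263499c6c2402eb3d6da8048b9546], [nat_lit 174080, nat_lit 162048, nat_lit 157120, nat_lit 152992, nat_lit 151024, nat_lit 146832, nat_lit 142856, nat_lit 138370, nat_lit 133402, nat_lit 158, nat_lit 4964, nat_lit 9992, nat_lit 13008, nat_lit 17600, nat_lit 21504, nat_lit 26368, nat_lit 28928, nat_lit 33792, nat_lit 41258, nat_lit 36889, nat_lit 32974, nat_lit 29011, nat_lit 24837, nat_lit 20481, nat_lit 16524, nat_lit 12357, nat_lit 8203, nat_lit 4104]⟩⟩⟩,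
  ⟨[nat_lit 141, nat_lit 147, nat_lit 140, nat_lit 147], [], (nat_lit 380), ⟨[nat_lit 2, nat_lit 56], [nat_lit 0, nat_lit 33, nat_lit 53], ⟨[nat_lit 0x79901896e7225c38554b04e826cacc], [nat_lit 173056, nat_lit 169472, nat_lit 165632, nat_lit 162688, nat_lit 156864, nat_lit 152320, nat_lit 149424, nat_lit 145136, nat_lit 140292, nat_lit 135186, nat_lit 131466, nat_lit 902, nat_lit 4540, nat_lit 9168, nat_lit 12896, nat_lit 17216, nat_lit 22016, nat_lit 25728, nat_lit 30208, nat_lit 33280, nat_lit 41769, nat_lit 36927, nat_lit 34015, nat_lit 28704, nat_lit 24847, nat_lit 20567, nat_lit 16388, nat_lit 12321, nat_lit 8203, nat_lit 4097, nat_lit 2]⟩⟩⟩]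
theorem sth100 : Suf thT 19005990 (ldrop (lapp thwr13 [2, 0, 1]) 9) (apW dcM pth99) (tgtN dcM pth99.e) := Suf.seg (l := lth100) (by decide +kernel) sth101
def lth99 : List AP := [⟨[nat_lit 14, nat_lit 37, nat_lit 630, nat_lit 43, nat_lit 632, nat_lit 16], [], (nat_lit 150), ⟨[nat_lit 13, nat_lit 57], [nat_lit 0, nat_lit 88, nat_lit 48], ⟨[nat_lit 0x394c9959e3036f088aac752614114b], [nat_lit 170496, nat_lit 164352, nat_lit 161920, nat_lit 156544, nat_lit 154848, nat_lit 149680, nat_lit 145920, nat_lit 139636, nat_lit 136886, nat_lit 134757, nat_lit 354, nat_lit 5544, nat_lit 8312, nat_lit 13472, nat_lit 18272, nat_lit 22080, nat_lit 25472, nat_lit 33280, nat_lit 41203, nat_lit 37211, nat_lit 33414, nat_lit 28774, nat_lit 24635, nat_lit 20485, nat_lit 16393, nat_lit 12306, nat_lit 8226]⟩⟩⟩,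
  ⟨[nat_lit 81, nat_lit 102, nat_lit 101, nat_lit 76, nat_lit 80], [], (nat_lit 534), ⟨[nat_lit 71, nat_lit 51], [nat_lit 0, nat_lit 76, nat_lit 48], ⟨[nat_lit 0x114c3204e09cab48c2d75bd0c4b94d], [nat_lit 173056, nat_lit 164864, nat_lit 161280, nat_lit 157504, nat_lit 152736, nat_lit 149264, nat_lit 143392, nat_lit 139948, nat_lit 138774, nat_lit 131598, nat_lit 494, nat_lit 5884, nat_lit 9352, nat_lit 12608, nat_lit 17824, nat_lit 21440, nat_lit 30208, nat_lit 33280, nat_lit 37888, nat_lit 41534, nat_lit 38201, nat_lit 33470, nat_lit 28758, nat_lit 24755, nat_lit 20571, nat_lit 16388, nat_lit 12292, nat_lit 8202, nat_lit 4097]⟩⟩⟩]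
theorem thcr13_1 : Suf thT 19005990 (lapp thwr13 [2, 0, 1]) (iC2 :: apW dcM q0) (tgtN dcM q0.e) := Suf.seg (l := lth99) (by decide +kernel) sth100

def pth110 : AP := ⟨[nat_lit 480, nat_lit 482, nat_lit 487, nat_lit 510, nat_lit 487], [], (nat_lit 984), ⟨[nat_lit 35, nat_lit 91], [nat_lit 0, nat_lit 80, nat_lit 94], ⟨[nat_lit 0x99d2875943916f5830cf6ac1424422], [nat_lit 171520, nat_lit 165632, nat_lit 163712, nat_lit 157056, nat_lit 155072, nat_lit 151264, nat_lit 146288, nat_lit 139268, nat_lit 136306, nat_lit 133379, nat_lit 700, nat_lit 4100, nat_lit 8704, nat_lit 12304, nat_lit 16416, nat_lit 20736, nat_lit 26112, nat_lit 29440, nat_lit 33280, nat_lit 41675, nat_lit 37973, nat_lit 32861, nat_lit 28712, nat_lit 24864, nat_lit 20568, nat_lit 16456, nat_lit 12352, nat_lit 8193, nat_lit 4097]⟩⟩⟩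
def pth111 : AP := ⟨[nat_lit 294, nat_lit 356, nat_lit 289, nat_lit 671], [], (nat_lit 648), ⟨[nat_lit 20, nat_lit 57], [nat_lit 0, nat_lit 83, nat_lit 94], ⟨[nat_lit 0x33a0c6d429a5e279804524968b29e3], [nat_lit 174080, nat_lit 170496, nat_lit 164096, nat_lit 162944, nat_lit 159360, nat_lit 154720, nat_lit 147728, nat_lit 145120, nat_lit 139272, nat_lit 139002, nat_lit 133971, nat_lit 1770, nat_lit 4920, nat_lit 9208, nat_lit 13920, nat_lit 18048, nat_lit 22336, nat_lit 26240, nat_lit 30208, nat_lit 34304, nat_lit 41769, nat_lit 38234, nat_lit 32937, nat_lit 28683, nat_lit 25116, nat_lit 20503, nat_lit 16430, nat_lit 12307, nat_lit 8227, nat_lit 4105]⟩⟩⟩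
def pth112 : AP := ⟨[nat_lit 142, nat_lit 144, nat_lit 143, nat_lit 655, nat_lit 143], [], (nat_lit 1058), ⟨[nat_lit 0, nat_lit 23, nat_lit 51], [nat_lit 85, nat_lit 62], ⟨[nat_lit 0x6c562b95281c1eaa00243d672b30ce], [nat_lit 173056, nat_lit 168448, nat_lit 164352, nat_lit 163072, nat_lit 157376, nat_lit 153152, nat_lit 148304, nat_lit 144112, nat_lit 140032, nat_lit 136218, nat_lit 131199, nat_lit 1292, nat_lit 5436, nat_lit 9136, nat_lit 13760, nat_lit 17312, nat_lit 21376, nat_lit 26496, nat_lit 29696, nat_lit 37888, nat_lit 41459, nat_lit 36890, nat_lit 33859, nat_lit 28687, nat_lit 25651, nat_lit 20740, nat_lit 16420, nat_lit 12418, nat_lit 8203, nat_lit 4100, nat_lit 8]⟩⟩⟩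
def pth113 : AP := ⟨[nat_lit 355, nat_lit 670, nat_lit 284], [], (nat_lit 780), ⟨[nat_lit 9, nat_lit 56], [nat_lit 0, nat_lit 10, nat_lit 65], ⟨[nat_lit 0x5a88dad1e7022f04cc56915d108d86], [nat_lit 173056, nat_lit 168960, nat_lit 164608, nat_lit 160896, nat_lit 157440, nat_lit 154592, nat_lit 149392, nat_lit 143792, nat_lit 139744, nat_lit 136484, nat_lit 132131, nat_lit 1516, nat_lit 4380, nat_lit 8464, nat_lit 12320, nat_lit 17216, nat_lit 21504, nat_lit 25600, nat_lit 30208, nat_lit 37888, nat_lit 41632, nat_lit 37224, nat_lit 33293, nat_lit 28676, nat_lit 24858, nat_lit 20481, nat_lit 16463, nat_lit 12294, nat_lit 8202, nat_lit 32]⟩⟩⟩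
def pth114 : AP := ⟨[nat_lit 286, nat_lit 669, nat_lit 357, nat_lit 291], [], (nat_lit 1126), ⟨[nat_lit 87, nat_lit 55], [nat_lit 0, nat_lit 79, nat_lit 49], ⟨[nat_lit 0xa1da5b040f32c7124849429d764e15], [nat_lit 173056, nat_lit 168960, nat_lit 165120, nat_lit 161536, nat_lit 155712, nat_lit 152256, nat_lit 147888, nat_lit 143864, nat_lit 140512, nat_lit 138222, nat_lit 131751, nat_lit 1760, nat_lit 4160, nat_lit 9384, nat_lit 13280, nat_lit 17792, nat_lit 21952, nat_lit 25728, nat_lit 30208, nat_lit 33792, nat_lit 37888, nat_lit 41905, nat_lit 37970, nat_lit 33391, nat_lit 29042, nat_lit 24586, nat_lit 20636, nat_lit 16399, nat_lit 12307, nat_lit 8193]⟩⟩⟩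
def pth115 : AP := ⟨[nat_lit 262, nat_lit 226, nat_lit 667, nat_lit 225], [], (nat_lit 618), ⟨[nat_lit 0, nat_lit 13, nat_lit 67], [nat_lit 75, nat_lit 51], ⟨[nat_lit 0x5ba0d2b0777903614809ac514328f3], [nat_lit 168448, nat_lit 166144, nat_lit 160640, nat_lit 157376, nat_lit 154976, nat_lit 150256, nat_lit 145448, nat_lit 142808, nat_lit 138646, nat_lit 131117, nat_lit 880, nat_lit 5100, nat_lit 9560, nat_lit 13904, nat_lit 17120, nat_lit 22464, nat_lit 25472, nat_lit 29440, nat_lit 33792, nat_lit 41586, nat_lit 37258, nat_lit 33000, nat_lit 28954, nat_lit 24639, nat_lit 20503, nat_lit 16386, nat_lit 12357, nat_lit 8193, nat_lit 4105]⟩⟩⟩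
def pth116 : AP := ⟨[nat_lit 666, nat_lit 666, nat_lit 226, nat_lit 233], [], (nat_lit 610), ⟨[nat_lit 0, nat_lit 74], [nat_lit 72, nat_lit 65], ⟨[nat_lit 0x1217625cc12a9d049d92681f59d223], [nat_lit 175104, nat_lit 168448, nat_lit 157760, nat_lit 154304, nat_lit 151136, nat_lit 144968, nat_lit 141316, nat_lit 135390, nat_lit 134011, nat_lit 1148, nat_lit 5168, nat_lit 9864, nat_lit 12800, nat_lit 17408, nat_lit 21056, nat_lit 29440, nat_lit 34304, nat_lit 37888, nat_lit 41916, nat_lit 36873, nat_lit 33973, nat_lit 29725, nat_lit 24635, nat_lit 20575, nat_lit 16453, nat_lit 12290, nat_lit 8211, nat_lit 4105]⟩⟩⟩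
def pth117 : AP := ⟨[nat_lit 665, nat_lit 666, nat_lit 260, nat_lit 233], [], (nat_lit 610), ⟨[nat_lit 31, nat_lit 70], [nat_lit 0, nat_lit 31, nat_lit 65], ⟨[nat_lit 0x79507344379416d4880e62ab69d083], [nat_lit 173056, nat_lit 171520, nat_lit 164608, nat_lit 156224, nat_lit 151680, nat_lit 149136, nat_lit 145144, nat_lit 140832, nat_lit 136670, nat_lit 132878, nat_lit 582, nat_lit 4332, nat_lit 9976, nat_lit 12800, nat_lit 16896, nat_lit 22208, nat_lit 25728, nat_lit 29696, nat_lit 37888, nat_lit 41453, nat_lit 36886, nat_lit 32972, nat_lit 28765, nat_lit 24615, nat_lit 20574, nat_lit 16387, nat_lit 12289, nat_lit 8259, nat_lit 4113, nat_lit 8]⟩⟩⟩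
def pth118 : AP := ⟨[nat_lit 292, nat_lit 284, nat_lit 293, nat_lit 357], [], (nat_lit 776), ⟨[nat_lit 6, nat_lit 63], [nat_lit 79, nat_lit 53], ⟨[nat_lit 0x1d90e5b0353a9338b5e530052bd090], [nat_lit 173056, nat_lit 166912, nat_lit 160000, nat_lit 157184, nat_lit 154656, nat_lit 149840, nat_lit 145872, nat_lit 143172, nat_lit 137602, nat_lit 132759, nat_lit 1076, nat_lit 4396, nat_lit 10128, nat_lit 13232, nat_lit 30464, nat_lit 34304, nat_lit 41143, nat_lit 37148, nat_lit 32914, nat_lit 28678, nat_lit 24601, nat_lit 20502, nat_lit 16386, nat_lit 12354, nat_lit 8224, nat_lit 8]⟩⟩⟩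
def pth119 : AP := ⟨[nat_lit 666, nat_lit 262, nat_lit 228, nat_lit 224, nat_lit 223], [], (nat_lit 506), ⟨[nat_lit 0, nat_lit 39, nat_lit 65], [nat_lit 32, nat_lit 91], ⟨[nat_lit 0x7b90b90a214b54c39a962d6e480c13], [nat_lit 173056, nat_lit 168448, nat_lit 160384, nat_lit 156288, nat_lit 147536, nat_lit 143904, nat_lit 142236, nat_lit 135288, nat_lit 132170, nat_lit 586, nat_lit 4684, nat_lit 8200, nat_lit 12352, nat_lit 16448, nat_lit 21888, nat_lit 25472, nat_lit 29440, nat_lit 34304, nat_lit 41765, nat_lit 37068, nat_lit 32827, nat_lit 29235, nat_lit 24757, nat_lit 20621, nat_lit 16396, nat_lit 12292, nat_lit 4097]⟩⟩⟩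
def lth120 : List AP := [⟨[nat_lit 264, nat_lit 668, nat_lit 226], [], (nat_lit 1120), ⟨[nat_lit 4, nat_lit 65], [nat_lit 0, nat_lit 72, nat_lit 57], ⟨[nat_lit 0xb86b2bceab90128a5b3808d4432b6], [nat_lit 175104, nat_lit 170496, nat_lit 167168, nat_lit 160640, nat_lit 159552, nat_lit 154176, nat_lit 148784, nat_lit 147376, nat_lit 141180, nat_lit 137076, nat_lit 132785, nat_lit 1488, nat_lit 5208, nat_lit 8712, nat_lit 13920, nat_lit 16576, nat_lit 22400, nat_lit 25600, nat_lit 29440, nat_lit 37888, nat_lit 41444, nat_lit 37175, nat_lit 32807, nat_lit 29804, nat_lit 25623, nat_lit 20569, nat_lit 16459, nat_lit 8194, nat_lit 4097]⟩⟩⟩,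
  ⟨[nat_lit 78], [], (nat_lit 196), ⟨[nat_lit 21, nat_lit 59], [nat_lit 0, nat_lit 31, nat_lit 61], ⟨[nat_lit 0x408c0b3872aa8b759e309d02f6112d], [nat_lit 174080, nat_lit 170496, nat_lit 166400, nat_lit 163712, nat_lit 156032, nat_lit 154784, nat_lit 149888, nat_lit 143376, nat_lit 141424, nat_lit 135644, nat_lit 133111, nat_lit 1624, nat_lit 4720, nat_lit 10144, nat_lit 13552, nat_lit 16672, nat_lit 21120, nat_lit 25344, nat_lit 29440, nat_lit 33280, nat_lit 37888, nat_lit 41748, nat_lit 37228, nat_lit 33012, nat_lit 28774, nat_lit 24722, nat_lit 20553, nat_lit 16417, nat_lit 12290]⟩⟩⟩,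
  ⟨[nat_lit 633], [], (nat_lit 1032), ⟨[nat_lit 28, nat_lit 61], [nat_lit 8, nat_lit 52], ⟨[nat_lit 0x85c51a28282397379d32b1865032ad], [nat_lit 174080, nat_lit 170496, nat_lit 167424, nat_lit 161664, nat_lit 157248, nat_lit 152064, nat_lit 149728, nat_lit 145152, nat_lit 139520, nat_lit 138358, nat_lit 134710, nat_lit 210, nat_lit 5900, nat_lit 8680, nat_lit 13872, nat_lit 18080, nat_lit 21696, nat_lit 26240, nat_lit 28928, nat_lit 41281, nat_lit 37223, nat_lit 32833, nat_lit 28761, nat_lit 24577, nat_lit 20998, nat_lit 16520, nat_lit 12423, nat_lit 8201, nat_lit 4101, nat_lit 4]⟩⟩⟩]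
theorem sth120 : Suf thT 19005990 (ldrop (lapp thwr13 [3, 0, 1]) 91) (apW dcM pth119) (tgtN dcM pth119.e) := Suf.fin' (l := lth120) (by decide +kernel)
def lth119 : List AP := [⟨[nat_lit 285, nat_lit 287, nat_lit 355, nat_lit 285], [], (nat_lit 1188), ⟨[nat_lit 0, nat_lit 75, nat_lit 49], [nat_lit 8], ⟨[nat_lit 0xb518695d633b5490b804442a279671], [nat_lit 174080, nat_lit 168960, nat_lit 164096, nat_lit 160256, nat_lit 159488, nat_lit 155136, nat_lit 150720, nat_lit 143712, nat_lit 141448, nat_lit 135858, nat_lit 133902, nat_lit 1652, nat_lit 5688, nat_lit 8320, nat_lit 13664, nat_lit 16512, nat_lit 20800, nat_lit 26368, nat_lit 29696, nat_lit 33280, nat_lit 41793, nat_lit 37027, nat_lit 34000, nat_lit 29023, nat_lit 24743, nat_lit 20552, nat_lit 16644, nat_lit 12289, nat_lit 8208]⟩⟩⟩,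
  ⟨[nat_lit 146, nat_lit 656, nat_lit 140, nat_lit 145], [], (nat_lit 489), ⟨[nat_lit 0, nat_lit 17, nat_lit 47], [nat_lit 0, nat_lit 72, nat_lit 94], ⟨[nat_lit 0x58633add003c28f64ac41b9a93144a], [nat_lit 174080, nat_lit 165632, nat_lit 161152, nat_lit 157824, nat_lit 154336, nat_lit 149520, nat_lit 144920, nat_lit 141920, nat_lit 135848, nat_lit 134686, nat_lit 1814, nat_lit 4964, nat_lit 8320, nat_lit 12624, nat_lit 17088, nat_lit 21120, nat_lit 29696, nat_lit 34304, nat_lit 41459, nat_lit 37255, nat_lit 33488, nat_lit 28744, nat_lit 24764, nat_lit 20570, nat_lit 16449, nat_lit 12321, nat_lit 8195, nat_lit 4097, nat_lit 2]⟩⟩⟩]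
theorem sth119 : Suf thT 19005990 (ldrop (lapp thwr13 [3, 0, 1]) 81) (apW dcM pth118) (tgtN dcM pth118.e) := Suf.seg (l := lth119) (by decide +kernel) sth120
def lth118 : List AP := [⟨[nat_lit 294, nat_lit 286, nat_lit 291, nat_lit 356], [], (nat_lit 800), ⟨[nat_lit 26, nat_lit 59], [nat_lit 74, nat_lit 69], ⟨[nat_lit 0xa404a8a2e11d932299e76918eaac13], [nat_lit 173056, nat_lit 169472, nat_lit 166656, nat_lit 160896, nat_lit 155840, nat_lit 152128, nat_lit 149440, nat_lit 143768, nat_lit 139516, nat_lit 136510, nat_lit 132233, nat_lit 846, nat_lit 4684, nat_lit 8336, nat_lit 13360, nat_lit 18368, nat_lit 22016, nat_lit 24960, nat_lit 29440, nat_lit 41808, nat_lit 37223, nat_lit 32785, nat_lit 28722, nat_lit 24622, nat_lit 20509, nat_lit 16425, nat_lit 12293, nat_lit 8194, nat_lit 4097]⟩⟩⟩,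
  ⟨[nat_lit 351, nat_lit 291, nat_lit 291, nat_lit 287, nat_lit 285], [], (nat_lit 674), ⟨[nat_lit 37, nat_lit 92], [nat_lit 0, nat_lit 41, nat_lit 92], ⟨[nat_lit 0x2bcf41cd045a597ac64e005b6508d0], [nat_lit 169984, nat_lit 164352, nat_lit 160000, nat_lit 159552, nat_lit 152896, nat_lit 148560, nat_lit 146904, nat_lit 142644, nat_lit 137336, nat_lit 133207, nat_lit 526, nat_lit 5300, nat_lit 8256, nat_lit 13584, nat_lit 17408, nat_lit 20544, nat_lit 25600, nat_lit 34304, nat_lit 41207, nat_lit 37185, nat_lit 33013, nat_lit 28963, nat_lit 24593, nat_lit 20481, nat_lit 16451, nat_lit 12292, nat_lit 8193, nat_lit 4113]⟩⟩⟩]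
theorem sth118 : Suf thT 19005990 (ldrop (lapp thwr13 [3, 0, 1]) 71) (apW dcM pth117) (tgtN dcM pth117.e) := Suf.seg (l := lth118) (by decide +kernel) sth119
def lth117 : List AP := [⟨[nat_lit 285, nat_lit 670, nat_lit 295, nat_lit 292, nat_lit 286], [], (nat_lit 1156), ⟨[nat_lit 19, nat_lit 59], [nat_lit 35, nat_lit 65], ⟨[nat_lit 0x9b204b5da67956a12655a022809c6e], [nat_lit 175104, nat_lit 169472, nat_lit 165120, nat_lit 160768, nat_lit 158912, nat_lit 153760, nat_lit 149616, nat_lit 143464, nat_lit 142336, nat_lit 135804, nat_lit 133926, nat_lit 960, nat_lit 5972, nat_lit 10168, nat_lit 12768, nat_lit 16640, nat_lit 20672, nat_lit 24704, nat_lit 30208, nat_lit 33792, nat_lit 37888, nat_lit 41580, nat_lit 37304, nat_lit 32834, nat_lit 29205, nat_lit 24879, nat_lit 20509, nat_lit 16416, nat_lit 12310, nat_lit 8194, nat_lit 4101]⟩⟩⟩,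
  ⟨[nat_lit 357, nat_lit 294, nat_lit 357], [], (nat_lit 1142), ⟨[nat_lit 0, nat_lit 43, nat_lit 89], [nat_lit 84, nat_lit 50], ⟨[nat_lit 0x820d5d467610b2b08ca7c50975277], [nat_lit 174080, nat_lit 171008, nat_lit 165120, nat_lit 162944, nat_lit 159232, nat_lit 155584, nat_lit 148160, nat_lit 144768, nat_lit 139936, nat_lit 138630, nat_lit 133558, nat_lit 1108, nat_lit 5688, nat_lit 9384, nat_lit 13104, nat_lit 18272, nat_lit 22144, nat_lit 25984, nat_lit 30464, nat_lit 37888, nat_lit 41895, nat_lit 37247, nat_lit 32912, nat_lit 28711, nat_lit 25099, nat_lit 20494, nat_lit 16385, nat_lit 12291, nat_lit 8195, nat_lit 4101, nat_lit 4]⟩⟩⟩]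
theorem sth117 : Suf thT 19005990 (ldrop (lapp thwr13 [3, 0, 1]) 65) (apW dcM pth116) (tgtN dcM pth116.e) := Suf.seg (l := lth117) (by decide +kernel) sth118
def lth116 : List AP := [⟨[nat_lit 673, nat_lit 354, nat_lit 354, nat_lit 294], [], (nat_lit 670), ⟨[nat_lit 0, nat_lit 87, nat_lit 60], [nat_lit 0, nat_lit 78, nat_lit 50], ⟨[nat_lit 0x28dc989ee4b020164eafa224b6984a], [nat_lit 175104, nat_lit 168448, nat_lit 164096, nat_lit 161920, nat_lit 155776, nat_lit 151680, nat_lit 150176, nat_lit 145792, nat_lit 141576, nat_lit 138864, nat_lit 133578, nat_lit 1814, nat_lit 5884, nat_lit 9216, nat_lit 14208, nat_lit 17792, nat_lit 21760, nat_lit 29952, nat_lit 41225, nat_lit 37014, nat_lit 34024, nat_lit 29032, nat_lit 24888, nat_lit 20499, nat_lit 16428, nat_lit 12294, nat_lit 8203, nat_lit 4105, nat_lit 2]⟩⟩⟩,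
  ⟨[nat_lit 284, nat_lit 353, nat_lit 289, nat_lit 357, nat_lit 286], [], (nat_lit 698), ⟨[nat_lit 76, nat_lit 47], [nat_lit 11, nat_lit 89], ⟨[nat_lit 0x9b65609d305a1d7a90af1019450e26], [nat_lit 174080, nat_lit 169472, nat_lit 164864, nat_lit 163456, nat_lit 156608, nat_lit 152512, nat_lit 150208, nat_lit 145888, nat_lit 141496, nat_lit 137874, nat_lit 134542, nat_lit 158, nat_lit 4132, nat_lit 10112, nat_lit 13312, nat_lit 17696, nat_lit 20992, nat_lit 25600, nat_lit 28928, nat_lit 37888, nat_lit 41114, nat_lit 37091, nat_lit 32873, nat_lit 29272, nat_lit 24577, nat_lit 20633, nat_lit 16522, nat_lit 12292, nat_lit 8201, nat_lit 4129]⟩⟩⟩]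
theorem sth116 : Suf thT 19005990 (ldrop (lapp thwr13 [3, 0, 1]) 55) (apW dcM pth115) (tgtN dcM pth115.e) := Suf.seg (l := lth116) (by decide +kernel) sth117
def lth115 : List AP := [⟨[nat_lit 142, nat_lit 656, nat_lit 654, nat_lit 658, nat_lit 141, nat_lit 140], [], (nat_lit 748), ⟨[nat_lit 0, nat_lit 38, nat_lit 49], [nat_lit 43, nat_lit 60], ⟨[nat_lit 0xa053503d6eb3245bb4f1328829a203], [nat_lit 175104, nat_lit 171008, nat_lit 167424, nat_lit 160768, nat_lit 159488, nat_lit 154752, nat_lit 148112, nat_lit 147368, nat_lit 140548, nat_lit 135590, nat_lit 131308, nat_lit 582, nat_lit 5016, nat_lit 8448, nat_lit 12544, nat_lit 18336, nat_lit 21632, nat_lit 25472, nat_lit 33280, nat_lit 41885, nat_lit 37034, nat_lit 32872, nat_lit 29298, nat_lit 24636, nat_lit 20561, nat_lit 16448, nat_lit 12309, nat_lit 8208, nat_lit 4608, nat_lit 8]⟩⟩⟩,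
  ⟨[nat_lit 670, nat_lit 673, nat_lit 356, nat_lit 285], [], (nat_lit 1150), ⟨[nat_lit 0, nat_lit 39, nat_lit 93], [nat_lit 84, nat_lit 89], ⟨[nat_lit 0xc6e7a55a9321e5b020460d629b952], [nat_lit 174080, nat_lit 171008, nat_lit 165376, nat_lit 163456, nat_lit 159552, nat_lit 155072, nat_lit 149200, nat_lit 143368, nat_lit 140108, nat_lit 138332, nat_lit 133640, nat_lit 1762, nat_lit 5172, nat_lit 10160, nat_lit 13072, nat_lit 18336, nat_lit 20800, nat_lit 26112, nat_lit 29952, nat_lit 33792, nat_lit 41721, nat_lit 37226, nat_lit 33009, nat_lit 28990, nat_lit 24595, nat_lit 20508, nat_lit 16389, nat_lit 12292, nat_lit 8193, nat_lit 4161]⟩⟩⟩]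
theorem sth115 : Suf thT 19005990 (ldrop (lapp thwr13 [3, 0, 1]) 45) (apW dcM pth114) (tgtN dcM pth114.e) := Suf.seg (l := lth115) (by decide +kernel) sth116
def lth114 : List AP := [⟨[nat_lit 353, nat_lit 673, nat_lit 291, nat_lit 670], [], (nat_lit 800), ⟨[nat_lit 71, nat_lit 59], [nat_lit 0, nat_lit 43, nat_lit 70], ⟨[nat_lit 0x39a4a490f15ae54854781a23ab173], [nat_lit 168448, nat_lit 164864, nat_lit 160768, nat_lit 155712, nat_lit 153184, nat_lit 148496, nat_lit 145056, nat_lit 140148, nat_lit 136316, nat_lit 132271, nat_lit 590, nat_lit 5080, nat_lit 8928, nat_lit 13888, nat_lit 17984, nat_lit 22336, nat_lit 26112, nat_lit 29184, nat_lit 33280, nat_lit 37120, nat_lit 33425, nat_lit 28945, nat_lit 24616, nat_lit 20568, nat_lit 16424, nat_lit 12293, nat_lit 8194]⟩⟩⟩,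
  ⟨[nat_lit 352, nat_lit 357, nat_lit 293, nat_lit 355, nat_lit 284], [], (nat_lit 1160), ⟨[nat_lit 0, nat_lit 82, nat_lit 93], [nat_lit 0, nat_lit 13, nat_lit 59], ⟨[nat_lit 0xb15b7805150088ea0d333c64c599ea], [nat_lit 173056, nat_lit 160128, nat_lit 156608, nat_lit 152320, nat_lit 149344, nat_lit 145048, nat_lit 140748, nat_lit 138566, nat_lit 131212, nat_lit 1808, nat_lit 5992, nat_lit 8784, nat_lit 13264, nat_lit 16544, nat_lit 20928, nat_lit 24832, nat_lit 28928, nat_lit 41498, nat_lit 38144, nat_lit 33447, nat_lit 28967, nat_lit 24593, nat_lit 20754, nat_lit 16396, nat_lit 8210]⟩⟩⟩]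
theorem sth114 : Suf thT 19005990 (ldrop (lapp thwr13 [3, 0, 1]) 35) (apW dcM pth113) (tgtN dcM pth113.e) := Suf.seg (l := lth114) (by decide +kernel) sth115
def lth113 : List AP := [⟨[nat_lit 352, nat_lit 671, nat_lit 289, nat_lit 355], [], (nat_lit 1136), ⟨[nat_lit 82, nat_lit 65], [nat_lit 86, nat_lit 65], ⟨[nat_lit 0x8091638de19122da99945b9459a6e0], [nat_lit 173056, nat_lit 168960, nat_lit 160384, nat_lit 157440, nat_lit 151776, nat_lit 148880, nat_lit 145448, nat_lit 141240, nat_lit 135336, nat_lit 131714, nat_lit 8, nat_lit 4536, nat_lit 9328, nat_lit 14080, nat_lit 16928, nat_lit 22016, nat_lit 25216, nat_lit 30464, nat_lit 41548, nat_lit 38060, nat_lit 32808, nat_lit 28715, nat_lit 25138, nat_lit 20626, nat_lit 16417, nat_lit 12311, nat_lit 8194, nat_lit 4101]⟩⟩⟩,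
  ⟨[nat_lit 261, nat_lit 229, nat_lit 262, nat_lit 260, nat_lit 224], [], (nat_lit 638), ⟨[nat_lit 25, nat_lit 56], [nat_lit 84, nat_lit 57], ⟨[nat_lit 0x3da44438251dc538a5555b406a3e0c], [nat_lit 174080, nat_lit 170496, nat_lit 166912, nat_lit 162176, nat_lit 157376, nat_lit 154176, nat_lit 149696, nat_lit 145264, nat_lit 142888, nat_lit 136786, nat_lit 132712, nat_lit 318, nat_lit 4476, nat_lit 8408, nat_lit 14144, nat_lit 17408, nat_lit 21504, nat_lit 24704, nat_lit 29696, nat_lit 33280, nat_lit 37888, nat_lit 41947, nat_lit 37258, nat_lit 32809, nat_lit 28783, nat_lit 24707, nat_lit 20508, nat_lit 16416, nat_lit 12292, nat_lit 4225, nat_lit 128]⟩⟩⟩]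
theorem sth113 : Suf thT 19005990 (ldrop (lapp thwr13 [3, 0, 1]) 29) (apW dcM pth112) (tgtN dcM pth112.e) := Suf.seg (l := lth113) (by decide +kernel) sth114
def lth112 : List AP := [⟨[nat_lit 222, nat_lit 228, nat_lit 229, nat_lit 223], [], (nat_lit 649), ⟨[nat_lit 81, nat_lit 70], [nat_lit 0, nat_lit 44, nat_lit 48], ⟨[nat_lit 0xb0a0b8d429bd1a7521c520d8034df2], [nat_lit 174080, nat_lit 171008, nat_lit 165376, nat_lit 162304, nat_lit 158464, nat_lit 153824, nat_lit 144584, nat_lit 141152, nat_lit 138994, nat_lit 134414, nat_lit 1762, nat_lit 4488, nat_lit 9384, nat_lit 13152, nat_lit 17984, nat_lit 21696, nat_lit 24960, nat_lit 29696, nat_lit 34304, nat_lit 37888, nat_lit 41385, nat_lit 36907, nat_lit 33832, nat_lit 29054, nat_lit 24728, nat_lit 20564, nat_lit 16425, nat_lit 12307, nat_lit 4113]⟩⟩⟩,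
  ⟨[nat_lit 293, nat_lit 354, nat_lit 352, nat_lit 285], [], (nat_lit 1178), ⟨[nat_lit 20, nat_lit 93], [nat_lit 43, nat_lit 94], ⟨[nat_lit 0x846a07ae44522c3bb44c3a5d3a04a6], [nat_lit 169984, nat_lit 167424, nat_lit 162944, nat_lit 158080, nat_lit 151936, nat_lit 151520, nat_lit 146760, nat_lit 140320, nat_lit 139094, nat_lit 131091, nat_lit 1614, nat_lit 4952, nat_lit 9800, nat_lit 13168, nat_lit 17408, nat_lit 20608, nat_lit 26368, nat_lit 30208, nat_lit 37888, nat_lit 41812, nat_lit 36994, nat_lit 33928, nat_lit 29010, nat_lit 24846, nat_lit 20493, nat_lit 16449, nat_lit 12327, nat_lit 8225, nat_lit 16]⟩⟩⟩]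
theorem sth112 : Suf thT 19005990 (ldrop (lapp thwr13 [3, 0, 1]) 19) (apW dcM pth111) (tgtN dcM pth111.e) := Suf.seg (l := lth112) (by decide +kernel) sth113
def lth111 : List AP := [⟨[nat_lit 260, nat_lit 261, nat_lit 261], [], (nat_lit 630), ⟨[nat_lit 0, nat_lit 74, nat_lit 50], [nat_lit 0, nat_lit 3, nat_lit 57], ⟨[nat_lit 0x43c2cb48cd88d53580e4750b0aa457], [nat_lit 164096, nat_lit 160768, nat_lit 152000, nat_lit 148800, nat_lit 144472, nat_lit 141208, nat_lit 136244, nat_lit 132590, nat_lit 1140, nat_lit 5568, nat_lit 13216, nat_lit 18176, nat_lit 20800, nat_lit 34304, nat_lit 41824, nat_lit 38240, nat_lit 32784, nat_lit 24633, nat_lit 20551, nat_lit 16430, nat_lit 12321, nat_lit 8194, nat_lit 4100]⟩⟩⟩,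
  ⟨[nat_lit 285, nat_lit 289, nat_lit 289], [], (nat_lit 1164), ⟨[nat_lit 0, nat_lit 81, nat_lit 51], [nat_lit 0, nat_lit 36, nat_lit 90], ⟨[nat_lit 0x1188c035092d95283e2159e931deae], [nat_lit 168448, nat_lit 166144, nat_lit 162560, nat_lit 159552, nat_lit 154432, nat_lit 147824, nat_lit 146656, nat_lit 142408, nat_lit 136154, nat_lit 134857, nat_lit 1624, nat_lit 5900, nat_lit 8736, nat_lit 13712, nat_lit 17152, nat_lit 21376, nat_lit 25216, nat_lit 29440, nat_lit 33792, nat_lit 37888, nat_lit 41806, nat_lit 38363, nat_lit 32939, nat_lit 28958, nat_lit 24591, nat_lit 20487, nat_lit 16398, nat_lit 12293, nat_lit 8201]⟩⟩⟩]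
theorem sth111 : Suf thT 19005990 (ldrop (lapp thwr13 [3, 0, 1]) 9) (apW dcM pth110) (tgtN dcM pth110.e) := Suf.seg (l := lth111) (by decide +kernel) sth112
def lth110 : List AP := [⟨[nat_lit 632, nat_lit 15, nat_lit 38, nat_lit 40, nat_lit 630, nat_lit 42], [], (nat_lit 150), ⟨[nat_lit 36, nat_lit 67], [nat_lit 37, nat_lit 52], ⟨[nat_lit 0x981a4655cb81c4f45823926f1514d4], [nat_lit 175104, nat_lit 171008, nat_lit 165376, nat_lit 163712, nat_lit 158976, nat_lit 155232, nat_lit 147680, nat_lit 144224, nat_lit 139544, nat_lit 138908, nat_lit 133845, nat_lit 1730, nat_lit 6104, nat_lit 9704, nat_lit 12752, nat_lit 16896, nat_lit 20992, nat_lit 26496, nat_lit 29184, nat_lit 33792, nat_lit 37888, nat_lit 41559, nat_lit 37293, nat_lit 33492, nat_lit 28710, nat_lit 24858, nat_lit 20497, nat_lit 16416, nat_lit 12545, nat_lit 8323, nat_lit 4160]⟩⟩⟩,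
  ⟨[nat_lit 79, nat_lit 104, nat_lit 87, nat_lit 86], [], (nat_lit 1048), ⟨[nat_lit 0, nat_lit 17, nat_lit 93], [nat_lit 42, nat_lit 68], ⟨[nat_lit 0x64a21135493a2b028cceb1173052ef], [nat_lit 166144, nat_lit 162688, nat_lit 159232, nat_lit 154208, nat_lit 149040, nat_lit 146440, nat_lit 141684, nat_lit 135746, nat_lit 135036, nat_lit 1668, nat_lit 5688, nat_lit 9888, nat_lit 14144, nat_lit 17088, nat_lit 21312, nat_lit 26112, nat_lit 29440, nat_lit 33280, nat_lit 37888, nat_lit 41657, nat_lit 37158, nat_lit 32957, nat_lit 28747, nat_lit 24764, nat_lit 20548, nat_lit 16394, nat_lit 12292, nat_lit 8201, nat_lit 4112]⟩⟩⟩]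
theorem thcr13_2 : Suf thT 19005990 (lapp thwr13 [3, 0, 1]) (iC3 :: apW dcM q0) (tgtN dcM q0.e) := Suf.seg (l := lth110) (by decide +kernel) sth111

def pth121 : AP := ⟨[nat_lit 665, nat_lit 224, nat_lit 225, nat_lit 228, nat_lit 222], [], (nat_lit 638), ⟨[nat_lit 0, nat_lit 81, nat_lit 92], [nat_lit 0, nat_lit 3, nat_lit 70], ⟨[nat_lit 0x91e887426231580485ea592f11daad], [nat_lit 165376, nat_lit 160384, nat_lit 159232, nat_lit 151584, nat_lit 148192, nat_lit 144872, nat_lit 141148, nat_lit 135918, nat_lit 132042, nat_lit 428, nat_lit 5900, nat_lit 9040, nat_lit 12352, nat_lit 16704, nat_lit 20928, nat_lit 25088, nat_lit 29696, nat_lit 33280, nat_lit 37888, nat_lit 41744, nat_lit 37935, nat_lit 32883, nat_lit 28697, nat_lit 24596, nat_lit 20755, nat_lit 16452, nat_lit 8193, nat_lit 4097]⟩⟩⟩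
def pth122 : AP := ⟨[nat_lit 463, nat_lit 417, nat_lit 676, nat_lit 412, nat_lit 410], [], (nat_lit 920), ⟨[nat_lit 10, nat_lit 57], [nat_lit 36, nat_lit 57], ⟨[nat_lit 0xbc0071386a2583162e727d2a833525], [nat_lit 175104, nat_lit 171008, nat_lit 167168, nat_lit 163584, nat_lit 156800, nat_lit 155328, nat_lit 151024, nat_lit 143544, nat_lit 143184, nat_lit 136260, nat_lit 132167, nat_lit 364, nat_lit 4720, nat_lit 10032, nat_lit 14128, nat_lit 17632, nat_lit 22400, nat_lit 26496, nat_lit 28928, nat_lit 41764, nat_lit 38136, nat_lit 32900, nat_lit 28699, nat_lit 25111, nat_lit 21507, nat_lit 16527, nat_lit 12359, nat_lit 8193, nat_lit 4]⟩⟩⟩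
def pth123 : AP := ⟨[nat_lit 227, nat_lit 260, nat_lit 222, nat_lit 223], [], (nat_lit 514), ⟨[nat_lit 0, nat_lit 25, nat_lit 92], [nat_lit 0, nat_lit 73, nat_lit 93], ⟨[nat_lit 0x90e95b35070aa2b31453039907dd24], [nat_lit 166400, nat_lit 162944, nat_lit 158080, nat_lit 154368, nat_lit 148992, nat_lit 145720, nat_lit 141668, nat_lit 135808, nat_lit 133824, nat_lit 508, nat_lit 5588, nat_lit 9528, nat_lit 14192, nat_lit 16448, nat_lit 21888, nat_lit 26368, nat_lit 29440, nat_lit 33792, nat_lit 37888, nat_lit 41837, nat_lit 36945, nat_lit 33022, nat_lit 28683, nat_lit 24622, nat_lit 20490, nat_lit 16385, nat_lit 12289, nat_lit 8258, nat_lit 4097]⟩⟩⟩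
def pth124 : AP := ⟨[nat_lit 355, nat_lit 290], [], (nat_lit 868), ⟨[nat_lit 0, nat_lit 43, nat_lit 63], [nat_lit 31, nat_lit 91], ⟨[nat_lit 0x32841a2495730e86c0162cd71bc86f], [nat_lit 174080, nat_lit 169472, nat_lit 166400, nat_lit 162176, nat_lit 158208, nat_lit 152000, nat_lit 148352, nat_lit 144088, nat_lit 141608, nat_lit 138458, nat_lit 132466, nat_lit 796, nat_lit 5580, nat_lit 9672, nat_lit 13664, nat_lit 16928, nat_lit 21824, nat_lit 25856, nat_lit 29696, nat_lit 41501, nat_lit 36954, nat_lit 32807, nat_lit 28724, nat_lit 25123, nat_lit 20492, nat_lit 16451, nat_lit 12305, nat_lit 8226, nat_lit 8]⟩⟩⟩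
def pth125 : AP := ⟨[nat_lit 664, nat_lit 230, nat_lit 232, nat_lit 266], [], (nat_lit 640), ⟨[nat_lit 0, nat_lit 7, nat_lit 49], [nat_lit 72, nat_lit 66], ⟨[nat_lit 0x2492f72cf3540cd6162800ac1b8e95], [nat_lit 173056, nat_lit 170496, nat_lit 167168, nat_lit 162688, nat_lit 159168, nat_lit 151904, nat_lit 150192, nat_lit 145832, nat_lit 139836, nat_lit 138824, nat_lit 132553, nat_lit 1336, nat_lit 5112, nat_lit 8512, nat_lit 12320, nat_lit 17376, nat_lit 22336, nat_lit 25984, nat_lit 30208, nat_lit 33792, nat_lit 41510, nat_lit 38299, nat_lit 32994, nat_lit 28929, nat_lit 24589, nat_lit 20490, nat_lit 16392, nat_lit 12295, nat_lit 8201]⟩⟩⟩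
def pth126 : AP := ⟨[nat_lit 286, nat_lit 291, nat_lit 357, nat_lit 288], [], (nat_lit 1138), ⟨[nat_lit 13, nat_lit 89], [nat_lit 20, nat_lit 60], ⟨[nat_lit 0x2184c6a120a4d678c02f2d9521ddd5], [nat_lit 173056, nat_lit 169472, nat_lit 165888, nat_lit 160128, nat_lit 155776, nat_lit 153504, nat_lit 149344, nat_lit 144264, nat_lit 139728, nat_lit 135498, nat_lit 132555, nat_lit 2018, nat_lit 5152, nat_lit 9904, nat_lit 12544, nat_lit 16608, nat_lit 21376, nat_lit 25216, nat_lit 33280, nat_lit 37888, nat_lit 41883, nat_lit 37174, nat_lit 33374, nat_lit 29706, nat_lit 24579, nat_lit 20494, nat_lit 16513, nat_lit 8195, nat_lit 4101]⟩⟩⟩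
def pth127 : AP := ⟨[nat_lit 285, nat_lit 673, nat_lit 289, nat_lit 294, nat_lit 284], [], (nat_lit 776), ⟨[nat_lit 19, nat_lit 94], [nat_lit 0, nat_lit 2, nat_lit 93], ⟨[nat_lit 0x98e126928b79eaa4bae6b158808222], [nat_lit 173056, nat_lit 168448, nat_lit 164352, nat_lit 155968, nat_lit 151808, nat_lit 150672, nat_lit 144896, nat_lit 140308, nat_lit 135734, nat_lit 131073, nat_lit 4, nat_lit 4608, nat_lit 8208, nat_lit 13264, nat_lit 16640, nat_lit 20928, nat_lit 25472, nat_lit 33792, nat_lit 37888, nat_lit 41360, nat_lit 37232, nat_lit 32784, nat_lit 29758, nat_lit 25130, nat_lit 20638, nat_lit 12352, nat_lit 8193, nat_lit 4104, nat_lit 4]⟩⟩⟩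
def pth128 : AP := ⟨[nat_lit 655, nat_lit 141, nat_lit 655, nat_lit 147], [], (nat_lit 318), ⟨[nat_lit 87, nat_lit 54], [nat_lit 0, nat_lit 33, nat_lit 67], ⟨[nat_lit 0x1992cb083372ce0549152d0908ddaf], [nat_lit 173056, nat_lit 169472, nat_lit 165632, nat_lit 160000, nat_lit 156352, nat_lit 152224, nat_lit 149232, nat_lit 144040, nat_lit 141996, nat_lit 135312, nat_lit 132924, nat_lit 1668, nat_lit 5716, nat_lit 8944, nat_lit 13664, nat_lit 17056, nat_lit 20608, nat_lit 25856, nat_lit 30208, nat_lit 34304, nat_lit 37888, nat_lit 41460, nat_lit 37234, nat_lit 32967, nat_lit 28963, nat_lit 24603, nat_lit 20634, nat_lit 16388, nat_lit 12322, nat_lit 8193, nat_lit 4129, nat_lit 2]⟩⟩⟩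
def pth129 : AP := ⟨[nat_lit 673, nat_lit 672, nat_lit 290, nat_lit 670], [], (nat_lit 1160), ⟨[nat_lit 34, nat_lit 62], [nat_lit 0, nat_lit 37, nat_lit 53], ⟨[nat_lit 0x39aab0ba246a19710ecaa4a092cc0f], [nat_lit 175104, nat_lit 170496, nat_lit 166912, nat_lit 162816, nat_lit 157568, nat_lit 155136, nat_lit 150288, nat_lit 144808, nat_lit 141792, nat_lit 136624, nat_lit 132608, nat_lit 1896, nat_lit 4684, nat_lit 8408, nat_lit 14304, nat_lit 16480, nat_lit 22016, nat_lit 26240, nat_lit 29440, nat_lit 34304, nat_lit 37888, nat_lit 41356, nat_lit 37260, nat_lit 33295, nat_lit 29007, nat_lit 24636, nat_lit 20482, nat_lit 16458, nat_lit 12292, nat_lit 8195, nat_lit 4100, nat_lit 2]⟩⟩⟩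
def pth130 : AP := ⟨[nat_lit 671, nat_lit 355, nat_lit 351, nat_lit 356], [], (nat_lit 1150), ⟨[nat_lit 0, nat_lit 21, nat_lit 51], [nat_lit 11], ⟨[nat_lit 0x4d42898e902496d01cd665c4f7162a], [nat_lit 173056, nat_lit 164352, nat_lit 160384, nat_lit 156864, nat_lit 153152, nat_lit 148048, nat_lit 146168, nat_lit 141224, nat_lit 135170, nat_lit 132873, nat_lit 1818, nat_lit 6048, nat_lit 10032, nat_lit 12416, nat_lit 16576, nat_lit 22208, nat_lit 24704, nat_lit 28928, nat_lit 33280, nat_lit 41847, nat_lit 38047, nat_lit 32907, nat_lit 28732, nat_lit 24584, nat_lit 20628, nat_lit 16524, nat_lit 12292, nat_lit 8200, nat_lit 4353]⟩⟩⟩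
def lth131 : List AP := [⟨[nat_lit 265, nat_lit 667, nat_lit 260, nat_lit 261], [], (nat_lit 488), ⟨[nat_lit 0, nat_lit 23, nat_lit 67], [nat_lit 9, nat_lit 60], ⟨[nat_lit 0x15434182d729d0b9c5cc6c1f251126], [nat_lit 168448, nat_lit 156544, nat_lit 151904, nat_lit 147952, nat_lit 143376, nat_lit 139688, nat_lit 135236, nat_lit 133934, nat_lit 1024, nat_lit 4548, nat_lit 8896, nat_lit 14192, nat_lit 17056, nat_lit 21504, nat_lit 24960, nat_lit 29184, nat_lit 41921, nat_lit 38281, nat_lit 32907, nat_lit 28729, nat_lit 25116, nat_lit 20481, nat_lit 16453, nat_lit 12423, nat_lit 8203, nat_lit 4097]⟩⟩⟩,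
  ⟨[], [], (nat_lit 1052), ⟨[nat_lit 23, nat_lit 94], [nat_lit 0, nat_lit 2, nat_lit 65], ⟨[nat_lit 0x7d6348258a404963c9c5588d79b460], [nat_lit 174080, nat_lit 169472, nat_lit 166912, nat_lit 162944, nat_lit 158400, nat_lit 153280, nat_lit 148432, nat_lit 144272, nat_lit 141328, nat_lit 138522, nat_lit 132544, nat_lit 1478, nat_lit 5580, nat_lit 8680, nat_lit 12816, nat_lit 17824, nat_lit 21504, nat_lit 25600, nat_lit 30464, nat_lit 33280, nat_lit 41702, nat_lit 37352, nat_lit 32826, nat_lit 28730, nat_lit 25151, nat_lit 20608, nat_lit 16423, nat_lit 12310, nat_lit 8193]⟩⟩⟩,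
  ⟨[], [], (nat_lit 1034), ⟨[nat_lit 0, nat_lit 35, nat_lit 68], [nat_lit 73, nat_lit 55], ⟨[nat_lit 0x442ad30253b06e5191ec8d1cb11d49], [nat_lit 168448, nat_lit 164352, nat_lit 160256, nat_lit 156224, nat_lit 153184, nat_lit 147984, nat_lit 144488, nat_lit 140652, nat_lit 135684, nat_lit 134069, nat_lit 1478, nat_lit 5904, nat_lit 9096, nat_lit 13856, nat_lit 17792, nat_lit 21056, nat_lit 25344, nat_lit 30464, nat_lit 33280, nat_lit 41695, nat_lit 38240, nat_lit 33510, nat_lit 29212, nat_lit 24598, nat_lit 20484, nat_lit 16389, nat_lit 12546, nat_lit 8194]⟩⟩⟩]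
theorem sth131 : Suf thT 2048 (ldrop (lapp thwr13 [1, 0, 1]) 91) (apW dcM pth130) (tgtN dcM pth130.e) := Suf.fin' (l := lth131) (by decide +kernel)
def lth130 : List AP := [⟨[nat_lit 285, nat_lit 289, nat_lit 284], [], (nat_lit 668), ⟨[nat_lit 0, nat_lit 18, nat_lit 90], [nat_lit 0, nat_lit 26, nat_lit 91], ⟨[nat_lit 0x1dd4c24a30055eba3829998a7b090d], [nat_lit 173056, nat_lit 168960, nat_lit 165120, nat_lit 160768, nat_lit 156288, nat_lit 152736, nat_lit 148816, nat_lit 143752, nat_lit 140868, nat_lit 135510, nat_lit 132357, nat_lit 492, nat_lit 5232, nat_lit 13840, nat_lit 16960, nat_lit 21184, nat_lit 32822, nat_lit 20744, nat_lit 16429, nat_lit 12323, nat_lit 4113]⟩⟩⟩,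
  ⟨[nat_lit 669, nat_lit 291, nat_lit 354, nat_lit 284], [], (nat_lit 1158), ⟨[nat_lit 19, nat_lit 50], [nat_lit 16, nat_lit 65], ⟨[nat_lit 0x22289654ee6c54313e0bb9420b4a66], [nat_lit 174080, nat_lit 171520, nat_lit 164864, nat_lit 162304, nat_lit 157696, nat_lit 155104, nat_lit 147664, nat_lit 144312, nat_lit 141144, nat_lit 139088, nat_lit 134334, nat_lit 738, nat_lit 4340, nat_lit 8360, nat_lit 12976, nat_lit 17696, nat_lit 21888, nat_lit 26368, nat_lit 29440, nat_lit 41857, nat_lit 38133, nat_lit 33523, nat_lit 29032, nat_lit 24706, nat_lit 20574, nat_lit 16429, nat_lit 12304, nat_lit 8203, nat_lit 4104]⟩⟩⟩]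
theorem sth130 : Suf thT 2048 (ldrop (lapp thwr13 [1, 0, 1]) 81) (apW dcM pth129) (tgtN dcM pth129.e) := Suf.seg (l := lth130) (by decide +kernel) sth131
def lth129 : List AP := [⟨[nat_lit 143, nat_lit 148, nat_lit 147, nat_lit 142, nat_lit 141, nat_lit 139], [], (nat_lit 730), ⟨[nat_lit 0, nat_lit 76, nat_lit 53], [nat_lit 9, nat_lit 47], ⟨[nat_lit 0x5cd0ca4aaf5181689cae4907708a0d], [nat_lit 168448, nat_lit 164352, nat_lit 161664, nat_lit 155904, nat_lit 152064, nat_lit 149312, nat_lit 143832, nat_lit 140808, nat_lit 135298, nat_lit 133096, nat_lit 492, nat_lit 4160, nat_lit 13776, nat_lit 17120, nat_lit 21632, nat_lit 29440, nat_lit 33792, nat_lit 41584, nat_lit 37375, nat_lit 32852, nat_lit 28728, nat_lit 24600, nat_lit 20494, nat_lit 16449, nat_lit 12307, nat_lit 4104]⟩⟩⟩,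
  ⟨[nat_lit 288, nat_lit 289, nat_lit 291, nat_lit 355, nat_lit 284], [], (nat_lit 650), ⟨[nat_lit 0, nat_lit 79, nat_lit 50], [nat_lit 4, nat_lit 91], ⟨[nat_lit 0x4d6368082b4326d91d4405caf30e8e], [nat_lit 168960, nat_lit 164096, nat_lit 160640, nat_lit 157440, nat_lit 153120, nat_lit 147712, nat_lit 145256, nat_lit 141932, nat_lit 136224, nat_lit 132057, nat_lit 1292, nat_lit 5112, nat_lit 8200, nat_lit 13312, nat_lit 16576, nat_lit 22336, nat_lit 25344, nat_lit 29696, nat_lit 33280, nat_lit 37888, nat_lit 41973, nat_lit 38019, nat_lit 32988, nat_lit 28684, nat_lit 24622, nat_lit 20497, nat_lit 16421, nat_lit 12292, nat_lit 4160, nat_lit 32]⟩⟩⟩]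
theorem sth129 : Suf thT 2048 (ldrop (lapp thwr13 [1, 0, 1]) 71) (apW dcM pth128) (tgtN dcM pth128.e) := Suf.seg (l := lth129) (by decide +kernel) sth130
def lth128 : List AP := [⟨[nat_lit 289, nat_lit 354, nat_lit 293, nat_lit 289, nat_lit 284], [], (nat_lit 1172), ⟨[nat_lit 76, nat_lit 61], [nat_lit 71, nat_lit 60], ⟨[nat_lit 0x69247124b402ec69a18a88c2fabaf0], [nat_lit 175104, nat_lit 168960, nat_lit 167424, nat_lit 161792, nat_lit 158464, nat_lit 152096, nat_lit 148688, nat_lit 145336, nat_lit 141364, nat_lit 138578, nat_lit 132402, nat_lit 1076, nat_lit 5508, nat_lit 10224, nat_lit 12336, nat_lit 18176, nat_lit 21120, nat_lit 25216, nat_lit 30464, nat_lit 41850, nat_lit 36930, nat_lit 32993, nat_lit 28724, nat_lit 24610, nat_lit 20493, nat_lit 16394, nat_lit 12307, nat_lit 8194, nat_lit 4097, nat_lit 2]⟩⟩⟩,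
  ⟨[nat_lit 225, nat_lit 666, nat_lit 231, nat_lit 226], [], (nat_lit 1114), ⟨[nat_lit 0, nat_lit 31, nat_lit 63], [nat_lit 0, nat_lit 74, nat_lit 46], ⟨[nat_lit 0x6062eacc543bec90297034865411b7], [nat_lit 173056, nat_lit 171520, nat_lit 160000, nat_lit 157696, nat_lit 152992, nat_lit 148064, nat_lit 147000, nat_lit 142408, nat_lit 139226, nat_lit 134921, nat_lit 1124, nat_lit 5024, nat_lit 10144, nat_lit 13440, nat_lit 16512, nat_lit 20608, nat_lit 24704, nat_lit 29952, nat_lit 33792, nat_lit 37888, nat_lit 41227, nat_lit 36911, nat_lit 33984, nat_lit 28675, nat_lit 24864, nat_lit 20564, nat_lit 16420, nat_lit 12291, nat_lit 8224, nat_lit 4]⟩⟩⟩]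
theorem sth128 : Suf thT 2048 (ldrop (lapp thwr13 [1, 0, 1]) 65) (apW dcM pth127) (tgtN dcM pth127.e) := Suf.seg (l := lth128) (by decide +kernel) sth129
def lth127 : List AP := [⟨[nat_lit 222, nat_lit 225, nat_lit 259, nat_lit 222, nat_lit 222], [], (nat_lit 640), ⟨[nat_lit 0, nat_lit 22, nat_lit 56], [nat_lit 34, nat_lit 60], ⟨[nat_lit 0x8cc27a8ec5699805d1f072af222122], [nat_lit 168960, nat_lit 164096, nat_lit 160256, nat_lit 157184, nat_lit 152704, nat_lit 148016, nat_lit 145960, nat_lit 140668, nat_lit 135876, nat_lit 132964, nat_lit 1178, nat_lit 5580, nat_lit 8448, nat_lit 12304, nat_lit 21504, nat_lit 24704, nat_lit 28928, nat_lit 37888, nat_lit 41601, nat_lit 36967, nat_lit 32984, nat_lit 29027, nat_lit 24832, nat_lit 20614, nat_lit 16392, nat_lit 8225, nat_lit 32]⟩⟩⟩,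
  ⟨[nat_lit 291, nat_lit 357, nat_lit 356, nat_lit 673], [], (nat_lit 800), ⟨[nat_lit 0, nat_lit 82, nat_lit 59], [nat_lit 0, nat_lit 28, nat_lit 60], ⟨[nat_lit 0x74881458a733662b8c0b8c134629f5], [nat_lit 173056, nat_lit 170496, nat_lit 163200, nat_lit 156352, nat_lit 155616, nat_lit 150688, nat_lit 146280, nat_lit 140208, nat_lit 135508, nat_lit 134282, nat_lit 394, nat_lit 5208, nat_lit 9208, nat_lit 14000, nat_lit 16864, nat_lit 21824, nat_lit 25472, nat_lit 28928, nat_lit 37888, nat_lit 41275, nat_lit 36987, nat_lit 32889, nat_lit 28765, nat_lit 24731, nat_lit 20744, nat_lit 16395, nat_lit 12310, nat_lit 8203, nat_lit 4097, nat_lit 2]⟩⟩⟩]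
theorem sth127 : Suf thT 2048 (ldrop (lapp thwr13 [1, 0, 1]) 55) (apW dcM pth126) (tgtN dcM pth126.e) := Suf.seg (l := lth127) (by decide +kernel) sth128
def lth126 : List AP := [⟨[nat_lit 669, nat_lit 291, nat_lit 289, nat_lit 285], [], (nat_lit 1178), ⟨[nat_lit 0, nat_lit 28, nat_lit 52], [nat_lit 0, nat_lit 31, nat_lit 90], ⟨[nat_lit 0x38d42b1975625e42c512b820e0b674], [nat_lit 175104, nat_lit 168960, nat_lit 164096, nat_lit 160512, nat_lit 157440, nat_lit 152416, nat_lit 148144, nat_lit 143976, nat_lit 139816, nat_lit 135280, nat_lit 132087, nat_lit 622, nat_lit 5024, nat_lit 10128, nat_lit 12464, nat_lit 18336, nat_lit 21504, nat_lit 26496, nat_lit 29440, nat_lit 34304, nat_lit 41839, nat_lit 37925, nat_lit 33354, nat_lit 28736, nat_lit 24749, nat_lit 20500, nat_lit 16416, nat_lit 12359, nat_lit 8211, nat_lit 4100, nat_lit 2]⟩⟩⟩,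
  ⟨[nat_lit 145, nat_lit 655, nat_lit 150, nat_lit 655, nat_lit 146], [], (nat_lit 738), ⟨[nat_lit 72, nat_lit 51], [nat_lit 0, nat_lit 27, nat_lit 89], ⟨[nat_lit 0x6d90c9d53115d43041c77983229174], [nat_lit 174080, nat_lit 171008, nat_lit 165632, nat_lit 163328, nat_lit 159360, nat_lit 154656, nat_lit 148128, nat_lit 144992, nat_lit 140696, nat_lit 137398, nat_lit 135006, nat_lit 1730, nat_lit 5112, nat_lit 8912, nat_lit 13168, nat_lit 24960, nat_lit 33792, nat_lit 40993, nat_lit 37311, nat_lit 33507, nat_lit 28715, nat_lit 24893, nat_lit 20503, nat_lit 16422, nat_lit 12418, nat_lit 8226, nat_lit 4097]⟩⟩⟩]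
theorem sth126 : Suf thT 2048 (ldrop (lapp thwr13 [1, 0, 1]) 45) (apW dcM pth125) (tgtN dcM pth125.e) := Suf.seg (l := lth126) (by decide +kernel) sth127
def lth125 : List AP := [⟨[nat_lit 414, nat_lit 467, nat_lit 467, nat_lit 418], [], (nat_lit 912), ⟨[nat_lit 38, nat_lit 89], [nat_lit 0, nat_lit 32, nat_lit 51], ⟨[nat_lit 0x3dc8506f682e639508d39522ac4cc], [nat_lit 164608, nat_lit 161664, nat_lit 156096, nat_lit 152736, nat_lit 149472, nat_lit 144288, nat_lit 140560, nat_lit 138602, nat_lit 132442, nat_lit 2012, nat_lit 5120, nat_lit 10040, nat_lit 13616, nat_lit 17440, nat_lit 22080, nat_lit 25216, nat_lit 28928, nat_lit 33280, nat_lit 41858, nat_lit 36987, nat_lit 33937, nat_lit 29774, nat_lit 24739, nat_lit 20557, nat_lit 16653, nat_lit 12307, nat_lit 8203, nat_lit 8]⟩⟩⟩,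
  ⟨[nat_lit 351, nat_lit 355, nat_lit 670, nat_lit 289], [], (nat_lit 641), ⟨[nat_lit 0, nat_lit 20, nat_lit 94], [nat_lit 0, nat_lit 37, nat_lit 57], ⟨[nat_lit 0x6a415994418acca63cf275c6824296], [nat_lit 173056, nat_lit 164096, nat_lit 162304, nat_lit 155712, nat_lit 151744, nat_lit 147488, nat_lit 145008, nat_lit 141028, nat_lit 136908, nat_lit 131356, nat_lit 568, nat_lit 5368, nat_lit 8256, nat_lit 13536, nat_lit 16640, nat_lit 20608, nat_lit 25856, nat_lit 28928, nat_lit 41709, nat_lit 37929, nat_lit 32896, nat_lit 28776, nat_lit 24754, nat_lit 20483, nat_lit 16458, nat_lit 12354, nat_lit 8704, nat_lit 4129]⟩⟩⟩]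
theorem sth125 : Suf thT 2048 (ldrop (lapp thwr13 [1, 0, 1]) 35) (apW dcM pth124) (tgtN dcM pth124.e) := Suf.seg (l := lth125) (by decide +kernel) sth126
def lth124 : List AP := [⟨[nat_lit 658, nat_lit 148, nat_lit 149, nat_lit 139], [], (nat_lit 472), ⟨[nat_lit 0, nat_lit 77, nat_lit 65], [nat_lit 24, nat_lit 55], ⟨[nat_lit 0x20dc5a85b493c5059ad3bc5274280c], [nat_lit 173056, nat_lit 169472, nat_lit 164608, nat_lit 160512, nat_lit 156608, nat_lit 152864, nat_lit 147872, nat_lit 145376, nat_lit 139744, nat_lit 139126, nat_lit 131499, nat_lit 318, nat_lit 5904, nat_lit 8504, nat_lit 13024, nat_lit 17056, nat_lit 21760, nat_lit 25728, nat_lit 28928, nat_lit 34304, nat_lit 41394, nat_lit 37105, nat_lit 33873, nat_lit 28732, nat_lit 24881, nat_lit 20498, nat_lit 16387, nat_lit 12422, nat_lit 8195, nat_lit 4100, nat_lit 2]⟩⟩⟩,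
  ⟨[nat_lit 259, nat_lit 260, nat_lit 266, nat_lit 229, nat_lit 223], [], (nat_lit 640), ⟨[nat_lit 0, nat_lit 88, nat_lit 92], [nat_lit 0, nat_lit 22, nat_lit 51], ⟨[nat_lit 0x21d6e40da22c01493e6962af6346a1], [nat_lit 164608, nat_lit 160000, nat_lit 155776, nat_lit 151904, nat_lit 147712, nat_lit 145648, nat_lit 141012, nat_lit 136536, nat_lit 131425, nat_lit 1760, nat_lit 4104, nat_lit 9648, nat_lit 13312, nat_lit 17472, nat_lit 21440, nat_lit 26240, nat_lit 30208, nat_lit 41715, nat_lit 38342, nat_lit 32886, nat_lit 29726, nat_lit 24721, nat_lit 20560, nat_lit 16385, nat_lit 8224, nat_lit 4097, nat_lit 2]⟩⟩⟩]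
theorem sth124 : Suf thT 2048 (ldrop (lapp thwr13 [1, 0, 1]) 29) (apW dcM pth123) (tgtN dcM pth123.e) := Suf.seg (l := lth124) (by decide +kernel) sth125
def lth123 : List AP := [⟨[nat_lit 146, nat_lit 148, nat_lit 139, nat_lit 142], [], (nat_lit 724), ⟨[nat_lit 0, nat_lit 25, nat_lit 66], [nat_lit 0, nat_lit 35], ⟨[nat_lit 0x9ae89568e0406c20976794f19a5aa], [nat_lit 175104, nat_lit 171520, nat_lit 164352, nat_lit 163328, nat_lit 157888, nat_lit 155424, nat_lit 147856, nat_lit 144448, nat_lit 140776, nat_lit 138998, nat_lit 134644, nat_lit 724, nat_lit 5900, nat_lit 9560, nat_lit 12480, nat_lit 16864, nat_lit 21248, nat_lit 25984, nat_lit 30208, nat_lit 33280, nat_lit 41115, nat_lit 37179, nat_lit 32846, nat_lit 29759, nat_lit 24889, nat_lit 20556, nat_lit 16395, nat_lit 12311, nat_lit 8201, nat_lit 4]⟩⟩⟩,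
  ⟨[nat_lit 352, nat_lit 285, nat_lit 286, nat_lit 293, nat_lit 284], [], (nat_lit 1134), ⟨[nat_lit 0, nat_lit 43, nat_lit 56], [nat_lit 0, nat_lit 43, nat_lit 48], ⟨[nat_lit 0x7de706a57592081b38a751a20a0983], [nat_lit 175104, nat_lit 169472, nat_lit 165888, nat_lit 163456, nat_lit 159552, nat_lit 152416, nat_lit 149280, nat_lit 144360, nat_lit 143264, nat_lit 137836, nat_lit 132094, nat_lit 8, nat_lit 4408, nat_lit 8224, nat_lit 13552, nat_lit 17600, nat_lit 20544, nat_lit 25344, nat_lit 29696, nat_lit 41838, nat_lit 38050, nat_lit 32913, nat_lit 29055, nat_lit 24637, nat_lit 20494, nat_lit 16391, nat_lit 12294, nat_lit 8200, nat_lit 4100, nat_lit 16]⟩⟩⟩]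
theorem sth123 : Suf thT 2048 (ldrop (lapp thwr13 [1, 0, 1]) 19) (apW dcM pth122) (tgtN dcM pth122.e) := Suf.seg (l := lth123) (by decide +kernel) sth124
def lth122 : List AP := [⟨[nat_lit 351, nat_lit 669, nat_lit 673, nat_lit 356, nat_lit 284], [], (nat_lit 1156), ⟨[nat_lit 0, nat_lit 36, nat_lit 50], [nat_lit 9], ⟨[nat_lit 0x448c1488b001151756971acf37b6cc], [nat_lit 173056, nat_lit 169472, nat_lit 164864, nat_lit 161280, nat_lit 156480, nat_lit 152928, nat_lit 147488, nat_lit 145248, nat_lit 142520, nat_lit 135604, nat_lit 131084, nat_lit 902, nat_lit 4408, nat_lit 9040, nat_lit 13360, nat_lit 16608, nat_lit 22144, nat_lit 25856, nat_lit 34304, nat_lit 41046, nat_lit 37300, nat_lit 32815, nat_lit 28701, nat_lit 24628, nat_lit 20510, nat_lit 16419, nat_lit 12292, nat_lit 8195, nat_lit 4097, nat_lit 2]⟩⟩⟩,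
  ⟨[nat_lit 355, nat_lit 295, nat_lit 286], [], (nat_lit 882), ⟨[nat_lit 0, nat_lit 26, nat_lit 66], [nat_lit 81, nat_lit 62], ⟨[nat_lit 0x8815784ccf5c856195a123ab4620e9], [nat_lit 170496, nat_lit 165376, nat_lit 158400, nat_lit 152672, nat_lit 147696, nat_lit 145704, nat_lit 141836, nat_lit 139016, nat_lit 134616, nat_lit 1928, nat_lit 4628, nat_lit 8952, nat_lit 13552, nat_lit 18400, nat_lit 20736, nat_lit 25600, nat_lit 34304, nat_lit 41327, nat_lit 37171, nat_lit 32973, nat_lit 28724, nat_lit 24587, nat_lit 20502, nat_lit 16387, nat_lit 12289, nat_lit 8225, nat_lit 4101]⟩⟩⟩]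
theorem sth122 : Suf thT 2048 (ldrop (lapp thwr13 [1, 0, 1]) 9) (apW dcM pth121) (tgtN dcM pth121.e) := Suf.seg (l := lth122) (by decide +kernel) sth123
def lth121 : List AP := [⟨[nat_lit 636, nat_lit 636, nat_lit 24, nat_lit 21, nat_lit 25, nat_lit 32], [], (nat_lit 276), ⟨[nat_lit 0, nat_lit 41, nat_lit 50], [nat_lit 44, nat_lit 65], ⟨[nat_lit 0xba0296cd4605085ab1e28cac33c16e], [nat_lit 173056, nat_lit 169984, nat_lit 164608, nat_lit 160896, nat_lit 158976, nat_lit 152352, nat_lit 148704, nat_lit 147344, nat_lit 143112, nat_lit 137474, nat_lit 134541, nat_lit 1530, nat_lit 5228, nat_lit 10224, nat_lit 13968, nat_lit 18112, nat_lit 20864, nat_lit 25600, nat_lit 30208, nat_lit 33792, nat_lit 41029, nat_lit 37244, nat_lit 33421, nat_lit 29051, nat_lit 24581, nat_lit 20511, nat_lit 16397, nat_lit 12309, nat_lit 8193, nat_lit 4097]⟩⟩⟩,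
  ⟨[nat_lit 139, nat_lit 655, nat_lit 657, nat_lit 145, nat_lit 139], [], (nat_lit 476), ⟨[nat_lit 0, nat_lit 71, nat_lit 63], [nat_lit 3, nat_lit 56], ⟨[nat_lit 0xaaad3920413b6e07b9712a4d025183], [nat_lit 168448, nat_lit 167168, nat_lit 160128, nat_lit 155712, nat_lit 152416, nat_lit 149488, nat_lit 143416, nat_lit 141068, nat_lit 136206, nat_lit 131135, nat_lit 582, nat_lit 4156, nat_lit 8216, nat_lit 12304, nat_lit 16448, nat_lit 20544, nat_lit 24832, nat_lit 28928, nat_lit 33280, nat_lit 41898, nat_lit 37132, nat_lit 29738, nat_lit 24614, nat_lit 20575, nat_lit 16425, nat_lit 12321, nat_lit 8258, nat_lit 32]⟩⟩⟩]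
theorem thcr13_3 : Suf thT 2048 (lapp thwr13 [1, 0, 1]) (apW dcM q1) (tgtN dcM q1.e) := Suf.seg (l := lth121) (by decide +kernel) sth122

theorem thcr14 : Chk thT thwr14 := .inr (by decide +kernel)

theorem thcr15 : Chk thT thwr15 := .inr (by decide +kernel)

def pth132 : AP := ⟨[nat_lit 352, nat_lit 355, nat_lit 290], [], (nat_lit 1132), ⟨[nat_lit 76, nat_lit 59], [nat_lit 25, nat_lit 67], ⟨[nat_lit 0x3ae644b9f250c113504c686e5ada08], [nat_lit 174080, nat_lit 169984, nat_lit 166144, nat_lit 162432, nat_lit 157056, nat_lit 155264, nat_lit 149856, nat_lit 145216, nat_lit 142948, nat_lit 137008, nat_lit 131581, nat_lit 952, nat_lit 5400, nat_lit 9904, nat_lit 12592, nat_lit 16512, nat_lit 21632, nat_lit 30208, nat_lit 33280, nat_lit 41390, nat_lit 37340, nat_lit 32786, nat_lit 29205, nat_lit 24717, nat_lit 21530, nat_lit 16416, nat_lit 12422, nat_lit 8193, nat_lit 4105, nat_lit 4]⟩⟩⟩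
def pth133 : AP := ⟨[nat_lit 665, nat_lit 665, nat_lit 259, nat_lit 262], [], (nat_lit 544), ⟨[nat_lit 0, nat_lit 20, nat_lit 63], [nat_lit 0, nat_lit 43, nat_lit 65], ⟨[nat_lit 0x3baaa7a6e6b52016b2235811224ca2], [nat_lit 175104, nat_lit 167680, nat_lit 162304, nat_lit 158720, nat_lit 153504, nat_lit 149456, nat_lit 145320, nat_lit 142868, nat_lit 139186, nat_lit 133030, nat_lit 586, nat_lit 5444, nat_lit 8320, nat_lit 13632, nat_lit 22016, nat_lit 24832, nat_lit 28928, nat_lit 33792, nat_lit 41805, nat_lit 38132, nat_lit 32970, nat_lit 28674, nat_lit 24840, nat_lit 20994, nat_lit 16425, nat_lit 12321, nat_lit 8195, nat_lit 4]⟩⟩⟩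
def lth134 : List AP := [⟨[nat_lit 264, nat_lit 668, nat_lit 226], [], (nat_lit 1120), ⟨[nat_lit 75, nat_lit 70], [nat_lit 7, nat_lit 93], ⟨[nat_lit 0x540acbd814a8c22991eb345a83c92e], [nat_lit 171008, nat_lit 163072, nat_lit 156800, nat_lit 155232, nat_lit 149904, nat_lit 145792, nat_lit 141252, nat_lit 135450, nat_lit 133310, nat_lit 1292, nat_lit 4720, nat_lit 10160, nat_lit 14096, nat_lit 18336, nat_lit 21440, nat_lit 25472, nat_lit 29184, nat_lit 37888, nat_lit 41477, nat_lit 37352, nat_lit 32799, nat_lit 29260, nat_lit 24613, nat_lit 20491, nat_lit 16650, nat_lit 12325, nat_lit 8193, nat_lit 4097]⟩⟩⟩,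
  ⟨[nat_lit 647], [], (nat_lit 196), ⟨[nat_lit 0, nat_lit 83, nat_lit 70], [nat_lit 73, nat_lit 67], ⟨[nat_lit 0x5de2260c2755a40355f474c9069509], [nat_lit 173056, nat_lit 168448, nat_lit 164352, nat_lit 161280, nat_lit 156224, nat_lit 153280, nat_lit 147760, nat_lit 145888, nat_lit 140648, nat_lit 135202, nat_lit 131719, nat_lit 1066, nat_lit 5316, nat_lit 8320, nat_lit 12544, nat_lit 16480, nat_lit 20672, nat_lit 24832, nat_lit 28928, nat_lit 41773, nat_lit 38243, nat_lit 33000, nat_lit 28728, nat_lit 24605, nat_lit 20628, nat_lit 16453, nat_lit 12291, nat_lit 8224, nat_lit 4105, nat_lit 8]⟩⟩⟩,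
  ⟨[nat_lit 632, nat_lit 36], [], (nat_lit 1032), ⟨[nat_lit 0, nat_lit 14, nat_lit 51], [nat_lit 24, nat_lit 51], ⟨[nat_lit 0x51eae990456c46c5c9007dd26b0690], [nat_lit 173056, nat_lit 168960, nat_lit 160768, nat_lit 156608, nat_lit 152256, nat_lit 151136, nat_lit 143368, nat_lit 140624, nat_lit 136290, nat_lit 132497, nat_lit 760, nat_lit 4128, nat_lit 10128, nat_lit 12976, nat_lit 17408, nat_lit 21504, nat_lit 25216, nat_lit 29696, nat_lit 41917, nat_lit 37252, nat_lit 33373, nat_lit 28774, nat_lit 24758, nat_lit 20500, nat_lit 12544, nat_lit 8226, nat_lit 4100, nat_lit 8]⟩⟩⟩]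
theorem sth134 : Suf thT 19005990 (ldrop (lapp thwr16 [1, 0, 1]) 14) (apW dcM pth133) (tgtN dcM pth133.e) := Suf.fin' (l := lth134) (by decide +kernel)
def lth133 : List AP := [⟨[nat_lit 261, nat_lit 224, nat_lit 224, nat_lit 666, nat_lit 223], [], (nat_lit 608), ⟨[nat_lit 72, nat_lit 53], [nat_lit 0, nat_lit 54], ⟨[nat_lit 0x69686455e98ac6750093106ec93ad0], [nat_lit 174080, nat_lit 170496, nat_lit 164864, nat_lit 163584, nat_lit 159232, nat_lit 154112, nat_lit 144136, nat_lit 141224, nat_lit 138994, nat_lit 134606, nat_lit 1698, nat_lit 5208, nat_lit 10224, nat_lit 13920, nat_lit 17088, nat_lit 21376, nat_lit 29952, nat_lit 33792, nat_lit 41787, nat_lit 38002, nat_lit 33333, nat_lit 28702, nat_lit 24591, nat_lit 20765, nat_lit 16391, nat_lit 12358, nat_lit 8193]⟩⟩⟩,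
  ⟨[], [], (nat_lit 1136), ⟨[nat_lit 0, nat_lit 12, nat_lit 56], [nat_lit 12, nat_lit 67], ⟨[nat_lit 0x40a67226212b4d660ea052df793a90], [nat_lit 175104, nat_lit 166912, nat_lit 163328, nat_lit 159168, nat_lit 152512, nat_lit 148896, nat_lit 145400, nat_lit 142156, nat_lit 137306, nat_lit 132999, nat_lit 1076, nat_lit 5604, nat_lit 10128, nat_lit 13008, nat_lit 16928, nat_lit 30464, nat_lit 33792, nat_lit 41340, nat_lit 36898, nat_lit 34043, nat_lit 28730, nat_lit 24628, nat_lit 20493, nat_lit 16455, nat_lit 12327, nat_lit 8194, nat_lit 16]⟩⟩⟩]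
theorem sth133 : Suf thT 19005990 (ldrop (lapp thwr16 [1, 0, 1]) 6) (apW dcM pth132) (tgtN dcM pth132.e) := Suf.seg (l := lth133) (by decide +kernel) sth134
def lth132 : List AP := [⟨[nat_lit 16, nat_lit 16, nat_lit 16, nat_lit 17, nat_lit 43, nat_lit 16], [], (nat_lit 150), ⟨[nat_lit 0, nat_lit 10, nat_lit 90], [nat_lit 31, nat_lit 47], ⟨[nat_lit 0x2aeb1540f74cc94605af009c391916], [nat_lit 173056, nat_lit 168448, nat_lit 165632, nat_lit 161024, nat_lit 158208, nat_lit 153408, nat_lit 149248, nat_lit 144024, nat_lit 141128, nat_lit 136256, nat_lit 131657, nat_lit 760, nat_lit 5988, nat_lit 8840, nat_lit 17696, nat_lit 21824, nat_lit 25600, nat_lit 29184, nat_lit 33280, nat_lit 37888, nat_lit 41164, nat_lit 37187, nat_lit 33323, nat_lit 29712, nat_lit 24581, nat_lit 20744, nat_lit 16516, nat_lit 12304, nat_lit 8257, nat_lit 4609]⟩⟩⟩,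
  ⟨[nat_lit 84, nat_lit 644, nat_lit 102, nat_lit 77, nat_lit 76], [], (nat_lit 718), ⟨[nat_lit 0, nat_lit 41, nat_lit 64], [nat_lit 77, nat_lit 93], ⟨[nat_lit 0x815a00924c39ae9555eeb457315068], [nat_lit 165376, nat_lit 160000, nat_lit 155968, nat_lit 152128, nat_lit 151008, nat_lit 144880, nat_lit 139664, nat_lit 135620, nat_lit 131359, nat_lit 846, nat_lit 4932, nat_lit 8224, nat_lit 12320, nat_lit 16640, nat_lit 20736, nat_lit 25088, nat_lit 34304, nat_lit 37888, nat_lit 41232, nat_lit 37136, nat_lit 32900, nat_lit 28686, nat_lit 24586, nat_lit 20507, nat_lit 16385, nat_lit 12327, nat_lit 8200, nat_lit 4129, nat_lit 16]⟩⟩⟩]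
theorem thcr16_0 : Suf thT 19005990 (lapp thwr16 [1, 0, 1]) (apW dcM q0) (tgtN dcM q0.e) := Suf.seg (l := lth132) (by decide +kernel) sth133


end

end CF.Mon.Tr
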