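import Cfsg.Agent.Mon.thD

set_option autoImplicit false
set_option maxRecDepth 100000

namespace CF.Mon.Tr

open CF.Comp

noncomputable section

def pth135 : AP := ⟨[nat_lit 672, nat_lit 290, nat_lit 293, nat_lit 284], [], (nat_lit 872), ⟨[nat_lit 43, nat_lit 55], [nat_lit 14, nat_lit 63], ⟨[nat_lit 0x6ce9562d3508c3897349470ba90f], [nat_lit 174080, nat_lit 169984, nat_lit 165376, nat_lit 163200, nat_lit 159040, nat_lit 155328, nat_lit 149296, nat_lit 144184, nat_lit 140328, nat_lit 137670, nat_lit 133321, nat_lit 394, nat_lit 5372, nat_lit 8488, nat_lit 13920, nat_lit 16544, nat_lit 22016, nat_lit 25344, nat_lit 30464, nat_lit 41609, nat_lit 37129, nat_lit 33421, nat_lit 29029, nat_lit 24594, nat_lit 20628, nat_lit 16428, nat_lit 12290, nat_lit 8225, nat_lit 4105]⟩⟩⟩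
def pth136 : AP := ⟨[nat_lit 410, nat_lit 676, nat_lit 414, nat_lit 412], [], (nat_lit 911), ⟨[nat_lit 0, nat_lit 10, nat_lit 53], [nat_lit 15, nat_lit 66], ⟨[nat_lit 0xb34412558775128828c09de2f2c86b], [nat_lit 174080, nat_lit 171520, nat_lit 162560, nat_lit 158912, nat_lit 153760, nat_lit 147728, nat_lit 143648, nat_lit 141156, nat_lit 138722, nat_lit 133150, nat_lit 1336, nat_lit 5072, nat_lit 8816, nat_lit 12416, nat_lit 17440, nat_lit 22336, nat_lit 25344, nat_lit 29184, nat_lit 41750, nat_lit 37109, nat_lit 32786, nat_lit 28683, nat_lit 25145, nat_lit 20505, nat_lit 16426, nat_lit 12291, nat_lit 8259, nat_lit 4097]⟩⟩⟩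
def lth137 : List AP := [⟨[nat_lit 468, nat_lit 467, nat_lit 462], [], (nat_lit 1226), ⟨[nat_lit 0, nat_lit 37, nat_lit 68], [nat_lit 0, nat_lit 23, nat_lit 60], ⟨[nat_lit 0x784d570ac5012eda30679ca298290b], [nat_lit 169472, nat_lit 160768, nat_lit 156480, nat_lit 152064, nat_lit 149200, nat_lit 143872, nat_lit 142872, nat_lit 135734, nat_lit 132509, nat_lit 1224, nat_lit 4824, nat_lit 8448, nat_lit 13904, nat_lit 16544, nat_lit 21760, nat_lit 24704, nat_lit 29184, nat_lit 33280, nat_lit 37888, nat_lit 41732, nat_lit 37969, nat_lit 33019, nat_lit 29055, nat_lit 24895, nat_lit 20748, nat_lit 16429, nat_lit 12310, nat_lit 8195, nat_lit 4101, nat_lit 4]⟩⟩⟩,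
  ⟨[nat_lit 68, nat_lit 46], [], (nat_lit 122), ⟨[nat_lit 88, nat_lit 47], [nat_lit 40, nat_lit 48], ⟨[nat_lit 0xb0e6e4a0ea310abab602bb0110c9f4], [nat_lit 173056, nat_lit 168960, nat_lit 167168, nat_lit 160000, nat_lit 152192, nat_lit 148928, nat_lit 143520, nat_lit 140196, nat_lit 136594, nat_lit 133043, nat_lit 1842, nat_lit 5992, nat_lit 10160, nat_lit 13920, nat_lit 17440, nat_lit 26112, nat_lit 28928, nat_lit 33280, nat_lit 41446, nat_lit 37213, nat_lit 32916, nat_lit 28943, nat_lit 25148, nat_lit 20549, nat_lit 16523, nat_lit 12290, nat_lit 8224, nat_lit 4104, nat_lit 64]⟩⟩⟩,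
  ⟨[nat_lit 36], [], (nat_lit 1032), ⟨[nat_lit 18, nat_lit 62], [nat_lit 27, nat_lit 65], ⟨[nat_lit 0x7a5d58904d2cc6cb4910518f758680], [nat_lit 168960, nat_lit 164864, nat_lit 160896, nat_lit 157504, nat_lit 152576, nat_lit 151008, nat_lit 143408, nat_lit 141244, nat_lit 135280, nat_lit 131342, nat_lit 16, nat_lit 4128, nat_lit 9280, nat_lit 13280, nat_lit 16416, nat_lit 21952, nat_lit 26112, nat_lit 33792, nat_lit 37888, nat_lit 41968, nat_lit 37956, nat_lit 32944, nat_lit 28799, nat_lit 24589, nat_lit 20636, nat_lit 16389, nat_lit 12290, nat_lit 8211, nat_lit 4100]⟩⟩⟩]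
theorem sth137 : Suf thT 19005990 (ldrop (lapp thwr16 [2, 0, 1]) 14) (apW dcM pth136) (tgtN dcM pth136.e) := Suf.fin' (l := lth137) (by decide +kernel)
def lth136 : List AP := [⟨[nat_lit 674, nat_lit 466, nat_lit 414, nat_lit 677], [], (nat_lit 875), ⟨[nat_lit 0, nat_lit 12, nat_lit 70], [nat_lit 0, nat_lit 70], ⟨[nat_lit 0x705f1b1d2c42c5299480adc70551a6], [nat_lit 174080, nat_lit 168960, nat_lit 164096, nat_lit 161792, nat_lit 156480, nat_lit 152544, nat_lit 150416, nat_lit 145680, nat_lit 141740, nat_lit 137440, nat_lit 134275, nat_lit 158, nat_lit 5488, nat_lit 10152, nat_lit 12320, nat_lit 18272, nat_lit 20928, nat_lit 25472, nat_lit 29440, nat_lit 34304, nat_lit 41818, nat_lit 38277, nat_lit 33948, nat_lit 28975, nat_lit 24718, nat_lit 20550, nat_lit 16910, nat_lit 12421, nat_lit 8201]⟩⟩⟩,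
  ⟨[], [], (nat_lit 874), ⟨[nat_lit 0, nat_lit 25, nat_lit 67], [nat_lit 0, nat_lit 1, nat_lit 68], ⟨[nat_lit 0xb5412231170ba2d808e59ad23551e6], [nat_lit 173056, nat_lit 166400, nat_lit 159872, nat_lit 156224, nat_lit 153984, nat_lit 150992, nat_lit 145728, nat_lit 141384, nat_lit 138050, nat_lit 131941, nat_lit 786, nat_lit 5716, nat_lit 9640, nat_lit 13152, nat_lit 16960, nat_lit 21312, nat_lit 24960, nat_lit 41708, nat_lit 38374, nat_lit 33408, nat_lit 29010, nat_lit 24737, nat_lit 20563, nat_lit 16459, nat_lit 12291, nat_lit 9218, nat_lit 8]⟩⟩⟩]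
theorem sth136 : Suf thT 19005990 (ldrop (lapp thwr16 [2, 0, 1]) 6) (apW dcM pth135) (tgtN dcM pth135.e) := Suf.seg (l := lth136) (by decide +kernel) sth137
def lth135 : List AP := [⟨[nat_lit 38, nat_lit 630, nat_lit 41, nat_lit 41, nat_lit 37], [], (nat_lit 90), ⟨[nat_lit 45, nat_lit 89], [nat_lit 0, nat_lit 35, nat_lit 68], ⟨[nat_lit 0x5b6f1306121d6c4a2993781c712505], [nat_lit 164608, nat_lit 156480, nat_lit 147536, nat_lit 143688, nat_lit 139408, nat_lit 138296, nat_lit 132288, nat_lit 1054, nat_lit 4352, nat_lit 9664, nat_lit 13584, nat_lit 17120, nat_lit 22144, nat_lit 28928, nat_lit 33280, nat_lit 41933, nat_lit 37186, nat_lit 32819, nat_lit 28694, nat_lit 25088, nat_lit 20753, nat_lit 16517, nat_lit 13315, nat_lit 16]⟩⟩⟩,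
  ⟨[nat_lit 56, nat_lit 56, nat_lit 47, nat_lit 642, nat_lit 47, nat_lit 46], [], (nat_lit 716), ⟨[nat_lit 0, nat_lit 5, nat_lit 67], [nat_lit 41, nat_lit 68], ⟨[nat_lit 0x239acb8511394cf550504c876acc0b], [nat_lit 164096, nat_lit 160384, nat_lit 156032, nat_lit 152064, nat_lit 147536, nat_lit 144840, nat_lit 140284, nat_lit 137830, nat_lit 131175, nat_lit 986, nat_lit 4684, nat_lit 9384, nat_lit 13264, nat_lit 17632, nat_lit 20800, nat_lit 25600, nat_lit 29952, nat_lit 33792, nat_lit 37888, nat_lit 41638, nat_lit 37286, nat_lit 33344, nat_lit 28766, nat_lit 24760, nat_lit 20500, nat_lit 16421, nat_lit 12295, nat_lit 8200, nat_lit 4100, nat_lit 2]⟩⟩⟩]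
theorem thcr16_1 : Suf thT 19005990 (lapp thwr16 [2, 0, 1]) (iC2 :: apW dcM q0) (tgtN dcM q0.e) := Suf.seg (l := lth135) (by decide +kernel) sth136

def pth138 : AP := ⟨[nat_lit 665, nat_lit 228, nat_lit 264, nat_lit 222], [], (nat_lit 1106), ⟨[nat_lit 42, nat_lit 48], [nat_lit 0, nat_lit 73, nat_lit 93], ⟨[nat_lit 0x80c37330086a482a48e5b4d6a7ba35], [nat_lit 169472, nat_lit 167424, nat_lit 159872, nat_lit 156032, nat_lit 154976, nat_lit 150704, nat_lit 146504, nat_lit 143128, nat_lit 138932, nat_lit 132226, nat_lit 2012, nat_lit 4924, nat_lit 9648, nat_lit 13664, nat_lit 16864, nat_lit 21056, nat_lit 26496, nat_lit 28928, nat_lit 33280, nat_lit 37888, nat_lit 41117, nat_lit 37135, nat_lit 32898, nat_lit 29046, nat_lit 24758, nat_lit 20639, nat_lit 16385, nat_lit 12290, nat_lit 8194]⟩⟩⟩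
def pth139 : AP := ⟨[nat_lit 228, nat_lit 665, nat_lit 228], [], (nat_lit 622), ⟨[nat_lit 42, nat_lit 66], [nat_lit 27, nat_lit 65], ⟨[nat_lit 0x1a2405c5ac30acea2af3784b53a604], [nat_lit 169984, nat_lit 164352, nat_lit 161280, nat_lit 156288, nat_lit 152288, nat_lit 149440, nat_lit 144776, nat_lit 140160, nat_lit 136614, nat_lit 132742, nat_lit 1166, nat_lit 5508, nat_lit 8744, nat_lit 12560, nat_lit 16448, nat_lit 21952, nat_lit 25088, nat_lit 29184, nat_lit 34304, nat_lit 41790, nat_lit 38049, nat_lit 33374, nat_lit 24618, nat_lit 20561, nat_lit 16430, nat_lit 12322, nat_lit 8211, nat_lit 4100, nat_lit 8]⟩⟩⟩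
def lth140 : List AP := [⟨[nat_lit 294, nat_lit 354, nat_lit 284], [], (nat_lit 1218), ⟨[nat_lit 80, nat_lit 65], [nat_lit 86, nat_lit 53], ⟨[nat_lit 0x545acbae7438dd5440a6b11e014829], [nat_lit 173056, nat_lit 170496, nat_lit 167424, nat_lit 162048, nat_lit 157952, nat_lit 153184, nat_lit 151136, nat_lit 147104, nat_lit 140464, nat_lit 137664, nat_lit 131218, nat_lit 1478, nat_lit 13264, nat_lit 16736, nat_lit 21184, nat_lit 25216, nat_lit 29696, nat_lit 41914, nat_lit 38089, nat_lit 33401, nat_lit 29800, nat_lit 24618, nat_lit 20484, nat_lit 16527, nat_lit 12294, nat_lit 8200, nat_lit 4100, nat_lit 16]⟩⟩⟩,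
  ⟨[nat_lit 81], [], (nat_lit 196), ⟨[nat_lit 0, nat_lit 2, nat_lit 50], [nat_lit 18, nat_lit 62], ⟨[nat_lit 0xb4c6714ae4525c88d4256bd6c050d0], [nat_lit 169472, nat_lit 159872, nat_lit 155840, nat_lit 152544, nat_lit 147728, nat_lit 143448, nat_lit 140264, nat_lit 136288, nat_lit 131075, nat_lit 64, nat_lit 5436, nat_lit 9920, nat_lit 14112, nat_lit 17408, nat_lit 20928, nat_lit 25984, nat_lit 29696, nat_lit 33280, nat_lit 37888, nat_lit 41928, nat_lit 38141, nat_lit 33461, nat_lit 29030, nat_lit 24758, nat_lit 20483, nat_lit 16450, nat_lit 13313, nat_lit 8322, nat_lit 4112, nat_lit 8]⟩⟩⟩,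
  ⟨[nat_lit 38, nat_lit 15, nat_lit 36], [], (nat_lit 1032), ⟨[nat_lit 26, nat_lit 47], [nat_lit 84, nat_lit 62], ⟨[nat_lit 0x32a33a22a74b08e7c017b49a32844b], [nat_lit 173056, nat_lit 168960, nat_lit 167680, nat_lit 160384, nat_lit 155968, nat_lit 152864, nat_lit 149264, nat_lit 145136, nat_lit 139344, nat_lit 135362, nat_lit 132883, nat_lit 404, nat_lit 4100, nat_lit 8448, nat_lit 12416, nat_lit 17088, nat_lit 21120, nat_lit 25472, nat_lit 28928, nat_lit 33792, nat_lit 37888, nat_lit 41216, nat_lit 36915, nat_lit 34017, nat_lit 28729, nat_lit 24878, nat_lit 20614, nat_lit 16423, nat_lit 12304, nat_lit 8194, nat_lit 4100, nat_lit 32]⟩⟩⟩]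
theorem sth140 : Suf thT 19005990 (ldrop (lapp thwr16 [3, 0, 1]) 14) (apW dcM pth139) (tgtN dcM pth139.e) := Suf.fin' (l := lth140) (by decide +kernel)
def lth139 : List AP := [⟨[nat_lit 225, nat_lit 222, nat_lit 259, nat_lit 266], [], (nat_lit 488), ⟨[nat_lit 0, nat_lit 45, nat_lit 57], [nat_lit 17, nat_lit 89], ⟨[nat_lit 0xb0e3042aa024d2f749670b1b431457], [nat_lit 174080, nat_lit 171008, nat_lit 165888, nat_lit 160000, nat_lit 156416, nat_lit 153216, nat_lit 149520, nat_lit 143744, nat_lit 140416, nat_lit 138736, nat_lit 134837, nat_lit 1136, nat_lit 4964, nat_lit 8320, nat_lit 12560, nat_lit 17472, nat_lit 20544, nat_lit 24704, nat_lit 29696, nat_lit 34304, nat_lit 41293, nat_lit 37232, nat_lit 33452, nat_lit 28682, nat_lit 24630, nat_lit 20561, nat_lit 16449, nat_lit 12421, nat_lit 8195, nat_lit 4097, nat_lit 2]⟩⟩⟩,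
  ⟨[], [], (nat_lit 489), ⟨[nat_lit 13, nat_lit 92], [nat_lit 0, nat_lit 15, nat_lit 52], ⟨[nat_lit 0x404ef5808c1da02a255274ead31637], [nat_lit 173056, nat_lit 165120, nat_lit 160640, nat_lit 156864, nat_lit 153568, nat_lit 148112, nat_lit 144576, nat_lit 140568, nat_lit 135684, nat_lit 134249, nat_lit 1652, nat_lit 4924, nat_lit 9968, nat_lit 13200, nat_lit 16608, nat_lit 21696, nat_lit 25216, nat_lit 29184, nat_lit 37888, nat_lit 41874, nat_lit 37045, nat_lit 33815, nat_lit 28766, nat_lit 24729, nat_lit 21000, nat_lit 16417, nat_lit 12305, nat_lit 8193, nat_lit 4160, nat_lit 2]⟩⟩⟩]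
theorem sth139 : Suf thT 19005990 (ldrop (lapp thwr16 [3, 0, 1]) 6) (apW dcM pth138) (tgtN dcM pth138.e) := Suf.seg (l := lth139) (by decide +kernel) sth140
def lth138 : List AP := [⟨[nat_lit 632, nat_lit 37, nat_lit 14, nat_lit 39, nat_lit 17, nat_lit 40], [], (nat_lit 150), ⟨[nat_lit 0, nat_lit 4, nat_lit 70], [nat_lit 72, nat_lit 61], ⟨[nat_lit 0x8c0b51a64d0d006b9d4b612ce40a6f], [nat_lit 174080, nat_lit 168448, nat_lit 166144, nat_lit 162816, nat_lit 158720, nat_lit 153344, nat_lit 149088, nat_lit 144152, nat_lit 142648, nat_lit 138824, nat_lit 131528, nat_lit 1318, nat_lit 4780, nat_lit 10088, nat_lit 13920, nat_lit 18336, nat_lit 21888, nat_lit 25472, nat_lit 29440, nat_lit 33792, nat_lit 41786, nat_lit 37936, nat_lit 32852, nat_lit 28697, nat_lit 24613, nat_lit 20546, nat_lit 16390, nat_lit 12290, nat_lit 8194, nat_lit 4097, nat_lit 2]⟩⟩⟩,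
  ⟨[nat_lit 101, nat_lit 83, nat_lit 100, nat_lit 646, nat_lit 105], [], (nat_lit 534), ⟨[nat_lit 0, nat_lit 30, nat_lit 89], [nat_lit 0, nat_lit 72], ⟨[nat_lit 0x73ca05d992ab60a0c66435c7441c49], [nat_lit 173056, nat_lit 171520, nat_lit 164608, nat_lit 163200, nat_lit 156352, nat_lit 154912, nat_lit 151408, nat_lit 146664, nat_lit 141140, nat_lit 135692, nat_lit 134262, nat_lit 1918, nat_lit 5568, nat_lit 9184, nat_lit 12368, nat_lit 16480, nat_lit 21184, nat_lit 25216, nat_lit 29184, nat_lit 37888, nat_lit 41244, nat_lit 37097, nat_lit 32919, nat_lit 29000, nat_lit 24760, nat_lit 20488, nat_lit 16520, nat_lit 12327, nat_lit 8194, nat_lit 4097]⟩⟩⟩]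
theorem thcr16_2 : Suf thT 19005990 (lapp thwr16 [3, 0, 1]) (iC3 :: apW dcM q0) (tgtN dcM q0.e) := Suf.seg (l := lth138) (by decide +kernel) sth139

def pth141 : AP := ⟨[nat_lit 226, nat_lit 222, nat_lit 264, nat_lit 265, nat_lit 222], [], (nat_lit 636), ⟨[nat_lit 0, nat_lit 38, nat_lit 89], [nat_lit 87, nat_lit 63], ⟨[nat_lit 0x5d69190c2a24d2501d9630aef73510], [nat_lit 160256, nat_lit 157632, nat_lit 151744, nat_lit 148992, nat_lit 145560, nat_lit 140420, nat_lit 136886, nat_lit 131597, nat_lit 428, nat_lit 6076, nat_lit 10224, nat_lit 12352, nat_lit 17056, nat_lit 21760, nat_lit 24832, nat_lit 29184, nat_lit 33280, nat_lit 41756, nat_lit 37190, nat_lit 32941, nat_lit 29020, nat_lit 24587, nat_lit 20633, nat_lit 16513, nat_lit 12292, nat_lit 8201, nat_lit 4161, nat_lit 4]⟩⟩⟩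
def pth142 : AP := ⟨[nat_lit 351, nat_lit 284, nat_lit 285, nat_lit 286], [], (nat_lit 646), ⟨[nat_lit 44, nat_lit 48], [nat_lit 0, nat_lit 34, nat_lit 61], ⟨[nat_lit 0x9828850e5779822ad8ae8b2043ada9], [nat_lit 173056, nat_lit 168448, nat_lit 165632, nat_lit 156160, nat_lit 151808, nat_lit 148688, nat_lit 146032, nat_lit 141064, nat_lit 135356, nat_lit 132135, nat_lit 1066, nat_lit 5580, nat_lit 9752, nat_lit 14000, nat_lit 16640, nat_lit 22144, nat_lit 25728, nat_lit 29952, nat_lit 34304, nat_lit 37888, nat_lit 41418, nat_lit 37176, nat_lit 32804, nat_lit 28792, nat_lit 24723, nat_lit 20504, nat_lit 16416, nat_lit 12309, nat_lit 8194, nat_lit 4097, nat_lit 2]⟩⟩⟩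
def lth143 : List AP := [⟨[nat_lit 287, nat_lit 285, nat_lit 352, nat_lit 288], [], (nat_lit 690), ⟨[nat_lit 40, nat_lit 50], [nat_lit 0, nat_lit 36, nat_lit 52], ⟨[nat_lit 0x292169dc463cc542c438ced484af5], [nat_lit 174080, nat_lit 168960, nat_lit 164864, nat_lit 163200, nat_lit 155840, nat_lit 153216, nat_lit 150368, nat_lit 145704, nat_lit 141808, nat_lit 138078, nat_lit 134831, nat_lit 1762, nat_lit 4328, nat_lit 8824, nat_lit 12448, nat_lit 16416, nat_lit 20544, nat_lit 29696, nat_lit 37888, nat_lit 41648, nat_lit 38297, nat_lit 33476, nat_lit 28694, nat_lit 24629, nat_lit 20570, nat_lit 16448, nat_lit 12322, nat_lit 8193, nat_lit 4]⟩⟩⟩,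
  ⟨[], [], (nat_lit 1052), ⟨[nat_lit 87, nat_lit 52], [nat_lit 0, nat_lit 74, nat_lit 64], ⟨[nat_lit 0x728d59422279d3762e85b21a498061], [nat_lit 173056, nat_lit 168448, nat_lit 164096, nat_lit 159872, nat_lit 159360, nat_lit 152064, nat_lit 147472, nat_lit 143624, nat_lit 139852, nat_lit 135310, nat_lit 131274, nat_lit 2, nat_lit 4104, nat_lit 8768, nat_lit 12352, nat_lit 16448, nat_lit 22144, nat_lit 26368, nat_lit 29952, nat_lit 34304, nat_lit 41536, nat_lit 37184, nat_lit 33408, nat_lit 28967, nat_lit 24739, nat_lit 20481, nat_lit 12293, nat_lit 8202, nat_lit 4101, nat_lit 4]⟩⟩⟩,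
  ⟨[], [], (nat_lit 1034), ⟨[nat_lit 37, nat_lit 92], [nat_lit 0, nat_lit 4, nat_lit 52], ⟨[nat_lit 0xb1847b818f0d232696688112e5d543], [nat_lit 173056, nat_lit 168448, nat_lit 164352, nat_lit 160384, nat_lit 157312, nat_lit 152256, nat_lit 148640, nat_lit 144880, nat_lit 139360, nat_lit 135556, nat_lit 133993, nat_lit 8, nat_lit 5904, nat_lit 9800, nat_lit 13760, nat_lit 16864, nat_lit 21120, nat_lit 25984, nat_lit 29696, nat_lit 37888, nat_lit 41657, nat_lit 37167, nat_lit 32841, nat_lit 29774, nat_lit 24609, nat_lit 20551, nat_lit 16389, nat_lit 12546, nat_lit 8211]⟩⟩⟩]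
theorem sth143 : Suf thT 2048 (ldrop (lapp thwr16 [1, 0, 1]) 14) (apW dcM pth142) (tgtN dcM pth142.e) := Suf.fin' (l := lth143) (by decide +kernel)
def lth142 : List AP := [⟨[nat_lit 286, nat_lit 294, nat_lit 352, nat_lit 290, nat_lit 284], [], (nat_lit 668), ⟨[nat_lit 42, nat_lit 68], [nat_lit 32, nat_lit 56], ⟨[nat_lit 0x41269834aea814fb8d8b11c31b4a86], [nat_lit 173056, nat_lit 168448, nat_lit 166912, nat_lit 163456, nat_lit 159552, nat_lit 155360, nat_lit 148320, nat_lit 147296, nat_lit 143252, nat_lit 137204, nat_lit 134921, nat_lit 1516, nat_lit 5604, nat_lit 10064, nat_lit 12640, nat_lit 16544, nat_lit 21504, nat_lit 24704, nat_lit 29184, nat_lit 33280, nat_lit 37888, nat_lit 41286, nat_lit 36993, nat_lit 33865, nat_lit 29206, nat_lit 24613, nat_lit 20483, nat_lit 16518, nat_lit 12547, nat_lit 8201, nat_lit 4128]⟩⟩⟩,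
  ⟨[], [], (nat_lit 1158), ⟨[nat_lit 30, nat_lit 58], [nat_lit 0, nat_lit 75, nat_lit 89], ⟨[nat_lit 0x8096f63aa7221348a9a3b80a1b4a66], [nat_lit 174080, nat_lit 169984, nat_lit 165888, nat_lit 161920, nat_lit 156800, nat_lit 154752, nat_lit 150848, nat_lit 143576, nat_lit 142404, nat_lit 135450, nat_lit 131879, nat_lit 1614, nat_lit 4340, nat_lit 10160, nat_lit 13152, nat_lit 17792, nat_lit 22336, nat_lit 26368, nat_lit 33280, nat_lit 37888, nat_lit 41311, nat_lit 37049, nat_lit 33907, nat_lit 28676, nat_lit 24597, nat_lit 20736, nat_lit 16455, nat_lit 12323, nat_lit 4104, nat_lit 2]⟩⟩⟩]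
theorem sth142 : Suf thT 2048 (ldrop (lapp thwr16 [1, 0, 1]) 6) (apW dcM pth141) (tgtN dcM pth141.e) := Suf.seg (l := lth142) (by decide +kernel) sth143
def lth141 : List AP := [⟨[nat_lit 21, nat_lit 25, nat_lit 32, nat_lit 22, nat_lit 30, nat_lit 25], [], (nat_lit 276), ⟨[nat_lit 71], [nat_lit 0, nat_lit 32, nat_lit 90], ⟨[nat_lit 0x5c0223506e4c6d551e44281f79a1ac], [nat_lit 164096, nat_lit 161664, nat_lit 157376, nat_lit 155424, nat_lit 148048, nat_lit 144928, nat_lit 140996, nat_lit 136826, nat_lit 132959, nat_lit 210, nat_lit 4380, nat_lit 9112, nat_lit 13488, nat_lit 16768, nat_lit 22016, nat_lit 25344, nat_lit 34304, nat_lit 41719, nat_lit 37144, nat_lit 32944, nat_lit 29000, nat_lit 24708, nat_lit 20560, nat_lit 16455, nat_lit 12310, nat_lit 8201, nat_lit 4097, nat_lit 2]⟩⟩⟩,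
  ⟨[nat_lit 144, nat_lit 143, nat_lit 656, nat_lit 658, nat_lit 149], [], (nat_lit 476), ⟨[nat_lit 31, nat_lit 63], [nat_lit 9, nat_lit 67], ⟨[nat_lit 0xb826e1b2d1220c70b690155f22a54b], [nat_lit 173056, nat_lit 168960, nat_lit 165888, nat_lit 161280, nat_lit 153760, nat_lit 149952, nat_lit 145616, nat_lit 142652, nat_lit 138426, nat_lit 133082, nat_lit 1224, nat_lit 4952, nat_lit 9752, nat_lit 13552, nat_lit 17728, nat_lit 21248, nat_lit 25728, nat_lit 29184, nat_lit 41405, nat_lit 37055, nat_lit 34035, nat_lit 28758, nat_lit 24728, nat_lit 21005, nat_lit 16428, nat_lit 12294, nat_lit 8202, nat_lit 4105, nat_lit 2]⟩⟩⟩]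
theorem thcr16_3 : Suf thT 2048 (lapp thwr16 [1, 0, 1]) (apW dcM q1) (tgtN dcM q1.e) := Suf.seg (l := lth141) (by decide +kernel) sth142

theorem thcr17 : Chk thT thwr17 := .inr (by decide +kernel)

theorem thcr18 : Chk thT thwr18 := .inr (by decide +kernel)

theorem thcr19 : Chk thT thwr19 := .inr (by decide +kernel)

theorem thcr20 : Chk thT thwr20 := .inr (by decide +kernel)

theorem thcr21 : Chk thT thwr21 := .inr (by decide +kernel)

def pth144 : AP := ⟨[nat_lit 352, nat_lit 355, nat_lit 290], [], (nat_lit 1132), ⟨[nat_lit 76, nat_lit 59], [nat_lit 25, nat_lit 67], ⟨[nat_lit 0x3ae644b9f250c113504c686e5ada08], [nat_lit 174080, nat_lit 169984, nat_lit 166144, nat_lit 162432, nat_lit 157056, nat_lit 155264, nat_lit 149856, nat_lit 145216, nat_lit 142948, nat_lit 137008, nat_lit 131581, nat_lit 952, nat_lit 5400, nat_lit 9904, nat_lit 12592, nat_lit 16512, nat_lit 21632, nat_lit 30208, nat_lit 33280, nat_lit 41390, nat_lit 37340, nat_lit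 32786, nat_lit 29205, nat_lit 24717, nat_lit 21530, nat_lit 16416, nat_lit 12422, nat_lit 8193, nat_lit 4105, nat_lit 4]⟩⟩⟩
def pth145 : AP := ⟨[nat_lit 259, nat_lit 224], [], (nat_lit 604), ⟨[nat_lit 38, nat_lit 59], [nat_lit 81, nat_lit 59], ⟨[nat_lit 0x996ee336356129202d2a40c223d9f0], [nat_lit 173056, nat_lit 168960, nat_lit 167680, nat_lit 162560, nat_lit 158976, nat_lit 154624, nat_lit 148496, nat_lit 146768, nat_lit 143188, nat_lit 136538, nat_lit 134159, nat_lit 428, nat_lit 4696, nat_lit 9040, nat_lit 14112, nat_lit 17152, nat_lit 21632, nat_lit 26112, nat_lit 29184, nat_lit 41961, nat_lit 38312, nat_lit 33951, nat_lit 28731, nat_lit 24880, nat_lit 20485, nat_lit 16389, nat_lit 12290, nat_lit 4105]⟩⟩⟩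
def lth146 : List AP := [⟨[nat_lit 290, nat_lit 356, nat_lit 287], [], (nat_lit 1218), ⟨[nat_lit 78, nat_lit 53], [nat_lit 0, nat_lit 43, nat_lit 63], ⟨[nat_lit 0x640cabac4973ec3434b121c15a0653], [nat_lit 171520, nat_lit 167680, nat_lit 162304, nat_lit 158784, nat_lit 151904, nat_lit 149680, nat_lit 145520, nat_lit 139788, nat_lit 137576, nat_lit 132425, nat_lit 404, nat_lit 5080, nat_lit 10096, nat_lit 13296, nat_lit 16864, nat_lit 25344, nat_lit 29952, nat_lit 41777, nat_lit 37270, nat_lit 33428, nat_lit 28775, nat_lit 24636, nat_lit 20509, nat_lit 16416, nat_lit 12311, nat_lit 8209]⟩⟩⟩,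
  ⟨[nat_lit 81], [], (nat_lit 196), ⟨[nat_lit 0, nat_lit 14, nat_lit 66], [nat_lit 0, nat_lit 8, nat_lit 69], ⟨[nat_lit 0xa592baaae838c81641d36be51114c0], [nat_lit 175104, nat_lit 170496, nat_lit 166912, nat_lit 160640, nat_lit 156928, nat_lit 151968, nat_lit 150112, nat_lit 144776, nat_lit 139552, nat_lit 138848, nat_lit 133307, nat_lit 1024, nat_lit 5904, nat_lit 8320, nat_lit 13376, nat_lit 18304, nat_lit 22464, nat_lit 25984, nat_lit 33280, nat_lit 41835, nat_lit 38365, nat_lit 33911, nat_lit 29237, nat_lit 25640, nat_lit 21023, nat_lit 16655, nat_lit 12326, nat_lit 8200, nat_lit 4097, nat_lit 2]⟩⟩⟩,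
  ⟨[nat_lit 16, nat_lit 633, nat_lit 36], [], (nat_lit 1032), ⟨[nat_lit 54], [nat_lit 0, nat_lit 73, nat_lit 68], ⟨[nat_lit 0x83c41a36b24cd4eb1c682ac1724586], [nat_lit 173056, nat_lit 168448, nat_lit 166400, nat_lit 162432, nat_lit 158528, nat_lit 154304, nat_lit 147696, nat_lit 146368, nat_lit 141864, nat_lit 136024, nat_lit 133408, nat_lit 1516, nat_lit 5436, nat_lit 10040, nat_lit 12672, nat_lit 17408, nat_lit 26240, nat_lit 29184, nat_lit 33792, nat_lit 37888, nat_lit 41183, nat_lit 36914, nat_lit 32769, nat_lit 29707, nat_lit 24725, nat_lit 21013, nat_lit 16392, nat_lit 12305, nat_lit 8226, nat_lit 4097]⟩⟩⟩]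
theorem sth146 : Suf thT 19005990 (ldrop (lapp thwr22 [1, 0, 1]) 14) (apW dcM pth145) (tgtN dcM pth145.e) := Suf.fin' (l := lth146) (by decide +kernel)
def lth145 : List AP := [⟨[nat_lit 261, nat_lit 224, nat_lit 224, nat_lit 666, nat_lit 223], [], (nat_lit 608), ⟨[nat_lit 72, nat_lit 53], [nat_lit 0, nat_lit 54], ⟨[nat_lit 0x69686455e98ac6750093106ec93ad0], [nat_lit 174080, nat_lit 170496, nat_lit 164864, nat_lit 163584, nat_lit 159232, nat_lit 154112, nat_lit 144136, nat_lit 141224, nat_lit 138994, nat_lit 134606, nat_lit 1698, nat_lit 5208, nat_lit 10224, nat_lit 13920, nat_lit 17088, nat_lit 21376, nat_lit 29952, nat_lit 33792, nat_lit 41787, nat_lit 38002, nat_lit 33333, nat_lit 28702, nat_lit 24591, nat_lit 20765, nat_lit 16391, nat_lit 12358, nat_lit 8193]⟩⟩⟩,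
  ⟨[], [], (nat_lit 1136), ⟨[nat_lit 72, nat_lit 56], [nat_lit 12, nat_lit 94], ⟨[nat_lit 0xbcc76a44b6547454c962a23793810], [nat_lit 174080, nat_lit 168448, nat_lit 166656, nat_lit 163328, nat_lit 158016, nat_lit 153248, nat_lit 149376, nat_lit 144648, nat_lit 141400, nat_lit 137486, nat_lit 131378, nat_lit 64, nat_lit 5508, nat_lit 10224, nat_lit 12624, nat_lit 17184, nat_lit 21376, nat_lit 24960, nat_lit 29440, nat_lit 33792, nat_lit 41922, nat_lit 37270, nat_lit 33405, nat_lit 28738, nat_lit 24734, nat_lit 20738, nat_lit 16459, nat_lit 12323, nat_lit 8194, nat_lit 4097, nat_lit 2]⟩⟩⟩]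
theorem sth145 : Suf thT 19005990 (ldrop (lapp thwr22 [1, 0, 1]) 6) (apW dcM pth144) (tgtN dcM pth144.e) := Suf.seg (l := lth145) (by decide +kernel) sth146
def lth144 : List AP := [⟨[nat_lit 16, nat_lit 16, nat_lit 16, nat_lit 17, nat_lit 43, nat_lit 16], [], (nat_lit 150), ⟨[nat_lit 0, nat_lit 10, nat_lit 90], [nat_lit 31, nat_lit 47], ⟨[nat_lit 0x2aeb1540f74cc94605af009c391916], [nat_lit 173056, nat_lit 168448, nat_lit 165632, nat_lit 161024, nat_lit 158208, nat_lit 153408, nat_lit 149248, nat_lit 144024, nat_lit 141128, nat_lit 136256, nat_lit 131657, nat_lit 760, nat_lit 5988, nat_lit 8840, nat_lit 17696, nat_lit 21824, nat_lit 25600, nat_lit 29184, nat_lit 33280, nat_lit 37888, nat_lit 41164, nat_lit 37187, nat_lit 33323, nat_lit 29712, nat_lit 24581, nat_lit 20744, nat_lit 16516, nat_lit 12304, nat_lit 8257, nat_lit 4609]⟩⟩⟩,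
  ⟨[nat_lit 84, nat_lit 644, nat_lit 102, nat_lit 77, nat_lit 76], [], (nat_lit 718), ⟨[nat_lit 0, nat_lit 41, nat_lit 64], [nat_lit 77, nat_lit 93], ⟨[nat_lit 0x815a00924c39ae9555eeb457315068], [nat_lit 165376, nat_lit 160000, nat_lit 155968, nat_lit 152128, nat_lit 151008, nat_lit 144880, nat_lit 139664, nat_lit 135620, nat_lit 131359, nat_lit 846, nat_lit 4932, nat_lit 8224, nat_lit 12320, nat_lit 16640, nat_lit 20736, nat_lit 25088, nat_lit 34304, nat_lit 37888, nat_lit 41232, nat_lit 37136, nat_lit 32900, nat_lit 28686, nat_lit 24586, nat_lit 20507, nat_lit 16385, nat_lit 12327, nat_lit 8200, nat_lit 4129, nat_lit 16]⟩⟩⟩]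
theorem thcr22_0 : Suf thT 19005990 (lapp thwr22 [1, 0, 1]) (apW dcM q0) (tgtN dcM q0.e) := Suf.seg (l := lth144) (by decide +kernel) sth145

def pth147 : AP := ⟨[nat_lit 672, nat_lit 290, nat_lit 293, nat_lit 284], [], (nat_lit 872), ⟨[nat_lit 43, nat_lit 55], [nat_lit 14, nat_lit 63], ⟨[nat_lit 0x6ce9562d3508c3897349470ba90f], [nat_lit 174080, nat_lit 169984, nat_lit 165376, nat_lit 163200, nat_lit 159040, nat_lit 155328, nat_lit 149296, nat_lit 144184, nat_lit 140328, nat_lit 137670, nat_lit 133321, nat_lit 394, nat_lit 5372, nat_lit 8488, nat_lit 13920, nat_lit 16544, nat_lit 22016, nat_lit 25344, nat_lit 30464, nat_lit 41609, nat_lit 37129, nat_lit 33421, nat_lit 29029, nat_lit 24594, nat_lit 20628, nat_lit 16428, nat_lit 12290, nat_lit 8225, nat_lit 4105]⟩⟩⟩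
def pth148 : AP := ⟨[nat_lit 676, nat_lit 678, nat_lit 466, nat_lit 413, nat_lit 418], [], (nat_lit 1242), ⟨[nat_lit 15, nat_lit 94], [nat_lit 0, nat_lit 87, nat_lit 47], ⟨[nat_lit 0xa1e6f15aa9b9a4d0c171414640298e], [nat_lit 171520, nat_lit 165376, nat_lit 162048, nat_lit 156160, nat_lit 154528, nat_lit 151504, nat_lit 145592, nat_lit 139868, nat_lit 136814, nat_lit 134352, nat_lit 1292, nat_lit 5768, nat_lit 9344, nat_lit 12976, nat_lit 16896, nat_lit 22208, nat_lit 26112, nat_lit 28928, nat_lit 33792, nat_lit 41333, nat_lit 37330, nat_lit 33319, nat_lit 28685, nat_lit 24587, nat_lit 20493, nat_lit 16640, nat_lit 8211, nat_lit 4097]⟩⟩⟩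
def lth149 : List AP := [⟨[nat_lit 673, nat_lit 295], [], (nat_lit 1222), ⟨[nat_lit 19, nat_lit 93], [nat_lit 78, nat_lit 46], ⟨[nat_lit 0x32a568ec61128f385d74412b8ca6a], [nat_lit 173056, nat_lit 168448, nat_lit 164352, nat_lit 161280, nat_lit 157056, nat_lit 152480, nat_lit 148464, nat_lit 146592, nat_lit 140428, nat_lit 135744, nat_lit 132181, nat_lit 1818, nat_lit 5772, nat_lit 9552, nat_lit 12800, nat_lit 17504, nat_lit 21824, nat_lit 25856, nat_lit 29696, nat_lit 41800, nat_lit 36887, nat_lit 34019, nat_lit 29033, nat_lit 24714, nat_lit 20739, nat_lit 16905, nat_lit 8210, nat_lit 4113]⟩⟩⟩,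
  ⟨[nat_lit 68, nat_lit 46], [], (nat_lit 122), ⟨[nat_lit 0, nat_lit 35, nat_lit 63], [nat_lit 34, nat_lit 60], ⟨[nat_lit 0x2cd403a0309459575d2b3508db09e3], [nat_lit 168448, nat_lit 166144, nat_lit 160000, nat_lit 156352, nat_lit 151584, nat_lit 147680, nat_lit 145080, nat_lit 139360, nat_lit 135630, nat_lit 131791, nat_lit 688, nat_lit 5296, nat_lit 8448, nat_lit 12544, nat_lit 16960, nat_lit 20928, nat_lit 24832, nat_lit 29696, nat_lit 34304, nat_lit 37888, nat_lit 41952, nat_lit 36914, nat_lit 33866, nat_lit 29050, nat_lit 20497, nat_lit 16397, nat_lit 12289, nat_lit 4352, nat_lit 8]⟩⟩⟩,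
  ⟨[nat_lit 15, nat_lit 633], [], (nat_lit 1032), ⟨[nat_lit 7, nat_lit 63], [nat_lit 0, nat_lit 44, nat_lit 90], ⟨[nat_lit 0x55a8198229854eebc88d2a0c37898b], [nat_lit 173056, nat_lit 164096, nat_lit 161280, nat_lit 157504, nat_lit 153088, nat_lit 148208, nat_lit 144944, nat_lit 141264, nat_lit 135518, nat_lit 134934, nat_lit 986, nat_lit 4408, nat_lit 8928, nat_lit 13696, nat_lit 16672, nat_lit 22336, nat_lit 28928, nat_lit 34304, nat_lit 37888, nat_lit 41891, nat_lit 37027, nat_lit 32908, nat_lit 28707, nat_lit 24605, nat_lit 20505, nat_lit 16418, nat_lit 12291, nat_lit 8195, nat_lit 4100]⟩⟩⟩]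
theorem sth149 : Suf thT 19005990 (ldrop (lapp thwr22 [2, 0, 1]) 14) (apW dcM pth148) (tgtN dcM pth148.e) := Suf.fin' (l := lth149) (by decide +kernel)
def lth148 : List AP := [⟨[nat_lit 674, nat_lit 466, nat_lit 414, nat_lit 677], [], (nat_lit 875), ⟨[nat_lit 0, nat_lit 12, nat_lit 70], [nat_lit 0, nat_lit 70], ⟨[nat_lit 0x705f1b1d2c42c5299480adc70551a6], [nat_lit 174080, nat_lit 168960, nat_lit 164096, nat_lit 161792, nat_lit 156480, nat_lit 152544, nat_lit 150416, nat_lit 145680, nat_lit 141740, nat_lit 137440, nat_lit 134275, nat_lit 158, nat_lit 5488, nat_lit 10152, nat_lit 12320, nat_lit 18272, nat_lit 20928, nat_lit 25472, nat_lit 29440, nat_lit 34304, nat_lit 41818, nat_lit 38277, nat_lit 33948, nat_lit 28975, nat_lit 24718, nat_lit 20550, nat_lit 16910, nat_lit 12421, nat_lit 8201]⟩⟩⟩,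
  ⟨[], [], (nat_lit 874), ⟨[nat_lit 24, nat_lit 60], [nat_lit 1, nat_lit 51], ⟨[nat_lit 0xba632732ab81c4f9808d0d903550a6], [nat_lit 173056, nat_lit 168960, nat_lit 167168, nat_lit 160640, nat_lit 157248, nat_lit 154720, nat_lit 149824, nat_lit 146560, nat_lit 142696, nat_lit 137670, nat_lit 132048, nat_lit 786, nat_lit 4540, nat_lit 8768, nat_lit 13312, nat_lit 16864, nat_lit 25344, nat_lit 28928, nat_lit 37888, nat_lit 41781, nat_lit 38054, nat_lit 32961, nat_lit 28674, nat_lit 24869, nat_lit 20550, nat_lit 16905, nat_lit 12305, nat_lit 8258, nat_lit 8]⟩⟩⟩]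
theorem sth148 : Suf thT 19005990 (ldrop (lapp thwr22 [2, 0, 1]) 6) (apW dcM pth147) (tgtN dcM pth147.e) := Suf.seg (l := lth148) (by decide +kernel) sth149
def lth147 : List AP := [⟨[nat_lit 38, nat_lit 630, nat_lit 41, nat_lit 41, nat_lit 37], [], (nat_lit 90), ⟨[nat_lit 45, nat_lit 89], [nat_lit 0, nat_lit 35, nat_lit 68], ⟨[nat_lit 0x5b6f1306121d6c4a2993781c712505], [nat_lit 164608, nat_lit 156480, nat_lit 147536, nat_lit 143688, nat_lit 139408, nat_lit 138296, nat_lit 132288, nat_lit 1054, nat_lit 4352, nat_lit 9664, nat_lit 13584, nat_lit 17120, nat_lit 22144, nat_lit 28928, nat_lit 33280, nat_lit 41933, nat_lit 37186, nat_lit 32819, nat_lit 28694, nat_lit 25088, nat_lit 20753, nat_lit 16517, nat_lit 13315, nat_lit 16]⟩⟩⟩,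
  ⟨[nat_lit 56, nat_lit 56, nat_lit 47, nat_lit 642, nat_lit 47, nat_lit 46], [], (nat_lit 716), ⟨[nat_lit 0, nat_lit 5, nat_lit 67], [nat_lit 41, nat_lit 68], ⟨[nat_lit 0x239acb8511394cf550504c876acc0b], [nat_lit 164096, nat_lit 160384, nat_lit 156032, nat_lit 152064, nat_lit 147536, nat_lit 144840, nat_lit 140284, nat_lit 137830, nat_lit 131175, nat_lit 986, nat_lit 4684, nat_lit 9384, nat_lit 13264, nat_lit 17632, nat_lit 20800, nat_lit 25600, nat_lit 29952, nat_lit 33792, nat_lit 37888, nat_lit 41638, nat_lit 37286, nat_lit 33344, nat_lit 28766, nat_lit 24760, nat_lit 20500, nat_lit 16421, nat_lit 12295, nat_lit 8200, nat_lit 4100, nat_lit 2]⟩⟩⟩]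
theorem thcr22_1 : Suf thT 19005990 (lapp thwr22 [2, 0, 1]) (iC2 :: apW dcM q0) (tgtN dcM q0.e) := Suf.seg (l := lth147) (by decide +kernel) sth148

def pth150 : AP := ⟨[nat_lit 665, nat_lit 228, nat_lit 264, nat_lit 222], [], (nat_lit 1106), ⟨[nat_lit 42, nat_lit 48], [nat_lit 0, nat_lit 73, nat_lit 93], ⟨[nat_lit 0x80c37330086a482a48e5b4d6a7ba35], [nat_lit 169472, nat_lit 167424, nat_lit 159872, nat_lit 156032, nat_lit 154976, nat_lit 150704, nat_lit 146504, nat_lit 143128, nat_lit 138932, nat_lit 132226, nat_lit 2012, nat_lit 4924, nat_lit 9648, nat_lit 13664, nat_lit 16864, nat_lit 21056, nat_lit 26496, nat_lit 28928, nat_lit 33280, nat_lit 37888, nat_lit 41117, nat_lit 37135, nat_lit 32898, nat_lit 29046, nat_lit 24758, nat_lit 20639, nat_lit 16385, nat_lit 12290, nat_lit 8194]⟩⟩⟩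
def pth151 : AP := ⟨[nat_lit 223, nat_lit 229, nat_lit 227, nat_lit 222], [], (nat_lit 506), ⟨[nat_lit 29, nat_lit 93], [nat_lit 0, nat_lit 25, nat_lit 89], ⟨[nat_lit 0x85235314014bd4c39062b4ef26b90b], [nat_lit 173056, nat_lit 164096, nat_lit 162560, nat_lit 156608, nat_lit 152128, nat_lit 148656, nat_lit 145264, nat_lit 140320, nat_lit 136018, nat_lit 131979, nat_lit 566, nat_lit 4824, nat_lit 10032, nat_lit 13264, nat_lit 18208, nat_lit 21312, nat_lit 26112, nat_lit 28928, nat_lit 41577, nat_lit 38374, nat_lit 32916, nat_lit 28747, nat_lit 24705, nat_lit 20485, nat_lit 16644, nat_lit 12353, nat_lit 4105, nat_lit 8]⟩⟩⟩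
def lth152 : List AP := [⟨[nat_lit 264, nat_lit 668, nat_lit 226], [], (nat_lit 1120), ⟨[nat_lit 0, nat_lit 14, nat_lit 69], [nat_lit 12, nat_lit 69], ⟨[nat_lit 0x4447604155b8532695cf98974230e6], [nat_lit 173056, nat_lit 169472, nat_lit 164352, nat_lit 160384, nat_lit 157696, nat_lit 152096, nat_lit 149472, nat_lit 144584, nat_lit 140324, nat_lit 135522, nat_lit 131496, nat_lit 158, nat_lit 5436, nat_lit 8824, nat_lit 14080, nat_lit 16416, nat_lit 20544, nat_lit 25600, nat_lit 29440, nat_lit 37888, nat_lit 41244, nat_lit 37013, nat_lit 33908, nat_lit 28734, nat_lit 24581, nat_lit 20507, nat_lit 16427, nat_lit 12323, nat_lit 8259, nat_lit 4101, nat_lit 2]⟩⟩⟩,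
  ⟨[nat_lit 78], [], (nat_lit 196), ⟨[nat_lit 42, nat_lit 61], [nat_lit 0, nat_lit 29, nat_lit 56], ⟨[nat_lit 0xa0c1744a6a7b8a65c22915aa1610ed], [nat_lit 164608, nat_lit 161408, nat_lit 157376, nat_lit 152032, nat_lit 147840, nat_lit 144520, nat_lit 139504, nat_lit 135684, nat_lit 131507, nat_lit 492, nat_lit 5488, nat_lit 9304, nat_lit 13696, nat_lit 17760, nat_lit 21824, nat_lit 26496, nat_lit 29696, nat_lit 33792, nat_lit 41613, nat_lit 38398, nat_lit 33373, nat_lit 28775, nat_lit 24631, nat_lit 20505, nat_lit 16386, nat_lit 12327, nat_lit 8202, nat_lit 4097]⟩⟩⟩,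
  ⟨[nat_lit 633], [], (nat_lit 1032), ⟨[nat_lit 79, nat_lit 64], [nat_lit 0, nat_lit 8, nat_lit 52], ⟨[nat_lit 0x85c51a28282397379d32b1865032ad], [nat_lit 174080, nat_lit 169984, nat_lit 167424, nat_lit 161664, nat_lit 157184, nat_lit 152096, nat_lit 149728, nat_lit 145152, nat_lit 139524, nat_lit 138356, nat_lit 134710, nat_lit 210, nat_lit 5900, nat_lit 8680, nat_lit 13872, nat_lit 18080, nat_lit 21696, nat_lit 26240, nat_lit 28928, nat_lit 41281, nat_lit 37223, nat_lit 32833, nat_lit 28761, nat_lit 24577, nat_lit 20998, nat_lit 16520, nat_lit 12423, nat_lit 8201, nat_lit 4101, nat_lit 4]⟩⟩⟩]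
theorem sth152 : Suf thT 19005990 (ldrop (lapp thwr22 [3, 0, 1]) 14) (apW dcM pth151) (tgtN dcM pth151.e) := Suf.fin' (l := lth152) (by decide +kernel)
def lth151 : List AP := [⟨[nat_lit 225, nat_lit 222, nat_lit 259, nat_lit 266], [], (nat_lit 488), ⟨[nat_lit 0, nat_lit 45, nat_lit 57], [nat_lit 17, nat_lit 89], ⟨[nat_lit 0xb0e3042aa024d2f749670b1b431457], [nat_lit 174080, nat_lit 171008, nat_lit 165888, nat_lit 160000, nat_lit 156416, nat_lit 153216, nat_lit 149520, nat_lit 143744, nat_lit 140416, nat_lit 138736, nat_lit 134837, nat_lit 1136, nat_lit 4964, nat_lit 8320, nat_lit 12560, nat_lit 17472, nat_lit 20544, nat_lit 24704, nat_lit 29696, nat_lit 34304, nat_lit 41293, nat_lit 37232, nat_lit 33452, nat_lit 28682, nat_lit 24630, nat_lit 20561, nat_lit 16449, nat_lit 12421, nat_lit 8195, nat_lit 4097, nat_lit 2]⟩⟩⟩,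
  ⟨[], [], (nat_lit 489), ⟨[nat_lit 13, nat_lit 46], [nat_lit 15, nat_lit 48], ⟨[nat_lit 0x6560fb0033a293171d621a08d31657], [nat_lit 173056, nat_lit 169472, nat_lit 164608, nat_lit 160896, nat_lit 157184, nat_lit 152544, nat_lit 148336, nat_lit 143664, nat_lit 139440, nat_lit 136194, nat_lit 134872, nat_lit 1140, nat_lit 5688, nat_lit 9456, nat_lit 12688, nat_lit 17120, nat_lit 22208, nat_lit 24832, nat_lit 29696, nat_lit 34304, nat_lit 37888, nat_lit 41861, nat_lit 38250, nat_lit 33812, nat_lit 28725, nat_lit 25129, nat_lit 20616, nat_lit 16417, nat_lit 12305, nat_lit 8193, nat_lit 4161, nat_lit 2]⟩⟩⟩]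
theorem sth151 : Suf thT 19005990 (ldrop (lapp thwr22 [3, 0, 1]) 6) (apW dcM pth150) (tgtN dcM pth150.e) := Suf.seg (l := lth151) (by decide +kernel) sth152
def lth150 : List AP := [⟨[nat_lit 632, nat_lit 37, nat_lit 14, nat_lit 39, nat_lit 17, nat_lit 40], [], (nat_lit 150), ⟨[nat_lit 0, nat_lit 4, nat_lit 70], [nat_lit 72, nat_lit 61], ⟨[nat_lit 0x8c0b51a64d0d006b9d4b612ce40a6f], [nat_lit 174080, nat_lit 168448, nat_lit 166144, nat_lit 162816, nat_lit 158720, nat_lit 153344, nat_lit 149088, nat_lit 144152, nat_lit 142648, nat_lit 138824, nat_lit 131528, nat_lit 1318, nat_lit 4780, nat_lit 10088, nat_lit 13920, nat_lit 18336, nat_lit 21888, nat_lit 25472, nat_lit 29440, nat_lit 33792, nat_lit 41786, nat_lit 37936, nat_lit 32852, nat_lit 28697, nat_lit 24613, nat_lit 20546, nat_lit 16390, nat_lit 12290, nat_lit 8194, nat_lit 4097, nat_lit 2]⟩⟩⟩,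
  ⟨[nat_lit 101, nat_lit 83, nat_lit 100, nat_lit 646, nat_lit 105], [], (nat_lit 534), ⟨[nat_lit 0, nat_lit 30, nat_lit 89], [nat_lit 0, nat_lit 72], ⟨[nat_lit 0x73ca05d992ab60a0c66435c7441c49], [nat_lit 173056, nat_lit 171520, nat_lit 164608, nat_lit 163200, nat_lit 156352, nat_lit 154912, nat_lit 151408, nat_lit 146664, nat_lit 141140, nat_lit 135692, nat_lit 134262, nat_lit 1918, nat_lit 5568, nat_lit 9184, nat_lit 12368, nat_lit 16480, nat_lit 21184, nat_lit 25216, nat_lit 29184, nat_lit 37888, nat_lit 41244, nat_lit 37097, nat_lit 32919, nat_lit 29000, nat_lit 24760, nat_lit 20488, nat_lit 16520, nat_lit 12327, nat_lit 8194, nat_lit 4097]⟩⟩⟩]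
theorem thcr22_2 : Suf thT 19005990 (lapp thwr22 [3, 0, 1]) (iC3 :: apW dcM q0) (tgtN dcM q0.e) := Suf.seg (l := lth150) (by decide +kernel) sth151

def pth153 : AP := ⟨[nat_lit 226, nat_lit 222, nat_lit 264, nat_lit 265, nat_lit 222], [], (nat_lit 636), ⟨[nat_lit 0, nat_lit 38, nat_lit 89], [nat_lit 87, nat_lit 63], ⟨[nat_lit 0x5d69190c2a24d2501d9630aef73510], [nat_lit 160256, nat_lit 157632, nat_lit 151744, nat_lit 148992, nat_lit 145560, nat_lit 140420, nat_lit 136886, nat_lit 131597, nat_lit 428, nat_lit 6076, nat_lit 10224, nat_lit 12352, nat_lit 17056, nat_lit 21760, nat_lit 24832, nat_lit 29184, nat_lit 33280, nat_lit 41756, nat_lit 37190, nat_lit 32941, nat_lit 29020, nat_lit 24587, nat_lit 20633, nat_lit 16513, nat_lit 12292, nat_lit 8201, nat_lit 4161, nat_lit 4]⟩⟩⟩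
def pth154 : AP := ⟨[nat_lit 288, nat_lit 671, nat_lit 285, nat_lit 285], [], (nat_lit 1150), ⟨[nat_lit 0, nat_lit 20, nat_lit 62], [nat_lit 0, nat_lit 2, nat_lit 53], ⟨[nat_lit 0x2828b8bd0a240ee64c2315926936b7], [nat_lit 175104, nat_lit 171008, nat_lit 166656, nat_lit 160768, nat_lit 157760, nat_lit 155296, nat_lit 147712, nat_lit 146360, nat_lit 140920, nat_lit 135714, nat_lit 132106, nat_lit 796, nat_lit 4756, nat_lit 9144, nat_lit 14176, nat_lit 18144, nat_lit 21888, nat_lit 25984, nat_lit 30464, nat_lit 34304, nat_lit 37888, nat_lit 41109, nat_lit 37128, nat_lit 32864, nat_lit 29743, nat_lit 24883, nat_lit 20612, nat_lit 16422, nat_lit 8227, nat_lit 4097]⟩⟩⟩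
def lth155 : List AP := [⟨[nat_lit 668, nat_lit 666, nat_lit 227, nat_lit 231], [], (nat_lit 488), ⟨[nat_lit 0, nat_lit 20, nat_lit 47], [nat_lit 88, nat_lit 68], ⟨[nat_lit 0xb8274ab12628a27685d040d52259eb], [nat_lit 173056, nat_lit 168448, nat_lit 166144, nat_lit 159872, nat_lit 156864, nat_lit 154656, nat_lit 150224, nat_lit 146368, nat_lit 142172, nat_lit 137278, nat_lit 132272, nat_lit 354, nat_lit 5716, nat_lit 8928, nat_lit 14192, nat_lit 25088, nat_lit 30464, nat_lit 34304, nat_lit 37888, nat_lit 41826, nat_lit 38378, nat_lit 33848, nat_lit 29283, nat_lit 24753, nat_lit 20506, nat_lit 16394, nat_lit 12290, nat_lit 8193, nat_lit 4]⟩⟩⟩,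
  ⟨[], [], (nat_lit 1052), ⟨[nat_lit 0, nat_lit 34, nat_lit 48], [nat_lit 0, nat_lit 7, nat_lit 91], ⟨[nat_lit 0x68e2479e41a2149341c05d6f69b0a2], [nat_lit 174080, nat_lit 168960, nat_lit 162816, nat_lit 156352, nat_lit 152608, nat_lit 150752, nat_lit 145944, nat_lit 142972, nat_lit 138294, nat_lit 133977, nat_lit 1178, nat_lit 4540, nat_lit 8320, nat_lit 12608, nat_lit 18112, nat_lit 20544, nat_lit 26112, nat_lit 30464, nat_lit 33280, nat_lit 41788, nat_lit 38073, nat_lit 32866, nat_lit 29203, nat_lit 24635, nat_lit 20558, nat_lit 16394, nat_lit 12306, nat_lit 8195, nat_lit 4100]⟩⟩⟩,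
  ⟨[], [], (nat_lit 1034), ⟨[nat_lit 72, nat_lit 61], [nat_lit 0, nat_lit 17, nat_lit 49], ⟨[nat_lit 0x848ef3002eb508c145372a1ab50eb3], [nat_lit 173056, nat_lit 164096, nat_lit 161024, nat_lit 157632, nat_lit 152064, nat_lit 147760, nat_lit 143496, nat_lit 140436, nat_lit 137056, nat_lit 133199, nat_lit 582, nat_lit 5856, nat_lit 9384, nat_lit 12576, nat_lit 17696, nat_lit 22336, nat_lit 24832, nat_lit 28928, nat_lit 33280, nat_lit 41583, nat_lit 38306, nat_lit 33297, nat_lit 28952, nat_lit 24627, nat_lit 20487, nat_lit 16389, nat_lit 12550, nat_lit 8195, nat_lit 4]⟩⟩⟩]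
theorem sth155 : Suf thT 2048 (ldrop (lapp thwr22 [1, 0, 1]) 14) (apW dcM pth154) (tgtN dcM pth154.e) := Suf.fin' (l := lth155) (by decide +kernel)
def lth154 : List AP := [⟨[nat_lit 286, nat_lit 294, nat_lit 352, nat_lit 290, nat_lit 284], [], (nat_lit 668), ⟨[nat_lit 42, nat_lit 68], [nat_lit 32, nat_lit 56], ⟨[nat_lit 0x41269834aea814fb8d8b11c31b4a86], [nat_lit 173056, nat_lit 168448, nat_lit 166912, nat_lit 163456, nat_lit 159552, nat_lit 155360, nat_lit 148320, nat_lit 147296, nat_lit 143252, nat_lit 137204, nat_lit 134921, nat_lit 1516, nat_lit 5604, nat_lit 10064, nat_lit 12640, nat_lit 16544, nat_lit 21504, nat_lit 24704, nat_lit 29184, nat_lit 33280, nat_lit 37888, nat_lit 41286, nat_lit 36993, nat_lit 33865, nat_lit 29206, nat_lit 24613, nat_lit 20483, nat_lit 16518, nat_lit 12547, nat_lit 8201, nat_lit 4128]⟩⟩⟩,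
  ⟨[], [], (nat_lit 1158), ⟨[nat_lit 78, nat_lit 56], [nat_lit 76, nat_lit 57], ⟨[nat_lit 0x3952f438408b553bad94242a1b4866], [nat_lit 175104, nat_lit 171520, nat_lit 166656, nat_lit 162432, nat_lit 157312, nat_lit 154336, nat_lit 149536, nat_lit 143552, nat_lit 142848, nat_lit 136458, nat_lit 132024, nat_lit 1720, nat_lit 4104, nat_lit 10160, nat_lit 13312, nat_lit 18080, nat_lit 21312, nat_lit 26368, nat_lit 29952, nat_lit 33792, nat_lit 37888, nat_lit 41796, nat_lit 37972, nat_lit 33396, nat_lit 28727, nat_lit 24889, nat_lit 20492, nat_lit 16451, nat_lit 12307, nat_lit 4112, nat_lit 8]⟩⟩⟩]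
theorem sth154 : Suf thT 2048 (ldrop (lapp thwr22 [1, 0, 1]) 6) (apW dcM pth153) (tgtN dcM pth153.e) := Suf.seg (l := lth154) (by decide +kernel) sth155
def lth153 : List AP := [⟨[nat_lit 21, nat_lit 25, nat_lit 32, nat_lit 22, nat_lit 30, nat_lit 25], [], (nat_lit 276), ⟨[nat_lit 71], [nat_lit 0, nat_lit 32, nat_lit 90], ⟨[nat_lit 0x5c0223506e4c6d551e44281f79a1ac], [nat_lit 164096, nat_lit 161664, nat_lit 157376, nat_lit 155424, nat_lit 148048, nat_lit 144928, nat_lit 140996, nat_lit 136826, nat_lit 132959, nat_lit 210, nat_lit 4380, nat_lit 9112, nat_lit 13488, nat_lit 16768, nat_lit 22016, nat_lit 25344, nat_lit 34304, nat_lit 41719, nat_lit 37144, nat_lit 32944, nat_lit 29000, nat_lit 24708, nat_lit 20560, nat_lit 16455, nat_lit 12310, nat_lit 8201, nat_lit 4097, nat_lit 2]⟩⟩⟩,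
  ⟨[nat_lit 144, nat_lit 143, nat_lit 656, nat_lit 658, nat_lit 149], [], (nat_lit 476), ⟨[nat_lit 31, nat_lit 63], [nat_lit 9, nat_lit 67], ⟨[nat_lit 0xb826e1b2d1220c70b690155f22a54b], [nat_lit 173056, nat_lit 168960, nat_lit 165888, nat_lit 161280, nat_lit 153760, nat_lit 149952, nat_lit 145616, nat_lit 142652, nat_lit 138426, nat_lit 133082, nat_lit 1224, nat_lit 4952, nat_lit 9752, nat_lit 13552, nat_lit 17728, nat_lit 21248, nat_lit 25728, nat_lit 29184, nat_lit 41405, nat_lit 37055, nat_lit 34035, nat_lit 28758, nat_lit 24728, nat_lit 21005, nat_lit 16428, nat_lit 12294, nat_lit 8202, nat_lit 4105, nat_lit 2]⟩⟩⟩]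
theorem thcr22_3 : Suf thT 2048 (lapp thwr22 [1, 0, 1]) (apW dcM q1) (tgtN dcM q1.e) := Suf.seg (l := lth153) (by decide +kernel) sth154

theorem thcr23 : Chk thT thwr23 := .inr (by decide +kernel)

theorem thcr24 : Chk thT thwr24 := .inr (by decide +kernel)

theorem thcr25 : Chk thT thwr25 := .inr (by decide +kernel)

theorem thcr26 : Chk thT thwr26 := .inr (by decide +kernel)

theorem thcr27 : Chk thT thwr27 := .inr (by decide +kernel)

theorem thcr28 : Chk thT thwr28 := .inr (by decide +kernel)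

theorem thcr29 : Chk thT thwr29 := .inr (by decide +kernel)

theorem thcr30 : Chk thT thwr30 := .inr (by decide +kernel)

theorem thcr31 : Chk thT thwr31 := .inr (by decide +kernel)

def pth156 : AP := ⟨[nat_lit 352, nat_lit 355, nat_lit 290], [], (nat_lit 1132), ⟨[nat_lit 0, nat_lit 76, nat_lit 59], [nat_lit 25, nat_lit 67], ⟨[nat_lit 0x3ae644b9f250c113504c686e5ada08], [nat_lit 174080, nat_lit 169984, nat_lit 166144, nat_lit 162432, nat_lit 157056, nat_lit 155264, nat_lit 149856, nat_lit 145216, nat_lit 142948, nat_lit 137008, nat_lit 131581, nat_lit 952, nat_lit 5400, nat_lit 9904, nat_lit 12592, nat_lit 16512, nat_lit 21632, nat_lit 30208, nat_lit 33280, nat_lit 41390, nat_lit 37340, nat_lit 32786, nat_lit 29205, nat_lit 24717, nat_lit 21530, nat_lit 16416, nat_lit 12422, nat_lit 8193, nat_lit 4105, nat_lit 4]⟩⟩⟩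
def pth157 : AP := ⟨[nat_lit 259, nat_lit 224], [], (nat_lit 604), ⟨[nat_lit 31, nat_lit 55], [nat_lit 0, nat_lit 13, nat_lit 50], ⟨[nat_lit 0x226e15a9f161cd22d00868e029daae], [nat_lit 174080, nat_lit 169984, nat_lit 166400, nat_lit 160256, nat_lit 157568, nat_lit 153056, nat_lit 151536, nat_lit 143968, nat_lit 140096, nat_lit 138202, nat_lit 134535, nat_lit 166, nat_lit 5208, nat_lit 9384, nat_lit 12512, nat_lit 18336, nat_lit 21440, nat_lit 26112, nat_lit 28928, nat_lit 33280, nat_lit 37888, nat_lit 41845, nat_lit 38304, nat_lit 32861, nat_lit 29256, nat_lit 24605, nat_lit 21522, nat_lit 16385, nat_lit 12353, nat_lit 8202, nat_lit 4100]⟩⟩⟩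
def pth158 : AP := ⟨[], [], (nat_lit 193), ⟨[nat_lit 0, nat_lit 7, nat_lit 53], [nat_lit 8, nat_lit 55], ⟨[nat_lit 0x88c24b384a626a034ef42c1686be47], [nat_lit 175104, nat_lit 171008, nat_lit 167168, nat_lit 162176, nat_lit 156800, nat_lit 155552, nat_lit 149824, nat_lit 144640, nat_lit 143216, nat_lit 135186, nat_lit 132443, nat_lit 810, nat_lit 4804, nat_lit 8408, nat_lit 14176, nat_lit 16640, nat_lit 20736, nat_lit 25088, nat_lit 29440, nat_lit 37888, nat_lit 41548, nat_lit 38140, nat_lit 32812, nat_lit 28746, nat_lit 24597, nat_lit 20752, nat_lit 16416, nat_lit 12295, nat_lit 4105]⟩⟩⟩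
def pth159 : AP := ⟨[nat_lit 463, nat_lit 675, nat_lit 677, nat_lit 416, nat_lit 411], [], (nat_lit 908), ⟨[nat_lit 39, nat_lit 57], [nat_lit 73, nat_lit 66], ⟨[nat_lit 0x1548d4527790d407452f59a05386cc], [nat_lit 173056, nat_lit 168448, nat_lit 160896, nat_lit 156416, nat_lit 154944, nat_lit 148192, nat_lit 144824, nat_lit 140408, nat_lit 137120, nat_lit 133114, nat_lit 902, nat_lit 4380, nat_lit 8504, nat_lit 14128, nat_lit 17888, nat_lit 20608, nat_lit 25216, nat_lit 30464, nat_lit 37888, nat_lit 41888, nat_lit 38169, nat_lit 33848, nat_lit 29048, nat_lit 24759, nat_lit 20511, nat_lit 16431, nat_lit 12289, nat_lit 8194, nat_lit 4097, nat_lit 2]⟩⟩⟩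
def pth160 : AP := ⟨[nat_lit 295, nat_lit 356, nat_lit 284], [], (nat_lit 1218), ⟨[nat_lit 14, nat_lit 90], [nat_lit 4], ⟨[nat_lit 0x9b02e6d945ad0510213280ce4b99eb], [nat_lit 171520, nat_lit 165120, nat_lit 162304, nat_lit 156608, nat_lit 153984, nat_lit 150320, nat_lit 146472, nat_lit 139368, nat_lit 136974, nat_lit 134055, nat_lit 354, nat_lit 5296, nat_lit 9632, nat_lit 13152, nat_lit 17408, nat_lit 20736, nat_lit 25472, nat_lit 30208, nat_lit 34304, nat_lit 41443, nat_lit 37114, nat_lit 34024, nat_lit 29260, nat_lit 25137, nat_lit 20617, nat_lit 16395, nat_lit 12292, nat_lit 8203, nat_lit 4097]⟩⟩⟩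
def lth161 : List AP := [⟨[], [], (nat_lit 151), ⟨[nat_lit 0, nat_lit 2, nat_lit 69], [nat_lit 72, nat_lit 46], ⟨[nat_lit 0x43ac162ea3502ef125b42c8878ce06], [nat_lit 170496, nat_lit 167424, nat_lit 163072, nat_lit 159680, nat_lit 152704, nat_lit 150448, nat_lit 147384, nat_lit 141032, nat_lit 137368, nat_lit 132149, nat_lit 1614, nat_lit 5016, nat_lit 9384, nat_lit 12688, nat_lit 17024, nat_lit 20992, nat_lit 25344, nat_lit 28928, nat_lit 37888, nat_lit 41794, nat_lit 37191, nat_lit 32866, nat_lit 28754, nat_lit 24602, nat_lit 20746, nat_lit 16387, nat_lit 12322, nat_lit 8704, nat_lit 4]⟩⟩⟩,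
  ⟨[nat_lit 43], [], (nat_lit 1032), ⟨[nat_lit 1, nat_lit 94], [nat_lit 0, nat_lit 87, nat_lit 89], ⟨[nat_lit 0x81e220b5c525474599004ddf2b4d8a], [nat_lit 167680, nat_lit 163328, nat_lit 159360, nat_lit 154208, nat_lit 147504, nat_lit 146392, nat_lit 142976, nat_lit 135852, nat_lit 133665, nat_lit 1580, nat_lit 5884, nat_lit 9560, nat_lit 13824, nat_lit 17216, nat_lit 20800, nat_lit 26368, nat_lit 33280, nat_lit 37888, nat_lit 41432, nat_lit 37229, nat_lit 33497, nat_lit 28777, nat_lit 24577, nat_lit 20628, nat_lit 16428, nat_lit 12292, nat_lit 8194, nat_lit 4097, nat_lit 2]⟩⟩⟩]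
theorem sth161 : Suf thT 19005990 (ldrop (lapp thwr32 [1, 0, 1]) 39) (apW dcM pth160) (tgtN dcM pth160.e) := Suf.fin' (l := lth161) (by decide +kernel)
def lth160 : List AP := [⟨[], [], (nat_lit 909), ⟨[nat_lit 0, nat_lit 39, nat_lit 57], [nat_lit 0, nat_lit 79, nat_lit 64], ⟨[nat_lit 0x1548d4527790d407452f59a05386cc], [nat_lit 168448, nat_lit 160896, nat_lit 156416, nat_lit 154976, nat_lit 148208, nat_lit 144816, nat_lit 140408, nat_lit 137120, nat_lit 133114, nat_lit 902, nat_lit 4380, nat_lit 8504, nat_lit 14128, nat_lit 17888, nat_lit 20608, nat_lit 25216, nat_lit 30464, nat_lit 37888, nat_lit 41888, nat_lit 38169, nat_lit 33848, nat_lit 29048, nat_lit 24759, nat_lit 20511, nat_lit 16431, nat_lit 12289, nat_lit 8194, nat_lit 4097, nat_lit 2]⟩⟩⟩,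
  ⟨[nat_lit 675, nat_lit 678, nat_lit 468, nat_lit 675, nat_lit 415], [], (nat_lit 888), ⟨[nat_lit 0, nat_lit 12, nat_lit 91], [nat_lit 0, nat_lit 31, nat_lit 61], ⟨[nat_lit 0x78261291d119ee99356a65a15150c8], [nat_lit 173056, nat_lit 168448, nat_lit 164352, nat_lit 160000, nat_lit 157056, nat_lit 152416, nat_lit 151104, nat_lit 143384, nat_lit 139448, nat_lit 136866, nat_lit 132149, nat_lit 2018, nat_lit 5120, nat_lit 8224, nat_lit 12656, nat_lit 16640, nat_lit 21952, nat_lit 25088, nat_lit 29696, nat_lit 33792, nat_lit 37888, nat_lit 41723, nat_lit 37252, nat_lit 32801, nat_lit 29268, nat_lit 24704, nat_lit 20755, nat_lit 16385, nat_lit 13319, nat_lit 8200, nat_lit 4128, nat_lit 16]⟩⟩⟩]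
theorem sth160 : Suf thT 19005990 (ldrop (lapp thwr32 [1, 0, 1]) 30) (apW dcM pth159) (tgtN dcM pth159.e) := Suf.seg (l := lth160) (by decide +kernel) sth161
def lth159 : List AP := [⟨[nat_lit 80, nat_lit 80, nat_lit 82, nat_lit 81, nat_lit 86], [], (nat_lit 718), ⟨[nat_lit 0, nat_lit 26, nat_lit 46], [nat_lit 18, nat_lit 90], ⟨[nat_lit 0x8302753db7aa2510512298dc42aec6], [nat_lit 174080, nat_lit 170496, nat_lit 167424, nat_lit 160256, nat_lit 158784, nat_lit 154528, nat_lit 148048, nat_lit 146248, nat_lit 140536, nat_lit 136850, nat_lit 131187, nat_lit 1720, nat_lit 6104, nat_lit 8696, nat_lit 14304, nat_lit 16512, nat_lit 22400, nat_lit 25856, nat_lit 30208, nat_lit 33792, nat_lit 41952, nat_lit 37061, nat_lit 34036, nat_lit 28708, nat_lit 25144, nat_lit 20562, nat_lit 16392, nat_lit 8225, nat_lit 4101, nat_lit 2]⟩⟩⟩,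
  ⟨[nat_lit 356, nat_lit 284, nat_lit 285], [], (nat_lit 882), ⟨[nat_lit 0, nat_lit 86, nat_lit 52], [nat_lit 0, nat_lit 1, nat_lit 69], ⟨[nat_lit 0xd04f28d3144c0662acb955b03dc8e], [nat_lit 168448, nat_lit 164352, nat_lit 160128, nat_lit 157056, nat_lit 152736, nat_lit 147520, nat_lit 146824, nat_lit 141216, nat_lit 136490, nat_lit 131320, nat_lit 960, nat_lit 5964, nat_lit 10168, nat_lit 12304, nat_lit 16448, nat_lit 22336, nat_lit 25088, nat_lit 29952, nat_lit 37888, nat_lit 41679, nat_lit 37250, nat_lit 33508, nat_lit 28685, nat_lit 24600, nat_lit 16392, nat_lit 12291, nat_lit 8193, nat_lit 4105, nat_lit 4]⟩⟩⟩]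
theorem sth159 : Suf thT 19005990 (ldrop (lapp thwr32 [1, 0, 1]) 24) (apW dcM pth158) (tgtN dcM pth158.e) := Suf.seg (l := lth159) (by decide +kernel) sth160
def lth158 : List AP := [⟨[nat_lit 290, nat_lit 356, nat_lit 287], [], (nat_lit 1218), ⟨[nat_lit 42, nat_lit 63], [nat_lit 13, nat_lit 53], ⟨[nat_lit 0x794c06c642752e38590459e756052a], [nat_lit 173056, nat_lit 169984, nat_lit 156864, nat_lit 152320, nat_lit 149472, nat_lit 145096, nat_lit 139404, nat_lit 137042, nat_lit 132297, nat_lit 1298, nat_lit 6084, nat_lit 9664, nat_lit 13552, nat_lit 16864, nat_lit 21696, nat_lit 26496, nat_lit 34304, nat_lit 41181, nat_lit 32816, nat_lit 28717, nat_lit 24580, nat_lit 20503, nat_lit 16385, nat_lit 12290, nat_lit 8194]⟩⟩⟩,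
  ⟨[nat_lit 81], [], (nat_lit 192), ⟨[nat_lit 0, nat_lit 76, nat_lit 48], [nat_lit 0, nat_lit 22, nat_lit 63], ⟨[nat_lit 0x4b293759701c4f2791a142845b9815], [nat_lit 173056, nat_lit 171520, nat_lit 164352, nat_lit 163328, nat_lit 157632, nat_lit 153632, nat_lit 149584, nat_lit 146360, nat_lit 140124, nat_lit 136898, nat_lit 133806, nat_lit 738, nat_lit 5856, nat_lit 9328, nat_lit 12976, nat_lit 17632, nat_lit 21056, nat_lit 25600, nat_lit 29696, nat_lit 33280, nat_lit 41754, nat_lit 38043, nat_lit 33320, nat_lit 28703, nat_lit 24587, nat_lit 20486, nat_lit 16516, nat_lit 12292, nat_lit 8203, nat_lit 4101, nat_lit 4]⟩⟩⟩]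
theorem sth158 : Suf thT 19005990 (ldrop (lapp thwr32 [1, 0, 1]) 16) (apW dcM pth157) (tgtN dcM pth157.e) := Suf.seg (l := lth158) (by decide +kernel) sth159
def lth157 : List AP := [⟨[nat_lit 261, nat_lit 224, nat_lit 224, nat_lit 666, nat_lit 223], [], (nat_lit 608), ⟨[nat_lit 1, nat_lit 64], [nat_lit 54], ⟨[nat_lit 0x69686455e98ac6750093106ec93ad0], [nat_lit 175104, nat_lit 169984, nat_lit 164864, nat_lit 163712, nat_lit 159296, nat_lit 154112, nat_lit 144136, nat_lit 141224, nat_lit 138994, nat_lit 134606, nat_lit 1698, nat_lit 5208, nat_lit 10224, nat_lit 13920, nat_lit 17088, nat_lit 21376, nat_lit 29952, nat_lit 33792, nat_lit 41787, nat_lit 38002, nat_lit 33333, nat_lit 28702, nat_lit 24591, nat_lit 20765, nat_lit 16391, nat_lit 12358, nat_lit 8193]⟩⟩⟩,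
  ⟨[], [], (nat_lit 1136), ⟨[nat_lit 1, nat_lit 64], [nat_lit 0, nat_lit 1, nat_lit 70], ⟨[nat_lit 0x69686455e98ac6750093106ec93ad0], [nat_lit 174080, nat_lit 170496, nat_lit 165120, nat_lit 163712, nat_lit 159232, nat_lit 154144, nat_lit 144136, nat_lit 141228, nat_lit 138992, nat_lit 134607, nat_lit 1698, nat_lit 5208, nat_lit 10224, nat_lit 13920, nat_lit 17088, nat_lit 21376, nat_lit 29952, nat_lit 33792, nat_lit 41787, nat_lit 38002, nat_lit 33333, nat_lit 28702, nat_lit 24591, nat_lit 20765, nat_lit 16391, nat_lit 12358, nat_lit 8193]⟩⟩⟩]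
theorem sth157 : Suf thT 19005990 (ldrop (lapp thwr32 [1, 0, 1]) 7) (apW dcM pth156) (tgtN dcM pth156.e) := Suf.seg (l := lth157) (by decide +kernel) sth158
def lth156 : List AP := [⟨[nat_lit 16, nat_lit 16, nat_lit 16, nat_lit 17, nat_lit 43, nat_lit 16], [], (nat_lit 150), ⟨[nat_lit 5, nat_lit 62], [nat_lit 33, nat_lit 94], ⟨[nat_lit 0x2aeb1540f74cc94605af009c391916], [nat_lit 173056, nat_lit 165632, nat_lit 161152, nat_lit 158208, nat_lit 153440, nat_lit 149248, nat_lit 144016, nat_lit 141128, nat_lit 136256, nat_lit 131657, nat_lit 760, nat_lit 5988, nat_lit 8840, nat_lit 17696, nat_lit 21824, nat_lit 25600, nat_lit 29184, nat_lit 33280, nat_lit 37888, nat_lit 41164, nat_lit 37187, nat_lit 33323, nat_lit 29712, nat_lit 24581, nat_lit 20744, nat_lit 16516, nat_lit 12304, nat_lit 8257, nat_lit 4609]⟩⟩⟩,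
  ⟨[nat_lit 84, nat_lit 644, nat_lit 102, nat_lit 77, nat_lit 76], [], (nat_lit 718), ⟨[nat_lit 41, nat_lit 64], [nat_lit 0, nat_lit 77, nat_lit 93], ⟨[nat_lit 0x815a00924c39ae9555eeb457315068], [nat_lit 165376, nat_lit 160000, nat_lit 155968, nat_lit 152128, nat_lit 151008, nat_lit 144880, nat_lit 139664, nat_lit 135620, nat_lit 131359, nat_lit 846, nat_lit 4932, nat_lit 8224, nat_lit 12320, nat_lit 16640, nat_lit 20736, nat_lit 25088, nat_lit 34304, nat_lit 37888, nat_lit 41232, nat_lit 37136, nat_lit 32900, nat_lit 28686, nat_lit 24586, nat_lit 20507, nat_lit 16385, nat_lit 12327, nat_lit 8200, nat_lit 4129, nat_lit 16]⟩⟩⟩]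
theorem thcr32_0 : Suf thT 19005990 (lapp thwr32 [1, 0, 1]) (apW dcM q0) (tgtN dcM q0.e) := Suf.seg (l := lth156) (by decide +kernel) sth157

def pth162 : AP := ⟨[nat_lit 672, nat_lit 290, nat_lit 293, nat_lit 284], [], (nat_lit 872), ⟨[nat_lit 0, nat_lit 43, nat_lit 55], [nat_lit 14, nat_lit 63], ⟨[nat_lit 0x6ce9562d3508c3897349470ba90f], [nat_lit 174080, nat_lit 169984, nat_lit 165376, nat_lit 163200, nat_lit 159040, nat_lit 155328, nat_lit 149296, nat_lit 144184, nat_lit 140328, nat_lit 137670, nat_lit 133321, nat_lit 394, nat_lit 5372, nat_lit 8488, nat_lit 13920, nat_lit 16544, nat_lit 22016, nat_lit 25344, nat_lit 30464, nat_lit 41609, nat_lit 37129, nat_lit 33421, nat_lit 29029, nat_lit 24594, nat_lit 20628, nat_lit 16428, nat_lit 12290, nat_lit 8225, nat_lit 4105]⟩⟩⟩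
def pth163 : AP := ⟨[nat_lit 676, nat_lit 678, nat_lit 466, nat_lit 413, nat_lit 418], [], (nat_lit 1242), ⟨[nat_lit 42, nat_lit 91], [nat_lit 0, nat_lit 28, nat_lit 62], ⟨[nat_lit 0x32e6384595b804d3c828b15c4a292f], [nat_lit 173056, nat_lit 169984, nat_lit 164352, nat_lit 161280, nat_lit 156224, nat_lit 153024, nat_lit 149264, nat_lit 144248, nat_lit 140004, nat_lit 135924, nat_lit 132695, nat_lit 122, nat_lit 6084, nat_lit 8408, nat_lit 12320, nat_lit 16896, nat_lit 20992, nat_lit 24960, nat_lit 29696, nat_lit 33280, nat_lit 41600, nat_lit 38362, nat_lit 28748, nat_lit 24757, nat_lit 20488, nat_lit 12320, nat_lit 8321, nat_lit 4]⟩⟩⟩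
def pth164 : AP := ⟨[], [], (nat_lit 127), ⟨[nat_lit 13, nat_lit 67], [nat_lit 0, nat_lit 21, nat_lit 49], ⟨[nat_lit 0x48dac5d68229d0189aef8026a23a56], [nat_lit 175104, nat_lit 169984, nat_lit 164864, nat_lit 162560, nat_lit 159488, nat_lit 153600, nat_lit 149184, nat_lit 143544, nat_lit 139968, nat_lit 137692, nat_lit 134032, nat_lit 696, nat_lit 5208, nat_lit 10160, nat_lit 13056, nat_lit 16864, nat_lit 21248, nat_lit 26112, nat_lit 29696, nat_lit 41562, nat_lit 37155, nat_lit 32875, nat_lit 28796, nat_lit 24599, nat_lit 20501, nat_lit 12423, nat_lit 8195, nat_lit 4097, nat_lit 2]⟩⟩⟩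
def pth165 : AP := ⟨[nat_lit 140, nat_lit 658, nat_lit 143, nat_lit 141], [], (nat_lit 326), ⟨[nat_lit 3, nat_lit 64], [nat_lit 24, nat_lit 47], ⟨[nat_lit 0x4cc4562914686a05c06725de6746d2], [nat_lit 175104, nat_lit 171008, nat_lit 167680, nat_lit 161024, nat_lit 155840, nat_lit 152160, nat_lit 150016, nat_lit 143984, nat_lit 140092, nat_lit 137364, nat_lit 134990, nat_lit 1810, nat_lit 5544, nat_lit 9648, nat_lit 13664, nat_lit 18240, nat_lit 20608, nat_lit 24960, nat_lit 29184, nat_lit 33792, nat_lit 37888, nat_lit 41694, nat_lit 38367, nat_lit 33309, nat_lit 29783, nat_lit 25663, nat_lit 20544, nat_lit 16653, nat_lit 12420, nat_lit 8200]⟩⟩⟩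
def pth166 : AP := ⟨[nat_lit 669, nat_lit 285, nat_lit 284], [], (nat_lit 1222), ⟨[nat_lit 32], [nat_lit 0, nat_lit 78, nat_lit 91], ⟨[nat_lit 0xbd9b35c90e2d069612068bc22500f5], [nat_lit 168960, nat_lit 164096, nat_lit 161152, nat_lit 157184, nat_lit 152448, nat_lit 148480, nat_lit 143656, nat_lit 140896, nat_lit 137016, nat_lit 131697, nat_lit 1762, nat_lit 5276, nat_lit 8824, nat_lit 13184, nat_lit 16864, nat_lit 22272, nat_lit 26112, nat_lit 30464, nat_lit 33792, nat_lit 37888, nat_lit 41704, nat_lit 38376, nat_lit 33280, nat_lit 28774, nat_lit 24588, nat_lit 20501, nat_lit 16396, nat_lit 12309, nat_lit 8195, nat_lit 4100]⟩⟩⟩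
def lth167 : List AP := [⟨[nat_lit 55, nat_lit 47], [], (nat_lit 122), ⟨[nat_lit 0, nat_lit 24, nat_lit 48], [nat_lit 5, nat_lit 48], ⟨[nat_lit 0x61dcd042c8315e48aaa3a2e4148af3], [nat_lit 173056, nat_lit 168960, nat_lit 160000, nat_lit 158464, nat_lit 153312, nat_lit 148768, nat_lit 144872, nat_lit 139604, nat_lit 135546, nat_lit 132891, nat_lit 526, nat_lit 5688, nat_lit 8256, nat_lit 13296, nat_lit 17952, nat_lit 22080, nat_lit 24832, nat_lit 29696, nat_lit 41698, nat_lit 36959, nat_lit 32920, nat_lit 29016, nat_lit 20491, nat_lit 16642, nat_lit 12294, nat_lit 4097]⟩⟩⟩,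
  ⟨[nat_lit 629, nat_lit 14, nat_lit 36], [], (nat_lit 1032), ⟨[nat_lit 0, nat_lit 30, nat_lit 58], [nat_lit 8, nat_lit 69], ⟨[nat_lit 0x5a5919bc40bba553b60428d5640686], [nat_lit 175104, nat_lit 170496, nat_lit 166912, nat_lit 159872, nat_lit 158976, nat_lit 154144, nat_lit 148032, nat_lit 145784, nat_lit 141164, nat_lit 137078, nat_lit 131353, nat_lit 1720, nat_lit 4128, nat_lit 8224, nat_lit 13920, nat_lit 17600, nat_lit 21952, nat_lit 24704, nat_lit 28928, nat_lit 33792, nat_lit 41888, nat_lit 38348, nat_lit 32856, nat_lit 29699, nat_lit 24841, nat_lit 20619, nat_lit 16456, nat_lit 8706, nat_lit 4100, nat_lit 16]⟩⟩⟩]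
theorem sth167 : Suf thT 19005990 (ldrop (lapp thwr32 [2, 0, 1]) 39) (apW dcM pth166) (tgtN dcM pth166.e) := Suf.fin' (l := lth167) (by decide +kernel)
def lth166 : List AP := [⟨[], [], (nat_lit 327), ⟨[nat_lit 3, nat_lit 64], [nat_lit 76, nat_lit 91], ⟨[nat_lit 0x4cc4562914686a05c06725de6746d2], [nat_lit 175104, nat_lit 171520, nat_lit 167424, nat_lit 161152, nat_lit 155840, nat_lit 152160, nat_lit 150016, nat_lit 143992, nat_lit 140092, nat_lit 137366, nat_lit 134991, nat_lit 1810, nat_lit 5544, nat_lit 9648, nat_lit 13664, nat_lit 18240, nat_lit 20608, nat_lit 24960, nat_lit 29184, nat_lit 33792, nat_lit 37888, nat_lit 41694, nat_lit 38367, nat_lit 33309, nat_lit 29783, nat_lit 25663, nat_lit 20544, nat_lit 16653, nat_lit 12420, nat_lit 8200]⟩⟩⟩,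
  ⟨[nat_lit 149, nat_lit 140, nat_lit 141, nat_lit 658], [], (nat_lit 1066), ⟨[nat_lit 80, nat_lit 46], [nat_lit 35, nat_lit 57], ⟨[nat_lit 0x6cd1683d5429c4600464626b174aeb], [nat_lit 174080, nat_lit 170496, nat_lit 165888, nat_lit 160256, nat_lit 159104, nat_lit 154784, nat_lit 148608, nat_lit 146368, nat_lit 140332, nat_lit 135546, nat_lit 132949, nat_lit 1966, nat_lit 5296, nat_lit 10160, nat_lit 14176, nat_lit 17408, nat_lit 20992, nat_lit 29952, nat_lit 34304, nat_lit 41422, nat_lit 36965, nat_lit 34006, nat_lit 28693, nat_lit 25101, nat_lit 20567, nat_lit 16423, nat_lit 12292, nat_lit 8200, nat_lit 4097, nat_lit 2]⟩⟩⟩]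
theorem sth166 : Suf thT 19005990 (ldrop (lapp thwr32 [2, 0, 1]) 30) (apW dcM pth165) (tgtN dcM pth165.e) := Suf.seg (l := lth166) (by decide +kernel) sth167
def lth165 : List AP := [⟨[nat_lit 47, nat_lit 47, nat_lit 47, nat_lit 47], [], (nat_lit 716), ⟨[nat_lit 0, nat_lit 12, nat_lit 47], [nat_lit 0, nat_lit 11, nat_lit 91], ⟨[nat_lit 0xa5a488a98e58410990c92bee26d4e3], [nat_lit 175104, nat_lit 170496, nat_lit 167424, nat_lit 160640, nat_lit 155776, nat_lit 152288, nat_lit 151072, nat_lit 143432, nat_lit 140180, nat_lit 138292, nat_lit 133711, nat_lit 1818, nat_lit 5488, nat_lit 8824, nat_lit 12528, nat_lit 16992, nat_lit 21824, nat_lit 25984, nat_lit 29440, nat_lit 34304, nat_lit 37888, nat_lit 41505, nat_lit 38254, nat_lit 32839, nat_lit 28734, nat_lit 24581, nat_lit 20615, nat_lit 16389, nat_lit 12327, nat_lit 8202, nat_lit 4104]⟩⟩⟩,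
  ⟨[nat_lit 351, nat_lit 669, nat_lit 352], [], (nat_lit 644), ⟨[nat_lit 0, nat_lit 3, nat_lit 59], [nat_lit 0, nat_lit 10, nat_lit 90], ⟨[nat_lit 0x28d4983d176b846906646597138295], [nat_lit 174080, nat_lit 171008, nat_lit 167424, nat_lit 160896, nat_lit 158336, nat_lit 154496, nat_lit 148048, nat_lit 146632, nat_lit 139280, nat_lit 136190, nat_lit 131472, nat_lit 394, nat_lit 4520, nat_lit 9520, nat_lit 14144, nat_lit 17408, nat_lit 20992, nat_lit 24832, nat_lit 29952, nat_lit 33792, nat_lit 37888, nat_lit 41971, nat_lit 37160, nat_lit 33296, nat_lit 29737, nat_lit 24591, nat_lit 20502, nat_lit 16430, nat_lit 12293, nat_lit 8202, nat_lit 4101]⟩⟩⟩]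
theorem sth165 : Suf thT 19005990 (ldrop (lapp thwr32 [2, 0, 1]) 24) (apW dcM pth164) (tgtN dcM pth164.e) := Suf.seg (l := lth165) (by decide +kernel) sth166
def lth164 : List AP := [⟨[nat_lit 673, nat_lit 295], [], (nat_lit 1222), ⟨[nat_lit 25, nat_lit 91], [nat_lit 31, nat_lit 54], ⟨[nat_lit 0x23aa90de76145af650e81c14b048c5], [nat_lit 175104, nat_lit 168960, nat_lit 165632, nat_lit 160512, nat_lit 159488, nat_lit 153664, nat_lit 150656, nat_lit 143752, nat_lit 142184, nat_lit 136550, nat_lit 134777, nat_lit 1268, nat_lit 6104, nat_lit 9456, nat_lit 14048, nat_lit 16448, nat_lit 22016, nat_lit 25344, nat_lit 37888, nat_lit 41921, nat_lit 38179, nat_lit 32897, nat_lit 28718, nat_lit 25150, nat_lit 20609, nat_lit 16463, nat_lit 12323, nat_lit 8201, nat_lit 4112]⟩⟩⟩,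
  ⟨[nat_lit 47], [], (nat_lit 126), ⟨[nat_lit 13, nat_lit 67], [nat_lit 0, nat_lit 31, nat_lit 59], ⟨[nat_lit 0x395e6aae601a6d27308d50a90bc428], [nat_lit 173056, nat_lit 170496, nat_lit 167168, nat_lit 162944, nat_lit 159360, nat_lit 152960, nat_lit 150000, nat_lit 145840, nat_lit 140116, nat_lit 137668, nat_lit 133057, nat_lit 1396, nat_lit 4608, nat_lit 10096, nat_lit 12496, nat_lit 18208, nat_lit 21504, nat_lit 26112, nat_lit 29440, nat_lit 33280, nat_lit 37888, nat_lit 41310, nat_lit 37345, nat_lit 32835, nat_lit 29259, nat_lit 24844, nat_lit 20608, nat_lit 17412, nat_lit 12291, nat_lit 8257, nat_lit 4100, nat_lit 8]⟩⟩⟩]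
theorem sth164 : Suf thT 19005990 (ldrop (lapp thwr32 [2, 0, 1]) 16) (apW dcM pth163) (tgtN dcM pth163.e) := Suf.seg (l := lth164) (by decide +kernel) sth165
def lth163 : List AP := [⟨[nat_lit 674, nat_lit 466, nat_lit 414, nat_lit 677], [], (nat_lit 875), ⟨[nat_lit 3, nat_lit 48], [nat_lit 0, nat_lit 70], ⟨[nat_lit 0x705f1b1d2c42c5299480adc70551a6], [nat_lit 175104, nat_lit 169472, nat_lit 161792, nat_lit 156480, nat_lit 152544, nat_lit 150416, nat_lit 145680, nat_lit 141740, nat_lit 137442, nat_lit 134275, nat_lit 158, nat_lit 5488, nat_lit 10152, nat_lit 12320, nat_lit 18272, nat_lit 20928, nat_lit 25472, nat_lit 29440, nat_lit 34304, nat_lit 41818, nat_lit 38277, nat_lit 33948, nat_lit 28975, nat_lit 24718, nat_lit 20550, nat_lit 16910, nat_lit 12421, nat_lit 8201]⟩⟩⟩,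
  ⟨[], [], (nat_lit 874), ⟨[nat_lit 3, nat_lit 48], [nat_lit 3, nat_lit 92], ⟨[nat_lit 0x705f1b1d2c42c5299480adc70551a6], [nat_lit 175104, nat_lit 169472, nat_lit 164096, nat_lit 161792, nat_lit 156416, nat_lit 152512, nat_lit 150400, nat_lit 145680, nat_lit 141736, nat_lit 137440, nat_lit 134274, nat_lit 158, nat_lit 5488, nat_lit 10152, nat_lit 12320, nat_lit 18272, nat_lit 20928, nat_lit 25472, nat_lit 29440, nat_lit 34304, nat_lit 41818, nat_lit 38277, nat_lit 33948, nat_lit 28975, nat_lit 24718, nat_lit 20550, nat_lit 16910, nat_lit 12421, nat_lit 8201]⟩⟩⟩]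
theorem sth163 : Suf thT 19005990 (ldrop (lapp thwr32 [2, 0, 1]) 7) (apW dcM pth162) (tgtN dcM pth162.e) := Suf.seg (l := lth163) (by decide +kernel) sth164
def lth162 : List AP := [⟨[nat_lit 38, nat_lit 630, nat_lit 41, nat_lit 41, nat_lit 37], [], (nat_lit 90), ⟨[nat_lit 0, nat_lit 40, nat_lit 69], [nat_lit 28, nat_lit 51], ⟨[nat_lit 0x5b6f1306121d6c4a2993781c712505], [nat_lit 164352, nat_lit 156416, nat_lit 147520, nat_lit 143688, nat_lit 139408, nat_lit 138298, nat_lit 132289, nat_lit 1054, nat_lit 4352, nat_lit 9664, nat_lit 13584, nat_lit 17120, nat_lit 22144, nat_lit 28928, nat_lit 33280, nat_lit 41933, nat_lit 37186, nat_lit 32819, nat_lit 28694, nat_lit 25088, nat_lit 20753, nat_lit 16517, nat_lit 13315, nat_lit 16]⟩⟩⟩,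
  ⟨[nat_lit 56, nat_lit 56, nat_lit 47, nat_lit 642, nat_lit 47, nat_lit 46], [], (nat_lit 716), ⟨[nat_lit 5, nat_lit 67], [nat_lit 0, nat_lit 41, nat_lit 68], ⟨[nat_lit 0x239acb8511394cf550504c876acc0b], [nat_lit 164096, nat_lit 160384, nat_lit 156032, nat_lit 152064, nat_lit 147536, nat_lit 144840, nat_lit 140284, nat_lit 137830, nat_lit 131175, nat_lit 986, nat_lit 4684, nat_lit 9384, nat_lit 13264, nat_lit 17632, nat_lit 20800, nat_lit 25600, nat_lit 29952, nat_lit 33792, nat_lit 37888, nat_lit 41638, nat_lit 37286, nat_lit 33344, nat_lit 28766, nat_lit 24760, nat_lit 20500, nat_lit 16421, nat_lit 12295, nat_lit 8200, nat_lit 4100, nat_lit 2]⟩⟩⟩]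
theorem thcr32_1 : Suf thT 19005990 (lapp thwr32 [2, 0, 1]) (iC2 :: apW dcM q0) (tgtN dcM q0.e) := Suf.seg (l := lth162) (by decide +kernel) sth163

def pth168 : AP := ⟨[nat_lit 665, nat_lit 228, nat_lit 264, nat_lit 222], [], (nat_lit 1106), ⟨[nat_lit 0, nat_lit 42, nat_lit 48], [nat_lit 0, nat_lit 73, nat_lit 93], ⟨[nat_lit 0x80c37330086a482a48e5b4d6a7ba35], [nat_lit 169472, nat_lit 167424, nat_lit 159872, nat_lit 156032, nat_lit 154976, nat_lit 150704, nat_lit 146504, nat_lit 143128, nat_lit 138932, nat_lit 132226, nat_lit 2012, nat_lit 4924, nat_lit 9648, nat_lit 13664, nat_lit 16864, nat_lit 21056, nat_lit 26496, nat_lit 28928, nat_lit 33280, nat_lit 37888, nat_lit 41117, nat_lit 37135, nat_lit 32898, nat_lit 29046, nat_lit 24758, nat_lit 20639, nat_lit 16385, nat_lit 12290, nat_lit 8194]⟩⟩⟩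
def pth169 : AP := ⟨[nat_lit 223, nat_lit 229, nat_lit 227, nat_lit 222], [], (nat_lit 506), ⟨[nat_lit 7, nat_lit 64], [nat_lit 0, nat_lit 76, nat_lit 56], ⟨[nat_lit 0x78e37209004b4cca28f62cd7283835], [nat_lit 164864, nat_lit 156032, nat_lit 152992, nat_lit 148304, nat_lit 145312, nat_lit 142872, nat_lit 135542, nat_lit 132422, nat_lit 1766, nat_lit 4100, nat_lit 10224, nat_lit 13408, nat_lit 18400, nat_lit 21824, nat_lit 25472, nat_lit 29440, nat_lit 33792, nat_lit 41821, nat_lit 37961, nat_lit 33371, nat_lit 28762, nat_lit 24749, nat_lit 20499, nat_lit 16388, nat_lit 12422, nat_lit 8200]⟩⟩⟩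
def pth170 : AP := ⟨[], [], (nat_lit 193), ⟨[nat_lit 85, nat_lit 65], [nat_lit 13, nat_lit 65], ⟨[nat_lit 0x824256ae8abc5933d5e470ec014906], [nat_lit 171520, nat_lit 166912, nat_lit 161920, nat_lit 159040, nat_lit 151712, nat_lit 150016, nat_lit 146184, nat_lit 139268, nat_lit 138362, nat_lit 131362, nat_lit 1024, nat_lit 4824, nat_lit 12736, nat_lit 17248, nat_lit 21440, nat_lit 25472, nat_lit 29696, nat_lit 33792, nat_lit 41802, nat_lit 37928, nat_lit 32946, nat_lit 28969, nat_lit 25131, nat_lit 20752, nat_lit 16520, nat_lit 12359, nat_lit 8200, nat_lit 16]⟩⟩⟩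
def pth171 : AP := ⟨[nat_lit 262, nat_lit 262, nat_lit 226, nat_lit 224], [], (nat_lit 1100), ⟨[nat_lit 32, nat_lit 63], [nat_lit 6, nat_lit 57], ⟨[nat_lit 0x45962815ca624f2a4c7125c26781b5], [nat_lit 169472, nat_lit 164352, nat_lit 163584, nat_lit 152704, nat_lit 149488, nat_lit 143472, nat_lit 140144, nat_lit 135172, nat_lit 131424, nat_lit 1634, nat_lit 5900, nat_lit 8680, nat_lit 14304, nat_lit 17760, nat_lit 20672, nat_lit 24704, nat_lit 30208, nat_lit 33280, nat_lit 41243, nat_lit 37084, nat_lit 33947, nat_lit 28710, nat_lit 25101, nat_lit 20618, nat_lit 16449, nat_lit 8195, nat_lit 4097]⟩⟩⟩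
def pth172 : AP := ⟨[nat_lit 265, nat_lit 264, nat_lit 225], [], (nat_lit 1120), ⟨[nat_lit 30, nat_lit 66], [nat_lit 18, nat_lit 63], ⟨[nat_lit 0x3cacdb962c40e950a670729e232c80], [nat_lit 168960, nat_lit 164096, nat_lit 163584, nat_lit 156736, nat_lit 152928, nat_lit 148448, nat_lit 143440, nat_lit 139772, nat_lit 135814, nat_lit 131436, nat_lit 128, nat_lit 5064, nat_lit 8208, nat_lit 13680, nat_lit 16512, nat_lit 22208, nat_lit 25600, nat_lit 30208, nat_lit 37888, nat_lit 41835, nat_lit 38379, nat_lit 33963, nat_lit 29016, nat_lit 24870, nat_lit 20555, nat_lit 16388, nat_lit 12325, nat_lit 8210, nat_lit 4100]⟩⟩⟩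
def lth173 : List AP := [⟨[nat_lit 77], [], (nat_lit 196), ⟨[nat_lit 0, nat_lit 81, nat_lit 60], [nat_lit 0, nat_lit 12, nat_lit 62], ⟨[nat_lit 0x111d76941652648385f49c17160ea6], [nat_lit 173056, nat_lit 169472, nat_lit 165376, nat_lit 162176, nat_lit 157056, nat_lit 153280, nat_lit 147664, nat_lit 145056, nat_lit 139360, nat_lit 136944, nat_lit 132530, nat_lit 738, nat_lit 5436, nat_lit 9576, nat_lit 14240, nat_lit 16544, nat_lit 21376, nat_lit 25600, nat_lit 29952, nat_lit 33280, nat_lit 37888, nat_lit 41920, nat_lit 37975, nat_lit 32800, nat_lit 29241, nat_lit 25647, nat_lit 20548, nat_lit 16903, nat_lit 12321, nat_lit 8259, nat_lit 4105, nat_lit 2]⟩⟩⟩,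
  ⟨[nat_lit 40, nat_lit 36], [], (nat_lit 1032), ⟨[nat_lit 27, nat_lit 94], [nat_lit 11, nat_lit 91], ⟨[nat_lit 0x22a2270c367d253336e72c120432ab], [nat_lit 168960, nat_lit 161536, nat_lit 153344, nat_lit 148064, nat_lit 146688, nat_lit 140780, nat_lit 135362, nat_lit 132704, nat_lit 1336, nat_lit 5072, nat_lit 8928, nat_lit 12544, nat_lit 17696, nat_lit 21440, nat_lit 26112, nat_lit 30208, nat_lit 41800, nat_lit 38258, nat_lit 32895, nat_lit 28766, nat_lit 24727, nat_lit 20492, nat_lit 16385, nat_lit 8194, nat_lit 4097, nat_lit 2]⟩⟩⟩]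
theorem sth173 : Suf thT 19005990 (ldrop (lapp thwr32 [3, 0, 1]) 39) (apW dcM pth172) (tgtN dcM pth172.e) := Suf.fin' (l := lth173) (by decide +kernel)
def lth172 : List AP := [⟨[], [], (nat_lit 482), ⟨[nat_lit 0, nat_lit 32, nat_lit 63], [nat_lit 36, nat_lit 67], ⟨[nat_lit 0x45962815ca624f2a4c7125c26781b5], [nat_lit 168960, nat_lit 164608, nat_lit 163584, nat_lit 152736, nat_lit 149488, nat_lit 143480, nat_lit 140144, nat_lit 135174, nat_lit 131425, nat_lit 1634, nat_lit 5900, nat_lit 8680, nat_lit 14304, nat_lit 17760, nat_lit 20672, nat_lit 24704, nat_lit 30208, nat_lit 33280, nat_lit 41243, nat_lit 37084, nat_lit 33947, nat_lit 28710, nat_lit 25101, nat_lit 20618, nat_lit 16449, nat_lit 8195, nat_lit 4097]⟩⟩⟩,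
  ⟨[nat_lit 231, nat_lit 227, nat_lit 262, nat_lit 226], [], (nat_lit 545), ⟨[nat_lit 75, nat_lit 68], [nat_lit 0, nat_lit 86, nat_lit 92], ⟨[nat_lit 0xb19e14364c39153a88ae8ac60a5e09], [nat_lit 166400, nat_lit 162560, nat_lit 159232, nat_lit 154304, nat_lit 148960, nat_lit 146128, nat_lit 141776, nat_lit 136596, nat_lit 133688, nat_lit 1066, nat_lit 5508, nat_lit 9328, nat_lit 13808, nat_lit 16832, nat_lit 20544, nat_lit 24832, nat_lit 30464, nat_lit 33792, nat_lit 37888, nat_lit 41821, nat_lit 37918, nat_lit 33476, nat_lit 28988, nat_lit 25098, nat_lit 20501, nat_lit 16425, nat_lit 12311, nat_lit 8208, nat_lit 4097]⟩⟩⟩]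
theorem sth172 : Suf thT 19005990 (ldrop (lapp thwr32 [3, 0, 1]) 30) (apW dcM pth171) (tgtN dcM pth171.e) := Suf.seg (l := lth172) (by decide +kernel) sth173
def lth171 : List AP := [⟨[nat_lit 87, nat_lit 79, nat_lit 78, nat_lit 87, nat_lit 79], [], (nat_lit 534), ⟨[nat_lit 0, nat_lit 3, nat_lit 60], [nat_lit 0, nat_lit 74, nat_lit 57], ⟨[nat_lit 0x4a99321a2ea1502386abb49f700db0], [nat_lit 174080, nat_lit 165632, nat_lit 161280, nat_lit 156288, nat_lit 153152, nat_lit 148016, nat_lit 144472, nat_lit 141060, nat_lit 135176, nat_lit 131475, nat_lit 428, nat_lit 5024, nat_lit 8608, nat_lit 13312, nat_lit 17856, nat_lit 21248, nat_lit 26496, nat_lit 29440, nat_lit 33792, nat_lit 37888, nat_lit 32954, nat_lit 28776, nat_lit 24596, nat_lit 20619, nat_lit 16393, nat_lit 12293, nat_lit 8201, nat_lit 4128, nat_lit 2]⟩⟩⟩,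
  ⟨[nat_lit 263, nat_lit 231, nat_lit 224, nat_lit 665], [], (nat_lit 545), ⟨[nat_lit 0, nat_lit 78, nat_lit 92], [nat_lit 19, nat_lit 49], ⟨[nat_lit 0x2d80d9254835583a3ce15ce30b904e], [nat_lit 175104, nat_lit 169472, nat_lit 167680, nat_lit 162432, nat_lit 158784, nat_lit 151840, nat_lit 147616, nat_lit 144912, nat_lit 141476, nat_lit 137674, nat_lit 131289, nat_lit 960, nat_lit 5568, nat_lit 8208, nat_lit 13712, nat_lit 16448, nat_lit 22464, nat_lit 24832, nat_lit 30208, nat_lit 33280, nat_lit 41369, nat_lit 37125, nat_lit 32916, nat_lit 28994, nat_lit 24598, nat_lit 20507, nat_lit 16390, nat_lit 12320, nat_lit 8194, nat_lit 8]⟩⟩⟩]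
theorem sth171 : Suf thT 19005990 (ldrop (lapp thwr32 [3, 0, 1]) 24) (apW dcM pth170) (tgtN dcM pth170.e) := Suf.seg (l := lth171) (by decide +kernel) sth172
def lth170 : List AP := [⟨[nat_lit 264, nat_lit 668, nat_lit 226], [], (nat_lit 1120), ⟨[nat_lit 0, nat_lit 5, nat_lit 58], [nat_lit 13, nat_lit 64], ⟨[nat_lit 0xb86b2bceab90128a5b3808d4432b6], [nat_lit 175104, nat_lit 170496, nat_lit 167168, nat_lit 160512, nat_lit 159552, nat_lit 154208, nat_lit 148784, nat_lit 147376, nat_lit 141180, nat_lit 137076, nat_lit 132785, nat_lit 1488, nat_lit 5208, nat_lit 8712, nat_lit 13920, nat_lit 16576, nat_lit 22400, nat_lit 25600, nat_lit 29440, nat_lit 37888, nat_lit 41444, nat_lit 37175, nat_lit 32807, nat_lit 29804, nat_lit 25623, nat_lit 20569, nat_lit 16459, nat_lit 8194, nat_lit 4097]⟩⟩⟩,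
  ⟨[nat_lit 78], [], (nat_lit 192), ⟨[nat_lit 0, nat_lit 5, nat_lit 92], [nat_lit 21, nat_lit 48], ⟨[nat_lit 0x8dc955b6c34c0c89144102a8e79e6c], [nat_lit 173056, nat_lit 169472, nat_lit 167680, nat_lit 163584, nat_lit 158720, nat_lit 154080, nat_lit 148624, nat_lit 146392, nat_lit 142144, nat_lit 137116, nat_lit 133955, nat_lit 210, nat_lit 5024, nat_lit 8992, nat_lit 13296, nat_lit 18112, nat_lit 21120, nat_lit 25984, nat_lit 29440, nat_lit 33792, nat_lit 41614, nat_lit 38074, nat_lit 33005, nat_lit 28930, nat_lit 24631, nat_lit 20510, nat_lit 16395, nat_lit 12308, nat_lit 8201]⟩⟩⟩]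
theorem sth170 : Suf thT 19005990 (ldrop (lapp thwr32 [3, 0, 1]) 16) (apW dcM pth169) (tgtN dcM pth169.e) := Suf.seg (l := lth170) (by decide +kernel) sth171
def lth169 : List AP := [⟨[nat_lit 225, nat_lit 222, nat_lit 259, nat_lit 266], [], (nat_lit 488), ⟨[nat_lit 40, nat_lit 60], [nat_lit 17, nat_lit 89], ⟨[nat_lit 0xb0e3042aa024d2f749670b1b431457], [nat_lit 175104, nat_lit 171008, nat_lit 165888, nat_lit 160000, nat_lit 156416, nat_lit 153248, nat_lit 149520, nat_lit 143752, nat_lit 140420, nat_lit 138736, nat_lit 134836, nat_lit 1136, nat_lit 4964, nat_lit 8320, nat_lit 12560, nat_lit 17472, nat_lit 20544, nat_lit 24704, nat_lit 29696, nat_lit 34304, nat_lit 41293, nat_lit 37232, nat_lit 33452, nat_lit 28682, nat_lit 24630, nat_lit 20561, nat_lit 16449, nat_lit 12421, nat_lit 8195, nat_lit 4097, nat_lit 2]⟩⟩⟩,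
  ⟨[], [], (nat_lit 489), ⟨[nat_lit 40, nat_lit 60], [nat_lit 27, nat_lit 65], ⟨[nat_lit 0xb0e3042aa024d2f749670b1b431457], [nat_lit 175104, nat_lit 171008, nat_lit 166144, nat_lit 160128, nat_lit 156416, nat_lit 153216, nat_lit 149504, nat_lit 143752, nat_lit 140420, nat_lit 138736, nat_lit 134837, nat_lit 1136, nat_lit 4964, nat_lit 8320, nat_lit 12560, nat_lit 17472, nat_lit 20544, nat_lit 24704, nat_lit 29696, nat_lit 34304, nat_lit 41293, nat_lit 37232, nat_lit 33452, nat_lit 28682, nat_lit 24630, nat_lit 20561, nat_lit 16449, nat_lit 12421, nat_lit 8195, nat_lit 4097, nat_lit 2]⟩⟩⟩]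
theorem sth169 : Suf thT 19005990 (ldrop (lapp thwr32 [3, 0, 1]) 7) (apW dcM pth168) (tgtN dcM pth168.e) := Suf.seg (l := lth169) (by decide +kernel) sth170
def lth168 : List AP := [⟨[nat_lit 632, nat_lit 37, nat_lit 14, nat_lit 39, nat_lit 17, nat_lit 40], [], (nat_lit 150), ⟨[nat_lit 0, nat_lit 11, nat_lit 48], [nat_lit 0, nat_lit 1, nat_lit 58], ⟨[nat_lit 0x8c0b51a64d0d006b9d4b612ce40a6f], [nat_lit 175104, nat_lit 168448, nat_lit 166144, nat_lit 162816, nat_lit 158784, nat_lit 153344, nat_lit 149088, nat_lit 144152, nat_lit 142652, nat_lit 138824, nat_lit 131528, nat_lit 1318, nat_lit 4780, nat_lit 10088, nat_lit 13920, nat_lit 18336, nat_lit 21888, nat_lit 25472, nat_lit 29440, nat_lit 33792, nat_lit 41786, nat_lit 37936, nat_lit 32852, nat_lit 28697, nat_lit 24613, nat_lit 20546, nat_lit 16390, nat_lit 12290, nat_lit 8194, nat_lit 4097, nat_lit 2]⟩⟩⟩,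
  ⟨[nat_lit 101, nat_lit 83, nat_lit 100, nat_lit 646, nat_lit 105], [], (nat_lit 534), ⟨[nat_lit 30, nat_lit 89], [nat_lit 72], ⟨[nat_lit 0x73ca05d992ab60a0c66435c7441c49], [nat_lit 173056, nat_lit 171520, nat_lit 164608, nat_lit 163200, nat_lit 156352, nat_lit 154912, nat_lit 151408, nat_lit 146664, nat_lit 141140, nat_lit 135692, nat_lit 134262, nat_lit 1918, nat_lit 5568, nat_lit 9184, nat_lit 12368, nat_lit 16480, nat_lit 21184, nat_lit 25216, nat_lit 29184, nat_lit 37888, nat_lit 41244, nat_lit 37097, nat_lit 32919, nat_lit 29000, nat_lit 24760, nat_lit 20488, nat_lit 16520, nat_lit 12327, nat_lit 8194, nat_lit 4097]⟩⟩⟩]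
theorem thcr32_2 : Suf thT 19005990 (lapp thwr32 [3, 0, 1]) (iC3 :: apW dcM q0) (tgtN dcM q0.e) := Suf.seg (l := lth168) (by decide +kernel) sth169

def pth174 : AP := ⟨[nat_lit 226, nat_lit 222, nat_lit 264, nat_lit 265, nat_lit 222], [], (nat_lit 636), ⟨[nat_lit 38, nat_lit 89], [nat_lit 87, nat_lit 63], ⟨[nat_lit 0x5d69190c2a24d2501d9630aef73510], [nat_lit 160256, nat_lit 157632, nat_lit 151744, nat_lit 148992, nat_lit 145560, nat_lit 140420, nat_lit 136886, nat_lit 131597, nat_lit 428, nat_lit 6076, nat_lit 10224, nat_lit 12352, nat_lit 17056, nat_lit 21760, nat_lit 24832, nat_lit 29184, nat_lit 33280, nat_lit 41756, nat_lit 37190, nat_lit 32941, nat_lit 29020, nat_lit 24587, nat_lit 20633, nat_lit 16513, nat_lit 12292, nat_lit 8201, nat_lit 4161, nat_lit 4]⟩⟩⟩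
def pth175 : AP := ⟨[nat_lit 288, nat_lit 671, nat_lit 285, nat_lit 285], [], (nat_lit 1150), ⟨[nat_lit 9, nat_lit 89], [nat_lit 0, nat_lit 18, nat_lit 61], ⟨[nat_lit 0x8068998ea824a2e01d827dae62b54b], [nat_lit 173056, nat_lit 168960, nat_lit 165632, nat_lit 160896, nat_lit 156032, nat_lit 152448, nat_lit 148768, nat_lit 145768, nat_lit 140632, nat_lit 135842, nat_lit 131675, nat_lit 1224, nat_lit 5072, nat_lit 9512, nat_lit 12416, nat_lit 18336, nat_lit 22016, nat_lit 26496, nat_lit 29696, nat_lit 33280, nat_lit 37888, nat_lit 41689, nat_lit 37331, nat_lit 32804, nat_lit 28733, nat_lit 25115, nat_lit 20619, nat_lit 16430, nat_lit 8193, nat_lit 4097, nat_lit 2]⟩⟩⟩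
def pth176 : AP := ⟨[], [], (nat_lit 302), ⟨[nat_lit 0, nat_lit 35, nat_lit 66], [nat_lit 16, nat_lit 68], ⟨[nat_lit 0xde05456cd5bc4064669a1c727188a], [nat_lit 175104, nat_lit 170496, nat_lit 164096, nat_lit 162560, nat_lit 159232, nat_lit 154592, nat_lit 144840, nat_lit 139576, nat_lit 137678, nat_lit 135067, nat_lit 1794, nat_lit 5884, nat_lit 9136, nat_lit 13312, nat_lit 20800, nat_lit 26112, nat_lit 29696, nat_lit 33792, nat_lit 37888, nat_lit 41932, nat_lit 38106, nat_lit 33485, nat_lit 28713, nat_lit 24873, nat_lit 20481, nat_lit 16451, nat_lit 12420, nat_lit 8200, nat_lit 4161, nat_lit 2]⟩⟩⟩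
def pth177 : AP := ⟨[nat_lit 143, nat_lit 658, nat_lit 139, nat_lit 140, nat_lit 141], [], (nat_lit 736), ⟨[nat_lit 16, nat_lit 65], [nat_lit 79, nat_lit 47], ⟨[nat_lit 0x3c556aa6446a1617de832b80660a70], [nat_lit 174080, nat_lit 169472, nat_lit 167168, nat_lit 162688, nat_lit 159360, nat_lit 151872, nat_lit 147648, nat_lit 143728, nat_lit 141384, nat_lit 138150, nat_lit 133002, nat_lit 526, nat_lit 5508, nat_lit 8256, nat_lit 13552, nat_lit 16672, nat_lit 21760, nat_lit 25600, nat_lit 30464, nat_lit 33280, nat_lit 37888, nat_lit 41878, nat_lit 38356, nat_lit 33804, nat_lit 28931, nat_lit 24626, nat_lit 20547, nat_lit 16419, nat_lit 8194, nat_lit 4097, nat_lit 2]⟩⟩⟩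
def pth178 : AP := ⟨[nat_lit 264, nat_lit 259, nat_lit 668, nat_lit 224], [], (nat_lit 477), ⟨[nat_lit 36, nat_lit 58], [nat_lit 33, nat_lit 49], ⟨[nat_lit 0x695144bea694e213ddca5d98400e02], [nat_lit 174080, nat_lit 171520, nat_lit 167424, nat_lit 161664, nat_lit 158208, nat_lit 154592, nat_lit 149216, nat_lit 146288, nat_lit 139356, nat_lit 136862, nat_lit 133099, nat_lit 4, nat_lit 4476, nat_lit 8200, nat_lit 12304, nat_lit 16416, nat_lit 22336, nat_lit 25344, nat_lit 29696, nat_lit 37888, nat_lit 41677, nat_lit 37331, nat_lit 32771, nat_lit 29257, nat_lit 24600, nat_lit 20504, nat_lit 16416, nat_lit 12309, nat_lit 8201, nat_lit 4224, nat_lit 8]⟩⟩⟩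
def lth179 : List AP := [⟨[], [], (nat_lit 1052), ⟨[nat_lit 8, nat_lit 65], [nat_lit 81, nat_lit 54], ⟨[nat_lit 0x8ddcf0d60359da04a2746144ab1a44], [nat_lit 174080, nat_lit 170496, nat_lit 165120, nat_lit 162816, nat_lit 158784, nat_lit 154144, nat_lit 148064, nat_lit 143656, nat_lit 139268, nat_lit 137458, nat_lit 135120, nat_lit 1778, nat_lit 5192, nat_lit 9216, nat_lit 14176, nat_lit 16864, nat_lit 20928, nat_lit 26368, nat_lit 29184, nat_lit 33280, nat_lit 37888, nat_lit 41649, nat_lit 38336, nat_lit 33440, nat_lit 29028, nat_lit 24840, nat_lit 20505, nat_lit 12323, nat_lit 8320, nat_lit 4105]⟩⟩⟩,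
  ⟨[], [], (nat_lit 1034), ⟨[nat_lit 0, nat_lit 32, nat_lit 90], [nat_lit 72, nat_lit 66], ⟨[nat_lit 0x84a67b818b89885121d40d9a9aa86f], [nat_lit 165376, nat_lit 160000, nat_lit 156608, nat_lit 152960, nat_lit 149104, nat_lit 145144, nat_lit 140928, nat_lit 136740, nat_lit 134363, nat_lit 1896, nat_lit 4208, nat_lit 9656, nat_lit 12752, nat_lit 17952, nat_lit 22336, nat_lit 25728, nat_lit 29440, nat_lit 33280, nat_lit 37888, nat_lit 41000, nat_lit 37327, nat_lit 32889, nat_lit 29307, nat_lit 24579, nat_lit 20502, nat_lit 16417, nat_lit 12547, nat_lit 8209, nat_lit 4101]⟩⟩⟩]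
theorem sth179 : Suf thT 2048 (ldrop (lapp thwr32 [1, 0, 1]) 39) (apW dcM pth178) (tgtN dcM pth178.e) := Suf.fin' (l := lth179) (by decide +kernel)
def lth178 : List AP := [⟨[], [], (nat_lit 1176), ⟨[nat_lit 0, nat_lit 16, nat_lit 65], [nat_lit 43, nat_lit 63], ⟨[nat_lit 0x3c556aa6446a1617de832b80660a70], [nat_lit 175104, nat_lit 168960, nat_lit 166912, nat_lit 162688, nat_lit 159360, nat_lit 151872, nat_lit 147648, nat_lit 143728, nat_lit 141384, nat_lit 138150, nat_lit 133003, nat_lit 526, nat_lit 5508, nat_lit 8256, nat_lit 13552, nat_lit 16672, nat_lit 21760, nat_lit 25600, nat_lit 30464, nat_lit 33280, nat_lit 37888, nat_lit 41878, nat_lit 38356, nat_lit 33804, nat_lit 28931, nat_lit 24626, nat_lit 20547, nat_lit 16419, nat_lit 8194, nat_lit 4097, nat_lit 2]⟩⟩⟩,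
  ⟨[nat_lit 140, nat_lit 654, nat_lit 656, nat_lit 139, nat_lit 140], [], (nat_lit 478), ⟨[nat_lit 0, nat_lit 31, nat_lit 59], [nat_lit 77, nat_lit 55], ⟨[nat_lit 0x539e9a16c49845090e204316d3dcd5], [nat_lit 169472, nat_lit 165376, nat_lit 161792, nat_lit 156032, nat_lit 151584, nat_lit 147808, nat_lit 143544, nat_lit 139300, nat_lit 137128, nat_lit 131747, nat_lit 1634, nat_lit 5652, nat_lit 9976, nat_lit 13712, nat_lit 18368, nat_lit 20672, nat_lit 26368, nat_lit 29696, nat_lit 33280, nat_lit 41786, nat_lit 38029, nat_lit 32863, nat_lit 28726, nat_lit 24592, nat_lit 20612, nat_lit 16425, nat_lit 12310, nat_lit 8202, nat_lit 4101]⟩⟩⟩]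
theorem sth178 : Suf thT 2048 (ldrop (lapp thwr32 [1, 0, 1]) 30) (apW dcM pth177) (tgtN dcM pth177.e) := Suf.seg (l := lth178) (by decide +kernel) sth179
def lth177 : List AP := [⟨[], [], (nat_lit 489), ⟨[nat_lit 39], [nat_lit 86, nat_lit 47], ⟨[nat_lit 0x8a6c822c0e906e3788caa1e05acdac], [nat_lit 171008, nat_lit 166912, nat_lit 161920, nat_lit 158464, nat_lit 151808, nat_lit 150960, nat_lit 146248, nat_lit 140660, nat_lit 137906, nat_lit 132930, nat_lit 210, nat_lit 5024, nat_lit 8928, nat_lit 13888, nat_lit 18080, nat_lit 21184, nat_lit 24832, nat_lit 28928, nat_lit 33792, nat_lit 41911, nat_lit 38398, nat_lit 34028, nat_lit 28762, nat_lit 24756, nat_lit 20564, nat_lit 16394, nat_lit 12291, nat_lit 8195, nat_lit 4100, nat_lit 2]⟩⟩⟩,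
  ⟨[nat_lit 264, nat_lit 223, nat_lit 665, nat_lit 224], [], (nat_lit 514), ⟨[nat_lit 0, nat_lit 14, nat_lit 60], [nat_lit 22, nat_lit 51], ⟨[nat_lit 0x95ebb8a00a12468b5954cd1651c6e], [nat_lit 173056, nat_lit 168448, nat_lit 160640, nat_lit 156928, nat_lit 152864, nat_lit 147664, nat_lit 145016, nat_lit 142236, nat_lit 136224, nat_lit 131178, nat_lit 810, nat_lit 4504, nat_lit 9096, nat_lit 13936, nat_lit 17440, nat_lit 21184, nat_lit 26368, nat_lit 30464, nat_lit 37888, nat_lit 41121, nat_lit 37020, nat_lit 32837, nat_lit 28764, nat_lit 24591, nat_lit 21535, nat_lit 16425, nat_lit 12323, nat_lit 8200, nat_lit 4113, nat_lit 4]⟩⟩⟩]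
theorem sth177 : Suf thT 2048 (ldrop (lapp thwr32 [1, 0, 1]) 24) (apW dcM pth176) (tgtN dcM pth176.e) := Suf.seg (l := lth177) (by decide +kernel) sth178
def lth176 : List AP := [⟨[nat_lit 668, nat_lit 666, nat_lit 227, nat_lit 231], [], (nat_lit 488), ⟨[nat_lit 11, nat_lit 62], [nat_lit 0, nat_lit 24, nat_lit 69], ⟨[nat_lit 0x13a6a0c1e9292a7045a860d72bd8d4], [nat_lit 173056, nat_lit 168448, nat_lit 165376, nat_lit 160896, nat_lit 159488, nat_lit 153312, nat_lit 148848, nat_lit 145280, nat_lit 140832, nat_lit 136800, nat_lit 131105, nat_lit 664, nat_lit 4488, nat_lit 9928, nat_lit 14144, nat_lit 16960, nat_lit 21504, nat_lit 25216, nat_lit 29184, nat_lit 41736, nat_lit 38368, nat_lit 32960, nat_lit 28754, nat_lit 24582, nat_lit 21003, nat_lit 16514, nat_lit 12805, nat_lit 8200, nat_lit 4129, nat_lit 4]⟩⟩⟩,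
  ⟨[], [], (nat_lit 302), ⟨[nat_lit 39, nat_lit 65], [nat_lit 7, nat_lit 61], ⟨[nat_lit 0x7ad31aa067b8544315d0936d49b002], [nat_lit 168448, nat_lit 167168, nat_lit 159872, nat_lit 156224, nat_lit 153088, nat_lit 147904, nat_lit 145016, nat_lit 140068, nat_lit 135274, nat_lit 132043, nat_lit 4, nat_lit 4408, nat_lit 8448, nat_lit 12480, nat_lit 17216, nat_lit 22400, nat_lit 25088, nat_lit 30208, nat_lit 33280, nat_lit 37888, nat_lit 41897, nat_lit 37320, nat_lit 32832, nat_lit 28733, nat_lit 24867, nat_lit 20547, nat_lit 16525, nat_lit 12422, nat_lit 8194, nat_lit 4101, nat_lit 2]⟩⟩⟩]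
theorem sth176 : Suf thT 2048 (ldrop (lapp thwr32 [1, 0, 1]) 16) (apW dcM pth175) (tgtN dcM pth175.e) := Suf.seg (l := lth176) (by decide +kernel) sth177
def lth175 : List AP := [⟨[nat_lit 286, nat_lit 294, nat_lit 352, nat_lit 290, nat_lit 284], [], (nat_lit 668), ⟨[nat_lit 0, nat_lit 84, nat_lit 51], [nat_lit 32, nat_lit 56], ⟨[nat_lit 0x41269834aea814fb8d8b11c31b4a86], [nat_lit 167168, nat_lit 163456, nat_lit 159552, nat_lit 155328, nat_lit 148336, nat_lit 147296, nat_lit 143248, nat_lit 137204, nat_lit 134920, nat_lit 1516, nat_lit 5604, nat_lit 10064, nat_lit 12640, nat_lit 16544, nat_lit 21504, nat_lit 24704, nat_lit 29184, nat_lit 33280, nat_lit 37888, nat_lit 41286, nat_lit 36993, nat_lit 33865, nat_lit 29206, nat_lit 24613, nat_lit 20483, nat_lit 16518, nat_lit 12547, nat_lit 8201, nat_lit 4128]⟩⟩⟩,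
  ⟨[], [], (nat_lit 1158), ⟨[nat_lit 0, nat_lit 84, nat_lit 51], [nat_lit 76, nat_lit 54], ⟨[nat_lit 0x41269834aea814fb8d8b11c31b4a86], [nat_lit 168448, nat_lit 166912, nat_lit 163456, nat_lit 159488, nat_lit 155360, nat_lit 148336, nat_lit 147304, nat_lit 143252, nat_lit 137206, nat_lit 134920, nat_lit 1516, nat_lit 5604, nat_lit 10064, nat_lit 12640, nat_lit 16544, nat_lit 21504, nat_lit 24704, nat_lit 29184, nat_lit 33280, nat_lit 37888, nat_lit 41286, nat_lit 36993, nat_lit 33865, nat_lit 29206, nat_lit 24613, nat_lit 20483, nat_lit 16518, nat_lit 12547, nat_lit 8201, nat_lit 4128]⟩⟩⟩]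
theorem sth175 : Suf thT 2048 (ldrop (lapp thwr32 [1, 0, 1]) 7) (apW dcM pth174) (tgtN dcM pth174.e) := Suf.seg (l := lth175) (by decide +kernel) sth176
def lth174 : List AP := [⟨[nat_lit 21, nat_lit 25, nat_lit 32, nat_lit 22, nat_lit 30, nat_lit 25], [], (nat_lit 276), ⟨[nat_lit 0, nat_lit 2, nat_lit 92], [nat_lit 78, nat_lit 62], ⟨[nat_lit 0x5c0223506e4c6d551e44281f79a1ac], [nat_lit 173056, nat_lit 168448, nat_lit 161664, nat_lit 157376, nat_lit 155424, nat_lit 148032, nat_lit 144936, nat_lit 140996, nat_lit 136826, nat_lit 132958, nat_lit 210, nat_lit 4380, nat_lit 9112, nat_lit 13488, nat_lit 16768, nat_lit 22016, nat_lit 25344, nat_lit 34304, nat_lit 41719, nat_lit 37144, nat_lit 32944, nat_lit 29000, nat_lit 24708, nat_lit 20560, nat_lit 16455, nat_lit 12310, nat_lit 8201, nat_lit 4097, nat_lit 2]⟩⟩⟩,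
  ⟨[nat_lit 144, nat_lit 143, nat_lit 656, nat_lit 658, nat_lit 149], [], (nat_lit 476), ⟨[nat_lit 0, nat_lit 31, nat_lit 63], [nat_lit 0, nat_lit 9, nat_lit 67], ⟨[nat_lit 0xb826e1b2d1220c70b690155f22a54b], [nat_lit 173056, nat_lit 168960, nat_lit 165888, nat_lit 161280, nat_lit 153760, nat_lit 149952, nat_lit 145616, nat_lit 142652, nat_lit 138426, nat_lit 133082, nat_lit 1224, nat_lit 4952, nat_lit 9752, nat_lit 13552, nat_lit 17728, nat_lit 21248, nat_lit 25728, nat_lit 29184, nat_lit 41405, nat_lit 37055, nat_lit 34035, nat_lit 28758, nat_lit 24728, nat_lit 21005, nat_lit 16428, nat_lit 12294, nat_lit 8202, nat_lit 4105, nat_lit 2]⟩⟩⟩]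
theorem thcr32_3 : Suf thT 2048 (lapp thwr32 [1, 0, 1]) (apW dcM q1) (tgtN dcM q1.e) := Suf.seg (l := lth174) (by decide +kernel) sth175

def pth180 : AP := ⟨[nat_lit 672, nat_lit 289, nat_lit 294], [], (nat_lit 882), ⟨[nat_lit 71, nat_lit 93], [nat_lit 0, nat_lit 3, nat_lit 64], ⟨[nat_lit 0x8b846b81213cc6f635769555041494], [nat_lit 169472, nat_lit 165120, nat_lit 161536, nat_lit 156160, nat_lit 153536, nat_lit 149008, nat_lit 143392, nat_lit 139392, nat_lit 136658, nat_lit 135039, nat_lit 32, nat_lit 4112, nat_lit 9552, nat_lit 13200, nat_lit 16448, nat_lit 21504, nat_lit 25600, nat_lit 29440, nat_lit 33792, nat_lit 41394, nat_lit 37287, nat_lit 32808, nat_lit 29221, nat_lit 24627, nat_lit 20481, nat_lit 16450, nat_lit 12545, nat_lit 8706, nat_lit 4160]⟩⟩⟩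
def pth181 : AP := ⟨[nat_lit 411, nat_lit 418, nat_lit 674, nat_lit 412], [], (nat_lit 888), ⟨[nat_lit 0, nat_lit 73, nat_lit 94], [nat_lit 0, nat_lit 36, nat_lit 91], ⟨[nat_lit 0x3a269640cf1442495cb5a01ab1a9d6], [nat_lit 173056, nat_lit 157760, nat_lit 152448, nat_lit 147472, nat_lit 144024, nat_lit 140812, nat_lit 136256, nat_lit 131134, nat_lit 760, nat_lit 4700, nat_lit 10224, nat_lit 12352, nat_lit 17952, nat_lit 20864, nat_lit 26240, nat_lit 30464, nat_lit 37888, nat_lit 41561, nat_lit 38297, nat_lit 32855, nat_lit 29285, nat_lit 24616, nat_lit 20506, nat_lit 16390, nat_lit 8195, nat_lit 4101]⟩⟩⟩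
def pth182 : AP := ⟨[nat_lit 82, nat_lit 87, nat_lit 76], [], (nat_lit 186), ⟨[nat_lit 82, nat_lit 90], [nat_lit 87, nat_lit 90], ⟨[nat_lit 0x10ccc43d65a92ee05151486d36ca07], [nat_lit 175104, nat_lit 171008, nat_lit 166912, nat_lit 161280, nat_lit 159104, nat_lit 155392, nat_lit 149024, nat_lit 146816, nat_lit 140024, nat_lit 136994, nat_lit 132852, nat_lit 1014, nat_lit 4696, nat_lit 9056, nat_lit 14112, nat_lit 18112, nat_lit 22144, nat_lit 24704, nat_lit 33280, nat_lit 41970, nat_lit 37194, nat_lit 33410, nat_lit 28799, nat_lit 24584, nat_lit 20625, nat_lit 16385, nat_lit 12291, nat_lit 8226, nat_lit 4105]⟩⟩⟩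
def pth183 : AP := ⟨[nat_lit 295, nat_lit 673, nat_lit 673, nat_lit 286, nat_lit 288], [], (nat_lit 656), ⟨[nat_lit 49], [nat_lit 0, nat_lit 86, nat_lit 54], ⟨[nat_lit 0x415e33098b9d0878d9ae82ae9906a0], [nat_lit 168448, nat_lit 164352, nat_lit 160384, nat_lit 155776, nat_lit 153120, nat_lit 148128, nat_lit 143800, nat_lit 142136, nat_lit 136064, nat_lit 132320, nat_lit 4, nat_lit 5856, nat_lit 9952, nat_lit 16608, nat_lit 22208, nat_lit 25984, nat_lit 29696, nat_lit 34304, nat_lit 41747, nat_lit 38249, nat_lit 33987, nat_lit 28725, nat_lit 24638, nat_lit 20492, nat_lit 16460, nat_lit 12320, nat_lit 8194, nat_lit 4097]⟩⟩⟩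
def pth184 : AP := ⟨[nat_lit 355, nat_lit 354], [], (nat_lit 1124), ⟨[nat_lit 86, nat_lit 47], [nat_lit 30, nat_lit 89], ⟨[nat_lit 0x4996f6589550e740b4e295d00845c5], [nat_lit 173056, nat_lit 169984, nat_lit 165120, nat_lit 162944, nat_lit 155776, nat_lit 155424, nat_lit 151072, nat_lit 147224, nat_lit 139600, nat_lit 135864, nat_lit 133125, nat_lit 568, nat_lit 4972, nat_lit 9648, nat_lit 12912, nat_lit 17728, nat_lit 20608, nat_lit 25088, nat_lit 28928, nat_lit 33280, nat_lit 37888, nat_lit 41740, nat_lit 37073, nat_lit 33013, nat_lit 28673, nat_lit 24883, nat_lit 20748, nat_lit 16417, nat_lit 12305, nat_lit 8259, nat_lit 4161]⟩⟩⟩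
def pth185 : AP := ⟨[nat_lit 643, nat_lit 55, nat_lit 73, nat_lit 643, nat_lit 57], [], (nat_lit 1042), ⟨[nat_lit 0, nat_lit 78, nat_lit 58], [nat_lit 0, nat_lit 35, nat_lit 52], ⟨[nat_lit 0x1c268a06a93b63761656701eb3088a], [nat_lit 165120, nat_lit 161024, nat_lit 156096, nat_lit 152544, nat_lit 148512, nat_lit 145096, nat_lit 139764, nat_lit 138218, nat_lit 131275, nat_lit 1808, nat_lit 4112, nat_lit 8208, nat_lit 14272, nat_lit 17408, nat_lit 20864, nat_lit 24960, nat_lit 33280, nat_lit 37888, nat_lit 41219, nat_lit 37361, nat_lit 33418, nat_lit 29259, nat_lit 24596, nat_lit 20616, nat_lit 16392, nat_lit 12306, nat_lit 8194]⟩⟩⟩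
def pth186 : AP := ⟨[], [], (nat_lit 475), ⟨[nat_lit 0, nat_lit 77, nat_lit 66], [nat_lit 0, nat_lit 80, nat_lit 63], ⟨[nat_lit 0xa0622ddd33c2cfa9a2d5240b64894], [nat_lit 175104, nat_lit 168960, nat_lit 164864, nat_lit 160768, nat_lit 158336, nat_lit 155520, nat_lit 150640, nat_lit 143968, nat_lit 142584, nat_lit 136592, nat_lit 133193, nat_lit 1108, nat_lit 4396, nat_lit 8944, nat_lit 13728, nat_lit 17120, nat_lit 25984, nat_lit 30208, nat_lit 34304, nat_lit 37888, nat_lit 41707, nat_lit 37093, nat_lit 32856, nat_lit 28676, nat_lit 24614, nat_lit 20501, nat_lit 16418, nat_lit 12547, nat_lit 8210, nat_lit 4104]⟩⟩⟩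
def pth187 : AP := ⟨[nat_lit 73, nat_lit 53], [], (nat_lit 122), ⟨[nat_lit 0, nat_lit 19, nat_lit 64], [nat_lit 39, nat_lit 91], ⟨[nat_lit 0x586ee999ec689558da8581d0920243], [nat_lit 174080, nat_lit 169472, nat_lit 164352, nat_lit 160640, nat_lit 156800, nat_lit 151776, nat_lit 149408, nat_lit 145000, nat_lit 140640, nat_lit 136010, nat_lit 133038, nat_lit 8, nat_lit 5572, nat_lit 10168, nat_lit 12304, nat_lit 21696, nat_lit 24832, nat_lit 28928, nat_lit 33792, nat_lit 37888, nat_lit 41043, nat_lit 37048, nat_lit 32896, nat_lit 28928, nat_lit 25657, nat_lit 20566, nat_lit 16430, nat_lit 12324, nat_lit 8225, nat_lit 4112, nat_lit 4]⟩⟩⟩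
def lth188 : List AP := [⟨[nat_lit 39, nat_lit 43, nat_lit 36], [], (nat_lit 1032), ⟨[nat_lit 0, nat_lit 78, nat_lit 60], [nat_lit 0, nat_lit 34, nat_lit 47], ⟨[nat_lit 0x48eb37158f546e23b4c402e5680688], [nat_lit 173056, nat_lit 169472, nat_lit 162304, nat_lit 153312, nat_lit 148848, nat_lit 143464, nat_lit 140252, nat_lit 135926, nat_lit 132971, nat_lit 952, nat_lit 4128, nat_lit 8688, nat_lit 14112, nat_lit 16640, nat_lit 20608, nat_lit 24704, nat_lit 37888, nat_lit 41434, nat_lit 37326, nat_lit 32912, nat_lit 24584, nat_lit 20487, nat_lit 16641, nat_lit 12352, nat_lit 8225, nat_lit 4100, nat_lit 16]⟩⟩⟩]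
theorem sth188 : Suf thT 19005990 (ldrop (lapp thwr33 [1, 0, 1]) 69) (apW dcM pth187) (tgtN dcM pth187.e) := Suf.fin' (l := lth188) (by decide +kernel)
def lth187 : List AP := [⟨[nat_lit 148, nat_lit 144, nat_lit 658, nat_lit 150, nat_lit 139], [], (nat_lit 326), ⟨[nat_lit 0, nat_lit 37, nat_lit 69], [nat_lit 80, nat_lit 56], ⟨[nat_lit 0x242563d18f4957772a6008ea643622], [nat_lit 168960, nat_lit 164608, nat_lit 161664, nat_lit 157248, nat_lit 153888, nat_lit 149216, nat_lit 145264, nat_lit 139596, nat_lit 136888, nat_lit 132638, nat_lit 488, nat_lit 5384, nat_lit 8224, nat_lit 13920, nat_lit 18240, nat_lit 21504, nat_lit 25088, nat_lit 29952, nat_lit 33280, nat_lit 37888, nat_lit 41032, nat_lit 37238, nat_lit 33503, nat_lit 28938, nat_lit 25118, nat_lit 20497, nat_lit 16417, nat_lit 12352, nat_lit 8193, nat_lit 4225, nat_lit 4]⟩⟩⟩,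
  ⟨[nat_lit 655, nat_lit 655, nat_lit 142], [], (nat_lit 306), ⟨[nat_lit 0, nat_lit 52], [nat_lit 0, nat_lit 43, nat_lit 47], ⟨[nat_lit 0x1424eb86cc32a3541e744816d20caf], [nat_lit 173056, nat_lit 169472, nat_lit 164352, nat_lit 161536, nat_lit 156992, nat_lit 152320, nat_lit 148336, nat_lit 144848, nat_lit 141272, nat_lit 139098, nat_lit 131862, nat_lit 1668, nat_lit 4224, nat_lit 10168, nat_lit 14192, nat_lit 16512, nat_lit 22336, nat_lit 25856, nat_lit 30208, nat_lit 34304, nat_lit 37888, nat_lit 41935, nat_lit 38088, nat_lit 33509, nat_lit 28776, nat_lit 24748, nat_lit 20510, nat_lit 16395, nat_lit 12305, nat_lit 8224, nat_lit 16]⟩⟩⟩]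
theorem sth187 : Suf thT 19005990 (ldrop (lapp thwr33 [1, 0, 1]) 63) (apW dcM pth186) (tgtN dcM pth186.e) := Suf.seg (l := lth187) (by decide +kernel) sth188
def lth186 : List AP := [⟨[nat_lit 145, nat_lit 148, nat_lit 139, nat_lit 656, nat_lit 140], [], (nat_lit 326), ⟨[nat_lit 0, nat_lit 30, nat_lit 61], [nat_lit 79, nat_lit 90], ⟨[nat_lit 0x9408338128645576ae740daa67b8a2], [nat_lit 164096, nat_lit 160896, nat_lit 157312, nat_lit 152800, nat_lit 149296, nat_lit 145376, nat_lit 140720, nat_lit 136200, nat_lit 134437, nat_lit 4, nat_lit 5732, nat_lit 8408, nat_lit 13152, nat_lit 18336, nat_lit 22336, nat_lit 26112, nat_lit 29696, nat_lit 33792, nat_lit 41272, nat_lit 37119, nat_lit 32893, nat_lit 28702, nat_lit 24864, nat_lit 20501, nat_lit 16397, nat_lit 12304, nat_lit 8200, nat_lit 4225]⟩⟩⟩,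
  ⟨[nat_lit 655, nat_lit 658, nat_lit 150, nat_lit 146, nat_lit 140], [], (nat_lit 474), ⟨[nat_lit 77, nat_lit 66], [nat_lit 13, nat_lit 56], ⟨[nat_lit 0xa0622ddd33c2cfa9a2d5240b64894], [nat_lit 174080, nat_lit 168960, nat_lit 164864, nat_lit 160896, nat_lit 158400, nat_lit 155552, nat_lit 150640, nat_lit 143976, nat_lit 142584, nat_lit 136594, nat_lit 133192, nat_lit 1108, nat_lit 4396, nat_lit 8944, nat_lit 13728, nat_lit 17120, nat_lit 25984, nat_lit 30208, nat_lit 34304, nat_lit 37888, nat_lit 41707, nat_lit 37093, nat_lit 32856, nat_lit 28676, nat_lit 24614, nat_lit 20501, nat_lit 16418, nat_lit 12547, nat_lit 8210, nat_lit 4104]⟩⟩⟩]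
theorem sth186 : Suf thT 19005990 (ldrop (lapp thwr33 [1, 0, 1]) 54) (apW dcM pth185) (tgtN dcM pth185.e) := Suf.seg (l := lth186) (by decide +kernel) sth187
def lth185 : List AP := [⟨[nat_lit 73, nat_lit 49, nat_lit 48], [], (nat_lit 130), ⟨[nat_lit 33, nat_lit 46], [nat_lit 88, nat_lit 68], ⟨[nat_lit 0x3d1e2bb88190d60aa6d329a0a6a22c], [nat_lit 174080, nat_lit 171008, nat_lit 166912, nat_lit 162304, nat_lit 156096, nat_lit 153696, nat_lit 149840, nat_lit 144040, nat_lit 142256, nat_lit 136002, nat_lit 132829, nat_lit 210, nat_lit 4924, nat_lit 9904, nat_lit 14208, nat_lit 16736, nat_lit 21568, nat_lit 25088, nat_lit 30464, nat_lit 33280, nat_lit 41732, nat_lit 38192, nat_lit 33001, nat_lit 28973, nat_lit 24718, nat_lit 20761, nat_lit 16421, nat_lit 12357, nat_lit 4105, nat_lit 8]⟩⟩⟩,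
  ⟨[nat_lit 47], [], (nat_lit 126), ⟨[nat_lit 21, nat_lit 55], [nat_lit 3, nat_lit 52], ⟨[nat_lit 0x1b60f6111595c16a25c7998251456a], [nat_lit 168960, nat_lit 164096, nat_lit 157504, nat_lit 152352, nat_lit 149744, nat_lit 143384, nat_lit 140700, nat_lit 136716, nat_lit 132279, nat_lit 1794, nat_lit 5064, nat_lit 8704, nat_lit 13664, nat_lit 16512, nat_lit 21440, nat_lit 26368, nat_lit 29184, nat_lit 34304, nat_lit 41616, nat_lit 38144, nat_lit 32813, nat_lit 28794, nat_lit 24715, nat_lit 20553, nat_lit 12324, nat_lit 8200]⟩⟩⟩]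
theorem sth185 : Suf thT 19005990 (ldrop (lapp thwr33 [1, 0, 1]) 44) (apW dcM pth184) (tgtN dcM pth184.e) := Suf.seg (l := lth185) (by decide +kernel) sth186
def lth184 : List AP := [⟨[], [], (nat_lit 657), ⟨[nat_lit 0, nat_lit 49], [nat_lit 86, nat_lit 58], ⟨[nat_lit 0x415e33098b9d0878d9ae82ae9906a0], [nat_lit 168448, nat_lit 164352, nat_lit 160384, nat_lit 155776, nat_lit 153120, nat_lit 148128, nat_lit 143800, nat_lit 142136, nat_lit 136064, nat_lit 132321, nat_lit 4, nat_lit 5856, nat_lit 9952, nat_lit 16608, nat_lit 22208, nat_lit 25984, nat_lit 29696, nat_lit 34304, nat_lit 41747, nat_lit 38249, nat_lit 33987, nat_lit 28725, nat_lit 24638, nat_lit 20492, nat_lit 16460, nat_lit 12320, nat_lit 8194, nat_lit 4097]⟩⟩⟩,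
  ⟨[nat_lit 356, nat_lit 352, nat_lit 285], [], (nat_lit 808), ⟨[nat_lit 0, nat_lit 6, nat_lit 56], [nat_lit 0, nat_lit 42, nat_lit 65], ⟨[nat_lit 0xb546563406490480c6677c174bb952], [nat_lit 168960, nat_lit 166400, nat_lit 162048, nat_lit 157888, nat_lit 154624, nat_lit 147952, nat_lit 145424, nat_lit 142840, nat_lit 137174, nat_lit 135144, nat_lit 492, nat_lit 5884, nat_lit 10160, nat_lit 13712, nat_lit 17056, nat_lit 20608, nat_lit 26496, nat_lit 41921, nat_lit 38285, nat_lit 32814, nat_lit 28727, nat_lit 25101, nat_lit 20630, nat_lit 16518, nat_lit 8193]⟩⟩⟩]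
theorem sth184 : Suf thT 19005990 (ldrop (lapp thwr33 [1, 0, 1]) 35) (apW dcM pth183) (tgtN dcM pth183.e) := Suf.seg (l := lth184) (by decide +kernel) sth185
def lth183 : List AP := [⟨[nat_lit 73, nat_lit 70, nat_lit 73, nat_lit 55, nat_lit 71], [], (nat_lit 566), ⟨[nat_lit 3], [nat_lit 0, nat_lit 7, nat_lit 56], ⟨[nat_lit 0x4357503c565166361cd749241845d4], [nat_lit 174080, nat_lit 170496, nat_lit 166144, nat_lit 161152, nat_lit 158784, nat_lit 154944, nat_lit 147552, nat_lit 146760, nat_lit 141248, nat_lit 135352, nat_lit 131791, nat_lit 1730, nat_lit 6068, nat_lit 9648, nat_lit 14112, nat_lit 17216, nat_lit 20544, nat_lit 25088, nat_lit 30208, nat_lit 34304, nat_lit 41240, nat_lit 37116, nat_lit 32843, nat_lit 29236, nat_lit 24599, nat_lit 20489, nat_lit 16457, nat_lit 8210, nat_lit 4112, nat_lit 32]⟩⟩⟩,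
  ⟨[nat_lit 672, nat_lit 354, nat_lit 355], [], (nat_lit 808), ⟨[nat_lit 0, nat_lit 72, nat_lit 57], [nat_lit 0, nat_lit 72, nat_lit 89], ⟨[nat_lit 0x830a49a96f41c578bab630d34905a0], [nat_lit 175104, nat_lit 171008, nat_lit 165888, nat_lit 161664, nat_lit 156608, nat_lit 153088, nat_lit 150832, nat_lit 145088, nat_lit 139364, nat_lit 137676, nat_lit 133860, nat_lit 2, nat_lit 5884, nat_lit 8680, nat_lit 14176, nat_lit 18208, nat_lit 22272, nat_lit 25600, nat_lit 30208, nat_lit 34304, nat_lit 41305, nat_lit 37279, nat_lit 33022, nat_lit 28981, nat_lit 24754, nat_lit 20568, nat_lit 16385, nat_lit 12352, nat_lit 8195, nat_lit 4]⟩⟩⟩]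
theorem sth183 : Suf thT 19005990 (ldrop (lapp thwr33 [1, 0, 1]) 29) (apW dcM pth182) (tgtN dcM pth182.e) := Suf.seg (l := lth183) (by decide +kernel) sth184
def lth182 : List AP := [⟨[nat_lit 356, nat_lit 672], [], (nat_lit 1218), ⟨[nat_lit 76, nat_lit 56], [nat_lit 0, nat_lit 41, nat_lit 63], ⟨[nat_lit 0x788ce441b75a8049512c98cf12d6c1], [nat_lit 173056, nat_lit 164864, nat_lit 161152, nat_lit 157952, nat_lit 152416, nat_lit 147488, nat_lit 145056, nat_lit 140736, nat_lit 135814, nat_lit 132408, nat_lit 698, nat_lit 4160, nat_lit 9192, nat_lit 13520, nat_lit 17152, nat_lit 21952, nat_lit 24704, nat_lit 29184, nat_lit 41368, nat_lit 37295, nat_lit 32854, nat_lit 28765, nat_lit 24615, nat_lit 20555, nat_lit 16525, nat_lit 12324, nat_lit 8225, nat_lit 4097, nat_lit 2]⟩⟩⟩,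
  ⟨[nat_lit 100], [], (nat_lit 192), ⟨[nat_lit 0, nat_lit 7, nat_lit 54], [nat_lit 10, nat_lit 48], ⟨[nat_lit 0x5e65a0a2709a5620eb0539696bd88], [nat_lit 168448, nat_lit 165632, nat_lit 160128, nat_lit 156544, nat_lit 152512, nat_lit 149248, nat_lit 144704, nat_lit 142368, nat_lit 136344, nat_lit 132593, nat_lit 236, nat_lit 4408, nat_lit 10088, nat_lit 13920, nat_lit 17024, nat_lit 21376, nat_lit 24960, nat_lit 28928, nat_lit 41904, nat_lit 37132, nat_lit 32972, nat_lit 28782, nat_lit 24713, nat_lit 20555, nat_lit 16394, nat_lit 12293, nat_lit 8]⟩⟩⟩]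
theorem sth182 : Suf thT 19005990 (ldrop (lapp thwr33 [1, 0, 1]) 17) (apW dcM pth181) (tgtN dcM pth181.e) := Suf.seg (l := lth182) (by decide +kernel) sth183
def lth181 : List AP := [⟨[nat_lit 410, nat_lit 468, nat_lit 675, nat_lit 463, nat_lit 412], [], (nat_lit 908), ⟨[nat_lit 10, nat_lit 47], [nat_lit 0, nat_lit 1, nat_lit 92], ⟨[nat_lit 0x8826173c858486255a89bd50b3b4cc], [nat_lit 175104, nat_lit 171520, nat_lit 167424, nat_lit 161280, nat_lit 158592, nat_lit 154112, nat_lit 147696, nat_lit 147320, nat_lit 139868, nat_lit 136194, nat_lit 131675, nat_lit 210, nat_lit 5436, nat_lit 8264, nat_lit 13152, nat_lit 16544, nat_lit 22208, nat_lit 25856, nat_lit 28928, nat_lit 33792, nat_lit 41881, nat_lit 37240, nat_lit 33010, nat_lit 29050, nat_lit 24890, nat_lit 20748, nat_lit 16424, nat_lit 12293, nat_lit 8202, nat_lit 4101, nat_lit 4]⟩⟩⟩,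
  ⟨[], [], (nat_lit 909), ⟨[nat_lit 0, nat_lit 10, nat_lit 47], [nat_lit 11, nat_lit 94], ⟨[nat_lit 0x8826173c858486255a89bd50b3b4cc], [nat_lit 175104, nat_lit 171520, nat_lit 167680, nat_lit 161408, nat_lit 158656, nat_lit 154112, nat_lit 147680, nat_lit 147312, nat_lit 139868, nat_lit 136194, nat_lit 131675, nat_lit 210, nat_lit 5436, nat_lit 8264, nat_lit 13152, nat_lit 16544, nat_lit 22208, nat_lit 25856, nat_lit 28928, nat_lit 33792, nat_lit 41881, nat_lit 37240, nat_lit 33010, nat_lit 29050, nat_lit 24890, nat_lit 20748, nat_lit 16424, nat_lit 12293, nat_lit 8202, nat_lit 4101, nat_lit 4]⟩⟩⟩]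
theorem sth181 : Suf thT 19005990 (ldrop (lapp thwr33 [1, 0, 1]) 8) (apW dcM pth180) (tgtN dcM pth180.e) := Suf.seg (l := lth181) (by decide +kernel) sth182
def lth180 : List AP := [⟨[nat_lit 16, nat_lit 16, nat_lit 16, nat_lit 17, nat_lit 43, nat_lit 16], [], (nat_lit 150), ⟨[nat_lit 26, nat_lit 52], [nat_lit 0, nat_lit 37, nat_lit 51], ⟨[nat_lit 0x9a5e1829c2596c8346551dce06b284], [nat_lit 174080, nat_lit 169984, nat_lit 167424, nat_lit 160128, nat_lit 157440, nat_lit 152960, nat_lit 150784, nat_lit 144056, nat_lit 140104, nat_lit 138488, nat_lit 135064, nat_lit 1794, nat_lit 4380, nat_lit 9784, nat_lit 12736, nat_lit 16416, nat_lit 20672, nat_lit 26240, nat_lit 29952, nat_lit 34304, nat_lit 41626, nat_lit 37309, nat_lit 32848, nat_lit 28692, nat_lit 24893, nat_lit 20570, nat_lit 16390, nat_lit 12359, nat_lit 8209, nat_lit 4100]⟩⟩⟩,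
  ⟨[nat_lit 84, nat_lit 644, nat_lit 102, nat_lit 77, nat_lit 76], [], (nat_lit 718), ⟨[nat_lit 0, nat_lit 43, nat_lit 54], [nat_lit 0, nat_lit 18, nat_lit 90], ⟨[nat_lit 0xab28e32d45984519406042487bb5f6], [nat_lit 171520, nat_lit 167168, nat_lit 163584, nat_lit 159680, nat_lit 151904, nat_lit 150080, nat_lit 146664, nat_lit 140288, nat_lit 137936, nat_lit 133073, nat_lit 354, nat_lit 5296, nat_lit 9040, nat_lit 13712, nat_lit 18368, nat_lit 21568, nat_lit 24960, nat_lit 30208, nat_lit 33280, nat_lit 41244, nat_lit 37003, nat_lit 34037, nat_lit 28714, nat_lit 24634, nat_lit 20548, nat_lit 16425, nat_lit 12293, nat_lit 8193]⟩⟩⟩]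
theorem thcr33_0 : Suf thT 19005990 (lapp thwr33 [1, 0, 1]) (apW dcM q0) (tgtN dcM q0.e) := Suf.seg (l := lth180) (by decide +kernel) sth181

def pth189 : AP := ⟨[nat_lit 284, nat_lit 669, nat_lit 291], [], (nat_lit 644), ⟨[nat_lit 17, nat_lit 54], [nat_lit 0, nat_lit 1, nat_lit 66], ⟨[nat_lit 0x24c56814347b90c4a96d302b13cae3], [nat_lit 168448, nat_lit 162688, nat_lit 156160, nat_lit 153088, nat_lit 147568, nat_lit 143704, nat_lit 139924, nat_lit 135826, nat_lit 132462, nat_lit 1148, nat_lit 4328, nat_lit 9920, nat_lit 12416, nat_lit 18080, nat_lit 29184, nat_lit 40989, nat_lit 37098, nat_lit 32945, nat_lit 28695, nat_lit 25098, nat_lit 20549, nat_lit 16519, nat_lit 12291, nat_lit 8225, nat_lit 4104, nat_lit 2]⟩⟩⟩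
def pth190 : AP := ⟨[nat_lit 150, nat_lit 144, nat_lit 654, nat_lit 147, nat_lit 139], [], (nat_lit 1066), ⟨[nat_lit 81], [nat_lit 0, nat_lit 5, nat_lit 70], ⟨[nat_lit 0x701560bd17396269c244626a268e8b], [nat_lit 174080, nat_lit 169984, nat_lit 165888, nat_lit 160768, nat_lit 158592, nat_lit 154240, nat_lit 149040, nat_lit 145856, nat_lit 139360, nat_lit 136668, nat_lit 132079, nat_lit 566, nat_lit 5112, nat_lit 8200, nat_lit 14144, nat_lit 17248, nat_lit 22336, nat_lit 26240, nat_lit 29440, nat_lit 33792, nat_lit 37888, nat_lit 41534, nat_lit 37352, nat_lit 33328, nat_lit 28941, nat_lit 24627, nat_lit 20503, nat_lit 16419, nat_lit 12291, nat_lit 8208, nat_lit 4105, nat_lit 8]⟩⟩⟩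
def pth191 : AP := ⟨[nat_lit 642, nat_lit 55, nat_lit 68, nat_lit 48], [], (nat_lit 178), ⟨[nat_lit 41, nat_lit 49], [nat_lit 45, nat_lit 68], ⟨[nat_lit 0x4592c78c14908eb09150bb8a6ace2d], [nat_lit 168960, nat_lit 164352, nat_lit 160896, nat_lit 157120, nat_lit 152960, nat_lit 147488, nat_lit 145480, nat_lit 139456, nat_lit 136686, nat_lit 132895, nat_lit 484, nat_lit 4520, nat_lit 9384, nat_lit 12800, nat_lit 16928, nat_lit 21504, nat_lit 25600, nat_lit 29184, nat_lit 34304, nat_lit 37888, nat_lit 41780, nat_lit 37189, nat_lit 33293, nat_lit 28680, nat_lit 24864, nat_lit 20574, nat_lit 16430, nat_lit 12295, nat_lit 8200, nat_lit 4101]⟩⟩⟩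
def pth192 : AP := ⟨[nat_lit 229, nat_lit 665, nat_lit 260, nat_lit 226], [], (nat_lit 640), ⟨[nat_lit 74, nat_lit 68], [nat_lit 81, nat_lit 51], ⟨[nat_lit 0x580c3412b4730e97c6c1136f32c950], [nat_lit 173056, nat_lit 169472, nat_lit 164864, nat_lit 161408, nat_lit 156800, nat_lit 153056, nat_lit 150592, nat_lit 143616, nat_lit 139684, nat_lit 136370, nat_lit 131728, nat_lit 1874, nat_lit 4964, nat_lit 9496, nat_lit 12416, nat_lit 20608, nat_lit 24704, nat_lit 34304, nat_lit 37888, nat_lit 41931, nat_lit 37153, nat_lit 33487, nat_lit 28755, nat_lit 24739, nat_lit 20552, nat_lit 16389, nat_lit 12320, nat_lit 8209, nat_lit 4224, nat_lit 2]⟩⟩⟩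
def pth193 : AP := ⟨[nat_lit 293, nat_lit 670, nat_lit 284], [], (nat_lit 1218), ⟨[nat_lit 0, nat_lit 74, nat_lit 49], [nat_lit 5, nat_lit 61], ⟨[nat_lit 0x2b5355b8f61ca3055d84100337d0c8], [nat_lit 174080, nat_lit 170496, nat_lit 167168, nat_lit 163456, nat_lit 157632, nat_lit 154784, nat_lit 150368, nat_lit 144168, nat_lit 143064, nat_lit 135246, nat_lit 131885, nat_lit 846, nat_lit 5620, nat_lit 10128, nat_lit 14144, nat_lit 17504, nat_lit 20736, nat_lit 26368, nat_lit 30208, nat_lit 33280, nat_lit 37888, nat_lit 41663, nat_lit 37269, nat_lit 32852, nat_lit 29271, nat_lit 24741, nat_lit 20505, nat_lit 16428, nat_lit 12292, nat_lit 4161, nat_lit 16]⟩⟩⟩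
def pth194 : AP := ⟨[nat_lit 103, nat_lit 103, nat_lit 101, nat_lit 648, nat_lit 76], [], (nat_lit 534), ⟨[nat_lit 0, nat_lit 73, nat_lit 52], [nat_lit 0, nat_lit 43, nat_lit 48], ⟨[nat_lit 0x940c35940aad881bba6961da2a45e8], [nat_lit 162816, nat_lit 157568, nat_lit 151680, nat_lit 147600, nat_lit 144368, nat_lit 140068, nat_lit 135266, nat_lit 132549, nat_lit 1554, nat_lit 4244, nat_lit 8704, nat_lit 12320, nat_lit 18240, nat_lit 20608, nat_lit 26112, nat_lit 28928, nat_lit 33280, nat_lit 37888, nat_lit 41901, nat_lit 38314, nat_lit 32914, nat_lit 28747, nat_lit 24714, nat_lit 20488, nat_lit 16646, nat_lit 12320, nat_lit 8208, nat_lit 4225, nat_lit 64]⟩⟩⟩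
def pth195 : AP := ⟨[], [], (nat_lit 631), ⟨[nat_lit 0, nat_lit 9, nat_lit 50], [nat_lit 0, nat_lit 83, nat_lit 53], ⟨[nat_lit 0x9a851735003b2d009965a11f2aa477], [nat_lit 166656, nat_lit 162560, nat_lit 158912, nat_lit 153760, nat_lit 147808, nat_lit 146400, nat_lit 142100, nat_lit 136556, nat_lit 133586, nat_lit 1148, nat_lit 5580, nat_lit 9328, nat_lit 14160, nat_lit 17792, nat_lit 22400, nat_lit 25216, nat_lit 29184, nat_lit 33280, nat_lit 41345, nat_lit 37137, nat_lit 33408, nat_lit 28984, nat_lit 24588, nat_lit 20632, nat_lit 16385, nat_lit 12358, nat_lit 8259, nat_lit 4100, nat_lit 2]⟩⟩⟩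
def pth196 : AP := ⟨[nat_lit 80], [], (nat_lit 196), ⟨[nat_lit 0, nat_lit 77, nat_lit 61], [nat_lit 7, nat_lit 61], ⟨[nat_lit 0x6da908846cb9d6253e68918ae05489], [nat_lit 173056, nat_lit 168960, nat_lit 164608, nat_lit 160896, nat_lit 157184, nat_lit 153152, nat_lit 149072, nat_lit 143376, nat_lit 140640, nat_lit 138068, nat_lit 131551, nat_lit 804, nat_lit 4112, nat_lit 9664, nat_lit 12800, nat_lit 16928, nat_lit 21056, nat_lit 25728, nat_lit 28928, nat_lit 33280, nat_lit 37888, nat_lit 41970, nat_lit 37896, nat_lit 33288, nat_lit 28928, nat_lit 24604, nat_lit 20498, nat_lit 16420, nat_lit 12355, nat_lit 8193, nat_lit 4]⟩⟩⟩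
def lth197 : List AP := [⟨[nat_lit 38, nat_lit 43], [], (nat_lit 1032), ⟨[nat_lit 79, nat_lit 50], [nat_lit 0, nat_lit 72, nat_lit 46], ⟨[nat_lit 0xb104ca26373d5a180d60328b244dcf], [nat_lit 175104, nat_lit 166656, nat_lit 163584, nat_lit 159680, nat_lit 153568, nat_lit 148976, nat_lit 144368, nat_lit 141472, nat_lit 137752, nat_lit 132841, nat_lit 1318, nat_lit 4720, nat_lit 8408, nat_lit 13920, nat_lit 17280, nat_lit 21248, nat_lit 25216, nat_lit 28928, nat_lit 41091, nat_lit 37134, nat_lit 32865, nat_lit 28686, nat_lit 24844, nat_lit 20565, nat_lit 16422, nat_lit 12294, nat_lit 8195, nat_lit 4]⟩⟩⟩]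
theorem sth197 : Suf thT 19005990 (ldrop (lapp thwr33 [2, 0, 1]) 69) (apW dcM pth196) (tgtN dcM pth196.e) := Suf.fin' (l := lth197) (by decide +kernel)
def lth196 : List AP := [⟨[nat_lit 225, nat_lit 265, nat_lit 263, nat_lit 230], [], (nat_lit 554), ⟨[nat_lit 34, nat_lit 51], [nat_lit 0, nat_lit 23, nat_lit 49], ⟨[nat_lit 0x43eb674249009abbcc663b0aa89281], [nat_lit 173056, nat_lit 168960, nat_lit 164096, nat_lit 160384, nat_lit 158464, nat_lit 151744, nat_lit 149312, nat_lit 144840, nat_lit 140028, nat_lit 135274, nat_lit 132566, nat_lit 1808, nat_lit 4128, nat_lit 9712, nat_lit 14240, nat_lit 16416, nat_lit 20992, nat_lit 25088, nat_lit 29184, nat_lit 33792, nat_lit 41742, nat_lit 36928, nat_lit 33870, nat_lit 28736, nat_lit 24630, nat_lit 20575, nat_lit 16453, nat_lit 12321, nat_lit 8258, nat_lit 4113, nat_lit 16]⟩⟩⟩,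
  ⟨[nat_lit 230, nat_lit 223], [], (nat_lit 1120), ⟨[nat_lit 75, nat_lit 55], [nat_lit 0, nat_lit 22, nat_lit 63], ⟨[nat_lit 0x1acb281940bc66fa9c8c4ba886d822], [nat_lit 175104, nat_lit 168960, nat_lit 165120, nat_lit 160512, nat_lit 155712, nat_lit 152448, nat_lit 147824, nat_lit 144424, nat_lit 140804, nat_lit 135438, nat_lit 131212, nat_lit 700, nat_lit 5120, nat_lit 9216, nat_lit 13792, nat_lit 16960, nat_lit 24832, nat_lit 30208, nat_lit 37888, nat_lit 41716, nat_lit 38331, nat_lit 33489, nat_lit 28990, nat_lit 25106, nat_lit 20608, nat_lit 16461, nat_lit 12356, nat_lit 8193, nat_lit 4]⟩⟩⟩]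
theorem sth196 : Suf thT 19005990 (ldrop (lapp thwr33 [2, 0, 1]) 63) (apW dcM pth195) (tgtN dcM pth195.e) := Suf.seg (l := lth196) (by decide +kernel) sth197
def lth195 : List AP := [⟨[nat_lit 262, nat_lit 223, nat_lit 228], [], (nat_lit 554), ⟨[nat_lit 27, nat_lit 56], [nat_lit 0, nat_lit 34, nat_lit 61], ⟨[nat_lit 0x2bed505e29708268506b3b10a9126d], [nat_lit 175104, nat_lit 165376, nat_lit 161280, nat_lit 158080, nat_lit 154208, nat_lit 151328, nat_lit 144568, nat_lit 142804, nat_lit 137030, nat_lit 134438, nat_lit 508, nat_lit 5688, nat_lit 8384, nat_lit 13696, nat_lit 20928, nat_lit 26368, nat_lit 28928, nat_lit 33792, nat_lit 41423, nat_lit 36873, nat_lit 34020, nat_lit 29766, nat_lit 24631, nat_lit 20494, nat_lit 16398, nat_lit 12289, nat_lit 8211, nat_lit 4]⟩⟩⟩,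
  ⟨[nat_lit 262, nat_lit 222, nat_lit 233, nat_lit 668], [], (nat_lit 630), ⟨[nat_lit 9, nat_lit 50], [nat_lit 86, nat_lit 56], ⟨[nat_lit 0x9a851735003b2d009965a11f2aa477], [nat_lit 173056, nat_lit 166656, nat_lit 162560, nat_lit 158848, nat_lit 153760, nat_lit 147824, nat_lit 146400, nat_lit 142100, nat_lit 136558, nat_lit 133587, nat_lit 1148, nat_lit 5580, nat_lit 9328, nat_lit 14160, nat_lit 17792, nat_lit 22400, nat_lit 25216, nat_lit 29184, nat_lit 33280, nat_lit 41345, nat_lit 37137, nat_lit 33408, nat_lit 28984, nat_lit 24588, nat_lit 20632, nat_lit 16385, nat_lit 12358, nat_lit 8259, nat_lit 4100, nat_lit 2]⟩⟩⟩]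
theorem sth195 : Suf thT 19005990 (ldrop (lapp thwr33 [2, 0, 1]) 54) (apW dcM pth194) (tgtN dcM pth194.e) := Suf.seg (l := lth195) (by decide +kernel) sth196
def lth194 : List AP := [⟨[nat_lit 648, nat_lit 101, nat_lit 101], [], (nat_lit 194), ⟨[nat_lit 0, nat_lit 38, nat_lit 89], [nat_lit 0, nat_lit 78, nat_lit 90], ⟨[nat_lit 0x4aac769994956245c1e07226328837], [nat_lit 175104, nat_lit 164864, nat_lit 160000, nat_lit 155712, nat_lit 151584, nat_lit 148784, nat_lit 143680, nat_lit 141176, nat_lit 135502, nat_lit 131502, nat_lit 116, nat_lit 5120, nat_lit 9216, nat_lit 12416, nat_lit 17952, nat_lit 21568, nat_lit 29696, nat_lit 37888, nat_lit 41216, nat_lit 37278, nat_lit 33483, nat_lit 28699, nat_lit 24608, nat_lit 20491, nat_lit 16515, nat_lit 12304]⟩⟩⟩,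
  ⟨[], [], (nat_lit 193), ⟨[nat_lit 13, nat_lit 93], [nat_lit 0, nat_lit 8, nat_lit 67], ⟨[nat_lit 0x924a01b05759e219c1f46a156710d5], [nat_lit 169472, nat_lit 165888, nat_lit 160768, nat_lit 155904, nat_lit 154752, nat_lit 151104, nat_lit 147400, nat_lit 142028, nat_lit 138184, nat_lit 132477, nat_lit 2012, nat_lit 5436, nat_lit 10144, nat_lit 12384, nat_lit 17088, nat_lit 21952, nat_lit 26496, nat_lit 34304, nat_lit 37888, nat_lit 41730, nat_lit 37350, nat_lit 33412, nat_lit 29207, nat_lit 24587, nat_lit 20622, nat_lit 16424, nat_lit 12321, nat_lit 8200]⟩⟩⟩]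
theorem sth194 : Suf thT 19005990 (ldrop (lapp thwr33 [2, 0, 1]) 44) (apW dcM pth193) (tgtN dcM pth193.e) := Suf.seg (l := lth194) (by decide +kernel) sth195
def lth193 : List AP := [⟨[], [], (nat_lit 641), ⟨[nat_lit 0, nat_lit 74, nat_lit 68], [nat_lit 0, nat_lit 32, nat_lit 92], ⟨[nat_lit 0x580c3412b4730e97c6c1136f32c950], [nat_lit 168960, nat_lit 165120, nat_lit 161408, nat_lit 156800, nat_lit 153056, nat_lit 150608, nat_lit 143624, nat_lit 139684, nat_lit 136368, nat_lit 131728, nat_lit 1874, nat_lit 4964, nat_lit 9496, nat_lit 12416, nat_lit 20608, nat_lit 24704, nat_lit 34304, nat_lit 37888, nat_lit 41931, nat_lit 37153, nat_lit 33487, nat_lit 28755, nat_lit 24739, nat_lit 20552, nat_lit 16389, nat_lit 12320, nat_lit 8209, nat_lit 4224, nat_lit 2]⟩⟩⟩,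
  ⟨[nat_lit 667, nat_lit 265, nat_lit 260, nat_lit 260, nat_lit 222], [], (nat_lit 638), ⟨[nat_lit 0, nat_lit 38, nat_lit 65], [nat_lit 30, nat_lit 92], ⟨[nat_lit 0x74880b2a1318577354a9a35e8644e2], [nat_lit 175104, nat_lit 170496, nat_lit 167680, nat_lit 161664, nat_lit 156160, nat_lit 151904, nat_lit 150992, nat_lit 144504, nat_lit 140524, nat_lit 137972, nat_lit 134441, nat_lit 1814, nat_lit 4788, nat_lit 8704, nat_lit 12672, nat_lit 17856, nat_lit 22400, nat_lit 30208, nat_lit 34304, nat_lit 41418, nat_lit 36933, nat_lit 32823, nat_lit 29735, nat_lit 24753, nat_lit 20486, nat_lit 16457, nat_lit 12295, nat_lit 8193, nat_lit 4105]⟩⟩⟩]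
theorem sth193 : Suf thT 19005990 (ldrop (lapp thwr33 [2, 0, 1]) 35) (apW dcM pth192) (tgtN dcM pth192.e) := Suf.seg (l := lth193) (by decide +kernel) sth194
def lth192 : List AP := [⟨[nat_lit 80, nat_lit 82, nat_lit 648, nat_lit 105, nat_lit 79], [], (nat_lit 718), ⟨[nat_lit 32, nat_lit 68], [nat_lit 83, nat_lit 63], ⟨[nat_lit 0xba13531230181cd996476082fa2976], [nat_lit 173056, nat_lit 164608, nat_lit 157056, nat_lit 152512, nat_lit 151264, nat_lit 144176, nat_lit 139792, nat_lit 136746, nat_lit 132491, nat_lit 680, nat_lit 5064, nat_lit 9096, nat_lit 14144, nat_lit 16416, nat_lit 22400, nat_lit 26496, nat_lit 30208, nat_lit 33792, nat_lit 37888, nat_lit 41724, nat_lit 37296, nat_lit 33495, nat_lit 29194, nat_lit 24624, nat_lit 20499, nat_lit 16392, nat_lit 12304, nat_lit 8448]⟩⟩⟩,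
  ⟨[nat_lit 352, nat_lit 671, nat_lit 354, nat_lit 670, nat_lit 284], [], (nat_lit 1152), ⟨[nat_lit 38, nat_lit 65], [nat_lit 0, nat_lit 19, nat_lit 54], ⟨[nat_lit 0x74880b2a1318577354a9a35e8644e2], [nat_lit 174080, nat_lit 169984, nat_lit 167424, nat_lit 161536, nat_lit 156224, nat_lit 151872, nat_lit 150992, nat_lit 144504, nat_lit 140520, nat_lit 137972, nat_lit 134440, nat_lit 1814, nat_lit 4788, nat_lit 8704, nat_lit 12672, nat_lit 17856, nat_lit 22400, nat_lit 30208, nat_lit 34304, nat_lit 41418, nat_lit 36933, nat_lit 32823, nat_lit 29735, nat_lit 24753, nat_lit 20486, nat_lit 16457, nat_lit 12295, nat_lit 8193, nat_lit 4105]⟩⟩⟩]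
theorem sth192 : Suf thT 19005990 (ldrop (lapp thwr33 [2, 0, 1]) 29) (apW dcM pth191) (tgtN dcM pth191.e) := Suf.seg (l := lth192) (by decide +kernel) sth193
def lth191 : List AP := [⟨[nat_lit 669, nat_lit 285, nat_lit 284], [], (nat_lit 1222), ⟨[nat_lit 0, nat_lit 71, nat_lit 68], [nat_lit 0, nat_lit 2, nat_lit 57], ⟨[nat_lit 0xbd9b35c90e2d069612068bc22500f5], [nat_lit 173056, nat_lit 169472, nat_lit 164096, nat_lit 161152, nat_lit 157184, nat_lit 152448, nat_lit 148496, nat_lit 143648, nat_lit 140896, nat_lit 137018, nat_lit 131696, nat_lit 1762, nat_lit 5276, nat_lit 8824, nat_lit 13184, nat_lit 16864, nat_lit 22272, nat_lit 26112, nat_lit 30464, nat_lit 33792, nat_lit 37888, nat_lit 41704, nat_lit 38376, nat_lit 33280, nat_lit 28774, nat_lit 24588, nat_lit 20501, nat_lit 16396, nat_lit 12309, nat_lit 8195, nat_lit 4100]⟩⟩⟩,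
  ⟨[nat_lit 67], [], (nat_lit 126), ⟨[nat_lit 0, nat_lit 45, nat_lit 92], [nat_lit 29, nat_lit 52], ⟨[nat_lit 0x9096d42a86286c3a9e334820e25dec], [nat_lit 175104, nat_lit 169984, nat_lit 167424, nat_lit 156608, nat_lit 153056, nat_lit 150912, nat_lit 144128, nat_lit 139696, nat_lit 138310, nat_lit 135080, nat_lit 1580, nat_lit 5716, nat_lit 9704, nat_lit 14192, nat_lit 17696, nat_lit 21184, nat_lit 25472, nat_lit 30464, nat_lit 34304, nat_lit 41022, nat_lit 37147, nat_lit 33423, nat_lit 28731, nat_lit 24635, nat_lit 20506, nat_lit 16391, nat_lit 12291, nat_lit 8209, nat_lit 4097]⟩⟩⟩]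
theorem sth191 : Suf thT 19005990 (ldrop (lapp thwr33 [2, 0, 1]) 17) (apW dcM pth190) (tgtN dcM pth190.e) := Suf.seg (l := lth191) (by decide +kernel) sth192
def lth190 : List AP := [⟨[nat_lit 146, nat_lit 142, nat_lit 141, nat_lit 144, nat_lit 141], [], (nat_lit 326), ⟨[nat_lit 72, nat_lit 50], [nat_lit 24, nat_lit 47], ⟨[nat_lit 0x3cc4b610d4702c12c06955de86cab1], [nat_lit 173056, nat_lit 168960, nat_lit 164096, nat_lit 161152, nat_lit 156352, nat_lit 152128, nat_lit 151296, nat_lit 144936, nat_lit 139580, nat_lit 135456, nat_lit 131242, nat_lit 1250, nat_lit 5900, nat_lit 9424, nat_lit 13664, nat_lit 16640, nat_lit 25472, nat_lit 29952, nat_lit 33280, nat_lit 37888, nat_lit 41835, nat_lit 37136, nat_lit 32954, nat_lit 28962, nat_lit 25627, nat_lit 20550, nat_lit 12419, nat_lit 8226, nat_lit 4104, nat_lit 2]⟩⟩⟩,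
  ⟨[], [], (nat_lit 327), ⟨[nat_lit 0, nat_lit 72, nat_lit 50], [nat_lit 16, nat_lit 89], ⟨[nat_lit 0x3cc4b610d4702c12c06955de86cab1], [nat_lit 169472, nat_lit 161152, nat_lit 156288, nat_lit 152160, nat_lit 151296, nat_lit 144928, nat_lit 139576, nat_lit 135456, nat_lit 131243, nat_lit 1250, nat_lit 5900, nat_lit 9424, nat_lit 13664, nat_lit 16640, nat_lit 25472, nat_lit 29952, nat_lit 33280, nat_lit 37888, nat_lit 41835, nat_lit 37136, nat_lit 32954, nat_lit 28962, nat_lit 25627, nat_lit 20550, nat_lit 12419, nat_lit 8226, nat_lit 4104, nat_lit 2]⟩⟩⟩]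
theorem sth190 : Suf thT 19005990 (ldrop (lapp thwr33 [2, 0, 1]) 8) (apW dcM pth189) (tgtN dcM pth189.e) := Suf.seg (l := lth190) (by decide +kernel) sth191
def lth189 : List AP := [⟨[nat_lit 38, nat_lit 630, nat_lit 41, nat_lit 41, nat_lit 37], [], (nat_lit 90), ⟨[nat_lit 0, nat_lit 30, nat_lit 54], [nat_lit 0, nat_lit 30, nat_lit 94], ⟨[nat_lit 0xa8e6a099c06aca84c4573ca0f65096], [nat_lit 175104, nat_lit 168960, nat_lit 165120, nat_lit 160768, nat_lit 157568, nat_lit 153536, nat_lit 149280, nat_lit 144440, nat_lit 141024, nat_lit 136310, nat_lit 131474, nat_lit 1720, nat_lit 4396, nat_lit 8352, nat_lit 14192, nat_lit 17408, nat_lit 21504, nat_lit 25984, nat_lit 28928, nat_lit 33792, nat_lit 37140, nat_lit 32797, nat_lit 28736, nat_lit 24585, nat_lit 20487, nat_lit 16392, nat_lit 12306, nat_lit 8227, nat_lit 4104]⟩⟩⟩,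
  ⟨[nat_lit 56, nat_lit 56, nat_lit 47, nat_lit 642, nat_lit 47, nat_lit 46], [], (nat_lit 716), ⟨[nat_lit 58], [nat_lit 10], ⟨[nat_lit 0xa467028d4eb5eb24100c5bc2733449], [nat_lit 168960, nat_lit 165120, nat_lit 160768, nat_lit 157504, nat_lit 152928, nat_lit 147552, nat_lit 146288, nat_lit 141276, nat_lit 135494, nat_lit 132603, nat_lit 1066, nat_lit 5568, nat_lit 8200, nat_lit 13312, nat_lit 16544, nat_lit 21248, nat_lit 26240, nat_lit 28928, nat_lit 34304, nat_lit 41440, nat_lit 37009, nat_lit 32990, nat_lit 28948, nat_lit 24734, nat_lit 21512, nat_lit 16389, nat_lit 8195, nat_lit 4101, nat_lit 4]⟩⟩⟩]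
theorem thcr33_1 : Suf thT 19005990 (lapp thwr33 [2, 0, 1]) (iC2 :: apW dcM q0) (tgtN dcM q0.e) := Suf.seg (l := lth189) (by decide +kernel) sth190

def pth198 : AP := ⟨[nat_lit 665, nat_lit 228, nat_lit 264, nat_lit 222], [], (nat_lit 545), ⟨[nat_lit 0, nat_lit 78, nat_lit 92], [nat_lit 19, nat_lit 49], ⟨[nat_lit 0x2d80d9254835583a3ce15ce30b904e], [nat_lit 174080, nat_lit 168960, nat_lit 167680, nat_lit 162432, nat_lit 158784, nat_lit 151840, nat_lit 147632, nat_lit 144912, nat_lit 141472, nat_lit 137672, nat_lit 131289, nat_lit 960, nat_lit 5568, nat_lit 8208, nat_lit 13712, nat_lit 16448, nat_lit 22464, nat_lit 24832, nat_lit 30208, nat_lit 33280, nat_lit 41369, nat_lit 37125, nat_lit 32916, nat_lit 28994, nat_lit 24598, nat_lit 20507, nat_lit 16390, nat_lit 12320, nat_lit 8194, nat_lit 8]⟩⟩⟩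
def pth199 : AP := ⟨[nat_lit 230, nat_lit 266, nat_lit 265, nat_lit 226], [], (nat_lit 544), ⟨[nat_lit 27, nat_lit 64], [nat_lit 0, nat_lit 23, nat_lit 54], ⟨[nat_lit 0x2904d7850a3560b3ca891ce2cbd80e], [nat_lit 173056, nat_lit 169472, nat_lit 160128, nat_lit 156288, nat_lit 151840, nat_lit 148656, nat_lit 144344, nat_lit 139280, nat_lit 138778, nat_lit 132901, nat_lit 1972, nat_lit 6068, nat_lit 9928, nat_lit 12976, nat_lit 18400, nat_lit 22272, nat_lit 25984, nat_lit 30464, nat_lit 33280, nat_lit 41929, nat_lit 38023, nat_lit 33426, nat_lit 28946, nat_lit 24755, nat_lit 20487, nat_lit 16388, nat_lit 12295, nat_lit 8200, nat_lit 4097, nat_lit 2]⟩⟩⟩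
def pth200 : AP := ⟨[nat_lit 76, nat_lit 647, nat_lit 76], [], (nat_lit 180), ⟨[nat_lit 82, nat_lit 61], [nat_lit 0, nat_lit 16, nat_lit 59], ⟨[nat_lit 0x4ceee30e127c51402965092b6130ed], [nat_lit 173056, nat_lit 168960, nat_lit 164096, nat_lit 157504, nat_lit 148496, nat_lit 147304, nat_lit 141000, nat_lit 135308, nat_lit 131093, nat_lit 484, nat_lit 5488, nat_lit 9280, nat_lit 13376, nat_lit 18176, nat_lit 20608, nat_lit 25600, nat_lit 28928, nat_lit 41816, nat_lit 38224, nat_lit 32968, nat_lit 28799, nat_lit 24584, nat_lit 20508, nat_lit 16389, nat_lit 12292, nat_lit 8194, nat_lit 4097]⟩⟩⟩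
def pth201 : AP := ⟨[nat_lit 143, nat_lit 143, nat_lit 656, nat_lit 657, nat_lit 657], [], (nat_lit 736), ⟨[nat_lit 7, nat_lit 92], [nat_lit 0, nat_lit 24, nat_lit 53], ⟨[nat_lit 0xbc927610261460f5356341675059d4], [nat_lit 164096, nat_lit 161280, nat_lit 156672, nat_lit 151680, nat_lit 150544, nat_lit 144512, nat_lit 139908, nat_lit 136302, nat_lit 132069, nat_lit 664, nat_lit 5068, nat_lit 10128, nat_lit 12928, nat_lit 16416, nat_lit 22336, nat_lit 25344, nat_lit 28928, nat_lit 34304, nat_lit 37888, nat_lit 41968, nat_lit 38206, nat_lit 33016, nat_lit 28683, nat_lit 24624, nat_lit 20507, nat_lit 16391, nat_lit 12289, nat_lit 8210, nat_lit 4113, nat_lit 4]⟩⟩⟩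
def pth202 : AP := ⟨[nat_lit 357, nat_lit 286], [], (nat_lit 1222), ⟨[nat_lit 88, nat_lit 93], [nat_lit 6, nat_lit 91], ⟨[nat_lit 0xb19a514d070c489a8d80a424e55d6f], [nat_lit 173056, nat_lit 170496, nat_lit 164352, nat_lit 160640, nat_lit 158208, nat_lit 151904, nat_lit 147840, nat_lit 146904, nat_lit 142468, nat_lit 138706, nat_lit 135152, nat_lit 1318, nat_lit 5296, nat_lit 10192, nat_lit 12928, nat_lit 17216, nat_lit 21824, nat_lit 25344, nat_lit 33792, nat_lit 41961, nat_lit 37952, nat_lit 33006, nat_lit 28713, nat_lit 24894, nat_lit 20489, nat_lit 16461, nat_lit 12292, nat_lit 8202, nat_lit 4097]⟩⟩⟩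
def pth203 : AP := ⟨[nat_lit 639, nat_lit 49, nat_lit 641, nat_lit 68, nat_lit 66], [], (nat_lit 566), ⟨[nat_lit 40], [nat_lit 0, nat_lit 10, nat_lit 46], ⟨[nat_lit 0x901844d14b834251cde674447b5ea8], [nat_lit 173056, nat_lit 168448, nat_lit 165632, nat_lit 160256, nat_lit 153600, nat_lit 148864, nat_lit 144896, nat_lit 139704, nat_lit 137132, nat_lit 131555, nat_lit 2018, nat_lit 4756, nat_lit 9928, nat_lit 14272, nat_lit 17792, nat_lit 21888, nat_lit 26368, nat_lit 29696, nat_lit 33792, nat_lit 41888, nat_lit 36945, nat_lit 32928, nat_lit 28716, nat_lit 25143, nat_lit 20496, nat_lit 16389, nat_lit 12419, nat_lit 8200, nat_lit 4100, nat_lit 2]⟩⟩⟩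
def pth204 : AP := ⟨[], [], (nat_lit 668), ⟨[nat_lit 8, nat_lit 62], [nat_lit 0, nat_lit 81, nat_lit 48], ⟨[nat_lit 0x3bdcdbc56045661214cc80e8990956], [nat_lit 170496, nat_lit 161152, nat_lit 156672, nat_lit 152256, nat_lit 149472, nat_lit 144440, nat_lit 139712, nat_lit 136630, nat_lit 131786, nat_lit 184, nat_lit 5544, nat_lit 8704, nat_lit 12896, nat_lit 17216, nat_lit 25600, nat_lit 28928, nat_lit 33792, nat_lit 41064, nat_lit 37170, nat_lit 33508, nat_lit 29046, nat_lit 24847, nat_lit 20629, nat_lit 16427, nat_lit 12310, nat_lit 4097]⟩⟩⟩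
def pth205 : AP := ⟨[nat_lit 51], [], (nat_lit 122), ⟨[nat_lit 21, nat_lit 50], [nat_lit 0, nat_lit 44, nat_lit 52], ⟨[nat_lit 0x45a8c154d053a32bcc27590ad03d23], [nat_lit 174080, nat_lit 169984, nat_lit 164096, nat_lit 163072, nat_lit 158656, nat_lit 154560, nat_lit 148208, nat_lit 144800, nat_lit 139540, nat_lit 138174, nat_lit 133987, nat_lit 1770, nat_lit 5580, nat_lit 9288, nat_lit 13200, nat_lit 16640, nat_lit 22336, nat_lit 25216, nat_lit 37888, nat_lit 41865, nat_lit 37017, nat_lit 33917, nat_lit 29037, nat_lit 24601, nat_lit 20491, nat_lit 16459, nat_lit 12325, nat_lit 8203, nat_lit 4097]⟩⟩⟩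
def lth206 : List AP := [⟨[nat_lit 41, nat_lit 39], [], (nat_lit 1032), ⟨[nat_lit 17, nat_lit 69], [nat_lit 0, nat_lit 42, nat_lit 61], ⟨[nat_lit 0x3aa33a1aa8832c24bcad1816493837], [nat_lit 175104, nat_lit 168448, nat_lit 165376, nat_lit 161408, nat_lit 155968, nat_lit 152448, nat_lit 145384, nat_lit 140096, nat_lit 135522, nat_lit 133020, nat_lit 116, nat_lit 5120, nat_lit 9136, nat_lit 13872, nat_lit 17408, nat_lit 20928, nat_lit 26368, nat_lit 30464, nat_lit 33792, nat_lit 37888, nat_lit 41925, nat_lit 38178, nat_lit 32873, nat_lit 29261, nat_lit 24873, nat_lit 20609, nat_lit 12323]⟩⟩⟩]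
theorem sth206 : Suf thT 19005990 (ldrop (lapp thwr33 [3, 0, 1]) 69) (apW dcM pth205) (tgtN dcM pth205.e) := Suf.fin' (l := lth206) (by decide +kernel)
def lth205 : List AP := [⟨[nat_lit 286, nat_lit 351], [], (nat_lit 1192), ⟨[nat_lit 8, nat_lit 65], [nat_lit 38, nat_lit 68], ⟨[nat_lit 0x4492c74c0150ea68bca485db411d76], [nat_lit 173056, nat_lit 171008, nat_lit 164864, nat_lit 160896, nat_lit 158592, nat_lit 152512, nat_lit 147856, nat_lit 147280, nat_lit 141424, nat_lit 138842, nat_lit 135135, nat_lit 354, nat_lit 4340, nat_lit 9688, nat_lit 13088, nat_lit 18112, nat_lit 21696, nat_lit 25216, nat_lit 29440, nat_lit 33792, nat_lit 37888, nat_lit 41814, nat_lit 37082, nat_lit 33907, nat_lit 28782, nat_lit 24635, nat_lit 20548, nat_lit 16389, nat_lit 12289, nat_lit 8209, nat_lit 4097, nat_lit 2]⟩⟩⟩,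
  ⟨[nat_lit 290, nat_lit 351], [], (nat_lit 1124), ⟨[nat_lit 0, nat_lit 1, nat_lit 59], [nat_lit 0, nat_lit 40, nat_lit 66], ⟨[nat_lit 0x3c40498d6a74982a19e90c2f6a950d], [nat_lit 173056, nat_lit 169472, nat_lit 164864, nat_lit 161152, nat_lit 157184, nat_lit 152512, nat_lit 147472, nat_lit 146664, nat_lit 139668, nat_lit 135616, nat_lit 131256, nat_lit 484, nat_lit 5636, nat_lit 9176, nat_lit 12544, nat_lit 16512, nat_lit 20672, nat_lit 25344, nat_lit 29952, nat_lit 33280, nat_lit 37888, nat_lit 41544, nat_lit 38214, nat_lit 33476, nat_lit 29011, nat_lit 24881, nat_lit 20547, nat_lit 16421, nat_lit 12291, nat_lit 8209, nat_lit 4105]⟩⟩⟩]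
theorem sth205 : Suf thT 19005990 (ldrop (lapp thwr33 [3, 0, 1]) 63) (apW dcM pth204) (tgtN dcM pth204.e) := Suf.seg (l := lth205) (by decide +kernel) sth206
def lth204 : List AP := [⟨[nat_lit 290, nat_lit 352], [], (nat_lit 764), ⟨[nat_lit 0, nat_lit 44, nat_lit 62], [nat_lit 0, nat_lit 34, nat_lit 51], ⟨[nat_lit 0x51137a958d438523d213302c37c561], [nat_lit 168960, nat_lit 164352, nat_lit 162176, nat_lit 156800, nat_lit 152384, nat_lit 147808, nat_lit 143624, nat_lit 140988, nat_lit 137050, nat_lit 131844, nat_lit 1142, nat_lit 4952, nat_lit 10128, nat_lit 14304, nat_lit 17216, nat_lit 22336, nat_lit 26112, nat_lit 29184, nat_lit 33792, nat_lit 41631, nat_lit 37238, nat_lit 33391, nat_lit 28679, nat_lit 24579, nat_lit 20507, nat_lit 16419, nat_lit 8323, nat_lit 32]⟩⟩⟩,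
  ⟨[nat_lit 291, nat_lit 352, nat_lit 291, nat_lit 284, nat_lit 287], [], (nat_lit 1158), ⟨[nat_lit 8, nat_lit 62], [nat_lit 85, nat_lit 59], ⟨[nat_lit 0x3bdcdbc56045661214cc80e8990956], [nat_lit 173056, nat_lit 169984, nat_lit 161152, nat_lit 156672, nat_lit 152256, nat_lit 149472, nat_lit 144432, nat_lit 139716, nat_lit 136630, nat_lit 131786, nat_lit 184, nat_lit 5544, nat_lit 8704, nat_lit 12896, nat_lit 17216, nat_lit 25600, nat_lit 28928, nat_lit 33792, nat_lit 41064, nat_lit 37170, nat_lit 33508, nat_lit 29046, nat_lit 24847, nat_lit 20629, nat_lit 16427, nat_lit 12310, nat_lit 4097]⟩⟩⟩]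
theorem sth204 : Suf thT 19005990 (ldrop (lapp thwr33 [3, 0, 1]) 54) (apW dcM pth203) (tgtN dcM pth203.e) := Suf.seg (l := lth204) (by decide +kernel) sth205
def lth203 : List AP := [⟨[nat_lit 643, nat_lit 643, nat_lit 51, nat_lit 52], [], (nat_lit 130), ⟨[nat_lit 0, nat_lit 22, nat_lit 67], [nat_lit 0, nat_lit 37, nat_lit 48], ⟨[nat_lit 0x5b6a4981cc3bd540a1321c6d711a05], [nat_lit 168960, nat_lit 164096, nat_lit 159872, nat_lit 155968, nat_lit 153312, nat_lit 149200, nat_lit 143432, nat_lit 140068, nat_lit 136308, nat_lit 135056, nat_lit 128, nat_lit 4476, nat_lit 9216, nat_lit 13872, nat_lit 16480, nat_lit 20672, nat_lit 24704, nat_lit 29696, nat_lit 33280, nat_lit 41601, nat_lit 38228, nat_lit 33364, nat_lit 28680, nat_lit 24579, nat_lit 20497, nat_lit 16388, nat_lit 12421, nat_lit 8200, nat_lit 4160]⟩⟩⟩,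
  ⟨[nat_lit 47], [], (nat_lit 126), ⟨[nat_lit 0, nat_lit 33, nat_lit 68], [nat_lit 41, nat_lit 91], ⟨[nat_lit 0x55134a88f3424dbc56111c6cb38b4], [nat_lit 175104, nat_lit 170496, nat_lit 167168, nat_lit 160128, nat_lit 156800, nat_lit 152032, nat_lit 150032, nat_lit 143840, nat_lit 139756, nat_lit 138464, nat_lit 133581, nat_lit 1842, nat_lit 5384, nat_lit 10128, nat_lit 12896, nat_lit 17312, nat_lit 20608, nat_lit 26496, nat_lit 29952, nat_lit 33792, nat_lit 37888, nat_lit 41564, nat_lit 37009, nat_lit 32971, nat_lit 28745, nat_lit 24736, nat_lit 20492, nat_lit 16902, nat_lit 12326, nat_lit 8193, nat_lit 4105]⟩⟩⟩]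
theorem sth203 : Suf thT 19005990 (ldrop (lapp thwr33 [3, 0, 1]) 44) (apW dcM pth202) (tgtN dcM pth202.e) := Suf.seg (l := lth203) (by decide +kernel) sth204
def lth202 : List AP := [⟨[], [], (nat_lit 1176), ⟨[nat_lit 7, nat_lit 92], [nat_lit 0, nat_lit 74, nat_lit 64], ⟨[nat_lit 0xbc927610261460f5356341675059d4], [nat_lit 173056, nat_lit 168448, nat_lit 164096, nat_lit 161408, nat_lit 156736, nat_lit 151680, nat_lit 150528, nat_lit 144512, nat_lit 139908, nat_lit 136300, nat_lit 132069, nat_lit 664, nat_lit 5068, nat_lit 10128, nat_lit 12928, nat_lit 16416, nat_lit 22336, nat_lit 25344, nat_lit 28928, nat_lit 34304, nat_lit 37888, nat_lit 41968, nat_lit 38206, nat_lit 33016, nat_lit 28683, nat_lit 24624, nat_lit 20507, nat_lit 16391, nat_lit 12289, nat_lit 8210, nat_lit 4113, nat_lit 4]⟩⟩⟩,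
  ⟨[nat_lit 139, nat_lit 150, nat_lit 654, nat_lit 147, nat_lit 139], [], (nat_lit 1066), ⟨[nat_lit 36, nat_lit 69], [nat_lit 37, nat_lit 68], ⟨[nat_lit 0x6d8408182a292ee9d24c3a4717d50b], [nat_lit 175104, nat_lit 168448, nat_lit 165632, nat_lit 160384, nat_lit 156416, nat_lit 152064, nat_lit 149232, nat_lit 144632, nat_lit 140292, nat_lit 136078, nat_lit 131576, nat_lit 1336, nat_lit 4824, nat_lit 8928, nat_lit 13152, nat_lit 17472, nat_lit 22144, nat_lit 26496, nat_lit 30208, nat_lit 33792, nat_lit 37888, nat_lit 41310, nat_lit 37114, nat_lit 32774, nat_lit 29202, nat_lit 24731, nat_lit 20554, nat_lit 16425, nat_lit 8449, nat_lit 4101, nat_lit 4]⟩⟩⟩]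
theorem sth202 : Suf thT 19005990 (ldrop (lapp thwr33 [3, 0, 1]) 35) (apW dcM pth201) (tgtN dcM pth201.e) := Suf.seg (l := lth202) (by decide +kernel) sth203
def lth201 : List AP := [⟨[nat_lit 66, nat_lit 49, nat_lit 67, nat_lit 55, nat_lit 52], [], (nat_lit 716), ⟨[nat_lit 0, nat_lit 78, nat_lit 47], [nat_lit 71, nat_lit 47], ⟨[nat_lit 0x58eb63a8c28dda4902690a18e79690], [nat_lit 174080, nat_lit 171008, nat_lit 167168, nat_lit 160256, nat_lit 152416, nat_lit 150672, nat_lit 144984, nat_lit 141060, nat_lit 137688, nat_lit 134580, nat_lit 1874, nat_lit 5576, nat_lit 10032, nat_lit 14112, nat_lit 18336, nat_lit 20544, nat_lit 24704, nat_lit 29440, nat_lit 33280, nat_lit 37888, nat_lit 41665, nat_lit 38144, nat_lit 33406, nat_lit 28679, nat_lit 24597, nat_lit 20482, nat_lit 16448, nat_lit 12289, nat_lit 8208, nat_lit 4129]⟩⟩⟩,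
  ⟨[nat_lit 672, nat_lit 673, nat_lit 352, nat_lit 284], [], (nat_lit 644), ⟨[nat_lit 0, nat_lit 11, nat_lit 53], [nat_lit 0, nat_lit 36, nat_lit 46], ⟨[nat_lit 0x7d50b81941216ee9526c38d316d840], [nat_lit 175104, nat_lit 168960, nat_lit 165376, nat_lit 161152, nat_lit 156736, nat_lit 152032, nat_lit 149440, nat_lit 144344, nat_lit 140804, nat_lit 136366, nat_lit 131549, nat_lit 1024, nat_lit 5084, nat_lit 9040, nat_lit 12976, nat_lit 16704, nat_lit 20800, nat_lit 26496, nat_lit 28928, nat_lit 41912, nat_lit 37103, nat_lit 33818, nat_lit 29000, nat_lit 24724, nat_lit 20552, nat_lit 16422, nat_lit 12293, nat_lit 8200, nat_lit 4128]⟩⟩⟩]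
theorem sth201 : Suf thT 19005990 (ldrop (lapp thwr33 [3, 0, 1]) 29) (apW dcM pth200) (tgtN dcM pth200.e) := Suf.seg (l := lth201) (by decide +kernel) sth202
def lth200 : List AP := [⟨[nat_lit 264, nat_lit 668, nat_lit 226], [], (nat_lit 1120), ⟨[nat_lit 0, nat_lit 86, nat_lit 52], [nat_lit 0, nat_lit 78, nat_lit 50], ⟨[nat_lit 0x4a99321a2ea1502386abb49f700db0], [nat_lit 174080, nat_lit 168448, nat_lit 165376, nat_lit 161280, nat_lit 156288, nat_lit 153184, nat_lit 148000, nat_lit 144464, nat_lit 141060, nat_lit 135178, nat_lit 131475, nat_lit 428, nat_lit 5024, nat_lit 8608, nat_lit 13312, nat_lit 17856, nat_lit 21248, nat_lit 26496, nat_lit 29440, nat_lit 33792, nat_lit 37888, nat_lit 32954, nat_lit 28776, nat_lit 24596, nat_lit 20619, nat_lit 16393, nat_lit 12293, nat_lit 8201, nat_lit 4128, nat_lit 2]⟩⟩⟩,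
  ⟨[nat_lit 78], [], (nat_lit 192), ⟨[nat_lit 82, nat_lit 54], [nat_lit 82], ⟨[nat_lit 0x824256ae8abc5933d5e470ec014906], [nat_lit 171520, nat_lit 166912, nat_lit 161792, nat_lit 158976, nat_lit 151680, nat_lit 150016, nat_lit 146176, nat_lit 138362, nat_lit 131363, nat_lit 1024, nat_lit 4824, nat_lit 12736, nat_lit 17248, nat_lit 21440, nat_lit 25472, nat_lit 29696, nat_lit 33792, nat_lit 41802, nat_lit 37928, nat_lit 32946, nat_lit 28969, nat_lit 25131, nat_lit 20752, nat_lit 16520, nat_lit 12359, nat_lit 8200, nat_lit 16]⟩⟩⟩]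
theorem sth200 : Suf thT 19005990 (ldrop (lapp thwr33 [3, 0, 1]) 17) (apW dcM pth199) (tgtN dcM pth199.e) := Suf.seg (l := lth200) (by decide +kernel) sth201
def lth199 : List AP := [⟨[nat_lit 667, nat_lit 666, nat_lit 667, nat_lit 222], [], (nat_lit 552), ⟨[nat_lit 79, nat_lit 47], [nat_lit 5, nat_lit 94], ⟨[nat_lit 0x4acef0984d9ba44b020a8d468652e5], [nat_lit 175104, nat_lit 169472, nat_lit 165376, nat_lit 160000, nat_lit 155840, nat_lit 153216, nat_lit 149024, nat_lit 144096, nat_lit 140920, nat_lit 136364, nat_lit 131255, nat_lit 1268, nat_lit 4540, nat_lit 8224, nat_lit 14304, nat_lit 17376, nat_lit 22336, nat_lit 26368, nat_lit 29696, nat_lit 33792, nat_lit 37888, nat_lit 41803, nat_lit 38191, nat_lit 32859, nat_lit 28712, nat_lit 24834, nat_lit 20608, nat_lit 16457, nat_lit 12322, nat_lit 8704, nat_lit 4105, nat_lit 2]⟩⟩⟩,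
  ⟨[], [], (nat_lit 553), ⟨[nat_lit 0, nat_lit 79, nat_lit 47], [nat_lit 36, nat_lit 92], ⟨[nat_lit 0x4acef0984d9ba44b020a8d468652e5], [nat_lit 174080, nat_lit 168960, nat_lit 165376, nat_lit 160128, nat_lit 155840, nat_lit 153248, nat_lit 149024, nat_lit 144096, nat_lit 140920, nat_lit 136366, nat_lit 131255, nat_lit 1268, nat_lit 4540, nat_lit 8224, nat_lit 14304, nat_lit 17376, nat_lit 22336, nat_lit 26368, nat_lit 29696, nat_lit 33792, nat_lit 37888, nat_lit 41803, nat_lit 38191, nat_lit 32859, nat_lit 28712, nat_lit 24834, nat_lit 20608, nat_lit 16457, nat_lit 12322, nat_lit 8704, nat_lit 4105, nat_lit 2]⟩⟩⟩]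
theorem sth199 : Suf thT 19005990 (ldrop (lapp thwr33 [3, 0, 1]) 8) (apW dcM pth198) (tgtN dcM pth198.e) := Suf.seg (l := lth199) (by decide +kernel) sth200
def lth198 : List AP := [⟨[nat_lit 632, nat_lit 37, nat_lit 14, nat_lit 39, nat_lit 17, nat_lit 40], [], (nat_lit 150), ⟨[nat_lit 0, nat_lit 19, nat_lit 65], [nat_lit 86, nat_lit 66], ⟨[nat_lit 0xa056748ec4845f3155057364c55cc0], [nat_lit 173056, nat_lit 165632, nat_lit 161408, nat_lit 156544, nat_lit 153376, nat_lit 148160, nat_lit 146136, nat_lit 140792, nat_lit 136446, nat_lit 131782, nat_lit 8, nat_lit 4888, nat_lit 9328, nat_lit 13312, nat_lit 16960, nat_lit 20864, nat_lit 26112, nat_lit 34304, nat_lit 37888, nat_lit 41949, nat_lit 38052, nat_lit 33521, nat_lit 28928, nat_lit 24600, nat_lit 20503, nat_lit 16398, nat_lit 12291, nat_lit 8193, nat_lit 4105]⟩⟩⟩,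
  ⟨[nat_lit 101, nat_lit 83, nat_lit 100, nat_lit 646, nat_lit 105], [], (nat_lit 534), ⟨[nat_lit 0, nat_lit 19, nat_lit 92], [nat_lit 0, nat_lit 45, nat_lit 54], ⟨[nat_lit 0x8c8e468c2fa2d17638404aad581666], [nat_lit 173056, nat_lit 169472, nat_lit 159872, nat_lit 157376, nat_lit 153184, nat_lit 148384, nat_lit 146776, nat_lit 139268, nat_lit 136386, nat_lit 133003, nat_lit 1614, nat_lit 4340, nat_lit 8232, nat_lit 12352, nat_lit 16512, nat_lit 22400, nat_lit 24704, nat_lit 29696, nat_lit 33792, nat_lit 41533, nat_lit 38123, nat_lit 32947, nat_lit 28747, nat_lit 24608, nat_lit 20568, nat_lit 16421, nat_lit 8209, nat_lit 4224, nat_lit 2]⟩⟩⟩]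
theorem thcr33_2 : Suf thT 19005990 (lapp thwr33 [3, 0, 1]) (iC3 :: apW dcM q0) (tgtN dcM q0.e) := Suf.seg (l := lth198) (by decide +kernel) sth199


end

end CF.Mon.Tr
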