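import Cfsg.Agent.Mon.thD

set_option autoImplicit false
set_option maxRecDepth 100000

namespace CF.Mon.Tr

open CF.Comp

noncomputable section

def pth207 : AP := ⟨[nat_lit 667, nat_lit 260, nat_lit 230, nat_lit 261], [], (nat_lit 514), ⟨[nat_lit 0, nat_lit 88, nat_lit 55], [nat_lit 0, nat_lit 22, nat_lit 52], ⟨[nat_lit 0xa667245021dde05b2aa6ca16299d4], [nat_lit 173056, nat_lit 171008, nat_lit 165632, nat_lit 160256, nat_lit 152736, nat_lit 149232, nat_lit 144384, nat_lit 140556, nat_lit 136322, nat_lit 132000, nat_lit 664, nat_lit 4528, nat_lit 9136, nat_lit 13488, nat_lit 17280, nat_lit 21504, nat_lit 25600, nat_lit 29696, nat_lit 33792, nat_lit 37888, nat_lit 41472, nat_lit 37120, nat_lit 33419, nat_lit 29003, nat_lit 24756, nat_lit 20563, nat_lit 16453, nat_lit 12547, nat_lit 8227, nat_lit 4129, nat_lit 16]⟩⟩⟩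
def pth208 : AP := ⟨[nat_lit 141, nat_lit 141, nat_lit 142, nat_lit 655, nat_lit 139], [], (nat_lit 478), ⟨[nat_lit 11, nat_lit 60], [nat_lit 0, nat_lit 19], ⟨[nat_lit 0x50185a42d7305e9239033896d8cab3], [nat_lit 173056, nat_lit 164864, nat_lit 161024, nat_lit 158336, nat_lit 152608, nat_lit 148112, nat_lit 145264, nat_lit 140192, nat_lit 136268, nat_lit 132556, nat_lit 526, nat_lit 5900, nat_lit 9448, nat_lit 14224, nat_lit 18304, nat_lit 22272, nat_lit 25088, nat_lit 29184, nat_lit 34304, nat_lit 41916, nat_lit 37227, nat_lit 33331, nat_lit 28782, nat_lit 24591, nat_lit 20622, nat_lit 16655, nat_lit 12359, nat_lit 8211, nat_lit 4112]⟩⟩⟩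
def pth209 : AP := ⟨[nat_lit 148], [], (nat_lit 378), ⟨[nat_lit 0, nat_lit 3, nat_lit 55], [nat_lit 0, nat_lit 39, nat_lit 59], ⟨[nat_lit 0x1dca6146d0449a4a3c0ea85699a987], [nat_lit 169984, nat_lit 164864, nat_lit 161024, nat_lit 156928, nat_lit 152896, nat_lit 149216, nat_lit 144000, nat_lit 139912, nat_lit 137132, nat_lit 131257, nat_lit 1694, nat_lit 4924, nat_lit 9096, nat_lit 12832, nat_lit 18112, nat_lit 22464, nat_lit 25088, nat_lit 28928, nat_lit 37888, nat_lit 41654, nat_lit 36923, nat_lit 32988, nat_lit 28946, nat_lit 21019, nat_lit 16394, nat_lit 12307, nat_lit 8193]⟩⟩⟩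
def pth210 : AP := ⟨[nat_lit 658, nat_lit 149, nat_lit 657, nat_lit 143, nat_lit 141], [], (nat_lit 738), ⟨[nat_lit 0, nat_lit 12, nat_lit 53], [nat_lit 82, nat_lit 50], ⟨[nat_lit 0x8290e302899342312cb679c91bcd95], [nat_lit 173056, nat_lit 168448, nat_lit 165376, nat_lit 161664, nat_lit 156608, nat_lit 152544, nat_lit 148272, nat_lit 144000, nat_lit 139880, nat_lit 136268, nat_lit 133385, nat_lit 2012, nat_lit 5856, nat_lit 9384, nat_lit 12496, nat_lit 16736, nat_lit 21952, nat_lit 24960, nat_lit 30208, nat_lit 37888, nat_lit 41462, nat_lit 36981, nat_lit 32936, nat_lit 28709, nat_lit 24619, nat_lit 20562, nat_lit 16389, nat_lit 12292, nat_lit 8194, nat_lit 4097, nat_lit 2]⟩⟩⟩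
def pth211 : AP := ⟨[nat_lit 292, nat_lit 670, nat_lit 356, nat_lit 284], [], (nat_lit 678), ⟨[nat_lit 10, nat_lit 55], [nat_lit 0, nat_lit 38], ⟨[nat_lit 0x84c035a1ee2d49739a960c6426b149], [nat_lit 173056, nat_lit 169472, nat_lit 166912, nat_lit 156096, nat_lit 151904, nat_lit 148672, nat_lit 144256, nat_lit 139748, nat_lit 136158, nat_lit 131908, nat_lit 724, nat_lit 5316, nat_lit 9720, nat_lit 12848, nat_lit 17888, nat_lit 22400, nat_lit 25088, nat_lit 29952, nat_lit 37888, nat_lit 41728, nat_lit 36920, nat_lit 33013, nat_lit 29045, nat_lit 24873, nat_lit 20749, nat_lit 16420, nat_lit 12289, nat_lit 8210, nat_lit 4097, nat_lit 2]⟩⟩⟩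
def pth212 : AP := ⟨[nat_lit 176, nat_lit 172, nat_lit 171, nat_lit 172], [], (nat_lit 750), ⟨[nat_lit 0, nat_lit 26, nat_lit 67], [nat_lit 4, nat_lit 51], ⟨[nat_lit 0x82e72251a3b09e64aa2861c17a85c5], [nat_lit 164864, nat_lit 160640, nat_lit 157312, nat_lit 155616, nat_lit 147760, nat_lit 144064, nat_lit 141152, nat_lit 136312, nat_lit 131132, nat_lit 1634, nat_lit 6068, nat_lit 10128, nat_lit 12416, nat_lit 17664, nat_lit 26240, nat_lit 37888, nat_lit 41805, nat_lit 38102, nat_lit 32800, nat_lit 28775, nat_lit 24719, nat_lit 16904, nat_lit 12353, nat_lit 8194, nat_lit 4100, nat_lit 8]⟩⟩⟩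
def pth213 : AP := ⟨[], [], (nat_lit 515), ⟨[nat_lit 0, nat_lit 92], [nat_lit 0, nat_lit 26, nat_lit 92], ⟨[nat_lit 0x998e5abd604345665c6a84644a3921], [nat_lit 175104, nat_lit 170496, nat_lit 166400, nat_lit 160000, nat_lit 159296, nat_lit 154880, nat_lit 147888, nat_lit 145664, nat_lit 140308, nat_lit 135916, nat_lit 131105, nat_lit 2, nat_lit 4780, nat_lit 8408, nat_lit 14144, nat_lit 16416, nat_lit 20608, nat_lit 25216, nat_lit 34304, nat_lit 37888, nat_lit 41640, nat_lit 38126, nat_lit 32793, nat_lit 28712, nat_lit 24639, nat_lit 20488, nat_lit 16392, nat_lit 64]⟩⟩⟩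
def pth214 : AP := ⟨[], [], (nat_lit 339), ⟨[nat_lit 0, nat_lit 84, nat_lit 58], [nat_lit 2, nat_lit 66], ⟨[nat_lit 0xbb88b9c0516993490403abca8530f6], [nat_lit 168960, nat_lit 164608, nat_lit 160384, nat_lit 158656, nat_lit 153152, nat_lit 148192, nat_lit 144736, nat_lit 139748, nat_lit 136074, nat_lit 132844, nat_lit 760, nat_lit 5668, nat_lit 9424, nat_lit 14160, nat_lit 18272, nat_lit 20736, nat_lit 25088, nat_lit 29184, nat_lit 33280, nat_lit 41240, nat_lit 37108, nat_lit 32888, nat_lit 28736, nat_lit 20742, nat_lit 16430, nat_lit 12295, nat_lit 8201, nat_lit 4097]⟩⟩⟩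
def lth215 : List AP := [⟨[], [], (nat_lit 1034), ⟨[nat_lit 18, nat_lit 50], [nat_lit 0, nat_lit 84, nat_lit 63], ⟨[nat_lit 0xa67450236394ce7b48cbac52ac068], [nat_lit 168448, nat_lit 164096, nat_lit 159872, nat_lit 156224, nat_lit 152000, nat_lit 148256, nat_lit 145384, nat_lit 140024, nat_lit 135848, nat_lit 133373, nat_lit 256, nat_lit 6120, nat_lit 8256, nat_lit 12544, nat_lit 17056, nat_lit 20736, nat_lit 30208, nat_lit 34304, nat_lit 41875, nat_lit 38034, nat_lit 33334, nat_lit 29782, nat_lit 24733, nat_lit 20481, nat_lit 16457, nat_lit 12290, nat_lit 8320, nat_lit 4105]⟩⟩⟩]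
theorem sth215 : Suf thT 2048 (ldrop (lapp thwr33 [1, 0, 1]) 69) (apW dcM pth214) (tgtN dcM pth214.e) := Suf.fin' (l := lth215) (by decide +kernel)
def lth214 : List AP := [⟨[nat_lit 668, nat_lit 225, nat_lit 230, nat_lit 666], [], (nat_lit 681), ⟨[nat_lit 16, nat_lit 93], [nat_lit 80, nat_lit 58], ⟨[nat_lit 0x591a811c6e02a1795521345f3a32c5], [nat_lit 175104, nat_lit 169472, nat_lit 162816, nat_lit 156480, nat_lit 153472, nat_lit 150000, nat_lit 146440, nat_lit 141588, nat_lit 138352, nat_lit 133960, nat_lit 1054, nat_lit 5668, nat_lit 8360, nat_lit 14128, nat_lit 18112, nat_lit 20736, nat_lit 26368, nat_lit 30464, nat_lit 37888, nat_lit 41345, nat_lit 37241, nat_lit 33414, nat_lit 29030, nat_lit 24850, nat_lit 20556, nat_lit 12356, nat_lit 8258]⟩⟩⟩,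
  ⟨[nat_lit 285, nat_lit 286, nat_lit 672], [], (nat_lit 1210), ⟨[nat_lit 0, nat_lit 4, nat_lit 68], [nat_lit 85, nat_lit 70], ⟨[nat_lit 0x4563a2617b19e122a67431b2a89c5], [nat_lit 175104, nat_lit 168448, nat_lit 166656, nat_lit 161920, nat_lit 158848, nat_lit 152064, nat_lit 149376, nat_lit 144464, nat_lit 142232, nat_lit 138004, nat_lit 132238, nat_lit 1634, nat_lit 4720, nat_lit 8320, nat_lit 12416, nat_lit 18208, nat_lit 20544, nat_lit 25088, nat_lit 34304, nat_lit 41816, nat_lit 36950, nat_lit 32971, nat_lit 28745, nat_lit 24760, nat_lit 20559, nat_lit 16390, nat_lit 12321, nat_lit 8201, nat_lit 8]⟩⟩⟩]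
theorem sth214 : Suf thT 2048 (ldrop (lapp thwr33 [1, 0, 1]) 63) (apW dcM pth213) (tgtN dcM pth213.e) := Suf.seg (l := lth214) (by decide +kernel) sth215
def lth213 : List AP := [⟨[nat_lit 286, nat_lit 351, nat_lit 671, nat_lit 671], [], (nat_lit 680), ⟨[nat_lit 0, nat_lit 12, nat_lit 63], [nat_lit 88, nat_lit 62], ⟨[nat_lit 0x5a6889146eb2ab71408f3442c6cc07], [nat_lit 173056, nat_lit 169472, nat_lit 161920, nat_lit 157440, nat_lit 151776, nat_lit 148784, nat_lit 145280, nat_lit 140756, nat_lit 136172, nat_lit 132351, nat_lit 1054, nat_lit 5276, nat_lit 10040, nat_lit 14032, nat_lit 17376, nat_lit 21632, nat_lit 25344, nat_lit 30464, nat_lit 34304, nat_lit 37888, nat_lit 41856, nat_lit 37176, nat_lit 33504, nat_lit 28710, nat_lit 24868, nat_lit 20572, nat_lit 16462, nat_lit 12355, nat_lit 8202, nat_lit 4097]⟩⟩⟩,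
  ⟨[nat_lit 224, nat_lit 224, nat_lit 668, nat_lit 223], [], (nat_lit 514), ⟨[nat_lit 0, nat_lit 92], [nat_lit 26], ⟨[nat_lit 0x998e5abd604345665c6a84644a3921], [nat_lit 174080, nat_lit 169984, nat_lit 166400, nat_lit 160128, nat_lit 159296, nat_lit 154912, nat_lit 147888, nat_lit 145664, nat_lit 140304, nat_lit 135918, nat_lit 131104, nat_lit 2, nat_lit 4780, nat_lit 8408, nat_lit 14144, nat_lit 16416, nat_lit 20608, nat_lit 25216, nat_lit 34304, nat_lit 37888, nat_lit 41640, nat_lit 38126, nat_lit 32793, nat_lit 28712, nat_lit 24639, nat_lit 20488, nat_lit 16392, nat_lit 64]⟩⟩⟩]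
theorem sth213 : Suf thT 2048 (ldrop (lapp thwr33 [1, 0, 1]) 54) (apW dcM pth212) (tgtN dcM pth212.e) := Suf.seg (l := lth213) (by decide +kernel) sth214
def lth212 : List AP := [⟨[nat_lit 219, nat_lit 176, nat_lit 178, nat_lit 171], [], (nat_lit 414), ⟨[nat_lit 0, nat_lit 30, nat_lit 56], [nat_lit 22, nat_lit 66], ⟨[nat_lit 0xa355771507904961c0d564d71481e2], [nat_lit 173056, nat_lit 168448, nat_lit 165376, nat_lit 163328, nat_lit 156672, nat_lit 153248, nat_lit 149408, nat_lit 143664, nat_lit 139704, nat_lit 136686, nat_lit 132035, nat_lit 4, nat_lit 4780, nat_lit 8320, nat_lit 14304, nat_lit 18016, nat_lit 20864, nat_lit 29952, nat_lit 34304, nat_lit 41831, nat_lit 38375, nat_lit 32939, nat_lit 28989, nat_lit 24599, nat_lit 20762, nat_lit 16417, nat_lit 12290, nat_lit 8193, nat_lit 4104, nat_lit 4]⟩⟩⟩,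
  ⟨[nat_lit 218, nat_lit 170], [], (nat_lit 392), ⟨[nat_lit 0, nat_lit 36, nat_lit 65], [nat_lit 16, nat_lit 49], ⟨[nat_lit 0xa4dd7158ca68600249853ac757a628], [nat_lit 169984, nat_lit 164864, nat_lit 163072, nat_lit 154016, nat_lit 149888, nat_lit 145440, nat_lit 139480, nat_lit 135718, nat_lit 134568, nat_lit 952, nat_lit 6084, nat_lit 8344, nat_lit 13920, nat_lit 17728, nat_lit 21632, nat_lit 24704, nat_lit 29184, nat_lit 33280, nat_lit 37888, nat_lit 41351, nat_lit 37121, nat_lit 32897, nat_lit 29032, nat_lit 24735, nat_lit 20546, nat_lit 16418, nat_lit 12289, nat_lit 8209, nat_lit 4100]⟩⟩⟩]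
theorem sth212 : Suf thT 2048 (ldrop (lapp thwr33 [1, 0, 1]) 44) (apW dcM pth211) (tgtN dcM pth211.e) := Suf.seg (l := lth212) (by decide +kernel) sth213
def lth211 : List AP := [⟨[], [], (nat_lit 1188), ⟨[nat_lit 12, nat_lit 53], [nat_lit 0, nat_lit 42, nat_lit 56], ⟨[nat_lit 0x8290e302899342312cb679c91bcd95], [nat_lit 173056, nat_lit 168448, nat_lit 165376, nat_lit 161664, nat_lit 156608, nat_lit 152544, nat_lit 148256, nat_lit 144000, nat_lit 139884, nat_lit 136270, nat_lit 133385, nat_lit 2012, nat_lit 5856, nat_lit 9384, nat_lit 12496, nat_lit 16736, nat_lit 21952, nat_lit 24960, nat_lit 30208, nat_lit 37888, nat_lit 41462, nat_lit 36981, nat_lit 32936, nat_lit 28709, nat_lit 24619, nat_lit 20562, nat_lit 16389, nat_lit 12292, nat_lit 8194, nat_lit 4097, nat_lit 2]⟩⟩⟩,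
  ⟨[nat_lit 148, nat_lit 658, nat_lit 149, nat_lit 144, nat_lit 140, nat_lit 139], [], (nat_lit 738), ⟨[nat_lit 0, nat_lit 82, nat_lit 93], [nat_lit 0, nat_lit 86, nat_lit 68], ⟨[nat_lit 0xac6c6595125059769e0fa386999040], [nat_lit 173056, nat_lit 168960, nat_lit 165376, nat_lit 162816, nat_lit 157056, nat_lit 151936, nat_lit 148544, nat_lit 143696, nat_lit 139548, nat_lit 137144, nat_lit 131269, nat_lit 128, nat_lit 4808, nat_lit 8208, nat_lit 14080, nat_lit 16512, nat_lit 21568, nat_lit 25472, nat_lit 30464, nat_lit 33280, nat_lit 37888, nat_lit 41444, nat_lit 36992, nat_lit 32936, nat_lit 28680, nat_lit 25636, nat_lit 20744, nat_lit 16398, nat_lit 12305, nat_lit 8203, nat_lit 4105]⟩⟩⟩]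
theorem sth211 : Suf thT 2048 (ldrop (lapp thwr33 [1, 0, 1]) 35) (apW dcM pth210) (tgtN dcM pth210.e) := Suf.seg (l := lth211) (by decide +kernel) sth212
def lth210 : List AP := [⟨[nat_lit 212, nat_lit 172, nat_lit 170, nat_lit 212, nat_lit 212], [], (nat_lit 1092), ⟨[nat_lit 0, nat_lit 10, nat_lit 47], [nat_lit 44, nat_lit 55], ⟨[nat_lit 0x84c035a1ee2d49739a960c6426b149], [nat_lit 169472, nat_lit 167168, nat_lit 159872, nat_lit 156032, nat_lit 151872, nat_lit 148672, nat_lit 144264, nat_lit 139744, nat_lit 136158, nat_lit 131909, nat_lit 724, nat_lit 5316, nat_lit 9720, nat_lit 12848, nat_lit 17888, nat_lit 22400, nat_lit 25088, nat_lit 29952, nat_lit 37888, nat_lit 41728, nat_lit 36920, nat_lit 33013, nat_lit 29045, nat_lit 24873, nat_lit 20749, nat_lit 16420, nat_lit 12289, nat_lit 8210, nat_lit 4097, nat_lit 2]⟩⟩⟩,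
  ⟨[nat_lit 285, nat_lit 355, nat_lit 286, nat_lit 352], [], (nat_lit 1188), ⟨[nat_lit 0, nat_lit 29], [nat_lit 8, nat_lit 58], ⟨[nat_lit 0x8052611648544e36b2aea3ef699160], [nat_lit 168448, nat_lit 164864, nat_lit 162560, nat_lit 155840, nat_lit 152160, nat_lit 147616, nat_lit 144488, nat_lit 140844, nat_lit 135616, nat_lit 132039, nat_lit 128, nat_lit 4952, nat_lit 8576, nat_lit 12832, nat_lit 16512, nat_lit 20928, nat_lit 26112, nat_lit 29696, nat_lit 33792, nat_lit 37888, nat_lit 41928, nat_lit 38216, nat_lit 33012, nat_lit 28725, nat_lit 24884, nat_lit 20629, nat_lit 16393, nat_lit 12310, nat_lit 8203]⟩⟩⟩]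
theorem sth210 : Suf thT 2048 (ldrop (lapp thwr33 [1, 0, 1]) 29) (apW dcM pth209) (tgtN dcM pth209.e) := Suf.seg (l := lth210) (by decide +kernel) sth211
def lth209 : List AP := [⟨[nat_lit 226, nat_lit 262, nat_lit 223, nat_lit 222], [], (nat_lit 488), ⟨[nat_lit 0, nat_lit 30, nat_lit 46], [nat_lit 0, nat_lit 17, nat_lit 55], ⟨[nat_lit 0x8a6cc79c2e900d020af452c656cea8], [nat_lit 174080, nat_lit 168960, nat_lit 164352, nat_lit 163584, nat_lit 156352, nat_lit 152192, nat_lit 151104, nat_lit 147384, nat_lit 143120, nat_lit 137826, nat_lit 134607, nat_lit 1438, nat_lit 5900, nat_lit 9384, nat_lit 13504, nat_lit 18080, nat_lit 20928, nat_lit 25600, nat_lit 28928, nat_lit 33792, nat_lit 41759, nat_lit 37223, nat_lit 32993, nat_lit 28745, nat_lit 24756, nat_lit 20558, nat_lit 16418, nat_lit 12355, nat_lit 8202, nat_lit 4104]⟩⟩⟩,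
  ⟨[], [], (nat_lit 302), ⟨[nat_lit 13, nat_lit 89], [nat_lit 0, nat_lit 4, nat_lit 58], ⟨[nat_lit 0xdcb0a48e35bc0262671459b571944], [nat_lit 173056, nat_lit 168960, nat_lit 165632, nat_lit 161536, nat_lit 156864, nat_lit 151904, nat_lit 147472, nat_lit 143872, nat_lit 140376, nat_lit 135746, nat_lit 132722, nat_lit 1794, nat_lit 5884, nat_lit 9136, nat_lit 13312, nat_lit 16864, nat_lit 20864, nat_lit 25600, nat_lit 28928, nat_lit 33280, nat_lit 37888, nat_lit 41751, nat_lit 38330, nat_lit 33815, nat_lit 29278, nat_lit 24763, nat_lit 20627, nat_lit 16514, nat_lit 12356, nat_lit 8200, nat_lit 4224, nat_lit 2]⟩⟩⟩]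
theorem sth209 : Suf thT 2048 (ldrop (lapp thwr33 [1, 0, 1]) 17) (apW dcM pth208) (tgtN dcM pth208.e) := Suf.seg (l := lth209) (by decide +kernel) sth210
def lth208 : List AP := [⟨[nat_lit 142, nat_lit 658, nat_lit 146], [], (nat_lit 594), ⟨[nat_lit 72, nat_lit 49], [nat_lit 0, nat_lit 16, nat_lit 59], ⟨[nat_lit 0x9aec2004ee656e58d068229a93424f], [nat_lit 168960, nat_lit 165120, nat_lit 161152, nat_lit 156416, nat_lit 151712, nat_lit 148624, nat_lit 143744, nat_lit 139836, nat_lit 139000, nat_lit 131270, nat_lit 1668, nat_lit 9600, nat_lit 13152, nat_lit 16992, nat_lit 21440, nat_lit 28928, nat_lit 41141, nat_lit 37145, nat_lit 32770, nat_lit 29758, nat_lit 24598, nat_lit 21523, nat_lit 16450, nat_lit 12417, nat_lit 8210, nat_lit 128]⟩⟩⟩,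
  ⟨[], [], (nat_lit 1126), ⟨[nat_lit 72, nat_lit 49], [nat_lit 24, nat_lit 63], ⟨[nat_lit 0x9aec2004ee656e58d068229a93424f], [nat_lit 173056, nat_lit 169472, nat_lit 165120, nat_lit 161024, nat_lit 156480, nat_lit 151680, nat_lit 148608, nat_lit 143752, nat_lit 139836, nat_lit 139000, nat_lit 131271, nat_lit 1668, nat_lit 9600, nat_lit 13152, nat_lit 16992, nat_lit 21440, nat_lit 28928, nat_lit 41141, nat_lit 37145, nat_lit 32770, nat_lit 29758, nat_lit 24598, nat_lit 21523, nat_lit 16450, nat_lit 12417, nat_lit 8210, nat_lit 128]⟩⟩⟩]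
theorem sth208 : Suf thT 2048 (ldrop (lapp thwr33 [1, 0, 1]) 8) (apW dcM pth207) (tgtN dcM pth207.e) := Suf.seg (l := lth208) (by decide +kernel) sth209
def lth207 : List AP := [⟨[nat_lit 21, nat_lit 25, nat_lit 32, nat_lit 22, nat_lit 30, nat_lit 25], [], (nat_lit 276), ⟨[nat_lit 0, nat_lit 14, nat_lit 53], [nat_lit 29, nat_lit 90], ⟨[nat_lit 0x8a487a19e082d8d40a61bb86592ab6], [nat_lit 174080, nat_lit 168448, nat_lit 164096, nat_lit 160512, nat_lit 156160, nat_lit 152672, nat_lit 149104, nat_lit 144392, nat_lit 141164, nat_lit 136178, nat_lit 132845, nat_lit 1720, nat_lit 5208, nat_lit 9096, nat_lit 14000, nat_lit 17760, nat_lit 21056, nat_lit 25472, nat_lit 33792, nat_lit 41612, nat_lit 38388, nat_lit 33490, nat_lit 29042, nat_lit 24721, nat_lit 20765, nat_lit 16423, nat_lit 12353, nat_lit 8224, nat_lit 4097]⟩⟩⟩,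
  ⟨[nat_lit 144, nat_lit 143, nat_lit 656, nat_lit 658, nat_lit 149], [], (nat_lit 476), ⟨[nat_lit 0, nat_lit 31, nat_lit 69], [nat_lit 0, nat_lit 27, nat_lit 47], ⟨[nat_lit 0x6c53043c2090cb5b5d4e59d8434e82], [nat_lit 174080, nat_lit 169984, nat_lit 166144, nat_lit 161536, nat_lit 159360, nat_lit 153760, nat_lit 149056, nat_lit 147416, nat_lit 140032, nat_lit 136160, nat_lit 132474, nat_lit 586, nat_lit 4712, nat_lit 10088, nat_lit 13152, nat_lit 17408, nat_lit 20544, nat_lit 25600, nat_lit 29696, nat_lit 33280, nat_lit 37888, nat_lit 41685, nat_lit 37122, nat_lit 33012, nat_lit 28962, nat_lit 24619, nat_lit 20547, nat_lit 16392, nat_lit 8193, nat_lit 4161, nat_lit 4]⟩⟩⟩]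
theorem thcr33_3 : Suf thT 2048 (lapp thwr33 [1, 0, 1]) (apW dcM q1) (tgtN dcM q1.e) := Suf.seg (l := lth207) (by decide +kernel) sth208

theorem thcr34 : Chk thT thwr34 := .inr (by decide +kernel)

theorem thcr35 : Chk thT thwr35 := .inr (by decide +kernel)

theorem thcr36 : Chk thT thwr36 := .inr (by decide +kernel)

theorem thcr37 : Chk thT thwr37 := .inr (by decide +kernel)

theorem thcr38 : Chk thT thwr38 := .inr (by decide +kernel)

def lth216 : List AP := [⟨[], [], (nat_lit 1032), ⟨[nat_lit 0], [], ⟨[], []⟩⟩⟩]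
theorem thf1_0 : Suf thT 19005990 (lapp (thP.getD 1 []) [5, 0, 1]) (thT.get 4 :: apW dcM q0) (tgtN dcM q0.e) := Suf.fin' (l := lth216) (by decide +kernel)

def lth217 : List AP := [⟨[], [], (nat_lit 1032), ⟨[nat_lit 0], [], ⟨[], []⟩⟩⟩]
theorem thf2_0 : Suf thT 19005990 (lapp (thP.getD 1 []) [7, 0, 1]) (thT.get 6 :: apW dcM q0) (tgtN dcM q0.e) := Suf.fin' (l := lth217) (by decide +kernel)

def pth218 : AP := ⟨[nat_lit 42, nat_lit 40, nat_lit 632, nat_lit 40], [], (nat_lit 38), ⟨[nat_lit 0, nat_lit 2, nat_lit 67], [nat_lit 0, nat_lit 22, nat_lit 55], ⟨[nat_lit 0xa300812dd70b6aa1bec929cd284664], [nat_lit 171008, nat_lit 166144, nat_lit 162560, nat_lit 159680, nat_lit 152064, nat_lit 150016, nat_lit 147040, nat_lit 140012, nat_lit 137626, nat_lit 132415, nat_lit 606, nat_lit 5064, nat_lit 9224, nat_lit 13296, nat_lit 21696, nat_lit 24832, nat_lit 29440, nat_lit 33280, nat_lit 41171, nat_lit 37214, nat_lit 33354, nat_lit 29761, nat_lit 25135,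 nat_lit 20547, nat_lit 16386, nat_lit 12804, nat_lit 8450, nat_lit 4097, nat_lit 2]⟩⟩⟩
def lth219 : List AP := [⟨[nat_lit 43, nat_lit 15, nat_lit 16, nat_lit 14], [], (nat_lit 39), ⟨[nat_lit 0, nat_lit 13, nat_lit 53], [nat_lit 41, nat_lit 70], ⟨[nat_lit 0x84ce4009afad90bbaa890b9838c8c5], [nat_lit 169472, nat_lit 165632, nat_lit 161152, nat_lit 156224, nat_lit 153088, nat_lit 148976, nat_lit 144624, nat_lit 143204, nat_lit 137064, nat_lit 131076, nat_lit 364, nat_lit 5436, nat_lit 12800, nat_lit 16896, nat_lit 22336, nat_lit 24704, nat_lit 29440, nat_lit 34304, nat_lit 37888, nat_lit 41584, nat_lit 38389, nat_lit 33339, nat_lit 28984, nat_lit 25628, nat_lit 20568, nat_lit 16424, nat_lit 12304, nat_lit 4224, nat_lit 512]⟩⟩⟩,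
  ⟨[nat_lit 15, nat_lit 40], [], (nat_lit 1032), ⟨[nat_lit 78, nat_lit 49], [nat_lit 0, nat_lit 28, nat_lit 49], ⟨[nat_lit 0x81aae8a8524b1a129c68b5c0b2526f], [nat_lit 174080, nat_lit 171008, nat_lit 167168, nat_lit 157184, nat_lit 151968, nat_lit 150016, nat_lit 144896, nat_lit 139640, nat_lit 137770, nat_lit 134969, nat_lit 122, nat_lit 4588, nat_lit 8720, nat_lit 14192, nat_lit 16416, nat_lit 21888, nat_lit 29184, nat_lit 41946, nat_lit 36877, nat_lit 33891, nat_lit 28935, nat_lit 25635, nat_lit 20548, nat_lit 16399, nat_lit 12289, nat_lit 8210, nat_lit 4113]⟩⟩⟩]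
theorem sth219 : Suf thT 19005990 (ldrop (lapp (thP.getD 3 []) [5, 0, 1]) 6) (apW dcM pth218) (tgtN dcM pth218.e) := Suf.fin' (l := lth219) (by decide +kernel)
def lth218 : List AP := [⟨[nat_lit 629, nat_lit 38, nat_lit 42, nat_lit 36], [], (nat_lit 38), ⟨[nat_lit 31, nat_lit 52], [nat_lit 0, nat_lit 40, nat_lit 63], ⟨[nat_lit 0xbd14b64db1080c7aa2c97ba50188a4], [nat_lit 171520, nat_lit 165632, nat_lit 161408, nat_lit 158400, nat_lit 153088, nat_lit 147872, nat_lit 147432, nat_lit 142204, nat_lit 138660, nat_lit 133139, nat_lit 606, nat_lit 4952, nat_lit 8208, nat_lit 12304, nat_lit 16448, nat_lit 25088, nat_lit 29696, nat_lit 33280, nat_lit 37888, nat_lit 41973, nat_lit 37098, nat_lit 33914, nat_lit 29022, nat_lit 24593, nat_lit 21017, nat_lit 16385, nat_lit 12289, nat_lit 8193, nat_lit 4128]⟩⟩⟩,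
  ⟨[nat_lit 36, nat_lit 43, nat_lit 41, nat_lit 15, nat_lit 14], [], (nat_lit 38), ⟨[nat_lit 0, nat_lit 29, nat_lit 55], [nat_lit 0, nat_lit 40, nat_lit 69], ⟨[nat_lit 0x909c59a6d16d58880de4598f70d00a], [nat_lit 175104, nat_lit 168448, nat_lit 166400, nat_lit 163200, nat_lit 158144, nat_lit 152512, nat_lit 149424, nat_lit 144624, nat_lit 142248, nat_lit 137318, nat_lit 132637, nat_lit 724, nat_lit 5904, nat_lit 8944, nat_lit 13888, nat_lit 16800, nat_lit 20608, nat_lit 26496, nat_lit 30208, nat_lit 34304, nat_lit 37888, nat_lit 41638, nat_lit 38013, nat_lit 32918, nat_lit 28701, nat_lit 25149, nat_lit 20486, nat_lit 16522, nat_lit 12417, nat_lit 8194, nat_lit 4097]⟩⟩⟩]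
theorem thf1_1 : Suf thT 19005990 (lapp (thP.getD 3 []) [5, 0, 1]) (thT.get 4 :: apW dcM q0) (tgtN dcM q0.e) := Suf.seg (l := lth218) (by decide +kernel) sth219

def pth220 : AP := ⟨[nat_lit 16, nat_lit 14, nat_lit 631, nat_lit 16], [], (nat_lit 38), ⟨[nat_lit 43, nat_lit 53], [nat_lit 87, nat_lit 63], ⟨[nat_lit 0x7912c188ea9b68135576bc1c08a0b2], [nat_lit 164608, nat_lit 161408, nat_lit 156224, nat_lit 151840, nat_lit 148432, nat_lit 144696, nat_lit 142948, nat_lit 136370, nat_lit 132363, nat_lit 4540, nat_lit 8448, nat_lit 13728, nat_lit 18080, nat_lit 20736, nat_lit 25088, nat_lit 37888, nat_lit 41796, nat_lit 37987, nat_lit 32957, nat_lit 28973, nat_lit 25615, nat_lit 20763, nat_lit 16517, nat_lit 12359, nat_lit 4128, nat_lit 16]⟩⟩⟩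
def lth221 : List AP := [⟨[nat_lit 36, nat_lit 37, nat_lit 16], [], (nat_lit 38), ⟨[nat_lit 0, nat_lit 87, nat_lit 66], [nat_lit 0, nat_lit 76, nat_lit 52], ⟨[nat_lit 0xb1de1a00ad4b22e5de5554cc412203], [nat_lit 173056, nat_lit 161664, nat_lit 156672, nat_lit 152608, nat_lit 147472, nat_lit 143688, nat_lit 141032, nat_lit 135332, nat_lit 134923, nat_lit 8, nat_lit 4160, nat_lit 8448, nat_lit 12544, nat_lit 16640, nat_lit 20608, nat_lit 24832, nat_lit 29696, nat_lit 33280, nat_lit 37888, nat_lit 41486, nat_lit 37257, nat_lit 33451, nat_lit 29184, nat_lit 24620, nat_lit 20551, nat_lit 16393, nat_lit 12293, nat_lit 8200, nat_lit 4128]⟩⟩⟩,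
  ⟨[nat_lit 41, nat_lit 41], [], (nat_lit 1032), ⟨[nat_lit 43, nat_lit 91], [nat_lit 0, nat_lit 22, nat_lit 56], ⟨[nat_lit 0x55991adc269510e4946b7b40480a67], [nat_lit 174080, nat_lit 168960, nat_lit 164864, nat_lit 160768, nat_lit 157952, nat_lit 155552, nat_lit 150448, nat_lit 143392, nat_lit 142608, nat_lit 136652, nat_lit 133146, nat_lit 1178, nat_lit 5688, nat_lit 8256, nat_lit 13936, nat_lit 16896, nat_lit 20608, nat_lit 24832, nat_lit 30208, nat_lit 33792, nat_lit 37888, nat_lit 41576, nat_lit 37341, nat_lit 33320, nat_lit 28724, nat_lit 24866, nat_lit 20611, nat_lit 16416, nat_lit 12802, nat_lit 8200, nat_lit 4]⟩⟩⟩]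
theorem sth221 : Suf thT 19005990 (ldrop (lapp (thP.getD 3 []) [7, 0, 1]) 6) (apW dcM pth220) (tgtN dcM pth220.e) := Suf.fin' (l := lth221) (by decide +kernel)
def lth220 : List AP := [⟨[nat_lit 631, nat_lit 631, nat_lit 15, nat_lit 40], [], (nat_lit 39), ⟨[nat_lit 76, nat_lit 48], [nat_lit 28, nat_lit 51], ⟨[nat_lit 0x21971516e2be6d30e013c52ab1255], [nat_lit 173056, nat_lit 165632, nat_lit 160768, nat_lit 156928, nat_lit 153792, nat_lit 148160, nat_lit 144824, nat_lit 141004, nat_lit 135222, nat_lit 132551, nat_lit 1730, nat_lit 5240, nat_lit 9944, nat_lit 12640, nat_lit 16864, nat_lit 20928, nat_lit 24960, nat_lit 30208, nat_lit 33792, nat_lit 37888, nat_lit 41568, nat_lit 38370, nat_lit 32858, nat_lit 28742, nat_lit 24620, nat_lit 20571, nat_lit 16385, nat_lit 12359, nat_lit 8227, nat_lit 4105]⟩⟩⟩,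
  ⟨[nat_lit 41, nat_lit 39, nat_lit 632], [], (nat_lit 38), ⟨[nat_lit 0, nat_lit 39, nat_lit 69], [nat_lit 0, nat_lit 15, nat_lit 92], ⟨[nat_lit 0xb24d50050775223540b3936e27916c], [nat_lit 173056, nat_lit 164608, nat_lit 160896, nat_lit 156352, nat_lit 153184, nat_lit 143624, nat_lit 140328, nat_lit 138430, nat_lit 132525, nat_lit 2012, nat_lit 5064, nat_lit 8208, nat_lit 14192, nat_lit 17120, nat_lit 21632, nat_lit 25344, nat_lit 30464, nat_lit 34304, nat_lit 37888, nat_lit 41867, nat_lit 38353, nat_lit 33009, nat_lit 28771, nat_lit 24577, nat_lit 20509, nat_lit 16419, nat_lit 12308, nat_lit 8208, nat_lit 4100, nat_lit 32]⟩⟩⟩]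
theorem thf2_1 : Suf thT 19005990 (lapp (thP.getD 3 []) [7, 0, 1]) (thT.get 6 :: apW dcM q0) (tgtN dcM q0.e) := Suf.seg (l := lth220) (by decide +kernel) sth221

def lth222 : List AP := [⟨[], [], (nat_lit 1032), ⟨[], [nat_lit 0], ⟨[], [nat_lit 173056, nat_lit 164096, nat_lit 147472, nat_lit 143368]⟩⟩⟩]
theorem thf1_2 : Suf thT 19005990 (lapp (thP.getD 5 []) [5, 0, 1]) (thT.get 4 :: apW dcM q0) (tgtN dcM q0.e) := Suf.fin' (l := lth222) (by decide +kernel)

def lth223 : List AP := [⟨[], [], (nat_lit 1032), ⟨[nat_lit 41, nat_lit 56], [], ⟨[], [nat_lit 173056, nat_lit 159872, nat_lit 155712, nat_lit 131073]⟩⟩⟩]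
theorem thf2_2 : Suf thT 19005990 (lapp (thP.getD 5 []) [7, 0, 1]) (thT.get 6 :: apW dcM q0) (tgtN dcM q0.e) := Suf.fin' (l := lth223) (by decide +kernel)

def lth224 : List AP := [⟨[nat_lit 14, nat_lit 633], [], (nat_lit 1032), ⟨[nat_lit 3, nat_lit 94], [nat_lit 3, nat_lit 63], ⟨[nat_lit 0x3a6b362c2a838113348395ca8b0a8f], [nat_lit 169984, nat_lit 167680, nat_lit 162688, nat_lit 158976, nat_lit 151648, nat_lit 150384, nat_lit 147432, nat_lit 140544, nat_lit 138642, nat_lit 132963, nat_lit 1488, nat_lit 5112, nat_lit 8224, nat_lit 14144, nat_lit 18272, nat_lit 21568, nat_lit 25856, nat_lit 28928, nat_lit 33280, nat_lit 37888, nat_lit 41959, nat_lit 37048, nat_lit 32810, nat_lit 28770, nat_lit 24633, nat_lit 20485, nat_lit 16459, nat_lit 12291, nat_lit 8194, nat_lit 8]⟩⟩⟩]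
theorem thf1_3 : Suf thT 19005990 (lapp (thP.getD 7 []) [5, 0, 1]) (thT.get 4 :: apW dcM q0) (tgtN dcM q0.e) := Suf.fin' (l := lth224) (by decide +kernel)

def lth225 : List AP := [⟨[nat_lit 630, nat_lit 36], [], (nat_lit 1032), ⟨[nat_lit 25, nat_lit 55], [nat_lit 5, nat_lit 59], ⟨[nat_lit 0x35eae8b66540654582d03a5ea20983], [nat_lit 173056, nat_lit 169472, nat_lit 167680, nat_lit 162432, nat_lit 159168, nat_lit 155392, nat_lit 147968, nat_lit 147112, nat_lit 142436, nat_lit 135260, nat_lit 134897, nat_lit 484, nat_lit 4404, nat_lit 8200, nat_lit 12304, nat_lit 18368, nat_lit 20544, nat_lit 26368, nat_lit 34304, nat_lit 41131, nat_lit 37006, nat_lit 32921, nat_lit 28984, nat_lit 24601, nat_lit 20501, nat_lit 16394, nat_lit 12289, nat_lit 8193, nat_lit 4097]⟩⟩⟩]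
theorem thf2_3 : Suf thT 19005990 (lapp (thP.getD 7 []) [7, 0, 1]) (thT.get 6 :: apW dcM q0) (tgtN dcM q0.e) := Suf.fin' (l := lth225) (by decide +kernel)

def lth226 : List AP := [⟨[], [], (nat_lit 1032), ⟨[nat_lit 0, nat_lit 19, nat_lit 62], [nat_lit 0, nat_lit 11, nat_lit 58], ⟨[nat_lit 0x29e959b5907ba5102923b12e64082b], [nat_lit 168960, nat_lit 166400, nat_lit 163328, nat_lit 159488, nat_lit 153856, nat_lit 149488, nat_lit 145728, nat_lit 143064, nat_lit 135456, nat_lit 133435, nat_lit 566, nat_lit 4100, nat_lit 8448, nat_lit 13264, nat_lit 16832, nat_lit 22208, nat_lit 24832, nat_lit 30208, nat_lit 33280, nat_lit 37888, nat_lit 41439, nat_lit 37157, nat_lit 32791, nat_lit 29719, nat_lit 24591, nat_lit 21023, nat_lit 16421, nat_lit 12295, nat_lit 8200, nat_lit 4100]⟩⟩⟩]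
theorem thf1_4 : Suf thT 19005990 (lapp (thP.getD 9 []) [5, 0, 1]) (thT.get 4 :: apW dcM q0) (tgtN dcM q0.e) := Suf.fin' (l := lth226) (by decide +kernel)

def lth227 : List AP := [⟨[nat_lit 17, nat_lit 36], [], (nat_lit 1032), ⟨[nat_lit 0, nat_lit 32, nat_lit 67], [nat_lit 0, nat_lit 28, nat_lit 66], ⟨[nat_lit 0xb1a740b6ab53ae218207911287b225], [nat_lit 173056, nat_lit 169472, nat_lit 167680, nat_lit 161792, nat_lit 159552, nat_lit 154624, nat_lit 148256, nat_lit 146640, nat_lit 143192, nat_lit 135856, nat_lit 133383, nat_lit 364, nat_lit 4924, nat_lit 8928, nat_lit 14304, nat_lit 20608, nat_lit 24960, nat_lit 28928, nat_lit 33280, nat_lit 37888, nat_lit 41873, nat_lit 37298, nat_lit 32974, nat_lit 28699, nat_lit 24841, nat_lit 20481, nat_lit 16522, nat_lit 12289, nat_lit 8256, nat_lit 4100]⟩⟩⟩]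
theorem thf2_4 : Suf thT 19005990 (lapp (thP.getD 9 []) [7, 0, 1]) (thT.get 6 :: apW dcM q0) (tgtN dcM q0.e) := Suf.fin' (l := lth227) (by decide +kernel)

def lth228 : List AP := [⟨[nat_lit 39, nat_lit 39], [], (nat_lit 1032), ⟨[nat_lit 87, nat_lit 58], [nat_lit 0, nat_lit 8, nat_lit 64], ⟨[nat_lit 0x4a2208e7045135695e65aad723987], [nat_lit 173056, nat_lit 169472, nat_lit 160640, nat_lit 156032, nat_lit 153376, nat_lit 148176, nat_lit 146248, nat_lit 140492, nat_lit 136154, nat_lit 132581, nat_lit 1174, nat_lit 4404, nat_lit 10168, nat_lit 12304, nat_lit 16832, nat_lit 22080, nat_lit 26368, nat_lit 28928, nat_lit 33280, nat_lit 37888, nat_lit 41653, nat_lit 38308, nat_lit 32984, nat_lit 28755, nat_lit 24715, nat_lit 20500, nat_lit 16419]⟩⟩⟩]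
theorem thf1_5 : Suf thT 19005990 (lapp (thP.getD 11 []) [5, 0, 1]) (thT.get 4 :: apW dcM q0) (tgtN dcM q0.e) := Suf.fin' (l := lth228) (by decide +kernel)

def lth229 : List AP := [⟨[nat_lit 43, nat_lit 632], [], (nat_lit 1032), ⟨[nat_lit 0, nat_lit 48], [nat_lit 7, nat_lit 69], ⟨[nat_lit 0x524419bdd0945ac2dae758103352a4], [nat_lit 174080, nat_lit 171520, nat_lit 167680, nat_lit 161664, nat_lit 159488, nat_lit 153920, nat_lit 149088, nat_lit 146104, nat_lit 139272, nat_lit 135786, nat_lit 131773, nat_lit 1778, nat_lit 4112, nat_lit 8776, nat_lit 13152, nat_lit 17248, nat_lit 22336, nat_lit 25600, nat_lit 29440, nat_lit 34304, nat_lit 41643, nat_lit 37300, nat_lit 32877, nat_lit 29244, nat_lit 24584, nat_lit 20506, nat_lit 16426, nat_lit 8449, nat_lit 4129, nat_lit 2]⟩⟩⟩]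
theorem thf2_5 : Suf thT 19005990 (lapp (thP.getD 11 []) [7, 0, 1]) (thT.get 6 :: apW dcM q0) (tgtN dcM q0.e) := Suf.fin' (l := lth229) (by decide +kernel)

def lth230 : List AP := [⟨[nat_lit 39, nat_lit 39], [], (nat_lit 1032), ⟨[nat_lit 19, nat_lit 92], [nat_lit 39, nat_lit 91], ⟨[nat_lit 0x4a222a82928386c6acb779aca24c27], [nat_lit 169472, nat_lit 164096, nat_lit 160896, nat_lit 156288, nat_lit 151712, nat_lit 147504, nat_lit 143480, nat_lit 140864, nat_lit 136208, nat_lit 133944, nat_lit 1180, nat_lit 5276, nat_lit 8792, nat_lit 12864, nat_lit 16832, nat_lit 22016, nat_lit 26240, nat_lit 29440, nat_lit 34304, nat_lit 37888, nat_lit 41029, nat_lit 36965, nat_lit 33004, nat_lit 29012, nat_lit 24581, nat_lit 20609, nat_lit 16390, nat_lit 12324, nat_lit 8203, nat_lit 4097, nat_lit 2]⟩⟩⟩]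
theorem thf1_6 : Suf thT 19005990 (lapp (thP.getD 13 []) [5, 0, 1]) (thT.get 4 :: apW dcM q0) (tgtN dcM q0.e) := Suf.fin' (l := lth230) (by decide +kernel)

def lth231 : List AP := [⟨[nat_lit 631, nat_lit 15, nat_lit 36], [], (nat_lit 1032), ⟨[nat_lit 8, nat_lit 49], [nat_lit 0, nat_lit 88, nat_lit 61], ⟨[nat_lit 0x21d9370c30bd5f1015366aa4858a86], [nat_lit 173056, nat_lit 169472, nat_lit 165376, nat_lit 161024, nat_lit 156160, nat_lit 152384, nat_lit 148608, nat_lit 146552, nat_lit 140208, nat_lit 135958, nat_lit 132196, nat_lit 1614, nat_lit 5112, nat_lit 8200, nat_lit 12320, nat_lit 17088, nat_lit 21504, nat_lit 25600, nat_lit 29440, nat_lit 33280, nat_lit 37888, nat_lit 41149, nat_lit 37170, nat_lit 32815, nat_lit 29717, nat_lit 24616, nat_lit 20489, nat_lit 16906, nat_lit 12290, nat_lit 4104, nat_lit 32]⟩⟩⟩]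
theorem thf2_6 : Suf thT 19005990 (lapp (thP.getD 13 []) [7, 0, 1]) (thT.get 6 :: apW dcM q0) (tgtN dcM q0.e) := Suf.fin' (l := lth231) (by decide +kernel)

def lth232 : List AP := [⟨[nat_lit 39, nat_lit 39], [], (nat_lit 1032), ⟨[nat_lit 0, nat_lit 82, nat_lit 52], [nat_lit 3, nat_lit 67], ⟨[nat_lit 0xb368c08e3094c02415643a926bbaaf], [nat_lit 173056, nat_lit 160768, nat_lit 156672, nat_lit 152960, nat_lit 147520, nat_lit 146592, nat_lit 139668, nat_lit 136524, nat_lit 131742, nat_lit 394, nat_lit 4756, nat_lit 10168, nat_lit 13152, nat_lit 17216, nat_lit 21376, nat_lit 25600, nat_lit 33280, nat_lit 37888, nat_lit 41937, nat_lit 37096, nat_lit 32952, nat_lit 28794, nat_lit 24722, nat_lit 20482, nat_lit 16514, nat_lit 12307, nat_lit 4104, nat_lit 2]⟩⟩⟩]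
theorem thf1_7 : Suf thT 19005990 (lapp (thP.getD 15 []) [5, 0, 1]) (thT.get 4 :: apW dcM q0) (tgtN dcM q0.e) := Suf.fin' (l := lth232) (by decide +kernel)

def lth233 : List AP := [⟨[nat_lit 631, nat_lit 15, nat_lit 36], [], (nat_lit 1032), ⟨[nat_lit 0, nat_lit 44, nat_lit 65], [nat_lit 0, nat_lit 77, nat_lit 58], ⟨[nat_lit 0xb35c262e264d101282e43c94f1ceb0], [nat_lit 170496, nat_lit 166656, nat_lit 162944, nat_lit 158400, nat_lit 152576, nat_lit 150384, nat_lit 147432, nat_lit 140964, nat_lit 137702, nat_lit 133058, nat_lit 1698, nat_lit 5016, nat_lit 9384, nat_lit 12352, nat_lit 18048, nat_lit 21632, nat_lit 25600, nat_lit 30464, nat_lit 33792, nat_lit 37888, nat_lit 41026, nat_lit 36930, nat_lit 32978, nat_lit 28787, nat_lit 24578, nat_lit 20494, nat_lit 16521, nat_lit 12290, nat_lit 8195, nat_lit 4097, nat_lit 2]⟩⟩⟩]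
theorem thf2_7 : Suf thT 19005990 (lapp (thP.getD 15 []) [7, 0, 1]) (thT.get 6 :: apW dcM q0) (tgtN dcM q0.e) := Suf.fin' (l := lth233) (by decide +kernel)


end

end CF.Mon.Tr
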