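import Cfsg.Agent.Mon.hnD

set_option autoImplicit false
set_option maxRecDepth 100000

namespace CF.Mon.Tr

open CF.Comp

noncomputable section

def phn74 : AP := ⟨[nat_lit 642, nat_lit 46, nat_lit 57, nat_lit 49], [], (nat_lit 178), ⟨[nat_lit 12, nat_lit 53], [nat_lit 79], ⟨[nat_lit 0xad14929c60845ec74db2090c242ed7], [nat_lit 175104, nat_lit 168448, nat_lit 165120, nat_lit 161792, nat_lit 156480, nat_lit 153056, nat_lit 151392, nat_lit 145440, nat_lit 142900, nat_lit 138304, nat_lit 134807, nat_lit 1966, nat_lit 5668, nat_lit 9928, nat_lit 14272, nat_lit 16928, nat_lit 21184, nat_lit 26368, nat_lit 29696, nat_lit 37888, nat_lit 41697, nat_lit 38200, nat_lit 32785, nat_lit 29256, nat_lit 24602, nat_lit 20499, nat_lit 16397, nat_lit 12308, nat_lit 8195, nat_lit 4]⟩⟩⟩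
def phn75 : AP := ⟨[nat_lit 85, nat_lit 87, nat_lit 76], [], (nat_lit 182), ⟨[nat_lit 0, nat_lit 40, nat_lit 93], [nat_lit 0, nat_lit 84, nat_lit 56], ⟨[nat_lit 0x186156ac07426748beee2a98295886], [nat_lit 173056, nat_lit 170496, nat_lit 166912, nat_lit 163200, nat_lit 158016, nat_lit 152480, nat_lit 149584, nat_lit 146864, nat_lit 139640, nat_lit 138118, nat_lit 131249, nat_lit 1720, nat_lit 5064, nat_lit 9216, nat_lit 13792, nat_lit 17408, nat_lit 21824, nat_lit 25216, nat_lit 29440, nat_lit 34304, nat_lit 41265, nat_lit 37067, nat_lit 33879, nat_lit 28708, nat_lit 24891, nat_lit 20613, nat_lit 16390, nat_lit 12359, nat_lit 8209, nat_lit 4]⟩⟩⟩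
def lhn76 : List AP := [⟨[nat_lit 642, nat_lit 46, nat_lit 57, nat_lit 49], [], (nat_lit 178), ⟨[nat_lit 84, nat_lit 50], [nat_lit 0, nat_lit 22, nat_lit 92], ⟨[nat_lit 0x1d5e64c040891457364b09d9444ef6], [nat_lit 168448, nat_lit 165376, nat_lit 159296, nat_lit 152992, nat_lit 148128, nat_lit 144168, nat_lit 140204, nat_lit 136976, nat_lit 131835, nat_lit 760, nat_lit 5688, nat_lit 9928, nat_lit 13296, nat_lit 16896, nat_lit 21504, nat_lit 24832, nat_lit 29696, nat_lit 33792, nat_lit 41431, nat_lit 36988, nat_lit 32930, nat_lit 29020, nat_lit 24585, nat_lit 20638, nat_lit 16526, nat_lit 12353, nat_lit 8195, nat_lit 4100]⟩⟩⟩,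
  ⟨[nat_lit 76], [], (nat_lit 196), ⟨[nat_lit 86, nat_lit 60], [nat_lit 41, nat_lit 48], ⟨[nat_lit 0x1490101db760e845c5cf4c0a654ed5], [nat_lit 175104, nat_lit 169472, nat_lit 164864, nat_lit 162816, nat_lit 156096, nat_lit 153408, nat_lit 149760, nat_lit 145552, nat_lit 141844, nat_lit 138320, nat_lit 134261, nat_lit 738, nat_lit 5668, nat_lit 9560, nat_lit 13952, nat_lit 16864, nat_lit 22272, nat_lit 25856, nat_lit 29696, nat_lit 33280, nat_lit 37888, nat_lit 41829, nat_lit 38379, nat_lit 32973, nat_lit 28709, nat_lit 24630, nat_lit 20507, nat_lit 16430, nat_lit 12327, nat_lit 8200, nat_lit 16]⟩⟩⟩,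
  ⟨[nat_lit 40, nat_lit 15, nat_lit 36], [], (nat_lit 1032), ⟨[nat_lit 0, nat_lit 30, nat_lit 63], [nat_lit 27, nat_lit 63], ⟨[nat_lit 0x4926c0be8d538d142ee3014f690ab0], [nat_lit 174080, nat_lit 171008, nat_lit 166400, nat_lit 160384, nat_lit 158016, nat_lit 153600, nat_lit 149152, nat_lit 146944, nat_lit 140308, nat_lit 136980, nat_lit 132176, nat_lit 1698, nat_lit 5208, nat_lit 10088, nat_lit 14176, nat_lit 17216, nat_lit 21824, nat_lit 30208, nat_lit 34304, nat_lit 41608, nat_lit 37224, nat_lit 33352, nat_lit 29717, nat_lit 24599, nat_lit 20486, nat_lit 16460, nat_lit 4112, nat_lit 2]⟩⟩⟩]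
theorem shn76 : Suf hnT 19005990 (ldrop (lapp hnwr4 [3, 0, 1]) 22) (apW dcM phn75) (tgtN dcM phn75.e) := Suf.fin' (l := lhn76) (by decide +kernel)
def lhn75 : List AP := [⟨[nat_lit 76], [], (nat_lit 196), ⟨[nat_lit 84, nat_lit 62], [nat_lit 0, nat_lit 75, nat_lit 69], ⟨[nat_lit 0x1350009e5780e8553a334b0865beb6], [nat_lit 174080, nat_lit 168960, nat_lit 161792, nat_lit 157120, nat_lit 153472, nat_lit 149728, nat_lit 145792, nat_lit 143332, nat_lit 138336, nat_lit 133344, nat_lit 1488, nat_lit 5208, nat_lit 8824, nat_lit 12512, nat_lit 16832, nat_lit 22208, nat_lit 25984, nat_lit 29440, nat_lit 34304, nat_lit 41969, nat_lit 38270, nat_lit 32784, nat_lit 28767, nat_lit 24749, nat_lit 20556, nat_lit 16417, nat_lit 12293, nat_lit 8195, nat_lit 4101, nat_lit 4]⟩⟩⟩,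
  ⟨[nat_lit 41, nat_lit 38, nat_lit 17, nat_lit 15, nat_lit 632, nat_lit 14], [], (nat_lit 150), ⟨[nat_lit 0, nat_lit 82, nat_lit 90], [nat_lit 5, nat_lit 46], ⟨[nat_lit 0x7d20d8dca449c6eb226a3300ba8832], [nat_lit 175104, nat_lit 168960, nat_lit 164352, nat_lit 160768, nat_lit 157888, nat_lit 153824, nat_lit 150000, nat_lit 143872, nat_lit 141944, nat_lit 135414, nat_lit 133907, nat_lit 1140, nat_lit 12608, nat_lit 17024, nat_lit 20608, nat_lit 25728, nat_lit 29184, nat_lit 34304, nat_lit 41215, nat_lit 36993, nat_lit 32870, nat_lit 28788, nat_lit 24741, nat_lit 20620, nat_lit 16395, nat_lit 12309, nat_lit 8193, nat_lit 4097]⟩⟩⟩]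
theorem shn75 : Suf hnT 19005990 (ldrop (lapp hnwr4 [3, 0, 1]) 10) (apW dcM phn74) (tgtN dcM phn74.e) := Suf.seg (l := lhn75) (by decide +kernel) shn76
def lhn74 : List AP := [⟨[nat_lit 17, nat_lit 40, nat_lit 38, nat_lit 632, nat_lit 631, nat_lit 40], [], (nat_lit 150), ⟨[nat_lit 80, nat_lit 61], [nat_lit 23, nat_lit 68], ⟨[nat_lit 0xad15265ce2780d69b9a92c08888c2b], [nat_lit 175104, nat_lit 169472, nat_lit 164608, nat_lit 160512, nat_lit 157888, nat_lit 153856, nat_lit 150080, nat_lit 145320, nat_lit 142828, nat_lit 137004, nat_lit 134322, nat_lit 1966, nat_lit 4104, nat_lit 8200, nat_lit 12800, nat_lit 17088, nat_lit 20928, nat_lit 24704, nat_lit 29184, nat_lit 33792, nat_lit 41939, nat_lit 38129, nat_lit 33399, nat_lit 29712, nat_lit 24732, nat_lit 21009, nat_lit 16387, nat_lit 12356, nat_lit 8256, nat_lit 4100]⟩⟩⟩,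
  ⟨[nat_lit 76, nat_lit 86], [], (nat_lit 182), ⟨[nat_lit 0, nat_lit 25, nat_lit 52], [nat_lit 0, nat_lit 82, nat_lit 93], ⟨[nat_lit 0x8a6eba0654aa0f8d5943aec093486], [nat_lit 173056, nat_lit 169472, nat_lit 167424, nat_lit 160000, nat_lit 156608, nat_lit 152416, nat_lit 148656, nat_lit 144144, nat_lit 139564, nat_lit 135426, nat_lit 133020, nat_lit 1516, nat_lit 5064, nat_lit 8680, nat_lit 13904, nat_lit 16960, nat_lit 20672, nat_lit 37888, nat_lit 41810, nat_lit 37962, nat_lit 32992, nat_lit 29005, nat_lit 24864, nat_lit 20609, nat_lit 16909, nat_lit 12324, nat_lit 8208, nat_lit 5120, nat_lit 4]⟩⟩⟩]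
theorem hncr4_2 : Suf hnT 19005990 (lapp hnwr4 [3, 0, 1]) (iC3 :: apW dcM q0) (tgtN dcM q0.e) := Suf.seg (l := lhn74) (by decide +kernel) shn75

def phn77 : AP := ⟨[nat_lit 67, nat_lit 57, nat_lit 640, nat_lit 70], [], (nat_lit 1046), ⟨[nat_lit 0, nat_lit 74], [nat_lit 20, nat_lit 52], ⟨[nat_lit 0xa8ac1299eebd060921534ae1161da4], [nat_lit 175104, nat_lit 168448, nat_lit 165632, nat_lit 161536, nat_lit 155776, nat_lit 152480, nat_lit 148416, nat_lit 144872, nat_lit 141016, nat_lit 136136, nat_lit 132973, nat_lit 508, nat_lit 5488, nat_lit 9304, nat_lit 13296, nat_lit 18272, nat_lit 21824, nat_lit 25088, nat_lit 30208, nat_lit 34304, nat_lit 41850, nat_lit 38338, nat_lit 33977, nat_lit 28931, nat_lit 24764, nat_lit 20558, nat_lit 16418, nat_lit 12354, nat_lit 8201, nat_lit 4100, nat_lit 2]⟩⟩⟩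
def phn78 : AP := ⟨[nat_lit 171, nat_lit 175, nat_lit 171], [], (nat_lit 396), ⟨[nat_lit 28, nat_lit 90], [nat_lit 28, nat_lit 67], ⟨[nat_lit 0x2cc471ae09a5e207b03269ac8aa9c4], [nat_lit 173056, nat_lit 171520, nat_lit 167680, nat_lit 163200, nat_lit 159552, nat_lit 153312, nat_lit 149968, nat_lit 147288, nat_lit 140144, nat_lit 137644, nat_lit 132223, nat_lit 1794, nat_lit 5228, nat_lit 10144, nat_lit 13776, nat_lit 16640, nat_lit 20672, nat_lit 25984, nat_lit 30208, nat_lit 41238, nat_lit 37078, nat_lit 32790, nat_lit 28705, nat_lit 25146, nat_lit 20507, nat_lit 16390, nat_lit 12324, nat_lit 8195, nat_lit 4]⟩⟩⟩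
def lhn79 : List AP := [⟨[nat_lit 67, nat_lit 57, nat_lit 640, nat_lit 70], [], (nat_lit 1046), ⟨[nat_lit 78, nat_lit 51], [nat_lit 16, nat_lit 70], ⟨[nat_lit 0x35e75549641d90f804474b0142c5cd], [nat_lit 164608, nat_lit 161664, nat_lit 156480, nat_lit 151744, nat_lit 147792, nat_lit 143480, nat_lit 139628, nat_lit 135374, nat_lit 132154, nat_lit 492, nat_lit 4280, nat_lit 9648, nat_lit 13520, nat_lit 16416, nat_lit 20992, nat_lit 25344, nat_lit 33280, nat_lit 40982, nat_lit 36962, nat_lit 32827, nat_lit 28685, nat_lit 25106, nat_lit 20567, nat_lit 16448, nat_lit 12421, nat_lit 8227, nat_lit 4129]⟩⟩⟩,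
  ⟨[nat_lit 217], [], (nat_lit 339), ⟨[nat_lit 0, nat_lit 30, nat_lit 56], [nat_lit 0, nat_lit 43, nat_lit 68], ⟨[nat_lit 0x719e76958488c534deaa80412a5968], [nat_lit 173056, nat_lit 169472, nat_lit 164608, nat_lit 162816, nat_lit 155712, nat_lit 152096, nat_lit 149488, nat_lit 144128, nat_lit 135990, nat_lit 132397, nat_lit 952, nat_lit 4952, nat_lit 9592, nat_lit 13200, nat_lit 20736, nat_lit 26240, nat_lit 28928, nat_lit 41930, nat_lit 38340, nat_lit 33011, nat_lit 28713, nat_lit 24867, nat_lit 20622, nat_lit 16448, nat_lit 12417, nat_lit 8226, nat_lit 4]⟩⟩⟩,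
  ⟨[], [], (nat_lit 1034), ⟨[nat_lit 7, nat_lit 68], [nat_lit 74, nat_lit 64], ⟨[nat_lit 0x9b16508283499b28a1c7156d7511f0], [nat_lit 168448, nat_lit 164608, nat_lit 159872, nat_lit 157248, nat_lit 153120, nat_lit 147536, nat_lit 145088, nat_lit 141120, nat_lit 136136, nat_lit 134980, nat_lit 64, nat_lit 4152, nat_lit 9248, nat_lit 14112, nat_lit 16448, nat_lit 22400, nat_lit 24704, nat_lit 29952, nat_lit 33792, nat_lit 41530, nat_lit 37217, nat_lit 32902, nat_lit 29022, nat_lit 24617, nat_lit 20552, nat_lit 16388, nat_lit 12290, nat_lit 8209, nat_lit 4105]⟩⟩⟩]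
theorem shn79 : Suf hnT 2048 (ldrop (lapp hnwr4 [1, 0, 1]) 22) (apW dcM phn78) (tgtN dcM phn78.e) := Suf.fin' (l := lhn79) (by decide +kernel)
def lhn78 : List AP := [⟨[nat_lit 217], [], (nat_lit 339), ⟨[nat_lit 54], [nat_lit 6, nat_lit 54], ⟨[nat_lit 0xb4e2011aa4730770d149449e72b60b], [nat_lit 174080, nat_lit 168960, nat_lit 165376, nat_lit 160256, nat_lit 155904, nat_lit 152224, nat_lit 148304, nat_lit 143496, nat_lit 140816, nat_lit 135984, nat_lit 131508, nat_lit 566, nat_lit 5016, nat_lit 8680, nat_lit 13856, nat_lit 16512, nat_lit 22336, nat_lit 24960, nat_lit 29696, nat_lit 37277, nat_lit 33014, nat_lit 28744, nat_lit 24728, nat_lit 20753, nat_lit 16457, nat_lit 12305, nat_lit 8224, nat_lit 4101, nat_lit 4]⟩⟩⟩,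
  ⟨[nat_lit 634, nat_lit 24, nat_lit 635, nat_lit 22, nat_lit 32], [], (nat_lit 391), ⟨[nat_lit 0, nat_lit 2, nat_lit 66], [nat_lit 41, nat_lit 91], ⟨[nat_lit 0x716816410fb2ef1692a39080a3a4d3], [nat_lit 173056, nat_lit 169472, nat_lit 165120, nat_lit 161536, nat_lit 158656, nat_lit 153408, nat_lit 148336, nat_lit 144600, nat_lit 140048, nat_lit 136642, nat_lit 131832, nat_lit 526, nat_lit 4548, nat_lit 8472, nat_lit 13888, nat_lit 17024, nat_lit 21760, nat_lit 25600, nat_lit 28928, nat_lit 33280, nat_lit 37888, nat_lit 41116, nat_lit 37184, nat_lit 33352, nat_lit 28747, nat_lit 24616, nat_lit 20566, nat_lit 16427, nat_lit 12327, nat_lit 8211, nat_lit 4100]⟩⟩⟩]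
theorem shn78 : Suf hnT 2048 (ldrop (lapp hnwr4 [1, 0, 1]) 10) (apW dcM phn77) (tgtN dcM phn77.e) := Suf.seg (l := lhn78) (by decide +kernel) shn79
def lhn77 : List AP := [⟨[nat_lit 638, nat_lit 21, nat_lit 634, nat_lit 638, nat_lit 22, nat_lit 21], [], (nat_lit 338), ⟨[nat_lit 0, nat_lit 87, nat_lit 46], [nat_lit 0, nat_lit 27, nat_lit 55], ⟨[nat_lit 0xb4e4c71aa7101b47dd495c42428e08], [nat_lit 174080, nat_lit 169472, nat_lit 164864, nat_lit 160256, nat_lit 156288, nat_lit 152096, nat_lit 148992, nat_lit 144264, nat_lit 140892, nat_lit 136540, nat_lit 131264, nat_lit 1438, nat_lit 4476, nat_lit 8560, nat_lit 12416, nat_lit 17408, nat_lit 20544, nat_lit 24832, nat_lit 29696, nat_lit 33792, nat_lit 41472, nat_lit 37005, nat_lit 32890, nat_lit 28686, nat_lit 24891, nat_lit 20760, nat_lit 12422, nat_lit 8322, nat_lit 4128, nat_lit 64]⟩⟩⟩,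
  ⟨[nat_lit 170, nat_lit 217, nat_lit 172], [], (nat_lit 396), ⟨[nat_lit 78, nat_lit 69], [nat_lit 0, nat_lit 10, nat_lit 51], ⟨[nat_lit 0x9ef6115499a28c5be552422030dae], [nat_lit 173056, nat_lit 168448, nat_lit 164608, nat_lit 162944, nat_lit 156096, nat_lit 151616, nat_lit 148736, nat_lit 144656, nat_lit 139376, nat_lit 136338, nat_lit 132163, nat_lit 1624, nat_lit 4720, nat_lit 10168, nat_lit 12880, nat_lit 17984, nat_lit 21568, nat_lit 25216, nat_lit 29184, nat_lit 37888, nat_lit 41536, nat_lit 37291, nat_lit 33392, nat_lit 24837, nat_lit 20481, nat_lit 16455, nat_lit 12305, nat_lit 8258, nat_lit 4161, nat_lit 2]⟩⟩⟩]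
theorem hncr4_3 : Suf hnT 2048 (lapp hnwr4 [1, 0, 1]) (apW dcM q1) (tgtN dcM q1.e) := Suf.seg (l := lhn77) (by decide +kernel) shn78

def phn80 : AP := ⟨[nat_lit 266], [], (nat_lit 494), ⟨[nat_lit 0, nat_lit 9, nat_lit 69], [nat_lit 33, nat_lit 64], ⟨[nat_lit 0xadd81395c0a416489aca409e994c6d], [nat_lit 173056, nat_lit 168960, nat_lit 164096, nat_lit 163072, nat_lit 155712, nat_lit 153504, nat_lit 148944, nat_lit 139468, nat_lit 136498, nat_lit 131744, nat_lit 364, nat_lit 4904, nat_lit 9952, nat_lit 17312, nat_lit 21376, nat_lit 25344, nat_lit 30464, nat_lit 34304, nat_lit 41956, nat_lit 37364, nat_lit 32919, nat_lit 29055, nat_lit 24741, nat_lit 20490, nat_lit 16649, nat_lit 12310, nat_lit 8209, nat_lit 4101]⟩⟩⟩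
def phn81 : AP := ⟨[nat_lit 222, nat_lit 264, nat_lit 223, nat_lit 222, nat_lit 224], [], (nat_lit 756), ⟨[nat_lit 0, nat_lit 4, nat_lit 93], [nat_lit 83], ⟨[nat_lit 0x15d9480e6fb1131698a154aa77010b], [nat_lit 168960, nat_lit 165632, nat_lit 160512, nat_lit 157120, nat_lit 153184, nat_lit 147728, nat_lit 146776, nat_lit 140908, nat_lit 135244, nat_lit 131263, nat_lit 986, nat_lit 4824, nat_lit 9904, nat_lit 12544, nat_lit 16608, nat_lit 20736, nat_lit 26112, nat_lit 29440, nat_lit 33280, nat_lit 37888, nat_lit 41736, nat_lit 37925, nat_lit 32818, nat_lit 28753, nat_lit 24608, nat_lit 20488, nat_lit 16397, nat_lit 12292, nat_lit 8203, nat_lit 4101, nat_lit 4]⟩⟩⟩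
def phn82 : AP := ⟨[nat_lit 354, nat_lit 669, nat_lit 673, nat_lit 284], [], (nat_lit 1188), ⟨[nat_lit 0, nat_lit 13, nat_lit 57], [nat_lit 0, nat_lit 41, nat_lit 60], ⟨[nat_lit 0x302ee9314d5da1588829220f378cb4], [nat_lit 173056, nat_lit 169472, nat_lit 167680, nat_lit 159872, nat_lit 156096, nat_lit 154464, nat_lit 150576, nat_lit 147312, nat_lit 143008, nat_lit 138278, nat_lit 131847, nat_lit 622, nat_lit 4540, nat_lit 10168, nat_lit 14304, nat_lit 18112, nat_lit 22336, nat_lit 25216, nat_lit 29952, nat_lit 34304, nat_lit 41090, nat_lit 37319, nat_lit 32856, nat_lit 29236, nat_lit 24758, nat_lit 20494, nat_lit 16512, nat_lit 12290, nat_lit 8224, nat_lit 16]⟩⟩⟩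
def phn83 : AP := ⟨[nat_lit 291, nat_lit 284, nat_lit 353], [], (nat_lit 874), ⟨[nat_lit 0, nat_lit 14, nat_lit 60], [nat_lit 8, nat_lit 67], ⟨[nat_lit 0x3956c681429a22ea8e44306d0ba5f4], [nat_lit 169472, nat_lit 164096, nat_lit 161664, nat_lit 155712, nat_lit 151584, nat_lit 148240, nat_lit 143968, nat_lit 141084, nat_lit 135936, nat_lit 135010, nat_lit 32, nat_lit 4780, nat_lit 9016, nat_lit 14144, nat_lit 17344, nat_lit 20544, nat_lit 24960, nat_lit 30464, nat_lit 33792, nat_lit 37888, nat_lit 41527, nat_lit 38321, nat_lit 33335, nat_lit 28792, nat_lit 24741, nat_lit 20499, nat_lit 16418, nat_lit 12292, nat_lit 8203, nat_lit 4100]⟩⟩⟩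
def phn84 : AP := ⟨[nat_lit 31, nat_lit 21, nat_lit 32, nat_lit 29, nat_lit 27], [], (nat_lit 176), ⟨[nat_lit 19, nat_lit 51], [nat_lit 82, nat_lit 65], ⟨[nat_lit 0xb8e2bd1e49d9602c1b14caa3530c8], [nat_lit 168448, nat_lit 164864, nat_lit 159872, nat_lit 154144, nat_lit 147824, nat_lit 144744, nat_lit 140612, nat_lit 136712, nat_lit 131369, nat_lit 1554, nat_lit 5436, nat_lit 9216, nat_lit 12544, nat_lit 16640, nat_lit 21504, nat_lit 25728, nat_lit 30464, nat_lit 33280, nat_lit 37888, nat_lit 40992, nat_lit 37320, nat_lit 33512, nat_lit 29209, nat_lit 24737, nat_lit 20484, nat_lit 16456, nat_lit 12305, nat_lit 8226, nat_lit 4100, nat_lit 8]⟩⟩⟩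
def lhn85 : List AP := [⟨[nat_lit 102], [], (nat_lit 196), ⟨[nat_lit 28, nat_lit 56], [nat_lit 39, nat_lit 58], ⟨[nat_lit 0x51ec81009498dc9bc8d06c42b616af], [nat_lit 168960, nat_lit 165376, nat_lit 160640, nat_lit 157120, nat_lit 152384, nat_lit 149008, nat_lit 144480, nat_lit 135258, nat_lit 133808, nat_lit 1896, nat_lit 5856, nat_lit 10072, nat_lit 14304, nat_lit 16960, nat_lit 20736, nat_lit 26240, nat_lit 28928, nat_lit 33792, nat_lit 41865, nat_lit 38352, nat_lit 33984, nat_lit 28779, nat_lit 24706, nat_lit 20544, nat_lit 16387, nat_lit 12295, nat_lit 8202]⟩⟩⟩,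
  ⟨[nat_lit 37, nat_lit 629], [], (nat_lit 1032), ⟨[nat_lit 0, nat_lit 29, nat_lit 55], [nat_lit 0, nat_lit 77, nat_lit 94], ⟨[nat_lit 0x32261616a4b460e6a6ea3ac720504f], [nat_lit 165120, nat_lit 163072, nat_lit 157568, nat_lit 153056, nat_lit 147712, nat_lit 143520, nat_lit 139268, nat_lit 137130, nat_lit 132112, nat_lit 1896, nat_lit 4100, nat_lit 8224, nat_lit 14304, nat_lit 20608, nat_lit 26368, nat_lit 34304, nat_lit 37888, nat_lit 41118, nat_lit 37327, nat_lit 32959, nat_lit 28776, nat_lit 24760, nat_lit 20486, nat_lit 16448, nat_lit 12289, nat_lit 8226, nat_lit 4128, nat_lit 8]⟩⟩⟩]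
theorem shn85 : Suf hnT 19005990 (ldrop (lapp hnwr5 [1, 0, 1]) 50) (apW dcM phn84) (tgtN dcM phn84.e) := Suf.fin' (l := lhn85) (by decide +kernel)
def lhn84 : List AP := [⟨[nat_lit 462, nat_lit 421, nat_lit 421, nat_lit 466, nat_lit 410], [], (nat_lit 1234), ⟨[nat_lit 7, nat_lit 94], [nat_lit 0, nat_lit 6, nat_lit 90], ⟨[nat_lit 0x6a661116a01c56eba8c8b48f07b284], [nat_lit 173056, nat_lit 165120, nat_lit 161792, nat_lit 155712, nat_lit 152960, nat_lit 147712, nat_lit 143720, nat_lit 141156, nat_lit 135638, nat_lit 132948, nat_lit 16, nat_lit 4380, nat_lit 8504, nat_lit 14304, nat_lit 16448, nat_lit 20608, nat_lit 24704, nat_lit 29952, nat_lit 37888, nat_lit 41344, nat_lit 36887, nat_lit 33792, nat_lit 28755, nat_lit 24593, nat_lit 20486, nat_lit 16449, nat_lit 8224, nat_lit 4100, nat_lit 64]⟩⟩⟩,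
  ⟨[nat_lit 213, nat_lit 172], [], (nat_lit 390), ⟨[nat_lit 39, nat_lit 53], [nat_lit 0, nat_lit 11, nat_lit 58], ⟨[nat_lit 0x9584c78e35214ca3ad09981b40baf0], [nat_lit 168448, nat_lit 165376, nat_lit 161280, nat_lit 156608, nat_lit 152160, nat_lit 148432, nat_lit 146872, nat_lit 140540, nat_lit 136132, nat_lit 132817, nat_lit 1076, nat_lit 4160, nat_lit 10168, nat_lit 12352, nat_lit 17824, nat_lit 21376, nat_lit 25856, nat_lit 30208, nat_lit 37888, nat_lit 41349, nat_lit 37192, nat_lit 32918, nat_lit 28785, nat_lit 24726, nat_lit 20553, nat_lit 16521, nat_lit 12290, nat_lit 4105, nat_lit 2]⟩⟩⟩]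
theorem shn84 : Suf hnT 19005990 (ldrop (lapp hnwr5 [1, 0, 1]) 40) (apW dcM phn83) (tgtN dcM phn83.e) := Suf.seg (l := lhn84) (by decide +kernel) shn85
def lhn83 : List AP := [⟨[nat_lit 141, nat_lit 140, nat_lit 656, nat_lit 145, nat_lit 139], [], (nat_lit 736), ⟨[nat_lit 34, nat_lit 89], [nat_lit 0, nat_lit 12, nat_lit 58], ⟨[nat_lit 0xa862d22a7062cafb49c0ba6871a0c2], [nat_lit 175104, nat_lit 169984, nat_lit 167680, nat_lit 160000, nat_lit 155904, nat_lit 152128, nat_lit 151424, nat_lit 143920, nat_lit 139796, nat_lit 139018, nat_lit 134509, nat_lit 1814, nat_lit 4856, nat_lit 8448, nat_lit 12544, nat_lit 18112, nat_lit 21504, nat_lit 24832, nat_lit 29696, nat_lit 33792, nat_lit 41467, nat_lit 37276, nat_lit 33002, nat_lit 29007, nat_lit 24581, nat_lit 20611, nat_lit 16896, nat_lit 12293, nat_lit 8193, nat_lit 4129]⟩⟩⟩,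
  ⟨[nat_lit 355, nat_lit 669, nat_lit 356, nat_lit 353, nat_lit 284], [], (nat_lit 776), ⟨[nat_lit 77, nat_lit 94], [nat_lit 9, nat_lit 59], ⟨[nat_lit 0x101305b64ea8ccf9d9172922a3b034], [nat_lit 173056, nat_lit 169472, nat_lit 166144, nat_lit 162304, nat_lit 159680, nat_lit 154240, nat_lit 149232, nat_lit 147016, nat_lit 143064, nat_lit 136736, nat_lit 133151, nat_lit 460, nat_lit 4128, nat_lit 8504, nat_lit 13296, nat_lit 17056, nat_lit 20544, nat_lit 25984, nat_lit 30464, nat_lit 33280, nat_lit 41873, nat_lit 37089, nat_lit 33977, nat_lit 28769, nat_lit 24732, nat_lit 20481, nat_lit 16459, nat_lit 12359, nat_lit 8195, nat_lit 4097]⟩⟩⟩]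
theorem shn83 : Suf hnT 19005990 (ldrop (lapp hnwr5 [1, 0, 1]) 30) (apW dcM phn82) (tgtN dcM phn82.e) := Suf.seg (l := lhn83) (by decide +kernel) shn84
def lhn82 : List AP := [⟨[nat_lit 291, nat_lit 669, nat_lit 672, nat_lit 288, nat_lit 284], [], (nat_lit 1188), ⟨[nat_lit 0, nat_lit 78, nat_lit 67], [nat_lit 85, nat_lit 57], ⟨[nat_lit 0x3514491c6e126a185a2b7a1976cca0], [nat_lit 174080, nat_lit 164608, nat_lit 161920, nat_lit 156736, nat_lit 152992, nat_lit 151264, nat_lit 145608, nat_lit 142540, nat_lit 137798, nat_lit 135056, nat_lit 128, nat_lit 5276, nat_lit 10040, nat_lit 13712, nat_lit 18112, nat_lit 21312, nat_lit 25344, nat_lit 29952, nat_lit 33280, nat_lit 37888, nat_lit 41091, nat_lit 37339, nat_lit 33526, nat_lit 29242, nat_lit 24607, nat_lit 20626, nat_lit 16398, nat_lit 12304, nat_lit 8202, nat_lit 4097, nat_lit 2]⟩⟩⟩,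
  ⟨[nat_lit 148, nat_lit 140, nat_lit 149, nat_lit 146, nat_lit 144], [], (nat_lit 746), ⟨[nat_lit 0, nat_lit 75, nat_lit 61], [nat_lit 0, nat_lit 39, nat_lit 64], ⟨[nat_lit 0x6d2b3640e51bc11306cb5264e112e8], [nat_lit 168960, nat_lit 164608, nat_lit 161664, nat_lit 159488, nat_lit 151808, nat_lit 148144, nat_lit 144008, nat_lit 140872, nat_lit 136950, nat_lit 131834, nat_lit 1396, nat_lit 5688, nat_lit 8208, nat_lit 13296, nat_lit 16480, nat_lit 21696, nat_lit 24704, nat_lit 41086, nat_lit 37171, nat_lit 32994, nat_lit 28736, nat_lit 20737, nat_lit 16903, nat_lit 13314, nat_lit 8200, nat_lit 4128, nat_lit 2]⟩⟩⟩]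
theorem shn82 : Suf hnT 19005990 (ldrop (lapp hnwr5 [1, 0, 1]) 19) (apW dcM phn81) (tgtN dcM phn81.e) := Suf.seg (l := lhn82) (by decide +kernel) shn83
def lhn81 : List AP := [⟨[nat_lit 69, nat_lit 72, nat_lit 72, nat_lit 57], [], (nat_lit 566), ⟨[nat_lit 0, nat_lit 35, nat_lit 64], [nat_lit 44, nat_lit 68], ⟨[nat_lit 0x98c3014a204d2a82bda6231c7b5d4b], [nat_lit 168448, nat_lit 160384, nat_lit 156288, nat_lit 152480, nat_lit 149344, nat_lit 144664, nat_lit 139548, nat_lit 135350, nat_lit 131930, nat_lit 1224, nat_lit 5080, nat_lit 8376, nat_lit 12976, nat_lit 17184, nat_lit 20608, nat_lit 25856, nat_lit 30208, nat_lit 41326, nat_lit 33902, nat_lit 28700, nat_lit 24601, nat_lit 21518, nat_lit 16391, nat_lit 12352, nat_lit 8193, nat_lit 4097, nat_lit 2]⟩⟩⟩,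
  ⟨[nat_lit 351, nat_lit 291, nat_lit 285, nat_lit 284], [], (nat_lit 1140), ⟨[nat_lit 0, nat_lit 75, nat_lit 48], [nat_lit 25, nat_lit 90], ⟨[nat_lit 0x44ceb08e4678aea2b22ea3409ac096], [nat_lit 173056, nat_lit 168960, nat_lit 165120, nat_lit 160256, nat_lit 155840, nat_lit 152608, nat_lit 148192, nat_lit 147128, nat_lit 140984, nat_lit 137212, nat_lit 131486, nat_lit 688, nat_lit 5184, nat_lit 8640, nat_lit 12304, nat_lit 16448, nat_lit 21824, nat_lit 25600, nat_lit 29440, nat_lit 33280, nat_lit 41941, nat_lit 38285, nat_lit 32812, nat_lit 28777, nat_lit 24600, nat_lit 20635, nat_lit 16398, nat_lit 12291, nat_lit 8210, nat_lit 4105]⟩⟩⟩]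
theorem shn81 : Suf hnT 19005990 (ldrop (lapp hnwr5 [1, 0, 1]) 8) (apW dcM phn80) (tgtN dcM phn80.e) := Suf.seg (l := lhn81) (by decide +kernel) shn82
def lhn80 : List AP := [⟨[nat_lit 39, nat_lit 633, nat_lit 42, nat_lit 629, nat_lit 15, nat_lit 15], [], (nat_lit 150), ⟨[nat_lit 0, nat_lit 16, nat_lit 61], [nat_lit 45, nat_lit 52], ⟨[nat_lit 0x6807074486b3ef23d42b4aa6ca1448], [nat_lit 171520, nat_lit 159872, nat_lit 156736, nat_lit 151904, nat_lit 147872, nat_lit 145320, nat_lit 139480, nat_lit 135600, nat_lit 131205, nat_lit 846, nat_lit 4408, nat_lit 8320, nat_lit 13552, nat_lit 16512, nat_lit 21120, nat_lit 25600, nat_lit 28928, nat_lit 33792, nat_lit 37888, nat_lit 41389, nat_lit 37264, nat_lit 33522, nat_lit 29201, nat_lit 24866, nat_lit 20738, nat_lit 16902, nat_lit 13317, nat_lit 8210, nat_lit 4112, nat_lit 128]⟩⟩⟩,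
  ⟨[nat_lit 104, nat_lit 77, nat_lit 644, nat_lit 83], [], (nat_lit 468), ⟨[nat_lit 15, nat_lit 63], [nat_lit 88, nat_lit 66], ⟨[nat_lit 0xb998b90e9641ead01491809499b82f], [nat_lit 173056, nat_lit 168960, nat_lit 164096, nat_lit 160256, nat_lit 157440, nat_lit 151712, nat_lit 147616, nat_lit 145808, nat_lit 139312, nat_lit 136878, nat_lit 132931, nat_lit 1318, nat_lit 4104, nat_lit 10168, nat_lit 13584, nat_lit 16480, nat_lit 22208, nat_lit 26240, nat_lit 29952, nat_lit 33792, nat_lit 37888, nat_lit 41300, nat_lit 37080, nat_lit 34028, nat_lit 28677, nat_lit 24615, nat_lit 20557, nat_lit 16646, nat_lit 12311, nat_lit 8]⟩⟩⟩]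
theorem hncr5_0 : Suf hnT 19005990 (lapp hnwr5 [1, 0, 1]) (apW dcM q0) (tgtN dcM q0.e) := Suf.seg (l := lhn80) (by decide +kernel) shn81

def phn86 : AP := ⟨[nat_lit 668], [], (nat_lit 1094), ⟨[nat_lit 0, nat_lit 29, nat_lit 52], [nat_lit 0, nat_lit 42, nat_lit 67], ⟨[nat_lit 0x34e810204f3952e8dc83ad96d8494c], [nat_lit 169472, nat_lit 165888, nat_lit 161664, nat_lit 157248, nat_lit 152192, nat_lit 148528, nat_lit 143608, nat_lit 141180, nat_lit 135722, nat_lit 131795, nat_lit 1580, nat_lit 4156, nat_lit 8248, nat_lit 14112, nat_lit 17184, nat_lit 22272, nat_lit 24832, nat_lit 30464, nat_lit 41357, nat_lit 36924, nat_lit 32808, nat_lit 28766, nat_lit 24584, nat_lit 20750, nat_lit 16527, nat_lit 12352, nat_lit 8226, nat_lit 4097, nat_lit 2]⟩⟩⟩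
def phn87 : AP := ⟨[nat_lit 287, nat_lit 673, nat_lit 351, nat_lit 287], [], (nat_lit 684), ⟨[nat_lit 10, nat_lit 55], [nat_lit 87], ⟨[nat_lit 0x816b300c97b28c9585d2a1d8d121f1], [nat_lit 164864, nat_lit 161536, nat_lit 155776, nat_lit 153216, nat_lit 148944, nat_lit 145792, nat_lit 140536, nat_lit 137072, nat_lit 131274, nat_lit 1004, nat_lit 5832, nat_lit 8448, nat_lit 12544, nat_lit 17536, nat_lit 22336, nat_lit 24832, nat_lit 28928, nat_lit 37888, nat_lit 41843, nat_lit 38379, nat_lit 32776, nat_lit 29222, nat_lit 25634, nat_lit 20483, nat_lit 16456, nat_lit 12292, nat_lit 8200, nat_lit 4129, nat_lit 16]⟩⟩⟩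
def phn88 : AP := ⟨[nat_lit 147, nat_lit 147, nat_lit 146, nat_lit 140, nat_lit 145], [], (nat_lit 738), ⟨[nat_lit 0, nat_lit 2, nat_lit 91], [nat_lit 20, nat_lit 50], ⟨[nat_lit 0x648624dc059adcaad9f169cd0a2024], [nat_lit 174080, nat_lit 169472, nat_lit 160896, nat_lit 159424, nat_lit 154240, nat_lit 150736, nat_lit 144464, nat_lit 141400, nat_lit 135266, nat_lit 134030, nat_lit 1124, nat_lit 4112, nat_lit 8448, nat_lit 12480, nat_lit 16448, nat_lit 21568, nat_lit 24704, nat_lit 29696, nat_lit 33280, nat_lit 37888, nat_lit 41018, nat_lit 37364, nat_lit 33317, nat_lit 28753, nat_lit 24593, nat_lit 20993, nat_lit 16385, nat_lit 13315, nat_lit 8224, nat_lit 4097]⟩⟩⟩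
def phn89 : AP := ⟨[nat_lit 292, nat_lit 671, nat_lit 287, nat_lit 357], [], (nat_lit 700), ⟨[nat_lit 72, nat_lit 60], [nat_lit 0, nat_lit 13, nat_lit 56], ⟨[nat_lit 0x75912090a74be155ceed8d18a10c06], [nat_lit 173056, nat_lit 161152, nat_lit 156672, nat_lit 151584, nat_lit 150544, nat_lit 143416, nat_lit 139920, nat_lit 135562, nat_lit 132498, nat_lit 1024, nat_lit 5904, nat_lit 8200, nat_lit 12304, nat_lit 17408, nat_lit 22016, nat_lit 25600, nat_lit 30464, nat_lit 34304, nat_lit 37888, nat_lit 41520, nat_lit 38304, nat_lit 33381, nat_lit 28995, nat_lit 24866, nat_lit 20614, nat_lit 16387, nat_lit 12292, nat_lit 8200, nat_lit 4112, nat_lit 2]⟩⟩⟩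
def phn90 : AP := ⟨[nat_lit 56, nat_lit 46, nat_lit 71], [], (nat_lit 130), ⟨[nat_lit 0, nat_lit 36, nat_lit 51], [nat_lit 83, nat_lit 66], ⟨[nat_lit 0x8ccc362e154a0a03bc4eb29b2206f4], [nat_lit 173056, nat_lit 169984, nat_lit 167424, nat_lit 163200, nat_lit 159296, nat_lit 151648, nat_lit 150784, nat_lit 145472, nat_lit 141104, nat_lit 138074, nat_lit 132646, nat_lit 1108, nat_lit 5112, nat_lit 8880, nat_lit 12304, nat_lit 25472, nat_lit 29952, nat_lit 33792, nat_lit 37888, nat_lit 41533, nat_lit 37090, nat_lit 32806, nat_lit 28683, nat_lit 24589, nat_lit 20506, nat_lit 16424, nat_lit 12320, nat_lit 8257, nat_lit 4097, nat_lit 2]⟩⟩⟩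
def lhn91 : List AP := [⟨[nat_lit 642], [], (nat_lit 122), ⟨[nat_lit 28, nat_lit 93], [nat_lit 73, nat_lit 47], ⟨[nat_lit 0xb8ec8241d4885321298d3566f59ca0], [nat_lit 165120, nat_lit 160768, nat_lit 158464, nat_lit 153088, nat_lit 149248, nat_lit 143368, nat_lit 140240, nat_lit 136114, nat_lit 131096, nat_lit 64, nat_lit 5212, nat_lit 9984, nat_lit 14304, nat_lit 18112, nat_lit 20736, nat_lit 24832, nat_lit 28928, nat_lit 37888, nat_lit 41375, nat_lit 37172, nat_lit 32781, nat_lit 28755, nat_lit 24608, nat_lit 20544, nat_lit 16523, nat_lit 12310, nat_lit 8201, nat_lit 4101]⟩⟩⟩,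
  ⟨[nat_lit 36, nat_lit 39], [], (nat_lit 1032), ⟨[nat_lit 15, nat_lit 51], [nat_lit 73, nat_lit 89], ⟨[nat_lit 0x3927475a2d006552bc684dd503098b], [nat_lit 170496, nat_lit 165120, nat_lit 163200, nat_lit 156608, nat_lit 154912, nat_lit 150080, nat_lit 145744, nat_lit 139752, nat_lit 137166, nat_lit 134834, nat_lit 354, nat_lit 4408, nat_lit 8928, nat_lit 12992, nat_lit 17152, nat_lit 20544, nat_lit 25216, nat_lit 30464, nat_lit 33280, nat_lit 37888, nat_lit 41900, nat_lit 37903, nat_lit 33280, nat_lit 28690, nat_lit 24628, nat_lit 20567, nat_lit 16455, nat_lit 13319, nat_lit 8195, nat_lit 4100]⟩⟩⟩]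
theorem shn91 : Suf hnT 19005990 (ldrop (lapp hnwr5 [2, 0, 1]) 50) (apW dcM phn90) (tgtN dcM phn90.e) := Suf.fin' (l := lhn91) (by decide +kernel)
def lhn90 : List AP := [⟨[], [], (nat_lit 907), ⟨[nat_lit 9, nat_lit 58], [nat_lit 25, nat_lit 67], ⟨[nat_lit 0x79aa138d949c931b3845b81a45c10a], [nat_lit 168448, nat_lit 164608, nat_lit 159872, nat_lit 156032, nat_lit 152320, nat_lit 147872, nat_lit 147120, nat_lit 139280, nat_lit 135332, nat_lit 131163, nat_lit 1818, nat_lit 4824, nat_lit 9320, nat_lit 12544, nat_lit 16640, nat_lit 21184, nat_lit 25472, nat_lit 29184, nat_lit 33280, nat_lit 37888, nat_lit 41291, nat_lit 37254, nat_lit 32904, nat_lit 28751, nat_lit 24616, nat_lit 20570, nat_lit 16392, nat_lit 12290, nat_lit 8323, nat_lit 4104]⟩⟩⟩,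
  ⟨[nat_lit 675, nat_lit 467], [], (nat_lit 1226), ⟨[nat_lit 29, nat_lit 50], [nat_lit 1, nat_lit 59], ⟨[nat_lit 0x6452d3c08b79ae3a00ae50642b4ea8], [nat_lit 165632, nat_lit 161408, nat_lit 158848, nat_lit 152576, nat_lit 147632, nat_lit 143440, nat_lit 139380, nat_lit 135932, nat_lit 132202, nat_lit 2018, nat_lit 5208, nat_lit 9704, nat_lit 13536, nat_lit 16960, nat_lit 21952, nat_lit 26496, nat_lit 30464, nat_lit 41978, nat_lit 36880, nat_lit 33020, nat_lit 28736, nat_lit 24578, nat_lit 20739, nat_lit 16419, nat_lit 12311, nat_lit 8193, nat_lit 4104, nat_lit 2]⟩⟩⟩]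
theorem shn90 : Suf hnT 19005990 (ldrop (lapp hnwr5 [2, 0, 1]) 40) (apW dcM phn89) (tgtN dcM phn89.e) := Suf.seg (l := lhn90) (by decide +kernel) shn91
def lhn89 : List AP := [⟨[nat_lit 670, nat_lit 356, nat_lit 284, nat_lit 672], [], (nat_lit 777), ⟨[nat_lit 24, nat_lit 93], [nat_lit 16, nat_lit 49], ⟨[nat_lit 0x72256394816cd7762a91aa5f030c40], [nat_lit 169472, nat_lit 161792, nat_lit 155776, nat_lit 148144, nat_lit 144656, nat_lit 140628, nat_lit 135736, nat_lit 132586, nat_lit 128, nat_lit 4100, nat_lit 8200, nat_lit 13872, nat_lit 18016, nat_lit 21248, nat_lit 24704, nat_lit 29696, nat_lit 33280, nat_lit 37888, nat_lit 41922, nat_lit 37232, nat_lit 33520, nat_lit 28728, nat_lit 24606, nat_lit 20625, nat_lit 16462, nat_lit 12321, nat_lit 8258, nat_lit 4160]⟩⟩⟩,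
  ⟨[nat_lit 673, nat_lit 289, nat_lit 673, nat_lit 673], [], (nat_lit 1156), ⟨[nat_lit 34, nat_lit 65], [nat_lit 0, nat_lit 4, nat_lit 59], ⟨[nat_lit 0x8c124008aa1d9f37065445ea659d8d], [nat_lit 168448, nat_lit 160768, nat_lit 157184, nat_lit 151648, nat_lit 148400, nat_lit 144664, nat_lit 142584, nat_lit 136060, nat_lit 131741, nat_lit 488, nat_lit 4408, nat_lit 9896, nat_lit 13376, nat_lit 17408, nat_lit 22208, nat_lit 25472, nat_lit 30464, nat_lit 41561, nat_lit 37292, nat_lit 32844, nat_lit 29299, nat_lit 24623, nat_lit 20508, nat_lit 16416, nat_lit 12294, nat_lit 8201]⟩⟩⟩]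
theorem shn89 : Suf hnT 19005990 (ldrop (lapp hnwr5 [2, 0, 1]) 30) (apW dcM phn88) (tgtN dcM phn88.e) := Suf.seg (l := lhn89) (by decide +kernel) shn90
def lhn88 : List AP := [⟨[nat_lit 293, nat_lit 291, nat_lit 355, nat_lit 354, nat_lit 284], [], (nat_lit 1188), ⟨[nat_lit 0, nat_lit 9, nat_lit 49], [nat_lit 0, nat_lit 22, nat_lit 94], ⟨[nat_lit 0x3a6e2b0545aac80a20c36b1d384a2f], [nat_lit 168448, nat_lit 164352, nat_lit 160256, nat_lit 156416, nat_lit 152160, nat_lit 144096, nat_lit 140628, nat_lit 138806, nat_lit 132927, nat_lit 1318, nat_lit 4608, nat_lit 14112, nat_lit 18400, nat_lit 22272, nat_lit 24704, nat_lit 29184, nat_lit 33792, nat_lit 41596, nat_lit 37207, nat_lit 33405, nat_lit 28758, nat_lit 24724, nat_lit 20748, nat_lit 16525, nat_lit 12305, nat_lit 8224, nat_lit 16]⟩⟩⟩,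
  ⟨[nat_lit 149, nat_lit 144, nat_lit 139, nat_lit 141], [], (nat_lit 333), ⟨[nat_lit 5, nat_lit 60], [nat_lit 27, nat_lit 68], ⟨[nat_lit 0x4de022ba9591e2f185a49d9005a8cc], [nat_lit 174080, nat_lit 169984, nat_lit 166400, nat_lit 162048, nat_lit 156928, nat_lit 155488, nat_lit 151328, nat_lit 144720, nat_lit 142020, nat_lit 135812, nat_lit 131397, nat_lit 1580, nat_lit 5436, nat_lit 9136, nat_lit 12480, nat_lit 16704, nat_lit 22208, nat_lit 26112, nat_lit 28928, nat_lit 33280, nat_lit 37888, nat_lit 41697, nat_lit 37348, nat_lit 32852, nat_lit 29280, nat_lit 24631, nat_lit 20496, nat_lit 16393, nat_lit 12307, nat_lit 8195, nat_lit 4101, nat_lit 4]⟩⟩⟩]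
theorem shn88 : Suf hnT 19005990 (ldrop (lapp hnwr5 [2, 0, 1]) 19) (apW dcM phn87) (tgtN dcM phn87.e) := Suf.seg (l := lhn88) (by decide +kernel) shn89
def lhn87 : List AP := [⟨[nat_lit 101, nat_lit 101, nat_lit 646, nat_lit 646, nat_lit 78], [], (nat_lit 718), ⟨[nat_lit 0, nat_lit 73, nat_lit 67], [nat_lit 0, nat_lit 18, nat_lit 91], ⟨[nat_lit 0x25e713b1f542ac558a0e1983403532], [nat_lit 168448, nat_lit 165888, nat_lit 160128, nat_lit 156736, nat_lit 154688, nat_lit 149712, nat_lit 147136, nat_lit 142064, nat_lit 138106, nat_lit 132410, nat_lit 492, nat_lit 5572, nat_lit 8680, nat_lit 13552, nat_lit 17920, nat_lit 20992, nat_lit 25728, nat_lit 29184, nat_lit 33792, nat_lit 40970, nat_lit 37266, nat_lit 33332, nat_lit 29042, nat_lit 24741, nat_lit 20571, nat_lit 16459, nat_lit 12295, nat_lit 8200, nat_lit 4101, nat_lit 4]⟩⟩⟩,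
  ⟨[nat_lit 354, nat_lit 287, nat_lit 295, nat_lit 356], [], (nat_lit 770), ⟨[nat_lit 79, nat_lit 63], [nat_lit 0, nat_lit 23, nat_lit 66], ⟨[nat_lit 0x7d653038572d88d3c143885264328b], [nat_lit 175104, nat_lit 171008, nat_lit 167168, nat_lit 163584, nat_lit 157184, nat_lit 153760, nat_lit 150144, nat_lit 144632, nat_lit 142956, nat_lit 135678, nat_lit 132057, nat_lit 404, nat_lit 4380, nat_lit 10128, nat_lit 13776, nat_lit 16704, nat_lit 21504, nat_lit 25984, nat_lit 29952, nat_lit 33792, nat_lit 41530, nat_lit 37232, nat_lit 32956, nat_lit 28946, nat_lit 24581, nat_lit 20499, nat_lit 16423, nat_lit 12418, nat_lit 8194, nat_lit 4100, nat_lit 32]⟩⟩⟩]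
theorem shn87 : Suf hnT 19005990 (ldrop (lapp hnwr5 [2, 0, 1]) 8) (apW dcM phn86) (tgtN dcM phn86.e) := Suf.seg (l := lhn87) (by decide +kernel) shn88
def lhn86 : List AP := [⟨[nat_lit 36, nat_lit 16, nat_lit 40, nat_lit 36, nat_lit 14], [], (nat_lit 197), ⟨[nat_lit 43, nat_lit 69], [nat_lit 0, nat_lit 77, nat_lit 89], ⟨[nat_lit 0xb2b0592973392d2a862981f694507], [nat_lit 168448, nat_lit 165120, nat_lit 160896, nat_lit 156352, nat_lit 153504, nat_lit 149536, nat_lit 143472, nat_lit 140612, nat_lit 135170, nat_lit 132377, nat_lit 1166, nat_lit 5940, nat_lit 9672, nat_lit 14176, nat_lit 16640, nat_lit 21184, nat_lit 25088, nat_lit 33280, nat_lit 41675, nat_lit 37360, nat_lit 32892, nat_lit 29288, nat_lit 24875, nat_lit 20748, nat_lit 16387, nat_lit 12416, nat_lit 8259, nat_lit 4113]⟩⟩⟩,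
  ⟨[nat_lit 106, nat_lit 76, nat_lit 86, nat_lit 102], [], (nat_lit 468), ⟨[nat_lit 0, nat_lit 36, nat_lit 50], [nat_lit 0, nat_lit 21, nat_lit 94], ⟨[nat_lit 0x8ddea38e9634e006caa8485642b982], [nat_lit 173056, nat_lit 168448, nat_lit 164864, nat_lit 160128, nat_lit 155712, nat_lit 153088, nat_lit 148928, nat_lit 146080, nat_lit 139924, nat_lit 135950, nat_lit 131078, nat_lit 1814, nat_lit 4404, nat_lit 10168, nat_lit 12416, nat_lit 16512, nat_lit 22272, nat_lit 24832, nat_lit 29952, nat_lit 34304, nat_lit 41350, nat_lit 37032, nat_lit 33806, nat_lit 29014, nat_lit 24717, nat_lit 20501, nat_lit 16392, nat_lit 32]⟩⟩⟩]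
theorem hncr5_1 : Suf hnT 19005990 (lapp hnwr5 [2, 0, 1]) (iC2 :: apW dcM q0) (tgtN dcM q0.e) := Suf.seg (l := lhn86) (by decide +kernel) shn87

def phn92 : AP := ⟨[nat_lit 76, nat_lit 106, nat_lit 79], [], (nat_lit 180), ⟨[nat_lit 21, nat_lit 47], [nat_lit 31, nat_lit 89], ⟨[nat_lit 0x411953a68e58a2a998a11bdb004af6], [nat_lit 175104, nat_lit 166912, nat_lit 163200, nat_lit 158848, nat_lit 152064, nat_lit 148960, nat_lit 144232, nat_lit 142920, nat_lit 137824, nat_lit 132654, nat_lit 1918, nat_lit 4872, nat_lit 9928, nat_lit 12976, nat_lit 18176, nat_lit 22336, nat_lit 25472, nat_lit 29440, nat_lit 33792, nat_lit 41310, nat_lit 37350, nat_lit 33434, nat_lit 28781, nat_lit 24586, nat_lit 20638, nat_lit 16421, nat_lit 12289, nat_lit 8194, nat_lit 4101]⟩⟩⟩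
def phn93 : AP := ⟨[nat_lit 292, nat_lit 673, nat_lit 290, nat_lit 290], [], (nat_lit 1206), ⟨[nat_lit 0, nat_lit 28, nat_lit 49], [nat_lit 0, nat_lit 41, nat_lit 51], ⟨[nat_lit 0x5808d732b3baa088d04128d2f958c7], [nat_lit 167424, nat_lit 161152, nat_lit 155968, nat_lit 155392, nat_lit 150784, nat_lit 146184, nat_lit 142480, nat_lit 138678, nat_lit 131117, nat_lit 1440, nat_lit 5436, nat_lit 9040, nat_lit 14176, nat_lit 16480, nat_lit 21120, nat_lit 25856, nat_lit 33792, nat_lit 37888, nat_lit 41194, nat_lit 37197, nat_lit 32780, nat_lit 29714, nat_lit 24713, nat_lit 20558, nat_lit 16421, nat_lit 12304, nat_lit 8224]⟩⟩⟩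
def phn94 : AP := ⟨[nat_lit 286, nat_lit 673, nat_lit 672, nat_lit 289], [], (nat_lit 664), ⟨[nat_lit 0, nat_lit 44, nat_lit 93], [nat_lit 0, nat_lit 29, nat_lit 67], ⟨[nat_lit 0x811f301c4d88d3645c32754d45954c], [nat_lit 174080, nat_lit 169472, nat_lit 165120, nat_lit 161792, nat_lit 157376, nat_lit 151968, nat_lit 149968, nat_lit 145768, nat_lit 141420, nat_lit 137536, nat_lit 134292, nat_lit 1440, nat_lit 4656, nat_lit 9096, nat_lit 12640, nat_lit 18016, nat_lit 20608, nat_lit 26368, nat_lit 29696, nat_lit 33792, nat_lit 41876, nat_lit 38015, nat_lit 33388, nat_lit 28679, nat_lit 24578, nat_lit 20496, nat_lit 16423, nat_lit 12293, nat_lit 8195, nat_lit 4101]⟩⟩⟩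
def phn95 : AP := ⟨[nat_lit 352, nat_lit 286, nat_lit 289], [], (nat_lit 1164), ⟨[nat_lit 0, nat_lit 22, nat_lit 67], [nat_lit 34, nat_lit 91], ⟨[nat_lit 0x7958372675042273090b549b4b1037], [nat_lit 174080, nat_lit 168448, nat_lit 166912, nat_lit 161920, nat_lit 158592, nat_lit 152032, nat_lit 149280, nat_lit 144808, nat_lit 142064, nat_lit 139034, nat_lit 131343, nat_lit 434, nat_lit 4112, nat_lit 9664, nat_lit 13056, nat_lit 16416, nat_lit 21248, nat_lit 26368, nat_lit 29952, nat_lit 37888, nat_lit 41782, nat_lit 36907, nat_lit 33020, nat_lit 28729, nat_lit 24583, nat_lit 20510, nat_lit 16390, nat_lit 12293, nat_lit 8194, nat_lit 4100]⟩⟩⟩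
def phn96 : AP := ⟨[nat_lit 69, nat_lit 71, nat_lit 47, nat_lit 47], [], (nat_lit 178), ⟨[nat_lit 29, nat_lit 56], [nat_lit 0, nat_lit 43, nat_lit 66], ⟨[nat_lit 0x3910c28a17a55c9549b3b0cd17ac01], [nat_lit 168448, nat_lit 164608, nat_lit 159872, nat_lit 156736, nat_lit 152160, nat_lit 148048, nat_lit 144928, nat_lit 142892, nat_lit 136542, nat_lit 132910, nat_lit 2, nat_lit 4100, nat_lit 9392, nat_lit 13264, nat_lit 18080, nat_lit 20672, nat_lit 24704, nat_lit 29696, nat_lit 34304, nat_lit 37888, nat_lit 41388, nat_lit 37076, nat_lit 32889, nat_lit 29248, nat_lit 24583, nat_lit 20510, nat_lit 16388, nat_lit 12292, nat_lit 8202, nat_lit 4097, nat_lit 2]⟩⟩⟩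
def lhn97 : List AP := [⟨[nat_lit 76], [], (nat_lit 196), ⟨[nat_lit 0, nat_lit 2, nat_lit 59], [nat_lit 0, nat_lit 7, nat_lit 70], ⟨[nat_lit 0x1c1000999768a855cdee4c887546d5], [nat_lit 175104, nat_lit 169472, nat_lit 165120, nat_lit 160384, nat_lit 156096, nat_lit 153568, nat_lit 149424, nat_lit 144272, nat_lit 139608, nat_lit 135698, nat_lit 131817, nat_lit 738, nat_lit 5208, nat_lit 9336, nat_lit 13120, nat_lit 18400, nat_lit 21952, nat_lit 25856, nat_lit 29184, nat_lit 34304, nat_lit 37888, nat_lit 37246, nat_lit 33522, nat_lit 28988, nat_lit 24599, nat_lit 20619, nat_lit 16430, nat_lit 12322, nat_lit 8209, nat_lit 4097]⟩⟩⟩,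
  ⟨[nat_lit 40, nat_lit 15, nat_lit 36], [], (nat_lit 1032), ⟨[nat_lit 0, nat_lit 83, nat_lit 55], [nat_lit 0, nat_lit 72, nat_lit 62], ⟨[nat_lit 0x2da6c0a9cd7d0d11ca08024e45d457], [nat_lit 174080, nat_lit 171008, nat_lit 167680, nat_lit 160384, nat_lit 157184, nat_lit 153152, nat_lit 150304, nat_lit 144736, nat_lit 140640, nat_lit 138916, nat_lit 134538, nat_lit 1136, nat_lit 4964, nat_lit 8672, nat_lit 12464, nat_lit 16864, nat_lit 22016, nat_lit 25984, nat_lit 30208, nat_lit 33280, nat_lit 37888, nat_lit 41157, nat_lit 37331, nat_lit 32871, nat_lit 29295, nat_lit 24845, nat_lit 20551, nat_lit 16391, nat_lit 12289, nat_lit 8211, nat_lit 4097, nat_lit 2]⟩⟩⟩]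
theorem shn97 : Suf hnT 19005990 (ldrop (lapp hnwr5 [3, 0, 1]) 50) (apW dcM phn96) (tgtN dcM phn96.e) := Suf.fin' (l := lhn97) (by decide +kernel)
def lhn96 : List AP := [⟨[nat_lit 294, nat_lit 288, nat_lit 293, nat_lit 352], [], (nat_lit 662), ⟨[nat_lit 2, nat_lit 91], [nat_lit 86, nat_lit 61], ⟨[nat_lit 0x7b0e89c1268d04d1c9d72d6ca22c01], [nat_lit 173056, nat_lit 169472, nat_lit 164096, nat_lit 161408, nat_lit 158400, nat_lit 151968, nat_lit 147936, nat_lit 145168, nat_lit 139760, nat_lit 135282, nat_lit 131378, nat_lit 2, nat_lit 4160, nat_lit 10152, nat_lit 13024, nat_lit 18240, nat_lit 22272, nat_lit 25600, nat_lit 30464, nat_lit 33792, nat_lit 41633, nat_lit 37262, nat_lit 32895, nat_lit 29205, nat_lit 20767, nat_lit 16385, nat_lit 12419, nat_lit 8449, nat_lit 4097, nat_lit 2]⟩⟩⟩,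
  ⟨[nat_lit 670, nat_lit 285], [], (nat_lit 1222), ⟨[nat_lit 41, nat_lit 52], [nat_lit 0, nat_lit 13, nat_lit 54], ⟨[nat_lit 0x59828abd504d22c112d738e53281ae], [nat_lit 175104, nat_lit 169984, nat_lit 165888, nat_lit 161152, nat_lit 159168, nat_lit 154400, nat_lit 148128, nat_lit 146944, nat_lit 140508, nat_lit 136030, nat_lit 132975, nat_lit 1624, nat_lit 5024, nat_lit 8680, nat_lit 14304, nat_lit 16672, nat_lit 22208, nat_lit 24704, nat_lit 33280, nat_lit 37888, nat_lit 41888, nat_lit 37251, nat_lit 32973, nat_lit 28680, nat_lit 24584, nat_lit 21512, nat_lit 16391, nat_lit 8210, nat_lit 4112, nat_lit 2]⟩⟩⟩]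
theorem shn96 : Suf hnT 19005990 (ldrop (lapp hnwr5 [3, 0, 1]) 40) (apW dcM phn95) (tgtN dcM phn95.e) := Suf.seg (l := lhn96) (by decide +kernel) shn97
def lhn95 : List AP := [⟨[nat_lit 290, nat_lit 672, nat_lit 292, nat_lit 288], [], (nat_lit 766), ⟨[nat_lit 0, nat_lit 80, nat_lit 57], [nat_lit 0, nat_lit 6, nat_lit 57], ⟨[nat_lit 0x215d56423699c4a42df74c806a0da1], [nat_lit 169472, nat_lit 159872, nat_lit 159360, nat_lit 153184, nat_lit 147504, nat_lit 144992, nat_lit 140004, nat_lit 136844, nat_lit 132063, nat_lit 494, nat_lit 4160, nat_lit 9984, nat_lit 12320, nat_lit 20544, nat_lit 25600, nat_lit 29184, nat_lit 33280, nat_lit 37888, nat_lit 41024, nat_lit 36928, nat_lit 33019, nat_lit 28751, nat_lit 24599, nat_lit 20493, nat_lit 16455, nat_lit 12325, nat_lit 8225, nat_lit 4097, nat_lit 2]⟩⟩⟩,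
  ⟨[nat_lit 671, nat_lit 288, nat_lit 286, nat_lit 291, nat_lit 285], [], (nat_lit 664), ⟨[nat_lit 0, nat_lit 26, nat_lit 93], [nat_lit 80, nat_lit 46], ⟨[nat_lit 0x1d53bdaad815015c483488d2751ec], [nat_lit 171520, nat_lit 165120, nat_lit 162432, nat_lit 156928, nat_lit 155008, nat_lit 151328, nat_lit 147360, nat_lit 140800, nat_lit 136050, nat_lit 133901, nat_lit 902, nat_lit 5716, nat_lit 10128, nat_lit 14144, nat_lit 17120, nat_lit 22144, nat_lit 25728, nat_lit 29184, nat_lit 33792, nat_lit 41951, nat_lit 38241, nat_lit 32867, nat_lit 28715, nat_lit 24580, nat_lit 20482, nat_lit 16901, nat_lit 12295, nat_lit 8200, nat_lit 4097]⟩⟩⟩]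
theorem shn95 : Suf hnT 19005990 (ldrop (lapp hnwr5 [3, 0, 1]) 30) (apW dcM phn94) (tgtN dcM phn94.e) := Suf.seg (l := lhn95) (by decide +kernel) shn96
def lhn94 : List AP := [⟨[nat_lit 143, nat_lit 656, nat_lit 146, nat_lit 656, nat_lit 147], [], (nat_lit 738), ⟨[nat_lit 0, nat_lit 21, nat_lit 51], [nat_lit 0, nat_lit 71, nat_lit 94], ⟨[nat_lit 0xb31f491e044006950961ab6ee34cb1], [nat_lit 174080, nat_lit 165120, nat_lit 163712, nat_lit 156096, nat_lit 153248, nat_lit 150720, nat_lit 147000, nat_lit 141560, nat_lit 138972, nat_lit 134067, nat_lit 1694, nat_lit 4712, nat_lit 9056, nat_lit 13920, nat_lit 18112, nat_lit 20992, nat_lit 25728, nat_lit 29184, nat_lit 41914, nat_lit 38267, nat_lit 33969, nat_lit 28674, nat_lit 24593, nat_lit 20481, nat_lit 16389, nat_lit 12546, nat_lit 8209, nat_lit 4225]⟩⟩⟩,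
  ⟨[nat_lit 295, nat_lit 351, nat_lit 286], [], (nat_lit 664), ⟨[nat_lit 36, nat_lit 53], [nat_lit 0, nat_lit 84, nat_lit 57], ⟨[nat_lit 0x80d1425ece289a04d6617c64659d4c], [nat_lit 175104, nat_lit 168960, nat_lit 165376, nat_lit 159872, nat_lit 159680, nat_lit 154720, nat_lit 151472, nat_lit 144512, nat_lit 142588, nat_lit 136684, nat_lit 133131, nat_lit 1354, nat_lit 4964, nat_lit 9096, nat_lit 12640, nat_lit 18208, nat_lit 21504, nat_lit 25088, nat_lit 28928, nat_lit 33280, nat_lit 41499, nat_lit 38239, nat_lit 33489, nat_lit 28942, nat_lit 24615, nat_lit 20507, nat_lit 16395, nat_lit 12293, nat_lit 8194]⟩⟩⟩]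
theorem shn94 : Suf hnT 19005990 (ldrop (lapp hnwr5 [3, 0, 1]) 19) (apW dcM phn93) (tgtN dcM phn93.e) := Suf.seg (l := lhn94) (by decide +kernel) shn95
def lhn93 : List AP := [⟨[nat_lit 643, nat_lit 49, nat_lit 47, nat_lit 67, nat_lit 48], [], (nat_lit 566), ⟨[nat_lit 42, nat_lit 51], [nat_lit 0, nat_lit 6, nat_lit 70], ⟨[nat_lit 0x1166492d00538f533d370c29668e2c], [nat_lit 171520, nat_lit 166656, nat_lit 163712, nat_lit 159296, nat_lit 152672, nat_lit 149904, nat_lit 147352, nat_lit 140388, nat_lit 137960, nat_lit 131956, nat_lit 210, nat_lit 4568, nat_lit 8424, nat_lit 12800, nat_lit 16800, nat_lit 21376, nat_lit 25344, nat_lit 28928, nat_lit 34304, nat_lit 41794, nat_lit 37952, nat_lit 33463, nat_lit 28706, nat_lit 25611, nat_lit 20498, nat_lit 16385, nat_lit 12293, nat_lit 8203, nat_lit 8]⟩⟩⟩,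
  ⟨[nat_lit 357, nat_lit 352], [], (nat_lit 768), ⟨[nat_lit 75, nat_lit 58], [nat_lit 19, nat_lit 62], ⟨[nat_lit 0xadc0f85107b24b114e4e1ad8a33424], [nat_lit 173056, nat_lit 169472, nat_lit 164096, nat_lit 160384, nat_lit 157440, nat_lit 155008, nat_lit 149424, nat_lit 145328, nat_lit 140496, nat_lit 136820, nat_lit 132826, nat_lit 508, nat_lit 4128, nat_lit 9944, nat_lit 13152, nat_lit 16416, nat_lit 21504, nat_lit 24832, nat_lit 29184, nat_lit 33280, nat_lit 37888, nat_lit 41626, nat_lit 37152, nat_lit 33292, nat_lit 28774, nat_lit 24611, nat_lit 20488, nat_lit 16391, nat_lit 12320, nat_lit 8210, nat_lit 4]⟩⟩⟩]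
theorem shn93 : Suf hnT 19005990 (ldrop (lapp hnwr5 [3, 0, 1]) 8) (apW dcM phn92) (tgtN dcM phn92.e) := Suf.seg (l := lhn93) (by decide +kernel) shn94
def lhn92 : List AP := [⟨[nat_lit 17, nat_lit 40, nat_lit 38, nat_lit 632, nat_lit 631, nat_lit 40], [], (nat_lit 150), ⟨[nat_lit 80, nat_lit 61], [nat_lit 23, nat_lit 68], ⟨[nat_lit 0xad15265ce2780d69b9a92c08888c2b], [nat_lit 175104, nat_lit 169472, nat_lit 164608, nat_lit 160512, nat_lit 157888, nat_lit 153856, nat_lit 150080, nat_lit 145320, nat_lit 142828, nat_lit 137004, nat_lit 134322, nat_lit 1966, nat_lit 4104, nat_lit 8200, nat_lit 12800, nat_lit 17088, nat_lit 20928, nat_lit 24704, nat_lit 29184, nat_lit 33792, nat_lit 41939, nat_lit 38129, nat_lit 33399, nat_lit 29712, nat_lit 24732, nat_lit 21009, nat_lit 16387, nat_lit 12356, nat_lit 8256, nat_lit 4100]⟩⟩⟩,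
  ⟨[nat_lit 77, nat_lit 85], [], (nat_lit 194), ⟨[nat_lit 26, nat_lit 54], [nat_lit 76, nat_lit 91], ⟨[nat_lit 0xacd0f9518b814511dae60b5c70112a], [nat_lit 173056, nat_lit 168448, nat_lit 164352, nat_lit 159872, nat_lit 156608, nat_lit 153600, nat_lit 145352, nat_lit 139912, nat_lit 136850, nat_lit 132601, nat_lit 1842, nat_lit 5604, nat_lit 8896, nat_lit 12656, nat_lit 16416, nat_lit 21376, nat_lit 24704, nat_lit 28928, nat_lit 34304, nat_lit 41835, nat_lit 38369, nat_lit 33995, nat_lit 29012, nat_lit 24730, nat_lit 20566, nat_lit 16397, nat_lit 12306, nat_lit 8203]⟩⟩⟩]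
theorem hncr5_2 : Suf hnT 19005990 (lapp hnwr5 [3, 0, 1]) (iC3 :: apW dcM q0) (tgtN dcM q0.e) := Suf.seg (l := lhn92) (by decide +kernel) shn93

def phn98 : AP := ⟨[nat_lit 177], [], (nat_lit 390), ⟨[nat_lit 25, nat_lit 60], [nat_lit 10, nat_lit 54], ⟨[nat_lit 0x41e935462b28eb63ae40a1b12d272], [nat_lit 174080, nat_lit 169984, nat_lit 163072, nat_lit 158336, nat_lit 154976, nat_lit 149216, nat_lit 140204, nat_lit 137232, nat_lit 134969, nat_lit 1762, nat_lit 4456, nat_lit 9352, nat_lit 13312, nat_lit 16896, nat_lit 26112, nat_lit 33280, nat_lit 37888, nat_lit 41729, nat_lit 38152, nat_lit 33808, nat_lit 28782, nat_lit 24739, nat_lit 20487, nat_lit 16640, nat_lit 12356, nat_lit 8226, nat_lit 4129]⟩⟩⟩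
def phn99 : AP := ⟨[nat_lit 68, nat_lit 72, nat_lit 55, nat_lit 53, nat_lit 54], [], (nat_lit 818), ⟨[nat_lit 0, nat_lit 71, nat_lit 67], [nat_lit 0, nat_lit 20, nat_lit 48], ⟨[nat_lit 0x1b580b14d57844e9222b54d3039297], [nat_lit 169472, nat_lit 165632, nat_lit 162048, nat_lit 156608, nat_lit 153440, nat_lit 148320, nat_lit 144416, nat_lit 139796, nat_lit 136174, nat_lit 132238, nat_lit 1268, nat_lit 4168, nat_lit 9440, nat_lit 13968, nat_lit 16448, nat_lit 20544, nat_lit 24704, nat_lit 30464, nat_lit 34304, nat_lit 41971, nat_lit 38003, nat_lit 33362, nat_lit 28798, nat_lit 24623, nat_lit 20570, nat_lit 16421, nat_lit 12356, nat_lit 8225, nat_lit 4105]⟩⟩⟩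
def phn100 : AP := ⟨[nat_lit 181, nat_lit 659, nat_lit 661], [], (nat_lit 860), ⟨[nat_lit 0, nat_lit 74, nat_lit 66], [nat_lit 5, nat_lit 90], ⟨[nat_lit 0x8a450510a070d0c69a7479e57586b6], [nat_lit 168448, nat_lit 164096, nat_lit 156224, nat_lit 153248, nat_lit 150672, nat_lit 145088, nat_lit 139944, nat_lit 136958, nat_lit 131419, nat_lit 680, nat_lit 5208, nat_lit 8832, nat_lit 13264, nat_lit 18304, nat_lit 22144, nat_lit 26496, nat_lit 30464, nat_lit 37888, nat_lit 41647, nat_lit 37136, nat_lit 32816, nat_lit 28688, nat_lit 24617, nat_lit 20569, nat_lit 16397, nat_lit 12311, nat_lit 8211, nat_lit 4097]⟩⟩⟩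
def phn101 : AP := ⟨[nat_lit 170, nat_lit 214, nat_lit 170], [], (nat_lit 396), ⟨[nat_lit 4, nat_lit 67], [nat_lit 0, nat_lit 2, nat_lit 90], ⟨[nat_lit 0x80cf40c8b730276112b16290b4bdae], [nat_lit 169472, nat_lit 164096, nat_lit 161536, nat_lit 157568, nat_lit 152416, nat_lit 148240, nat_lit 144696, nat_lit 140340, nat_lit 135710, nat_lit 131336, nat_lit 1624, nat_lit 4720, nat_lit 8408, nat_lit 14176, nat_lit 17440, nat_lit 26240, nat_lit 28928, nat_lit 33280, nat_lit 41467, nat_lit 37248, nat_lit 33408, nat_lit 29184, nat_lit 24597, nat_lit 16463, nat_lit 12294, nat_lit 8202, nat_lit 4105, nat_lit 2]⟩⟩⟩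
def phn102 : AP := ⟨[nat_lit 53, nat_lit 72, nat_lit 643, nat_lit 50], [], (nat_lit 1046), ⟨[nat_lit 0, nat_lit 42, nat_lit 90], [nat_lit 79, nat_lit 63], ⟨[nat_lit 0x78916582ad386032d2574a8d19b1c4], [nat_lit 173056, nat_lit 164864, nat_lit 160896, nat_lit 156096, nat_lit 153088, nat_lit 148000, nat_lit 143832, nat_lit 140548, nat_lit 137076, nat_lit 134492, nat_lit 16, nat_lit 5768, nat_lit 10144, nat_lit 12752, nat_lit 16896, nat_lit 21312, nat_lit 25600, nat_lit 29440, nat_lit 37888, nat_lit 41034, nat_lit 37370, nat_lit 33326, nat_lit 28997, nat_lit 24840, nat_lit 20488, nat_lit 16385, nat_lit 12326, nat_lit 8195, nat_lit 4100]⟩⟩⟩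
def lhn103 : List AP := [⟨[nat_lit 217], [], (nat_lit 339), ⟨[nat_lit 23, nat_lit 59], [nat_lit 0, nat_lit 35, nat_lit 64], ⟨[nat_lit 0xacd2175ec46804579a325a987a0e08], [nat_lit 174080, nat_lit 168448, nat_lit 164096, nat_lit 161024, nat_lit 159104, nat_lit 153920, nat_lit 149680, nat_lit 143512, nat_lit 141848, nat_lit 135888, nat_lit 134575, nat_lit 1396, nat_lit 4520, nat_lit 8344, nat_lit 12672, nat_lit 16448, nat_lit 20736, nat_lit 24832, nat_lit 37888, nat_lit 41494, nat_lit 36884, nat_lit 32769, nat_lit 28687, nat_lit 24593, nat_lit 20491, nat_lit 16451, nat_lit 12322, nat_lit 8322, nat_lit 4113]⟩⟩⟩,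
  ⟨[], [], (nat_lit 1034), ⟨[nat_lit 0, nat_lit 75, nat_lit 60], [nat_lit 76, nat_lit 48], ⟨[nat_lit 0x99975380afbc944139096da818b070], [nat_lit 173056, nat_lit 168960, nat_lit 164864, nat_lit 161536, nat_lit 156544, nat_lit 153376, nat_lit 147616, nat_lit 143904, nat_lit 140864, nat_lit 135740, nat_lit 133913, nat_lit 64, nat_lit 4404, nat_lit 8504, nat_lit 12800, nat_lit 18144, nat_lit 21696, nat_lit 24960, nat_lit 29696, nat_lit 34304, nat_lit 37888, nat_lit 41432, nat_lit 37185, nat_lit 32979, nat_lit 28705, nat_lit 24617, nat_lit 20494, nat_lit 16652, nat_lit 12310, nat_lit 8208, nat_lit 4100]⟩⟩⟩]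
theorem shn103 : Suf hnT 2048 (ldrop (lapp hnwr5 [1, 0, 1]) 50) (apW dcM phn102) (tgtN dcM phn102.e) := Suf.fin' (l := lhn103) (by decide +kernel)
def lhn102 : List AP := [⟨[nat_lit 49, nat_lit 68, nat_lit 48, nat_lit 56, nat_lit 53], [], (nat_lit 818), ⟨[nat_lit 25, nat_lit 67], [nat_lit 0, nat_lit 34, nat_lit 69], ⟨[nat_lit 0x959e232e70480816b94788d952a297], [nat_lit 169984, nat_lit 167168, nat_lit 161920, nat_lit 159232, nat_lit 151712, nat_lit 151376, nat_lit 146336, nat_lit 140288, nat_lit 137594, nat_lit 131741, nat_lit 1966, nat_lit 5112, nat_lit 8264, nat_lit 12480, nat_lit 16928, nat_lit 20608, nat_lit 24704, nat_lit 29440, nat_lit 34304, nat_lit 41450, nat_lit 37187, nat_lit 33520, nat_lit 29023, nat_lit 24610, nat_lit 20494, nat_lit 16644, nat_lit 12324, nat_lit 8209]⟩⟩⟩,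
  ⟨[nat_lit 415, nat_lit 416, nat_lit 677, nat_lit 677], [], (nat_lit 1226), ⟨[nat_lit 72, nat_lit 54], [nat_lit 88, nat_lit 62], ⟨[nat_lit 0x51c522a071019332060bb35cf65697], [nat_lit 165888, nat_lit 161664, nat_lit 157312, nat_lit 152224, nat_lit 148944, nat_lit 144600, nat_lit 139940, nat_lit 136342, nat_lit 132245, nat_lit 1396, nat_lit 5044, nat_lit 10128, nat_lit 13184, nat_lit 16512, nat_lit 26240, nat_lit 29440, nat_lit 33280, nat_lit 41881, nat_lit 37256, nat_lit 32894, nat_lit 29228, nat_lit 24894, nat_lit 20612, nat_lit 16646, nat_lit 12290, nat_lit 8323, nat_lit 4101]⟩⟩⟩]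
theorem shn102 : Suf hnT 2048 (ldrop (lapp hnwr5 [1, 0, 1]) 40) (apW dcM phn101) (tgtN dcM phn101.e) := Suf.seg (l := lhn102) (by decide +kernel) shn103
def lhn101 : List AP := [⟨[nat_lit 412, nat_lit 675, nat_lit 466, nat_lit 414], [], (nat_lit 1238), ⟨[nat_lit 0, nat_lit 84, nat_lit 90], [nat_lit 5, nat_lit 61], ⟨[nat_lit 0x8454079af35858e224a2a34f21a2d5], [nat_lit 174080, nat_lit 164864, nat_lit 161024, nat_lit 157568, nat_lit 153408, nat_lit 147984, nat_lit 144824, nat_lit 140824, nat_lit 137142, nat_lit 131863, nat_lit 738, nat_lit 5208, nat_lit 8616, nat_lit 13312, nat_lit 17056, nat_lit 21824, nat_lit 24960, nat_lit 28928, nat_lit 33792, nat_lit 41183, nat_lit 36903, nat_lit 32876, nat_lit 29802, nat_lit 24873, nat_lit 20622, nat_lit 16427, nat_lit 8257, nat_lit 4097]⟩⟩⟩,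
  ⟨[nat_lit 180, nat_lit 175, nat_lit 219, nat_lit 170], [], (nat_lit 404), ⟨[nat_lit 0, nat_lit 36, nat_lit 59], [nat_lit 0, nat_lit 12, nat_lit 48], ⟨[nat_lit 0x8b016940c96a88fbba63120255d2a7], [nat_lit 173056, nat_lit 169472, nat_lit 165376, nat_lit 161152, nat_lit 159424, nat_lit 153248, nat_lit 148224, nat_lit 144152, nat_lit 139984, nat_lit 135296, nat_lit 132437, nat_lit 1246, nat_lit 4580, nat_lit 8728, nat_lit 13264, nat_lit 17216, nat_lit 21376, nat_lit 26496, nat_lit 30464, nat_lit 34304, nat_lit 41920, nat_lit 38144, nat_lit 32856, nat_lit 29230, nat_lit 24610, nat_lit 20545, nat_lit 16648, nat_lit 12416, nat_lit 8202, nat_lit 4105]⟩⟩⟩]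
theorem shn101 : Suf hnT 2048 (ldrop (lapp hnwr5 [1, 0, 1]) 30) (apW dcM phn100) (tgtN dcM phn100.e) := Suf.seg (l := lhn101) (by decide +kernel) shn102
def lhn100 : List AP := [⟨[nat_lit 466, nat_lit 465, nat_lit 678, nat_lit 676], [], (nat_lit 1238), ⟨[nat_lit 81, nat_lit 49], [nat_lit 23, nat_lit 49], ⟨[nat_lit 0x5096772634240329dd0f6818530ed5], [nat_lit 175104, nat_lit 168448, nat_lit 166912, nat_lit 162048, nat_lit 159296, nat_lit 152320, nat_lit 149072, nat_lit 143584, nat_lit 141836, nat_lit 137248, nat_lit 131793, nat_lit 804, nat_lit 5208, nat_lit 8592, nat_lit 13312, nat_lit 17504, nat_lit 22464, nat_lit 25472, nat_lit 29696, nat_lit 33792, nat_lit 37888, nat_lit 41307, nat_lit 36878, nat_lit 34045, nat_lit 28696, nat_lit 24622, nat_lit 20493, nat_lit 16518, nat_lit 12294, nat_lit 8194, nat_lit 4097]⟩⟩⟩,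
  ⟨[nat_lit 219, nat_lit 217, nat_lit 176, nat_lit 216], [], (nat_lit 440), ⟨[nat_lit 80, nat_lit 48], [nat_lit 12, nat_lit 52], ⟨[nat_lit 0x5ba90446ad4b27639005549f719841], [nat_lit 173056, nat_lit 169984, nat_lit 160000, nat_lit 156288, nat_lit 152736, nat_lit 147472, nat_lit 144616, nat_lit 140712, nat_lit 135300, nat_lit 132429, nat_lit 1142, nat_lit 4100, nat_lit 9216, nat_lit 12800, nat_lit 18304, nat_lit 21760, nat_lit 25600, nat_lit 29696, nat_lit 33792, nat_lit 37888, nat_lit 41472, nat_lit 37141, nat_lit 33429, nat_lit 29032, nat_lit 24759, nat_lit 20616, nat_lit 16456, nat_lit 8211, nat_lit 4113, nat_lit 16]⟩⟩⟩]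
theorem shn100 : Suf hnT 2048 (ldrop (lapp hnwr5 [1, 0, 1]) 19) (apW dcM phn99) (tgtN dcM phn99.e) := Suf.seg (l := lhn100) (by decide +kernel) shn101
def lhn99 : List AP := [⟨[nat_lit 637, nat_lit 21, nat_lit 30, nat_lit 21], [], (nat_lit 391), ⟨[nat_lit 77, nat_lit 48], [nat_lit 0, nat_lit 27, nat_lit 50], ⟨[nat_lit 0xb1d3793a80504a243da41d5908ae66], [nat_lit 174080, nat_lit 171008, nat_lit 166912, nat_lit 163072, nat_lit 155904, nat_lit 154144, nat_lit 151360, nat_lit 144808, nat_lit 142744, nat_lit 136228, nat_lit 132378, nat_lit 1614, nat_lit 6104, nat_lit 9136, nat_lit 12560, nat_lit 17664, nat_lit 20928, nat_lit 26496, nat_lit 29440, nat_lit 41481, nat_lit 36964, nat_lit 32788, nat_lit 28754, nat_lit 24611, nat_lit 20487, nat_lit 16518, nat_lit 13317, nat_lit 8194, nat_lit 4101, nat_lit 2]⟩⟩⟩,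
  ⟨[nat_lit 216, nat_lit 212, nat_lit 173], [], (nat_lit 1088), ⟨[nat_lit 8, nat_lit 60], [nat_lit 0, nat_lit 77, nat_lit 46], ⟨[nat_lit 0x492c1756f31d0eb4414c1480f6c4a6], [nat_lit 174080, nat_lit 169984, nat_lit 164864, nat_lit 163200, nat_lit 159040, nat_lit 153824, nat_lit 149344, nat_lit 143664, nat_lit 139936, nat_lit 138210, nat_lit 134434, nat_lit 738, nat_lit 5004, nat_lit 8584, nat_lit 14304, nat_lit 16928, nat_lit 21248, nat_lit 24960, nat_lit 29184, nat_lit 33280, nat_lit 37888, nat_lit 40961, nat_lit 37210, nat_lit 33481, nat_lit 29045, nat_lit 24706, nat_lit 20547, nat_lit 16650, nat_lit 12307, nat_lit 8226, nat_lit 4105]⟩⟩⟩]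
theorem shn99 : Suf hnT 2048 (ldrop (lapp hnwr5 [1, 0, 1]) 8) (apW dcM phn98) (tgtN dcM phn98.e) := Suf.seg (l := lhn99) (by decide +kernel) shn100
def lhn98 : List AP := [⟨[nat_lit 638, nat_lit 21, nat_lit 634, nat_lit 638, nat_lit 22, nat_lit 21], [], (nat_lit 338), ⟨[nat_lit 0, nat_lit 87, nat_lit 46], [nat_lit 0, nat_lit 27, nat_lit 55], ⟨[nat_lit 0xb4e4c71aa7101b47dd495c42428e08], [nat_lit 174080, nat_lit 169472, nat_lit 164864, nat_lit 160256, nat_lit 156288, nat_lit 152096, nat_lit 148992, nat_lit 144264, nat_lit 140892, nat_lit 136540, nat_lit 131264, nat_lit 1438, nat_lit 4476, nat_lit 8560, nat_lit 12416, nat_lit 17408, nat_lit 20544, nat_lit 24832, nat_lit 29696, nat_lit 33792, nat_lit 41472, nat_lit 37005, nat_lit 32890, nat_lit 28686, nat_lit 24891, nat_lit 20760, nat_lit 12422, nat_lit 8322, nat_lit 4128, nat_lit 64]⟩⟩⟩,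
  ⟨[nat_lit 660, nat_lit 219, nat_lit 179, nat_lit 170], [], (nat_lit 440), ⟨[nat_lit 30, nat_lit 89], [nat_lit 0, nat_lit 86, nat_lit 92], ⟨[nat_lit 0x242265aa96aa2e96b8609c8e57b022], [nat_lit 175104, nat_lit 170496, nat_lit 166912, nat_lit 160640, nat_lit 155712, nat_lit 153120, nat_lit 150000, nat_lit 145304, nat_lit 140984, nat_lit 139050, nat_lit 133888, nat_lit 1814, nat_lit 4100, nat_lit 8504, nat_lit 14304, nat_lit 17984, nat_lit 20544, nat_lit 25216, nat_lit 29696, nat_lit 33280, nat_lit 41117, nat_lit 36989, nat_lit 32846, nat_lit 28724, nat_lit 24598, nat_lit 20617, nat_lit 16397, nat_lit 12304, nat_lit 8195, nat_lit 4097]⟩⟩⟩]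
theorem hncr5_3 : Suf hnT 2048 (lapp hnwr5 [1, 0, 1]) (apW dcM q1) (tgtN dcM q1.e) := Suf.seg (l := lhn98) (by decide +kernel) shn99

theorem hncr6 : Chk hnT hnwr6 := .inr (by decide +kernel)

theorem hncr7 : Chk hnT hnwr7 := .inr (by decide +kernel)

def phn104 : AP := ⟨[nat_lit 353, nat_lit 357, nat_lit 284], [], (nat_lit 1204), ⟨[nat_lit 0, nat_lit 86, nat_lit 47], [nat_lit 0, nat_lit 18, nat_lit 90], ⟨[nat_lit 0x84e37780ca6a0675904eb4a95604a9], [nat_lit 169472, nat_lit 161408, nat_lit 157632, nat_lit 152672, nat_lit 148096, nat_lit 143368, nat_lit 141092, nat_lit 135440, nat_lit 134659, nat_lit 1478, nat_lit 5444, nat_lit 9664, nat_lit 13552, nat_lit 18368, nat_lit 22080, nat_lit 30208, nat_lit 33280, nat_lit 41603, nat_lit 36995, nat_lit 32887, nat_lit 28771, nat_lit 24598, nat_lit 20500, nat_lit 16418, nat_lit 12289, nat_lit 8193, nat_lit 4097]⟩⟩⟩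
def phn105 : AP := ⟨[nat_lit 289, nat_lit 286, nat_lit 288, nat_lit 287], [], (nat_lit 800), ⟨[nat_lit 87, nat_lit 53], [nat_lit 0, nat_lit 19, nat_lit 54], ⟨[nat_lit 0xa84658094c9200f736843da3335d2b], [nat_lit 173056, nat_lit 168448, nat_lit 164608, nat_lit 160768, nat_lit 157376, nat_lit 152896, nat_lit 148912, nat_lit 144872, nat_lit 143232, nat_lit 135692, nat_lit 131923, nat_lit 1966, nat_lit 5568, nat_lit 9752, nat_lit 12816, nat_lit 17888, nat_lit 21056, nat_lit 25600, nat_lit 29952, nat_lit 34304, nat_lit 37888, nat_lit 41331, nat_lit 37353, nat_lit 33365, nat_lit 28976, nat_lit 25091, nat_lit 20550, nat_lit 16641, nat_lit 12292, nat_lit 8195, nat_lit 4]⟩⟩⟩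
def phn106 : AP := ⟨[nat_lit 287, nat_lit 357, nat_lit 285], [], (nat_lit 1218), ⟨[nat_lit 4, nat_lit 58], [nat_lit 82, nat_lit 62], ⟨[nat_lit 0x5a992250097c4c7b36b0096e89b843], [nat_lit 173056, nat_lit 165120, nat_lit 161280, nat_lit 154048, nat_lit 147680, nat_lit 144128, nat_lit 140580, nat_lit 135394, nat_lit 131706, nat_lit 582, nat_lit 5568, nat_lit 10128, nat_lit 12320, nat_lit 18048, nat_lit 25600, nat_lit 30464, nat_lit 33792, nat_lit 37888, nat_lit 41888, nat_lit 37911, nat_lit 33495, nat_lit 29284, nat_lit 24741, nat_lit 16454, nat_lit 12289, nat_lit 4160, nat_lit 8]⟩⟩⟩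
def lhn107 : List AP := [⟨[nat_lit 646], [], (nat_lit 196), ⟨[nat_lit 0, nat_lit 9, nat_lit 61], [nat_lit 0, nat_lit 87, nat_lit 52], ⟨[nat_lit 0x514ee436978264cb44c0185eb9d482], [nat_lit 169472, nat_lit 167424, nat_lit 163584, nat_lit 159104, nat_lit 154080, nat_lit 147904, nat_lit 146064, nat_lit 142932, nat_lit 136498, nat_lit 134577, nat_lit 488, nat_lit 5912, nat_lit 8208, nat_lit 13488, nat_lit 17600, nat_lit 21312, nat_lit 25088, nat_lit 28928, nat_lit 34304, nat_lit 37888, nat_lit 41023, nat_lit 37045, nat_lit 32844, nat_lit 28749, nat_lit 24616, nat_lit 20497, nat_lit 16391, nat_lit 12290, nat_lit 8194, nat_lit 4101]⟩⟩⟩,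
  ⟨[nat_lit 36, nat_lit 39], [], (nat_lit 1032), ⟨[nat_lit 15, nat_lit 65], [nat_lit 8, nat_lit 90], ⟨[nat_lit 0xb9a34990237d562924aab010d831c7], [nat_lit 168448, nat_lit 164608, nat_lit 161536, nat_lit 157312, nat_lit 152928, nat_lit 149552, nat_lit 145264, nat_lit 139332, nat_lit 135216, nat_lit 132806, nat_lit 1166, nat_lit 5768, nat_lit 10144, nat_lit 13216, nat_lit 16448, nat_lit 20544, nat_lit 25216, nat_lit 29440, nat_lit 41655, nat_lit 38285, nat_lit 33463, nat_lit 28752, nat_lit 24744, nat_lit 20496, nat_lit 16395, nat_lit 12307, nat_lit 8194, nat_lit 4100]⟩⟩⟩]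
theorem shn107 : Suf hnT 19005990 (ldrop (lapp hnwr8 [1, 0, 1]) 34) (apW dcM phn106) (tgtN dcM phn106.e) := Suf.fin' (l := lhn107) (by decide +kernel)
def lhn106 : List AP := [⟨[nat_lit 295, nat_lit 357, nat_lit 286], [], (nat_lit 1204), ⟨[nat_lit 73, nat_lit 90], [nat_lit 0, nat_lit 17, nat_lit 59], ⟨[nat_lit 0x485c7b458fa8e4242e17511a09d0a6], [nat_lit 171008, nat_lit 164352, nat_lit 160512, nat_lit 155776, nat_lit 152768, nat_lit 148992, nat_lit 144000, nat_lit 141088, nat_lit 135744, nat_lit 132249, nat_lit 1614, nat_lit 5836, nat_lit 8520, nat_lit 13152, nat_lit 16960, nat_lit 20608, nat_lit 26112, nat_lit 29184, nat_lit 33280, nat_lit 41552, nat_lit 38242, nat_lit 33453, nat_lit 28711, nat_lit 25624, nat_lit 20630, nat_lit 16418, nat_lit 12353, nat_lit 8323, nat_lit 4113, nat_lit 8]⟩⟩⟩,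
  ⟨[nat_lit 660, nat_lit 170, nat_lit 174, nat_lit 176], [], (nat_lit 752), ⟨[nat_lit 29, nat_lit 51], [nat_lit 0, nat_lit 26, nat_lit 53], ⟨[nat_lit 0x70a32854ca01d845a02f1d2edb4ca9], [nat_lit 174080, nat_lit 171008, nat_lit 165376, nat_lit 163712, nat_lit 158336, nat_lit 154496, nat_lit 149424, nat_lit 144288, nat_lit 139932, nat_lit 138498, nat_lit 133310, nat_lit 804, nat_lit 5444, nat_lit 9384, nat_lit 14320, nat_lit 17824, nat_lit 21184, nat_lit 25600, nat_lit 33280, nat_lit 41571, nat_lit 38112, nat_lit 32891, nat_lit 28722, nat_lit 24592, nat_lit 20625, nat_lit 16394, nat_lit 12308, nat_lit 4097]⟩⟩⟩]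
theorem shn106 : Suf hnT 19005990 (ldrop (lapp hnwr8 [1, 0, 1]) 23) (apW dcM phn105) (tgtN dcM phn105.e) := Suf.seg (l := lhn106) (by decide +kernel) shn107
def lhn105 : List AP := [⟨[nat_lit 179, nat_lit 219, nat_lit 179, nat_lit 173], [], (nat_lit 752), ⟨[nat_lit 81, nat_lit 51], [nat_lit 0, nat_lit 42, nat_lit 70], ⟨[nat_lit 0x30828ac46d9be80592d751d8e848a9], [nat_lit 171008, nat_lit 164608, nat_lit 161024, nat_lit 156800, nat_lit 153312, nat_lit 148880, nat_lit 144496, nat_lit 140440, nat_lit 136372, nat_lit 131141, nat_lit 1066, nat_lit 5444, nat_lit 10160, nat_lit 13360, nat_lit 17440, nat_lit 24704, nat_lit 29184, nat_lit 33280, nat_lit 41733, nat_lit 36888, nat_lit 32811, nat_lit 28746, nat_lit 24713, nat_lit 20747, nat_lit 16908, nat_lit 12418, nat_lit 8208, nat_lit 4161, nat_lit 64]⟩⟩⟩,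
  ⟨[nat_lit 353, nat_lit 292, nat_lit 671, nat_lit 357], [], (nat_lit 800), ⟨[nat_lit 0, nat_lit 20, nat_lit 67], [nat_lit 0, nat_lit 87, nat_lit 62], ⟨[nat_lit 0xaaa282b829182166de4f39a932098b], [nat_lit 174080, nat_lit 171520, nat_lit 166400, nat_lit 163200, nat_lit 155968, nat_lit 155008, nat_lit 151440, nat_lit 143504, nat_lit 142892, nat_lit 136662, nat_lit 131073, nat_lit 404, nat_lit 5768, nat_lit 8208, nat_lit 13120, nat_lit 17120, nat_lit 22144, nat_lit 25856, nat_lit 30464, nat_lit 37888, nat_lit 41252, nat_lit 37102, nat_lit 33960, nat_lit 28676, nat_lit 24602, nat_lit 20484, nat_lit 16391, nat_lit 12358, nat_lit 8200, nat_lit 16]⟩⟩⟩]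
theorem shn105 : Suf hnT 19005990 (ldrop (lapp hnwr8 [1, 0, 1]) 11) (apW dcM phn104) (tgtN dcM phn104.e) := Suf.seg (l := lhn105) (by decide +kernel) shn106
def lhn104 : List AP := [⟨[nat_lit 629, nat_lit 631, nat_lit 43, nat_lit 15, nat_lit 40], [], (nat_lit 197), ⟨[nat_lit 0, nat_lit 40, nat_lit 57], [nat_lit 87, nat_lit 51], ⟨[nat_lit 0x41cac902865ce2eb2aaf1b429812e2], [nat_lit 173056, nat_lit 165120, nat_lit 160896, nat_lit 151648, nat_lit 148704, nat_lit 143464, nat_lit 139472, nat_lit 136224, nat_lit 135119, nat_lit 4, nat_lit 4532, nat_lit 8208, nat_lit 12480, nat_lit 17440, nat_lit 21568, nat_lit 25600, nat_lit 29952, nat_lit 33280, nat_lit 41756, nat_lit 38153, nat_lit 33921, nat_lit 28691, nat_lit 24629, nat_lit 20511, nat_lit 16424, nat_lit 12322, nat_lit 8193, nat_lit 4113]⟩⟩⟩,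
  ⟨[nat_lit 86, nat_lit 78, nat_lit 646, nat_lit 87, nat_lit 82], [], (nat_lit 718), ⟨[nat_lit 75, nat_lit 64], [nat_lit 0, nat_lit 7, nat_lit 47], ⟨[nat_lit 0xad9827280969c24820d45dcb37c643], [nat_lit 175104, nat_lit 170496, nat_lit 166400, nat_lit 159872, nat_lit 156736, nat_lit 152736, nat_lit 150384, nat_lit 143720, nat_lit 139852, nat_lit 138010, nat_lit 134231, nat_lit 1818, nat_lit 5572, nat_lit 10064, nat_lit 13664, nat_lit 17728, nat_lit 22336, nat_lit 26368, nat_lit 29184, nat_lit 33792, nat_lit 41186, nat_lit 37254, nat_lit 33487, nat_lit 28713, nat_lit 24866, nat_lit 20509, nat_lit 16417, nat_lit 12309, nat_lit 8209, nat_lit 4160]⟩⟩⟩]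
theorem hncr8_0 : Suf hnT 19005990 (lapp hnwr8 [1, 0, 1]) (apW dcM q0) (tgtN dcM q0.e) := Suf.seg (l := lhn104) (by decide +kernel) shn105

def phn108 : AP := ⟨[nat_lit 219, nat_lit 218, nat_lit 213, nat_lit 177, nat_lit 170], [], (nat_lit 484), ⟨[nat_lit 0, nat_lit 34, nat_lit 93], [nat_lit 13, nat_lit 61], ⟨[nat_lit 0x5d5092c1802064d9984eb5d5478cf1], [nat_lit 168448, nat_lit 157696, nat_lit 152288, nat_lit 144032, nat_lit 140636, nat_lit 137210, nat_lit 131319, nat_lit 1694, nat_lit 6084, nat_lit 8576, nat_lit 14112, nat_lit 17984, nat_lit 20992, nat_lit 25088, nat_lit 29184, nat_lit 33792, nat_lit 41935, nat_lit 37338, nat_lit 33518, nat_lit 29239, nat_lit 24635, nat_lit 20569, nat_lit 16459, nat_lit 8321, nat_lit 4129, nat_lit 2]⟩⟩⟩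
def phn109 : AP := ⟨[nat_lit 212, nat_lit 660, nat_lit 212, nat_lit 176], [], (nat_lit 440), ⟨[nat_lit 40, nat_lit 91], [nat_lit 76, nat_lit 68], ⟨[nat_lit 0x5b6b7b4483825f3a00b2430c7505c2], [nat_lit 173056, nat_lit 169984, nat_lit 164352, nat_lit 160512, nat_lit 157120, nat_lit 152512, nat_lit 148512, nat_lit 144016, nat_lit 140272, nat_lit 136604, nat_lit 132611, nat_lit 1814, nat_lit 6068, nat_lit 9648, nat_lit 13872, nat_lit 18336, nat_lit 21312, nat_lit 25856, nat_lit 29952, nat_lit 34304, nat_lit 37888, nat_lit 41754, nat_lit 37104, nat_lit 33818, nat_lit 29296, nat_lit 25128, nat_lit 20487, nat_lit 16393, nat_lit 12308, nat_lit 8194, nat_lit 4100, nat_lit 8]⟩⟩⟩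
def phn110 : AP := ⟨[nat_lit 671, nat_lit 356], [], (nat_lit 1124), ⟨[nat_lit 33, nat_lit 54], [nat_lit 0, nat_lit 86, nat_lit 60], ⟨[nat_lit 0x70d82b50e58a20921ab7781a19c96a], [nat_lit 168960, nat_lit 165376, nat_lit 160768, nat_lit 157568, nat_lit 154336, nat_lit 148368, nat_lit 143528, nat_lit 141088, nat_lit 135214, nat_lit 131925, nat_lit 1842, nat_lit 5112, nat_lit 9592, nat_lit 13296, nat_lit 18112, nat_lit 22144, nat_lit 25856, nat_lit 29440, nat_lit 33280, nat_lit 37888, nat_lit 41435, nat_lit 37301, nat_lit 33490, nat_lit 28687, nat_lit 24839, nat_lit 20492, nat_lit 16911, nat_lit 12311, nat_lit 8201]⟩⟩⟩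
def lhn111 : List AP := [⟨[nat_lit 71], [], (nat_lit 122), ⟨[nat_lit 78, nat_lit 63], [nat_lit 0, nat_lit 28, nat_lit 92], ⟨[nat_lit 0x3ce0a65a2293c756b8cb080a8bd124], [nat_lit 173056, nat_lit 171008, nat_lit 165632, nat_lit 161920, nat_lit 157440, nat_lit 154464, nat_lit 150336, nat_lit 145848, nat_lit 139716, nat_lit 136780, nat_lit 133732, nat_lit 680, nat_lit 5588, nat_lit 9976, nat_lit 14032, nat_lit 16640, nat_lit 22400, nat_lit 24960, nat_lit 28928, nat_lit 34304, nat_lit 37888, nat_lit 41576, nat_lit 38265, nat_lit 32999, nat_lit 28689, nat_lit 24858, nat_lit 20571, nat_lit 16385, nat_lit 12353, nat_lit 8201, nat_lit 4097]⟩⟩⟩,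
  ⟨[nat_lit 631, nat_lit 15, nat_lit 36], [], (nat_lit 1032), ⟨[nat_lit 40, nat_lit 54], [nat_lit 0, nat_lit 24, nat_lit 50], ⟨[nat_lit 0x1818ea42b2685e2520a449ccbbc676], [nat_lit 164352, nat_lit 159872, nat_lit 159232, nat_lit 152608, nat_lit 148048, nat_lit 144056, nat_lit 140028, nat_lit 136414, nat_lit 132973, nat_lit 760, nat_lit 4340, nat_lit 9352, nat_lit 12592, nat_lit 18336, nat_lit 21888, nat_lit 28928, nat_lit 34304, nat_lit 37888, nat_lit 41971, nat_lit 38228, nat_lit 33923, nat_lit 29287, nat_lit 20764, nat_lit 16646, nat_lit 12321, nat_lit 8201, nat_lit 4097]⟩⟩⟩]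
theorem shn111 : Suf hnT 19005990 (ldrop (lapp hnwr8 [2, 0, 1]) 34) (apW dcM phn110) (tgtN dcM phn110.e) := Suf.fin' (l := lhn111) (by decide +kernel)
def lhn110 : List AP := [⟨[nat_lit 214, nat_lit 178, nat_lit 171, nat_lit 212, nat_lit 173], [], (nat_lit 486), ⟨[nat_lit 15, nat_lit 61], [nat_lit 0, nat_lit 8, nat_lit 67], ⟨[nat_lit 0x2440ca8d217d9aab94cb4429393847], [nat_lit 168448, nat_lit 165376, nat_lit 161024, nat_lit 152384, nat_lit 149296, nat_lit 145528, nat_lit 139588, nat_lit 136592, nat_lit 131984, nat_lit 1174, nat_lit 4408, nat_lit 10168, nat_lit 18112, nat_lit 20800, nat_lit 26496, nat_lit 30208, nat_lit 33792, nat_lit 41416, nat_lit 37070, nat_lit 32938, nat_lit 28776, nat_lit 24730, nat_lit 20502, nat_lit 16385, nat_lit 4128]⟩⟩⟩,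
  ⟨[nat_lit 263, nat_lit 222, nat_lit 227], [], (nat_lit 632), ⟨[nat_lit 0, nat_lit 83, nat_lit 94], [nat_lit 0, nat_lit 86, nat_lit 70], ⟨[nat_lit 0x82ce1036a320a4a4dd0e616c6a3e33], [nat_lit 168448, nat_lit 166656, nat_lit 162688, nat_lit 158080, nat_lit 155616, nat_lit 149344, nat_lit 147008, nat_lit 141612, nat_lit 136718, nat_lit 133286, nat_lit 78, nat_lit 5024, nat_lit 9784, nat_lit 12320, nat_lit 17536, nat_lit 20864, nat_lit 26240, nat_lit 29440, nat_lit 33280, nat_lit 37888, nat_lit 41859, nat_lit 36886, nat_lit 33964, nat_lit 28748, nat_lit 24743, nat_lit 20481, nat_lit 16901, nat_lit 12352, nat_lit 8323, nat_lit 4097, nat_lit 2]⟩⟩⟩]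
theorem shn110 : Suf hnT 19005990 (ldrop (lapp hnwr8 [2, 0, 1]) 23) (apW dcM phn109) (tgtN dcM phn109.e) := Suf.seg (l := lhn110) (by decide +kernel) shn111
def lhn109 : List AP := [⟨[nat_lit 265, nat_lit 262, nat_lit 259], [], (nat_lit 554), ⟨[nat_lit 15, nat_lit 56], [nat_lit 7, nat_lit 58], ⟨[nat_lit 0x59066c697486a7708725a9932c08f], [nat_lit 173056, nat_lit 171520, nat_lit 165120, nat_lit 159872, nat_lit 156672, nat_lit 153088, nat_lit 148592, nat_lit 143672, nat_lit 139632, nat_lit 136536, nat_lit 131689, nat_lit 1318, nat_lit 4416, nat_lit 8248, nat_lit 14304, nat_lit 16512, nat_lit 21504, nat_lit 24704, nat_lit 29184, nat_lit 37888, nat_lit 41837, nat_lit 36896, nat_lit 33901, nat_lit 28742, nat_lit 24725, nat_lit 20992, nat_lit 16458, nat_lit 12305, nat_lit 8322, nat_lit 4161, nat_lit 16]⟩⟩⟩,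
  ⟨[nat_lit 667, nat_lit 223], [], (nat_lit 1102), ⟨[nat_lit 27, nat_lit 56], [nat_lit 20, nat_lit 62], ⟨[nat_lit 0xd170b4900612f56952a708c37ccf1], [nat_lit 173056, nat_lit 168960, nat_lit 159872, nat_lit 156224, nat_lit 151584, nat_lit 147520, nat_lit 143960, nat_lit 139788, nat_lit 135458, nat_lit 132617, nat_lit 1694, nat_lit 5276, nat_lit 9560, nat_lit 14176, nat_lit 17312, nat_lit 22272, nat_lit 25088, nat_lit 29952, nat_lit 33280, nat_lit 41116, nat_lit 37120, nat_lit 33397, nat_lit 29724, nat_lit 24886, nat_lit 20757, nat_lit 16653, nat_lit 8448, nat_lit 4160, nat_lit 2]⟩⟩⟩]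
theorem shn109 : Suf hnT 19005990 (ldrop (lapp hnwr8 [2, 0, 1]) 11) (apW dcM phn108) (tgtN dcM phn108.e) := Suf.seg (l := lhn109) (by decide +kernel) shn110
def lhn108 : List AP := [⟨[nat_lit 40, nat_lit 14, nat_lit 37, nat_lit 16, nat_lit 15], [], (nat_lit 90), ⟨[nat_lit 76, nat_lit 50], [nat_lit 37, nat_lit 92], ⟨[nat_lit 0x5c182b992a43433950b12580379dd5], [nat_lit 174080, nat_lit 168960, nat_lit 165376, nat_lit 160384, nat_lit 156800, nat_lit 153152, nat_lit 148336, nat_lit 145032, nat_lit 141288, nat_lit 136814, nat_lit 131992, nat_lit 738, nat_lit 5460, nat_lit 8824, nat_lit 13152, nat_lit 16992, nat_lit 22336, nat_lit 26112, nat_lit 29440, nat_lit 34304, nat_lit 41751, nat_lit 37042, nat_lit 33815, nat_lit 28783, nat_lit 24766, nat_lit 20508, nat_lit 16420, nat_lit 8193, nat_lit 4225]⟩⟩⟩,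
  ⟨[nat_lit 69, nat_lit 70, nat_lit 642, nat_lit 54, nat_lit 50], [], (nat_lit 368), ⟨[nat_lit 0, nat_lit 2, nat_lit 55], [nat_lit 23, nat_lit 70], ⟨[nat_lit 0xb0d0ea856c9a9276962f25e9034802], [nat_lit 173056, nat_lit 168960, nat_lit 160768, nat_lit 156352, nat_lit 152320, nat_lit 147872, nat_lit 144472, nat_lit 139424, nat_lit 137822, nat_lit 133011, nat_lit 4, nat_lit 4100, nat_lit 13616, nat_lit 18400, nat_lit 20544, nat_lit 25600, nat_lit 29952, nat_lit 34304, nat_lit 41623, nat_lit 38207, nat_lit 33366, nat_lit 28952, nat_lit 24746, nat_lit 20628, nat_lit 16420, nat_lit 12354, nat_lit 8194, nat_lit 4097, nat_lit 2]⟩⟩⟩]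
theorem hncr8_1 : Suf hnT 19005990 (lapp hnwr8 [2, 0, 1]) (iC2 :: apW dcM q0) (tgtN dcM q0.e) := Suf.seg (l := lhn108) (by decide +kernel) shn109

def phn112 : AP := ⟨[nat_lit 355, nat_lit 670, nat_lit 352, nat_lit 351], [], (nat_lit 801), ⟨[nat_lit 2, nat_lit 93], [nat_lit 76, nat_lit 52], ⟨[nat_lit 0xb84e89d2cca8c8a895e668a408392b], [nat_lit 173056, nat_lit 169472, nat_lit 160768, nat_lit 156288, nat_lit 155072, nat_lit 148896, nat_lit 143712, nat_lit 139364, nat_lit 136850, nat_lit 132383, nat_lit 986, nat_lit 5604, nat_lit 10128, nat_lit 12768, nat_lit 17760, nat_lit 20736, nat_lit 24832, nat_lit 29184, nat_lit 33792, nat_lit 41428, nat_lit 37207, nat_lit 32800, nat_lit 29812, nat_lit 24634, nat_lit 16453, nat_lit 12311, nat_lit 16]⟩⟩⟩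
def phn113 : AP := ⟨[nat_lit 352, nat_lit 284, nat_lit 295, nat_lit 671], [], (nat_lit 800), ⟨[nat_lit 0, nat_lit 25, nat_lit 49], [nat_lit 0, nat_lit 1, nat_lit 69], ⟨[nat_lit 0x518f204c49750836d425859178bd6c], [nat_lit 170496, nat_lit 164608, nat_lit 161280, nat_lit 157888, nat_lit 153088, nat_lit 148992, nat_lit 145824, nat_lit 143196, nat_lit 139180, nat_lit 134299, nat_lit 880, nat_lit 5296, nat_lit 8928, nat_lit 13664, nat_lit 18016, nat_lit 21952, nat_lit 24832, nat_lit 28928, nat_lit 33280, nat_lit 37888, nat_lit 41574, nat_lit 37163, nat_lit 32911, nat_lit 28928, nat_lit 25631, nat_lit 20566, nat_lit 16451, nat_lit 12295, nat_lit 8195, nat_lit 4100]⟩⟩⟩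
def phn114 : AP := ⟨[nat_lit 284, nat_lit 351], [], (nat_lit 1218), ⟨[nat_lit 0, nat_lit 3, nat_lit 64], [nat_lit 29, nat_lit 90], ⟨[nat_lit 0x13ef5694e38ae867025355a040a189], [nat_lit 169472, nat_lit 165632, nat_lit 162560, nat_lit 156288, nat_lit 153472, nat_lit 149120, nat_lit 144856, nat_lit 140140, nat_lit 135606, nat_lit 132470, nat_lit 804, nat_lit 4540, nat_lit 8376, nat_lit 13680, nat_lit 16512, nat_lit 21696, nat_lit 24832, nat_lit 28928, nat_lit 33792, nat_lit 41061, nat_lit 36943, nat_lit 32799, nat_lit 28736, nat_lit 24760, nat_lit 20563, nat_lit 12325, nat_lit 8202, nat_lit 32]⟩⟩⟩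
def lhn115 : List AP := [⟨[nat_lit 644], [], (nat_lit 151), ⟨[nat_lit 32, nat_lit 51], [nat_lit 0, nat_lit 26, nat_lit 49], ⟨[nat_lit 0xb25a35a2061022774984a4cb75542f], [nat_lit 169472, nat_lit 166912, nat_lit 160512, nat_lit 157248, nat_lit 152064, nat_lit 148128, nat_lit 144296, nat_lit 140424, nat_lit 136844, nat_lit 131751, nat_lit 394, nat_lit 4352, nat_lit 9104, nat_lit 14224, nat_lit 16864, nat_lit 22336, nat_lit 25600, nat_lit 28928, nat_lit 33280, nat_lit 37888, nat_lit 41717, nat_lit 37184, nat_lit 33520, nat_lit 25088, nat_lit 20504, nat_lit 16399, nat_lit 12289, nat_lit 8210, nat_lit 4]⟩⟩⟩,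
  ⟨[nat_lit 43, nat_lit 630], [], (nat_lit 1032), ⟨[nat_lit 77, nat_lit 60], [nat_lit 0, nat_lit 21, nat_lit 89], ⟨[nat_lit 0xba6b198c4a5ba4c320902bc166d027], [nat_lit 164864, nat_lit 161664, nat_lit 157056, nat_lit 152160, nat_lit 148000, nat_lit 147000, nat_lit 141084, nat_lit 137210, nat_lit 132649, nat_lit 1174, nat_lit 4104, nat_lit 9728, nat_lit 13680, nat_lit 17728, nat_lit 20992, nat_lit 30464, nat_lit 34304, nat_lit 37888, nat_lit 41824, nat_lit 38236, nat_lit 33816, nat_lit 28759, nat_lit 24746, nat_lit 20504, nat_lit 16399, nat_lit 12291, nat_lit 8211]⟩⟩⟩]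
theorem shn115 : Suf hnT 19005990 (ldrop (lapp hnwr8 [3, 0, 1]) 34) (apW dcM phn114) (tgtN dcM phn114.e) := Suf.fin' (l := lhn115) (by decide +kernel)
def lhn114 : List AP := [⟨[nat_lit 287, nat_lit 356, nat_lit 356, nat_lit 285], [], (nat_lit 770), ⟨[nat_lit 0, nat_lit 42, nat_lit 50], [nat_lit 0, nat_lit 83, nat_lit 57], ⟨[nat_lit 0x992a5620266d9f211d4eb82035a691], [nat_lit 173056, nat_lit 169472, nat_lit 166144, nat_lit 160000, nat_lit 157568, nat_lit 151680, nat_lit 148864, nat_lit 144480, nat_lit 139712, nat_lit 136614, nat_lit 131802, nat_lit 512, nat_lit 5604, nat_lit 9752, nat_lit 12320, nat_lit 17376, nat_lit 20608, nat_lit 25600, nat_lit 29952, nat_lit 33792, nat_lit 41729, nat_lit 38335, nat_lit 32908, nat_lit 29004, nat_lit 24704, nat_lit 21022, nat_lit 16902, nat_lit 12310, nat_lit 8200, nat_lit 4100, nat_lit 1024]⟩⟩⟩,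
  ⟨[nat_lit 351, nat_lit 286, nat_lit 284], [], (nat_lit 800), ⟨[nat_lit 5, nat_lit 62], [nat_lit 41, nat_lit 46], ⟨[nat_lit 0x6cce00c4ccadeca1408f9386545169], [nat_lit 173056, nat_lit 169984, nat_lit 165376, nat_lit 161536, nat_lit 157312, nat_lit 152672, nat_lit 148032, nat_lit 145064, nat_lit 139512, nat_lit 136478, nat_lit 131547, nat_lit 1478, nat_lit 4568, nat_lit 9272, nat_lit 13776, nat_lit 17728, nat_lit 20992, nat_lit 25728, nat_lit 29184, nat_lit 33280, nat_lit 37888, nat_lit 41756, nat_lit 32888, nat_lit 28696, nat_lit 24886, nat_lit 20487, nat_lit 16520, nat_lit 12358, nat_lit 8227, nat_lit 32]⟩⟩⟩]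
theorem shn114 : Suf hnT 19005990 (ldrop (lapp hnwr8 [3, 0, 1]) 23) (apW dcM phn113) (tgtN dcM phn113.e) := Suf.seg (l := lhn114) (by decide +kernel) shn115
def lhn113 : List AP := [⟨[nat_lit 290, nat_lit 357, nat_lit 286, nat_lit 290], [], (nat_lit 1154), ⟨[nat_lit 42, nat_lit 48], [nat_lit 0, nat_lit 20, nat_lit 55], ⟨[nat_lit 0xb9900116aaa5a2d8302399dc44bd72], [nat_lit 173056, nat_lit 168960, nat_lit 164608, nat_lit 163200, nat_lit 155840, nat_lit 151648, nat_lit 148976, nat_lit 144112, nat_lit 139984, nat_lit 135278, nat_lit 131280, nat_lit 4952, nat_lit 8688, nat_lit 14304, nat_lit 16512, nat_lit 21376, nat_lit 26112, nat_lit 34304, nat_lit 37888, nat_lit 41911, nat_lit 38380, nat_lit 33887, nat_lit 28740, nat_lit 24751, nat_lit 20554, nat_lit 12294, nat_lit 8202, nat_lit 32]⟩⟩⟩,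
  ⟨[nat_lit 664, nat_lit 264, nat_lit 261, nat_lit 263], [], (nat_lit 642), ⟨[nat_lit 38, nat_lit 61], [nat_lit 39, nat_lit 93], ⟨[nat_lit 0xa9a2ca349203d0e49c45506d780d73], [nat_lit 173056, nat_lit 166656, nat_lit 162048, nat_lit 158528, nat_lit 154208, nat_lit 147504, nat_lit 147216, nat_lit 141652, nat_lit 135948, nat_lit 133188, nat_lit 404, nat_lit 5024, nat_lit 8848, nat_lit 12336, nat_lit 17856, nat_lit 21888, nat_lit 28928, nat_lit 41579, nat_lit 38130, nat_lit 32969, nat_lit 28740, nat_lit 24585, nat_lit 20503, nat_lit 16431, nat_lit 12289, nat_lit 8226, nat_lit 4097, nat_lit 2]⟩⟩⟩]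
theorem shn113 : Suf hnT 19005990 (ldrop (lapp hnwr8 [3, 0, 1]) 11) (apW dcM phn112) (tgtN dcM phn112.e) := Suf.seg (l := lhn113) (by decide +kernel) shn114
def lhn112 : List AP := [⟨[nat_lit 36, nat_lit 14, nat_lit 633, nat_lit 633, nat_lit 17, nat_lit 15], [], (nat_lit 150), ⟨[nat_lit 13, nat_lit 92], [nat_lit 0, nat_lit 44, nat_lit 66], ⟨[nat_lit 0x5b645186c234d2c8a88ebd4147a207], [nat_lit 173056, nat_lit 168960, nat_lit 164096, nat_lit 160256, nat_lit 156480, nat_lit 151648, nat_lit 148192, nat_lit 143424, nat_lit 140200, nat_lit 137546, nat_lit 132776, nat_lit 1180, nat_lit 4160, nat_lit 8448, nat_lit 14112, nat_lit 17024, nat_lit 20608, nat_lit 24832, nat_lit 28928, nat_lit 33280, nat_lit 41693, nat_lit 38202, nat_lit 33297, nat_lit 28799, nat_lit 24582, nat_lit 20637, nat_lit 16525, nat_lit 12290, nat_lit 8256]⟩⟩⟩,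
  ⟨[nat_lit 84, nat_lit 648, nat_lit 79, nat_lit 645, nat_lit 103], [], (nat_lit 718), ⟨[nat_lit 0, nat_lit 83, nat_lit 59], [nat_lit 22, nat_lit 46], ⟨[nat_lit 0x8aeef504893b80d65910156862cc72], [nat_lit 173056, nat_lit 168960, nat_lit 165376, nat_lit 160000, nat_lit 157120, nat_lit 153376, nat_lit 148032, nat_lit 144952, nat_lit 139284, nat_lit 138146, nat_lit 132146, nat_lit 590, nat_lit 4104, nat_lit 9672, nat_lit 12416, nat_lit 17408, nat_lit 22336, nat_lit 26368, nat_lit 34304, nat_lit 41647, nat_lit 37941, nat_lit 32970, nat_lit 28778, nat_lit 24742, nat_lit 20482, nat_lit 16896, nat_lit 12290, nat_lit 8259, nat_lit 4]⟩⟩⟩]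
theorem hncr8_2 : Suf hnT 19005990 (lapp hnwr8 [3, 0, 1]) (iC3 :: apW dcM q0) (tgtN dcM q0.e) := Suf.seg (l := lhn112) (by decide +kernel) shn113

def phn116 : AP := ⟨[nat_lit 411, nat_lit 677, nat_lit 419, nat_lit 462], [], (nat_lit 1226), ⟨[nat_lit 20, nat_lit 64], [nat_lit 0, nat_lit 11, nat_lit 51], ⟨[nat_lit 0x2a9c7acc44058d14b2505bc236a2f4], [nat_lit 173056, nat_lit 170496, nat_lit 164608, nat_lit 161664, nat_lit 158720, nat_lit 153472, nat_lit 149088, nat_lit 147184, nat_lit 141436, nat_lit 137478, nat_lit 133245, nat_lit 622, nat_lit 5688, nat_lit 8448, nat_lit 13712, nat_lit 17824, nat_lit 21312, nat_lit 26496, nat_lit 29440, nat_lit 33280, nat_lit 37888, nat_lit 41017, nat_lit 37093, nat_lit 32801, nat_lit 28683, nat_lit 25140, nat_lit 20496, nat_lit 16393, nat_lit 12290, nat_lit 8704]⟩⟩⟩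
def phn117 : AP := ⟨[nat_lit 175, nat_lit 174, nat_lit 179, nat_lit 171], [], (nat_lit 858), ⟨[nat_lit 45, nat_lit 64], [nat_lit 0, nat_lit 45, nat_lit 48], ⟨[nat_lit 0x6bd620a4c7bb0929b8b480d51402b6], [nat_lit 175104, nat_lit 168448, nat_lit 167680, nat_lit 162944, nat_lit 157888, nat_lit 151968, nat_lit 147472, nat_lit 143912, nat_lit 142072, nat_lit 138470, nat_lit 132487, nat_lit 1918, nat_lit 5208, nat_lit 8736, nat_lit 12976, nat_lit 17120, nat_lit 21248, nat_lit 24960, nat_lit 29440, nat_lit 34304, nat_lit 41430, nat_lit 37134, nat_lit 33312, nat_lit 29765, nat_lit 24623, nat_lit 20490, nat_lit 16525, nat_lit 12294, nat_lit 8203, nat_lit 4097]⟩⟩⟩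
def phn118 : AP := ⟨[nat_lit 418, nat_lit 675, nat_lit 467, nat_lit 464], [], (nat_lit 1238), ⟨[nat_lit 28, nat_lit 50], [nat_lit 19, nat_lit 92], ⟨[nat_lit 0x4ce40b91b1a3cb031d42405cc58ed5], [nat_lit 173056, nat_lit 168960, nat_lit 165376, nat_lit 160896, nat_lit 157504, nat_lit 151808, nat_lit 149920, nat_lit 144336, nat_lit 141004, nat_lit 136994, nat_lit 132954, nat_lit 1778, nat_lit 5208, nat_lit 9576, nat_lit 14208, nat_lit 18304, nat_lit 21120, nat_lit 24704, nat_lit 29952, nat_lit 34304, nat_lit 37888, nat_lit 41290, nat_lit 37311, nat_lit 32892, nat_lit 28748, nat_lit 24732, nat_lit 20507, nat_lit 16398, nat_lit 12308, nat_lit 8210, nat_lit 4097]⟩⟩⟩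
def lhn119 : List AP := [⟨[nat_lit 660], [], (nat_lit 339), ⟨[nat_lit 11, nat_lit 51], [nat_lit 39, nat_lit 68], ⟨[nat_lit 0x152cd1988faaa2564e40405c9b9e0b], [nat_lit 175104, nat_lit 165376, nat_lit 161152, nat_lit 157184, nat_lit 153184, nat_lit 147504, nat_lit 145256, nat_lit 139560, nat_lit 136504, nat_lit 131705, nat_lit 1860, nat_lit 5016, nat_lit 9752, nat_lit 13712, nat_lit 17248, nat_lit 21248, nat_lit 26240, nat_lit 29952, nat_lit 37888, nat_lit 41482, nat_lit 37360, nat_lit 33469, nat_lit 28764, nat_lit 24708, nat_lit 21001, nat_lit 16431, nat_lit 12320, nat_lit 8209, nat_lit 4101, nat_lit 4]⟩⟩⟩,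
  ⟨[], [], (nat_lit 1034), ⟨[nat_lit 75, nat_lit 68], [nat_lit 0, nat_lit 17, nat_lit 65], ⟨[nat_lit 0x68a4970170250e5adae6505919a06f], [nat_lit 173056, nat_lit 164096, nat_lit 160128, nat_lit 155968, nat_lit 152448, nat_lit 149440, nat_lit 144360, nat_lit 140752, nat_lit 136764, nat_lit 134209, nat_lit 1896, nat_lit 5420, nat_lit 10224, nat_lit 12800, nat_lit 17920, nat_lit 21120, nat_lit 25088, nat_lit 30464, nat_lit 33792, nat_lit 37888, nat_lit 41271, nat_lit 37359, nat_lit 33286, nat_lit 28795, nat_lit 24722, nat_lit 20554, nat_lit 16514, nat_lit 12307, nat_lit 8706, nat_lit 4105]⟩⟩⟩]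
theorem shn119 : Suf hnT 2048 (ldrop (lapp hnwr8 [1, 0, 1]) 34) (apW dcM phn118) (tgtN dcM phn118.e) := Suf.fin' (l := lhn119) (by decide +kernel)
def lhn118 : List AP := [⟨[nat_lit 414, nat_lit 420, nat_lit 462, nat_lit 462], [], (nat_lit 1226), ⟨[nat_lit 16, nat_lit 60], [nat_lit 0, nat_lit 37, nat_lit 49], ⟨[nat_lit 0x13cd50b8b64807062a6d91c885c697], [nat_lit 175104, nat_lit 169984, nat_lit 167168, nat_lit 163584, nat_lit 156800, nat_lit 154912, nat_lit 150784, nat_lit 143672, nat_lit 142008, nat_lit 136472, nat_lit 132550, nat_lit 960, nat_lit 5112, nat_lit 9648, nat_lit 14064, nat_lit 16640, nat_lit 20992, nat_lit 25728, nat_lit 30208, nat_lit 33280, nat_lit 37888, nat_lit 41491, nat_lit 38039, nat_lit 33001, nat_lit 29053, nat_lit 24868, nat_lit 20495, nat_lit 16512, nat_lit 12321, nat_lit 4104]⟩⟩⟩,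
  ⟨[nat_lit 67, nat_lit 73, nat_lit 56, nat_lit 68, nat_lit 49], [], (nat_lit 818), ⟨[nat_lit 0, nat_lit 6, nat_lit 62], [nat_lit 71, nat_lit 46], ⟨[nat_lit 0x2a270b486c3a8014b88da89f132ef4], [nat_lit 173056, nat_lit 168960, nat_lit 164352, nat_lit 161536, nat_lit 156992, nat_lit 152544, nat_lit 147776, nat_lit 144704, nat_lit 139592, nat_lit 135210, nat_lit 131648, nat_lit 1108, nat_lit 5112, nat_lit 8928, nat_lit 13152, nat_lit 17600, nat_lit 20544, nat_lit 30208, nat_lit 41124, nat_lit 37160, nat_lit 33329, nat_lit 29740, nat_lit 24614, nat_lit 20550, nat_lit 16649, nat_lit 12416, nat_lit 8256, nat_lit 4101, nat_lit 2]⟩⟩⟩]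
theorem shn118 : Suf hnT 2048 (ldrop (lapp hnwr8 [1, 0, 1]) 23) (apW dcM phn117) (tgtN dcM phn117.e) := Suf.seg (l := lhn118) (by decide +kernel) shn119
def lhn117 : List AP := [⟨[nat_lit 56, nat_lit 49, nat_lit 57, nat_lit 68, nat_lit 53], [], (nat_lit 818), ⟨[nat_lit 0, nat_lit 16, nat_lit 60], [nat_lit 45, nat_lit 55], ⟨[nat_lit 0xcce8800aa48a241acd27b5d5b32f4], [nat_lit 173056, nat_lit 168960, nat_lit 161536, nat_lit 157312, nat_lit 151584, nat_lit 148976, nat_lit 144960, nat_lit 141220, nat_lit 137174, nat_lit 133188, nat_lit 32, nat_lit 5480, nat_lit 9328, nat_lit 12976, nat_lit 16672, nat_lit 20736, nat_lit 24704, nat_lit 29440, nat_lit 41516, nat_lit 37025, nat_lit 32801, nat_lit 29252, nat_lit 24586, nat_lit 20481, nat_lit 16394, nat_lit 8195, nat_lit 4101]⟩⟩⟩,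
  ⟨[nat_lit 414, nat_lit 675, nat_lit 676], [], (nat_lit 1236), ⟨[nat_lit 80, nat_lit 57], [nat_lit 85, nat_lit 68], ⟨[nat_lit 0x7b4e6bd25350d005a441231c5846b6], [nat_lit 173056, nat_lit 165120, nat_lit 160128, nat_lit 157056, nat_lit 155520, nat_lit 149168, nat_lit 144512, nat_lit 141028, nat_lit 136652, nat_lit 131114, nat_lit 664, nat_lit 5208, nat_lit 9864, nat_lit 12656, nat_lit 16896, nat_lit 21504, nat_lit 25088, nat_lit 29184, nat_lit 33792, nat_lit 41662, nat_lit 38046, nat_lit 32778, nat_lit 29778, nat_lit 24715, nat_lit 17422, nat_lit 12420, nat_lit 8259, nat_lit 4097]⟩⟩⟩]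
theorem shn117 : Suf hnT 2048 (ldrop (lapp hnwr8 [1, 0, 1]) 11) (apW dcM phn116) (tgtN dcM phn116.e) := Suf.seg (l := lhn117) (by decide +kernel) shn118
def lhn116 : List AP := [⟨[nat_lit 636, nat_lit 636, nat_lit 30, nat_lit 21, nat_lit 23, nat_lit 23], [], (nat_lit 338), ⟨[nat_lit 43, nat_lit 59], [nat_lit 15, nat_lit 58], ⟨[nat_lit 0x495ae8d00c50c460de4f59ed599208], [nat_lit 168960, nat_lit 165376, nat_lit 160256, nat_lit 156480, nat_lit 154624, nat_lit 149136, nat_lit 143496, nat_lit 140724, nat_lit 136884, nat_lit 131863, nat_lit 846, nat_lit 4476, nat_lit 9656, nat_lit 13056, nat_lit 16416, nat_lit 20736, nat_lit 24832, nat_lit 29184, nat_lit 33792, nat_lit 37888, nat_lit 41169, nat_lit 37171, nat_lit 32840, nat_lit 28715, nat_lit 24610, nat_lit 20492, nat_lit 16389, nat_lit 12325, nat_lit 8209, nat_lit 4160, nat_lit 8]⟩⟩⟩,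
  ⟨[nat_lit 215, nat_lit 181, nat_lit 170, nat_lit 170], [], (nat_lit 860), ⟨[nat_lit 78, nat_lit 59], [nat_lit 87, nat_lit 66], ⟨[nat_lit 0x54c32b9e2e49464642865b40f40ab6], [nat_lit 174080, nat_lit 168960, nat_lit 164096, nat_lit 162560, nat_lit 155840, nat_lit 152608, nat_lit 151328, nat_lit 146768, nat_lit 142464, nat_lit 138332, nat_lit 133262, nat_lit 700, nat_lit 5208, nat_lit 8824, nat_lit 13168, nat_lit 17664, nat_lit 21376, nat_lit 24704, nat_lit 30208, nat_lit 33792, nat_lit 37888, nat_lit 41434, nat_lit 37131, nat_lit 32779, nat_lit 29716, nat_lit 24761, nat_lit 20572, nat_lit 16387, nat_lit 12291, nat_lit 8195, nat_lit 4101, nat_lit 4]⟩⟩⟩]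
theorem hncr8_3 : Suf hnT 2048 (lapp hnwr8 [1, 0, 1]) (apW dcM q1) (tgtN dcM q1.e) := Suf.seg (l := lhn116) (by decide +kernel) shn117

def phn120 : AP := ⟨[nat_lit 634, nat_lit 635, nat_lit 24, nat_lit 28], [], (nat_lit 176), ⟨[nat_lit 44, nat_lit 65], [nat_lit 0, nat_lit 24, nat_lit 57], ⟨[nat_lit 0x6a4859c10e950473583155eac00deb], [nat_lit 173056, nat_lit 168960, nat_lit 165376, nat_lit 160640, nat_lit 157696, nat_lit 151904, nat_lit 149296, nat_lit 144496, nat_lit 139592, nat_lit 136630, nat_lit 132771, nat_lit 986, nat_lit 5296, nat_lit 9600, nat_lit 14112, nat_lit 17664, nat_lit 22400, nat_lit 24704, nat_lit 30464, nat_lit 33792, nat_lit 37888, nat_lit 41215, nat_lit 37056, nat_lit 32960, nat_lit 28761, nat_lit 24628, nat_lit 20564, nat_lit 16458, nat_lit 12291, nat_lit 8210, nat_lit 4105, nat_lit 8]⟩⟩⟩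
def phn121 : AP := ⟨[nat_lit 170, nat_lit 174, nat_lit 219, nat_lit 177, nat_lit 170], [], (nat_lit 752), ⟨[nat_lit 29, nat_lit 62], [nat_lit 0, nat_lit 35, nat_lit 66], ⟨[nat_lit 0x3389565c6209e2b84df45590d048a9], [nat_lit 175104, nat_lit 168448, nat_lit 164096, nat_lit 160768, nat_lit 157824, nat_lit 154048, nat_lit 149552, nat_lit 143904, nat_lit 142808, nat_lit 136530, nat_lit 133170, nat_lit 434, nat_lit 5444, nat_lit 9456, nat_lit 13584, nat_lit 18240, nat_lit 21376, nat_lit 25088, nat_lit 28928, nat_lit 33280, nat_lit 41900, nat_lit 37339, nat_lit 32803, nat_lit 28675, nat_lit 25132, nat_lit 20549, nat_lit 16426, nat_lit 12308, nat_lit 8203, nat_lit 4097]⟩⟩⟩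
def phn122 : AP := ⟨[nat_lit 284, nat_lit 671, nat_lit 290, nat_lit 354], [], (nat_lit 680), ⟨[nat_lit 0, nat_lit 5, nat_lit 64], [nat_lit 0, nat_lit 90], ⟨[nat_lit 0xb16501cd0c3368eb916901ea27a831], [nat_lit 173056, nat_lit 169984, nat_lit 164096, nat_lit 161664, nat_lit 158016, nat_lit 151872, nat_lit 148432, nat_lit 146096, nat_lit 141920, nat_lit 138172, nat_lit 133819, nat_lit 78, nat_lit 4608, nat_lit 9560, nat_lit 13664, nat_lit 16928, nat_lit 22016, nat_lit 25088, nat_lit 28928, nat_lit 34304, nat_lit 41968, nat_lit 38129, nat_lit 33502, nat_lit 28756, nat_lit 24615, nat_lit 20550, nat_lit 16397, nat_lit 12289, nat_lit 4097]⟩⟩⟩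
def phn123 : AP := ⟨[nat_lit 265, nat_lit 665, nat_lit 233, nat_lit 231, nat_lit 223], [], (nat_lit 756), ⟨[nat_lit 0, nat_lit 7, nat_lit 54], [nat_lit 0, nat_lit 9, nat_lit 63], ⟨[nat_lit 0x8048d41cd49d62a614121dd227d9cb], [nat_lit 174080, nat_lit 169472, nat_lit 162304, nat_lit 156608, nat_lit 152352, nat_lit 151088, nat_lit 146272, nat_lit 142544, nat_lit 139174, nat_lit 134279, nat_lit 1860, nat_lit 5228, nat_lit 8848, nat_lit 12864, nat_lit 18336, nat_lit 21696, nat_lit 25472, nat_lit 29440, nat_lit 34304, nat_lit 37888, nat_lit 41974, nat_lit 36967, nat_lit 33937, nat_lit 29755, nat_lit 24714, nat_lit 20745, nat_lit 16387, nat_lit 12295, nat_lit 8201, nat_lit 4097]⟩⟩⟩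
def phn124 : AP := ⟨[nat_lit 670], [], (nat_lit 1192), ⟨[nat_lit 17, nat_lit 66], [nat_lit 4, nat_lit 69], ⟨[nat_lit 0x7a887ab68b914178222e4b0430d8d3], [nat_lit 167424, nat_lit 163456, nat_lit 159104, nat_lit 155552, nat_lit 147536, nat_lit 146216, nat_lit 141656, nat_lit 136806, nat_lit 135124, nat_lit 1614, nat_lit 5024, nat_lit 9040, nat_lit 13216, nat_lit 16736, nat_lit 22400, nat_lit 26112, nat_lit 28928, nat_lit 41709, nat_lit 37027, nat_lit 32871, nat_lit 28727, nat_lit 24862, nat_lit 20498, nat_lit 16425, nat_lit 12306, nat_lit 4097, nat_lit 2]⟩⟩⟩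
def phn125 : AP := ⟨[nat_lit 667, nat_lit 224, nat_lit 262, nat_lit 262], [], (nat_lit 616), ⟨[nat_lit 22, nat_lit 94], [nat_lit 0, nat_lit 22, nat_lit 89], ⟨[nat_lit 0xa8912b4d411dd70635c502691218ef], [nat_lit 171520, nat_lit 165120, nat_lit 161024, nat_lit 158528, nat_lit 152288, nat_lit 148848, nat_lit 145720, nat_lit 142176, nat_lit 138694, nat_lit 133291, nat_lit 1318, nat_lit 4536, nat_lit 9776, nat_lit 14192, nat_lit 16896, nat_lit 25728, nat_lit 34304, nat_lit 37888, nat_lit 41767, nat_lit 36892, nat_lit 33982, nat_lit 28960, nat_lit 24595, nat_lit 20608, nat_lit 16393, nat_lit 12289, nat_lit 8705, nat_lit 4161]⟩⟩⟩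
def phn126 : AP := ⟨[nat_lit 224, nat_lit 260, nat_lit 222, nat_lit 668, nat_lit 222], [], (nat_lit 1110), ⟨[nat_lit 15, nat_lit 70], [nat_lit 0, nat_lit 20, nat_lit 56], ⟨[nat_lit 0x412465b99013ea7bb4654ce9604541], [nat_lit 174080, nat_lit 169984, nat_lit 166144, nat_lit 163584, nat_lit 156544, nat_lit 154464, nat_lit 150176, nat_lit 144416, nat_lit 141776, nat_lit 136732, nat_lit 131868, nat_lit 1808, nat_lit 6068, nat_lit 9648, nat_lit 12976, nat_lit 17664, nat_lit 21504, nat_lit 25088, nat_lit 29696, nat_lit 37888, nat_lit 41311, nat_lit 37182, nat_lit 33466, nat_lit 28960, nat_lit 24580, nat_lit 20608, nat_lit 16397, nat_lit 12304, nat_lit 4097, nat_lit 2]⟩⟩⟩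
def phn127 : AP := ⟨[nat_lit 229, nat_lit 664, nat_lit 226, nat_lit 227], [], (nat_lit 756), ⟨[nat_lit 0, nat_lit 85, nat_lit 58], [nat_lit 23, nat_lit 55], ⟨[nat_lit 0xa0647b960324ea07a12a35a226b16e], [nat_lit 168448, nat_lit 165632, nat_lit 163584, nat_lit 157568, nat_lit 152896, nat_lit 148992, nat_lit 145040, nat_lit 140060, nat_lit 135978, nat_lit 132642, nat_lit 1624, nat_lit 4952, nat_lit 8928, nat_lit 13856, nat_lit 18336, nat_lit 21056, nat_lit 25728, nat_lit 29184, nat_lit 41505, nat_lit 37985, nat_lit 33011, nat_lit 24616, nat_lit 20511, nat_lit 16427, nat_lit 12322, nat_lit 8194, nat_lit 8]⟩⟩⟩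
def phn128 : AP := ⟨[nat_lit 356, nat_lit 352, nat_lit 284], [], (nat_lit 1218), ⟨[nat_lit 77, nat_lit 51], [nat_lit 0, nat_lit 16, nat_lit 69], ⟨[nat_lit 0x33d9224c03545676d828adcb0a3849], [nat_lit 173056, nat_lit 171008, nat_lit 164352, nat_lit 161024, nat_lit 159424, nat_lit 152288, nat_lit 148112, nat_lit 146680, nat_lit 142224, nat_lit 138302, nat_lit 135046, nat_lit 1928, nat_lit 5568, nat_lit 10128, nat_lit 12320, nat_lit 18368, nat_lit 37888, nat_lit 40986, nat_lit 37374, nat_lit 32855, nat_lit 28759, nat_lit 24639, nat_lit 20552, nat_lit 16391, nat_lit 12352, nat_lit 8200, nat_lit 4097]⟩⟩⟩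
def phn129 : AP := ⟨[nat_lit 80], [], (nat_lit 196), ⟨[nat_lit 32, nat_lit 94], [nat_lit 0, nat_lit 33, nat_lit 92], ⟨[nat_lit 0x55af370a867b132ab4e08046b41491], [nat_lit 169472, nat_lit 164864, nat_lit 161408, nat_lit 156800, nat_lit 151712, nat_lit 149328, nat_lit 144272, nat_lit 142516, nat_lit 137014, nat_lit 131457, nat_lit 78, nat_lit 5064, nat_lit 8320, nat_lit 12544, nat_lit 16512, nat_lit 20992, nat_lit 26240, nat_lit 28928, nat_lit 41422, nat_lit 37284, nat_lit 33319, nat_lit 28684, nat_lit 25610, nat_lit 20993, nat_lit 16390, nat_lit 12416, nat_lit 4112, nat_lit 32]⟩⟩⟩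
def lhn130 : List AP := [⟨[nat_lit 39, nat_lit 39], [], (nat_lit 1032), ⟨[nat_lit 0, nat_lit 4], [nat_lit 0, nat_lit 85, nat_lit 90], ⟨[nat_lit 0x35a2ca3e65506f548250410675b84d], [nat_lit 175104, nat_lit 171520, nat_lit 165888, nat_lit 161536, nat_lit 159168, nat_lit 153824, nat_lit 148976, nat_lit 147112, nat_lit 139540, nat_lit 135378, nat_lit 131200, nat_lit 1668, nat_lit 5084, nat_lit 8408, nat_lit 12848, nat_lit 18016, nat_lit 21056, nat_lit 24960, nat_lit 28928, nat_lit 41416, nat_lit 37223, nat_lit 32824, nat_lit 29800, nat_lit 24632, nat_lit 20546, nat_lit 16391, nat_lit 12324, nat_lit 4104]⟩⟩⟩]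
theorem shn130 : Suf hnT 19005990 (ldrop (lapp hnwr9 [1, 0, 1]) 107) (apW dcM phn129) (tgtN dcM phn129.e) := Suf.fin' (l := lhn130) (by decide +kernel)
def lhn129 : List AP := [⟨[nat_lit 78, nat_lit 78], [], (nat_lit 190), ⟨[nat_lit 28, nat_lit 54], [nat_lit 34, nat_lit 59], ⟨[nat_lit 0x63932b11a329d505d63711a8f44c20], [nat_lit 168960, nat_lit 165376, nat_lit 160256, nat_lit 157376, nat_lit 152352, nat_lit 150928, nat_lit 143528, nat_lit 140420, nat_lit 135422, nat_lit 133066, nat_lit 16, nat_lit 4112, nat_lit 8792, nat_lit 13920, nat_lit 16640, nat_lit 22080, nat_lit 26112, nat_lit 29440, nat_lit 34304, nat_lit 37888, nat_lit 41744, nat_lit 37365, nat_lit 33464, nat_lit 29189, nat_lit 24712, nat_lit 20552, nat_lit 16392, nat_lit 12304, nat_lit 8195]⟩⟩⟩,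
  ⟨[nat_lit 634, nat_lit 635, nat_lit 30, nat_lit 22, nat_lit 24], [], (nat_lit 176), ⟨[nat_lit 2, nat_lit 58], [nat_lit 0, nat_lit 16, nat_lit 94], ⟨[nat_lit 0x6b8c9b4de0944e825d740c2ac2a843], [nat_lit 169984, nat_lit 165632, nat_lit 161408, nat_lit 157824, nat_lit 153216, nat_lit 148192, nat_lit 146736, nat_lit 142136, nat_lit 138238, nat_lit 133169, nat_lit 582, nat_lit 4408, nat_lit 9560, nat_lit 12416, nat_lit 17728, nat_lit 20736, nat_lit 24960, nat_lit 29952, nat_lit 33792, nat_lit 41289, nat_lit 37089, nat_lit 34016, nat_lit 28724, nat_lit 25103, nat_lit 20495, nat_lit 16391, nat_lit 12289, nat_lit 4112]⟩⟩⟩]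
theorem shn129 : Suf hnT 19005990 (ldrop (lapp hnwr9 [1, 0, 1]) 96) (apW dcM phn128) (tgtN dcM phn128.e) := Suf.seg (l := lhn129) (by decide +kernel) shn130
def lhn128 : List AP := [⟨[nat_lit 672, nat_lit 294], [], (nat_lit 1204), ⟨[nat_lit 0, nat_lit 1, nat_lit 62], [nat_lit 46], ⟨[nat_lit 0x4d9e23d2b32024170d772b59044546], [nat_lit 169472, nat_lit 165120, nat_lit 160768, nat_lit 155840, nat_lit 154784, nat_lit 149408, nat_lit 145176, nat_lit 139792, nat_lit 136998, nat_lit 132763, nat_lit 786, nat_lit 5436, nat_lit 8704, nat_lit 12880, nat_lit 17824, nat_lit 20992, nat_lit 24832, nat_lit 29184, nat_lit 41699, nat_lit 37233, nat_lit 33370, nat_lit 29761, nat_lit 25116, nat_lit 20484, nat_lit 16897, nat_lit 12357, nat_lit 8224, nat_lit 4225, nat_lit 2]⟩⟩⟩,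
  ⟨[nat_lit 181, nat_lit 660, nat_lit 180, nat_lit 181], [], (nat_lit 752), ⟨[nat_lit 43, nat_lit 56], [nat_lit 80, nat_lit 89], ⟨[nat_lit 0x70e970b12ab12083aeb314a2d780a6], [nat_lit 168448, nat_lit 167168, nat_lit 161536, nat_lit 156096, nat_lit 154944, nat_lit 150784, nat_lit 147240, nat_lit 143096, nat_lit 138580, nat_lit 132963, nat_lit 1024, nat_lit 4540, nat_lit 8680, nat_lit 14304, nat_lit 16992, nat_lit 21952, nat_lit 25472, nat_lit 29184, nat_lit 33792, nat_lit 37888, nat_lit 41602, nat_lit 37048, nat_lit 32785, nat_lit 28674, nat_lit 24581, nat_lit 20999, nat_lit 16424, nat_lit 12290, nat_lit 8208, nat_lit 4]⟩⟩⟩]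
theorem shn128 : Suf hnT 19005990 (ldrop (lapp hnwr9 [1, 0, 1]) 86) (apW dcM phn127) (tgtN dcM phn127.e) := Suf.seg (l := lhn128) (by decide +kernel) shn129
def lhn127 : List AP := [⟨[nat_lit 260, nat_lit 260, nat_lit 233, nat_lit 228, nat_lit 222], [], (nat_lit 616), ⟨[nat_lit 37, nat_lit 94], [nat_lit 88, nat_lit 70], ⟨[nat_lit 0xcd66824803a072ad9b4544a27b997], [nat_lit 174080, nat_lit 168448, nat_lit 166656, nat_lit 162560, nat_lit 159104, nat_lit 151584, nat_lit 147520, nat_lit 143800, nat_lit 141604, nat_lit 138660, nat_lit 132691, nat_lit 434, nat_lit 5768, nat_lit 8408, nat_lit 13552, nat_lit 18336, nat_lit 26496, nat_lit 29696, nat_lit 33280, nat_lit 41526, nat_lit 38320, nat_lit 33424, nat_lit 28726, nat_lit 24637, nat_lit 20502, nat_lit 16394, nat_lit 12294, nat_lit 8200, nat_lit 4100]⟩⟩⟩,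
  ⟨[nat_lit 352, nat_lit 293, nat_lit 353, nat_lit 284], [], (nat_lit 1172), ⟨[nat_lit 0, nat_lit 5, nat_lit 48], [nat_lit 0, nat_lit 30, nat_lit 93], ⟨[nat_lit 0x888d6950e1a92607a12abc0a37356c], [nat_lit 173056, nat_lit 169472, nat_lit 164608, nat_lit 160256, nat_lit 155904, nat_lit 153696, nat_lit 147584, nat_lit 144440, nat_lit 139624, nat_lit 137202, nat_lit 131631, nat_lit 210, nat_lit 5112, nat_lit 8928, nat_lit 13648, nat_lit 17760, nat_lit 21568, nat_lit 25088, nat_lit 30208, nat_lit 33792, nat_lit 37888, nat_lit 40992, nat_lit 37117, nat_lit 32929, nat_lit 28768, nat_lit 24746, nat_lit 20627, nat_lit 16392, nat_lit 12308, nat_lit 8195, nat_lit 4]⟩⟩⟩]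
theorem shn127 : Suf hnT 19005990 (ldrop (lapp hnwr9 [1, 0, 1]) 75) (apW dcM phn126) (tgtN dcM phn126.e) := Suf.seg (l := lhn127) (by decide +kernel) shn128
def lhn126 : List AP := [⟨[nat_lit 671, nat_lit 286, nat_lit 356, nat_lit 286, nat_lit 284], [], (nat_lit 1172), ⟨[nat_lit 0, nat_lit 87], [nat_lit 0, nat_lit 3, nat_lit 46], ⟨[nat_lit 0xb0e6c44245a928a744171192179dab], [nat_lit 173056, nat_lit 165376, nat_lit 159872, nat_lit 158080, nat_lit 152064, nat_lit 147504, nat_lit 143896, nat_lit 139420, nat_lit 135236, nat_lit 131081, nat_lit 566, nat_lit 5016, nat_lit 9224, nat_lit 14112, nat_lit 17632, nat_lit 22272, nat_lit 24704, nat_lit 30464, nat_lit 37888, nat_lit 41920, nat_lit 37312, nat_lit 32987, nat_lit 28973, nat_lit 20632, nat_lit 16394, nat_lit 8227, nat_lit 4097, nat_lit 2]⟩⟩⟩,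
  ⟨[nat_lit 233, nat_lit 225, nat_lit 224], [], (nat_lit 492), ⟨[nat_lit 0, nat_lit 8, nat_lit 52], [nat_lit 0, nat_lit 6, nat_lit 59], ⟨[nat_lit 0xa3ae42c9938a81513ce11da085a5a6], [nat_lit 161664, nat_lit 155904, nat_lit 152608, nat_lit 147984, nat_lit 144008, nat_lit 139416, nat_lit 135464, nat_lit 133109, nat_lit 1516, nat_lit 4548, nat_lit 9752, nat_lit 13424, nat_lit 16640, nat_lit 21120, nat_lit 25600, nat_lit 41661, nat_lit 37943, nat_lit 32814, nat_lit 29258, nat_lit 24719, nat_lit 20766, nat_lit 16416, nat_lit 12353, nat_lit 8200, nat_lit 4101, nat_lit 2]⟩⟩⟩]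
theorem shn126 : Suf hnT 19005990 (ldrop (lapp hnwr9 [1, 0, 1]) 63) (apW dcM phn125) (tgtN dcM phn125.e) := Suf.seg (l := lhn126) (by decide +kernel) shn127
def lhn125 : List AP := [⟨[nat_lit 352, nat_lit 352, nat_lit 285], [], (nat_lit 764), ⟨[nat_lit 43, nat_lit 91], [nat_lit 0, nat_lit 77, nat_lit 92], ⟨[nat_lit 0xa8e77a1dcb6b032322cf4c44a01490], [nat_lit 175104, nat_lit 169472, nat_lit 165120, nat_lit 162176, nat_lit 155712, nat_lit 152544, nat_lit 149552, nat_lit 146104, nat_lit 142848, nat_lit 138852, nat_lit 134956, nat_lit 1246, nat_lit 5324, nat_lit 9032, nat_lit 14128, nat_lit 16512, nat_lit 21440, nat_lit 24704, nat_lit 30464, nat_lit 34304, nat_lit 37888, nat_lit 41921, nat_lit 38220, nat_lit 32921, nat_lit 28797, nat_lit 24623, nat_lit 20561, nat_lit 16426, nat_lit 12324, nat_lit 8209, nat_lit 4105]⟩⟩⟩,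
  ⟨[nat_lit 285, nat_lit 356, nat_lit 286, nat_lit 293], [], (nat_lit 1136), ⟨[nat_lit 0, nat_lit 16, nat_lit 59], [nat_lit 4, nat_lit 58], ⟨[nat_lit 0x485e228e34656e85b4e6902c454e0e], [nat_lit 173056, nat_lit 165120, nat_lit 160640, nat_lit 156928, nat_lit 151840, nat_lit 148352, nat_lit 147160, nat_lit 139760, nat_lit 136692, nat_lit 131290, nat_lit 1530, nat_lit 5888, nat_lit 10168, nat_lit 13040, nat_lit 17728, nat_lit 21184, nat_lit 26240, nat_lit 29184, nat_lit 33792, nat_lit 37888, nat_lit 41459, nat_lit 37368, nat_lit 33016, nat_lit 28995, nat_lit 24864, nat_lit 20500, nat_lit 16428, nat_lit 12305, nat_lit 8193, nat_lit 4225, nat_lit 4]⟩⟩⟩]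
theorem shn125 : Suf hnT 19005990 (ldrop (lapp hnwr9 [1, 0, 1]) 53) (apW dcM phn124) (tgtN dcM phn124.e) := Suf.seg (l := lhn125) (by decide +kernel) shn126
def lhn124 : List AP := [⟨[nat_lit 352, nat_lit 356, nat_lit 287, nat_lit 284, nat_lit 285], [], (nat_lit 680), ⟨[nat_lit 0, nat_lit 83, nat_lit 61], [nat_lit 84, nat_lit 46], ⟨[nat_lit 0xbb00321db4b466e7a97514925440c1], [nat_lit 174080, nat_lit 168960, nat_lit 164096, nat_lit 162432, nat_lit 157120, nat_lit 152832, nat_lit 150240, nat_lit 146400, nat_lit 142344, nat_lit 138688, nat_lit 134944, nat_lit 1180, nat_lit 5120, nat_lit 8576, nat_lit 12544, nat_lit 18016, nat_lit 20736, nat_lit 24832, nat_lit 28928, nat_lit 33792, nat_lit 40963, nat_lit 37138, nat_lit 32924, nat_lit 29017, nat_lit 24742, nat_lit 20552, nat_lit 16655, nat_lit 12320, nat_lit 8322, nat_lit 4097]⟩⟩⟩,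
  ⟨[nat_lit 231, nat_lit 266, nat_lit 666, nat_lit 225], [], (nat_lit 608), ⟨[nat_lit 10, nat_lit 63], [nat_lit 0, nat_lit 40, nat_lit 63], ⟨[nat_lit 0x3344f20ed46566a385699022545e0e], [nat_lit 173056, nat_lit 165632, nat_lit 159872, nat_lit 155968, nat_lit 152288, nat_lit 148784, nat_lit 146232, nat_lit 140232, nat_lit 137150, nat_lit 132453, nat_lit 960, nat_lit 5508, nat_lit 10168, nat_lit 12544, nat_lit 16608, nat_lit 22336, nat_lit 26112, nat_lit 29184, nat_lit 34304, nat_lit 41673, nat_lit 38232, nat_lit 32842, nat_lit 29209, nat_lit 24616, nat_lit 16905, nat_lit 8193, nat_lit 4352, nat_lit 4]⟩⟩⟩]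
theorem shn124 : Suf hnT 19005990 (ldrop (lapp hnwr9 [1, 0, 1]) 43) (apW dcM phn123) (tgtN dcM phn123.e) := Suf.seg (l := lhn124) (by decide +kernel) shn125
def lhn123 : List AP := [⟨[nat_lit 664, nat_lit 668, nat_lit 261, nat_lit 263, nat_lit 223], [], (nat_lit 542), ⟨[nat_lit 25], [nat_lit 0, nat_lit 36, nat_lit 91], ⟨[nat_lit 0x919044da932b6e3abce25c18e0aa20], [nat_lit 173056, nat_lit 171008, nat_lit 164096, nat_lit 161920, nat_lit 156288, nat_lit 155072, nat_lit 150848, nat_lit 145480, nat_lit 141196, nat_lit 136458, nat_lit 135128, nat_lit 512, nat_lit 5904, nat_lit 9648, nat_lit 14240, nat_lit 17664, nat_lit 21504, nat_lit 26368, nat_lit 28928, nat_lit 34304, nat_lit 37888, nat_lit 41817, nat_lit 36921, nat_lit 32941, nat_lit 28938, nat_lit 24598, nat_lit 20622, nat_lit 16397, nat_lit 12291, nat_lit 8211, nat_lit 4101, nat_lit 2]⟩⟩⟩,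
  ⟨[nat_lit 263, nat_lit 230, nat_lit 228, nat_lit 666, nat_lit 225], [], (nat_lit 492), ⟨[nat_lit 3, nat_lit 70], [nat_lit 29, nat_lit 66], ⟨[nat_lit 0xa20c523851602476a6af9de0b50476], [nat_lit 175104, nat_lit 169984, nat_lit 167168, nat_lit 161792, nat_lit 157120, nat_lit 153664, nat_lit 151488, nat_lit 143848, nat_lit 141792, nat_lit 136718, nat_lit 131872, nat_lit 1292, nat_lit 4104, nat_lit 10168, nat_lit 13936, nat_lit 17216, nat_lit 21888, nat_lit 25088, nat_lit 29184, nat_lit 41397, nat_lit 37232, nat_lit 33428, nat_lit 28796, nat_lit 24704, nat_lit 20508, nat_lit 16418, nat_lit 12309, nat_lit 8194, nat_lit 4100]⟩⟩⟩]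
theorem shn123 : Suf hnT 19005990 (ldrop (lapp hnwr9 [1, 0, 1]) 31) (apW dcM phn122) (tgtN dcM phn122.e) := Suf.seg (l := lhn123) (by decide +kernel) shn124
def lhn122 : List AP := [⟨[nat_lit 357, nat_lit 287, nat_lit 295, nat_lit 285, nat_lit 285], [], (nat_lit 1172), ⟨[nat_lit 74, nat_lit 66], [nat_lit 0, nat_lit 87, nat_lit 48], ⟨[nat_lit 0x30a362de03acc807a149a1e416356e], [nat_lit 174080, nat_lit 164096, nat_lit 157760, nat_lit 154784, nat_lit 150368, nat_lit 144056, nat_lit 141828, nat_lit 136098, nat_lit 133447, nat_lit 960, nat_lit 5228, nat_lit 10104, nat_lit 13712, nat_lit 18400, nat_lit 21696, nat_lit 24704, nat_lit 30208, nat_lit 33280, nat_lit 37888, nat_lit 41134, nat_lit 36925, nat_lit 32935, nat_lit 28797, nat_lit 24581, nat_lit 20617, nat_lit 16431, nat_lit 12295, nat_lit 8203, nat_lit 4097]⟩⟩⟩,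
  ⟨[nat_lit 664, nat_lit 225, nat_lit 223, nat_lit 231], [], (nat_lit 756), ⟨[nat_lit 5, nat_lit 48], [nat_lit 26, nat_lit 94], ⟨[nat_lit 0x888d6950e1a92607a12abc0a37356c], [nat_lit 173056, nat_lit 169472, nat_lit 164608, nat_lit 160384, nat_lit 155968, nat_lit 153696, nat_lit 147584, nat_lit 144440, nat_lit 139628, nat_lit 137200, nat_lit 131630, nat_lit 210, nat_lit 5112, nat_lit 8928, nat_lit 13648, nat_lit 17760, nat_lit 21568, nat_lit 25088, nat_lit 30208, nat_lit 33792, nat_lit 37888, nat_lit 40992, nat_lit 37117, nat_lit 32929, nat_lit 28768, nat_lit 24746, nat_lit 20627, nat_lit 16392, nat_lit 12308, nat_lit 8195, nat_lit 4]⟩⟩⟩]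
theorem shn122 : Suf hnT 19005990 (ldrop (lapp hnwr9 [1, 0, 1]) 21) (apW dcM phn121) (tgtN dcM phn121.e) := Suf.seg (l := lhn122) (by decide +kernel) shn123
def lhn121 : List AP := [⟨[nat_lit 83, nat_lit 103, nat_lit 84, nat_lit 87], [], (nat_lit 718), ⟨[nat_lit 24, nat_lit 66], [nat_lit 26, nat_lit 67], ⟨[nat_lit 0x9a180706498129159aca6dcafa9c43], [nat_lit 173056, nat_lit 168960, nat_lit 164608, nat_lit 156288, nat_lit 152032, nat_lit 147840, nat_lit 144160, nat_lit 139528, nat_lit 138282, nat_lit 133030, nat_lit 1174, nat_lit 4100, nat_lit 8200, nat_lit 14048, nat_lit 17664, nat_lit 22336, nat_lit 25600, nat_lit 29184, nat_lit 41377, nat_lit 37294, nat_lit 32899, nat_lit 28973, nat_lit 24620, nat_lit 20509, nat_lit 16427, nat_lit 12326, nat_lit 8195, nat_lit 4]⟩⟩⟩,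
  ⟨[nat_lit 671, nat_lit 672, nat_lit 287], [], (nat_lit 1204), ⟨[nat_lit 0, nat_lit 3, nat_lit 53], [nat_lit 18, nat_lit 55], ⟨[nat_lit 0x70a979d8ca62c08391e11c64dac0a9], [nat_lit 173056, nat_lit 171520, nat_lit 164608, nat_lit 161792, nat_lit 157184, nat_lit 154816, nat_lit 151168, nat_lit 146376, nat_lit 141164, nat_lit 135718, nat_lit 134739, nat_lit 1918, nat_lit 5444, nat_lit 8664, nat_lit 12864, nat_lit 18368, nat_lit 22016, nat_lit 24704, nat_lit 37888, nat_lit 41603, nat_lit 37888, nat_lit 32925, nat_lit 28675, nat_lit 24630, nat_lit 20546, nat_lit 16424, nat_lit 12306, nat_lit 8201, nat_lit 4097]⟩⟩⟩]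
theorem shn121 : Suf hnT 19005990 (ldrop (lapp hnwr9 [1, 0, 1]) 11) (apW dcM phn120) (tgtN dcM phn120.e) := Suf.seg (l := lhn121) (by decide +kernel) shn122
def lhn120 : List AP := [⟨[nat_lit 629, nat_lit 630, nat_lit 38, nat_lit 629, nat_lit 633, nat_lit 40], [], (nat_lit 150), ⟨[nat_lit 0, nat_lit 43, nat_lit 51], [nat_lit 83, nat_lit 66], ⟨[nat_lit 0xb9471858467c973238e9622b45002d], [nat_lit 173056, nat_lit 170496, nat_lit 165632, nat_lit 163712, nat_lit 156224, nat_lit 154496, nat_lit 149952, nat_lit 147240, nat_lit 139824, nat_lit 137078, nat_lit 134721, nat_lit 494, nat_lit 5884, nat_lit 8680, nat_lit 12976, nat_lit 18208, nat_lit 20992, nat_lit 24704, nat_lit 29952, nat_lit 34304, nat_lit 37888, nat_lit 41275, nat_lit 37319, nat_lit 33398, nat_lit 29039, nat_lit 24741, nat_lit 20507, nat_lit 16395, nat_lit 12294, nat_lit 8202, nat_lit 4105, nat_lit 2]⟩⟩⟩,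
  ⟨[nat_lit 101, nat_lit 100], [], (nat_lit 190), ⟨[nat_lit 0, nat_lit 81, nat_lit 56], [nat_lit 24, nat_lit 59], ⟨[nat_lit 0x7061321c6c359119556505e8d525e2], [nat_lit 175104, nat_lit 168960, nat_lit 164096, nat_lit 163456, nat_lit 152096, nat_lit 149632, nat_lit 145424, nat_lit 142608, nat_lit 137224, nat_lit 133382, nat_lit 1178, nat_lit 4780, nat_lit 10088, nat_lit 12304, nat_lit 16544, nat_lit 22080, nat_lit 25984, nat_lit 28928, nat_lit 33280, nat_lit 41118, nat_lit 37157, nat_lit 32989, nat_lit 28733, nat_lit 24882, nat_lit 20496, nat_lit 16390, nat_lit 12355, nat_lit 8195, nat_lit 4100]⟩⟩⟩]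
theorem hncr9_0 : Suf hnT 19005990 (lapp hnwr9 [1, 0, 1]) (apW dcM q0) (tgtN dcM q0.e) := Suf.seg (l := lhn120) (by decide +kernel) shn121

def phn131 : AP := ⟨[nat_lit 106, nat_lit 85, nat_lit 78], [], (nat_lit 180), ⟨[nat_lit 12, nat_lit 55], [nat_lit 0, nat_lit 39, nat_lit 60], ⟨[nat_lit 0x9c9541122f3957640ee0618304d5ae], [nat_lit 164864, nat_lit 160128, nat_lit 157312, nat_lit 152384, nat_lit 150272, nat_lit 143920, nat_lit 140864, nat_lit 136622, nat_lit 131584, nat_lit 1624, nat_lit 5900, nat_lit 10144, nat_lit 13008, nat_lit 16448, nat_lit 20544, nat_lit 25984, nat_lit 29952, nat_lit 41168, nat_lit 37072, nat_lit 32857, nat_lit 29310, nat_lit 24616, nat_lit 20496, nat_lit 12290, nat_lit 8195, nat_lit 4100, nat_lit 2]⟩⟩⟩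
def phn132 : AP := ⟨[nat_lit 225, nat_lit 666, nat_lit 260], [], (nat_lit 555), ⟨[nat_lit 36, nat_lit 94], [nat_lit 0, nat_lit 6, nat_lit 92], ⟨[nat_lit 0x749276a226530b010475bd0169ac8f], [nat_lit 167424, nat_lit 160640, nat_lit 156160, nat_lit 153056, nat_lit 149312, nat_lit 144144, nat_lit 140992, nat_lit 136054, nat_lit 132711, nat_lit 1318, nat_lit 5064, nat_lit 9280, nat_lit 13920, nat_lit 16640, nat_lit 22208, nat_lit 24704, nat_lit 29440, nat_lit 33792, nat_lit 37888, nat_lit 41824, nat_lit 37120, nat_lit 32901, nat_lit 29002, nat_lit 24719, nat_lit 21529, nat_lit 16391, nat_lit 12289, nat_lit 8209, nat_lit 4100, nat_lit 8]⟩⟩⟩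
def phn133 : AP := ⟨[nat_lit 228, nat_lit 229, nat_lit 224, nat_lit 665], [], (nat_lit 699), ⟨[nat_lit 73, nat_lit 59], [nat_lit 84, nat_lit 90], ⟨[nat_lit 0xb3c1499177889d06246869c2595546], [nat_lit 168448, nat_lit 165376, nat_lit 161408, nat_lit 156224, nat_lit 152224, nat_lit 149808, nat_lit 143648, nat_lit 139316, nat_lit 135280, nat_lit 131218, nat_lit 786, nat_lit 4964, nat_lit 9872, nat_lit 13856, nat_lit 16512, nat_lit 20608, nat_lit 24960, nat_lit 29696, nat_lit 33792, nat_lit 41901, nat_lit 38195, nat_lit 32912, nat_lit 28774, nat_lit 24757, nat_lit 20496, nat_lit 12806, nat_lit 8323, nat_lit 4160, nat_lit 2]⟩⟩⟩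
def phn134 : AP := ⟨[nat_lit 671, nat_lit 285, nat_lit 294, nat_lit 285], [], (nat_lit 872), ⟨[nat_lit 31, nat_lit 93], [nat_lit 0, nat_lit 40, nat_lit 67], ⟨[nat_lit 0xa26ec8224d594efb105150c2e01ab3], [nat_lit 173056, nat_lit 169472, nat_lit 166144, nat_lit 159872, nat_lit 156544, nat_lit 152992, nat_lit 148960, nat_lit 144656, nat_lit 140724, nat_lit 136334, nat_lit 131764, nat_lit 846, nat_lit 5856, nat_lit 8616, nat_lit 12816, nat_lit 16992, nat_lit 21184, nat_lit 25856, nat_lit 30208, nat_lit 33280, nat_lit 41912, nat_lit 37120, nat_lit 29722, nat_lit 24579, nat_lit 20628, nat_lit 16426, nat_lit 12307, nat_lit 8203, nat_lit 4104]⟩⟩⟩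
def phn135 : AP := ⟨[nat_lit 143, nat_lit 141, nat_lit 142, nat_lit 655, nat_lit 142], [], (nat_lit 594), ⟨[nat_lit 74, nat_lit 51], [nat_lit 0, nat_lit 45, nat_lit 56], ⟨[nat_lit 0x35db3612164242a951e72d5d158062], [nat_lit 173056, nat_lit 168448, nat_lit 164864, nat_lit 160512, nat_lit 155968, nat_lit 153344, nat_lit 150960, nat_lit 143536, nat_lit 140680, nat_lit 137026, nat_lit 132790, nat_lit 4, nat_lit 5072, nat_lit 8208, nat_lit 12304, nat_lit 16896, nat_lit 20736, nat_lit 25728, nat_lit 29696, nat_lit 34304, nat_lit 41527, nat_lit 37072, nat_lit 32971, nat_lit 28724, nat_lit 24870, nat_lit 20566, nat_lit 12290, nat_lit 8193, nat_lit 4104, nat_lit 4]⟩⟩⟩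
def phn136 : AP := ⟨[nat_lit 657, nat_lit 150, nat_lit 149, nat_lit 148, nat_lit 657, nat_lit 140], [], (nat_lit 474), ⟨[nat_lit 0, nat_lit 6, nat_lit 59], [nat_lit 77, nat_lit 70], ⟨[nat_lit 0x35e00b2dd5908940b06869d2553e33], [nat_lit 171008, nat_lit 166144, nat_lit 162048, nat_lit 159424, nat_lit 151808, nat_lit 150288, nat_lit 146344, nat_lit 139900, nat_lit 139142, nat_lit 131193, nat_lit 404, nat_lit 4568, nat_lit 8240, nat_lit 13664, nat_lit 17248, nat_lit 21376, nat_lit 24960, nat_lit 29184, nat_lit 33280, nat_lit 41521, nat_lit 38327, nat_lit 32770, nat_lit 28748, nat_lit 24721, nat_lit 20487, nat_lit 16463, nat_lit 12293, nat_lit 8203]⟩⟩⟩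
def phn137 : AP := ⟨[nat_lit 288, nat_lit 355, nat_lit 290], [], (nat_lit 700), ⟨[nat_lit 0, nat_lit 78, nat_lit 91], [nat_lit 0, nat_lit 27, nat_lit 55], ⟨[nat_lit 0x7897799d0a6b2440c005352b170d36], [nat_lit 175104, nat_lit 164864, nat_lit 163328, nat_lit 157568, nat_lit 153536, nat_lit 150640, nat_lit 146768, nat_lit 142892, nat_lit 137726, nat_lit 134444, nat_lit 1918, nat_lit 5668, nat_lit 10168, nat_lit 13280, nat_lit 16512, nat_lit 20928, nat_lit 25856, nat_lit 41665, nat_lit 37153, nat_lit 33408, nat_lit 28740, nat_lit 24628, nat_lit 20502, nat_lit 16423, nat_lit 12293, nat_lit 8200, nat_lit 4097, nat_lit 2]⟩⟩⟩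
def phn138 : AP := ⟨[nat_lit 354, nat_lit 356, nat_lit 289, nat_lit 284], [], (nat_lit 1164), ⟨[nat_lit 0, nat_lit 31, nat_lit 89], [nat_lit 1, nat_lit 61], ⟨[nat_lit 0x58532b8a74329d66a095394111b1f0], [nat_lit 173056, nat_lit 169472, nat_lit 164608, nat_lit 160256, nat_lit 156544, nat_lit 152128, nat_lit 145024, nat_lit 141856, nat_lit 136170, nat_lit 131297, nat_lit 64, nat_lit 5716, nat_lit 10088, nat_lit 12800, nat_lit 18304, nat_lit 21824, nat_lit 25856, nat_lit 28928, nat_lit 34304, nat_lit 41900, nat_lit 37367, nat_lit 33476, nat_lit 29210, nat_lit 24588, nat_lit 20492, nat_lit 16655, nat_lit 12304, nat_lit 8194, nat_lit 4100, nat_lit 128]⟩⟩⟩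
def phn139 : AP := ⟨[nat_lit 669, nat_lit 672, nat_lit 287], [], (nat_lit 1218), ⟨[nat_lit 34, nat_lit 60], [nat_lit 31, nat_lit 49], ⟨[nat_lit 0x830440596329d176aa8e79a219d532], [nat_lit 173056, nat_lit 171008, nat_lit 164096, nat_lit 163328, nat_lit 157120, nat_lit 155360, nat_lit 150944, nat_lit 147016, nat_lit 141048, nat_lit 136974, nat_lit 133557, nat_lit 696, nat_lit 5572, nat_lit 8600, nat_lit 12640, nat_lit 17696, nat_lit 21760, nat_lit 25600, nat_lit 29952, nat_lit 33280, nat_lit 40961, nat_lit 36999, nat_lit 32845, nat_lit 29190, nat_lit 24617, nat_lit 20497, nat_lit 16399, nat_lit 12309, nat_lit 8194, nat_lit 4097]⟩⟩⟩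
def phn140 : AP := ⟨[nat_lit 68], [], (nat_lit 122), ⟨[nat_lit 0, nat_lit 1, nat_lit 52], [nat_lit 20, nat_lit 59], ⟨[nat_lit 0xb4ee558995048c181dcf4d06d22911], [nat_lit 165120, nat_lit 157248, nat_lit 153056, nat_lit 149264, nat_lit 143808, nat_lit 141564, nat_lit 135198, nat_lit 132794, nat_lit 1298, nat_lit 5628, nat_lit 8704, nat_lit 12304, nat_lit 17120, nat_lit 21056, nat_lit 25984, nat_lit 29184, nat_lit 33792, nat_lit 37888, nat_lit 41956, nat_lit 37190, nat_lit 32924, nat_lit 28732, nat_lit 25107, nat_lit 20632, nat_lit 16450, nat_lit 12416, nat_lit 8193, nat_lit 4113, nat_lit 4]⟩⟩⟩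
def lhn141 : List AP := [⟨[nat_lit 40, nat_lit 36], [], (nat_lit 1032), ⟨[nat_lit 87, nat_lit 68], [nat_lit 0, nat_lit 4, nat_lit 64], ⟨[nat_lit 0x45e717268f5d40119e0d258aa90986], [nat_lit 174080, nat_lit 168960, nat_lit 165888, nat_lit 162944, nat_lit 158720, nat_lit 152384, nat_lit 148656, nat_lit 144280, nat_lit 141396, nat_lit 137368, nat_lit 132348, nat_lit 786, nat_lit 4408, nat_lit 13552, nat_lit 18304, nat_lit 20992, nat_lit 26496, nat_lit 33280, nat_lit 41245, nat_lit 36910, nat_lit 33876, nat_lit 28686, nat_lit 24863, nat_lit 20992, nat_lit 16457, nat_lit 12294, nat_lit 8200, nat_lit 4100, nat_lit 16]⟩⟩⟩]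
theorem shn141 : Suf hnT 19005990 (ldrop (lapp hnwr9 [2, 0, 1]) 107) (apW dcM phn140) (tgtN dcM phn140.e) := Suf.fin' (l := lhn141) (by decide +kernel)
def lhn140 : List AP := [⟨[nat_lit 646, nat_lit 85], [], (nat_lit 186), ⟨[nat_lit 0, nat_lit 12, nat_lit 70], [nat_lit 0, nat_lit 83, nat_lit 64], ⟨[nat_lit 0x9c80d65a82ac1061b8e54c49753d61], [nat_lit 173056, nat_lit 171520, nat_lit 164864, nat_lit 163712, nat_lit 157120, nat_lit 155584, nat_lit 150704, nat_lit 145408, nat_lit 140872, nat_lit 136774, nat_lit 134291, nat_lit 698, nat_lit 5296, nat_lit 9488, nat_lit 12560, nat_lit 18144, nat_lit 22464, nat_lit 26112, nat_lit 28928, nat_lit 33792, nat_lit 41555, nat_lit 38112, nat_lit 32979, nat_lit 28976, nat_lit 24615, nat_lit 20547, nat_lit 16655, nat_lit 12290, nat_lit 8211, nat_lit 4100]⟩⟩⟩,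
  ⟨[nat_lit 57, nat_lit 48, nat_lit 640], [], (nat_lit 131), ⟨[nat_lit 0, nat_lit 1, nat_lit 58], [nat_lit 18, nat_lit 51], ⟨[nat_lit 0x39a2d15c8ab560f981815d06593928], [nat_lit 175104, nat_lit 168448, nat_lit 164352, nat_lit 161024, nat_lit 158016, nat_lit 154752, nat_lit 150368, nat_lit 143632, nat_lit 142096, nat_lit 136550, nat_lit 134583, nat_lit 1396, nat_lit 5316, nat_lit 9904, nat_lit 13456, nat_lit 17408, nat_lit 22144, nat_lit 24704, nat_lit 28928, nat_lit 41633, nat_lit 38320, nat_lit 32887, nat_lit 28697, nat_lit 24853, nat_lit 20554, nat_lit 16520, nat_lit 12321, nat_lit 8193, nat_lit 4097]⟩⟩⟩]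
theorem shn140 : Suf hnT 19005990 (ldrop (lapp hnwr9 [2, 0, 1]) 96) (apW dcM phn139) (tgtN dcM phn139.e) := Suf.seg (l := lhn140) (by decide +kernel) shn141
def lhn139 : List AP := [⟨[nat_lit 290, nat_lit 292, nat_lit 295, nat_lit 287], [], (nat_lit 1154), ⟨[nat_lit 10, nat_lit 46], [nat_lit 0, nat_lit 87], ⟨[nat_lit 0x259a2702e53859530df4945109a969], [nat_lit 168960, nat_lit 164096, nat_lit 160768, nat_lit 157056, nat_lit 152128, nat_lit 148688, nat_lit 144728, nat_lit 140744, nat_lit 137210, nat_lit 133706, nat_lit 1478, nat_lit 4364, nat_lit 9752, nat_lit 14272, nat_lit 16768, nat_lit 20544, nat_lit 24704, nat_lit 28928, nat_lit 34304, nat_lit 41739, nat_lit 37228, nat_lit 33415, nat_lit 29024, nat_lit 24864, nat_lit 20764, nat_lit 16428, nat_lit 12305, nat_lit 8194, nat_lit 4101]⟩⟩⟩,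
  ⟨[nat_lit 665, nat_lit 232, nat_lit 229, nat_lit 222], [], (nat_lit 642), ⟨[nat_lit 30, nat_lit 53], [nat_lit 0, nat_lit 14], ⟨[nat_lit 0x8de670a9d2114141a20dabc8cb192b], [nat_lit 174080, nat_lit 171520, nat_lit 167680, nat_lit 160128, nat_lit 157440, nat_lit 151776, nat_lit 149584, nat_lit 143800, nat_lit 141200, nat_lit 137992, nat_lit 134172, nat_lit 1224, nat_lit 4548, nat_lit 9752, nat_lit 13952, nat_lit 16992, nat_lit 22464, nat_lit 26496, nat_lit 28928, nat_lit 34304, nat_lit 37888, nat_lit 41519, nat_lit 38212, nat_lit 33329, nat_lit 28727, nat_lit 24861, nat_lit 20500, nat_lit 16397, nat_lit 12307, nat_lit 8195, nat_lit 4100]⟩⟩⟩]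
theorem shn139 : Suf hnT 19005990 (ldrop (lapp hnwr9 [2, 0, 1]) 86) (apW dcM phn138) (tgtN dcM phn138.e) := Suf.seg (l := lhn139) (by decide +kernel) shn140
def lhn138 : List AP := [⟨[nat_lit 224, nat_lit 224, nat_lit 262, nat_lit 259, nat_lit 222], [], (nat_lit 544), ⟨[nat_lit 8, nat_lit 53], [nat_lit 0, nat_lit 17, nat_lit 53], ⟨[nat_lit 0x48448918b03ce247b2f56bad41816a], [nat_lit 174080, nat_lit 165632, nat_lit 160896, nat_lit 156608, nat_lit 153472, nat_lit 148400, nat_lit 143592, nat_lit 140300, nat_lit 135880, nat_lit 132931, nat_lit 786, nat_lit 6104, nat_lit 9080, nat_lit 13312, nat_lit 17984, nat_lit 20736, nat_lit 25600, nat_lit 29440, nat_lit 33792, nat_lit 41932, nat_lit 37248, nat_lit 32945, nat_lit 28930, nat_lit 20627, nat_lit 16515, nat_lit 9219]⟩⟩⟩,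
  ⟨[nat_lit 226, nat_lit 224, nat_lit 262, nat_lit 233], [], (nat_lit 630), ⟨[nat_lit 0, nat_lit 74, nat_lit 46], [nat_lit 0, nat_lit 88, nat_lit 54], ⟨[nat_lit 0x524a494c238081132167b3a8f65ead], [nat_lit 171008, nat_lit 165632, nat_lit 159872, nat_lit 158080, nat_lit 151936, nat_lit 148048, nat_lit 146544, nat_lit 141956, nat_lit 137896, nat_lit 134170, nat_lit 210, nat_lit 4756, nat_lit 9384, nat_lit 13712, nat_lit 17088, nat_lit 22016, nat_lit 24832, nat_lit 29952, nat_lit 37888, nat_lit 41337, nat_lit 36955, nat_lit 33897, nat_lit 28757, nat_lit 24760, nat_lit 20485, nat_lit 16520, nat_lit 12295, nat_lit 8194, nat_lit 4100, nat_lit 8]⟩⟩⟩]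
theorem shn138 : Suf hnT 19005990 (ldrop (lapp hnwr9 [2, 0, 1]) 75) (apW dcM phn137) (tgtN dcM phn137.e) := Suf.seg (l := lhn138) (by decide +kernel) shn139
def lhn137 : List AP := [⟨[nat_lit 265, nat_lit 233, nat_lit 225, nat_lit 664], [], (nat_lit 630), ⟨[nat_lit 0, nat_lit 38, nat_lit 58], [nat_lit 0, nat_lit 19, nat_lit 93], ⟨[nat_lit 0x28d289516e20ab634413829f709d8d], [nat_lit 173056, nat_lit 169472, nat_lit 165632, nat_lit 161024, nat_lit 156736, nat_lit 155488, nat_lit 148608, nat_lit 145232, nat_lit 139332, nat_lit 136958, nat_lit 132202, nat_lit 460, nat_lit 4380, nat_lit 9320, nat_lit 12480, nat_lit 17728, nat_lit 20736, nat_lit 26368, nat_lit 30464, nat_lit 33792, nat_lit 41699, nat_lit 38317, nat_lit 33497, nat_lit 28680, nat_lit 24636, nat_lit 16393, nat_lit 12311, nat_lit 8195]⟩⟩⟩,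
  ⟨[nat_lit 673, nat_lit 284, nat_lit 286, nat_lit 355], [], (nat_lit 672), ⟨[nat_lit 34, nat_lit 92], [nat_lit 15, nat_lit 51], ⟨[nat_lit 0x42a8381d8b09ac594c1778aae8912d], [nat_lit 174080, nat_lit 169472, nat_lit 163072, nat_lit 156032, nat_lit 153056, nat_lit 149584, nat_lit 146160, nat_lit 143340, nat_lit 137942, nat_lit 133219, nat_lit 1066, nat_lit 5488, nat_lit 8352, nat_lit 12800, nat_lit 17664, nat_lit 22144, nat_lit 25216, nat_lit 29952, nat_lit 34304, nat_lit 41265, nat_lit 37115, nat_lit 32922, nat_lit 28998, nat_lit 24739, nat_lit 20546, nat_lit 16428, nat_lit 12320, nat_lit 8193, nat_lit 4097, nat_lit 2]⟩⟩⟩]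
theorem shn137 : Suf hnT 19005990 (ldrop (lapp hnwr9 [2, 0, 1]) 63) (apW dcM phn136) (tgtN dcM phn136.e) := Suf.seg (l := lhn137) (by decide +kernel) shn138
def lhn136 : List AP := [⟨[nat_lit 669, nat_lit 672, nat_lit 287, nat_lit 295, nat_lit 288], [], (nat_lit 650), ⟨[nat_lit 0, nat_lit 25, nat_lit 52], [nat_lit 0, nat_lit 72, nat_lit 64], ⟨[nat_lit 0x12c0a23cce9c295484688caf629d8d], [nat_lit 175104, nat_lit 169984, nat_lit 166144, nat_lit 161536, nat_lit 157696, nat_lit 153824, nat_lit 147984, nat_lit 147360, nat_lit 140652, nat_lit 135880, nat_lit 132457, nat_lit 1668, nat_lit 5716, nat_lit 8992, nat_lit 14304, nat_lit 16480, nat_lit 21248, nat_lit 26368, nat_lit 29440, nat_lit 33792, nat_lit 41864, nat_lit 37256, nat_lit 33280, nat_lit 28945, nat_lit 24636, nat_lit 20567, nat_lit 16389, nat_lit 8195]⟩⟩⟩,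
  ⟨[nat_lit 291, nat_lit 351, nat_lit 351, nat_lit 673, nat_lit 284], [], (nat_lit 690), ⟨[nat_lit 0, nat_lit 7, nat_lit 65], [nat_lit 37, nat_lit 70], ⟨[nat_lit 0x10cd77119585a2553e419ada0a2507], [nat_lit 168960, nat_lit 164096, nat_lit 161152, nat_lit 156416, nat_lit 152352, nat_lit 149664, nat_lit 143512, nat_lit 139648, nat_lit 136364, nat_lit 132856, nat_lit 1166, nat_lit 5316, nat_lit 9528, nat_lit 12384, nat_lit 16416, nat_lit 20736, nat_lit 26368, nat_lit 29184, nat_lit 33280, nat_lit 37888, nat_lit 41494, nat_lit 38300, nat_lit 32910, nat_lit 28783, nat_lit 24581, nat_lit 20503, nat_lit 16395, nat_lit 12307, nat_lit 8225, nat_lit 4100]⟩⟩⟩]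
theorem shn136 : Suf hnT 19005990 (ldrop (lapp hnwr9 [2, 0, 1]) 53) (apW dcM phn135) (tgtN dcM phn135.e) := Suf.seg (l := lhn136) (by decide +kernel) shn137
def lhn135 : List AP := [⟨[nat_lit 674, nat_lit 677, nat_lit 463, nat_lit 410], [], (nat_lit 896), ⟨[nat_lit 22, nat_lit 65], [nat_lit 82], ⟨[nat_lit 0x5464f15093b4025436b762ce600dc9], [nat_lit 173056, nat_lit 168448, nat_lit 165376, nat_lit 160640, nat_lit 156608, nat_lit 155008, nat_lit 148720, nat_lit 144272, nat_lit 140924, nat_lit 136414, nat_lit 132710, nat_lit 1478, nat_lit 4720, nat_lit 10168, nat_lit 12320, nat_lit 17760, nat_lit 22336, nat_lit 25728, nat_lit 30464, nat_lit 33280, nat_lit 37888, nat_lit 41578, nat_lit 37072, nat_lit 32931, nat_lit 28793, nat_lit 24752, nat_lit 20488, nat_lit 16521, nat_lit 12295, nat_lit 8203, nat_lit 4105, nat_lit 8]⟩⟩⟩,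
  ⟨[nat_lit 230, nat_lit 266, nat_lit 260, nat_lit 231], [], (nat_lit 504), ⟨[nat_lit 0, nat_lit 22, nat_lit 65], [nat_lit 17, nat_lit 89], ⟨[nat_lit 0x70c45a822b3352a40677911f0652c7], [nat_lit 173056, nat_lit 168960, nat_lit 165120, nat_lit 161408, nat_lit 157184, nat_lit 153504, nat_lit 148656, nat_lit 145064, nat_lit 140704, nat_lit 135644, nat_lit 133640, nat_lit 1214, nat_lit 5668, nat_lit 9688, nat_lit 14160, nat_lit 16480, nat_lit 20608, nat_lit 25856, nat_lit 29952, nat_lit 33280, nat_lit 41787, nat_lit 38128, nat_lit 32924, nat_lit 28691, nat_lit 24621, nat_lit 20550, nat_lit 16520, nat_lit 12306, nat_lit 8258, nat_lit 4101, nat_lit 4]⟩⟩⟩]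
theorem shn135 : Suf hnT 19005990 (ldrop (lapp hnwr9 [2, 0, 1]) 43) (apW dcM phn134) (tgtN dcM phn134.e) := Suf.seg (l := lhn135) (by decide +kernel) shn136
def lhn134 : List AP := [⟨[nat_lit 673, nat_lit 353, nat_lit 288, nat_lit 673, nat_lit 284], [], (nat_lit 1134), ⟨[nat_lit 0, nat_lit 82, nat_lit 64], [nat_lit 84, nat_lit 65], ⟨[nat_lit 0x95e812c067229b612d33031f1720d5], [nat_lit 169472, nat_lit 164352, nat_lit 161664, nat_lit 157824, nat_lit 152544, nat_lit 147744, nat_lit 144528, nat_lit 139752, nat_lit 135186, nat_lit 132007, nat_lit 1698, nat_lit 5120, nat_lit 9904, nat_lit 13696, nat_lit 17856, nat_lit 22208, nat_lit 24832, nat_lit 28928, nat_lit 33280, nat_lit 37888, nat_lit 41294, nat_lit 37320, nat_lit 32861, nat_lit 29216, nat_lit 24589, nat_lit 20618, nat_lit 16653, nat_lit 12353, nat_lit 8200, nat_lit 4128]⟩⟩⟩,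
  ⟨[nat_lit 668, nat_lit 225, nat_lit 666, nat_lit 260, nat_lit 222], [], (nat_lit 608), ⟨[nat_lit 72, nat_lit 46], [nat_lit 0, nat_lit 73, nat_lit 47], ⟨[nat_lit 0x4d5c45a8709dec1a1d88689f130245], [nat_lit 174080, nat_lit 171008, nat_lit 167680, nat_lit 155904, nat_lit 151584, nat_lit 149584, nat_lit 143896, nat_lit 140052, nat_lit 138804, nat_lit 133397, nat_lit 1938, nat_lit 6032, nat_lit 13152, nat_lit 16896, nat_lit 20800, nat_lit 24704, nat_lit 29696, nat_lit 33792, nat_lit 37888, nat_lit 41093, nat_lit 37033, nat_lit 32897, nat_lit 28681, nat_lit 24577, nat_lit 21016, nat_lit 16416, nat_lit 12416, nat_lit 9219, nat_lit 4101]⟩⟩⟩]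
theorem shn134 : Suf hnT 19005990 (ldrop (lapp hnwr9 [2, 0, 1]) 31) (apW dcM phn133) (tgtN dcM phn133.e) := Suf.seg (l := lhn134) (by decide +kernel) shn135
def lhn133 : List AP := [⟨[nat_lit 231, nat_lit 223, nat_lit 264, nat_lit 233, nat_lit 224], [], (nat_lit 608), ⟨[nat_lit 78, nat_lit 63], [nat_lit 9, nat_lit 70], ⟨[nat_lit 0x10dee8cce6a2aa8bd9696040d29212], [nat_lit 170496, nat_lit 165376, nat_lit 160384, nat_lit 158464, nat_lit 152608, nat_lit 148976, nat_lit 145984, nat_lit 142548, nat_lit 138474, nat_lit 135111, nat_lit 590, nat_lit 5088, nat_lit 10144, nat_lit 13952, nat_lit 16448, nat_lit 21376, nat_lit 25600, nat_lit 37888, nat_lit 41059, nat_lit 37008, nat_lit 32903, nat_lit 28686, nat_lit 25634, nat_lit 21526, nat_lit 16423, nat_lit 12423, nat_lit 8224, nat_lit 4113]⟩⟩⟩,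
  ⟨[nat_lit 670, nat_lit 291, nat_lit 672, nat_lit 355, nat_lit 286], [], (nat_lit 1138), ⟨[nat_lit 0, nat_lit 22, nat_lit 70], [nat_lit 0, nat_lit 26, nat_lit 92], ⟨[nat_lit 0xa08909d8251d4f17ad0930257729ac], [nat_lit 171520, nat_lit 164096, nat_lit 162688, nat_lit 156480, nat_lit 155616, nat_lit 150208, nat_lit 146336, nat_lit 139912, nat_lit 136592, nat_lit 134097, nat_lit 902, nat_lit 5884, nat_lit 9040, nat_lit 14000, nat_lit 18400, nat_lit 21632, nat_lit 26368, nat_lit 33792, nat_lit 40968, nat_lit 37309, nat_lit 32841, nat_lit 28739, nat_lit 24579, nat_lit 21022, nat_lit 16897, nat_lit 12307, nat_lit 8194, nat_lit 4100]⟩⟩⟩]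
theorem shn133 : Suf hnT 19005990 (ldrop (lapp hnwr9 [2, 0, 1]) 21) (apW dcM phn132) (tgtN dcM phn132.e) := Suf.seg (l := lhn133) (by decide +kernel) shn134
def lhn132 : List AP := [⟨[nat_lit 49, nat_lit 71, nat_lit 53, nat_lit 54, nat_lit 47], [], (nat_lit 368), ⟨[nat_lit 8, nat_lit 70], [nat_lit 0, nat_lit 42, nat_lit 68], ⟨[nat_lit 0x4d6ec92e2e1050f2154d3d87035013], [nat_lit 171520, nat_lit 165888, nat_lit 163072, nat_lit 157888, nat_lit 151808, nat_lit 150304, nat_lit 145832, nat_lit 140908, nat_lit 138674, nat_lit 131598, nat_lit 404, nat_lit 4684, nat_lit 8624, nat_lit 13312, nat_lit 17184, nat_lit 20544, nat_lit 26112, nat_lit 30464, nat_lit 34304, nat_lit 37888, nat_lit 41627, nat_lit 38141, nat_lit 32831, nat_lit 29813, nat_lit 24610, nat_lit 20500, nat_lit 16418, nat_lit 12416, nat_lit 8194, nat_lit 4097]⟩⟩⟩,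
  ⟨[nat_lit 659, nat_lit 214, nat_lit 214, nat_lit 214, nat_lit 170], [], (nat_lit 484), ⟨[nat_lit 0, nat_lit 77, nat_lit 91], [nat_lit 0, nat_lit 86, nat_lit 50], ⟨[nat_lit 0x95889089e0b95701b1cd9d0c8554f1], [nat_lit 173056, nat_lit 168448, nat_lit 164096, nat_lit 161152, nat_lit 156544, nat_lit 151776, nat_lit 147984, nat_lit 145088, nat_lit 142076, nat_lit 136428, nat_lit 132245, nat_lit 1694, nat_lit 6084, nat_lit 8568, nat_lit 12672, nat_lit 16864, nat_lit 21248, nat_lit 25088, nat_lit 29440, nat_lit 33280, nat_lit 37888, nat_lit 41532, nat_lit 37364, nat_lit 32851, nat_lit 29288, nat_lit 24884, nat_lit 20569, nat_lit 16396, nat_lit 12289, nat_lit 8209, nat_lit 4129, nat_lit 2]⟩⟩⟩]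
theorem shn132 : Suf hnT 19005990 (ldrop (lapp hnwr9 [2, 0, 1]) 11) (apW dcM phn131) (tgtN dcM phn131.e) := Suf.seg (l := lhn132) (by decide +kernel) shn133
def lhn131 : List AP := [⟨[nat_lit 37, nat_lit 632, nat_lit 40, nat_lit 37, nat_lit 630], [], (nat_lit 90), ⟨[nat_lit 0, nat_lit 11, nat_lit 93], [nat_lit 85, nat_lit 64], ⟨[nat_lit 0x1b8d29de09250eaabdab1580828591], [nat_lit 175104, nat_lit 169472, nat_lit 160256, nat_lit 158080, nat_lit 155584, nat_lit 149984, nat_lit 143816, nat_lit 141488, nat_lit 137078, nat_lit 134428, nat_lit 1652, nat_lit 4924, nat_lit 8504, nat_lit 13936, nat_lit 16416, nat_lit 22400, nat_lit 24704, nat_lit 28928, nat_lit 41812, nat_lit 37313, nat_lit 33518, nat_lit 29277, nat_lit 25098, nat_lit 20750, nat_lit 16525, nat_lit 12354, nat_lit 8195, nat_lit 4097]⟩⟩⟩,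
  ⟨[nat_lit 48, nat_lit 66], [], (nat_lit 1044), ⟨[nat_lit 71, nat_lit 48], [nat_lit 0, nat_lit 74, nat_lit 59], ⟨[nat_lit 0x8ae98346463ea8a4d7233a20b28a7], [nat_lit 168960, nat_lit 166656, nat_lit 161792, nat_lit 157952, nat_lit 155328, nat_lit 147488, nat_lit 146000, nat_lit 141892, nat_lit 135636, nat_lit 133483, nat_lit 1054, nat_lit 5488, nat_lit 9096, nat_lit 12496, nat_lit 17120, nat_lit 21312, nat_lit 24704, nat_lit 29184, nat_lit 33280, nat_lit 41263, nat_lit 37243, nat_lit 33528, nat_lit 28675, nat_lit 25096, nat_lit 20493, nat_lit 16455, nat_lit 12292, nat_lit 8194, nat_lit 4097, nat_lit 2]⟩⟩⟩]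
theorem hncr9_1 : Suf hnT 19005990 (lapp hnwr9 [2, 0, 1]) (iC2 :: apW dcM q0) (tgtN dcM q0.e) := Suf.seg (l := lhn131) (by decide +kernel) shn132

def phn142 : AP := ⟨[nat_lit 80], [], (nat_lit 188), ⟨[nat_lit 25, nat_lit 50], [nat_lit 0, nat_lit 79, nat_lit 90], ⟨[nat_lit 0x8c1563b2627353759a840bcb245403], [nat_lit 169472, nat_lit 167680, nat_lit 160896, nat_lit 156736, nat_lit 155168, nat_lit 151184, nat_lit 146744, nat_lit 141420, nat_lit 137222, nat_lit 132924, nat_lit 8, nat_lit 4404, nat_lit 10192, nat_lit 12544, nat_lit 17056, nat_lit 21824, nat_lit 26496, nat_lit 28928, nat_lit 37888, nat_lit 41506, nat_lit 37209, nat_lit 32890, nat_lit 28682, nat_lit 24836, nat_lit 20549, nat_lit 16417, nat_lit 12290, nat_lit 8193, nat_lit 4097, nat_lit 2]⟩⟩⟩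
def phn143 : AP := ⟨[nat_lit 357, nat_lit 672, nat_lit 351, nat_lit 288], [], (nat_lit 1154), ⟨[nat_lit 74], [nat_lit 43, nat_lit 49], ⟨[nat_lit 0xa0d05101b0bb2355582699de44ba4b], [nat_lit 168448, nat_lit 160128, nat_lit 156224, nat_lit 151744, nat_lit 148400, nat_lit 144112, nat_lit 140560, nat_lit 135786, nat_lit 133749, nat_lit 986, nat_lit 5080, nat_lit 10160, nat_lit 12704, nat_lit 22336, nat_lit 30208, nat_lit 33792, nat_lit 37888, nat_lit 41398, nat_lit 37052, nat_lit 33973, nat_lit 28747, nat_lit 24579, nat_lit 21023, nat_lit 16387, nat_lit 12293, nat_lit 8195, nat_lit 4097]⟩⟩⟩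
def phn144 : AP := ⟨[nat_lit 260, nat_lit 229, nat_lit 223, nat_lit 266], [], (nat_lit 699), ⟨[nat_lit 0, nat_lit 44, nat_lit 48], [nat_lit 0, nat_lit 1, nat_lit 89], ⟨[nat_lit 0x34028124b28bad33b68453eab65c60], [nat_lit 175104, nat_lit 169472, nat_lit 167424, nat_lit 161920, nat_lit 158464, nat_lit 151872, nat_lit 148672, nat_lit 143896, nat_lit 141720, nat_lit 138014, nat_lit 132728, nat_lit 1478, nat_lit 5580, nat_lit 9328, nat_lit 13552, nat_lit 18048, nat_lit 21312, nat_lit 24960, nat_lit 30208, nat_lit 37888, nat_lit 40994, nat_lit 37306, nat_lit 32938, nat_lit 28997, nat_lit 24725, nat_lit 20506, nat_lit 16396, nat_lit 8193]⟩⟩⟩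
def phn145 : AP := ⟨[nat_lit 261, nat_lit 228, nat_lit 224, nat_lit 223], [], (nat_lit 1114), ⟨[nat_lit 42, nat_lit 46], [nat_lit 79, nat_lit 89], ⟨[nat_lit 0x9d4278d8a34a96c721afb985095080], [nat_lit 169984, nat_lit 164352, nat_lit 162560, nat_lit 156224, nat_lit 154976, nat_lit 151392, nat_lit 145816, nat_lit 139392, nat_lit 135848, nat_lit 134494, nat_lit 16, nat_lit 5276, nat_lit 8224, nat_lit 12960, nat_lit 16448, nat_lit 21184, nat_lit 29184, nat_lit 34304, nat_lit 40969, nat_lit 37001, nat_lit 32961, nat_lit 28781, nat_lit 24609, nat_lit 20571, nat_lit 16419, nat_lit 12289, nat_lit 8320, nat_lit 4129, nat_lit 2]⟩⟩⟩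
def phn146 : AP := ⟨[nat_lit 145, nat_lit 139, nat_lit 149, nat_lit 149, nat_lit 148], [], (nat_lit 536), ⟨[nat_lit 20, nat_lit 49], [nat_lit 0, nat_lit 20, nat_lit 50], ⟨[nat_lit 0x6cc207ad5283a97126a561a271d904], [nat_lit 173056, nat_lit 171520, nat_lit 166400, nat_lit 162560, nat_lit 158144, nat_lit 151584, nat_lit 150672, nat_lit 145560, nat_lit 139268, nat_lit 137848, nat_lit 133016, nat_lit 680, nat_lit 4824, nat_lit 9464, nat_lit 12544, nat_lit 16640, nat_lit 21120, nat_lit 25984, nat_lit 29184, nat_lit 33280, nat_lit 41730, nat_lit 37217, nat_lit 32898, nat_lit 28928, nat_lit 25123, nat_lit 20491, nat_lit 16389, nat_lit 12290, nat_lit 8210, nat_lit 4]⟩⟩⟩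
def phn147 : AP := ⟨[nat_lit 357, nat_lit 353, nat_lit 673, nat_lit 673], [], (nat_lit 1146), ⟨[nat_lit 11, nat_lit 54], [nat_lit 82, nat_lit 54], ⟨[nat_lit 0x615e2a009572af1b25b05a0c30ce47], [nat_lit 173056, nat_lit 169472, nat_lit 160256, nat_lit 147536, nat_lit 145120, nat_lit 140364, nat_lit 136164, nat_lit 133734, nat_lit 1182, nat_lit 5276, nat_lit 8776, nat_lit 14032, nat_lit 18112, nat_lit 21632, nat_lit 25088, nat_lit 33280, nat_lit 37888, nat_lit 41731, nat_lit 38352, nat_lit 33856, nat_lit 29264, nat_lit 24630, nat_lit 20553, nat_lit 16395, nat_lit 12310, nat_lit 8203, nat_lit 4097, nat_lit 2]⟩⟩⟩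
def phn148 : AP := ⟨[nat_lit 655, nat_lit 142, nat_lit 143, nat_lit 140, nat_lit 141], [], (nat_lit 480), ⟨[nat_lit 16, nat_lit 93], [nat_lit 0, nat_lit 34, nat_lit 63], ⟨[nat_lit 0x788a760653b122b32a907250068eb7], [nat_lit 173056, nat_lit 169472, nat_lit 164352, nat_lit 161408, nat_lit 155904, nat_lit 152800, nat_lit 148224, nat_lit 144088, nat_lit 139640, nat_lit 137486, nat_lit 131961, nat_lit 1142, nat_lit 4756, nat_lit 8856, nat_lit 13712, nat_lit 17248, nat_lit 20672, nat_lit 25856, nat_lit 33280, nat_lit 37888, nat_lit 41420, nat_lit 36926, nat_lit 32894, nat_lit 29810, nat_lit 24599, nat_lit 20487, nat_lit 16397, nat_lit 12289, nat_lit 8194, nat_lit 4097]⟩⟩⟩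
def phn149 : AP := ⟨[nat_lit 352, nat_lit 351, nat_lit 355, nat_lit 284], [], (nat_lit 668), ⟨[nat_lit 37, nat_lit 70], [nat_lit 76, nat_lit 94], ⟨[nat_lit 0xbd52d70103884f42a88c7ae1390ac6], [nat_lit 173056, nat_lit 164352, nat_lit 160000, nat_lit 156608, nat_lit 152128, nat_lit 148224, nat_lit 144976, nat_lit 139868, nat_lit 135870, nat_lit 133877, nat_lit 1024, nat_lit 4340, nat_lit 9216, nat_lit 14000, nat_lit 18240, nat_lit 20928, nat_lit 28928, nat_lit 37888, nat_lit 41951, nat_lit 38110, nat_lit 33530, nat_lit 28986, nat_lit 24760, nat_lit 20549, nat_lit 16422, nat_lit 12307, nat_lit 8193, nat_lit 4112]⟩⟩⟩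
def phn150 : AP := ⟨[nat_lit 293, nat_lit 670, nat_lit 286], [], (nat_lit 1218), ⟨[nat_lit 0, nat_lit 83, nat_lit 67], [nat_lit 0, nat_lit 10, nat_lit 90], ⟨[nat_lit 0x7cc06b39a9a9cabbaa301068861243], [nat_lit 175104, nat_lit 169984, nat_lit 167168, nat_lit 162176, nat_lit 157568, nat_lit 154912, nat_lit 149616, nat_lit 143960, nat_lit 142912, nat_lit 136702, nat_lit 133029, nat_lit 484, nat_lit 4412, nat_lit 10144, nat_lit 13552, nat_lit 16640, nat_lit 21504, nat_lit 29952, nat_lit 41850, nat_lit 38039, nat_lit 32852, nat_lit 29273, nat_lit 24842, nat_lit 20608, nat_lit 16388, nat_lit 12352, nat_lit 4104, nat_lit 512]⟩⟩⟩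
def phn151 : AP := ⟨[nat_lit 76], [], (nat_lit 196), ⟨[nat_lit 0, nat_lit 13, nat_lit 46], [nat_lit 78, nat_lit 54], ⟨[nat_lit 0x74d0d79c351b286544404c0a45cad7], [nat_lit 174080, nat_lit 168960, nat_lit 162944, nat_lit 156928, nat_lit 152800, nat_lit 151104, nat_lit 146048, nat_lit 142416, nat_lit 137744, nat_lit 134186, nat_lit 1140, nat_lit 5668, nat_lit 9928, nat_lit 13984, nat_lit 21248, nat_lit 24960, nat_lit 33280, nat_lit 37888, nat_lit 41927, nat_lit 37902, nat_lit 33491, nat_lit 28679, nat_lit 25149, nat_lit 20510, nat_lit 16391, nat_lit 12327, nat_lit 8195, nat_lit 4]⟩⟩⟩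
def lhn152 : List AP := [⟨[nat_lit 633, nat_lit 38, nat_lit 36], [], (nat_lit 1032), ⟨[nat_lit 77, nat_lit 65], [nat_lit 34, nat_lit 70], ⟨[nat_lit 0x4a85489dcb2b113bbda0b407225426], [nat_lit 175104, nat_lit 168960, nat_lit 164096, nat_lit 161792, nat_lit 156672, nat_lit 152768, nat_lit 149888, nat_lit 146520, nat_lit 142468, nat_lit 139058, nat_lit 134954, nat_lit 158, nat_lit 5120, nat_lit 8824, nat_lit 14272, nat_lit 21504, nat_lit 26496, nat_lit 30464, nat_lit 37888, nat_lit 41153, nat_lit 36877, nat_lit 32870, nat_lit 29704, nat_lit 24722, nat_lit 20481, nat_lit 16458, nat_lit 12354, nat_lit 4097]⟩⟩⟩]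
theorem shn152 : Suf hnT 19005990 (ldrop (lapp hnwr9 [3, 0, 1]) 107) (apW dcM phn151) (tgtN dcM phn151.e) := Suf.fin' (l := lhn152) (by decide +kernel)
def lhn151 : List AP := [⟨[nat_lit 81, nat_lit 104, nat_lit 78, nat_lit 78], [], (nat_lit 182), ⟨[nat_lit 38, nat_lit 64], [nat_lit 0, nat_lit 42, nat_lit 90], ⟨[nat_lit 0xad2626a2e452e008b02e3a5f690cc5], [nat_lit 173056, nat_lit 169472, nat_lit 167680, nat_lit 161280, nat_lit 155968, nat_lit 148448, nat_lit 144328, nat_lit 140152, nat_lit 135424, nat_lit 131532, nat_lit 568, nat_lit 4548, nat_lit 8200, nat_lit 16512, nat_lit 22336, nat_lit 24704, nat_lit 37888, nat_lit 41218, nat_lit 37317, nat_lit 33020, nat_lit 29012, nat_lit 24876, nat_lit 20612, nat_lit 16449, nat_lit 12324, nat_lit 8224, nat_lit 5120, nat_lit 16]⟩⟩⟩,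
  ⟨[nat_lit 642, nat_lit 46, nat_lit 57, nat_lit 49], [], (nat_lit 178), ⟨[nat_lit 0, nat_lit 87], [nat_lit 0, nat_lit 8, nat_lit 65], ⟨[nat_lit 0x94d55590d781de3736890458540ac1], [nat_lit 173056, nat_lit 165376, nat_lit 160256, nat_lit 155968, nat_lit 153472, nat_lit 151296, nat_lit 143496, nat_lit 141096, nat_lit 136520, nat_lit 132677, nat_lit 698, nat_lit 4112, nat_lit 8208, nat_lit 13648, nat_lit 16512, nat_lit 21824, nat_lit 26240, nat_lit 28928, nat_lit 34304, nat_lit 41360, nat_lit 37264, nat_lit 33350, nat_lit 28734, nat_lit 24857, nat_lit 20615, nat_lit 12321, nat_lit 4097, nat_lit 2]⟩⟩⟩]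
theorem shn151 : Suf hnT 19005990 (ldrop (lapp hnwr9 [3, 0, 1]) 96) (apW dcM phn150) (tgtN dcM phn150.e) := Suf.seg (l := lhn151) (by decide +kernel) shn152
def lhn150 : List AP := [⟨[nat_lit 669, nat_lit 286, nat_lit 671, nat_lit 672], [], (nat_lit 801), ⟨[nat_lit 0, nat_lit 84, nat_lit 66], [nat_lit 0, nat_lit 28, nat_lit 54], ⟨[nat_lit 0x190ea0d51793a862da0d5c41378989], [nat_lit 174080, nat_lit 171520, nat_lit 165376, nat_lit 162816, nat_lit 159360, nat_lit 154560, nat_lit 148224, nat_lit 144768, nat_lit 140468, nat_lit 138822, nat_lit 134176, nat_lit 804, nat_lit 4408, nat_lit 10088, nat_lit 13552, nat_lit 16928, nat_lit 20672, nat_lit 25728, nat_lit 30208, nat_lit 34304, nat_lit 41975, nat_lit 37111, nat_lit 33006, nat_lit 28932, nat_lit 24582, nat_lit 20634, nat_lit 16420, nat_lit 12295, nat_lit 8200, nat_lit 4100]⟩⟩⟩,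
  ⟨[nat_lit 357, nat_lit 354, nat_lit 672], [], (nat_lit 770), ⟨[nat_lit 0, nat_lit 39, nat_lit 63], [nat_lit 5, nat_lit 58], ⟨[nat_lit 0x3a5761903483d4064902695d599a37], [nat_lit 168960, nat_lit 160768, nat_lit 157312, nat_lit 152096, nat_lit 149552, nat_lit 143496, nat_lit 140428, nat_lit 136742, nat_lit 132533, nat_lit 1124, nat_lit 5160, nat_lit 8872, nat_lit 14096, nat_lit 17408, nat_lit 21568, nat_lit 30464, nat_lit 37888, nat_lit 41872, nat_lit 37226, nat_lit 33414, nat_lit 29040, nat_lit 24624, nat_lit 20485, nat_lit 16391, nat_lit 12423, nat_lit 8211, nat_lit 4105]⟩⟩⟩]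
theorem shn150 : Suf hnT 19005990 (ldrop (lapp hnwr9 [3, 0, 1]) 86) (apW dcM phn149) (tgtN dcM phn149.e) := Suf.seg (l := lhn150) (by decide +kernel) shn151
def lhn149 : List AP := [⟨[nat_lit 224, nat_lit 265, nat_lit 266], [], (nat_lit 488), ⟨[nat_lit 0, nat_lit 14, nat_lit 92], [nat_lit 0, nat_lit 45, nat_lit 90], ⟨[nat_lit 0xac09613eea08cd24b6802b99144ceb], [nat_lit 175104, nat_lit 171520, nat_lit 165888, nat_lit 161408, nat_lit 158080, nat_lit 154016, nat_lit 148928, nat_lit 145536, nat_lit 140740, nat_lit 137194, nat_lit 131269, nat_lit 1860, nat_lit 5296, nat_lit 9280, nat_lit 13920, nat_lit 17856, nat_lit 21120, nat_lit 26112, nat_lit 28928, nat_lit 41148, nat_lit 37241, nat_lit 33396, nat_lit 29722, nat_lit 25110, nat_lit 20570, nat_lit 16429, nat_lit 8226, nat_lit 4097, nat_lit 2]⟩⟩⟩,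
  ⟨[nat_lit 655, nat_lit 147, nat_lit 141, nat_lit 145, nat_lit 145], [], (nat_lit 748), ⟨[nat_lit 85, nat_lit 93], [nat_lit 21, nat_lit 91], ⟨[nat_lit 0x39e7488a8904d0bb5719a994192b6], [nat_lit 168448, nat_lit 165376, nat_lit 161536, nat_lit 153344, nat_lit 149232, nat_lit 143920, nat_lit 141460, nat_lit 135442, nat_lit 131234, nat_lit 700, nat_lit 5208, nat_lit 8208, nat_lit 12304, nat_lit 16416, nat_lit 21312, nat_lit 25088, nat_lit 30464, nat_lit 33280, nat_lit 37888, nat_lit 41171, nat_lit 37108, nat_lit 32884, nat_lit 29270, nat_lit 24628, nat_lit 20555, nat_lit 16388, nat_lit 12292, nat_lit 4097]⟩⟩⟩]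
theorem shn149 : Suf hnT 19005990 (ldrop (lapp hnwr9 [3, 0, 1]) 75) (apW dcM phn148) (tgtN dcM phn148.e) := Suf.seg (l := lhn149) (by decide +kernel) shn150
def lhn148 : List AP := [⟨[nat_lit 227, nat_lit 225, nat_lit 229, nat_lit 259, nat_lit 222], [], (nat_lit 610), ⟨[nat_lit 0, nat_lit 72, nat_lit 91], [nat_lit 0, nat_lit 7, nat_lit 92], ⟨[nat_lit 0x912ad644d440569995f61804abc1c7], [nat_lit 171520, nat_lit 164864, nat_lit 161280, nat_lit 156544, nat_lit 153088, nat_lit 148704, nat_lit 143936, nat_lit 140776, nat_lit 135320, nat_lit 133029, nat_lit 1694, nat_lit 5468, nat_lit 10224, nat_lit 13872, nat_lit 18336, nat_lit 20928, nat_lit 25472, nat_lit 28928, nat_lit 34304, nat_lit 37888, nat_lit 41539, nat_lit 32971, nat_lit 28756, nat_lit 24608, nat_lit 20495, nat_lit 16521, nat_lit 12306, nat_lit 8203, nat_lit 4105]⟩⟩⟩,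
  ⟨[nat_lit 673, nat_lit 295, nat_lit 354, nat_lit 291], [], (nat_lit 1190), ⟨[nat_lit 85, nat_lit 63], [nat_lit 30, nat_lit 56], ⟨[nat_lit 0xb055323cc76b0ae1ae17ac848a4520], [nat_lit 175104, nat_lit 170496, nat_lit 167680, nat_lit 160000, nat_lit 159040, nat_lit 154784, nat_lit 147488, nat_lit 145728, nat_lit 140124, nat_lit 137198, nat_lit 131811, nat_lit 1896, nat_lit 4780, nat_lit 8704, nat_lit 14144, nat_lit 18176, nat_lit 20672, nat_lit 24960, nat_lit 29184, nat_lit 33280, nat_lit 37888, nat_lit 41832, nat_lit 37224, nat_lit 32949, nat_lit 29017, nat_lit 24627, nat_lit 20483, nat_lit 16459, nat_lit 8320]⟩⟩⟩]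
theorem shn148 : Suf hnT 19005990 (ldrop (lapp hnwr9 [3, 0, 1]) 63) (apW dcM phn147) (tgtN dcM phn147.e) := Suf.seg (l := lhn148) (by decide +kernel) shn149
def lhn147 : List AP := [⟨[nat_lit 263, nat_lit 262, nat_lit 232, nat_lit 259], [], (nat_lit 498), ⟨[nat_lit 0, nat_lit 37, nat_lit 93], [nat_lit 79, nat_lit 70], ⟨[nat_lit 0xb8658b24615d136d2a40593052de7], [nat_lit 173056, nat_lit 168960, nat_lit 165888, nat_lit 160128, nat_lit 157056, nat_lit 154432, nat_lit 150096, nat_lit 146760, nat_lit 141712, nat_lit 137972, nat_lit 131767, nat_lit 1440, nat_lit 5716, nat_lit 8928, nat_lit 12640, nat_lit 17344, nat_lit 21760, nat_lit 25600, nat_lit 29440, nat_lit 34304, nat_lit 37888, nat_lit 41907, nat_lit 36874, nat_lit 33897, nat_lit 28930, nat_lit 24722, nat_lit 21529, nat_lit 16514, nat_lit 12293]⟩⟩⟩,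
  ⟨[nat_lit 145, nat_lit 141, nat_lit 149, nat_lit 658, nat_lit 145], [], (nat_lit 594), ⟨[nat_lit 72, nat_lit 94], [nat_lit 0, nat_lit 85, nat_lit 70], ⟨[nat_lit 0x9c159d092545e258db0b95cc458c9], [nat_lit 173056, nat_lit 168448, nat_lit 165120, nat_lit 161152, nat_lit 157440, nat_lit 154080, nat_lit 148832, nat_lit 145016, nat_lit 140880, nat_lit 135596, nat_lit 131407, nat_lit 1918, nat_lit 4548, nat_lit 9624, nat_lit 12784, nat_lit 17088, nat_lit 21504, nat_lit 29440, nat_lit 41888, nat_lit 37968, nat_lit 33424, nat_lit 29260, nat_lit 24832, nat_lit 20485, nat_lit 16518, nat_lit 12306, nat_lit 8226, nat_lit 4101, nat_lit 4]⟩⟩⟩]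
theorem shn147 : Suf hnT 19005990 (ldrop (lapp hnwr9 [3, 0, 1]) 53) (apW dcM phn146) (tgtN dcM phn146.e) := Suf.seg (l := lhn147) (by decide +kernel) shn148
def lhn146 : List AP := [⟨[nat_lit 658, nat_lit 654, nat_lit 147, nat_lit 658, nat_lit 655, nat_lit 139], [], (nat_lit 474), ⟨[nat_lit 82], [nat_lit 86, nat_lit 52], ⟨[nat_lit 0x84e2491cc51d92f6aaa14019413aeb], [nat_lit 175104, nat_lit 169472, nat_lit 164096, nat_lit 162560, nat_lit 156672, nat_lit 149776, nat_lit 145552, nat_lit 142380, nat_lit 138214, nat_lit 134374, nat_lit 1860, nat_lit 4328, nat_lit 9344, nat_lit 13408, nat_lit 17152, nat_lit 21248, nat_lit 26240, nat_lit 29440, nat_lit 33280, nat_lit 41590, nat_lit 38213, nat_lit 33418, nat_lit 28773, nat_lit 24726, nat_lit 20483, nat_lit 16387, nat_lit 12550, nat_lit 8195]⟩⟩⟩,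
  ⟨[nat_lit 264, nat_lit 228, nat_lit 261], [], (nat_lit 1114), ⟨[nat_lit 77, nat_lit 50], [nat_lit 0, nat_lit 28, nat_lit 58], ⟨[nat_lit 0x92837788c3026b02b10b74e276da84], [nat_lit 173056, nat_lit 168448, nat_lit 165376, nat_lit 160768, nat_lit 156352, nat_lit 152928, nat_lit 149312, nat_lit 144424, nat_lit 141668, nat_lit 136050, nat_lit 133097, nat_lit 680, nat_lit 5652, nat_lit 8208, nat_lit 13712, nat_lit 16416, nat_lit 20800, nat_lit 26240, nat_lit 29952, nat_lit 37888, nat_lit 41639, nat_lit 37108, nat_lit 32826, nat_lit 28788, nat_lit 24760, nat_lit 20637, nat_lit 16391, nat_lit 12320, nat_lit 8193, nat_lit 4113, nat_lit 4]⟩⟩⟩]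
theorem shn146 : Suf hnT 19005990 (ldrop (lapp hnwr9 [3, 0, 1]) 43) (apW dcM phn145) (tgtN dcM phn145.e) := Suf.seg (l := lhn146) (by decide +kernel) shn147
def lhn145 : List AP := [⟨[nat_lit 355, nat_lit 285, nat_lit 286, nat_lit 291], [], (nat_lit 1178), ⟨[nat_lit 0, nat_lit 35, nat_lit 91], [nat_lit 35, nat_lit 46], ⟨[nat_lit 0x3a25468ed5246eb809d3030a653d21], [nat_lit 164096, nat_lit 160256, nat_lit 156800, nat_lit 151840, nat_lit 148160, nat_lit 146528, nat_lit 139560, nat_lit 137052, nat_lit 131472, nat_lit 1808, nat_lit 5580, nat_lit 8864, nat_lit 13152, nat_lit 16864, nat_lit 21504, nat_lit 25344, nat_lit 29696, nat_lit 34304, nat_lit 41850, nat_lit 37281, nat_lit 33466, nat_lit 28776, nat_lit 24631, nat_lit 20575, nat_lit 16463, nat_lit 12311, nat_lit 8203, nat_lit 8]⟩⟩⟩,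
  ⟨[nat_lit 145, nat_lit 143, nat_lit 139, nat_lit 150, nat_lit 150], [], (nat_lit 474), ⟨[nat_lit 0, nat_lit 75, nat_lit 49], [nat_lit 0, nat_lit 44], ⟨[nat_lit 0x7d1d565aed50d024856029e5199890], [nat_lit 170496, nat_lit 164096, nat_lit 162176, nat_lit 157376, nat_lit 155040, nat_lit 150000, nat_lit 145904, nat_lit 139428, nat_lit 136254, nat_lit 134864, nat_lit 760, nat_lit 4260, nat_lit 8376, nat_lit 13232, nat_lit 16896, nat_lit 25088, nat_lit 29696, nat_lit 37888, nat_lit 41602, nat_lit 36980, nat_lit 32776, nat_lit 29763, nat_lit 24604, nat_lit 21010, nat_lit 16461, nat_lit 12358, nat_lit 8227, nat_lit 4105]⟩⟩⟩]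
theorem shn145 : Suf hnT 19005990 (ldrop (lapp hnwr9 [3, 0, 1]) 31) (apW dcM phn144) (tgtN dcM phn144.e) := Suf.seg (l := lhn145) (by decide +kernel) shn146
def lhn144 : List AP := [⟨[nat_lit 266, nat_lit 222, nat_lit 261, nat_lit 222], [], (nat_lit 502), ⟨[nat_lit 0, nat_lit 6, nat_lit 65], [nat_lit 0, nat_lit 30, nat_lit 67], ⟨[nat_lit 0x126d36ad447d687184cc71632802e8], [nat_lit 173056, nat_lit 169984, nat_lit 166144, nat_lit 163328, nat_lit 158464, nat_lit 152160, nat_lit 149776, nat_lit 147320, nat_lit 141040, nat_lit 137374, nat_lit 132200, nat_lit 1396, nat_lit 4824, nat_lit 9328, nat_lit 13440, nat_lit 21696, nat_lit 29952, nat_lit 33280, nat_lit 41090, nat_lit 37197, nat_lit 32916, nat_lit 28950, nat_lit 25119, nat_lit 20481, nat_lit 16448, nat_lit 12807, nat_lit 8195, nat_lit 4097, nat_lit 2]⟩⟩⟩,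
  ⟨[nat_lit 262, nat_lit 262, nat_lit 667, nat_lit 230], [], (nat_lit 516), ⟨[nat_lit 78, nat_lit 57], [nat_lit 12, nat_lit 56], ⟨[nat_lit 0xae2548247ab1afbba969894681103], [nat_lit 173056, nat_lit 169472, nat_lit 164864, nat_lit 160384, nat_lit 148800, nat_lit 145192, nat_lit 139396, nat_lit 136122, nat_lit 133951, nat_lit 8, nat_lit 5524, nat_lit 8856, nat_lit 12352, nat_lit 17408, nat_lit 22016, nat_lit 24832, nat_lit 29696, nat_lit 33792, nat_lit 37888, nat_lit 41621, nat_lit 38364, nat_lit 33016, nat_lit 28966, nat_lit 24586, nat_lit 20753, nat_lit 16519, nat_lit 12289, nat_lit 8323, nat_lit 4161]⟩⟩⟩]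
theorem shn144 : Suf hnT 19005990 (ldrop (lapp hnwr9 [3, 0, 1]) 21) (apW dcM phn143) (tgtN dcM phn143.e) := Suf.seg (l := lhn144) (by decide +kernel) shn145
def lhn143 : List AP := [⟨[nat_lit 81, nat_lit 86, nat_lit 102, nat_lit 87, nat_lit 84], [], (nat_lit 718), ⟨[nat_lit 14, nat_lit 65], [nat_lit 21, nat_lit 54], ⟨[nat_lit 0x236ea7cdc389c4602d10950362d52c], [nat_lit 170496, nat_lit 164864, nat_lit 161024, nat_lit 158080, nat_lit 152480, nat_lit 147808, nat_lit 146968, nat_lit 143080, nat_lit 137728, nat_lit 134529, nat_lit 880, nat_lit 5444, nat_lit 9384, nat_lit 13552, nat_lit 17824, nat_lit 21568, nat_lit 24960, nat_lit 29952, nat_lit 41323, nat_lit 37159, nat_lit 32843, nat_lit 28789, nat_lit 24595, nat_lit 20609, nat_lit 16386, nat_lit 12291, nat_lit 4104]⟩⟩⟩,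
  ⟨[nat_lit 291, nat_lit 357, nat_lit 357, nat_lit 357], [], (nat_lit 800), ⟨[nat_lit 0, nat_lit 19, nat_lit 66], [nat_lit 0, nat_lit 75, nat_lit 67], ⟨[nat_lit 0x2ccee0d0c9a888a85df668c128a18b], [nat_lit 173056, nat_lit 168448, nat_lit 161408, nat_lit 156672, nat_lit 155072, nat_lit 149488, nat_lit 144096, nat_lit 140268, nat_lit 136862, nat_lit 132295, nat_lit 986, nat_lit 4380, nat_lit 9904, nat_lit 14032, nat_lit 17504, nat_lit 20736, nat_lit 26368, nat_lit 29440, nat_lit 33280, nat_lit 37888, nat_lit 41880, nat_lit 37152, nat_lit 32863, nat_lit 29743, nat_lit 24885, nat_lit 20484, nat_lit 16519, nat_lit 12354, nat_lit 8224, nat_lit 128]⟩⟩⟩]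
theorem shn143 : Suf hnT 19005990 (ldrop (lapp hnwr9 [3, 0, 1]) 11) (apW dcM phn142) (tgtN dcM phn142.e) := Suf.seg (l := lhn143) (by decide +kernel) shn144
def lhn142 : List AP := [⟨[nat_lit 36, nat_lit 633, nat_lit 14, nat_lit 39, nat_lit 39], [], (nat_lit 197), ⟨[nat_lit 0, nat_lit 81, nat_lit 89], [nat_lit 0, nat_lit 17, nat_lit 68], ⟨[nat_lit 0x7a405121c7ada37530269c2921b48b], [nat_lit 173056, nat_lit 169472, nat_lit 167168, nat_lit 160128, nat_lit 157056, nat_lit 151744, nat_lit 148416, nat_lit 144480, nat_lit 141260, nat_lit 136300, nat_lit 132207, nat_lit 566, nat_lit 5064, nat_lit 10144, nat_lit 12544, nat_lit 22272, nat_lit 24704, nat_lit 30464, nat_lit 33792, nat_lit 41664, nat_lit 38356, nat_lit 29792, nat_lit 25641, nat_lit 20553, nat_lit 16900, nat_lit 8707, nat_lit 4101, nat_lit 4]⟩⟩⟩,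
  ⟨[nat_lit 101, nat_lit 103, nat_lit 106], [], (nat_lit 189), ⟨[nat_lit 0, nat_lit 24, nat_lit 70], [nat_lit 66], ⟨[nat_lit 0x5aa6475101ade46830af159a989c03], [nat_lit 173056, nat_lit 168960, nat_lit 164608, nat_lit 160128, nat_lit 157312, nat_lit 155200, nat_lit 148880, nat_lit 143520, nat_lit 140412, nat_lit 135480, nat_lit 132363, nat_lit 8, nat_lit 5276, nat_lit 9360, nat_lit 13136, nat_lit 16896, nat_lit 20992, nat_lit 25344, nat_lit 29696, nat_lit 33792, nat_lit 37888, nat_lit 41105, nat_lit 37152, nat_lit 33336, nat_lit 29764, nat_lit 24638, nat_lit 20496, nat_lit 16426, nat_lit 12306, nat_lit 8257, nat_lit 4100, nat_lit 2]⟩⟩⟩]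
theorem hncr9_2 : Suf hnT 19005990 (lapp hnwr9 [3, 0, 1]) (iC3 :: apW dcM q0) (tgtN dcM q0.e) := Suf.seg (l := lhn142) (by decide +kernel) shn143


end

end CF.Mon.Tr
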