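import Cfsg.Agent.Mon.hnD

set_option autoImplicit false
set_option maxRecDepth 100000

namespace CF.Mon.Tr

open CF.Comp

noncomputable section

def phn153 : AP := ⟨[nat_lit 67, nat_lit 57, nat_lit 640, nat_lit 70], [], (nat_lit 1046), ⟨[nat_lit 3], [nat_lit 0, nat_lit 27, nat_lit 93], ⟨[nat_lit 0xb32615c644abe00450f7488c32a9ae], [nat_lit 173056, nat_lit 170496, nat_lit 164352, nat_lit 160896, nat_lit 152608, nat_lit 148848, nat_lit 144616, nat_lit 140684, nat_lit 136828, nat_lit 131391, nat_lit 1624, nat_lit 5884, nat_lit 9648, nat_lit 12416, nat_lit 16512, nat_lit 22208, nat_lit 25344, nat_lit 29440, nat_lit 34304, nat_lit 41972, nat_lit 33897, nat_lit 28957, nat_lit 25636, nat_lit 21530, nat_lit 16456, nat_lit 12304, nat_lit 8195, nat_lit 4100, nat_lit 2]⟩⟩⟩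
def phn154 : AP := ⟨[nat_lit 71, nat_lit 71, nat_lit 51, nat_lit 72, nat_lit 46], [], (nat_lit 368), ⟨[nat_lit 0, nat_lit 24, nat_lit 61], [nat_lit 25, nat_lit 94], ⟨[nat_lit 0xc5423bea070c966b132a5d109acc5], [nat_lit 174080, nat_lit 171008, nat_lit 166656, nat_lit 160768, nat_lit 157952, nat_lit 153824, nat_lit 147648, nat_lit 146928, nat_lit 140904, nat_lit 136950, nat_lit 131615, nat_lit 718, nat_lit 6104, nat_lit 9216, nat_lit 14304, nat_lit 16704, nat_lit 21824, nat_lit 24704, nat_lit 28928, nat_lit 37888, nat_lit 41387, nat_lit 37061, nat_lit 32904, nat_lit 28680, nat_lit 24607, nat_lit 21511, nat_lit 16455, nat_lit 12289, nat_lit 8226, nat_lit 4100, nat_lit 8]⟩⟩⟩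
def phn155 : AP := ⟨[nat_lit 179, nat_lit 170, nat_lit 663, nat_lit 172], [], (nat_lit 440), ⟨[nat_lit 10, nat_lit 69], [nat_lit 0, nat_lit 85, nat_lit 54], ⟨[nat_lit 0x3c488741ea1b0d6a2e57a95a04cc41], [nat_lit 173056, nat_lit 168960, nat_lit 164864, nat_lit 160768, nat_lit 159616, nat_lit 153248, nat_lit 148512, nat_lit 144464, nat_lit 141068, nat_lit 135870, nat_lit 132784, nat_lit 588, nat_lit 4100, nat_lit 8256, nat_lit 14272, nat_lit 18240, nat_lit 21120, nat_lit 25728, nat_lit 29952, nat_lit 33792, nat_lit 37888, nat_lit 41024, nat_lit 37352, nat_lit 33017, nat_lit 28769, nat_lit 24762, nat_lit 20609, nat_lit 16454, nat_lit 12311, nat_lit 8195, nat_lit 4101, nat_lit 4]⟩⟩⟩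
def phn156 : AP := ⟨[nat_lit 177, nat_lit 170, nat_lit 176, nat_lit 175], [], (nat_lit 858), ⟨[nat_lit 80, nat_lit 67], [nat_lit 10, nat_lit 93], ⟨[nat_lit 0x79868a4a11704895898568147bceb6], [nat_lit 168448, nat_lit 164352, nat_lit 161536, nat_lit 157440, nat_lit 152512, nat_lit 147776, nat_lit 145272, nat_lit 140456, nat_lit 136310, nat_lit 131628, nat_lit 696, nat_lit 5208, nat_lit 9384, nat_lit 12496, nat_lit 18112, nat_lit 22016, nat_lit 25088, nat_lit 28928, nat_lit 41577, nat_lit 36928, nat_lit 32896, nat_lit 28979, nat_lit 25088, nat_lit 20627, nat_lit 16391, nat_lit 13316, nat_lit 8195, nat_lit 4097]⟩⟩⟩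
def phn157 : AP := ⟨[nat_lit 463, nat_lit 411, nat_lit 466, nat_lit 410], [], (nat_lit 1236), ⟨[nat_lit 16, nat_lit 54], [nat_lit 0, nat_lit 4, nat_lit 53], ⟨[nat_lit 0x409258ddab81a419d14c038ef192d5], [nat_lit 174080, nat_lit 169472, nat_lit 159872, nat_lit 158464, nat_lit 154144, nat_lit 150096, nat_lit 145064, nat_lit 143008, nat_lit 136820, nat_lit 134360, nat_lit 1778, nat_lit 5208, nat_lit 9928, nat_lit 12304, nat_lit 18400, nat_lit 22336, nat_lit 25600, nat_lit 30464, nat_lit 34304, nat_lit 41883, nat_lit 37000, nat_lit 33001, nat_lit 28987, nat_lit 24743, nat_lit 20503, nat_lit 16424, nat_lit 12295, nat_lit 8195, nat_lit 4101, nat_lit 4]⟩⟩⟩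
def phn158 : AP := ⟨[nat_lit 173, nat_lit 661, nat_lit 216, nat_lit 661], [], (nat_lit 440), ⟨[nat_lit 0, nat_lit 41, nat_lit 52], [nat_lit 28, nat_lit 65], ⟨[nat_lit 0x4c2459be801b6b1592d76394732022], [nat_lit 175104, nat_lit 170496, nat_lit 167168, nat_lit 160640, nat_lit 158592, nat_lit 154464, nat_lit 148784, nat_lit 146400, nat_lit 140504, nat_lit 136162, nat_lit 133004, nat_lit 1178, nat_lit 5992, nat_lit 8448, nat_lit 13152, nat_lit 17120, nat_lit 20544, nat_lit 24832, nat_lit 29696, nat_lit 33280, nat_lit 37888, nat_lit 41820, nat_lit 37224, nat_lit 33511, nat_lit 28705, nat_lit 25139, nat_lit 20617, nat_lit 16454, nat_lit 8209, nat_lit 16]⟩⟩⟩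
def phn159 : AP := ⟨[nat_lit 462, nat_lit 416, nat_lit 414], [], (nat_lit 1236), ⟨[nat_lit 41, nat_lit 70], [nat_lit 86, nat_lit 89], ⟨[nat_lit 0x31e72216304046b125406de8f732d5], [nat_lit 173056, nat_lit 169472, nat_lit 164352, nat_lit 163072, nat_lit 156672, nat_lit 153536, nat_lit 147808, nat_lit 144632, nat_lit 141068, nat_lit 136694, nat_lit 131874, nat_lit 1634, nat_lit 5208, nat_lit 9696, nat_lit 13616, nat_lit 17088, nat_lit 24704, nat_lit 34304, nat_lit 41055, nat_lit 36992, nat_lit 32907, nat_lit 28704, nat_lit 20608, nat_lit 16392, nat_lit 12308, nat_lit 8194, nat_lit 4097]⟩⟩⟩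
def phn160 : AP := ⟨[nat_lit 213, nat_lit 660, nat_lit 217], [], (nat_lit 858), ⟨[nat_lit 0, nat_lit 40, nat_lit 49], [nat_lit 0, nat_lit 19, nat_lit 47], ⟨[nat_lit 0x75c292c9ed82ce8102266287424ed5], [nat_lit 173056, nat_lit 168960, nat_lit 165376, nat_lit 161664, nat_lit 156928, nat_lit 152736, nat_lit 148192, nat_lit 145040, nat_lit 139688, nat_lit 136038, nat_lit 132656, nat_lit 1762, nat_lit 5208, nat_lit 9384, nat_lit 14304, nat_lit 17664, nat_lit 25216, nat_lit 29952, nat_lit 41585, nat_lit 38393, nat_lit 33416, nat_lit 29280, nat_lit 24759, nat_lit 20502, nat_lit 16422, nat_lit 12359, nat_lit 8193, nat_lit 4097]⟩⟩⟩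
def phn161 : AP := ⟨[nat_lit 677, nat_lit 419, nat_lit 462, nat_lit 421], [], (nat_lit 1238), ⟨[nat_lit 0, nat_lit 26, nat_lit 69], [nat_lit 0, nat_lit 73, nat_lit 57], ⟨[nat_lit 0x3225149dae78e9014d972002a596b6], [nat_lit 175104, nat_lit 169472, nat_lit 164352, nat_lit 162304, nat_lit 156352, nat_lit 152192, nat_lit 150704, nat_lit 146784, nat_lit 141892, nat_lit 138714, nat_lit 134973, nat_lit 568, nat_lit 5208, nat_lit 8824, nat_lit 12864, nat_lit 16864, nat_lit 21952, nat_lit 25088, nat_lit 29184, nat_lit 34304, nat_lit 41758, nat_lit 38324, nat_lit 32850, nat_lit 28733, nat_lit 24857, nat_lit 20634, nat_lit 16388, nat_lit 12358, nat_lit 8195, nat_lit 4101, nat_lit 4]⟩⟩⟩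
def phn162 : AP := ⟨[nat_lit 217], [], (nat_lit 339), ⟨[nat_lit 0, nat_lit 19, nat_lit 58], [nat_lit 0, nat_lit 13, nat_lit 65], ⟨[nat_lit 0x95b649a2473153050ef5c843bd510], [nat_lit 174080, nat_lit 164352, nat_lit 160000, nat_lit 156288, nat_lit 153024, nat_lit 149312, nat_lit 143928, nat_lit 140364, nat_lit 131144, nat_lit 1698, nat_lit 5076, nat_lit 10120, nat_lit 12544, nat_lit 16640, nat_lit 22016, nat_lit 24832, nat_lit 29184, nat_lit 33792, nat_lit 37888, nat_lit 32872, nat_lit 28684, nat_lit 24888, nat_lit 20751, nat_lit 16456, nat_lit 12307, nat_lit 8226, nat_lit 4105, nat_lit 4]⟩⟩⟩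
def lhn163 : List AP := [⟨[], [], (nat_lit 1034), ⟨[nat_lit 72, nat_lit 48], [nat_lit 11, nat_lit 60], ⟨[nat_lit 0xbc6c5482af229133c9ac0d16e11a03], [nat_lit 173056, nat_lit 169472, nat_lit 165376, nat_lit 161152, nat_lit 156544, nat_lit 151584, nat_lit 148256, nat_lit 144576, nat_lit 139996, nat_lit 137154, nat_lit 133145, nat_lit 8, nat_lit 5016, nat_lit 9216, nat_lit 13312, nat_lit 18336, nat_lit 21440, nat_lit 24704, nat_lit 29696, nat_lit 33792, nat_lit 37888, nat_lit 41833, nat_lit 36954, nat_lit 33007, nat_lit 28747, nat_lit 24746, nat_lit 20552, nat_lit 16397, nat_lit 12293, nat_lit 8200, nat_lit 4224]⟩⟩⟩]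
theorem shn163 : Suf hnT 2048 (ldrop (lapp hnwr9 [1, 0, 1]) 107) (apW dcM phn162) (tgtN dcM phn162.e) := Suf.fin' (l := lhn163) (by decide +kernel)
def lhn162 : List AP := [⟨[nat_lit 176, nat_lit 217, nat_lit 170], [], (nat_lit 396), ⟨[nat_lit 0, nat_lit 14, nat_lit 91], [nat_lit 0, nat_lit 33, nat_lit 66], ⟨[nat_lit 0xbd24a7c16e44c60654e249626b05a4], [nat_lit 168960, nat_lit 165632, nat_lit 161664, nat_lit 158912, nat_lit 152160, nat_lit 147840, nat_lit 144408, nat_lit 139572, nat_lit 135574, nat_lit 131861, nat_lit 508, nat_lit 4112, nat_lit 9040, nat_lit 13744, nat_lit 17408, nat_lit 20672, nat_lit 25600, nat_lit 34304, nat_lit 37888, nat_lit 41152, nat_lit 37114, nat_lit 32788, nat_lit 29242, nat_lit 24612, nat_lit 20571, nat_lit 16431, nat_lit 12322, nat_lit 8203, nat_lit 4101, nat_lit 2]⟩⟩⟩,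
  ⟨[nat_lit 67, nat_lit 57, nat_lit 640, nat_lit 70], [], (nat_lit 1046), ⟨[nat_lit 0, nat_lit 3, nat_lit 89], [nat_lit 0, nat_lit 86, nat_lit 63], ⟨[nat_lit 0x6482f82c69a5c113945369916555c4], [nat_lit 169984, nat_lit 167168, nat_lit 163072, nat_lit 158528, nat_lit 152704, nat_lit 149600, nat_lit 146072, nat_lit 140496, nat_lit 139258, nat_lit 131863, nat_lit 1778, nat_lit 5228, nat_lit 10144, nat_lit 13952, nat_lit 18304, nat_lit 22080, nat_lit 26240, nat_lit 30208, nat_lit 33280, nat_lit 41878, nat_lit 37150, nat_lit 32907, nat_lit 28694, nat_lit 24636, nat_lit 20510, nat_lit 16385, nat_lit 12321, nat_lit 8195, nat_lit 4]⟩⟩⟩]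
theorem shn162 : Suf hnT 2048 (ldrop (lapp hnwr9 [1, 0, 1]) 96) (apW dcM phn161) (tgtN dcM phn161.e) := Suf.seg (l := lhn162) (by decide +kernel) shn163
def lhn161 : List AP := [⟨[nat_lit 419, nat_lit 678, nat_lit 463, nat_lit 462], [], (nat_lit 1226), ⟨[nat_lit 6, nat_lit 56], [nat_lit 0, nat_lit 38, nat_lit 49], ⟨[nat_lit 0x344a3b0abb18309a1d190c954be97], [nat_lit 173056, nat_lit 166144, nat_lit 160512, nat_lit 156736, nat_lit 155232, nat_lit 151040, nat_lit 146968, nat_lit 141532, nat_lit 138480, nat_lit 132533, nat_lit 1354, nat_lit 4380, nat_lit 9640, nat_lit 13552, nat_lit 18272, nat_lit 21632, nat_lit 25728, nat_lit 29440, nat_lit 33792, nat_lit 37888, nat_lit 41786, nat_lit 38168, nat_lit 32930, nat_lit 28754, nat_lit 24604, nat_lit 20745, nat_lit 16395, nat_lit 8258]⟩⟩⟩,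
  ⟨[nat_lit 52, nat_lit 49, nat_lit 640, nat_lit 66, nat_lit 53], [], (nat_lit 818), ⟨[nat_lit 75, nat_lit 89], [nat_lit 16, nat_lit 47], ⟨[nat_lit 0x2a06c5388095a135bcc249da18d697], [nat_lit 175104, nat_lit 170496, nat_lit 167424, nat_lit 163200, nat_lit 157056, nat_lit 155104, nat_lit 149824, nat_lit 143512, nat_lit 143100, nat_lit 137098, nat_lit 131611, nat_lit 960, nat_lit 5376, nat_lit 10128, nat_lit 12704, nat_lit 16640, nat_lit 20992, nat_lit 24960, nat_lit 29440, nat_lit 34304, nat_lit 41675, nat_lit 38399, nat_lit 32944, nat_lit 28937, nat_lit 24613, nat_lit 20490, nat_lit 16527, nat_lit 12326, nat_lit 8195, nat_lit 4101]⟩⟩⟩]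
theorem shn161 : Suf hnT 2048 (ldrop (lapp hnwr9 [1, 0, 1]) 86) (apW dcM phn160) (tgtN dcM phn160.e) := Suf.seg (l := lhn161) (by decide +kernel) shn162
def lhn160 : List AP := [⟨[nat_lit 171, nat_lit 175, nat_lit 179, nat_lit 171], [], (nat_lit 858), ⟨[nat_lit 0, nat_lit 39, nat_lit 53], [nat_lit 2, nat_lit 65], ⟨[nat_lit 0x6d248011cf5096609671bc12c38ed5], [nat_lit 173056, nat_lit 168448, nat_lit 164864, nat_lit 160256, nat_lit 157248, nat_lit 153120, nat_lit 151184, nat_lit 145120, nat_lit 140324, nat_lit 136880, nat_lit 131853, nat_lit 1778, nat_lit 5208, nat_lit 8800, nat_lit 12304, nat_lit 18176, nat_lit 20800, nat_lit 25472, nat_lit 29952, nat_lit 33792, nat_lit 37888, nat_lit 41424, nat_lit 36932, nat_lit 32784, nat_lit 28734, nat_lit 25132, nat_lit 20568, nat_lit 16390, nat_lit 12293, nat_lit 8201, nat_lit 4097]⟩⟩⟩,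
  ⟨[nat_lit 464, nat_lit 419, nat_lit 418, nat_lit 415], [], (nat_lit 1236), ⟨[nat_lit 41, nat_lit 51], [nat_lit 64], ⟨[nat_lit 0x52568639af21ca68467218041a5eb6], [nat_lit 175104, nat_lit 171520, nat_lit 166656, nat_lit 162688, nat_lit 155776, nat_lit 155200, nat_lit 149664, nat_lit 145048, nat_lit 142460, nat_lit 136776, nat_lit 132225, nat_lit 1292, nat_lit 5208, nat_lit 9928, nat_lit 12624, nat_lit 17184, nat_lit 20736, nat_lit 24704, nat_lit 29696, nat_lit 37888, nat_lit 41577, nat_lit 37924, nat_lit 32812, nat_lit 28688, nat_lit 25145, nat_lit 20492, nat_lit 16450, nat_lit 12292, nat_lit 8193, nat_lit 4097]⟩⟩⟩]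
theorem shn160 : Suf hnT 2048 (ldrop (lapp hnwr9 [1, 0, 1]) 75) (apW dcM phn159) (tgtN dcM phn159.e) := Suf.seg (l := lhn160) (by decide +kernel) shn161
def lhn159 : List AP := [⟨[nat_lit 180, nat_lit 215, nat_lit 173, nat_lit 173], [], (nat_lit 860), ⟨[nat_lit 88, nat_lit 61], [nat_lit 19, nat_lit 61], ⟨[nat_lit 0x22e546240a68e70444f70bcc513ab6], [nat_lit 174080, nat_lit 168448, nat_lit 166144, nat_lit 162944, nat_lit 158464, nat_lit 152480, nat_lit 148768, nat_lit 145368, nat_lit 141712, nat_lit 137844, nat_lit 132343, nat_lit 1918, nat_lit 5208, nat_lit 10032, nat_lit 12688, nat_lit 18336, nat_lit 20608, nat_lit 26112, nat_lit 29696, nat_lit 33792, nat_lit 41926, nat_lit 37289, nat_lit 33348, nat_lit 28702, nat_lit 24595, nat_lit 20510, nat_lit 16398, nat_lit 12290, nat_lit 8208, nat_lit 4097]⟩⟩⟩,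
  ⟨[nat_lit 416, nat_lit 419, nat_lit 411], [], (nat_lit 941), ⟨[nat_lit 0, nat_lit 22, nat_lit 59], [nat_lit 23, nat_lit 91], ⟨[nat_lit 0xa80e44aee23418a2b6287d86e0d272], [nat_lit 171520, nat_lit 166400, nat_lit 163200, nat_lit 158976, nat_lit 151712, nat_lit 150992, nat_lit 147168, nat_lit 141304, nat_lit 138496, nat_lit 131390, nat_lit 590, nat_lit 5080, nat_lit 10128, nat_lit 13264, nat_lit 16416, nat_lit 25600, nat_lit 30464, nat_lit 37888, nat_lit 41837, nat_lit 37089, nat_lit 32770, nat_lit 28794, nat_lit 24716, nat_lit 20498, nat_lit 16420, nat_lit 8208, nat_lit 4097, nat_lit 2]⟩⟩⟩]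
theorem shn159 : Suf hnT 2048 (ldrop (lapp hnwr9 [1, 0, 1]) 63) (apW dcM phn158) (tgtN dcM phn158.e) := Suf.seg (l := lhn159) (by decide +kernel) shn160
def lhn158 : List AP := [⟨[nat_lit 663, nat_lit 660, nat_lit 214, nat_lit 176], [], (nat_lit 858), ⟨[nat_lit 0, nat_lit 71, nat_lit 67], [nat_lit 0, nat_lit 36, nat_lit 47], ⟨[nat_lit 0x6bc935a2264868cba9c3380502cad5], [nat_lit 168960, nat_lit 166912, nat_lit 160384, nat_lit 157632, nat_lit 151616, nat_lit 147472, nat_lit 144448, nat_lit 140516, nat_lit 136462, nat_lit 132997, nat_lit 2018, nat_lit 5208, nat_lit 9640, nat_lit 13600, nat_lit 18112, nat_lit 21760, nat_lit 25600, nat_lit 28928, nat_lit 41307, nat_lit 37120, nat_lit 32808, nat_lit 28684, nat_lit 25627, nat_lit 20749, nat_lit 17419, nat_lit 12420, nat_lit 8225, nat_lit 4097]⟩⟩⟩,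
  ⟨[nat_lit 467, nat_lit 462, nat_lit 464], [], (nat_lit 1238), ⟨[nat_lit 0, nat_lit 38, nat_lit 64], [nat_lit 40, nat_lit 93], ⟨[nat_lit 0x188889303459dae82a66045f7496d5], [nat_lit 173056, nat_lit 169472, nat_lit 166144, nat_lit 160640, nat_lit 157056, nat_lit 154656, nat_lit 150256, nat_lit 146168, nat_lit 142204, nat_lit 138044, nat_lit 131322, nat_lit 2012, nat_lit 5208, nat_lit 9696, nat_lit 13552, nat_lit 18368, nat_lit 20736, nat_lit 25856, nat_lit 28928, nat_lit 33792, nat_lit 41862, nat_lit 38058, nat_lit 32902, nat_lit 28766, nat_lit 24760, nat_lit 20544, nat_lit 16399, nat_lit 8194, nat_lit 4097]⟩⟩⟩]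
theorem shn158 : Suf hnT 2048 (ldrop (lapp hnwr9 [1, 0, 1]) 53) (apW dcM phn157) (tgtN dcM phn157.e) := Suf.seg (l := lhn158) (by decide +kernel) shn159
def lhn157 : List AP := [⟨[nat_lit 674, nat_lit 468, nat_lit 678, nat_lit 421], [], (nat_lit 1236), ⟨[nat_lit 0, nat_lit 25, nat_lit 55], [nat_lit 0, nat_lit 88, nat_lit 66], ⟨[nat_lit 0x8e3372da9312f4040527b10a29ed5], [nat_lit 171520, nat_lit 166656, nat_lit 162432, nat_lit 157824, nat_lit 151744, nat_lit 150688, nat_lit 145464, nat_lit 140660, nat_lit 137384, nat_lit 132694, nat_lit 1336, nat_lit 5208, nat_lit 8824, nat_lit 13856, nat_lit 16864, nat_lit 22272, nat_lit 25344, nat_lit 30208, nat_lit 37888, nat_lit 41052, nat_lit 37135, nat_lit 32898, nat_lit 28674, nat_lit 24612, nat_lit 20501, nat_lit 16385, nat_lit 12805, nat_lit 8193, nat_lit 4097]⟩⟩⟩,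
  ⟨[nat_lit 663, nat_lit 219, nat_lit 660, nat_lit 170], [], (nat_lit 858), ⟨[nat_lit 0, nat_lit 83, nat_lit 70], [nat_lit 71, nat_lit 47], ⟨[nat_lit 0xa21c0791b281949b896c186272ced5], [nat_lit 173056, nat_lit 164864, nat_lit 160512, nat_lit 155840, nat_lit 152672, nat_lit 149904, nat_lit 143832, nat_lit 141268, nat_lit 135814, nat_lit 131082, nat_lit 1778, nat_lit 5208, nat_lit 9384, nat_lit 12832, nat_lit 18112, nat_lit 21312, nat_lit 26240, nat_lit 29184, nat_lit 41258, nat_lit 37151, nat_lit 33505, nat_lit 28974, nat_lit 24592, nat_lit 20741, nat_lit 16389, nat_lit 12323, nat_lit 8193, nat_lit 4097]⟩⟩⟩]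
theorem shn157 : Suf hnT 2048 (ldrop (lapp hnwr9 [1, 0, 1]) 43) (apW dcM phn156) (tgtN dcM phn156.e) := Suf.seg (l := lhn157) (by decide +kernel) shn158
def lhn156 : List AP := [⟨[nat_lit 663, nat_lit 660, nat_lit 174], [], (nat_lit 860), ⟨[nat_lit 0, nat_lit 37, nat_lit 52], [nat_lit 5, nat_lit 90], ⟨[nat_lit 0x590e868dc263c0129949946f484eb6], [nat_lit 168448, nat_lit 164096, nat_lit 160768, nat_lit 157056, nat_lit 151584, nat_lit 148672, nat_lit 146480, nat_lit 140124, nat_lit 137126, nat_lit 131648, nat_lit 688, nat_lit 5208, nat_lit 9384, nat_lit 12352, nat_lit 17664, nat_lit 21952, nat_lit 24832, nat_lit 30464, nat_lit 37888, nat_lit 41800, nat_lit 36884, nat_lit 34038, nat_lit 28709, nat_lit 24612, nat_lit 20556, nat_lit 16646, nat_lit 8195, nat_lit 4097]⟩⟩⟩,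
  ⟨[nat_lit 468, nat_lit 462, nat_lit 420], [], (nat_lit 1236), ⟨[nat_lit 19, nat_lit 93], [nat_lit 0, nat_lit 18, nat_lit 49], ⟨[nat_lit 0x750054c58d22cf054822b8ccf9a2b6], [nat_lit 169984, nat_lit 160896, nat_lit 157568, nat_lit 152224, nat_lit 149232, nat_lit 143648, nat_lit 140340, nat_lit 136656, nat_lit 132439, nat_lit 184, nat_lit 5208, nat_lit 10152, nat_lit 13920, nat_lit 16768, nat_lit 21504, nat_lit 24704, nat_lit 29696, nat_lit 33280, nat_lit 37888, nat_lit 41192, nat_lit 37038, nat_lit 32844, nat_lit 29230, nat_lit 24849, nat_lit 21006, nat_lit 16453, nat_lit 12311, nat_lit 8203, nat_lit 4097]⟩⟩⟩]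
theorem shn156 : Suf hnT 2048 (ldrop (lapp hnwr9 [1, 0, 1]) 31) (apW dcM phn155) (tgtN dcM phn155.e) := Suf.seg (l := lhn156) (by decide +kernel) shn157
def lhn155 : List AP := [⟨[nat_lit 178, nat_lit 659, nat_lit 179, nat_lit 173], [], (nat_lit 860), ⟨[nat_lit 7, nat_lit 47], [nat_lit 5, nat_lit 52], ⟨[nat_lit 0x70c8089a0dbc82b62905126933beb6], [nat_lit 175104, nat_lit 168448, nat_lit 165376, nat_lit 160768, nat_lit 156224, nat_lit 152576, nat_lit 147968, nat_lit 145104, nat_lit 140284, nat_lit 136624, nat_lit 132810, nat_lit 1720, nat_lit 5208, nat_lit 8464, nat_lit 13152, nat_lit 18112, nat_lit 21248, nat_lit 25088, nat_lit 29440, nat_lit 34304, nat_lit 37888, nat_lit 41966, nat_lit 36928, nat_lit 32896, nat_lit 28960, nat_lit 24581, nat_lit 20633, nat_lit 16399, nat_lit 12295, nat_lit 8203, nat_lit 4097]⟩⟩⟩,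
  ⟨[nat_lit 463, nat_lit 678, nat_lit 411], [], (nat_lit 1238), ⟨[nat_lit 70], [nat_lit 0, nat_lit 45, nat_lit 58], ⟨[nat_lit 0x6dce0909017ba2b1b094299309aab6], [nat_lit 164608, nat_lit 160640, nat_lit 157632, nat_lit 153152, nat_lit 148320, nat_lit 145144, nat_lit 142012, nat_lit 135748, nat_lit 132634, nat_lit 700, nat_lit 5208, nat_lit 9560, nat_lit 13536, nat_lit 16864, nat_lit 22400, nat_lit 26240, nat_lit 29696, nat_lit 41692, nat_lit 37340, nat_lit 32892, nat_lit 28698, nat_lit 24890, nat_lit 20505, nat_lit 16396, nat_lit 12307, nat_lit 8200, nat_lit 4097]⟩⟩⟩]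
theorem shn155 : Suf hnT 2048 (ldrop (lapp hnwr9 [1, 0, 1]) 21) (apW dcM phn154) (tgtN dcM phn154.e) := Suf.seg (l := lhn155) (by decide +kernel) shn156
def lhn154 : List AP := [⟨[nat_lit 171, nat_lit 173, nat_lit 175], [], (nat_lit 404), ⟨[nat_lit 0, nat_lit 6, nat_lit 94], [nat_lit 7, nat_lit 59], ⟨[nat_lit 0x3394f9c90522c02a05b11b2d04dcf5], [nat_lit 168960, nat_lit 164096, nat_lit 160384, nat_lit 156224, nat_lit 152896, nat_lit 149344, nat_lit 143592, nat_lit 140952, nat_lit 135924, nat_lit 132344, nat_lit 1762, nat_lit 4328, nat_lit 8824, nat_lit 12336, nat_lit 18176, nat_lit 21440, nat_lit 24704, nat_lit 33280, nat_lit 41118, nat_lit 37120, nat_lit 33280, nat_lit 28787, nat_lit 24755, nat_lit 20619, nat_lit 16424, nat_lit 12326, nat_lit 8195, nat_lit 4100]⟩⟩⟩,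
  ⟨[nat_lit 172, nat_lit 660, nat_lit 174], [], (nat_lit 1088), ⟨[nat_lit 3, nat_lit 70], [nat_lit 72, nat_lit 89], ⟨[nat_lit 0x5b9a115eaa1ce29859e461e54400a6], [nat_lit 174080, nat_lit 165632, nat_lit 161408, nat_lit 158784, nat_lit 153632, nat_lit 149872, nat_lit 144760, nat_lit 142856, nat_lit 135188, nat_lit 133183, nat_lit 116, nat_lit 4224, nat_lit 9328, nat_lit 13664, nat_lit 17312, nat_lit 20608, nat_lit 25088, nat_lit 34304, nat_lit 37888, nat_lit 41738, nat_lit 38380, nat_lit 32817, nat_lit 29287, nat_lit 25104, nat_lit 20565, nat_lit 16455, nat_lit 13315, nat_lit 4128]⟩⟩⟩]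
theorem shn154 : Suf hnT 2048 (ldrop (lapp hnwr9 [1, 0, 1]) 11) (apW dcM phn153) (tgtN dcM phn153.e) := Suf.seg (l := lhn154) (by decide +kernel) shn155
def lhn153 : List AP := [⟨[nat_lit 22, nat_lit 636, nat_lit 31, nat_lit 31, nat_lit 29, nat_lit 21], [], (nat_lit 338), ⟨[nat_lit 0, nat_lit 38, nat_lit 59], [nat_lit 0, nat_lit 15, nat_lit 64], ⟨[nat_lit 0x79401b50ed8b8935198945472b8970], [nat_lit 168448, nat_lit 164096, nat_lit 161152, nat_lit 157184, nat_lit 155168, nat_lit 147520, nat_lit 144288, nat_lit 140872, nat_lit 137162, nat_lit 132488, nat_lit 1076, nat_lit 5112, nat_lit 8224, nat_lit 13232, nat_lit 17312, nat_lit 20544, nat_lit 26112, nat_lit 29440, nat_lit 33280, nat_lit 37888, nat_lit 41343, nat_lit 37331, nat_lit 33373, nat_lit 29046, nat_lit 24585, nat_lit 20490, nat_lit 16520, nat_lit 12323, nat_lit 8]⟩⟩⟩,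
  ⟨[nat_lit 214, nat_lit 174, nat_lit 170], [], (nat_lit 396), ⟨[nat_lit 0], [nat_lit 22, nat_lit 56], ⟨[nat_lit 0x35eac982890aa367965069d0b10c8e], [nat_lit 164352, nat_lit 151872, nat_lit 149232, nat_lit 144216, nat_lit 140888, nat_lit 135412, nat_lit 134528, nat_lit 1972, nat_lit 5064, nat_lit 10168, nat_lit 14240, nat_lit 18336, nat_lit 21696, nat_lit 25856, nat_lit 33280, nat_lit 37888, nat_lit 41550, nat_lit 38339, nat_lit 32813, nat_lit 29280, nat_lit 24635, nat_lit 20568, nat_lit 16399, nat_lit 12310, nat_lit 8193, nat_lit 4112]⟩⟩⟩]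
theorem hncr9_3 : Suf hnT 2048 (lapp hnwr9 [1, 0, 1]) (apW dcM q1) (tgtN dcM q1.e) := Suf.seg (l := lhn153) (by decide +kernel) shn154

def phn164 : AP := ⟨[], [], (nat_lit 324), ⟨[nat_lit 0, nat_lit 3, nat_lit 65], [nat_lit 0, nat_lit 21, nat_lit 54], ⟨[nat_lit 0x24d0e60acf6a605ac472a282b39ae0], [nat_lit 173056, nat_lit 164096, nat_lit 157568, nat_lit 151744, nat_lit 148880, nat_lit 144240, nat_lit 142852, nat_lit 137156, nat_lit 131265, nat_lit 4, nat_lit 4328, nat_lit 9216, nat_lit 13072, nat_lit 18208, nat_lit 20736, nat_lit 26368, nat_lit 30464, nat_lit 33280, nat_lit 41963, nat_lit 37954, nat_lit 33453, nat_lit 28766, nat_lit 24604, nat_lit 21017, nat_lit 16390, nat_lit 12355, nat_lit 4104]⟩⟩⟩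
def phn165 : AP := ⟨[nat_lit 228, nat_lit 233, nat_lit 664, nat_lit 226], [], (nat_lit 1098), ⟨[nat_lit 0, nat_lit 21, nat_lit 60], [nat_lit 0, nat_lit 27, nat_lit 70], ⟨[nat_lit 0x26ac72856244617b4f24157035277], [nat_lit 175104, nat_lit 171520, nat_lit 165888, nat_lit 160384, nat_lit 156800, nat_lit 151808, nat_lit 150640, nat_lit 143512, nat_lit 140672, nat_lit 137238, nat_lit 135086, nat_lit 1108, nat_lit 5688, nat_lit 9560, nat_lit 13904, nat_lit 17376, nat_lit 21504, nat_lit 25600, nat_lit 28928, nat_lit 33280, nat_lit 41895, nat_lit 38028, nat_lit 33292, nat_lit 28741, nat_lit 24626, nat_lit 20489, nat_lit 16453, nat_lit 12326, nat_lit 8195, nat_lit 4101, nat_lit 4]⟩⟩⟩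
def phn166 : AP := ⟨[nat_lit 292, nat_lit 289, nat_lit 284], [], (nat_lit 1204), ⟨[nat_lit 0, nat_lit 38, nat_lit 48], [nat_lit 30, nat_lit 66], ⟨[nat_lit 0x8d9d7a05651826c5360921a4faa047], [nat_lit 173056, nat_lit 168960, nat_lit 164096, nat_lit 161152, nat_lit 156544, nat_lit 152768, nat_lit 148880, nat_lit 143552, nat_lit 140900, nat_lit 137968, nat_lit 132163, nat_lit 1180, nat_lit 4100, nat_lit 8448, nat_lit 13168, nat_lit 17664, nat_lit 22272, nat_lit 25856, nat_lit 37888, nat_lit 41222, nat_lit 37288, nat_lit 32964, nat_lit 28994, nat_lit 24834, nat_lit 21015, nat_lit 16398, nat_lit 12293, nat_lit 8194]⟩⟩⟩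
def phn167 : AP := ⟨[nat_lit 181, nat_lit 216, nat_lit 180, nat_lit 659], [], (nat_lit 752), ⟨[nat_lit 0, nat_lit 15, nat_lit 52], [nat_lit 90], ⟨[nat_lit 0x8b834baec50206753da68264414d95], [nat_lit 173056, nat_lit 171008, nat_lit 167168, nat_lit 162304, nat_lit 157824, nat_lit 153344, nat_lit 149680, nat_lit 146352, nat_lit 139692, nat_lit 137760, nat_lit 132727, nat_lit 1336, nat_lit 4408, nat_lit 9384, nat_lit 13888, nat_lit 17120, nat_lit 20608, nat_lit 25216, nat_lit 33280, nat_lit 37888, nat_lit 41684, nat_lit 38327, nat_lit 33409, nat_lit 28770, nat_lit 24610, nat_lit 20544, nat_lit 16386, nat_lit 12294, nat_lit 8193, nat_lit 4104]⟩⟩⟩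
def phn168 : AP := ⟨[], [], (nat_lit 472), ⟨[nat_lit 84, nat_lit 91], [nat_lit 0, nat_lit 6, nat_lit 49], ⟨[nat_lit 0x588ee984162350383eac5513131657], [nat_lit 168960, nat_lit 165632, nat_lit 161536, nat_lit 156288, nat_lit 153376, nat_lit 148288, nat_lit 143816, nat_lit 140312, nat_lit 138394, nat_lit 131511, nat_lit 1142, nat_lit 10032, nat_lit 13808, nat_lit 16608, nat_lit 20608, nat_lit 26368, nat_lit 29184, nat_lit 33280, nat_lit 37888, nat_lit 41634, nat_lit 38119, nat_lit 32796, nat_lit 29750, nat_lit 25096, nat_lit 21508, nat_lit 16518, nat_lit 12359, nat_lit 8224]⟩⟩⟩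
def phn169 : AP := ⟨[nat_lit 144, nat_lit 148], [], (nat_lit 324), ⟨[nat_lit 88, nat_lit 48], [nat_lit 0, nat_lit 11, nat_lit 59], ⟨[nat_lit 0x3452d78eec72247a4c50aac0a292c1], [nat_lit 164864, nat_lit 157440, nat_lit 152704, nat_lit 149152, nat_lit 147040, nat_lit 141192, nat_lit 136450, nat_lit 132674, nat_lit 698, nat_lit 4104, nat_lit 9032, nat_lit 12416, nat_lit 17696, nat_lit 21888, nat_lit 26368, nat_lit 34304, nat_lit 41210, nat_lit 37255, nat_lit 32968, nat_lit 29011, nat_lit 24598, nat_lit 20511, nat_lit 16430, nat_lit 8227, nat_lit 4097, nat_lit 2]⟩⟩⟩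
def lhn170 : List AP := [⟨[], [], (nat_lit 306), ⟨[nat_lit 41, nat_lit 91], [nat_lit 0, nat_lit 26, nat_lit 70], ⟨[nat_lit 0x2a9b390af08bd27aa06bb382c21a80], [nat_lit 168960, nat_lit 165120, nat_lit 160896, nat_lit 156288, nat_lit 153536, nat_lit 147840, nat_lit 144480, nat_lit 143108, nat_lit 135252, nat_lit 132081, nat_lit 4, nat_lit 4380, nat_lit 9216, nat_lit 13568, nat_lit 18272, nat_lit 21504, nat_lit 25600, nat_lit 29952, nat_lit 33280, nat_lit 37888, nat_lit 41936, nat_lit 38085, nat_lit 32962, nat_lit 28984, nat_lit 24580, nat_lit 20499, nat_lit 16421, nat_lit 12422, nat_lit 4112]⟩⟩⟩,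
  ⟨[nat_lit 73, nat_lit 46], [], (nat_lit 122), ⟨[nat_lit 65], [nat_lit 45, nat_lit 89], ⟨[nat_lit 0x9c1d1458263a415bac827c98da28a3], [nat_lit 173056, nat_lit 170496, nat_lit 164608, nat_lit 162304, nat_lit 154368, nat_lit 149616, nat_lit 145456, nat_lit 139524, nat_lit 136596, nat_lit 134065, nat_lit 688, nat_lit 5408, nat_lit 9176, nat_lit 12320, nat_lit 17248, nat_lit 20992, nat_lit 25472, nat_lit 29696, nat_lit 33280, nat_lit 37888, nat_lit 41513, nat_lit 37131, nat_lit 33470, nat_lit 29018, nat_lit 24710, nat_lit 20489, nat_lit 16649, nat_lit 12289, nat_lit 8210, nat_lit 4101]⟩⟩⟩,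
  ⟨[nat_lit 36, nat_lit 633, nat_lit 40], [], (nat_lit 1032), ⟨[nat_lit 0, nat_lit 28, nat_lit 66], [nat_lit 44, nat_lit 63], ⟨[nat_lit 0x2eb31428a6b08e1a6563bca644437], [nat_lit 165632, nat_lit 161024, nat_lit 158208, nat_lit 153184, nat_lit 148128, nat_lit 143720, nat_lit 140652, nat_lit 136356, nat_lit 133026, nat_lit 1076, nat_lit 4160, nat_lit 8544, nat_lit 14128, nat_lit 17600, nat_lit 20736, nat_lit 25088, nat_lit 29184, nat_lit 33792, nat_lit 37888, nat_lit 41176, nat_lit 37216, nat_lit 33341, nat_lit 28736, nat_lit 24583, nat_lit 21003, nat_lit 16653, nat_lit 12323, nat_lit 8259]⟩⟩⟩]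
theorem shn170 : Suf hnT 19005990 (ldrop (lapp hnwr10 [1, 0, 1]) 44) (apW dcM phn169) (tgtN dcM phn169.e) := Suf.fin' (l := lhn170) (by decide +kernel)
def lhn169 : List AP := [⟨[nat_lit 263, nat_lit 664, nat_lit 264], [], (nat_lit 602), ⟨[nat_lit 0, nat_lit 76, nat_lit 53], [nat_lit 84, nat_lit 67], ⟨[nat_lit 0x750269a4a7b100c141636be2a95517], [nat_lit 174080, nat_lit 166912, nat_lit 162560, nat_lit 158464, nat_lit 152128, nat_lit 149152, nat_lit 143400, nat_lit 142160, nat_lit 138274, nat_lit 132068, nat_lit 434, nat_lit 5316, nat_lit 8824, nat_lit 16864, nat_lit 21120, nat_lit 24960, nat_lit 29184, nat_lit 41322, nat_lit 37250, nat_lit 32778, nat_lit 29184, nat_lit 25629, nat_lit 20565, nat_lit 16452, nat_lit 12544, nat_lit 8256]⟩⟩⟩,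
  ⟨[], [], (nat_lit 1184), ⟨[nat_lit 0, nat_lit 41, nat_lit 67], [nat_lit 0, nat_lit 28], ⟨[nat_lit 0x7d471b0a4cbb8302a8866ce8042ce9], [nat_lit 165120, nat_lit 160640, nat_lit 157056, nat_lit 151712, nat_lit 148720, nat_lit 143656, nat_lit 143340, nat_lit 136464, nat_lit 133119, nat_lit 344, nat_lit 5568, nat_lit 9752, nat_lit 14096, nat_lit 16768, nat_lit 20672, nat_lit 25216, nat_lit 30208, nat_lit 33792, nat_lit 41939, nat_lit 38111, nat_lit 32780, nat_lit 29759, nat_lit 24710, nat_lit 20550, nat_lit 17414, nat_lit 12292, nat_lit 8194, nat_lit 4097, nat_lit 2]⟩⟩⟩]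
theorem shn169 : Suf hnT 19005990 (ldrop (lapp hnwr10 [1, 0, 1]) 36) (apW dcM phn168) (tgtN dcM phn168.e) := Suf.seg (l := lhn169) (by decide +kernel) shn170
def lhn168 : List AP := [⟨[], [], (nat_lit 797), ⟨[nat_lit 0, nat_lit 34, nat_lit 66], [nat_lit 33, nat_lit 52], ⟨[nat_lit 0x3bdc6a217608212aa557690ac14663], [nat_lit 168960, nat_lit 166400, nat_lit 160256, nat_lit 156096, nat_lit 152032, nat_lit 147936, nat_lit 145008, nat_lit 140600, nat_lit 135476, nat_lit 131799, nat_lit 582, nat_lit 4404, nat_lit 8704, nat_lit 12800, nat_lit 16896, nat_lit 22208, nat_lit 25216, nat_lit 28928, nat_lit 37888, nat_lit 41744, nat_lit 37950, nat_lit 33321, nat_lit 24587, nat_lit 21006, nat_lit 17418, nat_lit 12310, nat_lit 8200, nat_lit 4113, nat_lit 2]⟩⟩⟩,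
  ⟨[nat_lit 351, nat_lit 290, nat_lit 286, nat_lit 284], [], (nat_lit 1184), ⟨[nat_lit 0, nat_lit 83, nat_lit 92], [nat_lit 0, nat_lit 75, nat_lit 93], ⟨[nat_lit 0x3be911350c3008998570baac32d64e], [nat_lit 168960, nat_lit 166656, nat_lit 162560, nat_lit 159552, nat_lit 155264, nat_lit 148096, nat_lit 145872, nat_lit 141868, nat_lit 137100, nat_lit 133323, nat_lit 1624, nat_lit 4280, nat_lit 10160, nat_lit 12416, nat_lit 18080, nat_lit 22208, nat_lit 24704, nat_lit 29184, nat_lit 33280, nat_lit 41942, nat_lit 37125, nat_lit 33472, nat_lit 29025, nat_lit 24854, nat_lit 20609, nat_lit 16462, nat_lit 12304, nat_lit 8194, nat_lit 4101]⟩⟩⟩]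
theorem shn168 : Suf hnT 19005990 (ldrop (lapp hnwr10 [1, 0, 1]) 28) (apW dcM phn167) (tgtN dcM phn167.e) := Suf.seg (l := lhn168) (by decide +kernel) shn169
def lhn167 : List AP := [⟨[nat_lit 171, nat_lit 171], [], (nat_lit 390), ⟨[nat_lit 0, nat_lit 28, nat_lit 57], [nat_lit 22, nat_lit 50], ⟨[nat_lit 0xb82b1585132a6cf6404d7514490ce6], [nat_lit 168448, nat_lit 164864, nat_lit 160384, nat_lit 157504, nat_lit 151808, nat_lit 148112, nat_lit 144128, nat_lit 140544, nat_lit 138582, nat_lit 132683, nat_lit 158, nat_lit 5120, nat_lit 10112, nat_lit 17408, nat_lit 21312, nat_lit 25216, nat_lit 28928, nat_lit 33280, nat_lit 37888, nat_lit 41186, nat_lit 37122, nat_lit 33331, nat_lit 29805, nat_lit 24595, nat_lit 20755, nat_lit 16386, nat_lit 12421, nat_lit 8321, nat_lit 4097, nat_lit 2]⟩⟩⟩,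
  ⟨[nat_lit 635, nat_lit 26, nat_lit 26, nat_lit 28, nat_lit 31, nat_lit 21], [], (nat_lit 338), ⟨[nat_lit 0, nat_lit 83, nat_lit 53], [nat_lit 0, nat_lit 37, nat_lit 59], ⟨[nat_lit 0xc9c53d888a280219a2c7b5375d670], [nat_lit 171520, nat_lit 164352, nat_lit 162432, nat_lit 157184, nat_lit 154816, nat_lit 150720, nat_lit 146496, nat_lit 140296, nat_lit 135904, nat_lit 133623, nat_lit 760, nat_lit 4340, nat_lit 9384, nat_lit 13888, nat_lit 18176, nat_lit 21120, nat_lit 24832, nat_lit 28928, nat_lit 34304, nat_lit 37888, nat_lit 41020, nat_lit 36945, nat_lit 32971, nat_lit 28787, nat_lit 24577, nat_lit 20626, nat_lit 16519, nat_lit 12548, nat_lit 8194]⟩⟩⟩]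
theorem shn167 : Suf hnT 19005990 (ldrop (lapp hnwr10 [1, 0, 1]) 22) (apW dcM phn166) (tgtN dcM phn166.e) := Suf.seg (l := lhn167) (by decide +kernel) shn168
def lhn166 : List AP := [⟨[], [], (nat_lit 732), ⟨[nat_lit 0, nat_lit 44, nat_lit 90], [nat_lit 27, nat_lit 51], ⟨[nat_lit 0x459708ddec30d2d08292254f32a84e], [nat_lit 175104, nat_lit 169472, nat_lit 165120, nat_lit 161664, nat_lit 159616, nat_lit 154272, nat_lit 151248, nat_lit 145088, nat_lit 141940, nat_lit 135556, nat_lit 134101, nat_lit 960, nat_lit 5332, nat_lit 8320, nat_lit 13776, nat_lit 18336, nat_lit 20864, nat_lit 26496, nat_lit 30464, nat_lit 34304, nat_lit 41666, nat_lit 37005, nat_lit 32917, nat_lit 29051, nat_lit 24737, nat_lit 20635, nat_lit 16398, nat_lit 12307, nat_lit 8203, nat_lit 4101]⟩⟩⟩,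
  ⟨[nat_lit 290, nat_lit 354], [], (nat_lit 797), ⟨[nat_lit 25, nat_lit 68], [nat_lit 39, nat_lit 94], ⟨[nat_lit 0xa35853ce1503a29b216415cc11aa4f], [nat_lit 169984, nat_lit 165376, nat_lit 160512, nat_lit 159296, nat_lit 152896, nat_lit 148960, nat_lit 146896, nat_lit 143096, nat_lit 137580, nat_lit 133787, nat_lit 1318, nat_lit 9560, nat_lit 18048, nat_lit 22464, nat_lit 29696, nat_lit 41850, nat_lit 38291, nat_lit 33859, nat_lit 28713, nat_lit 25117, nat_lit 20489, nat_lit 16463, nat_lit 12306, nat_lit 4112]⟩⟩⟩]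
theorem shn166 : Suf hnT 19005990 (ldrop (lapp hnwr10 [1, 0, 1]) 14) (apW dcM phn165) (tgtN dcM phn165.e) := Suf.seg (l := lhn166) (by decide +kernel) shn167
def lhn165 : List AP := [⟨[nat_lit 654, nat_lit 149, nat_lit 147, nat_lit 654, nat_lit 140], [], (nat_lit 732), ⟨[nat_lit 0, nat_lit 87, nat_lit 64], [nat_lit 0, nat_lit 41, nat_lit 90], ⟨[nat_lit 0xb50236c22c7ba5332905b82a23ad24], [nat_lit 173056, nat_lit 169472, nat_lit 164096, nat_lit 161408, nat_lit 158912, nat_lit 152928, nat_lit 149120, nat_lit 144728, nat_lit 140404, nat_lit 135244, nat_lit 132437, nat_lit 1166, nat_lit 5508, nat_lit 9752, nat_lit 13824, nat_lit 16448, nat_lit 21696, nat_lit 26112, nat_lit 34304, nat_lit 41803, nat_lit 38155, nat_lit 33931, nat_lit 28725, nat_lit 24634, nat_lit 20562, nat_lit 16396, nat_lit 12309, nat_lit 8194, nat_lit 8]⟩⟩⟩,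
  ⟨[], [], (nat_lit 1130), ⟨[nat_lit 0, nat_lit 45, nat_lit 46], [nat_lit 77, nat_lit 68], ⟨[nat_lit 0x9c4016b0c7710af1c242b2a89456eb], [nat_lit 167424, nat_lit 160256, nat_lit 157248, nat_lit 154400, nat_lit 150416, nat_lit 146816, nat_lit 142732, nat_lit 138336, nat_lit 132568, nat_lit 1966, nat_lit 4756, nat_lit 8928, nat_lit 12960, nat_lit 17984, nat_lit 22272, nat_lit 25344, nat_lit 28928, nat_lit 33280, nat_lit 37888, nat_lit 41911, nat_lit 37130, nat_lit 33508, nat_lit 28996, nat_lit 24635, nat_lit 20508, nat_lit 16392, nat_lit 12290, nat_lit 8195, nat_lit 4100, nat_lit 2]⟩⟩⟩]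
theorem shn165 : Suf hnT 19005990 (ldrop (lapp hnwr10 [1, 0, 1]) 6) (apW dcM phn164) (tgtN dcM phn164.e) := Suf.seg (l := lhn165) (by decide +kernel) shn166
def lhn164 : List AP := [⟨[nat_lit 629, nat_lit 17, nat_lit 38, nat_lit 36, nat_lit 14, nat_lit 15], [], (nat_lit 90), ⟨[nat_lit 0, nat_lit 41, nat_lit 53], [nat_lit 71, nat_lit 55], ⟨[nat_lit 0x55669584ec935d414477b1a052010f], [nat_lit 173056, nat_lit 164864, nat_lit 160128, nat_lit 156800, nat_lit 152768, nat_lit 148704, nat_lit 144720, nat_lit 140028, nat_lit 138690, nat_lit 131270, nat_lit 1896, nat_lit 4352, nat_lit 9128, nat_lit 14192, nat_lit 16512, nat_lit 20608, nat_lit 25344, nat_lit 29440, nat_lit 34304, nat_lit 37888, nat_lit 41730, nat_lit 38319, nat_lit 33973, nat_lit 29045, nat_lit 24726, nat_lit 20747, nat_lit 16430, nat_lit 12326, nat_lit 8227, nat_lit 4]⟩⟩⟩,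
  ⟨[nat_lit 53, nat_lit 53, nat_lit 55, nat_lit 73, nat_lit 51, nat_lit 46], [], (nat_lit 1042), ⟨[nat_lit 0, nat_lit 77], [nat_lit 16, nat_lit 53], ⟨[nat_lit 0x20db29ae908bc27a8142b312e29ae8], [nat_lit 173056, nat_lit 170496, nat_lit 166912, nat_lit 162816, nat_lit 158144, nat_lit 152960, nat_lit 151248, nat_lit 146120, nat_lit 141036, nat_lit 138994, nat_lit 1396, nat_lit 4824, nat_lit 9136, nat_lit 13344, nat_lit 18336, nat_lit 24832, nat_lit 28928, nat_lit 33792, nat_lit 41716, nat_lit 38358, nat_lit 32790, nat_lit 28684, nat_lit 24578, nat_lit 20992, nat_lit 16640, nat_lit 12422, nat_lit 8208, nat_lit 4097, nat_lit 2]⟩⟩⟩]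
theorem hncr10_0 : Suf hnT 19005990 (lapp hnwr10 [1, 0, 1]) (apW dcM q0) (tgtN dcM q0.e) := Suf.seg (l := lhn164) (by decide +kernel) shn165

def phn171 : AP := ⟨[], [], (nat_lit 547), ⟨[nat_lit 41, nat_lit 51], [nat_lit 0, nat_lit 19, nat_lit 54], ⟨[nat_lit 0x1eee8086a4da54ab0255b5f132093], [nat_lit 173056, nat_lit 168448, nat_lit 164352, nat_lit 160896, nat_lit 156864, nat_lit 151648, nat_lit 148768, nat_lit 144040, nat_lit 143272, nat_lit 136754, nat_lit 132372, nat_lit 586, nat_lit 5044, nat_lit 8448, nat_lit 12624, nat_lit 17568, nat_lit 22464, nat_lit 26368, nat_lit 29440, nat_lit 41335, nat_lit 37180, nat_lit 33464, nat_lit 28700, nat_lit 25658, nat_lit 21004, nat_lit 16420, nat_lit 12353, nat_lit 5121]⟩⟩⟩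
def phn172 : AP := ⟨[nat_lit 218, nat_lit 179, nat_lit 661, nat_lit 179, nat_lit 177], [], (nat_lit 486), ⟨[nat_lit 0, nat_lit 73, nat_lit 69], [nat_lit 0, nat_lit 79, nat_lit 56], ⟨[nat_lit 0x69a11a4d223d6cf5cae17100343145], [nat_lit 173056, nat_lit 170496, nat_lit 164096, nat_lit 161664, nat_lit 158784, nat_lit 147600, nat_lit 145496, nat_lit 142156, nat_lit 139114, nat_lit 134339, nat_lit 718, nat_lit 5344, nat_lit 9560, nat_lit 12544, nat_lit 17728, nat_lit 21504, nat_lit 24960, nat_lit 29184, nat_lit 33280, nat_lit 37888, nat_lit 41041, nat_lit 37055, nat_lit 32995, nat_lit 28726, nat_lit 24894, nat_lit 20631, nat_lit 16452, nat_lit 12304, nat_lit 8195, nat_lit 4101]⟩⟩⟩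
def phn173 : AP := ⟨[nat_lit 259, nat_lit 665, nat_lit 264, nat_lit 226, nat_lit 222], [], (nat_lit 608), ⟨[nat_lit 72, nat_lit 63], [nat_lit 10, nat_lit 65], ⟨[nat_lit 0x20c0b658507b525706f2a99149a8f1], [nat_lit 173056, nat_lit 171520, nat_lit 162432, nat_lit 155168, nat_lit 149568, nat_lit 146968, nat_lit 139812, nat_lit 135520, nat_lit 133385, nat_lit 184, nat_lit 5668, nat_lit 9096, nat_lit 14160, nat_lit 17984, nat_lit 20992, nat_lit 25088, nat_lit 29440, nat_lit 41473, nat_lit 37277, nat_lit 33436, nat_lit 29212, nat_lit 24577, nat_lit 20503, nat_lit 16422, nat_lit 12807, nat_lit 8194]⟩⟩⟩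
def phn174 : AP := ⟨[nat_lit 295, nat_lit 352, nat_lit 289, nat_lit 290, nat_lit 284], [], (nat_lit 1136), ⟨[nat_lit 39, nat_lit 69], [nat_lit 0, nat_lit 29, nat_lit 66], ⟨[nat_lit 0xbc49609c102cd4873cd248994ab46b], [nat_lit 174080, nat_lit 168448, nat_lit 164352, nat_lit 162560, nat_lit 156992, nat_lit 152512, nat_lit 149840, nat_lit 146752, nat_lit 141736, nat_lit 137260, nat_lit 133636, nat_lit 1860, nat_lit 5072, nat_lit 9432, nat_lit 13952, nat_lit 17920, nat_lit 22400, nat_lit 26240, nat_lit 30464, nat_lit 41047, nat_lit 37014, nat_lit 32907, nat_lit 28982, nat_lit 24587, nat_lit 20494, nat_lit 16518, nat_lit 12311, nat_lit 8202, nat_lit 4097]⟩⟩⟩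
def phn175 : AP := ⟨[nat_lit 260, nat_lit 261, nat_lit 231, nat_lit 226], [], (nat_lit 1100), ⟨[nat_lit 12, nat_lit 69], [nat_lit 33, nat_lit 55], ⟨[nat_lit 0x64d564caef685c54196020e95808f1], [nat_lit 173056, nat_lit 165376, nat_lit 161152, nat_lit 157120, nat_lit 153472, nat_lit 147568, nat_lit 145104, nat_lit 140440, nat_lit 136594, nat_lit 131756, nat_lit 1694, nat_lit 5668, nat_lit 12336, nat_lit 18176, nat_lit 20992, nat_lit 29184, nat_lit 41272, nat_lit 37375, nat_lit 33396, nat_lit 28971, nat_lit 24600, nat_lit 20611, nat_lit 16453, nat_lit 12309, nat_lit 4128, nat_lit 2]⟩⟩⟩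
def phn176 : AP := ⟨[nat_lit 262, nat_lit 226, nat_lit 224], [], (nat_lit 546), ⟨[nat_lit 0, nat_lit 21, nat_lit 94], [nat_lit 0, nat_lit 7, nat_lit 54], ⟨[nat_lit 0x2242c95cc7289cb442caa4daf1d411], [nat_lit 174080, nat_lit 168448, nat_lit 164096, nat_lit 161664, nat_lit 158016, nat_lit 155008, nat_lit 151120, nat_lit 143920, nat_lit 143052, nat_lit 137176, nat_lit 134010, nat_lit 1652, nat_lit 5856, nat_lit 9328, nat_lit 12800, nat_lit 16608, nat_lit 21376, nat_lit 24704, nat_lit 29952, nat_lit 37888, nat_lit 41146, nat_lit 36865, nat_lit 32790, nat_lit 29762, nat_lit 24754, nat_lit 20495, nat_lit 16513, nat_lit 12289, nat_lit 8194, nat_lit 4100]⟩⟩⟩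
def lhn177 : List AP := [⟨[], [], (nat_lit 1120), ⟨[nat_lit 75, nat_lit 55], [nat_lit 25, nat_lit 57], ⟨[nat_lit 0x2dc4762204ab5e304693559215c8ce], [nat_lit 168960, nat_lit 167168, nat_lit 160512, nat_lit 157632, nat_lit 153408, nat_lit 149312, nat_lit 144928, nat_lit 140656, nat_lit 135392, nat_lit 132005, nat_lit 810, nat_lit 6104, nat_lit 10160, nat_lit 13264, nat_lit 17408, nat_lit 21056, nat_lit 26240, nat_lit 30208, nat_lit 33792, nat_lit 41627, nat_lit 38235, nat_lit 32853, nat_lit 29310, nat_lit 24837, nat_lit 20635, nat_lit 16458, nat_lit 12304, nat_lit 8225, nat_lit 4104, nat_lit 32]⟩⟩⟩,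
  ⟨[nat_lit 83], [], (nat_lit 196), ⟨[nat_lit 15, nat_lit 52], [nat_lit 0, nat_lit 79, nat_lit 68], ⟨[nat_lit 0x72250aa5f62196c11e9350da1896e0], [nat_lit 174080, nat_lit 166912, nat_lit 162304, nat_lit 158400, nat_lit 152352, nat_lit 148240, nat_lit 144008, nat_lit 141668, nat_lit 138462, nat_lit 132855, nat_lit 1478, nat_lit 4400, nat_lit 9328, nat_lit 12336, nat_lit 16800, nat_lit 21824, nat_lit 25088, nat_lit 29184, nat_lit 34304, nat_lit 41758, nat_lit 37920, nat_lit 33441, nat_lit 28781, nat_lit 24740, nat_lit 20619, nat_lit 16388, nat_lit 12359, nat_lit 8194, nat_lit 4101]⟩⟩⟩,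
  ⟨[nat_lit 17, nat_lit 37, nat_lit 36], [], (nat_lit 1032), ⟨[nat_lit 0, nat_lit 80, nat_lit 52], [nat_lit 0, nat_lit 73, nat_lit 59], ⟨[nat_lit 0x1dc53aaa292850e24ac75b4c07b290], [nat_lit 175104, nat_lit 171520, nat_lit 166656, nat_lit 160512, nat_lit 156672, nat_lit 152064, nat_lit 149968, nat_lit 144376, nat_lit 140688, nat_lit 137480, nat_lit 133346, nat_lit 1874, nat_lit 4380, nat_lit 9832, nat_lit 14112, nat_lit 17216, nat_lit 20544, nat_lit 25728, nat_lit 33792, nat_lit 37888, nat_lit 41890, nat_lit 37057, nat_lit 32932, nat_lit 28737, nat_lit 24762, nat_lit 20500, nat_lit 16418, nat_lit 12289, nat_lit 8209, nat_lit 4100]⟩⟩⟩]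
theorem shn177 : Suf hnT 19005990 (ldrop (lapp hnwr10 [2, 0, 1]) 44) (apW dcM phn176) (tgtN dcM phn176.e) := Suf.fin' (l := lhn177) (by decide +kernel)
def lhn176 : List AP := [⟨[nat_lit 177, nat_lit 662, nat_lit 659, nat_lit 662], [], (nat_lit 482), ⟨[nat_lit 0, nat_lit 44, nat_lit 52], [nat_lit 0, nat_lit 39, nat_lit 61], ⟨[nat_lit 0x3220e2d4670512a68aef9118bb4661], [nat_lit 175104, nat_lit 170496, nat_lit 162944, nat_lit 158592, nat_lit 155200, nat_lit 149040, nat_lit 144080, nat_lit 140152, nat_lit 137898, nat_lit 133716, nat_lit 1760, nat_lit 5804, nat_lit 9384, nat_lit 13904, nat_lit 17216, nat_lit 22272, nat_lit 25344, nat_lit 29952, nat_lit 33280, nat_lit 37888, nat_lit 41559, nat_lit 38216, nat_lit 33376, nat_lit 28757, nat_lit 24705, nat_lit 20756, nat_lit 16461, nat_lit 12294, nat_lit 8195, nat_lit 4101]⟩⟩⟩,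
  ⟨[], [], (nat_lit 553), ⟨[nat_lit 0, nat_lit 40, nat_lit 69], [nat_lit 5, nat_lit 67], ⟨[nat_lit 0x21eb342e16a00327de2c53845499a3], [nat_lit 173056, nat_lit 171520, nat_lit 165888, nat_lit 162176, nat_lit 158528, nat_lit 152928, nat_lit 150592, nat_lit 145504, nat_lit 140800, nat_lit 138060, nat_lit 132052, nat_lit 484, nat_lit 5072, nat_lit 8720, nat_lit 13312, nat_lit 17632, nat_lit 22080, nat_lit 24832, nat_lit 29696, nat_lit 37888, nat_lit 41710, nat_lit 38308, nat_lit 33374, nat_lit 28734, nat_lit 24583, nat_lit 20623, nat_lit 16427, nat_lit 12292, nat_lit 8202, nat_lit 4097, nat_lit 2]⟩⟩⟩]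
theorem shn176 : Suf hnT 19005990 (ldrop (lapp hnwr10 [2, 0, 1]) 36) (apW dcM phn175) (tgtN dcM phn175.e) := Suf.seg (l := lhn176) (by decide +kernel) shn177
def lhn175 : List AP := [⟨[nat_lit 222, nat_lit 264, nat_lit 264, nat_lit 222], [], (nat_lit 500), ⟨[nat_lit 26], [nat_lit 41, nat_lit 63], ⟨[nat_lit 0xadae2325b2811ea64cab18034744e8], [nat_lit 174080, nat_lit 166656, nat_lit 161920, nat_lit 158528, nat_lit 152928, nat_lit 148240, nat_lit 145352, nat_lit 142012, nat_lit 139114, nat_lit 132713, nat_lit 1438, nat_lit 5316, nat_lit 9648, nat_lit 12448, nat_lit 17792, nat_lit 20736, nat_lit 25984, nat_lit 33280, nat_lit 37888, nat_lit 41977, nat_lit 38396, nat_lit 32780, nat_lit 29709, nat_lit 24758, nat_lit 20502, nat_lit 16420, nat_lit 12546, nat_lit 8200, nat_lit 4097, nat_lit 2]⟩⟩⟩,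
  ⟨[nat_lit 668, nat_lit 667, nat_lit 225], [], (nat_lit 553), ⟨[nat_lit 0, nat_lit 5, nat_lit 66], [nat_lit 0, nat_lit 37, nat_lit 51], ⟨[nat_lit 0x1a4358900ca4e08b29af38a4e2dd66], [nat_lit 164096, nat_lit 161664, nat_lit 157504, nat_lit 153440, nat_lit 149968, nat_lit 144536, nat_lit 140996, nat_lit 136272, nat_lit 131916, nat_lit 116, nat_lit 5064, nat_lit 9136, nat_lit 13920, nat_lit 17408, nat_lit 22272, nat_lit 25856, nat_lit 30208, nat_lit 33792, nat_lit 37888, nat_lit 41636, nat_lit 38001, nat_lit 32792, nat_lit 29253, nat_lit 24598, nat_lit 21531, nat_lit 16388, nat_lit 12327, nat_lit 8209, nat_lit 4]⟩⟩⟩]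
theorem shn175 : Suf hnT 19005990 (ldrop (lapp hnwr10 [2, 0, 1]) 28) (apW dcM phn174) (tgtN dcM phn174.e) := Suf.seg (l := lhn175) (by decide +kernel) shn176
def lhn174 : List AP := [⟨[nat_lit 295, nat_lit 288, nat_lit 357, nat_lit 287], [], (nat_lit 1154), ⟨[nat_lit 78, nat_lit 66], [nat_lit 10, nat_lit 52], ⟨[nat_lit 0xb8411708c993e8c3c2c468caa5d513], [nat_lit 173056, nat_lit 169472, nat_lit 165376, nat_lit 161152, nat_lit 157056, nat_lit 151584, nat_lit 147728, nat_lit 143768, nat_lit 142672, nat_lit 136996, nat_lit 132121, nat_lit 586, nat_lit 4824, nat_lit 9384, nat_lit 13728, nat_lit 16864, nat_lit 21440, nat_lit 25344, nat_lit 28928, nat_lit 33280, nat_lit 37888, nat_lit 41060, nat_lit 37132, nat_lit 32828, nat_lit 28684, nat_lit 24602, nat_lit 20752, nat_lit 16389, nat_lit 12294, nat_lit 8193, nat_lit 4104]⟩⟩⟩,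
  ⟨[nat_lit 228, nat_lit 222, nat_lit 233, nat_lit 225], [], (nat_lit 642), ⟨[nat_lit 8, nat_lit 91], [nat_lit 20, nat_lit 70], ⟨[nat_lit 0x150683dcc99102c72aaf680b05da33], [nat_lit 174080, nat_lit 168448, nat_lit 160000, nat_lit 158272, nat_lit 154944, nat_lit 150944, nat_lit 144392, nat_lit 142940, nat_lit 136924, nat_lit 134406, nat_lit 78, nat_lit 5688, nat_lit 9928, nat_lit 12928, nat_lit 17760, nat_lit 21696, nat_lit 25088, nat_lit 29184, nat_lit 33280, nat_lit 37888, nat_lit 41308, nat_lit 36867, nat_lit 32811, nat_lit 28675, nat_lit 24597, nat_lit 20744, nat_lit 16454, nat_lit 12546, nat_lit 4097, nat_lit 2]⟩⟩⟩]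
theorem shn174 : Suf hnT 19005990 (ldrop (lapp hnwr10 [2, 0, 1]) 22) (apW dcM phn173) (tgtN dcM phn173.e) := Suf.seg (l := lhn174) (by decide +kernel) shn175
def lhn173 : List AP := [⟨[], [], (nat_lit 555), ⟨[nat_lit 0, nat_lit 6, nat_lit 53], [nat_lit 0, nat_lit 20, nat_lit 93], ⟨[nat_lit 0xb0e7465544785d24444bbb4a93c0c0], [nat_lit 174080, nat_lit 170496, nat_lit 163584, nat_lit 159168, nat_lit 153760, nat_lit 148912, nat_lit 144184, nat_lit 139476, nat_lit 138646, nat_lit 134010, nat_lit 1024, nat_lit 5856, nat_lit 9784, nat_lit 13648, nat_lit 16448, nat_lit 21504, nat_lit 25600, nat_lit 29696, nat_lit 33792, nat_lit 41878, nat_lit 37926, nat_lit 33497, nat_lit 28675, nat_lit 24595, nat_lit 20483, nat_lit 16462, nat_lit 12305, nat_lit 8203, nat_lit 4097, nat_lit 2]⟩⟩⟩,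
  ⟨[nat_lit 228, nat_lit 265, nat_lit 232, nat_lit 229], [], (nat_lit 500), ⟨[nat_lit 9, nat_lit 47], [nat_lit 88, nat_lit 54], ⟨[nat_lit 0xb8a0829c8c7b8cd90eab8855404d36], [nat_lit 175104, nat_lit 164864, nat_lit 161792, nat_lit 153120, nat_lit 149648, nat_lit 146688, nat_lit 142564, nat_lit 138244, nat_lit 134922, nat_lit 1918, nat_lit 5668, nat_lit 9560, nat_lit 12976, nat_lit 17664, nat_lit 21184, nat_lit 26112, nat_lit 29952, nat_lit 33792, nat_lit 41967, nat_lit 38366, nat_lit 32839, nat_lit 28756, nat_lit 24587, nat_lit 20481, nat_lit 16517, nat_lit 12290, nat_lit 8320, nat_lit 4097, nat_lit 2]⟩⟩⟩]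
theorem shn173 : Suf hnT 19005990 (ldrop (lapp hnwr10 [2, 0, 1]) 14) (apW dcM phn172) (tgtN dcM phn172.e) := Suf.seg (l := lhn173) (by decide +kernel) shn174
def lhn172 : List AP := [⟨[nat_lit 667, nat_lit 222, nat_lit 232], [], (nat_lit 554), ⟨[nat_lit 0, nat_lit 40, nat_lit 54], [nat_lit 0, nat_lit 45, nat_lit 91], ⟨[nat_lit 0xa560e8a1ab3d82a79a6400d92126e5], [nat_lit 173056, nat_lit 165888, nat_lit 161408, nat_lit 157120, nat_lit 152896, nat_lit 148496, nat_lit 145160, nat_lit 140096, nat_lit 136446, nat_lit 132590, nat_lit 1268, nat_lit 5444, nat_lit 8320, nat_lit 13968, nat_lit 18208, nat_lit 21184, nat_lit 25856, nat_lit 41848, nat_lit 37001, nat_lit 33008, nat_lit 29018, nat_lit 24894, nat_lit 20638, nat_lit 16420, nat_lit 12354, nat_lit 8202, nat_lit 4101, nat_lit 2]⟩⟩⟩,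
  ⟨[], [], (nat_lit 1104), ⟨[nat_lit 0, nat_lit 16, nat_lit 49], [nat_lit 0, nat_lit 33, nat_lit 47], ⟨[nat_lit 0x8cd9692c81436a93aa0229a8fb8dc0], [nat_lit 173056, nat_lit 169984, nat_lit 166144, nat_lit 161792, nat_lit 157952, nat_lit 153120, nat_lit 151120, nat_lit 145784, nat_lit 139956, nat_lit 137598, nat_lit 133051, nat_lit 986, nat_lit 5228, nat_lit 10168, nat_lit 13248, nat_lit 17920, nat_lit 22336, nat_lit 24704, nat_lit 29696, nat_lit 33280, nat_lit 37888, nat_lit 41294, nat_lit 37214, nat_lit 33324, nat_lit 28718, nat_lit 24874, nat_lit 20505, nat_lit 16431, nat_lit 12293, nat_lit 8194]⟩⟩⟩]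
theorem shn172 : Suf hnT 19005990 (ldrop (lapp hnwr10 [2, 0, 1]) 6) (apW dcM phn171) (tgtN dcM phn171.e) := Suf.seg (l := lhn172) (by decide +kernel) shn173
def lhn171 : List AP := [⟨[nat_lit 15, nat_lit 631, nat_lit 629, nat_lit 631, nat_lit 40, nat_lit 15], [], (nat_lit 150), ⟨[nat_lit 42, nat_lit 59], [nat_lit 0, nat_lit 86, nat_lit 91], ⟨[nat_lit 0x45a910d5e439609680d7931ca9886b], [nat_lit 175104, nat_lit 170496, nat_lit 164352, nat_lit 161792, nat_lit 159168, nat_lit 155392, nat_lit 148368, nat_lit 144776, nat_lit 139960, nat_lit 139132, nat_lit 133302, nat_lit 1336, nat_lit 5072, nat_lit 8200, nat_lit 13984, nat_lit 16864, nat_lit 21632, nat_lit 26368, nat_lit 29952, nat_lit 33792, nat_lit 41805, nat_lit 38062, nat_lit 33421, nat_lit 29236, nat_lit 24603, nat_lit 20491, nat_lit 12327, nat_lit 8195, nat_lit 4097]⟩⟩⟩,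
  ⟨[nat_lit 76, nat_lit 85, nat_lit 76, nat_lit 104, nat_lit 104], [], (nat_lit 534), ⟨[nat_lit 3, nat_lit 51], [nat_lit 2, nat_lit 69], ⟨[nat_lit 0x3110f8b573bd18a91c551a42e800b6], [nat_lit 173056, nat_lit 168448, nat_lit 165888, nat_lit 162560, nat_lit 159104, nat_lit 153984, nat_lit 148048, nat_lit 145808, nat_lit 143084, nat_lit 136950, nat_lit 134678, nat_lit 568, nat_lit 4340, nat_lit 8680, nat_lit 12912, nat_lit 16672, nat_lit 21568, nat_lit 24704, nat_lit 30464, nat_lit 34304, nat_lit 41439, nat_lit 37259, nat_lit 33281, nat_lit 28771, nat_lit 24590, nat_lit 20501, nat_lit 16420, nat_lit 12293, nat_lit 4161, nat_lit 2]⟩⟩⟩]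
theorem hncr10_1 : Suf hnT 19005990 (lapp hnwr10 [2, 0, 1]) (iC2 :: apW dcM q0) (tgtN dcM q0.e) := Suf.seg (l := lhn171) (by decide +kernel) shn172

def phn178 : AP := ⟨[nat_lit 664, nat_lit 222], [], (nat_lit 508), ⟨[nat_lit 20, nat_lit 90], [nat_lit 0, nat_lit 85], ⟨[nat_lit 0x4bcb1b5417341cb41192a0c223cdaa], [nat_lit 175104, nat_lit 171008, nat_lit 164352, nat_lit 162816, nat_lit 158848, nat_lit 153760, nat_lit 148704, nat_lit 144776, nat_lit 140820, nat_lit 138382, nat_lit 134860, nat_lit 1814, nat_lit 5900, nat_lit 9384, nat_lit 12672, nat_lit 16864, nat_lit 22272, nat_lit 25216, nat_lit 30208, nat_lit 33280, nat_lit 41909, nat_lit 37318, nat_lit 33531, nat_lit 28699, nat_lit 24634, nat_lit 20509, nat_lit 16385, nat_lit 12321, nat_lit 16]⟩⟩⟩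
def phn179 : AP := ⟨[nat_lit 145, nat_lit 142, nat_lit 147], [], (nat_lit 1082), ⟨[nat_lit 75, nat_lit 62], [nat_lit 0, nat_lit 15, nat_lit 91], ⟨[nat_lit 0x731493ca056bd0bb868334493ad802], [nat_lit 173056, nat_lit 169472, nat_lit 164096, nat_lit 160256, nat_lit 156288, nat_lit 152128, nat_lit 148032, nat_lit 143960, nat_lit 139308, nat_lit 135840, nat_lit 131114, nat_lit 4, nat_lit 5856, nat_lit 8888, nat_lit 12976, nat_lit 17920, nat_lit 21248, nat_lit 24704, nat_lit 28928, nat_lit 34304, nat_lit 37888, nat_lit 41472, nat_lit 37312, nat_lit 33400, nat_lit 28968, nat_lit 25088, nat_lit 20494, nat_lit 16395, nat_lit 12295, nat_lit 8193, nat_lit 4104, nat_lit 2]⟩⟩⟩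
def phn180 : AP := ⟨[], [], (nat_lit 1130), ⟨[nat_lit 0, nat_lit 44, nat_lit 53], [nat_lit 88, nat_lit 54], ⟨[nat_lit 0x315cbb4c830a1a03cae2a554c7c530], [nat_lit 169984, nat_lit 164352, nat_lit 160768, nat_lit 157824, nat_lit 152576, nat_lit 147760, nat_lit 146400, nat_lit 143308, nat_lit 139088, nat_lit 133490, nat_lit 526, nat_lit 5508, nat_lit 9304, nat_lit 14112, nat_lit 17344, nat_lit 21760, nat_lit 25088, nat_lit 30208, nat_lit 41524, nat_lit 38309, nat_lit 33021, nat_lit 29049, nat_lit 24617, nat_lit 20558, nat_lit 16395, nat_lit 12289, nat_lit 8226, nat_lit 4097]⟩⟩⟩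
def phn181 : AP := ⟨[nat_lit 264, nat_lit 230, nat_lit 233, nat_lit 231], [], (nat_lit 642), ⟨[nat_lit 0, nat_lit 8, nat_lit 94], [nat_lit 0, nat_lit 22, nat_lit 69], ⟨[nat_lit 0x1d4cc52132034b65c6132385709e8f], [nat_lit 168448, nat_lit 165888, nat_lit 160896, nat_lit 157184, nat_lit 151968, nat_lit 148128, nat_lit 144312, nat_lit 140584, nat_lit 136868, nat_lit 132159, nat_lit 1014, nat_lit 4128, nat_lit 9840, nat_lit 14144, nat_lit 16832, nat_lit 20736, nat_lit 25088, nat_lit 30464, nat_lit 34304, nat_lit 37888, nat_lit 41924, nat_lit 37206, nat_lit 32825, nat_lit 28724, nat_lit 25110, nat_lit 20494, nat_lit 16519, nat_lit 12324, nat_lit 8227, nat_lit 4104, nat_lit 4]⟩⟩⟩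
def phn182 : AP := ⟨[nat_lit 219, nat_lit 175, nat_lit 660], [], (nat_lit 752), ⟨[nat_lit 0, nat_lit 31, nat_lit 60], [nat_lit 0, nat_lit 80, nat_lit 65], ⟨[nat_lit 0x70e9589ac953c483dd739400c2848d], [nat_lit 175104, nat_lit 168960, nat_lit 160896, nat_lit 157504, nat_lit 152576, nat_lit 147616, nat_lit 143768, nat_lit 141060, nat_lit 135880, nat_lit 132456, nat_lit 1516, nat_lit 4112, nat_lit 8504, nat_lit 13408, nat_lit 17408, nat_lit 22016, nat_lit 29696, nat_lit 33792, nat_lit 37888, nat_lit 41024, nat_lit 36877, nat_lit 32947, nat_lit 28757, nat_lit 24731, nat_lit 20487, nat_lit 16390, nat_lit 12358, nat_lit 8208, nat_lit 4100]⟩⟩⟩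
def phn183 : AP := ⟨[nat_lit 259], [], (nat_lit 508), ⟨[nat_lit 38, nat_lit 55], [nat_lit 39, nat_lit 49], ⟨[nat_lit 0x128a0bd5063b56c7524122630b3e63], [nat_lit 174080, nat_lit 171520, nat_lit 165120, nat_lit 161792, nat_lit 159680, nat_lit 155616, nat_lit 144096, nat_lit 140520, nat_lit 139118, nat_lit 134474, nat_lit 1770, nat_lit 4340, nat_lit 9160, nat_lit 14112, nat_lit 17792, nat_lit 22336, nat_lit 25600, nat_lit 29440, nat_lit 33280, nat_lit 37888, nat_lit 41115, nat_lit 37225, nat_lit 33438, nat_lit 28958, nat_lit 24617, nat_lit 20510, nat_lit 16423, nat_lit 12311, nat_lit 8203, nat_lit 4104]⟩⟩⟩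
def lhn184 : List AP := [⟨[nat_lit 259, nat_lit 264], [], (nat_lit 1094), ⟨[nat_lit 24], [nat_lit 0, nat_lit 80, nat_lit 66], ⟨[nat_lit 0x9c051628f6a25a6006435ddc4796a8], [nat_lit 175104, nat_lit 171520, nat_lit 166400, nat_lit 160128, nat_lit 157312, nat_lit 152672, nat_lit 149520, nat_lit 145368, nat_lit 139664, nat_lit 138532, nat_lit 134934, nat_lit 1554, nat_lit 5208, nat_lit 10032, nat_lit 13920, nat_lit 16640, nat_lit 21440, nat_lit 24704, nat_lit 28928, nat_lit 33792, nat_lit 37888, nat_lit 41134, nat_lit 37212, nat_lit 32937, nat_lit 28677, nat_lit 25134, nat_lit 20563, nat_lit 16385, nat_lit 12289, nat_lit 8320, nat_lit 4160]⟩⟩⟩,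
  ⟨[nat_lit 80], [], (nat_lit 196), ⟨[nat_lit 38, nat_lit 48], [nat_lit 3, nat_lit 55], ⟨[nat_lit 0x9c8a78c0c4456e9b2d541b5c00898f], [nat_lit 169472, nat_lit 164864, nat_lit 161536, nat_lit 158592, nat_lit 152512, nat_lit 148112, nat_lit 144360, nat_lit 139424, nat_lit 135678, nat_lit 131588, nat_lit 1896, nat_lit 4476, nat_lit 8256, nat_lit 12656, nat_lit 17984, nat_lit 21952, nat_lit 25088, nat_lit 28928, nat_lit 33280, nat_lit 37888, nat_lit 41349, nat_lit 36928, nat_lit 33829, nat_lit 28948, nat_lit 25104, nat_lit 20507, nat_lit 16393, nat_lit 12294, nat_lit 16]⟩⟩⟩,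
  ⟨[nat_lit 37, nat_lit 41], [], (nat_lit 1032), ⟨[nat_lit 0, nat_lit 44, nat_lit 64], [nat_lit 85, nat_lit 89], ⟨[nat_lit 0xb2a93a8d8433ae22acf243db004429], [nat_lit 173056, nat_lit 168448, nat_lit 160256, nat_lit 157632, nat_lit 151616, nat_lit 145672, nat_lit 140224, nat_lit 136406, nat_lit 131452, nat_lit 1478, nat_lit 4104, nat_lit 10184, nat_lit 12800, nat_lit 16448, nat_lit 20864, nat_lit 25088, nat_lit 30464, nat_lit 33792, nat_lit 41952, nat_lit 37174, nat_lit 33342, nat_lit 28715, nat_lit 24600, nat_lit 20618, nat_lit 16448, nat_lit 12295, nat_lit 8203, nat_lit 8]⟩⟩⟩]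
theorem shn184 : Suf hnT 19005990 (ldrop (lapp hnwr10 [3, 0, 1]) 44) (apW dcM phn183) (tgtN dcM phn183.e) := Suf.fin' (l := lhn184) (by decide +kernel)
def lhn183 : List AP := [⟨[nat_lit 357, nat_lit 351, nat_lit 290], [], (nat_lit 1184), ⟨[nat_lit 0, nat_lit 18, nat_lit 59], [nat_lit 25, nat_lit 60], ⟨[nat_lit 0x4ec8a55c515d303296c8c8ef68c81], [nat_lit 174080, nat_lit 170496, nat_lit 165120, nat_lit 162176, nat_lit 157824, nat_lit 154592, nat_lit 149488, nat_lit 143424, nat_lit 141280, nat_lit 138908, nat_lit 133538, nat_lit 1760, nat_lit 4112, nat_lit 9984, nat_lit 12304, nat_lit 18016, nat_lit 22336, nat_lit 24704, nat_lit 29440, nat_lit 33792, nat_lit 41267, nat_lit 37223, nat_lit 33418, nat_lit 28993, nat_lit 24862, nat_lit 20499, nat_lit 16424, nat_lit 12294, nat_lit 8201, nat_lit 4097]⟩⟩⟩,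
  ⟨[], [], (nat_lit 472), ⟨[nat_lit 0, nat_lit 72, nat_lit 48], [nat_lit 84, nat_lit 53], ⟨[nat_lit 0x6c120396e69a86c252b6749620c50f], [nat_lit 164096, nat_lit 162944, nat_lit 156480, nat_lit 151808, nat_lit 148336, nat_lit 144408, nat_lit 140772, nat_lit 137198, nat_lit 132404, nat_lit 1896, nat_lit 4352, nat_lit 8704, nat_lit 13920, nat_lit 18080, nat_lit 21056, nat_lit 25984, nat_lit 29184, nat_lit 33280, nat_lit 37888, nat_lit 41600, nat_lit 37085, nat_lit 32945, nat_lit 28698, nat_lit 25117, nat_lit 20760, nat_lit 16526, nat_lit 12323, nat_lit 8208, nat_lit 4104, nat_lit 32]⟩⟩⟩]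
theorem shn183 : Suf hnT 19005990 (ldrop (lapp hnwr10 [3, 0, 1]) 36) (apW dcM phn182) (tgtN dcM phn182.e) := Suf.seg (l := lhn183) (by decide +kernel) shn184
def lhn182 : List AP := [⟨[], [], (nat_lit 771), ⟨[nat_lit 0, nat_lit 31, nat_lit 52], [nat_lit 75, nat_lit 51], ⟨[nat_lit 0x248257997443ac788ab7041ac98d49], [nat_lit 175104, nat_lit 168960, nat_lit 164864, nat_lit 161408, nat_lit 157312, nat_lit 152224, nat_lit 149088, nat_lit 144056, nat_lit 139892, nat_lit 136330, nat_lit 131288, nat_lit 724, nat_lit 4548, nat_lit 8528, nat_lit 13312, nat_lit 16608, nat_lit 20608, nat_lit 26368, nat_lit 29696, nat_lit 37888, nat_lit 41792, nat_lit 38158, nat_lit 33889, nat_lit 28761, nat_lit 24761, nat_lit 20544, nat_lit 16394, nat_lit 12295, nat_lit 8203, nat_lit 4097, nat_lit 2]⟩⟩⟩,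
  ⟨[nat_lit 354, nat_lit 353], [], (nat_lit 1204), ⟨[nat_lit 79, nat_lit 47], [nat_lit 28, nat_lit 52], ⟨[nat_lit 0x78248b99692d4236d1c489ed35404c], [nat_lit 175104, nat_lit 169472, nat_lit 165120, nat_lit 159872, nat_lit 156416, nat_lit 152096, nat_lit 149200, nat_lit 144024, nat_lit 139544, nat_lit 135232, nat_lit 132202, nat_lit 1580, nat_lit 4408, nat_lit 8256, nat_lit 13584, nat_lit 17536, nat_lit 20608, nat_lit 24832, nat_lit 29952, nat_lit 33792, nat_lit 41499, nat_lit 37218, nat_lit 32912, nat_lit 28997, nat_lit 24763, nat_lit 20558, nat_lit 16526, nat_lit 12308, nat_lit 8203, nat_lit 4105, nat_lit 8]⟩⟩⟩]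
theorem shn182 : Suf hnT 19005990 (ldrop (lapp hnwr10 [3, 0, 1]) 28) (apW dcM phn181) (tgtN dcM phn181.e) := Suf.seg (l := lhn182) (by decide +kernel) shn183
def lhn181 : List AP := [⟨[nat_lit 227, nat_lit 266, nat_lit 260], [], (nat_lit 550), ⟨[nat_lit 0, nat_lit 75, nat_lit 55], [nat_lit 73, nat_lit 51], ⟨[nat_lit 0x89f5590738a8e083692338b645d89], [nat_lit 173056, nat_lit 164352, nat_lit 161664, nat_lit 157248, nat_lit 152448, nat_lit 150384, nat_lit 144032, nat_lit 140188, nat_lit 136010, nat_lit 131805, nat_lit 434, nat_lit 4396, nat_lit 9928, nat_lit 13792, nat_lit 16640, nat_lit 21056, nat_lit 26368, nat_lit 28928, nat_lit 37888, nat_lit 41356, nat_lit 37304, nat_lit 32784, nat_lit 28688, nat_lit 24613, nat_lit 20548, nat_lit 16399, nat_lit 12311, nat_lit 8208, nat_lit 4]⟩⟩⟩,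
  ⟨[nat_lit 229, nat_lit 228, nat_lit 223], [], (nat_lit 551), ⟨[nat_lit 0, nat_lit 13, nat_lit 93], [nat_lit 0, nat_lit 3, nat_lit 91], ⟨[nat_lit 0x89cd910d38c0e5556eb1bc0c452c9], [nat_lit 168960, nat_lit 164608, nat_lit 160512, nat_lit 156160, nat_lit 153376, nat_lit 151536, nat_lit 144344, nat_lit 140180, nat_lit 135320, nat_lit 132784, nat_lit 1918, nat_lit 5588, nat_lit 9056, nat_lit 13792, nat_lit 16640, nat_lit 20736, nat_lit 25088, nat_lit 29952, nat_lit 41624, nat_lit 38280, nat_lit 33422, nat_lit 28997, nat_lit 24762, nat_lit 20503, nat_lit 16394, nat_lit 12306, nat_lit 8227, nat_lit 4097, nat_lit 2]⟩⟩⟩]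
theorem shn181 : Suf hnT 19005990 (ldrop (lapp hnwr10 [3, 0, 1]) 22) (apW dcM phn180) (tgtN dcM phn180.e) := Suf.seg (l := lhn181) (by decide +kernel) shn182
def lhn180 : List AP := [⟨[nat_lit 112, nat_lit 110, nat_lit 115, nat_lit 118, nat_lit 116], [], (nat_lit 310), ⟨[nat_lit 41, nat_lit 92], [nat_lit 17, nat_lit 55], ⟨[nat_lit 0x48d4e3344593e20b868c3a2d3a9170], [nat_lit 166400, nat_lit 162304, nat_lit 158016, nat_lit 155456, nat_lit 148896, nat_lit 146224, nat_lit 143184, nat_lit 136306, nat_lit 133584, nat_lit 428, nat_lit 5016, nat_lit 9408, nat_lit 12384, nat_lit 16448, nat_lit 21312, nat_lit 24704, nat_lit 29184, nat_lit 34304, nat_lit 37888, nat_lit 41409, nat_lit 36997, nat_lit 32999, nat_lit 28979, nat_lit 24577, nat_lit 20501, nat_lit 16394, nat_lit 12308, nat_lit 8203, nat_lit 4097]⟩⟩⟩,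
  ⟨[nat_lit 656, nat_lit 146, nat_lit 141, nat_lit 147], [], (nat_lit 732), ⟨[nat_lit 0, nat_lit 74, nat_lit 47], [nat_lit 16, nat_lit 70], ⟨[nat_lit 0x8c9e4bd9c619da162125aac109d04a], [nat_lit 170496, nat_lit 164096, nat_lit 163456, nat_lit 155840, nat_lit 154688, nat_lit 150032, nat_lit 146520, nat_lit 141140, nat_lit 137198, nat_lit 133919, nat_lit 1814, nat_lit 5544, nat_lit 8224, nat_lit 13680, nat_lit 16448, nat_lit 20544, nat_lit 25600, nat_lit 29440, nat_lit 34304, nat_lit 41493, nat_lit 38054, nat_lit 32999, nat_lit 28744, nat_lit 24615, nat_lit 20503, nat_lit 16416, nat_lit 12294, nat_lit 8195, nat_lit 4097, nat_lit 2]⟩⟩⟩]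
theorem shn180 : Suf hnT 19005990 (ldrop (lapp hnwr10 [3, 0, 1]) 14) (apW dcM phn179) (tgtN dcM phn179.e) := Suf.seg (l := lhn180) (by decide +kernel) shn181
def lhn179 : List AP := [⟨[nat_lit 260, nat_lit 232, nat_lit 259], [], (nat_lit 602), ⟨[nat_lit 8, nat_lit 63], [nat_lit 22, nat_lit 53], ⟨[nat_lit 0x5a272304e375ecd200a252630abe8c], [nat_lit 173056, nat_lit 168960, nat_lit 164608, nat_lit 160384, nat_lit 155712, nat_lit 152416, nat_lit 147504, nat_lit 143680, nat_lit 139992, nat_lit 138218, nat_lit 132558, nat_lit 2012, nat_lit 4128, nat_lit 9840, nat_lit 14144, nat_lit 17952, nat_lit 26368, nat_lit 30464, nat_lit 34304, nat_lit 37888, nat_lit 41620, nat_lit 38101, nat_lit 32886, nat_lit 29750, nat_lit 24618, nat_lit 20482, nat_lit 16644, nat_lit 12293, nat_lit 8203, nat_lit 8]⟩⟩⟩,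
  ⟨[], [], (nat_lit 1184), ⟨[nat_lit 0, nat_lit 83, nat_lit 57], [nat_lit 0, nat_lit 74, nat_lit 47], ⟨[nat_lit 0x21ec888d867a6ed7064500a8a5ceb0], [nat_lit 173056, nat_lit 165120, nat_lit 161536, nat_lit 156736, nat_lit 152576, nat_lit 147488, nat_lit 146128, nat_lit 140176, nat_lit 135848, nat_lit 131468, nat_lit 1698, nat_lit 5016, nat_lit 9440, nat_lit 12352, nat_lit 16864, nat_lit 20736, nat_lit 25600, nat_lit 28928, nat_lit 33792, nat_lit 37888, nat_lit 41132, nat_lit 36878, nat_lit 32968, nat_lit 28960, nat_lit 24584, nat_lit 20608, nat_lit 16393, nat_lit 12290, nat_lit 8193, nat_lit 4105, nat_lit 2]⟩⟩⟩]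
theorem shn179 : Suf hnT 19005990 (ldrop (lapp hnwr10 [3, 0, 1]) 6) (apW dcM phn178) (tgtN dcM phn178.e) := Suf.seg (l := lhn179) (by decide +kernel) shn180
def lhn178 : List AP := [⟨[nat_lit 39, nat_lit 41, nat_lit 15, nat_lit 38, nat_lit 629], [], (nat_lit 197), ⟨[nat_lit 17, nat_lit 66], [nat_lit 84, nat_lit 65], ⟨[nat_lit 0x94cf65aa8561aae208776c12103d11], [nat_lit 174080, nat_lit 171520, nat_lit 166400, nat_lit 160896, nat_lit 157504, nat_lit 153088, nat_lit 151248, nat_lit 144192, nat_lit 141288, nat_lit 138210, nat_lit 134017, nat_lit 1298, nat_lit 5136, nat_lit 9912, nat_lit 12976, nat_lit 17920, nat_lit 22080, nat_lit 25344, nat_lit 29184, nat_lit 33280, nat_lit 37888, nat_lit 41793, nat_lit 37920, nat_lit 32830, nat_lit 28767, nat_lit 24734, nat_lit 20756, nat_lit 16387, nat_lit 12320, nat_lit 8322, nat_lit 4105]⟩⟩⟩,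
  ⟨[nat_lit 102, nat_lit 78, nat_lit 106, nat_lit 79], [], (nat_lit 468), ⟨[nat_lit 0, nat_lit 88, nat_lit 89], [nat_lit 79, nat_lit 58], ⟨[nat_lit 0x3c564b08af625b01aa600d5c6a4ae8], [nat_lit 169472, nat_lit 157120, nat_lit 152128, nat_lit 148368, nat_lit 144392, nat_lit 141532, nat_lit 135206, nat_lit 131861, nat_lit 1396, nat_lit 4756, nat_lit 14144, nat_lit 17408, nat_lit 21504, nat_lit 24832, nat_lit 30464, nat_lit 33280, nat_lit 37888, nat_lit 41735, nat_lit 38019, nat_lit 33525, nat_lit 28720, nat_lit 24861, nat_lit 20568, nat_lit 16416, nat_lit 12352, nat_lit 5120, nat_lit 2]⟩⟩⟩]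
theorem hncr10_2 : Suf hnT 19005990 (lapp hnwr10 [3, 0, 1]) (iC3 :: apW dcM q0) (tgtN dcM q0.e) := Suf.seg (l := lhn178) (by decide +kernel) shn179

def phn185 : AP := ⟨[nat_lit 175, nat_lit 219, nat_lit 216, nat_lit 171], [], (nat_lit 440), ⟨[nat_lit 0, nat_lit 41, nat_lit 59], [nat_lit 0, nat_lit 29, nat_lit 46], ⟨[nat_lit 0x812eaabec264a23021ab4d267095c6], [nat_lit 175104, nat_lit 170496, nat_lit 167424, nat_lit 160128, nat_lit 158912, nat_lit 154432, nat_lit 147840, nat_lit 146768, nat_lit 140820, nat_lit 136084, nat_lit 132336, nat_lit 158, nat_lit 6068, nat_lit 10032, nat_lit 14304, nat_lit 17216, nat_lit 20544, nat_lit 25216, nat_lit 29952, nat_lit 34304, nat_lit 37888, nat_lit 41576, nat_lit 37339, nat_lit 32822, nat_lit 29250, nat_lit 25127, nat_lit 20553, nat_lit 16428, nat_lit 12294, nat_lit 8202, nat_lit 4104, nat_lit 16]⟩⟩⟩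
def phn186 : AP := ⟨[nat_lit 417, nat_lit 677, nat_lit 464, nat_lit 421], [], (nat_lit 1238), ⟨[nat_lit 0, nat_lit 37, nat_lit 68], [nat_lit 0, nat_lit 73, nat_lit 68], ⟨[nat_lit 0x22052845b60b2839aca04b957a98ef], [nat_lit 173056, nat_lit 169984, nat_lit 165632, nat_lit 160384, nat_lit 156480, nat_lit 152864, nat_lit 147712, nat_lit 144784, nat_lit 140680, nat_lit 136804, nat_lit 132931, nat_lit 1014, nat_lit 4328, nat_lit 8464, nat_lit 13152, nat_lit 17568, nat_lit 20800, nat_lit 25856, nat_lit 30208, nat_lit 33280, nat_lit 41700, nat_lit 37203, nat_lit 33404, nat_lit 29745, nat_lit 24706, nat_lit 20751, nat_lit 16460, nat_lit 12310, nat_lit 8201, nat_lit 4112, nat_lit 2]⟩⟩⟩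
def phn187 : AP := ⟨[nat_lit 219, nat_lit 217, nat_lit 170], [], (nat_lit 1088), ⟨[nat_lit 22, nat_lit 49], [nat_lit 0, nat_lit 41, nat_lit 46], ⟨[nat_lit 0x2360fa46e5432a392546b056e3cc40], [nat_lit 169984, nat_lit 165376, nat_lit 161664, nat_lit 156096, nat_lit 153120, nat_lit 147840, nat_lit 144904, nat_lit 140796, nat_lit 136902, nat_lit 131161, nat_lit 512, nat_lit 4168, nat_lit 8704, nat_lit 13232, nat_lit 18336, nat_lit 20800, nat_lit 25984, nat_lit 29184, nat_lit 34304, nat_lit 41946, nat_lit 38287, nat_lit 34010, nat_lit 28786, nat_lit 24754, nat_lit 20504, nat_lit 16388, nat_lit 12327, nat_lit 8195, nat_lit 4101]⟩⟩⟩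
def phn188 : AP := ⟨[nat_lit 53, nat_lit 54, nat_lit 70, nat_lit 66, nat_lit 46], [], (nat_lit 368), ⟨[nat_lit 88, nat_lit 58], [nat_lit 6, nat_lit 89], ⟨[nat_lit 0x2344f50505bb1721da864c6ae38213], [nat_lit 165376, nat_lit 160256, nat_lit 156416, nat_lit 153216, nat_lit 148528, nat_lit 144576, nat_lit 139844, nat_lit 137716, nat_lit 133116, nat_lit 588, nat_lit 4160, nat_lit 8712, nat_lit 13088, nat_lit 18112, nat_lit 21120, nat_lit 24704, nat_lit 33792, nat_lit 37888, nat_lit 41666, nat_lit 38144, nat_lit 33280, nat_lit 29031, nat_lit 24578, nat_lit 20623, nat_lit 16398, nat_lit 12311, nat_lit 8195]⟩⟩⟩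
def phn189 : AP := ⟨[nat_lit 174, nat_lit 218, nat_lit 173, nat_lit 171], [], (nat_lit 860), ⟨[nat_lit 0, nat_lit 4, nat_lit 70], [nat_lit 0, nat_lit 34, nat_lit 53], ⟨[nat_lit 0x82cae9c8356dd83392807c526b090a], [nat_lit 168448, nat_lit 165632, nat_lit 160256, nat_lit 155968, nat_lit 151584, nat_lit 149472, nat_lit 143368, nat_lit 139280, nat_lit 135856, nat_lit 131173, nat_lit 1810, nat_lit 5288, nat_lit 12384, nat_lit 17312, nat_lit 21568, nat_lit 25088, nat_lit 30464, nat_lit 33792, nat_lit 37888, nat_lit 41472, nat_lit 38346, nat_lit 33521, nat_lit 29252, nat_lit 24593, nat_lit 20751, nat_lit 16420, nat_lit 12421, nat_lit 4105]⟩⟩⟩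
def phn190 : AP := ⟨[nat_lit 217, nat_lit 661, nat_lit 663, nat_lit 170], [], (nat_lit 440), ⟨[nat_lit 0, nat_lit 75, nat_lit 70], [nat_lit 0, nat_lit 37, nat_lit 62], ⟨[nat_lit 0x7260d654c11d0ef21668546f610172], [nat_lit 175104, nat_lit 171008, nat_lit 164352, nat_lit 162176, nat_lit 158336, nat_lit 155200, nat_lit 149248, nat_lit 145352, nat_lit 140388, nat_lit 138678, nat_lit 135047, nat_lit 1762, nat_lit 5080, nat_lit 9528, nat_lit 13616, nat_lit 17216, nat_lit 20800, nat_lit 24960, nat_lit 30464, nat_lit 37888, nat_lit 41473, nat_lit 37888, nat_lit 32769, nat_lit 28790, nat_lit 24733, nat_lit 20565, nat_lit 16428, nat_lit 12293, nat_lit 8203, nat_lit 4097]⟩⟩⟩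
def lhn191 : List AP := [⟨[nat_lit 175, nat_lit 219, nat_lit 216, nat_lit 171], [], (nat_lit 440), ⟨[nat_lit 24, nat_lit 64], [nat_lit 0, nat_lit 8, nat_lit 49], ⟨[nat_lit 0x2a9f3ade814c4ed8308b449c610076], [nat_lit 174080, nat_lit 168960, nat_lit 164096, nat_lit 157888, nat_lit 153664, nat_lit 150544, nat_lit 145016, nat_lit 141460, nat_lit 137162, nat_lit 134781, nat_lit 688, nat_lit 4340, nat_lit 9328, nat_lit 13424, nat_lit 18080, nat_lit 20928, nat_lit 26368, nat_lit 40981, nat_lit 37109, nat_lit 33019, nat_lit 28753, nat_lit 24706, nat_lit 20757, nat_lit 16389, nat_lit 12327, nat_lit 4129, nat_lit 2]⟩⟩⟩,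
  ⟨[nat_lit 218], [], (nat_lit 339), ⟨[nat_lit 0, nat_lit 78, nat_lit 56], [nat_lit 74, nat_lit 70], ⟨[nat_lit 0xb46af3b4d0a202454dcb2813764843], [nat_lit 173056, nat_lit 167424, nat_lit 163072, nat_lit 157760, nat_lit 155168, nat_lit 149248, nat_lit 147096, nat_lit 141612, nat_lit 135920, nat_lit 133396, nat_lit 484, nat_lit 4408, nat_lit 17792, nat_lit 22336, nat_lit 29440, nat_lit 33280, nat_lit 41900, nat_lit 38309, nat_lit 33799, nat_lit 28956, nat_lit 24585, nat_lit 20481, nat_lit 16392, nat_lit 12295, nat_lit 8202, nat_lit 4104]⟩⟩⟩,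
  ⟨[], [], (nat_lit 1034), ⟨[nat_lit 0, nat_lit 81, nat_lit 54], [nat_lit 0, nat_lit 27, nat_lit 70], ⟨[nat_lit 0xa2ed09002851a247259369c572d46f], [nat_lit 173056, nat_lit 168960, nat_lit 164864, nat_lit 160128, nat_lit 156544, nat_lit 152032, nat_lit 147584, nat_lit 144152, nat_lit 139528, nat_lit 136242, nat_lit 133359, nat_lit 1896, nat_lit 4480, nat_lit 8976, nat_lit 14304, nat_lit 17632, nat_lit 22400, nat_lit 24832, nat_lit 28928, nat_lit 33280, nat_lit 41326, nat_lit 37131, nat_lit 32990, nat_lit 28797, nat_lit 24756, nat_lit 20628, nat_lit 16521, nat_lit 12289, nat_lit 8210, nat_lit 4101]⟩⟩⟩]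
theorem shn191 : Suf hnT 2048 (ldrop (lapp hnwr10 [1, 0, 1]) 44) (apW dcM phn190) (tgtN dcM phn190.e) := Suf.fin' (l := lhn191) (by decide +kernel)
def lhn190 : List AP := [⟨[nat_lit 466, nat_lit 416, nat_lit 678, nat_lit 414], [], (nat_lit 1238), ⟨[nat_lit 0, nat_lit 74, nat_lit 69], [nat_lit 0, nat_lit 84, nat_lit 50], ⟨[nat_lit 0x91601545f62300d9add532049a5ce3], [nat_lit 173056, nat_lit 169984, nat_lit 164096, nat_lit 160256, nat_lit 155712, nat_lit 152512, nat_lit 147600, nat_lit 144128, nat_lit 139552, nat_lit 137050, nat_lit 133067, nat_lit 1174, nat_lit 4328, nat_lit 9504, nat_lit 12320, nat_lit 18272, nat_lit 21248, nat_lit 25216, nat_lit 29440, nat_lit 37888, nat_lit 41728, nat_lit 38344, nat_lit 32821, nat_lit 29292, nat_lit 24615, nat_lit 20557, nat_lit 16651, nat_lit 12310, nat_lit 8209, nat_lit 4100, nat_lit 2]⟩⟩⟩,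
  ⟨[], [], (nat_lit 416), ⟨[nat_lit 38, nat_lit 66], [nat_lit 85, nat_lit 93], ⟨[nat_lit 0x21c4806a29dcc7628a34aed17b654], [nat_lit 173056, nat_lit 168960, nat_lit 165120, nat_lit 161024, nat_lit 157120, nat_lit 152160, nat_lit 149168, nat_lit 143688, nat_lit 140992, nat_lit 138822, nat_lit 131862, nat_lit 460, nat_lit 8224, nat_lit 14176, nat_lit 16896, nat_lit 20992, nat_lit 25344, nat_lit 30208, nat_lit 34304, nat_lit 37888, nat_lit 41656, nat_lit 37229, nat_lit 33287, nat_lit 29807, nat_lit 24753, nat_lit 20564, nat_lit 16416, nat_lit 12290, nat_lit 8257, nat_lit 4]⟩⟩⟩]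
theorem shn190 : Suf hnT 2048 (ldrop (lapp hnwr10 [1, 0, 1]) 36) (apW dcM phn189) (tgtN dcM phn189.e) := Suf.seg (l := lhn190) (by decide +kernel) shn191
def lhn189 : List AP := [⟨[nat_lit 172, nat_lit 215, nat_lit 171], [], (nat_lit 400), ⟨[nat_lit 22, nat_lit 60], [nat_lit 0, nat_lit 36, nat_lit 47], ⟨[nat_lit 0x9ba12286ab4dc66150e8510166b1f1], [nat_lit 168448, nat_lit 165120, nat_lit 160896, nat_lit 157248, nat_lit 151968, nat_lit 148880, nat_lit 143880, nat_lit 140188, nat_lit 138004, nat_lit 131957, nat_lit 1004, nat_lit 5992, nat_lit 8504, nat_lit 13664, nat_lit 16800, nat_lit 21312, nat_lit 26496, nat_lit 30464, nat_lit 33280, nat_lit 41338, nat_lit 37013, nat_lit 32778, nat_lit 29226, nat_lit 25634, nat_lit 20629, nat_lit 16463, nat_lit 12291, nat_lit 8]⟩⟩⟩,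
  ⟨[nat_lit 660, nat_lit 172, nat_lit 214], [], (nat_lit 404), ⟨[nat_lit 0, nat_lit 76, nat_lit 57], [nat_lit 0, nat_lit 83, nat_lit 68], ⟨[nat_lit 0x2b20350835490d4b22726baeb381f1], [nat_lit 173056, nat_lit 168448, nat_lit 165120, nat_lit 156544, nat_lit 152384, nat_lit 148832, nat_lit 143880, nat_lit 143024, nat_lit 136238, nat_lit 131550, nat_lit 512, nat_lit 4596, nat_lit 8704, nat_lit 13664, nat_lit 16960, nat_lit 22336, nat_lit 26368, nat_lit 30464, nat_lit 34304, nat_lit 37888, nat_lit 41904, nat_lit 38210, nat_lit 33972, nat_lit 29187, nat_lit 24595, nat_lit 20492, nat_lit 16457, nat_lit 12295, nat_lit 8193, nat_lit 4105, nat_lit 4]⟩⟩⟩]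
theorem shn189 : Suf hnT 2048 (ldrop (lapp hnwr10 [1, 0, 1]) 28) (apW dcM phn188) (tgtN dcM phn188.e) := Suf.seg (l := lhn189) (by decide +kernel) shn190
def lhn188 : List AP := [⟨[nat_lit 642], [], (nat_lit 91), ⟨[nat_lit 80, nat_lit 67], [nat_lit 44, nat_lit 46], ⟨[nat_lit 0x3d4d6835f1250b79ba4c1a84b00528], [nat_lit 173056, nat_lit 168448, nat_lit 167680, nat_lit 163456, nat_lit 157696, nat_lit 154592, nat_lit 148032, nat_lit 147144, nat_lit 141956, nat_lit 135938, nat_lit 133482, nat_lit 236, nat_lit 5316, nat_lit 9664, nat_lit 13344, nat_lit 18400, nat_lit 20800, nat_lit 26496, nat_lit 29184, nat_lit 33280, nat_lit 37888, nat_lit 41658, nat_lit 38259, nat_lit 33019, nat_lit 28990, nat_lit 24708, nat_lit 20500, nat_lit 16399, nat_lit 12292, nat_lit 8195, nat_lit 4097]⟩⟩⟩,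
  ⟨[nat_lit 632, nat_lit 632, nat_lit 633, nat_lit 629, nat_lit 633, nat_lit 17], [], (nat_lit 90), ⟨[nat_lit 27, nat_lit 46], [nat_lit 0, nat_lit 15, nat_lit 61], ⟨[nat_lit 0xa15f3135cba86ea35a2c410e304132], [nat_lit 173056, nat_lit 169472, nat_lit 167680, nat_lit 163200, nat_lit 158912, nat_lit 155136, nat_lit 149296, nat_lit 146280, nat_lit 141996, nat_lit 136908, nat_lit 133745, nat_lit 492, nat_lit 5572, nat_lit 8616, nat_lit 12352, nat_lit 18400, nat_lit 20736, nat_lit 30464, nat_lit 33280, nat_lit 37888, nat_lit 41969, nat_lit 37964, nat_lit 32859, nat_lit 28734, nat_lit 24599, nat_lit 20624, nat_lit 16462, nat_lit 12309, nat_lit 8201, nat_lit 4097]⟩⟩⟩]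
theorem shn188 : Suf hnT 2048 (ldrop (lapp hnwr10 [1, 0, 1]) 22) (apW dcM phn187) (tgtN dcM phn187.e) := Suf.seg (l := lhn188) (by decide +kernel) shn189
def lhn187 : List AP := [⟨[], [], (nat_lit 416), ⟨[nat_lit 0, nat_lit 71, nat_lit 64], [nat_lit 0, nat_lit 28, nat_lit 53], ⟨[nat_lit 0x9aec0704e225df4629068960d1a655], [nat_lit 173056, nat_lit 168448, nat_lit 165120, nat_lit 160768, nat_lit 155776, nat_lit 152704, nat_lit 148944, nat_lit 143808, nat_lit 140980, nat_lit 137614, nat_lit 132484, nat_lit 1760, nat_lit 9664, nat_lit 17760, nat_lit 22208, nat_lit 25984, nat_lit 29952, nat_lit 33280, nat_lit 41858, nat_lit 38111, nat_lit 33375, nat_lit 28738, nat_lit 24582, nat_lit 20483, nat_lit 16898, nat_lit 12290]⟩⟩⟩,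
  ⟨[nat_lit 219, nat_lit 178], [], (nat_lit 401), ⟨[nat_lit 37, nat_lit 92], [nat_lit 79, nat_lit 94], ⟨[nat_lit 0x7260d21668ab0261480ba0cef55af1], [nat_lit 168448, nat_lit 164608, nat_lit 163584, nat_lit 155840, nat_lit 153536, nat_lit 147648, nat_lit 144112, nat_lit 139488, nat_lit 136914, nat_lit 133019, nat_lit 1652, nat_lit 4964, nat_lit 9288, nat_lit 13664, nat_lit 16608, nat_lit 20928, nat_lit 25728, nat_lit 28928, nat_lit 33792, nat_lit 37888, nat_lit 41000, nat_lit 37303, nat_lit 32918, nat_lit 28743, nat_lit 24711, nat_lit 21006, nat_lit 16417, nat_lit 12307, nat_lit 8193, nat_lit 4104, nat_lit 2]⟩⟩⟩]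
theorem shn187 : Suf hnT 2048 (ldrop (lapp hnwr10 [1, 0, 1]) 14) (apW dcM phn186) (tgtN dcM phn186.e) := Suf.seg (l := lhn187) (by decide +kernel) shn188
def lhn186 : List AP := [⟨[nat_lit 214, nat_lit 212, nat_lit 212, nat_lit 178], [], (nat_lit 404), ⟨[nat_lit 0, nat_lit 72, nat_lit 90], [nat_lit 72, nat_lit 53], ⟨[nat_lit 0x72d01ba6077c642658756940625153], [nat_lit 175104, nat_lit 166912, nat_lit 162304, nat_lit 159104, nat_lit 152992, nat_lit 148240, nat_lit 144136, nat_lit 143288, nat_lit 139054, nat_lit 131180, nat_lit 1928, nat_lit 4280, nat_lit 9560, nat_lit 12448, nat_lit 17408, nat_lit 21504, nat_lit 25216, nat_lit 28928, nat_lit 33280, nat_lit 41894, nat_lit 37952, nat_lit 32885, nat_lit 29289, nat_lit 24593, nat_lit 20508, nat_lit 16426, nat_lit 12322, nat_lit 8194, nat_lit 4101]⟩⟩⟩,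
  ⟨[nat_lit 174, nat_lit 218, nat_lit 173, nat_lit 171], [], (nat_lit 860), ⟨[nat_lit 10, nat_lit 53], [nat_lit 22, nat_lit 46], ⟨[nat_lit 0x898814b4b64281259dd57c04cb8e74], [nat_lit 168960, nat_lit 167680, nat_lit 161792, nat_lit 157888, nat_lit 154176, nat_lit 149168, nat_lit 147040, nat_lit 142960, nat_lit 136692, nat_lit 133220, nat_lit 460, nat_lit 5024, nat_lit 8848, nat_lit 13712, nat_lit 17824, nat_lit 24960, nat_lit 29696, nat_lit 34304, nat_lit 37888, nat_lit 41953, nat_lit 38208, nat_lit 32942, nat_lit 28987, nat_lit 24580, nat_lit 20749, nat_lit 16399, nat_lit 8210]⟩⟩⟩]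
theorem shn186 : Suf hnT 2048 (ldrop (lapp hnwr10 [1, 0, 1]) 6) (apW dcM phn185) (tgtN dcM phn185.e) := Suf.seg (l := lhn186) (by decide +kernel) shn187
def lhn185 : List AP := [⟨[nat_lit 23, nat_lit 31, nat_lit 31, nat_lit 28, nat_lit 24, nat_lit 21], [], (nat_lit 338), ⟨[nat_lit 34, nat_lit 93], [nat_lit 0, nat_lit 84, nat_lit 67], ⟨[nat_lit 0xa9c3653a90bae4f0192828e332098d], [nat_lit 174080, nat_lit 169984, nat_lit 166912, nat_lit 163072, nat_lit 156736, nat_lit 154496, nat_lit 151296, nat_lit 145312, nat_lit 142164, nat_lit 136170, nat_lit 132294, nat_lit 1624, nat_lit 5768, nat_lit 8208, nat_lit 12944, nat_lit 18336, nat_lit 21632, nat_lit 25344, nat_lit 30208, nat_lit 33280, nat_lit 41116, nat_lit 37252, nat_lit 33440, nat_lit 29216, nat_lit 24612, nat_lit 20545, nat_lit 16395, nat_lit 12311, nat_lit 8200]⟩⟩⟩,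
  ⟨[nat_lit 177, nat_lit 663, nat_lit 217, nat_lit 170], [], (nat_lit 440), ⟨[nat_lit 0, nat_lit 31], [nat_lit 86, nat_lit 57], ⟨[nat_lit 0x24ea9642422c68b029e8199a70baf6], [nat_lit 173056, nat_lit 168448, nat_lit 165376, nat_lit 159872, nat_lit 158080, nat_lit 152608, nat_lit 148496, nat_lit 143744, nat_lit 140300, nat_lit 136986, nat_lit 132098, nat_lit 760, nat_lit 5772, nat_lit 10224, nat_lit 12592, nat_lit 16768, nat_lit 21376, nat_lit 25728, nat_lit 29184, nat_lit 34304, nat_lit 37888, nat_lit 41664, nat_lit 37056, nat_lit 32960, nat_lit 29029, nat_lit 24884, nat_lit 20506, nat_lit 16395, nat_lit 12294, nat_lit 4105]⟩⟩⟩]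
theorem hncr10_3 : Suf hnT 2048 (lapp hnwr10 [1, 0, 1]) (apW dcM q1) (tgtN dcM q1.e) := Suf.seg (l := lhn185) (by decide +kernel) shn186

def phn192 : AP := ⟨[], [], (nat_lit 324), ⟨[nat_lit 0, nat_lit 3, nat_lit 65], [nat_lit 0, nat_lit 21, nat_lit 54], ⟨[nat_lit 0x24d0e60acf6a605ac472a282b39ae0], [nat_lit 173056, nat_lit 164096, nat_lit 157568, nat_lit 151744, nat_lit 148880, nat_lit 144240, nat_lit 142852, nat_lit 137156, nat_lit 131265, nat_lit 4, nat_lit 4328, nat_lit 9216, nat_lit 13072, nat_lit 18208, nat_lit 20736, nat_lit 26368, nat_lit 30464, nat_lit 33280, nat_lit 41963, nat_lit 37954, nat_lit 33453, nat_lit 28766, nat_lit 24604, nat_lit 21017, nat_lit 16390, nat_lit 12355, nat_lit 4104]⟩⟩⟩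
def phn193 : AP := ⟨[nat_lit 228, nat_lit 233, nat_lit 664, nat_lit 226], [], (nat_lit 1098), ⟨[nat_lit 0, nat_lit 21, nat_lit 60], [nat_lit 0, nat_lit 27, nat_lit 70], ⟨[nat_lit 0x26ac72856244617b4f24157035277], [nat_lit 175104, nat_lit 171520, nat_lit 165888, nat_lit 160384, nat_lit 156800, nat_lit 151808, nat_lit 150640, nat_lit 143512, nat_lit 140672, nat_lit 137238, nat_lit 135086, nat_lit 1108, nat_lit 5688, nat_lit 9560, nat_lit 13904, nat_lit 17376, nat_lit 21504, nat_lit 25600, nat_lit 28928, nat_lit 33280, nat_lit 41895, nat_lit 38028, nat_lit 33292, nat_lit 28741, nat_lit 24626, nat_lit 20489, nat_lit 16453, nat_lit 12326, nat_lit 8195, nat_lit 4101, nat_lit 4]⟩⟩⟩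
def phn194 : AP := ⟨[nat_lit 670, nat_lit 289, nat_lit 285], [], (nat_lit 1184), ⟨[nat_lit 13, nat_lit 57], [nat_lit 0, nat_lit 77, nat_lit 91], ⟨[nat_lit 0x6a81348e0c43851350857c961b54f7], [nat_lit 173056, nat_lit 164864, nat_lit 159872, nat_lit 157248, nat_lit 153248, nat_lit 148928, nat_lit 146920, nat_lit 141308, nat_lit 137064, nat_lit 131308, nat_lit 1148, nat_lit 4328, nat_lit 8824, nat_lit 14208, nat_lit 17952, nat_lit 20672, nat_lit 25344, nat_lit 29184, nat_lit 34304, nat_lit 37888, nat_lit 41864, nat_lit 37064, nat_lit 32776, nat_lit 28698, nat_lit 24614, nat_lit 20499, nat_lit 16417, nat_lit 12423, nat_lit 8195, nat_lit 4097]⟩⟩⟩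
def phn195 : AP := ⟨[nat_lit 68, nat_lit 47], [], (nat_lit 122), ⟨[nat_lit 37, nat_lit 57], [nat_lit 15, nat_lit 52], ⟨[nat_lit 0x93d9355ae921803a2175839b1094e2], [nat_lit 170496, nat_lit 164864, nat_lit 163584, nat_lit 156800, nat_lit 153696, nat_lit 150816, nat_lit 146056, nat_lit 141096, nat_lit 136190, nat_lit 133814, nat_lit 700, nat_lit 5668, nat_lit 8320, nat_lit 13520, nat_lit 17472, nat_lit 20928, nat_lit 25856, nat_lit 30464, nat_lit 33792, nat_lit 37888, nat_lit 41521, nat_lit 38125, nat_lit 33006, nat_lit 28692, nat_lit 24841, nat_lit 20565, nat_lit 16423, nat_lit 12549, nat_lit 8193]⟩⟩⟩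
def lhn196 : List AP := [⟨[nat_lit 42, nat_lit 632], [], (nat_lit 1032), ⟨[nat_lit 0, nat_lit 76, nat_lit 89], [nat_lit 0, nat_lit 88, nat_lit 91], ⟨[nat_lit 0x92eac098407cd14190a76d950bc5c9], [nat_lit 175104, nat_lit 169472, nat_lit 164608, nat_lit 160256, nat_lit 156416, nat_lit 152480, nat_lit 147920, nat_lit 143472, nat_lit 141136, nat_lit 135992, nat_lit 131930, nat_lit 434, nat_lit 4720, nat_lit 9648, nat_lit 13552, nat_lit 17888, nat_lit 21632, nat_lit 26496, nat_lit 29952, nat_lit 33280, nat_lit 37888, nat_lit 41099, nat_lit 37076, nat_lit 32877, nat_lit 29301, nat_lit 24579, nat_lit 20623, nat_lit 16900, nat_lit 12321, nat_lit 8203, nat_lit 4105, nat_lit 8]⟩⟩⟩]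
theorem shn196 : Suf hnT 19005990 (ldrop (lapp hnwr11 [1, 0, 1]) 29) (apW dcM phn195) (tgtN dcM phn195.e) := Suf.fin' (l := lhn196) (by decide +kernel)
def lhn195 : List AP := [⟨[nat_lit 141, nat_lit 142], [], (nat_lit 324), ⟨[nat_lit 77, nat_lit 93], [nat_lit 61], ⟨[nat_lit 0x34c2c72eef68227a4152b0923216a8], [nat_lit 173056, nat_lit 171008, nat_lit 167424, nat_lit 162432, nat_lit 158848, nat_lit 152640, nat_lit 150720, nat_lit 146672, nat_lit 140740, nat_lit 137626, nat_lit 132236, nat_lit 2018, nat_lit 4824, nat_lit 9056, nat_lit 12304, nat_lit 16640, nat_lit 22208, nat_lit 25856, nat_lit 29440, nat_lit 41894, nat_lit 37117, nat_lit 32770, nat_lit 28716, nat_lit 25095, nat_lit 20574, nat_lit 16394, nat_lit 12304, nat_lit 8226, nat_lit 4097, nat_lit 2]⟩⟩⟩,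
  ⟨[], [], (nat_lit 306), ⟨[nat_lit 36, nat_lit 66], [nat_lit 0, nat_lit 34, nat_lit 50], ⟨[nat_lit 0x2a0108baf298547aad89a0da2312cf], [nat_lit 174080, nat_lit 171520, nat_lit 167424, nat_lit 163712, nat_lit 156224, nat_lit 153888, nat_lit 150736, nat_lit 144168, nat_lit 142640, nat_lit 135388, nat_lit 131200, nat_lit 1488, nat_lit 4780, nat_lit 10144, nat_lit 14224, nat_lit 18336, nat_lit 22464, nat_lit 29440, nat_lit 34304, nat_lit 37888, nat_lit 41100, nat_lit 36977, nat_lit 32814, nat_lit 29813, nat_lit 24628, nat_lit 20500, nat_lit 12421, nat_lit 4353, nat_lit 2]⟩⟩⟩]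
theorem shn195 : Suf hnT 19005990 (ldrop (lapp hnwr11 [1, 0, 1]) 23) (apW dcM phn194) (tgtN dcM phn194.e) := Suf.seg (l := lhn195) (by decide +kernel) shn196
def lhn194 : List AP := [⟨[], [], (nat_lit 732), ⟨[nat_lit 0, nat_lit 44, nat_lit 90], [nat_lit 27, nat_lit 51], ⟨[nat_lit 0x459708ddec30d2d08292254f32a84e], [nat_lit 175104, nat_lit 169472, nat_lit 165120, nat_lit 161664, nat_lit 159616, nat_lit 154272, nat_lit 151248, nat_lit 145088, nat_lit 141940, nat_lit 135556, nat_lit 134101, nat_lit 960, nat_lit 5332, nat_lit 8320, nat_lit 13776, nat_lit 18336, nat_lit 20864, nat_lit 26496, nat_lit 30464, nat_lit 34304, nat_lit 41666, nat_lit 37005, nat_lit 32917, nat_lit 29051, nat_lit 24737, nat_lit 20635, nat_lit 16398, nat_lit 12307, nat_lit 8203, nat_lit 4101]⟩⟩⟩,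
  ⟨[nat_lit 290, nat_lit 354], [], (nat_lit 797), ⟨[nat_lit 25, nat_lit 68], [nat_lit 39, nat_lit 94], ⟨[nat_lit 0xa35853ce1503a29b216415cc11aa4f], [nat_lit 169984, nat_lit 165376, nat_lit 160512, nat_lit 159296, nat_lit 152896, nat_lit 148960, nat_lit 146896, nat_lit 143096, nat_lit 137580, nat_lit 133787, nat_lit 1318, nat_lit 9560, nat_lit 18048, nat_lit 22464, nat_lit 29696, nat_lit 41850, nat_lit 38291, nat_lit 33859, nat_lit 28713, nat_lit 25117, nat_lit 20489, nat_lit 16463, nat_lit 12306, nat_lit 4112]⟩⟩⟩]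
theorem shn194 : Suf hnT 19005990 (ldrop (lapp hnwr11 [1, 0, 1]) 14) (apW dcM phn193) (tgtN dcM phn193.e) := Suf.seg (l := lhn194) (by decide +kernel) shn195
def lhn193 : List AP := [⟨[nat_lit 654, nat_lit 149, nat_lit 147, nat_lit 654, nat_lit 140], [], (nat_lit 732), ⟨[nat_lit 0, nat_lit 87, nat_lit 64], [nat_lit 0, nat_lit 41, nat_lit 90], ⟨[nat_lit 0xb50236c22c7ba5332905b82a23ad24], [nat_lit 173056, nat_lit 169472, nat_lit 164096, nat_lit 161408, nat_lit 158912, nat_lit 152928, nat_lit 149120, nat_lit 144728, nat_lit 140404, nat_lit 135244, nat_lit 132437, nat_lit 1166, nat_lit 5508, nat_lit 9752, nat_lit 13824, nat_lit 16448, nat_lit 21696, nat_lit 26112, nat_lit 34304, nat_lit 41803, nat_lit 38155, nat_lit 33931, nat_lit 28725, nat_lit 24634, nat_lit 20562, nat_lit 16396, nat_lit 12309, nat_lit 8194, nat_lit 8]⟩⟩⟩,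
  ⟨[], [], (nat_lit 1130), ⟨[nat_lit 0, nat_lit 45, nat_lit 46], [nat_lit 77, nat_lit 68], ⟨[nat_lit 0x9c4016b0c7710af1c242b2a89456eb], [nat_lit 167424, nat_lit 160256, nat_lit 157248, nat_lit 154400, nat_lit 150416, nat_lit 146816, nat_lit 142732, nat_lit 138336, nat_lit 132568, nat_lit 1966, nat_lit 4756, nat_lit 8928, nat_lit 12960, nat_lit 17984, nat_lit 22272, nat_lit 25344, nat_lit 28928, nat_lit 33280, nat_lit 37888, nat_lit 41911, nat_lit 37130, nat_lit 33508, nat_lit 28996, nat_lit 24635, nat_lit 20508, nat_lit 16392, nat_lit 12290, nat_lit 8195, nat_lit 4100, nat_lit 2]⟩⟩⟩]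
theorem shn193 : Suf hnT 19005990 (ldrop (lapp hnwr11 [1, 0, 1]) 6) (apW dcM phn192) (tgtN dcM phn192.e) := Suf.seg (l := lhn193) (by decide +kernel) shn194
def lhn192 : List AP := [⟨[nat_lit 629, nat_lit 17, nat_lit 38, nat_lit 36, nat_lit 14, nat_lit 15], [], (nat_lit 90), ⟨[nat_lit 0, nat_lit 41, nat_lit 53], [nat_lit 71, nat_lit 55], ⟨[nat_lit 0x55669584ec935d414477b1a052010f], [nat_lit 173056, nat_lit 164864, nat_lit 160128, nat_lit 156800, nat_lit 152768, nat_lit 148704, nat_lit 144720, nat_lit 140028, nat_lit 138690, nat_lit 131270, nat_lit 1896, nat_lit 4352, nat_lit 9128, nat_lit 14192, nat_lit 16512, nat_lit 20608, nat_lit 25344, nat_lit 29440, nat_lit 34304, nat_lit 37888, nat_lit 41730, nat_lit 38319, nat_lit 33973, nat_lit 29045, nat_lit 24726, nat_lit 20747, nat_lit 16430, nat_lit 12326, nat_lit 8227, nat_lit 4]⟩⟩⟩,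
  ⟨[nat_lit 53, nat_lit 53, nat_lit 55, nat_lit 73, nat_lit 51, nat_lit 46], [], (nat_lit 1042), ⟨[nat_lit 0, nat_lit 77], [nat_lit 16, nat_lit 53], ⟨[nat_lit 0x20db29ae908bc27a8142b312e29ae8], [nat_lit 173056, nat_lit 170496, nat_lit 166912, nat_lit 162816, nat_lit 158144, nat_lit 152960, nat_lit 151248, nat_lit 146120, nat_lit 141036, nat_lit 138994, nat_lit 1396, nat_lit 4824, nat_lit 9136, nat_lit 13344, nat_lit 18336, nat_lit 24832, nat_lit 28928, nat_lit 33792, nat_lit 41716, nat_lit 38358, nat_lit 32790, nat_lit 28684, nat_lit 24578, nat_lit 20992, nat_lit 16640, nat_lit 12422, nat_lit 8208, nat_lit 4097, nat_lit 2]⟩⟩⟩]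
theorem hncr11_0 : Suf hnT 19005990 (lapp hnwr11 [1, 0, 1]) (apW dcM q0) (tgtN dcM q0.e) := Suf.seg (l := lhn192) (by decide +kernel) shn193

def phn197 : AP := ⟨[], [], (nat_lit 547), ⟨[nat_lit 41, nat_lit 51], [nat_lit 0, nat_lit 19, nat_lit 54], ⟨[nat_lit 0x1eee8086a4da54ab0255b5f132093], [nat_lit 173056, nat_lit 168448, nat_lit 164352, nat_lit 160896, nat_lit 156864, nat_lit 151648, nat_lit 148768, nat_lit 144040, nat_lit 143272, nat_lit 136754, nat_lit 132372, nat_lit 586, nat_lit 5044, nat_lit 8448, nat_lit 12624, nat_lit 17568, nat_lit 22464, nat_lit 26368, nat_lit 29440, nat_lit 41335, nat_lit 37180, nat_lit 33464, nat_lit 28700, nat_lit 25658, nat_lit 21004, nat_lit 16420, nat_lit 12353, nat_lit 5121]⟩⟩⟩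
def phn198 : AP := ⟨[nat_lit 218, nat_lit 179, nat_lit 661, nat_lit 179, nat_lit 177], [], (nat_lit 486), ⟨[nat_lit 0, nat_lit 73, nat_lit 69], [nat_lit 0, nat_lit 79, nat_lit 56], ⟨[nat_lit 0x69a11a4d223d6cf5cae17100343145], [nat_lit 173056, nat_lit 170496, nat_lit 164096, nat_lit 161664, nat_lit 158784, nat_lit 147600, nat_lit 145496, nat_lit 142156, nat_lit 139114, nat_lit 134339, nat_lit 718, nat_lit 5344, nat_lit 9560, nat_lit 12544, nat_lit 17728, nat_lit 21504, nat_lit 24960, nat_lit 29184, nat_lit 33280, nat_lit 37888, nat_lit 41041, nat_lit 37055, nat_lit 32995, nat_lit 28726, nat_lit 24894, nat_lit 20631, nat_lit 16452, nat_lit 12304, nat_lit 8195, nat_lit 4101]⟩⟩⟩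
def phn199 : AP := ⟨[nat_lit 667, nat_lit 263, nat_lit 223, nat_lit 224], [], (nat_lit 500), ⟨[nat_lit 34, nat_lit 52], [nat_lit 41, nat_lit 46], ⟨[nat_lit 0xbaaa7844ab08c8860a92b026d4b8cf], [nat_lit 173056, nat_lit 171008, nat_lit 164608, nat_lit 160896, nat_lit 155712, nat_lit 151680, nat_lit 149008, nat_lit 145160, nat_lit 140748, nat_lit 135814, nat_lit 132850, nat_lit 1668, nat_lit 4548, nat_lit 9648, nat_lit 13152, nat_lit 18368, nat_lit 20928, nat_lit 26240, nat_lit 29696, nat_lit 33792, nat_lit 37888, nat_lit 41781, nat_lit 36992, nat_lit 33845, nat_lit 29215, nat_lit 24590, nat_lit 21530, nat_lit 16518, nat_lit 12307, nat_lit 4104, nat_lit 16]⟩⟩⟩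
def phn200 : AP := ⟨[nat_lit 101], [], (nat_lit 196), ⟨[nat_lit 0, nat_lit 12, nat_lit 60], [nat_lit 11, nat_lit 47], ⟨[nat_lit 0x982ad09522a3e2372d84448d03aad7], [nat_lit 168448, nat_lit 165120, nat_lit 161792, nat_lit 155968, nat_lit 153152, nat_lit 148048, nat_lit 143432, nat_lit 140584, nat_lit 136292, nat_lit 132236, nat_lit 1268, nat_lit 5544, nat_lit 9928, nat_lit 12496, nat_lit 17984, nat_lit 21312, nat_lit 24704, nat_lit 29696, nat_lit 34304, nat_lit 37888, nat_lit 41088, nat_lit 37350, nat_lit 33462, nat_lit 24604, nat_lit 21007, nat_lit 16460, nat_lit 12322, nat_lit 8195, nat_lit 4100]⟩⟩⟩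
def lhn201 : List AP := [⟨[nat_lit 15, nat_lit 632], [], (nat_lit 1032), ⟨[nat_lit 0, nat_lit 5, nat_lit 62], [nat_lit 0, nat_lit 42, nat_lit 50], ⟨[nat_lit 0x22e6e0aa88b8a11925e7316c36b2a0], [nat_lit 175104, nat_lit 170496, nat_lit 166912, nat_lit 161408, nat_lit 157184, nat_lit 151840, nat_lit 150256, nat_lit 143880, nat_lit 139828, nat_lit 137924, nat_lit 133391, nat_lit 318, nat_lit 5856, nat_lit 8680, nat_lit 13872, nat_lit 16864, nat_lit 22400, nat_lit 26240, nat_lit 29696, nat_lit 33280, nat_lit 41925, nat_lit 37093, nat_lit 32868, nat_lit 28698, nat_lit 24581, nat_lit 20489, nat_lit 16397, nat_lit 12307, nat_lit 8201, nat_lit 4101, nat_lit 4]⟩⟩⟩]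
theorem shn201 : Suf hnT 19005990 (ldrop (lapp hnwr11 [2, 0, 1]) 29) (apW dcM phn200) (tgtN dcM phn200.e) := Suf.fin' (l := lhn201) (by decide +kernel)
def lhn200 : List AP := [⟨[nat_lit 665, nat_lit 226, nat_lit 223], [], (nat_lit 546), ⟨[nat_lit 0, nat_lit 14, nat_lit 50], [nat_lit 10, nat_lit 46], ⟨[nat_lit 0x62a91b3a4810cc0826af6aef309487], [nat_lit 175104, nat_lit 171008, nat_lit 165888, nat_lit 163584, nat_lit 156736, nat_lit 153760, nat_lit 150704, nat_lit 143824, nat_lit 143076, nat_lit 135816, nat_lit 132719, nat_lit 810, nat_lit 4112, nat_lit 10032, nat_lit 12384, nat_lit 18112, nat_lit 20864, nat_lit 26496, nat_lit 28928, nat_lit 34304, nat_lit 37888, nat_lit 41390, nat_lit 37252, nat_lit 33288, nat_lit 28763, nat_lit 24735, nat_lit 21514, nat_lit 16385, nat_lit 12421, nat_lit 4104]⟩⟩⟩,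
  ⟨[], [], (nat_lit 1120), ⟨[nat_lit 25, nat_lit 69], [nat_lit 41, nat_lit 48], ⟨[nat_lit 0x3cd4ea3d806ae068de4148d16154a4], [nat_lit 174080, nat_lit 169984, nat_lit 166400, nat_lit 161280, nat_lit 159552, nat_lit 154816, nat_lit 147472, nat_lit 145776, nat_lit 141164, nat_lit 136912, nat_lit 131379, nat_lit 1778, nat_lit 5320, nat_lit 8208, nat_lit 14192, nat_lit 16512, nat_lit 22272, nat_lit 25984, nat_lit 28928, nat_lit 33792, nat_lit 37888, nat_lit 41184, nat_lit 37118, nat_lit 32930, nat_lit 28696, nat_lit 24595, nat_lit 20508, nat_lit 16395, nat_lit 12292, nat_lit 8201, nat_lit 4113, nat_lit 4]⟩⟩⟩]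
theorem shn200 : Suf hnT 19005990 (ldrop (lapp hnwr11 [2, 0, 1]) 23) (apW dcM phn199) (tgtN dcM phn199.e) := Suf.seg (l := lhn200) (by decide +kernel) shn201
def lhn199 : List AP := [⟨[], [], (nat_lit 555), ⟨[nat_lit 0, nat_lit 6, nat_lit 53], [nat_lit 0, nat_lit 20, nat_lit 93], ⟨[nat_lit 0xb0e7465544785d24444bbb4a93c0c0], [nat_lit 174080, nat_lit 170496, nat_lit 163584, nat_lit 159168, nat_lit 153760, nat_lit 148912, nat_lit 144184, nat_lit 139476, nat_lit 138646, nat_lit 134010, nat_lit 1024, nat_lit 5856, nat_lit 9784, nat_lit 13648, nat_lit 16448, nat_lit 21504, nat_lit 25600, nat_lit 29696, nat_lit 33792, nat_lit 41878, nat_lit 37926, nat_lit 33497, nat_lit 28675, nat_lit 24595, nat_lit 20483, nat_lit 16462, nat_lit 12305, nat_lit 8203, nat_lit 4097, nat_lit 2]⟩⟩⟩,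
  ⟨[nat_lit 228, nat_lit 265, nat_lit 232, nat_lit 229], [], (nat_lit 500), ⟨[nat_lit 9, nat_lit 47], [nat_lit 88, nat_lit 54], ⟨[nat_lit 0xb8a0829c8c7b8cd90eab8855404d36], [nat_lit 175104, nat_lit 164864, nat_lit 161792, nat_lit 153120, nat_lit 149648, nat_lit 146688, nat_lit 142564, nat_lit 138244, nat_lit 134922, nat_lit 1918, nat_lit 5668, nat_lit 9560, nat_lit 12976, nat_lit 17664, nat_lit 21184, nat_lit 26112, nat_lit 29952, nat_lit 33792, nat_lit 41967, nat_lit 38366, nat_lit 32839, nat_lit 28756, nat_lit 24587, nat_lit 20481, nat_lit 16517, nat_lit 12290, nat_lit 8320, nat_lit 4097, nat_lit 2]⟩⟩⟩]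
theorem shn199 : Suf hnT 19005990 (ldrop (lapp hnwr11 [2, 0, 1]) 14) (apW dcM phn198) (tgtN dcM phn198.e) := Suf.seg (l := lhn199) (by decide +kernel) shn200
def lhn198 : List AP := [⟨[nat_lit 667, nat_lit 222, nat_lit 232], [], (nat_lit 554), ⟨[nat_lit 0, nat_lit 40, nat_lit 54], [nat_lit 0, nat_lit 45, nat_lit 91], ⟨[nat_lit 0xa560e8a1ab3d82a79a6400d92126e5], [nat_lit 173056, nat_lit 165888, nat_lit 161408, nat_lit 157120, nat_lit 152896, nat_lit 148496, nat_lit 145160, nat_lit 140096, nat_lit 136446, nat_lit 132590, nat_lit 1268, nat_lit 5444, nat_lit 8320, nat_lit 13968, nat_lit 18208, nat_lit 21184, nat_lit 25856, nat_lit 41848, nat_lit 37001, nat_lit 33008, nat_lit 29018, nat_lit 24894, nat_lit 20638, nat_lit 16420, nat_lit 12354, nat_lit 8202, nat_lit 4101, nat_lit 2]⟩⟩⟩,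
  ⟨[], [], (nat_lit 1104), ⟨[nat_lit 0, nat_lit 16, nat_lit 49], [nat_lit 0, nat_lit 33, nat_lit 47], ⟨[nat_lit 0x8cd9692c81436a93aa0229a8fb8dc0], [nat_lit 173056, nat_lit 169984, nat_lit 166144, nat_lit 161792, nat_lit 157952, nat_lit 153120, nat_lit 151120, nat_lit 145784, nat_lit 139956, nat_lit 137598, nat_lit 133051, nat_lit 986, nat_lit 5228, nat_lit 10168, nat_lit 13248, nat_lit 17920, nat_lit 22336, nat_lit 24704, nat_lit 29696, nat_lit 33280, nat_lit 37888, nat_lit 41294, nat_lit 37214, nat_lit 33324, nat_lit 28718, nat_lit 24874, nat_lit 20505, nat_lit 16431, nat_lit 12293, nat_lit 8194]⟩⟩⟩]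
theorem shn198 : Suf hnT 19005990 (ldrop (lapp hnwr11 [2, 0, 1]) 6) (apW dcM phn197) (tgtN dcM phn197.e) := Suf.seg (l := lhn198) (by decide +kernel) shn199
def lhn197 : List AP := [⟨[nat_lit 15, nat_lit 631, nat_lit 629, nat_lit 631, nat_lit 40, nat_lit 15], [], (nat_lit 150), ⟨[nat_lit 42, nat_lit 59], [nat_lit 0, nat_lit 86, nat_lit 91], ⟨[nat_lit 0x45a910d5e439609680d7931ca9886b], [nat_lit 175104, nat_lit 170496, nat_lit 164352, nat_lit 161792, nat_lit 159168, nat_lit 155392, nat_lit 148368, nat_lit 144776, nat_lit 139960, nat_lit 139132, nat_lit 133302, nat_lit 1336, nat_lit 5072, nat_lit 8200, nat_lit 13984, nat_lit 16864, nat_lit 21632, nat_lit 26368, nat_lit 29952, nat_lit 33792, nat_lit 41805, nat_lit 38062, nat_lit 33421, nat_lit 29236, nat_lit 24603, nat_lit 20491, nat_lit 12327, nat_lit 8195, nat_lit 4097]⟩⟩⟩,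
  ⟨[nat_lit 76, nat_lit 85, nat_lit 76, nat_lit 104, nat_lit 104], [], (nat_lit 534), ⟨[nat_lit 3, nat_lit 51], [nat_lit 2, nat_lit 69], ⟨[nat_lit 0x3110f8b573bd18a91c551a42e800b6], [nat_lit 173056, nat_lit 168448, nat_lit 165888, nat_lit 162560, nat_lit 159104, nat_lit 153984, nat_lit 148048, nat_lit 145808, nat_lit 143084, nat_lit 136950, nat_lit 134678, nat_lit 568, nat_lit 4340, nat_lit 8680, nat_lit 12912, nat_lit 16672, nat_lit 21568, nat_lit 24704, nat_lit 30464, nat_lit 34304, nat_lit 41439, nat_lit 37259, nat_lit 33281, nat_lit 28771, nat_lit 24590, nat_lit 20501, nat_lit 16420, nat_lit 12293, nat_lit 4161, nat_lit 2]⟩⟩⟩]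
theorem hncr11_1 : Suf hnT 19005990 (lapp hnwr11 [2, 0, 1]) (iC2 :: apW dcM q0) (tgtN dcM q0.e) := Suf.seg (l := lhn197) (by decide +kernel) shn198

def phn202 : AP := ⟨[nat_lit 664, nat_lit 222], [], (nat_lit 508), ⟨[nat_lit 20, nat_lit 90], [nat_lit 0, nat_lit 85], ⟨[nat_lit 0x4bcb1b5417341cb41192a0c223cdaa], [nat_lit 175104, nat_lit 171008, nat_lit 164352, nat_lit 162816, nat_lit 158848, nat_lit 153760, nat_lit 148704, nat_lit 144776, nat_lit 140820, nat_lit 138382, nat_lit 134860, nat_lit 1814, nat_lit 5900, nat_lit 9384, nat_lit 12672, nat_lit 16864, nat_lit 22272, nat_lit 25216, nat_lit 30208, nat_lit 33280, nat_lit 41909, nat_lit 37318, nat_lit 33531, nat_lit 28699, nat_lit 24634, nat_lit 20509, nat_lit 16385, nat_lit 12321, nat_lit 16]⟩⟩⟩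
def phn203 : AP := ⟨[nat_lit 145, nat_lit 142, nat_lit 147], [], (nat_lit 1082), ⟨[nat_lit 75, nat_lit 62], [nat_lit 0, nat_lit 15, nat_lit 91], ⟨[nat_lit 0x731493ca056bd0bb868334493ad802], [nat_lit 173056, nat_lit 169472, nat_lit 164096, nat_lit 160256, nat_lit 156288, nat_lit 152128, nat_lit 148032, nat_lit 143960, nat_lit 139308, nat_lit 135840, nat_lit 131114, nat_lit 4, nat_lit 5856, nat_lit 8888, nat_lit 12976, nat_lit 17920, nat_lit 21248, nat_lit 24704, nat_lit 28928, nat_lit 34304, nat_lit 37888, nat_lit 41472, nat_lit 37312, nat_lit 33400, nat_lit 28968, nat_lit 25088, nat_lit 20494, nat_lit 16395, nat_lit 12295, nat_lit 8193, nat_lit 4104, nat_lit 2]⟩⟩⟩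
def phn204 : AP := ⟨[nat_lit 671, nat_lit 294, nat_lit 286], [], (nat_lit 1204), ⟨[nat_lit 17, nat_lit 67], [nat_lit 71, nat_lit 68], ⟨[nat_lit 0xb5cf2645a55d42f3220a9904370134], [nat_lit 170496, nat_lit 164096, nat_lit 161664, nat_lit 156352, nat_lit 153408, nat_lit 148176, nat_lit 144792, nat_lit 139916, nat_lit 135178, nat_lit 132620, nat_lit 32, nat_lit 6084, nat_lit 10128, nat_lit 12320, nat_lit 18336, nat_lit 26496, nat_lit 34304, nat_lit 37888, nat_lit 41904, nat_lit 38381, nat_lit 33879, nat_lit 29011, nat_lit 24871, nat_lit 20628, nat_lit 16524, nat_lit 12308, nat_lit 8201, nat_lit 4]⟩⟩⟩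
def phn205 : AP := ⟨[nat_lit 635, nat_lit 634, nat_lit 26], [], (nat_lit 1036), ⟨[nat_lit 72, nat_lit 55], [nat_lit 21, nat_lit 54], ⟨[nat_lit 0x48a20706e6456543d9a39b16f82885], [nat_lit 168960, nat_lit 157056, nat_lit 152320, nat_lit 148000, nat_lit 144296, nat_lit 139272, nat_lit 138648, nat_lit 131255, nat_lit 1938, nat_lit 4112, nat_lit 9072, nat_lit 14112, nat_lit 16448, nat_lit 21312, nat_lit 25600, nat_lit 29440, nat_lit 33280, nat_lit 41516, nat_lit 38393, nat_lit 33519, nat_lit 28792, nat_lit 24594, nat_lit 20617, nat_lit 16394, nat_lit 12304, nat_lit 8706, nat_lit 4]⟩⟩⟩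
def lhn206 : List AP := [⟨[nat_lit 633, nat_lit 16, nat_lit 39], [], (nat_lit 1032), ⟨[nat_lit 0, nat_lit 31, nat_lit 48], [nat_lit 37, nat_lit 70], ⟨[nat_lit 0x10519daa6585b41bee88152a93987], [nat_lit 173056, nat_lit 170496, nat_lit 164608, nat_lit 162176, nat_lit 156928, nat_lit 153856, nat_lit 149808, nat_lit 146816, nat_lit 139396, nat_lit 135928, nat_lit 133203, nat_lit 1440, nat_lit 5668, nat_lit 8360, nat_lit 14096, nat_lit 16864, nat_lit 20928, nat_lit 26240, nat_lit 29184, nat_lit 37888, nat_lit 41609, nat_lit 38143, nat_lit 32777, nat_lit 29730, nat_lit 25151, nat_lit 20610, nat_lit 16896, nat_lit 12289, nat_lit 8193, nat_lit 4097, nat_lit 2]⟩⟩⟩]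
theorem shn206 : Suf hnT 19005990 (ldrop (lapp hnwr11 [3, 0, 1]) 29) (apW dcM phn205) (tgtN dcM phn205.e) := Suf.fin' (l := lhn206) (by decide +kernel)
def lhn205 : List AP := [⟨[nat_lit 659], [], (nat_lit 392), ⟨[nat_lit 86, nat_lit 52], [nat_lit 17, nat_lit 65], ⟨[nat_lit 0x1c01394422bd4a44a98d5bd0eb1e86], [nat_lit 170496, nat_lit 164608, nat_lit 160896, nat_lit 155776, nat_lit 153024, nat_lit 147504, nat_lit 144616, nat_lit 140688, nat_lit 136944, nat_lit 131549, nat_lit 158, nat_lit 4612, nat_lit 9136, nat_lit 14144, nat_lit 18112, nat_lit 20800, nat_lit 25728, nat_lit 29696, nat_lit 33792, nat_lit 41960, nat_lit 38366, nat_lit 33967, nat_lit 29800, nat_lit 24883, nat_lit 20549, nat_lit 16421, nat_lit 13315, nat_lit 8209, nat_lit 4105, nat_lit 4]⟩⟩⟩,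
  ⟨[], [], (nat_lit 339), ⟨[nat_lit 0, nat_lit 72, nat_lit 68], [nat_lit 0, nat_lit 16, nat_lit 90], ⟨[nat_lit 0x30af653a745a0243bc0c925b5844a3], [nat_lit 174080, nat_lit 171008, nat_lit 167168, nat_lit 163200, nat_lit 156096, nat_lit 153632, nat_lit 150768, nat_lit 144920, nat_lit 142292, nat_lit 135898, nat_lit 131786, nat_lit 1770, nat_lit 5328, nat_lit 9648, nat_lit 12352, nat_lit 16448, nat_lit 20608, nat_lit 26112, nat_lit 29184, nat_lit 41506, nat_lit 38259, nat_lit 33291, nat_lit 28771, nat_lit 24711, nat_lit 20547, nat_lit 16647, nat_lit 12305, nat_lit 4129, nat_lit 16]⟩⟩⟩]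
theorem shn205 : Suf hnT 19005990 (ldrop (lapp hnwr11 [3, 0, 1]) 23) (apW dcM phn204) (tgtN dcM phn204.e) := Suf.seg (l := lhn205) (by decide +kernel) shn206
def lhn204 : List AP := [⟨[nat_lit 112, nat_lit 110, nat_lit 115, nat_lit 118, nat_lit 116], [], (nat_lit 310), ⟨[nat_lit 41, nat_lit 92], [nat_lit 17, nat_lit 55], ⟨[nat_lit 0x48d4e3344593e20b868c3a2d3a9170], [nat_lit 166400, nat_lit 162304, nat_lit 158016, nat_lit 155456, nat_lit 148896, nat_lit 146224, nat_lit 143184, nat_lit 136306, nat_lit 133584, nat_lit 428, nat_lit 5016, nat_lit 9408, nat_lit 12384, nat_lit 16448, nat_lit 21312, nat_lit 24704, nat_lit 29184, nat_lit 34304, nat_lit 37888, nat_lit 41409, nat_lit 36997, nat_lit 32999, nat_lit 28979, nat_lit 24577, nat_lit 20501, nat_lit 16394, nat_lit 12308, nat_lit 8203, nat_lit 4097]⟩⟩⟩,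
  ⟨[nat_lit 656, nat_lit 146, nat_lit 141, nat_lit 147], [], (nat_lit 732), ⟨[nat_lit 0, nat_lit 74, nat_lit 47], [nat_lit 16, nat_lit 70], ⟨[nat_lit 0x8c9e4bd9c619da162125aac109d04a], [nat_lit 170496, nat_lit 164096, nat_lit 163456, nat_lit 155840, nat_lit 154688, nat_lit 150032, nat_lit 146520, nat_lit 141140, nat_lit 137198, nat_lit 133919, nat_lit 1814, nat_lit 5544, nat_lit 8224, nat_lit 13680, nat_lit 16448, nat_lit 20544, nat_lit 25600, nat_lit 29440, nat_lit 34304, nat_lit 41493, nat_lit 38054, nat_lit 32999, nat_lit 28744, nat_lit 24615, nat_lit 20503, nat_lit 16416, nat_lit 12294, nat_lit 8195, nat_lit 4097, nat_lit 2]⟩⟩⟩]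
theorem shn204 : Suf hnT 19005990 (ldrop (lapp hnwr11 [3, 0, 1]) 14) (apW dcM phn203) (tgtN dcM phn203.e) := Suf.seg (l := lhn204) (by decide +kernel) shn205
def lhn203 : List AP := [⟨[nat_lit 260, nat_lit 232, nat_lit 259], [], (nat_lit 602), ⟨[nat_lit 8, nat_lit 63], [nat_lit 22, nat_lit 53], ⟨[nat_lit 0x5a272304e375ecd200a252630abe8c], [nat_lit 173056, nat_lit 168960, nat_lit 164608, nat_lit 160384, nat_lit 155712, nat_lit 152416, nat_lit 147504, nat_lit 143680, nat_lit 139992, nat_lit 138218, nat_lit 132558, nat_lit 2012, nat_lit 4128, nat_lit 9840, nat_lit 14144, nat_lit 17952, nat_lit 26368, nat_lit 30464, nat_lit 34304, nat_lit 37888, nat_lit 41620, nat_lit 38101, nat_lit 32886, nat_lit 29750, nat_lit 24618, nat_lit 20482, nat_lit 16644, nat_lit 12293, nat_lit 8203, nat_lit 8]⟩⟩⟩,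
  ⟨[], [], (nat_lit 1184), ⟨[nat_lit 0, nat_lit 83, nat_lit 57], [nat_lit 0, nat_lit 74, nat_lit 47], ⟨[nat_lit 0x21ec888d867a6ed7064500a8a5ceb0], [nat_lit 173056, nat_lit 165120, nat_lit 161536, nat_lit 156736, nat_lit 152576, nat_lit 147488, nat_lit 146128, nat_lit 140176, nat_lit 135848, nat_lit 131468, nat_lit 1698, nat_lit 5016, nat_lit 9440, nat_lit 12352, nat_lit 16864, nat_lit 20736, nat_lit 25600, nat_lit 28928, nat_lit 33792, nat_lit 37888, nat_lit 41132, nat_lit 36878, nat_lit 32968, nat_lit 28960, nat_lit 24584, nat_lit 20608, nat_lit 16393, nat_lit 12290, nat_lit 8193, nat_lit 4105, nat_lit 2]⟩⟩⟩]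
theorem shn203 : Suf hnT 19005990 (ldrop (lapp hnwr11 [3, 0, 1]) 6) (apW dcM phn202) (tgtN dcM phn202.e) := Suf.seg (l := lhn203) (by decide +kernel) shn204
def lhn202 : List AP := [⟨[nat_lit 39, nat_lit 41, nat_lit 15, nat_lit 38, nat_lit 629], [], (nat_lit 197), ⟨[nat_lit 17, nat_lit 66], [nat_lit 84, nat_lit 65], ⟨[nat_lit 0x94cf65aa8561aae208776c12103d11], [nat_lit 174080, nat_lit 171520, nat_lit 166400, nat_lit 160896, nat_lit 157504, nat_lit 153088, nat_lit 151248, nat_lit 144192, nat_lit 141288, nat_lit 138210, nat_lit 134017, nat_lit 1298, nat_lit 5136, nat_lit 9912, nat_lit 12976, nat_lit 17920, nat_lit 22080, nat_lit 25344, nat_lit 29184, nat_lit 33280, nat_lit 37888, nat_lit 41793, nat_lit 37920, nat_lit 32830, nat_lit 28767, nat_lit 24734, nat_lit 20756, nat_lit 16387, nat_lit 12320, nat_lit 8322, nat_lit 4105]⟩⟩⟩,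
  ⟨[nat_lit 102, nat_lit 78, nat_lit 106, nat_lit 79], [], (nat_lit 468), ⟨[nat_lit 0, nat_lit 88, nat_lit 89], [nat_lit 79, nat_lit 58], ⟨[nat_lit 0x3c564b08af625b01aa600d5c6a4ae8], [nat_lit 169472, nat_lit 157120, nat_lit 152128, nat_lit 148368, nat_lit 144392, nat_lit 141532, nat_lit 135206, nat_lit 131861, nat_lit 1396, nat_lit 4756, nat_lit 14144, nat_lit 17408, nat_lit 21504, nat_lit 24832, nat_lit 30464, nat_lit 33280, nat_lit 37888, nat_lit 41735, nat_lit 38019, nat_lit 33525, nat_lit 28720, nat_lit 24861, nat_lit 20568, nat_lit 16416, nat_lit 12352, nat_lit 5120, nat_lit 2]⟩⟩⟩]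
theorem hncr11_2 : Suf hnT 19005990 (lapp hnwr11 [3, 0, 1]) (iC3 :: apW dcM q0) (tgtN dcM q0.e) := Suf.seg (l := lhn202) (by decide +kernel) shn203

def phn207 : AP := ⟨[nat_lit 175, nat_lit 219, nat_lit 216, nat_lit 171], [], (nat_lit 440), ⟨[nat_lit 0, nat_lit 41, nat_lit 59], [nat_lit 0, nat_lit 29, nat_lit 46], ⟨[nat_lit 0x812eaabec264a23021ab4d267095c6], [nat_lit 175104, nat_lit 170496, nat_lit 167424, nat_lit 160128, nat_lit 158912, nat_lit 154432, nat_lit 147840, nat_lit 146768, nat_lit 140820, nat_lit 136084, nat_lit 132336, nat_lit 158, nat_lit 6068, nat_lit 10032, nat_lit 14304, nat_lit 17216, nat_lit 20544, nat_lit 25216, nat_lit 29952, nat_lit 34304, nat_lit 37888, nat_lit 41576, nat_lit 37339, nat_lit 32822, nat_lit 29250, nat_lit 25127, nat_lit 20553, nat_lit 16428, nat_lit 12294, nat_lit 8202, nat_lit 4104, nat_lit 16]⟩⟩⟩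
def phn208 : AP := ⟨[nat_lit 417, nat_lit 677, nat_lit 464, nat_lit 421], [], (nat_lit 1238), ⟨[nat_lit 0, nat_lit 37, nat_lit 68], [nat_lit 0, nat_lit 73, nat_lit 68], ⟨[nat_lit 0x22052845b60b2839aca04b957a98ef], [nat_lit 173056, nat_lit 169984, nat_lit 165632, nat_lit 160384, nat_lit 156480, nat_lit 152864, nat_lit 147712, nat_lit 144784, nat_lit 140680, nat_lit 136804, nat_lit 132931, nat_lit 1014, nat_lit 4328, nat_lit 8464, nat_lit 13152, nat_lit 17568, nat_lit 20800, nat_lit 25856, nat_lit 30208, nat_lit 33280, nat_lit 41700, nat_lit 37203, nat_lit 33404, nat_lit 29745, nat_lit 24706, nat_lit 20751, nat_lit 16460, nat_lit 12310, nat_lit 8201, nat_lit 4112, nat_lit 2]⟩⟩⟩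
def phn209 : AP := ⟨[nat_lit 175, nat_lit 215], [], (nat_lit 405), ⟨[nat_lit 35, nat_lit 54], [nat_lit 32, nat_lit 46], ⟨[nat_lit 0x140a18b9a741a49530755bc17992d4], [nat_lit 175104, nat_lit 171520, nat_lit 165888, nat_lit 163328, nat_lit 155968, nat_lit 153632, nat_lit 151312, nat_lit 144120, nat_lit 142132, nat_lit 136512, nat_lit 132326, nat_lit 664, nat_lit 4340, nat_lit 10144, nat_lit 12640, nat_lit 16416, nat_lit 20864, nat_lit 26368, nat_lit 28928, nat_lit 33792, nat_lit 41660, nat_lit 37057, nat_lit 33019, nat_lit 28950, nat_lit 24615, nat_lit 20549, nat_lit 16393, nat_lit 12310, nat_lit 4104, nat_lit 2]⟩⟩⟩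
def phn210 : AP := ⟨[nat_lit 174], [], (nat_lit 390), ⟨[nat_lit 85, nat_lit 91], [nat_lit 24, nat_lit 92], ⟨[nat_lit 0xbbecd08a33848605156622507a3aac], [nat_lit 168448, nat_lit 164352, nat_lit 161664, nat_lit 156224, nat_lit 152416, nat_lit 148352, nat_lit 143456, nat_lit 141400, nat_lit 137044, nat_lit 133067, nat_lit 2012, nat_lit 4408, nat_lit 10128, nat_lit 12880, nat_lit 18336, nat_lit 20864, nat_lit 24704, nat_lit 33792, nat_lit 37888, nat_lit 41770, nat_lit 37300, nat_lit 32948, nat_lit 28724, nat_lit 24623, nat_lit 20485, nat_lit 16399, nat_lit 12307, nat_lit 8200, nat_lit 4097, nat_lit 2]⟩⟩⟩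
def lhn211 : List AP := [⟨[], [], (nat_lit 1034), ⟨[nat_lit 30, nat_lit 57], [nat_lit 79], ⟨[nat_lit 0x90965981048d190b0c2d555e939aee], [nat_lit 173056, nat_lit 168448, nat_lit 165632, nat_lit 160768, nat_lit 156608, nat_lit 151712, nat_lit 147664, nat_lit 143688, nat_lit 140604, nat_lit 136024, nat_lit 135160, nat_lit 1972, nat_lit 4328, nat_lit 9136, nat_lit 13648, nat_lit 17344, nat_lit 20800, nat_lit 26496, nat_lit 29696, nat_lit 34304, nat_lit 41114, nat_lit 37125, nat_lit 32780, nat_lit 28733, nat_lit 24597, nat_lit 20632, nat_lit 16462, nat_lit 12309, nat_lit 8193, nat_lit 4104]⟩⟩⟩]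
theorem shn211 : Suf hnT 2048 (ldrop (lapp hnwr11 [1, 0, 1]) 29) (apW dcM phn210) (tgtN dcM phn210.e) := Suf.fin' (l := lhn211) (by decide +kernel)
def lhn210 : List AP := [⟨[nat_lit 218, nat_lit 215, nat_lit 219, nat_lit 170], [], (nat_lit 440), ⟨[nat_lit 0, nat_lit 76, nat_lit 64], [nat_lit 0, nat_lit 32, nat_lit 70], ⟨[nat_lit 0x2246065621558d7595af81d1214dd4], [nat_lit 175104, nat_lit 171008, nat_lit 165376, nat_lit 163072, nat_lit 158656, nat_lit 155616, nat_lit 149440, nat_lit 144576, nat_lit 139432, nat_lit 138456, nat_lit 134983, nat_lit 1730, nat_lit 4468, nat_lit 9384, nat_lit 13440, nat_lit 18304, nat_lit 26240, nat_lit 30208, nat_lit 33792, nat_lit 41428, nat_lit 36897, nat_lit 32841, nat_lit 29813, nat_lit 24639, nat_lit 20510, nat_lit 16431, nat_lit 12293, nat_lit 4129]⟩⟩⟩,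
  ⟨[nat_lit 175, nat_lit 219, nat_lit 216, nat_lit 171], [], (nat_lit 440), ⟨[nat_lit 0, nat_lit 12, nat_lit 62], [nat_lit 44, nat_lit 54], ⟨[nat_lit 0x82920ade4141a8e1b26d79d76110b1], [nat_lit 174080, nat_lit 161408, nat_lit 159296, nat_lit 155232, nat_lit 149824, nat_lit 143896, nat_lit 141976, nat_lit 137014, nat_lit 135040, nat_lit 1652, nat_lit 4224, nat_lit 8208, nat_lit 13504, nat_lit 16896, nat_lit 21568, nat_lit 24960, nat_lit 30464, nat_lit 33792, nat_lit 41322, nat_lit 36865, nat_lit 32984, nat_lit 28699, nat_lit 24859, nat_lit 20484, nat_lit 16396, nat_lit 12305, nat_lit 8200, nat_lit 4160]⟩⟩⟩]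
theorem shn210 : Suf hnT 2048 (ldrop (lapp hnwr11 [1, 0, 1]) 23) (apW dcM phn209) (tgtN dcM phn209.e) := Suf.seg (l := lhn210) (by decide +kernel) shn211
def lhn209 : List AP := [⟨[], [], (nat_lit 416), ⟨[nat_lit 0, nat_lit 71, nat_lit 64], [nat_lit 0, nat_lit 28, nat_lit 53], ⟨[nat_lit 0x9aec0704e225df4629068960d1a655], [nat_lit 173056, nat_lit 168448, nat_lit 165120, nat_lit 160768, nat_lit 155776, nat_lit 152704, nat_lit 148944, nat_lit 143808, nat_lit 140980, nat_lit 137614, nat_lit 132484, nat_lit 1760, nat_lit 9664, nat_lit 17760, nat_lit 22208, nat_lit 25984, nat_lit 29952, nat_lit 33280, nat_lit 41858, nat_lit 38111, nat_lit 33375, nat_lit 28738, nat_lit 24582, nat_lit 20483, nat_lit 16898, nat_lit 12290]⟩⟩⟩,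
  ⟨[nat_lit 219, nat_lit 178], [], (nat_lit 401), ⟨[nat_lit 37, nat_lit 92], [nat_lit 79, nat_lit 94], ⟨[nat_lit 0x7260d21668ab0261480ba0cef55af1], [nat_lit 168448, nat_lit 164608, nat_lit 163584, nat_lit 155840, nat_lit 153536, nat_lit 147648, nat_lit 144112, nat_lit 139488, nat_lit 136914, nat_lit 133019, nat_lit 1652, nat_lit 4964, nat_lit 9288, nat_lit 13664, nat_lit 16608, nat_lit 20928, nat_lit 25728, nat_lit 28928, nat_lit 33792, nat_lit 37888, nat_lit 41000, nat_lit 37303, nat_lit 32918, nat_lit 28743, nat_lit 24711, nat_lit 21006, nat_lit 16417, nat_lit 12307, nat_lit 8193, nat_lit 4104, nat_lit 2]⟩⟩⟩]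
theorem shn209 : Suf hnT 2048 (ldrop (lapp hnwr11 [1, 0, 1]) 14) (apW dcM phn208) (tgtN dcM phn208.e) := Suf.seg (l := lhn209) (by decide +kernel) shn210
def lhn208 : List AP := [⟨[nat_lit 214, nat_lit 212, nat_lit 212, nat_lit 178], [], (nat_lit 404), ⟨[nat_lit 0, nat_lit 72, nat_lit 90], [nat_lit 72, nat_lit 53], ⟨[nat_lit 0x72d01ba6077c642658756940625153], [nat_lit 175104, nat_lit 166912, nat_lit 162304, nat_lit 159104, nat_lit 152992, nat_lit 148240, nat_lit 144136, nat_lit 143288, nat_lit 139054, nat_lit 131180, nat_lit 1928, nat_lit 4280, nat_lit 9560, nat_lit 12448, nat_lit 17408, nat_lit 21504, nat_lit 25216, nat_lit 28928, nat_lit 33280, nat_lit 41894, nat_lit 37952, nat_lit 32885, nat_lit 29289, nat_lit 24593, nat_lit 20508, nat_lit 16426, nat_lit 12322, nat_lit 8194, nat_lit 4101]⟩⟩⟩,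
  ⟨[nat_lit 174, nat_lit 218, nat_lit 173, nat_lit 171], [], (nat_lit 860), ⟨[nat_lit 10, nat_lit 53], [nat_lit 22, nat_lit 46], ⟨[nat_lit 0x898814b4b64281259dd57c04cb8e74], [nat_lit 168960, nat_lit 167680, nat_lit 161792, nat_lit 157888, nat_lit 154176, nat_lit 149168, nat_lit 147040, nat_lit 142960, nat_lit 136692, nat_lit 133220, nat_lit 460, nat_lit 5024, nat_lit 8848, nat_lit 13712, nat_lit 17824, nat_lit 24960, nat_lit 29696, nat_lit 34304, nat_lit 37888, nat_lit 41953, nat_lit 38208, nat_lit 32942, nat_lit 28987, nat_lit 24580, nat_lit 20749, nat_lit 16399, nat_lit 8210]⟩⟩⟩]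
theorem shn208 : Suf hnT 2048 (ldrop (lapp hnwr11 [1, 0, 1]) 6) (apW dcM phn207) (tgtN dcM phn207.e) := Suf.seg (l := lhn208) (by decide +kernel) shn209
def lhn207 : List AP := [⟨[nat_lit 23, nat_lit 31, nat_lit 31, nat_lit 28, nat_lit 24, nat_lit 21], [], (nat_lit 338), ⟨[nat_lit 34, nat_lit 93], [nat_lit 0, nat_lit 84, nat_lit 67], ⟨[nat_lit 0xa9c3653a90bae4f0192828e332098d], [nat_lit 174080, nat_lit 169984, nat_lit 166912, nat_lit 163072, nat_lit 156736, nat_lit 154496, nat_lit 151296, nat_lit 145312, nat_lit 142164, nat_lit 136170, nat_lit 132294, nat_lit 1624, nat_lit 5768, nat_lit 8208, nat_lit 12944, nat_lit 18336, nat_lit 21632, nat_lit 25344, nat_lit 30208, nat_lit 33280, nat_lit 41116, nat_lit 37252, nat_lit 33440, nat_lit 29216, nat_lit 24612, nat_lit 20545, nat_lit 16395, nat_lit 12311, nat_lit 8200]⟩⟩⟩,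
  ⟨[nat_lit 177, nat_lit 663, nat_lit 217, nat_lit 170], [], (nat_lit 440), ⟨[nat_lit 0, nat_lit 31], [nat_lit 86, nat_lit 57], ⟨[nat_lit 0x24ea9642422c68b029e8199a70baf6], [nat_lit 173056, nat_lit 168448, nat_lit 165376, nat_lit 159872, nat_lit 158080, nat_lit 152608, nat_lit 148496, nat_lit 143744, nat_lit 140300, nat_lit 136986, nat_lit 132098, nat_lit 760, nat_lit 5772, nat_lit 10224, nat_lit 12592, nat_lit 16768, nat_lit 21376, nat_lit 25728, nat_lit 29184, nat_lit 34304, nat_lit 37888, nat_lit 41664, nat_lit 37056, nat_lit 32960, nat_lit 29029, nat_lit 24884, nat_lit 20506, nat_lit 16395, nat_lit 12294, nat_lit 4105]⟩⟩⟩]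
theorem hncr11_3 : Suf hnT 2048 (lapp hnwr11 [1, 0, 1]) (apW dcM q1) (tgtN dcM q1.e) := Suf.seg (l := lhn207) (by decide +kernel) shn208

def phn212 : AP := ⟨[nat_lit 222, nat_lit 226, nat_lit 232, nat_lit 261], [], (nat_lit 638), ⟨[nat_lit 0, nat_lit 77, nat_lit 57], [nat_lit 77, nat_lit 58], ⟨[nat_lit 0x7242679103044576c19552e56a14f3], [nat_lit 164352, nat_lit 160512, nat_lit 156096, nat_lit 153440, nat_lit 150704, nat_lit 145040, nat_lit 139324, nat_lit 135936, nat_lit 132854, nat_lit 606, nat_lit 5668, nat_lit 9272, nat_lit 12320, nat_lit 18112, nat_lit 21504, nat_lit 25216, nat_lit 41750, nat_lit 37958, nat_lit 33413, nat_lit 28933, nat_lit 24632, nat_lit 20552, nat_lit 16387, nat_lit 12352, nat_lit 8449, nat_lit 4112]⟩⟩⟩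
def phn213 : AP := ⟨[nat_lit 265, nat_lit 666, nat_lit 231, nat_lit 264, nat_lit 222], [], (nat_lit 634), ⟨[nat_lit 0, nat_lit 12, nat_lit 64], [nat_lit 0, nat_lit 81, nat_lit 60], ⟨[nat_lit 0x538d5b110d0cc03844522ad944bee7], [nat_lit 168448, nat_lit 164096, nat_lit 160896, nat_lit 157248, nat_lit 152416, nat_lit 149808, nat_lit 143584, nat_lit 139932, nat_lit 136218, nat_lit 132229, nat_lit 1166, nat_lit 4328, nat_lit 8768, nat_lit 14192, nat_lit 16416, nat_lit 21888, nat_lit 26368, nat_lit 29440, nat_lit 37888, nat_lit 41378, nat_lit 37296, nat_lit 33280, nat_lit 28678, nat_lit 24619, nat_lit 20550, nat_lit 12294, nat_lit 8202, nat_lit 4097]⟩⟩⟩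
def phn214 : AP := ⟨[], [], (nat_lit 306), ⟨[nat_lit 9], [nat_lit 0, nat_lit 76, nat_lit 52], ⟨[nat_lit 0x2a9b390af08bd27aa06bb382c21a80], [nat_lit 169472, nat_lit 164864, nat_lit 160768, nat_lit 156352, nat_lit 153536, nat_lit 147840, nat_lit 144480, nat_lit 143104, nat_lit 135252, nat_lit 132080, nat_lit 4, nat_lit 4380, nat_lit 9216, nat_lit 13568, nat_lit 18272, nat_lit 21504, nat_lit 25600, nat_lit 29952, nat_lit 33280, nat_lit 37888, nat_lit 41936, nat_lit 38085, nat_lit 32962, nat_lit 28984, nat_lit 24580, nat_lit 20499, nat_lit 16421, nat_lit 12422, nat_lit 4112]⟩⟩⟩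
def lhn215 : List AP := [⟨[nat_lit 73, nat_lit 46], [], (nat_lit 122), ⟨[nat_lit 65], [nat_lit 45, nat_lit 89], ⟨[nat_lit 0x9c1d1458263a415bac827c98da28a3], [nat_lit 173056, nat_lit 170496, nat_lit 164608, nat_lit 162304, nat_lit 154368, nat_lit 149600, nat_lit 145464, nat_lit 139524, nat_lit 136598, nat_lit 134064, nat_lit 688, nat_lit 5408, nat_lit 9176, nat_lit 12320, nat_lit 17248, nat_lit 20992, nat_lit 25472, nat_lit 29696, nat_lit 33280, nat_lit 37888, nat_lit 41513, nat_lit 37131, nat_lit 33470, nat_lit 29018, nat_lit 24710, nat_lit 20489, nat_lit 16649, nat_lit 12289, nat_lit 8210, nat_lit 4101]⟩⟩⟩,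
  ⟨[nat_lit 36, nat_lit 633, nat_lit 40], [], (nat_lit 1032), ⟨[nat_lit 0, nat_lit 24], [nat_lit 44, nat_lit 63], ⟨[nat_lit 0x2eb31428a6b08e1a6563bca644437], [nat_lit 173056, nat_lit 168448, nat_lit 165632, nat_lit 161152, nat_lit 158208, nat_lit 153152, nat_lit 148128, nat_lit 143712, nat_lit 140652, nat_lit 136356, nat_lit 133026, nat_lit 1076, nat_lit 4160, nat_lit 8544, nat_lit 14128, nat_lit 17600, nat_lit 20736, nat_lit 25088, nat_lit 29184, nat_lit 33792, nat_lit 37888, nat_lit 41176, nat_lit 37216, nat_lit 33341, nat_lit 28736, nat_lit 24583, nat_lit 21003, nat_lit 16653, nat_lit 12323, nat_lit 8259]⟩⟩⟩]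
theorem shn215 : Suf hnT 19005990 (ldrop (lapp hnwr12 [1, 0, 1]) 23) (apW dcM phn214) (tgtN dcM phn214.e) := Suf.fin' (l := lhn215) (by decide +kernel)
def lhn214 : List AP := [⟨[nat_lit 355, nat_lit 354, nat_lit 285, nat_lit 284], [], (nat_lit 1184), ⟨[nat_lit 17, nat_lit 68], [nat_lit 0, nat_lit 44, nat_lit 89], ⟨[nat_lit 0x428237ce2c6ba50352c548960256e7], [nat_lit 169984, nat_lit 164864, nat_lit 160512, nat_lit 159488, nat_lit 153344, nat_lit 149360, nat_lit 146992, nat_lit 143108, nat_lit 137928, nat_lit 134773, nat_lit 1166, nat_lit 5688, nat_lit 9384, nat_lit 13824, nat_lit 18112, nat_lit 21376, nat_lit 24704, nat_lit 41837, nat_lit 38188, nat_lit 33964, nat_lit 28707, nat_lit 24623, nat_lit 20550, nat_lit 16398, nat_lit 12311, nat_lit 8]⟩⟩⟩,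
  ⟨[nat_lit 657], [], (nat_lit 324), ⟨[nat_lit 88, nat_lit 48], [nat_lit 0, nat_lit 82, nat_lit 89], ⟨[nat_lit 0x3452d78eec72247a4c50aac0a292c1], [nat_lit 168448, nat_lit 165120, nat_lit 157504, nat_lit 152704, nat_lit 149168, nat_lit 147048, nat_lit 141192, nat_lit 136450, nat_lit 132675, nat_lit 698, nat_lit 4104, nat_lit 9032, nat_lit 12416, nat_lit 17696, nat_lit 21888, nat_lit 26368, nat_lit 34304, nat_lit 41210, nat_lit 37255, nat_lit 32968, nat_lit 29011, nat_lit 24598, nat_lit 20511, nat_lit 16430, nat_lit 8227, nat_lit 4097, nat_lit 2]⟩⟩⟩]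
theorem shn214 : Suf hnT 19005990 (ldrop (lapp hnwr12 [1, 0, 1]) 15) (apW dcM phn213) (tgtN dcM phn213.e) := Suf.seg (l := lhn214) (by decide +kernel) shn215
def lhn213 : List AP := [⟨[nat_lit 356, nat_lit 353, nat_lit 285, nat_lit 351, nat_lit 284], [], (nat_lit 672), ⟨[nat_lit 0, nat_lit 9, nat_lit 50], [nat_lit 0, nat_lit 82, nat_lit 50], ⟨[nat_lit 0x9d03059df140ea9bb40eb104554986], [nat_lit 175104, nat_lit 165632, nat_lit 162176, nat_lit 155712, nat_lit 153248, nat_lit 149504, nat_lit 146616, nat_lit 142560, nat_lit 137876, nat_lit 134581, nat_lit 158, nat_lit 5436, nat_lit 10120, nat_lit 14208, nat_lit 18208, nat_lit 20608, nat_lit 25088, nat_lit 34304, nat_lit 37888, nat_lit 41393, nat_lit 36969, nat_lit 33836, nat_lit 28944, nat_lit 25128, nat_lit 21000, nat_lit 16652, nat_lit 12417, nat_lit 8201, nat_lit 4097]⟩⟩⟩,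
  ⟨[nat_lit 357, nat_lit 355, nat_lit 669, nat_lit 289, nat_lit 284], [], (nat_lit 1146), ⟨[nat_lit 22, nat_lit 46], [nat_lit 35, nat_lit 50], ⟨[nat_lit 0x70ce895dec4d95329a15209ab08234], [nat_lit 174080, nat_lit 165632, nat_lit 161536, nat_lit 158592, nat_lit 153728, nat_lit 150272, nat_lit 144576, nat_lit 142424, nat_lit 135732, nat_lit 134407, nat_lit 1108, nat_lit 4608, nat_lit 9328, nat_lit 13264, nat_lit 18048, nat_lit 20736, nat_lit 25856, nat_lit 29440, nat_lit 33280, nat_lit 41173, nat_lit 36889, nat_lit 32998, nat_lit 28974, nat_lit 24759, nat_lit 20481, nat_lit 16452, nat_lit 12304, nat_lit 4104]⟩⟩⟩]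
theorem shn213 : Suf hnT 19005990 (ldrop (lapp hnwr12 [1, 0, 1]) 7) (apW dcM phn212) (tgtN dcM phn212.e) := Suf.seg (l := lhn213) (by decide +kernel) shn214
def lhn212 : List AP := [⟨[nat_lit 39, nat_lit 633, nat_lit 42, nat_lit 629, nat_lit 15, nat_lit 15], [], (nat_lit 150), ⟨[nat_lit 0, nat_lit 16, nat_lit 61], [nat_lit 45, nat_lit 52], ⟨[nat_lit 0x6807074486b3ef23d42b4aa6ca1448], [nat_lit 171520, nat_lit 159872, nat_lit 156736, nat_lit 151904, nat_lit 147872, nat_lit 145320, nat_lit 139480, nat_lit 135600, nat_lit 131205, nat_lit 846, nat_lit 4408, nat_lit 8320, nat_lit 13552, nat_lit 16512, nat_lit 21120, nat_lit 25600, nat_lit 28928, nat_lit 33792, nat_lit 37888, nat_lit 41389, nat_lit 37264, nat_lit 33522, nat_lit 29201, nat_lit 24866, nat_lit 20738, nat_lit 16902, nat_lit 13317, nat_lit 8210, nat_lit 4112, nat_lit 128]⟩⟩⟩,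
  ⟨[nat_lit 100, nat_lit 648, nat_lit 79, nat_lit 105, nat_lit 80], [], (nat_lit 534), ⟨[nat_lit 35, nat_lit 93], [nat_lit 0, nat_lit 28, nat_lit 58], ⟨[nat_lit 0x4c99710c05aae2e304e454df68510d], [nat_lit 173056, nat_lit 164864, nat_lit 161536, nat_lit 157312, nat_lit 153376, nat_lit 147872, nat_lit 145568, nat_lit 140692, nat_lit 135242, nat_lit 131368, nat_lit 484, nat_lit 4776, nat_lit 9080, nat_lit 12352, nat_lit 17824, nat_lit 20544, nat_lit 24704, nat_lit 29184, nat_lit 34304, nat_lit 41419, nat_lit 37365, nat_lit 32952, nat_lit 28952, nat_lit 24584, nat_lit 20505, nat_lit 16420, nat_lit 8209, nat_lit 5121]⟩⟩⟩]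
theorem hncr12_0 : Suf hnT 19005990 (lapp hnwr12 [1, 0, 1]) (apW dcM q0) (tgtN dcM q0.e) := Suf.seg (l := lhn212) (by decide +kernel) shn213

def phn216 : AP := ⟨[nat_lit 227, nat_lit 229, nat_lit 227, nat_lit 224, nat_lit 222], [], (nat_lit 516), ⟨[nat_lit 0, nat_lit 12, nat_lit 61], [nat_lit 0, nat_lit 77, nat_lit 93], ⟨[nat_lit 0x6240ba9608198ee13e71911540daed], [nat_lit 173056, nat_lit 168960, nat_lit 164096, nat_lit 162432, nat_lit 156864, nat_lit 148016, nat_lit 143816, nat_lit 139656, nat_lit 136724, nat_lit 131090, nat_lit 364, nat_lit 5400, nat_lit 9040, nat_lit 13712, nat_lit 22208, nat_lit 26496, nat_lit 28928, nat_lit 33280, nat_lit 37888, nat_lit 41872, nat_lit 38096, nat_lit 32896, nat_lit 28791, nat_lit 24759, nat_lit 20629, nat_lit 16519, nat_lit 12290, nat_lit 8193, nat_lit 4105]⟩⟩⟩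
def phn217 : AP := ⟨[nat_lit 293, nat_lit 672, nat_lit 284, nat_lit 673], [], (nat_lit 1152), ⟨[nat_lit 74, nat_lit 89], [nat_lit 79, nat_lit 68], ⟨[nat_lit 0xa894ca1ef27b4d3026ce08e0542e24], [nat_lit 174080, nat_lit 168960, nat_lit 163200, nat_lit 157504, nat_lit 153408, nat_lit 150080, nat_lit 145720, nat_lit 143080, nat_lit 137374, nat_lit 135032, nat_lit 1166, nat_lit 4568, nat_lit 8928, nat_lit 12544, nat_lit 16512, nat_lit 21248, nat_lit 33792, nat_lit 41369, nat_lit 37042, nat_lit 32837, nat_lit 28753, nat_lit 24704, nat_lit 20997, nat_lit 16385, nat_lit 13312, nat_lit 8224, nat_lit 4100]⟩⟩⟩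
def phn218 : AP := ⟨[], [], (nat_lit 1120), ⟨[nat_lit 0, nat_lit 35, nat_lit 90], [nat_lit 0, nat_lit 38, nat_lit 66], ⟨[nat_lit 0x9117dc64ad13253a6d2d9815c0c7], [nat_lit 175104, nat_lit 169472, nat_lit 165376, nat_lit 159424, nat_lit 154912, nat_lit 150320, nat_lit 144976, nat_lit 143260, nat_lit 135978, nat_lit 133265, nat_lit 158, nat_lit 4328, nat_lit 8592, nat_lit 13264, nat_lit 18208, nat_lit 21760, nat_lit 25088, nat_lit 28928, nat_lit 37888, nat_lit 41356, nat_lit 37115, nat_lit 33988, nat_lit 29246, nat_lit 24758, nat_lit 20560, nat_lit 16393, nat_lit 12304, nat_lit 8322, nat_lit 4097, nat_lit 2]⟩⟩⟩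
def lhn219 : List AP := [⟨[nat_lit 83], [], (nat_lit 196), ⟨[nat_lit 0, nat_lit 38, nat_lit 64], [nat_lit 31, nat_lit 66], ⟨[nat_lit 0xae49329d63962015e9380d8f4548d], [nat_lit 175104, nat_lit 171008, nat_lit 167424, nat_lit 161152, nat_lit 157312, nat_lit 151872, nat_lit 150464, nat_lit 144336, nat_lit 140420, nat_lit 138554, nat_lit 134850, nat_lit 508, nat_lit 5884, nat_lit 8864, nat_lit 13920, nat_lit 16640, nat_lit 21888, nat_lit 25856, nat_lit 29440, nat_lit 33280, nat_lit 37888, nat_lit 41211, nat_lit 37127, nat_lit 32924, nat_lit 28753, nat_lit 24630, nat_lit 20575, nat_lit 16395, nat_lit 12304, nat_lit 8258, nat_lit 4097, nat_lit 2]⟩⟩⟩,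
  ⟨[nat_lit 17, nat_lit 37, nat_lit 36], [], (nat_lit 1032), ⟨[nat_lit 94], [nat_lit 0, nat_lit 73, nat_lit 59], ⟨[nat_lit 0xbbe748a5c828555202cb348ed1b050], [nat_lit 174080, nat_lit 166656, nat_lit 162688, nat_lit 158400, nat_lit 153344, nat_lit 147856, nat_lit 145056, nat_lit 142464, nat_lit 137256, nat_lit 131963, nat_lit 428, nat_lit 5568, nat_lit 9456, nat_lit 13552, nat_lit 17568, nat_lit 20544, nat_lit 24832, nat_lit 30464, nat_lit 34304, nat_lit 41814, nat_lit 37956, nat_lit 33518, nat_lit 29049, nat_lit 24598, nat_lit 20502, nat_lit 16391, nat_lit 12294, nat_lit 8202, nat_lit 16]⟩⟩⟩]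
theorem shn219 : Suf hnT 19005990 (ldrop (lapp hnwr12 [2, 0, 1]) 23) (apW dcM phn218) (tgtN dcM phn218.e) := Suf.fin' (l := lhn219) (by decide +kernel)
def lhn218 : List AP := [⟨[nat_lit 260, nat_lit 259, nat_lit 665, nat_lit 223], [], (nat_lit 554), ⟨[nat_lit 40], [nat_lit 31, nat_lit 67], ⟨[nat_lit 0xa96019c9cbbd9a879d2460c4a044d4], [nat_lit 168448, nat_lit 165120, nat_lit 160768, nat_lit 157504, nat_lit 152608, nat_lit 149024, nat_lit 143368, nat_lit 141072, nat_lit 136312, nat_lit 133079, nat_lit 32, nat_lit 4912, nat_lit 8704, nat_lit 12480, nat_lit 18208, nat_lit 21504, nat_lit 25728, nat_lit 33280, nat_lit 41032, nat_lit 37012, nat_lit 32816, nat_lit 29200, nat_lit 25634, nat_lit 20568, nat_lit 16417, nat_lit 12355, nat_lit 8320, nat_lit 4113, nat_lit 8]⟩⟩⟩,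
  ⟨[nat_lit 666, nat_lit 263], [], (nat_lit 546), ⟨[nat_lit 0, nat_lit 20, nat_lit 94], [nat_lit 0, nat_lit 8, nat_lit 67], ⟨[nat_lit 0x406f0725672d9b5a454224e4f1980c], [nat_lit 175104, nat_lit 168448, nat_lit 166656, nat_lit 162048, nat_lit 159360, nat_lit 152320, nat_lit 148192, nat_lit 144384, nat_lit 141456, nat_lit 139164, nat_lit 131074, nat_lit 318, nat_lit 5436, nat_lit 9216, nat_lit 12352, nat_lit 18304, nat_lit 22336, nat_lit 25216, nat_lit 29184, nat_lit 33280, nat_lit 37888, nat_lit 41803, nat_lit 37911, nat_lit 33442, nat_lit 28794, nat_lit 24737, nat_lit 20506, nat_lit 16386, nat_lit 12320, nat_lit 8448, nat_lit 4101, nat_lit 2]⟩⟩⟩]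
theorem shn218 : Suf hnT 19005990 (ldrop (lapp hnwr12 [2, 0, 1]) 15) (apW dcM phn217) (tgtN dcM phn217.e) := Suf.seg (l := lhn218) (by decide +kernel) shn219
def lhn217 : List AP := [⟨[nat_lit 226, nat_lit 230, nat_lit 260, nat_lit 260, nat_lit 222], [], (nat_lit 634), ⟨[nat_lit 0, nat_lit 36, nat_lit 57], [nat_lit 39, nat_lit 64], ⟨[nat_lit 0x48a483060568e6f61d7655dc4ad220], [nat_lit 168448, nat_lit 164096, nat_lit 161280, nat_lit 156032, nat_lit 152576, nat_lit 149120, nat_lit 143368, nat_lit 139808, nat_lit 137786, nat_lit 131723, nat_lit 2, nat_lit 4608, nat_lit 10128, nat_lit 13904, nat_lit 16896, nat_lit 20736, nat_lit 26368, nat_lit 28928, nat_lit 33280, nat_lit 37888, nat_lit 41189, nat_lit 37186, nat_lit 33001, nat_lit 29007, nat_lit 24875, nat_lit 20612, nat_lit 16386, nat_lit 12546, nat_lit 8320]⟩⟩⟩,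
  ⟨[nat_lit 352, nat_lit 284, nat_lit 294, nat_lit 357], [], (nat_lit 776), ⟨[nat_lit 0, nat_lit 78, nat_lit 47], [nat_lit 41, nat_lit 70], ⟨[nat_lit 0x30d0b131e56a6d09c8e174557a9280], [nat_lit 173056, nat_lit 166912, nat_lit 159872, nat_lit 157184, nat_lit 154144, nat_lit 150288, nat_lit 145520, nat_lit 142700, nat_lit 137382, nat_lit 131188, nat_lit 318, nat_lit 4380, nat_lit 10184, nat_lit 13184, nat_lit 16416, nat_lit 22144, nat_lit 26496, nat_lit 29184, nat_lit 41634, nat_lit 37194, nat_lit 32852, nat_lit 29797, nat_lit 24741, nat_lit 20492, nat_lit 16397, nat_lit 12306, nat_lit 8201]⟩⟩⟩]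
theorem shn217 : Suf hnT 19005990 (ldrop (lapp hnwr12 [2, 0, 1]) 7) (apW dcM phn216) (tgtN dcM phn216.e) := Suf.seg (l := lhn217) (by decide +kernel) shn218
def lhn216 : List AP := [⟨[nat_lit 36, nat_lit 16, nat_lit 40, nat_lit 36, nat_lit 14], [], (nat_lit 197), ⟨[nat_lit 43, nat_lit 69], [nat_lit 0, nat_lit 77, nat_lit 89], ⟨[nat_lit 0xb2b0592973392d2a862981f694507], [nat_lit 168448, nat_lit 165120, nat_lit 160896, nat_lit 156352, nat_lit 153504, nat_lit 149536, nat_lit 143472, nat_lit 140612, nat_lit 135170, nat_lit 132377, nat_lit 1166, nat_lit 5940, nat_lit 9672, nat_lit 14176, nat_lit 16640, nat_lit 21184, nat_lit 25088, nat_lit 33280, nat_lit 41675, nat_lit 37360, nat_lit 32892, nat_lit 29288, nat_lit 24875, nat_lit 20748, nat_lit 16387, nat_lit 12416, nat_lit 8259, nat_lit 4113]⟩⟩⟩,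
  ⟨[nat_lit 102, nat_lit 84, nat_lit 100, nat_lit 646, nat_lit 81], [], (nat_lit 534), ⟨[nat_lit 0, nat_lit 21, nat_lit 70], [nat_lit 0, nat_lit 40, nat_lit 68], ⟨[nat_lit 0x7006f8c92a9a20b29a976b041b54e4], [nat_lit 173056, nat_lit 160640, nat_lit 156352, nat_lit 153280, nat_lit 149440, nat_lit 144896, nat_lit 140916, nat_lit 136590, nat_lit 131341, nat_lit 1166, nat_lit 5668, nat_lit 8808, nat_lit 13392, nat_lit 21248, nat_lit 25216, nat_lit 29184, nat_lit 33792, nat_lit 41930, nat_lit 36962, nat_lit 32951, nat_lit 28939, nat_lit 24629, nat_lit 20504, nat_lit 16398, nat_lit 12309, nat_lit 8193, nat_lit 4104, nat_lit 2]⟩⟩⟩]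
theorem hncr12_1 : Suf hnT 19005990 (lapp hnwr12 [2, 0, 1]) (iC2 :: apW dcM q0) (tgtN dcM q0.e) := Suf.seg (l := lhn216) (by decide +kernel) shn217

def phn220 : AP := ⟨[nat_lit 355, nat_lit 295, nat_lit 294, nat_lit 295], [], (nat_lit 1126), ⟨[nat_lit 43, nat_lit 56], [nat_lit 28, nat_lit 49], ⟨[nat_lit 0x38e86d990aa9721c434788a934c97], [nat_lit 169984, nat_lit 164352, nat_lit 163200, nat_lit 156672, nat_lit 155168, nat_lit 150160, nat_lit 146816, nat_lit 139704, nat_lit 136414, nat_lit 133170, nat_lit 1124, nat_lit 5688, nat_lit 9928, nat_lit 13760, nat_lit 17440, nat_lit 21760, nat_lit 24832, nat_lit 28928, nat_lit 37888, nat_lit 41529, nat_lit 38146, nat_lit 33326, nat_lit 28725, nat_lit 24629, nat_lit 20501, nat_lit 16422, nat_lit 12806, nat_lit 8194, nat_lit 4101, nat_lit 2]⟩⟩⟩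
def phn221 : AP := ⟨[nat_lit 291, nat_lit 669, nat_lit 673, nat_lit 672], [], (nat_lit 663), ⟨[nat_lit 0, nat_lit 25, nat_lit 92], [nat_lit 6, nat_lit 92], ⟨[nat_lit 0x709253a1e00ac8c69943b4a71ade90], [nat_lit 173056, nat_lit 165888, nat_lit 157440, nat_lit 152064, nat_lit 143552, nat_lit 140896, nat_lit 136002, nat_lit 131912, nat_lit 1076, nat_lit 4852, nat_lit 9328, nat_lit 12496, nat_lit 17088, nat_lit 20608, nat_lit 24832, nat_lit 28928, nat_lit 33280, nat_lit 37888, nat_lit 41728, nat_lit 38392, nat_lit 32792, nat_lit 28719, nat_lit 24581, nat_lit 20623, nat_lit 16648, nat_lit 12420, nat_lit 8256, nat_lit 4105, nat_lit 4]⟩⟩⟩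
def phn222 : AP := ⟨[nat_lit 262, nat_lit 263], [], (nat_lit 1094), ⟨[nat_lit 0, nat_lit 74, nat_lit 67], [nat_lit 0, nat_lit 81, nat_lit 48], ⟨[nat_lit 0x38d447892cb34b0a85175c660a48ce], [nat_lit 168448, nat_lit 159872, nat_lit 156864, nat_lit 152960, nat_lit 148384, nat_lit 143480, nat_lit 141704, nat_lit 136262, nat_lit 131759, nat_lit 1972, nat_lit 5436, nat_lit 12496, nat_lit 18336, nat_lit 22400, nat_lit 25728, nat_lit 29440, nat_lit 34304, nat_lit 37888, nat_lit 41476, nat_lit 38058, nat_lit 32837, nat_lit 29293, nat_lit 24709, nat_lit 20500, nat_lit 16385, nat_lit 12802, nat_lit 4160, nat_lit 16]⟩⟩⟩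
def lhn223 : List AP := [⟨[nat_lit 101], [], (nat_lit 196), ⟨[nat_lit 0, nat_lit 79, nat_lit 63], [nat_lit 0, nat_lit 87, nat_lit 56], ⟨[nat_lit 0x5a8979caa671ecc288746a2000be29], [nat_lit 173056, nat_lit 168448, nat_lit 165376, nat_lit 160384, nat_lit 156416, nat_lit 152192, nat_lit 147984, nat_lit 143368, nat_lit 140384, nat_lit 136768, nat_lit 131872, nat_lit 1478, nat_lit 4608, nat_lit 8360, nat_lit 13664, nat_lit 16800, nat_lit 20992, nat_lit 25600, nat_lit 29696, nat_lit 33280, nat_lit 37888, nat_lit 41728, nat_lit 38381, nat_lit 33824, nat_lit 29229, nat_lit 24704, nat_lit 20755, nat_lit 16428, nat_lit 12309, nat_lit 8211, nat_lit 4104, nat_lit 16]⟩⟩⟩,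
  ⟨[nat_lit 629, nat_lit 15, nat_lit 39], [], (nat_lit 1032), ⟨[nat_lit 0, nat_lit 40, nat_lit 68], [nat_lit 0, nat_lit 26], ⟨[nat_lit 0xb42b40a9c794ef1595e36912030988], [nat_lit 175104, nat_lit 170496, nat_lit 166656, nat_lit 160768, nat_lit 155712, nat_lit 152736, nat_lit 150848, nat_lit 144808, nat_lit 141224, nat_lit 137502, nat_lit 134414, nat_lit 1554, nat_lit 4156, nat_lit 8448, nat_lit 13088, nat_lit 17088, nat_lit 20736, nat_lit 25728, nat_lit 29952, nat_lit 33280, nat_lit 37888, nat_lit 41297, nat_lit 37365, nat_lit 32809, nat_lit 29294, nat_lit 25113, nat_lit 20481, nat_lit 16517, nat_lit 12311, nat_lit 8193, nat_lit 4097]⟩⟩⟩]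
theorem shn223 : Suf hnT 19005990 (ldrop (lapp hnwr12 [3, 0, 1]) 23) (apW dcM phn222) (tgtN dcM phn222.e) := Suf.fin' (l := lhn223) (by decide +kernel)
def lhn222 : List AP := [⟨[nat_lit 284, nat_lit 356, nat_lit 670, nat_lit 284], [], (nat_lit 1130), ⟨[nat_lit 41, nat_lit 55], [nat_lit 19, nat_lit 93], ⟨[nat_lit 0x95d0e4a882b35733bd83306b489600], [nat_lit 175104, nat_lit 170496, nat_lit 166400, nat_lit 161536, nat_lit 155776, nat_lit 152256, nat_lit 151360, nat_lit 145168, nat_lit 137260, nat_lit 133238, nat_lit 64, nat_lit 5904, nat_lit 10032, nat_lit 12800, nat_lit 18176, nat_lit 20608, nat_lit 24704, nat_lit 30208, nat_lit 33792, nat_lit 41681, nat_lit 38146, nat_lit 33304, nat_lit 28784, nat_lit 24631, nat_lit 20560, nat_lit 16452, nat_lit 12544, nat_lit 8224, nat_lit 4097, nat_lit 2]⟩⟩⟩,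
  ⟨[nat_lit 666], [], (nat_lit 509), ⟨[nat_lit 32, nat_lit 65], [nat_lit 0, nat_lit 79, nat_lit 57], ⟨[nat_lit 0x9c0b139246b01ab1550fa386aba42c], [nat_lit 161664, nat_lit 156736, nat_lit 152576, nat_lit 151344, nat_lit 145352, nat_lit 140572, nat_lit 136130, nat_lit 132031, nat_lit 1354, nat_lit 4112, nat_lit 9664, nat_lit 13552, nat_lit 18080, nat_lit 21632, nat_lit 26112, nat_lit 29952, nat_lit 33280, nat_lit 41956, nat_lit 36912, nat_lit 33900, nat_lit 29024, nat_lit 24728, nat_lit 20496, nat_lit 16393, nat_lit 12295, nat_lit 8194, nat_lit 8]⟩⟩⟩]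
theorem shn222 : Suf hnT 19005990 (ldrop (lapp hnwr12 [3, 0, 1]) 15) (apW dcM phn221) (tgtN dcM phn221.e) := Suf.seg (l := lhn222) (by decide +kernel) shn223
def lhn221 : List AP := [⟨[], [], (nat_lit 736), ⟨[nat_lit 0, nat_lit 2, nat_lit 58], [nat_lit 16, nat_lit 70], ⟨[nat_lit 0xa85b2514e642c89b45c0851e260ef3], [nat_lit 168448, nat_lit 164352, nat_lit 162688, nat_lit 156032, nat_lit 153408, nat_lit 148048, nat_lit 145304, nat_lit 139404, nat_lit 137116, nat_lit 132858, nat_lit 718, nat_lit 5688, nat_lit 9992, nat_lit 12416, nat_lit 17632, nat_lit 22464, nat_lit 24832, nat_lit 34304, nat_lit 41568, nat_lit 38033, nat_lit 32799, nat_lit 28712, nat_lit 25137, nat_lit 20616, nat_lit 16643, nat_lit 12294, nat_lit 8202, nat_lit 4097]⟩⟩⟩,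
  ⟨[nat_lit 356, nat_lit 292, nat_lit 293], [], (nat_lit 1164), ⟨[nat_lit 6, nat_lit 53], [nat_lit 0, nat_lit 45, nat_lit 92], ⟨[nat_lit 0x9a48d1d4c7b284bb8251741057b034], [nat_lit 175104, nat_lit 171520, nat_lit 164864, nat_lit 163072, nat_lit 158080, nat_lit 155360, nat_lit 148528, nat_lit 144040, nat_lit 140448, nat_lit 138410, nat_lit 134214, nat_lit 1730, nat_lit 4128, nat_lit 8504, nat_lit 14144, nat_lit 18080, nat_lit 20608, nat_lit 25344, nat_lit 28928, nat_lit 33280, nat_lit 37888, nat_lit 41697, nat_lit 37281, nat_lit 32929, nat_lit 28705, nat_lit 24580, nat_lit 20502, nat_lit 16423, nat_lit 12289, nat_lit 8195, nat_lit 4097]⟩⟩⟩]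
theorem shn221 : Suf hnT 19005990 (ldrop (lapp hnwr12 [3, 0, 1]) 7) (apW dcM phn220) (tgtN dcM phn220.e) := Suf.seg (l := lhn221) (by decide +kernel) shn222
def lhn220 : List AP := [⟨[nat_lit 17, nat_lit 40, nat_lit 38, nat_lit 632, nat_lit 631, nat_lit 40], [], (nat_lit 150), ⟨[nat_lit 80, nat_lit 61], [nat_lit 23, nat_lit 68], ⟨[nat_lit 0xad15265ce2780d69b9a92c08888c2b], [nat_lit 175104, nat_lit 169472, nat_lit 164608, nat_lit 160512, nat_lit 157888, nat_lit 153856, nat_lit 150080, nat_lit 145320, nat_lit 142828, nat_lit 137004, nat_lit 134322, nat_lit 1966, nat_lit 4104, nat_lit 8200, nat_lit 12800, nat_lit 17088, nat_lit 20928, nat_lit 24704, nat_lit 29184, nat_lit 33792, nat_lit 41939, nat_lit 38129, nat_lit 33399, nat_lit 29712, nat_lit 24732, nat_lit 21009, nat_lit 16387, nat_lit 12356, nat_lit 8256, nat_lit 4100]⟩⟩⟩,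
  ⟨[nat_lit 87, nat_lit 644, nat_lit 82, nat_lit 645, nat_lit 85], [], (nat_lit 718), ⟨[nat_lit 0, nat_lit 88, nat_lit 90], [nat_lit 38, nat_lit 68], ⟨[nat_lit 0x80482a4cb6022ae4dda35aa477c4cc], [nat_lit 173056, nat_lit 171008, nat_lit 165120, nat_lit 161408, nat_lit 158400, nat_lit 153184, nat_lit 149424, nat_lit 146344, nat_lit 142496, nat_lit 138416, nat_lit 134098, nat_lit 880, nat_lit 5436, nat_lit 8704, nat_lit 13152, nat_lit 18112, nat_lit 20608, nat_lit 24960, nat_lit 33792, nat_lit 41980, nat_lit 38271, nat_lit 33943, nat_lit 29184, nat_lit 24833, nat_lit 20557, nat_lit 12291, nat_lit 8224, nat_lit 4097]⟩⟩⟩]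
theorem hncr12_2 : Suf hnT 19005990 (lapp hnwr12 [3, 0, 1]) (iC3 :: apW dcM q0) (tgtN dcM q0.e) := Suf.seg (l := lhn220) (by decide +kernel) shn221


end

end CF.Mon.Tr
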