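import Cfsg.Agent.Mon.hnD

set_option autoImplicit false
set_option maxRecDepth 100000

namespace CF.Mon.Tr

open CF.Comp

noncomputable section

def phn224 : AP := ⟨[nat_lit 260, nat_lit 229, nat_lit 664, nat_lit 260], [], (nat_lit 541), ⟨[nat_lit 0, nat_lit 39, nat_lit 64], [nat_lit 35, nat_lit 63], ⟨[nat_lit 0xd670749657d80c8a88d31c5745123], [nat_lit 173056, nat_lit 164864, nat_lit 161024, nat_lit 157120, nat_lit 152192, nat_lit 147792, nat_lit 143864, nat_lit 140276, nat_lit 135178, nat_lit 132326, nat_lit 1148, nat_lit 5572, nat_lit 8224, nat_lit 12544, nat_lit 17536, nat_lit 20544, nat_lit 24704, nat_lit 41223, nat_lit 37246, nat_lit 32785, nat_lit 28772, nat_lit 24740, nat_lit 20612, nat_lit 16648, nat_lit 12305, nat_lit 8320, nat_lit 16]⟩⟩⟩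
def phn225 : AP := ⟨[nat_lit 261, nat_lit 265, nat_lit 259, nat_lit 228], [], (nat_lit 1104), ⟨[nat_lit 42, nat_lit 67], [nat_lit 0, nat_lit 22, nat_lit 48], ⟨[nat_lit 0xb450d302f409d4b2bc6e142449d589], [nat_lit 173056, nat_lit 168448, nat_lit 165376, nat_lit 160000, nat_lit 156096, nat_lit 153024, nat_lit 148336, nat_lit 143984, nat_lit 140340, nat_lit 135826, nat_lit 133696, nat_lit 1478, nat_lit 4632, nat_lit 9384, nat_lit 13552, nat_lit 16416, nat_lit 22016, nat_lit 25856, nat_lit 29696, nat_lit 33792, nat_lit 41751, nat_lit 36908, nat_lit 33964, nat_lit 29036, nat_lit 24631, nat_lit 20563, nat_lit 16448, nat_lit 12294, nat_lit 8200, nat_lit 4101]⟩⟩⟩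
def phn226 : AP := ⟨[nat_lit 175, nat_lit 219, nat_lit 216, nat_lit 171], [], (nat_lit 440), ⟨[nat_lit 6, nat_lit 61], [nat_lit 0, nat_lit 87, nat_lit 47], ⟨[nat_lit 0x19165baa8271ad34b5e0ac9870a211], [nat_lit 174080, nat_lit 171008, nat_lit 165888, nat_lit 160128, nat_lit 155712, nat_lit 152576, nat_lit 150128, nat_lit 145208, nat_lit 139960, nat_lit 137988, nat_lit 134696, nat_lit 1298, nat_lit 4160, nat_lit 8328, nat_lit 12480, nat_lit 16608, nat_lit 21760, nat_lit 25088, nat_lit 28928, nat_lit 33280, nat_lit 37888, nat_lit 41473, nat_lit 38176, nat_lit 32946, nat_lit 28965, nat_lit 24589, nat_lit 20755, nat_lit 16515, nat_lit 12358, nat_lit 8209, nat_lit 4104]⟩⟩⟩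
def lhn227 : List AP := [⟨[nat_lit 171, nat_lit 171], [], (nat_lit 390), ⟨[nat_lit 19, nat_lit 68], [nat_lit 86, nat_lit 63], ⟨[nat_lit 0xbd2cd02226249411953382c477d5cc], [nat_lit 173056, nat_lit 167168, nat_lit 159872, nat_lit 156480, nat_lit 152832, nat_lit 148800, nat_lit 145296, nat_lit 141100, nat_lit 136706, nat_lit 131283, nat_lit 2012, nat_lit 5768, nat_lit 9904, nat_lit 13920, nat_lit 17792, nat_lit 21120, nat_lit 26112, nat_lit 33792, nat_lit 37888, nat_lit 41938, nat_lit 37120, nat_lit 32891, nat_lit 28724, nat_lit 24891, nat_lit 20497, nat_lit 16426, nat_lit 8195, nat_lit 4101, nat_lit 4]⟩⟩⟩,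
  ⟨[], [], (nat_lit 1034), ⟨[nat_lit 0, nat_lit 34, nat_lit 94], [nat_lit 84, nat_lit 60], ⟨[nat_lit 0x88d2598106936b078834532cb391d7], [nat_lit 173056, nat_lit 168960, nat_lit 161024, nat_lit 156928, nat_lit 151712, nat_lit 148368, nat_lit 144248, nat_lit 139476, nat_lit 137028, nat_lit 134512, nat_lit 960, nat_lit 4328, nat_lit 10144, nat_lit 12640, nat_lit 16608, nat_lit 20544, nat_lit 26496, nat_lit 29696, nat_lit 34304, nat_lit 41687, nat_lit 37185, nat_lit 32929, nat_lit 28792, nat_lit 24577, nat_lit 20633, nat_lit 16387, nat_lit 12422, nat_lit 8203, nat_lit 4105, nat_lit 2]⟩⟩⟩]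
theorem shn227 : Suf hnT 2048 (ldrop (lapp hnwr12 [1, 0, 1]) 23) (apW dcM phn226) (tgtN dcM phn226.e) := Suf.fin' (l := lhn227) (by decide +kernel)
def lhn226 : List AP := [⟨[nat_lit 215, nat_lit 660, nat_lit 170, nat_lit 175], [], (nat_lit 404), ⟨[nat_lit 40, nat_lit 90], [nat_lit 23, nat_lit 57], ⟨[nat_lit 0x63465358159514f4850720a3385dcb], [nat_lit 173056, nat_lit 169984, nat_lit 165120, nat_lit 161920, nat_lit 156288, nat_lit 154784, nat_lit 150448, nat_lit 145856, nat_lit 140408, nat_lit 135616, nat_lit 133446, nat_lit 354, nat_lit 5228, nat_lit 9928, nat_lit 12592, nat_lit 18112, nat_lit 21824, nat_lit 26496, nat_lit 29952, nat_lit 34304, nat_lit 37888, nat_lit 41011, nat_lit 37000, nat_lit 32890, nat_lit 28751, nat_lit 24590, nat_lit 20757, nat_lit 16640, nat_lit 12295, nat_lit 4097]⟩⟩⟩,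
  ⟨[nat_lit 216, nat_lit 173, nat_lit 213, nat_lit 172], [], (nat_lit 440), ⟨[nat_lit 35, nat_lit 48], [nat_lit 21, nat_lit 54], ⟨[nat_lit 0x5cd0eaa4c2bda4d1be00644a70a894], [nat_lit 174080, nat_lit 169472, nat_lit 167168, nat_lit 163712, nat_lit 157952, nat_lit 152928, nat_lit 149248, nat_lit 143368, nat_lit 141328, nat_lit 138900, nat_lit 131958, nat_lit 1842, nat_lit 5588, nat_lit 9712, nat_lit 13936, nat_lit 16416, nat_lit 21056, nat_lit 25856, nat_lit 30464, nat_lit 34304, nat_lit 37888, nat_lit 41842, nat_lit 37888, nat_lit 32773, nat_lit 28786, nat_lit 24724, nat_lit 20502, nat_lit 16399, nat_lit 12307, nat_lit 8203, nat_lit 4]⟩⟩⟩]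
theorem shn226 : Suf hnT 2048 (ldrop (lapp hnwr12 [1, 0, 1]) 15) (apW dcM phn225) (tgtN dcM phn225.e) := Suf.seg (l := lhn226) (by decide +kernel) shn227
def lhn225 : List AP := [⟨[], [], (nat_lit 624), ⟨[nat_lit 0, nat_lit 25, nat_lit 48], [nat_lit 28, nat_lit 51], ⟨[nat_lit 0xa6d5a30b27a86d712773990080a2b], [nat_lit 167680, nat_lit 161152, nat_lit 156672, nat_lit 153792, nat_lit 150736, nat_lit 146152, nat_lit 142864, nat_lit 138730, nat_lit 131621, nat_lit 986, nat_lit 4924, nat_lit 8704, nat_lit 13680, nat_lit 18016, nat_lit 21120, nat_lit 28928, nat_lit 41474, nat_lit 37250, nat_lit 33523, nat_lit 29184, nat_lit 24883, nat_lit 20762, nat_lit 16644, nat_lit 12321, nat_lit 8194, nat_lit 16]⟩⟩⟩,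
  ⟨[nat_lit 357, nat_lit 353, nat_lit 294, nat_lit 353], [], (nat_lit 1138), ⟨[nat_lit 0, nat_lit 88, nat_lit 51], [nat_lit 0, nat_lit 84, nat_lit 91], ⟨[nat_lit 0xa4cc1b9071101e85b6b63b8a954192], [nat_lit 173056, nat_lit 168960, nat_lit 164096, nat_lit 161536, nat_lit 157056, nat_lit 152160, nat_lit 150192, nat_lit 144872, nat_lit 139880, nat_lit 135920, nat_lit 132518, nat_lit 1810, nat_lit 4396, nat_lit 8552, nat_lit 13536, nat_lit 21632, nat_lit 25088, nat_lit 41644, nat_lit 36984, nat_lit 32799, nat_lit 28688, nat_lit 25128, nat_lit 21006, nat_lit 16394, nat_lit 12307, nat_lit 8226, nat_lit 8]⟩⟩⟩]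
theorem shn225 : Suf hnT 2048 (ldrop (lapp hnwr12 [1, 0, 1]) 7) (apW dcM phn224) (tgtN dcM phn224.e) := Suf.seg (l := lhn225) (by decide +kernel) shn226
def lhn224 : List AP := [⟨[nat_lit 638, nat_lit 21, nat_lit 634, nat_lit 638, nat_lit 22, nat_lit 21], [], (nat_lit 338), ⟨[nat_lit 0, nat_lit 87, nat_lit 46], [nat_lit 0, nat_lit 27, nat_lit 55], ⟨[nat_lit 0xb4e4c71aa7101b47dd495c42428e08], [nat_lit 174080, nat_lit 169472, nat_lit 164864, nat_lit 160256, nat_lit 156288, nat_lit 152096, nat_lit 148992, nat_lit 144264, nat_lit 140892, nat_lit 136540, nat_lit 131264, nat_lit 1438, nat_lit 4476, nat_lit 8560, nat_lit 12416, nat_lit 17408, nat_lit 20544, nat_lit 24832, nat_lit 29696, nat_lit 33792, nat_lit 41472, nat_lit 37005, nat_lit 32890, nat_lit 28686, nat_lit 24891, nat_lit 20760, nat_lit 12422, nat_lit 8322, nat_lit 4128, nat_lit 64]⟩⟩⟩,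
  ⟨[nat_lit 662, nat_lit 178, nat_lit 170, nat_lit 660, nat_lit 173], [], (nat_lit 486), ⟨[nat_lit 85, nat_lit 54], [nat_lit 29, nat_lit 57], ⟨[nat_lit 0xb91350da6e38960446067ca83615aa], [nat_lit 173056, nat_lit 171520, nat_lit 164096, nat_lit 161920, nat_lit 156480, nat_lit 155584, nat_lit 151376, nat_lit 147208, nat_lit 141108, nat_lit 136182, nat_lit 133961, nat_lit 1938, nat_lit 5884, nat_lit 9040, nat_lit 14272, nat_lit 18080, nat_lit 21248, nat_lit 26368, nat_lit 29440, nat_lit 34304, nat_lit 41351, nat_lit 37322, nat_lit 32903, nat_lit 28711, nat_lit 24611, nat_lit 20565, nat_lit 16425, nat_lit 12306, nat_lit 8195, nat_lit 4101, nat_lit 4]⟩⟩⟩]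
theorem hncr12_3 : Suf hnT 2048 (lapp hnwr12 [1, 0, 1]) (apW dcM q1) (tgtN dcM q1.e) := Suf.seg (l := lhn224) (by decide +kernel) shn225

def phn228 : AP := ⟨[], [], (nat_lit 324), ⟨[nat_lit 0, nat_lit 3, nat_lit 65], [nat_lit 0, nat_lit 21, nat_lit 54], ⟨[nat_lit 0x24d0e60acf6a605ac472a282b39ae0], [nat_lit 173056, nat_lit 164096, nat_lit 157568, nat_lit 151744, nat_lit 148880, nat_lit 144240, nat_lit 142852, nat_lit 137156, nat_lit 131265, nat_lit 4, nat_lit 4328, nat_lit 9216, nat_lit 13072, nat_lit 18208, nat_lit 20736, nat_lit 26368, nat_lit 30464, nat_lit 33280, nat_lit 41963, nat_lit 37954, nat_lit 33453, nat_lit 28766, nat_lit 24604, nat_lit 21017, nat_lit 16390, nat_lit 12355, nat_lit 4104]⟩⟩⟩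
def phn229 : AP := ⟨[nat_lit 52, nat_lit 53, nat_lit 67], [], (nat_lit 1040), ⟨[nat_lit 35, nat_lit 63], [nat_lit 0, nat_lit 87, nat_lit 47], ⟨[nat_lit 0x1e0da8d6113c937311654a342a6e6], [nat_lit 168960, nat_lit 165632, nat_lit 161664, nat_lit 157248, nat_lit 152416, nat_lit 148928, nat_lit 147376, nat_lit 139768, nat_lit 135820, nat_lit 131724, nat_lit 116, nat_lit 4548, nat_lit 9664, nat_lit 12416, nat_lit 16672, nat_lit 20608, nat_lit 25216, nat_lit 29184, nat_lit 34304, nat_lit 37888, nat_lit 41608, nat_lit 37110, nat_lit 32773, nat_lit 28680, nat_lit 25144, nat_lit 20497, nat_lit 16425, nat_lit 8256, nat_lit 4101, nat_lit 2]⟩⟩⟩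
def phn230 : AP := ⟨[nat_lit 356, nat_lit 289, nat_lit 289], [], (nat_lit 1184), ⟨[nat_lit 17, nat_lit 68], [nat_lit 11, nat_lit 47], ⟨[nat_lit 0x4506120a4c3ba2032ac54ceb07aeed], [nat_lit 173056, nat_lit 168448, nat_lit 165632, nat_lit 160640, nat_lit 157248, nat_lit 151616, nat_lit 147488, nat_lit 144768, nat_lit 142660, nat_lit 136754, nat_lit 131651, nat_lit 488, nat_lit 5700, nat_lit 8944, nat_lit 13712, nat_lit 17056, nat_lit 21696, nat_lit 26112, nat_lit 29184, nat_lit 33280, nat_lit 37888, nat_lit 41335, nat_lit 36948, nat_lit 33955, nat_lit 28731, nat_lit 24638, nat_lit 20572, nat_lit 16388, nat_lit 12292, nat_lit 8202, nat_lit 4101]⟩⟩⟩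
def phn231 : AP := ⟨[nat_lit 70, nat_lit 46], [], (nat_lit 122), ⟨[nat_lit 24, nat_lit 65], [nat_lit 0, nat_lit 6, nat_lit 70], ⟨[nat_lit 0xa3e5028269418717297768aa1b1c8c], [nat_lit 173056, nat_lit 168448, nat_lit 164096, nat_lit 161024, nat_lit 156864, nat_lit 152384, nat_lit 144784, nat_lit 140328, nat_lit 136022, nat_lit 134692, nat_lit 318, nat_lit 4396, nat_lit 9352, nat_lit 12976, nat_lit 17824, nat_lit 21952, nat_lit 26112, nat_lit 29440, nat_lit 41711, nat_lit 38221, nat_lit 33518, nat_lit 29284, nat_lit 24585, nat_lit 20499, nat_lit 16389, nat_lit 8211, nat_lit 4097]⟩⟩⟩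
def lhn232 : List AP := [⟨[nat_lit 629, nat_lit 38, nat_lit 36], [], (nat_lit 1032), ⟨[nat_lit 14, nat_lit 51], [nat_lit 29, nat_lit 70], ⟨[nat_lit 0x5982e9bd978506254ac9400ad246a7], [nat_lit 174080, nat_lit 169984, nat_lit 167168, nat_lit 160128, nat_lit 159296, nat_lit 155200, nat_lit 149392, nat_lit 146736, nat_lit 139364, nat_lit 136214, nat_lit 131701, nat_lit 1014, nat_lit 5900, nat_lit 10000, nat_lit 14192, nat_lit 16896, nat_lit 21120, nat_lit 29184, nat_lit 34304, nat_lit 37888, nat_lit 41363, nat_lit 37034, nat_lit 32802, nat_lit 28696, nat_lit 24631, nat_lit 20508, nat_lit 16399, nat_lit 8211, nat_lit 4112]⟩⟩⟩]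
theorem shn232 : Suf hnT 19005990 (ldrop (lapp hnwr13 [1, 0, 1]) 30) (apW dcM phn231) (tgtN dcM phn231.e) := Suf.fin' (l := lhn232) (by decide +kernel)
def lhn231 : List AP := [⟨[nat_lit 140, nat_lit 655], [], (nat_lit 324), ⟨[nat_lit 8, nat_lit 94], [nat_lit 0, nat_lit 75, nat_lit 70], ⟨[nat_lit 0x3816d7c6ee62845a8e01a226921ad2], [nat_lit 173056, nat_lit 170496, nat_lit 165632, nat_lit 161664, nat_lit 157376, nat_lit 152192, nat_lit 148432, nat_lit 143992, nat_lit 140124, nat_lit 135964, nat_lit 131570, nat_lit 696, nat_lit 5572, nat_lit 10064, nat_lit 12672, nat_lit 17696, nat_lit 21696, nat_lit 26368, nat_lit 30208, nat_lit 33792, nat_lit 41728, nat_lit 37117, nat_lit 33910, nat_lit 29294, nat_lit 24850, nat_lit 20545, nat_lit 16513, nat_lit 12805, nat_lit 8225, nat_lit 4113, nat_lit 2]⟩⟩⟩,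
  ⟨[], [], (nat_lit 306), ⟨[nat_lit 0, nat_lit 80, nat_lit 70], [nat_lit 71, nat_lit 55], ⟨[nat_lit 0x385d392af183064b0960abd0d31689], [nat_lit 174080, nat_lit 171520, nat_lit 167424, nat_lit 160512, nat_lit 157568, nat_lit 151904, nat_lit 150912, nat_lit 143488, nat_lit 140980, nat_lit 138774, nat_lit 133734, nat_lit 724, nat_lit 5604, nat_lit 9720, nat_lit 14128, nat_lit 17408, nat_lit 20608, nat_lit 26112, nat_lit 28928, nat_lit 33792, nat_lit 41979, nat_lit 37250, nat_lit 32958, nat_lit 28707, nat_lit 25624, nat_lit 20484, nat_lit 16644, nat_lit 12305, nat_lit 8227, nat_lit 4097]⟩⟩⟩]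
theorem shn231 : Suf hnT 19005990 (ldrop (lapp hnwr13 [1, 0, 1]) 24) (apW dcM phn230) (tgtN dcM phn230.e) := Suf.seg (l := lhn231) (by decide +kernel) shn232
def lhn230 : List AP := [⟨[nat_lit 25, nat_lit 25, nat_lit 25, nat_lit 25, nat_lit 25], [], (nat_lit 118), ⟨[nat_lit 10, nat_lit 53], [nat_lit 16, nat_lit 65], ⟨[nat_lit 0x1e0da8d6113c937311654a342a6e6], [nat_lit 173056, nat_lit 169472, nat_lit 165376, nat_lit 161664, nat_lit 157184, nat_lit 152416, nat_lit 148944, nat_lit 147384, nat_lit 139768, nat_lit 135822, nat_lit 131725, nat_lit 116, nat_lit 4548, nat_lit 9664, nat_lit 12416, nat_lit 16672, nat_lit 20608, nat_lit 25216, nat_lit 29184, nat_lit 34304, nat_lit 37888, nat_lit 41608, nat_lit 37110, nat_lit 32773, nat_lit 28680, nat_lit 25144, nat_lit 20497, nat_lit 16425, nat_lit 8256, nat_lit 4101, nat_lit 2]⟩⟩⟩,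
  ⟨[nat_lit 48, nat_lit 49, nat_lit 66, nat_lit 49, nat_lit 71], [], (nat_lit 716), ⟨[nat_lit 17, nat_lit 62], [nat_lit 17, nat_lit 53], ⟨[nat_lit 0xc9a7a2d8ea98aa2446f40ae085933], [nat_lit 171520, nat_lit 165888, nat_lit 162944, nat_lit 158592, nat_lit 151584, nat_lit 149920, nat_lit 147216, nat_lit 139712, nat_lit 137752, nat_lit 131803, nat_lit 404, nat_lit 5864, nat_lit 9752, nat_lit 14272, nat_lit 17760, nat_lit 21376, nat_lit 26240, nat_lit 29440, nat_lit 33792, nat_lit 37888, nat_lit 41710, nat_lit 37340, nat_lit 33318, nat_lit 29001, nat_lit 24836, nat_lit 20497, nat_lit 16399, nat_lit 12309, nat_lit 8195, nat_lit 4101]⟩⟩⟩]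
theorem shn230 : Suf hnT 19005990 (ldrop (lapp hnwr13 [1, 0, 1]) 15) (apW dcM phn229) (tgtN dcM phn229.e) := Suf.seg (l := lhn230) (by decide +kernel) shn231
def lhn229 : List AP := [⟨[nat_lit 654, nat_lit 149, nat_lit 147, nat_lit 654, nat_lit 140], [], (nat_lit 732), ⟨[nat_lit 0, nat_lit 87, nat_lit 64], [nat_lit 0, nat_lit 41, nat_lit 90], ⟨[nat_lit 0xb50236c22c7ba5332905b82a23ad24], [nat_lit 173056, nat_lit 169472, nat_lit 164096, nat_lit 161408, nat_lit 158912, nat_lit 152928, nat_lit 149120, nat_lit 144728, nat_lit 140404, nat_lit 135244, nat_lit 132437, nat_lit 1166, nat_lit 5508, nat_lit 9752, nat_lit 13824, nat_lit 16448, nat_lit 21696, nat_lit 26112, nat_lit 34304, nat_lit 41803, nat_lit 38155, nat_lit 33931, nat_lit 28725, nat_lit 24634, nat_lit 20562, nat_lit 16396, nat_lit 12309, nat_lit 8194, nat_lit 8]⟩⟩⟩,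
  ⟨[], [], (nat_lit 1222), ⟨[nat_lit 0, nat_lit 19, nat_lit 93], [nat_lit 0, nat_lit 28, nat_lit 90], ⟨[nat_lit 0xb3d075d0ce692e99c64080823a954c], [nat_lit 164864, nat_lit 161408, nat_lit 155712, nat_lit 154528, nat_lit 147776, nat_lit 143368, nat_lit 139936, nat_lit 135716, nat_lit 132632, nat_lit 1580, nat_lit 4380, nat_lit 9000, nat_lit 12752, nat_lit 16864, nat_lit 20608, nat_lit 25984, nat_lit 30208, nat_lit 33280, nat_lit 41916, nat_lit 37024, nat_lit 32933, nat_lit 28790, nat_lit 24620, nat_lit 20487, nat_lit 16392, nat_lit 12307, nat_lit 8227, nat_lit 4097, nat_lit 2]⟩⟩⟩]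
theorem shn229 : Suf hnT 19005990 (ldrop (lapp hnwr13 [1, 0, 1]) 6) (apW dcM phn228) (tgtN dcM phn228.e) := Suf.seg (l := lhn229) (by decide +kernel) shn230
def lhn228 : List AP := [⟨[nat_lit 629, nat_lit 17, nat_lit 38, nat_lit 36, nat_lit 14, nat_lit 15], [], (nat_lit 90), ⟨[nat_lit 0, nat_lit 41, nat_lit 53], [nat_lit 71, nat_lit 55], ⟨[nat_lit 0x55669584ec935d414477b1a052010f], [nat_lit 173056, nat_lit 164864, nat_lit 160128, nat_lit 156800, nat_lit 152768, nat_lit 148704, nat_lit 144720, nat_lit 140028, nat_lit 138690, nat_lit 131270, nat_lit 1896, nat_lit 4352, nat_lit 9128, nat_lit 14192, nat_lit 16512, nat_lit 20608, nat_lit 25344, nat_lit 29440, nat_lit 34304, nat_lit 37888, nat_lit 41730, nat_lit 38319, nat_lit 33973, nat_lit 29045, nat_lit 24726, nat_lit 20747, nat_lit 16430, nat_lit 12326, nat_lit 8227, nat_lit 4]⟩⟩⟩,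
  ⟨[nat_lit 53, nat_lit 53, nat_lit 55, nat_lit 73, nat_lit 51, nat_lit 46], [], (nat_lit 1042), ⟨[nat_lit 0, nat_lit 77], [nat_lit 16, nat_lit 53], ⟨[nat_lit 0x20db29ae908bc27a8142b312e29ae8], [nat_lit 173056, nat_lit 170496, nat_lit 166912, nat_lit 162816, nat_lit 158144, nat_lit 152960, nat_lit 151248, nat_lit 146120, nat_lit 141036, nat_lit 138994, nat_lit 1396, nat_lit 4824, nat_lit 9136, nat_lit 13344, nat_lit 18336, nat_lit 24832, nat_lit 28928, nat_lit 33792, nat_lit 41716, nat_lit 38358, nat_lit 32790, nat_lit 28684, nat_lit 24578, nat_lit 20992, nat_lit 16640, nat_lit 12422, nat_lit 8208, nat_lit 4097, nat_lit 2]⟩⟩⟩]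
theorem hncr13_0 : Suf hnT 19005990 (lapp hnwr13 [1, 0, 1]) (apW dcM q0) (tgtN dcM q0.e) := Suf.seg (l := lhn228) (by decide +kernel) shn229

def phn233 : AP := ⟨[], [], (nat_lit 547), ⟨[nat_lit 41, nat_lit 51], [nat_lit 0, nat_lit 19, nat_lit 54], ⟨[nat_lit 0x1eee8086a4da54ab0255b5f132093], [nat_lit 173056, nat_lit 168448, nat_lit 164352, nat_lit 160896, nat_lit 156864, nat_lit 151648, nat_lit 148768, nat_lit 144040, nat_lit 143272, nat_lit 136754, nat_lit 132372, nat_lit 586, nat_lit 5044, nat_lit 8448, nat_lit 12624, nat_lit 17568, nat_lit 22464, nat_lit 26368, nat_lit 29440, nat_lit 41335, nat_lit 37180, nat_lit 33464, nat_lit 28700, nat_lit 25658, nat_lit 21004, nat_lit 16420, nat_lit 12353, nat_lit 5121]⟩⟩⟩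
def phn234 : AP := ⟨[nat_lit 351, nat_lit 355], [], (nat_lit 1218), ⟨[nat_lit 41, nat_lit 64], [nat_lit 0, nat_lit 7, nat_lit 94], ⟨[nat_lit 0x795977454219036021b3856464acf4], [nat_lit 170496, nat_lit 165120, nat_lit 160896, nat_lit 156352, nat_lit 153312, nat_lit 148512, nat_lit 145304, nat_lit 140132, nat_lit 135914, nat_lit 131560, nat_lit 1214, nat_lit 5112, nat_lit 9752, nat_lit 13872, nat_lit 18208, nat_lit 21504, nat_lit 25984, nat_lit 29184, nat_lit 34304, nat_lit 41925, nat_lit 37013, nat_lit 33940, nat_lit 29205, nat_lit 24893, nat_lit 20575, nat_lit 16419, nat_lit 12354, nat_lit 8200, nat_lit 4101, nat_lit 2]⟩⟩⟩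
def phn235 : AP := ⟨[nat_lit 264, nat_lit 223, nat_lit 259], [], (nat_lit 501), ⟨[nat_lit 0, nat_lit 34, nat_lit 68], [nat_lit 0, nat_lit 15, nat_lit 54], ⟨[nat_lit 0x69ac2bd5322a0f363a2b1bc9454001], [nat_lit 175104, nat_lit 171008, nat_lit 164096, nat_lit 163328, nat_lit 158784, nat_lit 154400, nat_lit 149136, nat_lit 144168, nat_lit 141180, nat_lit 138896, nat_lit 135000, nat_lit 1760, nat_lit 5856, nat_lit 8256, nat_lit 12832, nat_lit 16416, nat_lit 22144, nat_lit 30208, nat_lit 34304, nat_lit 37888, nat_lit 41771, nat_lit 38062, nat_lit 32985, nat_lit 28755, nat_lit 24611, nat_lit 20487, nat_lit 16512, nat_lit 12545, nat_lit 8224]⟩⟩⟩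
def phn236 : AP := ⟨[nat_lit 85], [], (nat_lit 196), ⟨[nat_lit 0, nat_lit 1, nat_lit 59], [nat_lit 0, nat_lit 20, nat_lit 63], ⟨[nat_lit 0x589808cd2f25870a5dc83a8adac8c1], [nat_lit 171008, nat_lit 165120, nat_lit 160640, nat_lit 158400, nat_lit 153248, nat_lit 148640, nat_lit 146936, nat_lit 141584, nat_lit 137666, nat_lit 133167, nat_lit 588, nat_lit 5120, nat_lit 8360, nat_lit 14176, nat_lit 16960, nat_lit 22208, nat_lit 25856, nat_lit 29696, nat_lit 33792, nat_lit 41076, nat_lit 36877, nat_lit 32771, nat_lit 28675, nat_lit 25663, nat_lit 20486, nat_lit 17414, nat_lit 12359, nat_lit 8203, nat_lit 4097]⟩⟩⟩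
def lhn237 : List AP := [⟨[nat_lit 42, nat_lit 40], [], (nat_lit 1032), ⟨[nat_lit 0, nat_lit 79, nat_lit 70], [nat_lit 0, nat_lit 10, nat_lit 56], ⟨[nat_lit 0x3103571e2b50934b0e507dc0d2b268], [nat_lit 174080, nat_lit 168960, nat_lit 164608, nat_lit 163584, nat_lit 157440, nat_lit 153440, nat_lit 149584, nat_lit 145768, nat_lit 142616, nat_lit 139190, nat_lit 134683, nat_lit 1438, nat_lit 5868, nat_lit 9544, nat_lit 12528, nat_lit 18112, nat_lit 20928, nat_lit 25728, nat_lit 28928, nat_lit 34304, nat_lit 37888, nat_lit 41918, nat_lit 38079, nat_lit 33472, nat_lit 28786, nat_lit 24765, nat_lit 20500, nat_lit 16390, nat_lit 12358, nat_lit 8209, nat_lit 4101]⟩⟩⟩]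
theorem shn237 : Suf hnT 19005990 (ldrop (lapp hnwr13 [2, 0, 1]) 30) (apW dcM phn236) (tgtN dcM phn236.e) := Suf.fin' (l := lhn237) (by decide +kernel)
def lhn236 : List AP := [⟨[nat_lit 667, nat_lit 222], [], (nat_lit 546), ⟨[nat_lit 0, nat_lit 85, nat_lit 49], [nat_lit 44, nat_lit 54], ⟨[nat_lit 0x342b263cb7a1d2b9b40870a2ab0c81], [nat_lit 175104, nat_lit 171520, nat_lit 166144, nat_lit 160768, nat_lit 158400, nat_lit 155296, nat_lit 148352, nat_lit 146184, nat_lit 141164, nat_lit 135706, nat_lit 132803, nat_lit 698, nat_lit 4112, nat_lit 9936, nat_lit 14192, nat_lit 17088, nat_lit 21888, nat_lit 25216, nat_lit 29184, nat_lit 41036, nat_lit 37080, nat_lit 32856, nat_lit 29184, nat_lit 24615, nat_lit 20575, nat_lit 16425, nat_lit 12291, nat_lit 8259, nat_lit 4105, nat_lit 8]⟩⟩⟩,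
  ⟨[], [], (nat_lit 1120), ⟨[nat_lit 14, nat_lit 54], [nat_lit 78, nat_lit 94], ⟨[nat_lit 0x8464c386a8512e3b24c07b5d3a2ca2], [nat_lit 168960, nat_lit 165632, nat_lit 160128, nat_lit 157248, nat_lit 153536, nat_lit 148928, nat_lit 145248, nat_lit 139440, nat_lit 137266, nat_lit 132983, nat_lit 586, nat_lit 4224, nat_lit 9048, nat_lit 13168, nat_lit 18336, nat_lit 21056, nat_lit 25344, nat_lit 28928, nat_lit 34304, nat_lit 37888, nat_lit 41613, nat_lit 38198, nat_lit 32921, nat_lit 28798, nat_lit 24764, nat_lit 20484, nat_lit 16513, nat_lit 12309, nat_lit 8211, nat_lit 16]⟩⟩⟩]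
theorem shn236 : Suf hnT 19005990 (ldrop (lapp hnwr13 [2, 0, 1]) 24) (apW dcM phn235) (tgtN dcM phn235.e) := Suf.seg (l := lhn236) (by decide +kernel) shn237
def lhn235 : List AP := [⟨[nat_lit 78, nat_lit 78, nat_lit 78, nat_lit 78], [], (nat_lit 718), ⟨[nat_lit 41, nat_lit 64], [nat_lit 39, nat_lit 55], ⟨[nat_lit 0x795977454219036021b3856464acf4], [nat_lit 173056, nat_lit 170496, nat_lit 164864, nat_lit 160768, nat_lit 156352, nat_lit 153280, nat_lit 148512, nat_lit 145304, nat_lit 140128, nat_lit 135912, nat_lit 131561, nat_lit 1214, nat_lit 5112, nat_lit 9752, nat_lit 13872, nat_lit 18208, nat_lit 21504, nat_lit 25984, nat_lit 29184, nat_lit 34304, nat_lit 41925, nat_lit 37013, nat_lit 33940, nat_lit 29205, nat_lit 24893, nat_lit 20575, nat_lit 16419, nat_lit 12354, nat_lit 8200, nat_lit 4101, nat_lit 2]⟩⟩⟩,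
  ⟨[nat_lit 669, nat_lit 351, nat_lit 355, nat_lit 669], [], (nat_lit 1136), ⟨[nat_lit 76, nat_lit 91], [nat_lit 3, nat_lit 57], ⟨[nat_lit 0xb807664e2e29d6883db2a88344988a], [nat_lit 169984, nat_lit 164608, nat_lit 161536, nat_lit 159616, nat_lit 152288, nat_lit 149248, nat_lit 145576, nat_lit 142676, nat_lit 137270, nat_lit 134436, nat_lit 1794, nat_lit 5588, nat_lit 8520, nat_lit 14048, nat_lit 16416, nat_lit 21760, nat_lit 26368, nat_lit 30464, nat_lit 33792, nat_lit 37888, nat_lit 41385, nat_lit 36869, nat_lit 33964, nat_lit 29810, nat_lit 24738, nat_lit 20482, nat_lit 16460, nat_lit 12358, nat_lit 8193, nat_lit 4104, nat_lit 2]⟩⟩⟩]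
theorem shn235 : Suf hnT 19005990 (ldrop (lapp hnwr13 [2, 0, 1]) 15) (apW dcM phn234) (tgtN dcM phn234.e) := Suf.seg (l := lhn235) (by decide +kernel) shn236
def lhn234 : List AP := [⟨[nat_lit 667, nat_lit 222, nat_lit 232], [], (nat_lit 554), ⟨[nat_lit 0, nat_lit 40, nat_lit 54], [nat_lit 0, nat_lit 45, nat_lit 91], ⟨[nat_lit 0xa560e8a1ab3d82a79a6400d92126e5], [nat_lit 173056, nat_lit 165888, nat_lit 161408, nat_lit 157120, nat_lit 152896, nat_lit 148496, nat_lit 145160, nat_lit 140096, nat_lit 136446, nat_lit 132590, nat_lit 1268, nat_lit 5444, nat_lit 8320, nat_lit 13968, nat_lit 18208, nat_lit 21184, nat_lit 25856, nat_lit 41848, nat_lit 37001, nat_lit 33008, nat_lit 29018, nat_lit 24894, nat_lit 20638, nat_lit 16420, nat_lit 12354, nat_lit 8202, nat_lit 4101, nat_lit 2]⟩⟩⟩,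
  ⟨[nat_lit 233, nat_lit 664, nat_lit 224, nat_lit 226, nat_lit 222], [], (nat_lit 608), ⟨[nat_lit 88], [nat_lit 86, nat_lit 57], ⟨[nat_lit 0xb807664e2e29d6883db2a88344988a], [nat_lit 173056, nat_lit 169984, nat_lit 164608, nat_lit 161664, nat_lit 159680, nat_lit 152288, nat_lit 149264, nat_lit 145568, nat_lit 142672, nat_lit 137268, nat_lit 134436, nat_lit 1794, nat_lit 5588, nat_lit 8520, nat_lit 14048, nat_lit 16416, nat_lit 21760, nat_lit 26368, nat_lit 30464, nat_lit 33792, nat_lit 37888, nat_lit 41385, nat_lit 36869, nat_lit 33964, nat_lit 29810, nat_lit 24738, nat_lit 20482, nat_lit 16460, nat_lit 12358, nat_lit 8193, nat_lit 4104, nat_lit 2]⟩⟩⟩]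
theorem shn234 : Suf hnT 19005990 (ldrop (lapp hnwr13 [2, 0, 1]) 6) (apW dcM phn233) (tgtN dcM phn233.e) := Suf.seg (l := lhn234) (by decide +kernel) shn235
def lhn233 : List AP := [⟨[nat_lit 15, nat_lit 631, nat_lit 629, nat_lit 631, nat_lit 40, nat_lit 15], [], (nat_lit 150), ⟨[nat_lit 42, nat_lit 59], [nat_lit 0, nat_lit 86, nat_lit 91], ⟨[nat_lit 0x45a910d5e439609680d7931ca9886b], [nat_lit 175104, nat_lit 170496, nat_lit 164352, nat_lit 161792, nat_lit 159168, nat_lit 155392, nat_lit 148368, nat_lit 144776, nat_lit 139960, nat_lit 139132, nat_lit 133302, nat_lit 1336, nat_lit 5072, nat_lit 8200, nat_lit 13984, nat_lit 16864, nat_lit 21632, nat_lit 26368, nat_lit 29952, nat_lit 33792, nat_lit 41805, nat_lit 38062, nat_lit 33421, nat_lit 29236, nat_lit 24603, nat_lit 20491, nat_lit 12327, nat_lit 8195, nat_lit 4097]⟩⟩⟩,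
  ⟨[nat_lit 76, nat_lit 85, nat_lit 76, nat_lit 104, nat_lit 104], [], (nat_lit 534), ⟨[nat_lit 3, nat_lit 51], [nat_lit 2, nat_lit 69], ⟨[nat_lit 0x3110f8b573bd18a91c551a42e800b6], [nat_lit 173056, nat_lit 168448, nat_lit 165888, nat_lit 162560, nat_lit 159104, nat_lit 153984, nat_lit 148048, nat_lit 145808, nat_lit 143084, nat_lit 136950, nat_lit 134678, nat_lit 568, nat_lit 4340, nat_lit 8680, nat_lit 12912, nat_lit 16672, nat_lit 21568, nat_lit 24704, nat_lit 30464, nat_lit 34304, nat_lit 41439, nat_lit 37259, nat_lit 33281, nat_lit 28771, nat_lit 24590, nat_lit 20501, nat_lit 16420, nat_lit 12293, nat_lit 4161, nat_lit 2]⟩⟩⟩]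
theorem hncr13_1 : Suf hnT 19005990 (lapp hnwr13 [2, 0, 1]) (iC2 :: apW dcM q0) (tgtN dcM q0.e) := Suf.seg (l := lhn233) (by decide +kernel) shn234

def phn238 : AP := ⟨[nat_lit 664, nat_lit 222], [], (nat_lit 508), ⟨[nat_lit 20, nat_lit 90], [nat_lit 0, nat_lit 85], ⟨[nat_lit 0x4bcb1b5417341cb41192a0c223cdaa], [nat_lit 175104, nat_lit 171008, nat_lit 164352, nat_lit 162816, nat_lit 158848, nat_lit 153760, nat_lit 148704, nat_lit 144776, nat_lit 140820, nat_lit 138382, nat_lit 134860, nat_lit 1814, nat_lit 5900, nat_lit 9384, nat_lit 12672, nat_lit 16864, nat_lit 22272, nat_lit 25216, nat_lit 30208, nat_lit 33280, nat_lit 41909, nat_lit 37318, nat_lit 33531, nat_lit 28699, nat_lit 24634, nat_lit 20509, nat_lit 16385, nat_lit 12321, nat_lit 16]⟩⟩⟩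
def phn239 : AP := ⟨[nat_lit 261, nat_lit 223], [], (nat_lit 1094), ⟨[nat_lit 71, nat_lit 90], [nat_lit 80, nat_lit 50], ⟨[nat_lit 0x81567b04cc7b512baa3510d33a100e], [nat_lit 173056, nat_lit 169472, nat_lit 165120, nat_lit 160512, nat_lit 157376, nat_lit 152160, nat_lit 149280, nat_lit 145368, nat_lit 141072, nat_lit 137472, nat_lit 131656, nat_lit 1972, nat_lit 6068, nat_lit 10144, nat_lit 13760, nat_lit 16416, nat_lit 22208, nat_lit 25344, nat_lit 29696, nat_lit 37888, nat_lit 41790, nat_lit 38088, nat_lit 32981, nat_lit 28708, nat_lit 24873, nat_lit 20489, nat_lit 16393, nat_lit 12311, nat_lit 8194, nat_lit 4097, nat_lit 2]⟩⟩⟩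
def phn240 : AP := ⟨[nat_lit 284, nat_lit 670, nat_lit 287, nat_lit 287], [], (nat_lit 1154), ⟨[nat_lit 26, nat_lit 69], [nat_lit 0, nat_lit 24, nat_lit 67], ⟨[nat_lit 0x550c98dcb2b31a79bc6b7410025441], [nat_lit 174080, nat_lit 160128, nat_lit 158848, nat_lit 155232, nat_lit 150368, nat_lit 144504, nat_lit 142300, nat_lit 136952, nat_lit 135067, nat_lit 1142, nat_lit 4100, nat_lit 8832, nat_lit 12608, nat_lit 18144, nat_lit 21248, nat_lit 25984, nat_lit 29440, nat_lit 41799, nat_lit 36871, nat_lit 33017, nat_lit 28679, nat_lit 24894, nat_lit 20764, nat_lit 16388, nat_lit 12550, nat_lit 8201, nat_lit 4097]⟩⟩⟩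
def phn241 : AP := ⟨[nat_lit 100], [], (nat_lit 196), ⟨[nat_lit 41, nat_lit 53], [nat_lit 0, nat_lit 14, nat_lit 54], ⟨[nat_lit 0x9ace6130944ded1a81e508e488354e], [nat_lit 168960, nat_lit 167168, nat_lit 161536, nat_lit 155776, nat_lit 154048, nat_lit 151344, nat_lit 146264, nat_lit 142076, nat_lit 137684, nat_lit 132463, nat_lit 166, nat_lit 5768, nat_lit 8304, nat_lit 12352, nat_lit 16640, nat_lit 21504, nat_lit 25472, nat_lit 41870, nat_lit 38104, nat_lit 33424, nat_lit 28928, nat_lit 24614, nat_lit 20544, nat_lit 16896, nat_lit 13312, nat_lit 8193, nat_lit 4097, nat_lit 2]⟩⟩⟩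
def lhn242 : List AP := [⟨[nat_lit 41, nat_lit 40], [], (nat_lit 1032), ⟨[nat_lit 0, nat_lit 32, nat_lit 62], [nat_lit 0, nat_lit 6, nat_lit 54], ⟨[nat_lit 0x85e8ca902b338f19212d02ac51cc4f], [nat_lit 164864, nat_lit 160384, nat_lit 156672, nat_lit 153120, nat_lit 150656, nat_lit 143968, nat_lit 139780, nat_lit 135692, nat_lit 132254, nat_lit 1318, nat_lit 4408, nat_lit 10088, nat_lit 12304, nat_lit 16512, nat_lit 22336, nat_lit 25728, nat_lit 30464, nat_lit 33792, nat_lit 41309, nat_lit 36986, nat_lit 32931, nat_lit 29036, nat_lit 24765, nat_lit 20494, nat_lit 8227, nat_lit 4128, nat_lit 4]⟩⟩⟩]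
theorem shn242 : Suf hnT 19005990 (ldrop (lapp hnwr13 [3, 0, 1]) 30) (apW dcM phn241) (tgtN dcM phn241.e) := Suf.fin' (l := lhn242) (by decide +kernel)
def lhn241 : List AP := [⟨[nat_lit 263], [], (nat_lit 509), ⟨[nat_lit 0, nat_lit 72, nat_lit 49], [nat_lit 0, nat_lit 38, nat_lit 70], ⟨[nat_lit 0x9886bbb406b5111a85e47494c3a605], [nat_lit 173056, nat_lit 168448, nat_lit 166144, nat_lit 162688, nat_lit 158720, nat_lit 153728, nat_lit 147696, nat_lit 146816, nat_lit 142144, nat_lit 136364, nat_lit 134955, nat_lit 364, nat_lit 5508, nat_lit 8240, nat_lit 13552, nat_lit 17088, nat_lit 21952, nat_lit 26240, nat_lit 30464, nat_lit 33280, nat_lit 37888, nat_lit 41345, nat_lit 36972, nat_lit 32977, nat_lit 28682, nat_lit 24848, nat_lit 21011, nat_lit 16420, nat_lit 12309, nat_lit 8201, nat_lit 4100]⟩⟩⟩,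
  ⟨[nat_lit 262, nat_lit 263], [], (nat_lit 1094), ⟨[nat_lit 0, nat_lit 75, nat_lit 63], [nat_lit 0, nat_lit 10, nat_lit 65], ⟨[nat_lit 0x3d670a15acb2d0409ae28a40e7c86a], [nat_lit 173056, nat_lit 168960, nat_lit 165632, nat_lit 163200, nat_lit 156480, nat_lit 152032, nat_lit 147488, nat_lit 144064, nat_lit 139448, nat_lit 137186, nat_lit 131285, nat_lit 1938, nat_lit 4404, nat_lit 10160, nat_lit 14304, nat_lit 16640, nat_lit 22400, nat_lit 24704, nat_lit 37888, nat_lit 41586, nat_lit 37291, nat_lit 32948, nat_lit 28695, nat_lit 24618, nat_lit 20554, nat_lit 16515, nat_lit 8208, nat_lit 4160]⟩⟩⟩]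
theorem shn241 : Suf hnT 19005990 (ldrop (lapp hnwr13 [3, 0, 1]) 24) (apW dcM phn240) (tgtN dcM phn240.e) := Suf.seg (l := lhn241) (by decide +kernel) shn242
def lhn240 : List AP := [⟨[nat_lit 645, nat_lit 106, nat_lit 81], [], (nat_lit 468), ⟨[nat_lit 4, nat_lit 94], [nat_lit 0, nat_lit 24, nat_lit 58], ⟨[nat_lit 0x89c5362a16a02e5484885b6b2799c3], [nat_lit 175104, nat_lit 170496, nat_lit 167168, nat_lit 161280, nat_lit 156160, nat_lit 152576, nat_lit 151520, nat_lit 144616, nat_lit 139700, nat_lit 138306, nat_lit 134716, nat_lit 1818, nat_lit 4628, nat_lit 8528, nat_lit 14176, nat_lit 18048, nat_lit 21312, nat_lit 25984, nat_lit 29952, nat_lit 33792, nat_lit 41610, nat_lit 37987, nat_lit 32809, nat_lit 29273, nat_lit 25127, nat_lit 20492, nat_lit 16521, nat_lit 12304, nat_lit 8225, nat_lit 4161]⟩⟩⟩,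
  ⟨[nat_lit 223, nat_lit 664, nat_lit 231, nat_lit 230], [], (nat_lit 642), ⟨[nat_lit 0, nat_lit 18, nat_lit 63], [nat_lit 23, nat_lit 93], ⟨[nat_lit 0x8c0a673d2b4358a990f2a8281b8c56], [nat_lit 174080, nat_lit 171008, nat_lit 166144, nat_lit 161664, nat_lit 157696, nat_lit 153600, nat_lit 149136, nat_lit 145616, nat_lit 139964, nat_lit 137164, nat_lit 131236, nat_lit 1488, nat_lit 4100, nat_lit 8616, nat_lit 13312, nat_lit 18368, nat_lit 22336, nat_lit 26240, nat_lit 29952, nat_lit 33280, nat_lit 41529, nat_lit 38227, nat_lit 33346, nat_lit 28744, nat_lit 24606, nat_lit 20488, nat_lit 16456, nat_lit 12325, nat_lit 8201, nat_lit 4112]⟩⟩⟩]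
theorem shn240 : Suf hnT 19005990 (ldrop (lapp hnwr13 [3, 0, 1]) 15) (apW dcM phn239) (tgtN dcM phn239.e) := Suf.seg (l := lhn240) (by decide +kernel) shn241
def lhn239 : List AP := [⟨[nat_lit 260, nat_lit 232, nat_lit 259], [], (nat_lit 602), ⟨[nat_lit 8, nat_lit 63], [nat_lit 22, nat_lit 53], ⟨[nat_lit 0x5a272304e375ecd200a252630abe8c], [nat_lit 173056, nat_lit 168960, nat_lit 164608, nat_lit 160384, nat_lit 155712, nat_lit 152416, nat_lit 147504, nat_lit 143680, nat_lit 139992, nat_lit 138218, nat_lit 132558, nat_lit 2012, nat_lit 4128, nat_lit 9840, nat_lit 14144, nat_lit 17952, nat_lit 26368, nat_lit 30464, nat_lit 34304, nat_lit 37888, nat_lit 41620, nat_lit 38101, nat_lit 32886, nat_lit 29750, nat_lit 24618, nat_lit 20482, nat_lit 16644, nat_lit 12293, nat_lit 8203, nat_lit 8]⟩⟩⟩,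
  ⟨[nat_lit 356, nat_lit 353, nat_lit 284], [], (nat_lit 1154), ⟨[nat_lit 15, nat_lit 62], [nat_lit 80, nat_lit 94], ⟨[nat_lit 0xb887673d2ba02a1990f26350a89606], [nat_lit 174080, nat_lit 171008, nat_lit 167424, nat_lit 160640, nat_lit 158080, nat_lit 155360, nat_lit 149408, nat_lit 146344, nat_lit 139960, nat_lit 136736, nat_lit 132917, nat_lit 786, nat_lit 4584, nat_lit 9384, nat_lit 13664, nat_lit 17952, nat_lit 21632, nat_lit 25600, nat_lit 28928, nat_lit 41591, nat_lit 37262, nat_lit 33414, nat_lit 29190, nat_lit 25645, nat_lit 21532, nat_lit 16451, nat_lit 8706, nat_lit 4129, nat_lit 16]⟩⟩⟩]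
theorem shn239 : Suf hnT 19005990 (ldrop (lapp hnwr13 [3, 0, 1]) 6) (apW dcM phn238) (tgtN dcM phn238.e) := Suf.seg (l := lhn239) (by decide +kernel) shn240
def lhn238 : List AP := [⟨[nat_lit 39, nat_lit 41, nat_lit 15, nat_lit 38, nat_lit 629], [], (nat_lit 197), ⟨[nat_lit 17, nat_lit 66], [nat_lit 84, nat_lit 65], ⟨[nat_lit 0x94cf65aa8561aae208776c12103d11], [nat_lit 174080, nat_lit 171520, nat_lit 166400, nat_lit 160896, nat_lit 157504, nat_lit 153088, nat_lit 151248, nat_lit 144192, nat_lit 141288, nat_lit 138210, nat_lit 134017, nat_lit 1298, nat_lit 5136, nat_lit 9912, nat_lit 12976, nat_lit 17920, nat_lit 22080, nat_lit 25344, nat_lit 29184, nat_lit 33280, nat_lit 37888, nat_lit 41793, nat_lit 37920, nat_lit 32830, nat_lit 28767, nat_lit 24734, nat_lit 20756, nat_lit 16387, nat_lit 12320, nat_lit 8322, nat_lit 4105]⟩⟩⟩,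
  ⟨[nat_lit 102, nat_lit 78, nat_lit 106, nat_lit 79], [], (nat_lit 468), ⟨[nat_lit 0, nat_lit 88, nat_lit 89], [nat_lit 79, nat_lit 58], ⟨[nat_lit 0x3c564b08af625b01aa600d5c6a4ae8], [nat_lit 169472, nat_lit 157120, nat_lit 152128, nat_lit 148368, nat_lit 144392, nat_lit 141532, nat_lit 135206, nat_lit 131861, nat_lit 1396, nat_lit 4756, nat_lit 14144, nat_lit 17408, nat_lit 21504, nat_lit 24832, nat_lit 30464, nat_lit 33280, nat_lit 37888, nat_lit 41735, nat_lit 38019, nat_lit 33525, nat_lit 28720, nat_lit 24861, nat_lit 20568, nat_lit 16416, nat_lit 12352, nat_lit 5120, nat_lit 2]⟩⟩⟩]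
theorem hncr13_2 : Suf hnT 19005990 (lapp hnwr13 [3, 0, 1]) (iC3 :: apW dcM q0) (tgtN dcM q0.e) := Suf.seg (l := lhn238) (by decide +kernel) shn239

def phn243 : AP := ⟨[nat_lit 175, nat_lit 219, nat_lit 216, nat_lit 171], [], (nat_lit 440), ⟨[nat_lit 0, nat_lit 41, nat_lit 59], [nat_lit 0, nat_lit 29, nat_lit 46], ⟨[nat_lit 0x812eaabec264a23021ab4d267095c6], [nat_lit 175104, nat_lit 170496, nat_lit 167424, nat_lit 160128, nat_lit 158912, nat_lit 154432, nat_lit 147840, nat_lit 146768, nat_lit 140820, nat_lit 136084, nat_lit 132336, nat_lit 158, nat_lit 6068, nat_lit 10032, nat_lit 14304, nat_lit 17216, nat_lit 20544, nat_lit 25216, nat_lit 29952, nat_lit 34304, nat_lit 37888, nat_lit 41576, nat_lit 37339, nat_lit 32822, nat_lit 29250, nat_lit 25127, nat_lit 20553, nat_lit 16428, nat_lit 12294, nat_lit 8202, nat_lit 4104, nat_lit 16]⟩⟩⟩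
def phn244 : AP := ⟨[nat_lit 175, nat_lit 177], [], (nat_lit 396), ⟨[nat_lit 0, nat_lit 29, nat_lit 50], [nat_lit 0, nat_lit 18, nat_lit 60], ⟨[nat_lit 0xa2d5681a244a2f59c8e57844c6806e], [nat_lit 175104, nat_lit 168960, nat_lit 164864, nat_lit 160896, nat_lit 151584, nat_lit 149184, nat_lit 144688, nat_lit 140972, nat_lit 136100, nat_lit 132746, nat_lit 1972, nat_lit 4404, nat_lit 9136, nat_lit 12880, nat_lit 17984, nat_lit 20672, nat_lit 25088, nat_lit 29952, nat_lit 37888, nat_lit 41862, nat_lit 32896, nat_lit 28980, nat_lit 24592, nat_lit 20493, nat_lit 16394, nat_lit 12289, nat_lit 8193, nat_lit 4112, nat_lit 4]⟩⟩⟩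
def phn245 : AP := ⟨[nat_lit 418, nat_lit 414, nat_lit 677], [], (nat_lit 1236), ⟨[nat_lit 25, nat_lit 61], [nat_lit 0, nat_lit 23, nat_lit 70], ⟨[nat_lit 0x70d0954cf679824036f580991a1572], [nat_lit 171008, nat_lit 161664, nat_lit 157824, nat_lit 152384, nat_lit 148272, nat_lit 146384, nat_lit 141412, nat_lit 138698, nat_lit 134355, nat_lit 590, nat_lit 5080, nat_lit 9880, nat_lit 13392, nat_lit 18336, nat_lit 20608, nat_lit 25472, nat_lit 33792, nat_lit 41293, nat_lit 36976, nat_lit 32916, nat_lit 28719, nat_lit 25126, nat_lit 20616, nat_lit 16455, nat_lit 12422, nat_lit 8226, nat_lit 4097]⟩⟩⟩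
def phn246 : AP := ⟨[nat_lit 212], [], (nat_lit 390), ⟨[nat_lit 0, nat_lit 24, nat_lit 93], [nat_lit 0, nat_lit 82, nat_lit 89], ⟨[nat_lit 0x6b901abcf3299601c1528b2e4126d4], [nat_lit 175104, nat_lit 171008, nat_lit 166400, nat_lit 160768, nat_lit 157760, nat_lit 154400, nat_lit 148208, nat_lit 145776, nat_lit 140452, nat_lit 135358, nat_lit 132744, nat_lit 664, nat_lit 5604, nat_lit 8224, nat_lit 14144, nat_lit 16416, nat_lit 21952, nat_lit 24704, nat_lit 29696, nat_lit 33792, nat_lit 37888, nat_lit 41874, nat_lit 37195, nat_lit 32872, nat_lit 28773, nat_lit 24635, nat_lit 20494, nat_lit 16392, nat_lit 12292, nat_lit 8202, nat_lit 4101, nat_lit 2]⟩⟩⟩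
def lhn247 : List AP := [⟨[], [], (nat_lit 1034), ⟨[nat_lit 32, nat_lit 54], [nat_lit 0, nat_lit 34, nat_lit 66], ⟨[nat_lit 0x59cce1812c541b30c495a590f14ae5], [nat_lit 168448, nat_lit 165632, nat_lit 156928, nat_lit 153312, nat_lit 149008, nat_lit 144856, nat_lit 140684, nat_lit 137036, nat_lit 134270, nat_lit 128, nat_lit 5576, nat_lit 14176, nat_lit 18336, nat_lit 22336, nat_lit 25472, nat_lit 28928, nat_lit 34304, nat_lit 37888, nat_lit 41784, nat_lit 37295, nat_lit 33381, nat_lit 28673, nat_lit 24599, nat_lit 21018, nat_lit 16428, nat_lit 12308, nat_lit 8200, nat_lit 4161]⟩⟩⟩]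
theorem shn247 : Suf hnT 2048 (ldrop (lapp hnwr13 [1, 0, 1]) 30) (apW dcM phn246) (tgtN dcM phn246.e) := Suf.fin' (l := lhn247) (by decide +kernel)
def lhn246 : List AP := [⟨[nat_lit 180, nat_lit 217, nat_lit 178], [], (nat_lit 440), ⟨[nat_lit 79, nat_lit 91], [nat_lit 0, nat_lit 39, nat_lit 65], ⟨[nat_lit 0x8008a78e819da4ebad0da9d86124b1], [nat_lit 168448, nat_lit 165120, nat_lit 160640, nat_lit 157248, nat_lit 151936, nat_lit 149456, nat_lit 147240, nat_lit 141160, nat_lit 136330, nat_lit 132933, nat_lit 1298, nat_lit 5444, nat_lit 8320, nat_lit 12416, nat_lit 16608, nat_lit 20992, nat_lit 25856, nat_lit 29696, nat_lit 33792, nat_lit 37888, nat_lit 41221, nat_lit 37032, nat_lit 33878, nat_lit 28690, nat_lit 24590, nat_lit 20993, nat_lit 16522, nat_lit 12292, nat_lit 8202, nat_lit 4100, nat_lit 32]⟩⟩⟩,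
  ⟨[nat_lit 175, nat_lit 219, nat_lit 216, nat_lit 171], [], (nat_lit 440), ⟨[nat_lit 0, nat_lit 31, nat_lit 59], [nat_lit 0, nat_lit 76, nat_lit 59], ⟨[nat_lit 0x782086a62121ac570d73b9eb412992], [nat_lit 175104, nat_lit 169472, nat_lit 165888, nat_lit 162432, nat_lit 158912, nat_lit 152768, nat_lit 147504, nat_lit 144584, nat_lit 141452, nat_lit 138506, nat_lit 132813, nat_lit 1810, nat_lit 4412, nat_lit 13552, nat_lit 16832, nat_lit 20736, nat_lit 25984, nat_lit 28928, nat_lit 41655, nat_lit 36874, nat_lit 32935, nat_lit 28956, nat_lit 24580, nat_lit 20625, nat_lit 16513, nat_lit 12294, nat_lit 8201, nat_lit 4101, nat_lit 4]⟩⟩⟩]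
theorem shn246 : Suf hnT 2048 (ldrop (lapp hnwr13 [1, 0, 1]) 24) (apW dcM phn245) (tgtN dcM phn245.e) := Suf.seg (l := lhn246) (by decide +kernel) shn247
def lhn245 : List AP := [⟨[nat_lit 50], [], (nat_lit 1046), ⟨[nat_lit 0, nat_lit 33, nat_lit 68], [nat_lit 38, nat_lit 63], ⟨[nat_lit 0xa2d5681a244a2f59c8e57844c6806e], [nat_lit 174080, nat_lit 168960, nat_lit 165120, nat_lit 160896, nat_lit 151584, nat_lit 149184, nat_lit 144688, nat_lit 140972, nat_lit 136100, nat_lit 132747, nat_lit 1972, nat_lit 4404, nat_lit 9136, nat_lit 12880, nat_lit 17984, nat_lit 20672, nat_lit 25088, nat_lit 29952, nat_lit 37888, nat_lit 41862, nat_lit 32896, nat_lit 28980, nat_lit 24592, nat_lit 20493, nat_lit 16394, nat_lit 12289, nat_lit 8193, nat_lit 4112, nat_lit 4]⟩⟩⟩,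
  ⟨[nat_lit 180, nat_lit 662, nat_lit 212, nat_lit 172], [], (nat_lit 860), ⟨[nat_lit 0, nat_lit 18, nat_lit 63], [nat_lit 1, nat_lit 59], ⟨[nat_lit 0x8a90169d767b073724b524806b8a14], [nat_lit 175104, nat_lit 169472, nat_lit 164864, nat_lit 162560, nat_lit 157376, nat_lit 153120, nat_lit 151328, nat_lit 146408, nat_lit 143044, nat_lit 139020, nat_lit 133370, nat_lit 1214, nat_lit 4232, nat_lit 8224, nat_lit 12480, nat_lit 20544, nat_lit 26112, nat_lit 41569, nat_lit 37171, nat_lit 33455, nat_lit 29034, nat_lit 24590, nat_lit 20491, nat_lit 16519, nat_lit 12321, nat_lit 8193, nat_lit 4105]⟩⟩⟩]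
theorem shn245 : Suf hnT 2048 (ldrop (lapp hnwr13 [1, 0, 1]) 15) (apW dcM phn244) (tgtN dcM phn244.e) := Suf.seg (l := lhn245) (by decide +kernel) shn246
def lhn244 : List AP := [⟨[nat_lit 214, nat_lit 212, nat_lit 212, nat_lit 178], [], (nat_lit 404), ⟨[nat_lit 0, nat_lit 72, nat_lit 90], [nat_lit 72, nat_lit 53], ⟨[nat_lit 0x72d01ba6077c642658756940625153], [nat_lit 175104, nat_lit 166912, nat_lit 162304, nat_lit 159104, nat_lit 152992, nat_lit 148240, nat_lit 144136, nat_lit 143288, nat_lit 139054, nat_lit 131180, nat_lit 1928, nat_lit 4280, nat_lit 9560, nat_lit 12448, nat_lit 17408, nat_lit 21504, nat_lit 25216, nat_lit 28928, nat_lit 33280, nat_lit 41894, nat_lit 37952, nat_lit 32885, nat_lit 29289, nat_lit 24593, nat_lit 20508, nat_lit 16426, nat_lit 12322, nat_lit 8194, nat_lit 4101]⟩⟩⟩,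
  ⟨[nat_lit 212, nat_lit 170, nat_lit 218], [], (nat_lit 404), ⟨[nat_lit 80, nat_lit 89], [nat_lit 0, nat_lit 75, nat_lit 89], ⟨[nat_lit 0xad43715e7bc276952354092069984], [nat_lit 168448, nat_lit 164096, nat_lit 161920, nat_lit 155840, nat_lit 151680, nat_lit 147792, nat_lit 144888, nat_lit 139616, nat_lit 136534, nat_lit 131998, nat_lit 508, nat_lit 4540, nat_lit 9720, nat_lit 12304, nat_lit 17408, nat_lit 21760, nat_lit 25856, nat_lit 29696, nat_lit 33280, nat_lit 41836, nat_lit 38036, nat_lit 32803, nat_lit 28778, nat_lit 24717, nat_lit 20575, nat_lit 16429, nat_lit 12321, nat_lit 8209, nat_lit 8]⟩⟩⟩]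
theorem shn244 : Suf hnT 2048 (ldrop (lapp hnwr13 [1, 0, 1]) 6) (apW dcM phn243) (tgtN dcM phn243.e) := Suf.seg (l := lhn244) (by decide +kernel) shn245
def lhn243 : List AP := [⟨[nat_lit 23, nat_lit 31, nat_lit 31, nat_lit 28, nat_lit 24, nat_lit 21], [], (nat_lit 338), ⟨[nat_lit 34, nat_lit 93], [nat_lit 0, nat_lit 84, nat_lit 67], ⟨[nat_lit 0xa9c3653a90bae4f0192828e332098d], [nat_lit 174080, nat_lit 169984, nat_lit 166912, nat_lit 163072, nat_lit 156736, nat_lit 154496, nat_lit 151296, nat_lit 145312, nat_lit 142164, nat_lit 136170, nat_lit 132294, nat_lit 1624, nat_lit 5768, nat_lit 8208, nat_lit 12944, nat_lit 18336, nat_lit 21632, nat_lit 25344, nat_lit 30208, nat_lit 33280, nat_lit 41116, nat_lit 37252, nat_lit 33440, nat_lit 29216, nat_lit 24612, nat_lit 20545, nat_lit 16395, nat_lit 12311, nat_lit 8200]⟩⟩⟩,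
  ⟨[nat_lit 177, nat_lit 663, nat_lit 217, nat_lit 170], [], (nat_lit 440), ⟨[nat_lit 0, nat_lit 31], [nat_lit 86, nat_lit 57], ⟨[nat_lit 0x24ea9642422c68b029e8199a70baf6], [nat_lit 173056, nat_lit 168448, nat_lit 165376, nat_lit 159872, nat_lit 158080, nat_lit 152608, nat_lit 148496, nat_lit 143744, nat_lit 140300, nat_lit 136986, nat_lit 132098, nat_lit 760, nat_lit 5772, nat_lit 10224, nat_lit 12592, nat_lit 16768, nat_lit 21376, nat_lit 25728, nat_lit 29184, nat_lit 34304, nat_lit 37888, nat_lit 41664, nat_lit 37056, nat_lit 32960, nat_lit 29029, nat_lit 24884, nat_lit 20506, nat_lit 16395, nat_lit 12294, nat_lit 4105]⟩⟩⟩]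
theorem hncr13_3 : Suf hnT 2048 (lapp hnwr13 [1, 0, 1]) (apW dcM q1) (tgtN dcM q1.e) := Suf.seg (l := lhn243) (by decide +kernel) shn244

def lhn248 : List AP := [⟨[nat_lit 40, nat_lit 39], [], (nat_lit 1032), ⟨[nat_lit 88, nat_lit 66], [nat_lit 0, nat_lit 82, nat_lit 94], ⟨[nat_lit 0x1ca938a587b39e1522e08116d2d446], [nat_lit 175104, nat_lit 168448, nat_lit 166400, nat_lit 162944, nat_lit 158784, nat_lit 151776, nat_lit 147472, nat_lit 143392, nat_lit 141824, nat_lit 137400, nat_lit 131728, nat_lit 738, nat_lit 5568, nat_lit 9216, nat_lit 12864, nat_lit 16544, nat_lit 21184, nat_lit 25856, nat_lit 30208, nat_lit 37888, nat_lit 41846, nat_lit 36888, nat_lit 33939, nat_lit 29017, nat_lit 24894, nat_lit 20491, nat_lit 16450, nat_lit 12311, nat_lit 8195, nat_lit 4]⟩⟩⟩]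
theorem hnf1_0 : Suf hnT 19005990 (lapp (hnP.getD 1 []) [5, 0, 1]) (hnT.get 4 :: apW dcM q0) (tgtN dcM q0.e) := Suf.fin' (l := lhn248) (by decide +kernel)

def lhn249 : List AP := [⟨[nat_lit 41, nat_lit 38, nat_lit 36], [], (nat_lit 1032), ⟨[nat_lit 36, nat_lit 54], [nat_lit 0, nat_lit 23, nat_lit 59], ⟨[nat_lit 0x401d415d8bb54b3526067c9a41c427], [nat_lit 174080, nat_lit 169472, nat_lit 165632, nat_lit 160256, nat_lit 157888, nat_lit 155552, nat_lit 150560, nat_lit 144800, nat_lit 143048, nat_lit 136406, nat_lit 134135, nat_lit 1180, nat_lit 4328, nat_lit 9168, nat_lit 12304, nat_lit 16416, nat_lit 20672, nat_lit 25472, nat_lit 29952, nat_lit 34304, nat_lit 37888, nat_lit 41305, nat_lit 37215, nat_lit 32857, nat_lit 28680, nat_lit 24587, nat_lit 20505, nat_lit 16416, nat_lit 12304, nat_lit 8706, nat_lit 4097, nat_lit 2]⟩⟩⟩]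
theorem hnf2_0 : Suf hnT 19005990 (lapp (hnP.getD 1 []) [7, 0, 1]) (hnT.get 6 :: apW dcM q0) (tgtN dcM q0.e) := Suf.fin' (l := lhn249) (by decide +kernel)

def lhn250 : List AP := [⟨[nat_lit 14, nat_lit 16, nat_lit 16, nat_lit 17], [], (nat_lit 38), ⟨[nat_lit 8, nat_lit 56], [nat_lit 0, nat_lit 45, nat_lit 53], ⟨[nat_lit 0x905ae7a6e521a62a82d159e8c1c10a], [nat_lit 174080, nat_lit 167424, nat_lit 162432, nat_lit 158144, nat_lit 153568, nat_lit 148608, nat_lit 144616, nat_lit 141428, nat_lit 138178, nat_lit 131333, nat_lit 724, nat_lit 5316, nat_lit 10224, nat_lit 12544, nat_lit 17888, nat_lit 20544, nat_lit 24704, nat_lit 28928, nat_lit 33280, nat_lit 37888, nat_lit 41885, nat_lit 38142, nat_lit 32770, nat_lit 28770, nat_lit 24736, nat_lit 20612, nat_lit 16392, nat_lit 12290, nat_lit 8224]⟩⟩⟩,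
  ⟨[nat_lit 43, nat_lit 632], [], (nat_lit 1032), ⟨[nat_lit 0, nat_lit 4, nat_lit 94], [nat_lit 0, nat_lit 45, nat_lit 48], ⟨[nat_lit 0x21e950ca6018a11535eb358b74b1c8], [nat_lit 168448, nat_lit 164864, nat_lit 161280, nat_lit 156224, nat_lit 153376, nat_lit 148400, nat_lit 143896, nat_lit 140124, nat_lit 136880, nat_lit 132210, nat_lit 1396, nat_lit 5768, nat_lit 10160, nat_lit 13552, nat_lit 18240, nat_lit 22464, nat_lit 25216, nat_lit 33280, nat_lit 41101, nat_lit 37171, nat_lit 33313, nat_lit 24581, nat_lit 21004, nat_lit 16430, nat_lit 12294, nat_lit 8194, nat_lit 4100, nat_lit 16]⟩⟩⟩]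
theorem hnf1_1 : Suf hnT 19005990 (lapp (hnP.getD 3 []) [5, 0, 1]) (hnT.get 4 :: apW dcM q0) (tgtN dcM q0.e) := Suf.fin' (l := lhn250) (by decide +kernel)

def lhn251 : List AP := [⟨[nat_lit 629, nat_lit 633, nat_lit 14, nat_lit 16], [], (nat_lit 39), ⟨[nat_lit 0, nat_lit 14, nat_lit 57], [nat_lit 0, nat_lit 71, nat_lit 93], ⟨[nat_lit 0x9d1ed289cb8d46091ee623121b4148], [nat_lit 173056, nat_lit 168960, nat_lit 164608, nat_lit 161664, nat_lit 156224, nat_lit 152064, nat_lit 149120, nat_lit 144032, nat_lit 141992, nat_lit 135202, nat_lit 131783, nat_lit 1554, nat_lit 5544, nat_lit 8256, nat_lit 13472, nat_lit 17152, nat_lit 21568, nat_lit 24832, nat_lit 29952, nat_lit 33792, nat_lit 37888, nat_lit 41618, nat_lit 37986, nat_lit 32836, nat_lit 28746, nat_lit 24630, nat_lit 20549, nat_lit 16429, nat_lit 12305, nat_lit 4104, nat_lit 2]⟩⟩⟩,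
  ⟨[nat_lit 41, nat_lit 40], [], (nat_lit 1032), ⟨[nat_lit 0, nat_lit 45, nat_lit 60], [nat_lit 0, nat_lit 71, nat_lit 60], ⟨[nat_lit 0xbb6ae12c2a344b340c093c890b518f], [nat_lit 173056, nat_lit 171008, nat_lit 167424, nat_lit 163200, nat_lit 159040, nat_lit 153216, nat_lit 151280, nat_lit 146776, nat_lit 140656, nat_lit 137748, nat_lit 132638, nat_lit 1488, nat_lit 4380, nat_lit 8928, nat_lit 14144, nat_lit 17664, nat_lit 20544, nat_lit 25344, nat_lit 29440, nat_lit 33792, nat_lit 41830, nat_lit 37016, nat_lit 33946, nat_lit 28938, nat_lit 24601, nat_lit 20498, nat_lit 16420, nat_lit 12295, nat_lit 8194, nat_lit 4100, nat_lit 8]⟩⟩⟩]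
theorem hnf2_1 : Suf hnT 19005990 (lapp (hnP.getD 3 []) [7, 0, 1]) (hnT.get 6 :: apW dcM q0) (tgtN dcM q0.e) := Suf.fin' (l := lhn251) (by decide +kernel)

def lhn252 : List AP := [⟨[nat_lit 37, nat_lit 41], [], (nat_lit 1032), ⟨[nat_lit 0, nat_lit 45, nat_lit 69], [nat_lit 0, nat_lit 86, nat_lit 61], ⟨[nat_lit 0x2d991742a47d0d36dcf24ad4300448], [nat_lit 169472, nat_lit 164608, nat_lit 160256, nat_lit 158464, nat_lit 151616, nat_lit 148032, nat_lit 143704, nat_lit 139268, nat_lit 135960, nat_lit 131858, nat_lit 256, nat_lit 4100, nat_lit 8256, nat_lit 12544, nat_lit 16640, nat_lit 21888, nat_lit 24832, nat_lit 29952, nat_lit 41950, nat_lit 37223, nat_lit 32832, nat_lit 29769, nat_lit 24592, nat_lit 20999, nat_lit 16456, nat_lit 12305, nat_lit 8194, nat_lit 4100, nat_lit 8]⟩⟩⟩]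
theorem hnf1_2 : Suf hnT 19005990 (lapp (hnP.getD 5 []) [5, 0, 1]) (hnT.get 4 :: apW dcM q0) (tgtN dcM q0.e) := Suf.fin' (l := lhn252) (by decide +kernel)

def lhn253 : List AP := [⟨[nat_lit 15, nat_lit 629], [], (nat_lit 1032), ⟨[nat_lit 0, nat_lit 59], [nat_lit 0, nat_lit 23, nat_lit 46], ⟨[nat_lit 0xba9d4882a4b4cc27ae50434a74b023], [nat_lit 168448, nat_lit 165376, nat_lit 157056, nat_lit 153184, nat_lit 148176, nat_lit 144112, nat_lit 140512, nat_lit 135872, nat_lit 133967, nat_lit 8, nat_lit 4104, nat_lit 8504, nat_lit 13552, nat_lit 16704, nat_lit 20800, nat_lit 24960, nat_lit 29952, nat_lit 37888, nat_lit 41108, nat_lit 37338, nat_lit 32953, nat_lit 28793, nat_lit 24720, nat_lit 20560, nat_lit 16398, nat_lit 12295, nat_lit 8195, nat_lit 4097]⟩⟩⟩]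
theorem hnf2_2 : Suf hnT 19005990 (lapp (hnP.getD 5 []) [7, 0, 1]) (hnT.get 6 :: apW dcM q0) (tgtN dcM q0.e) := Suf.fin' (l := lhn253) (by decide +kernel)

def phn254 : AP := ⟨[nat_lit 641, nat_lit 46, nat_lit 54], [], (nat_lit 121), ⟨[nat_lit 7, nat_lit 94], [nat_lit 0, nat_lit 88, nat_lit 90], ⟨[nat_lit 0x73e7142697aad5664a0d2848038866], [nat_lit 175104, nat_lit 169472, nat_lit 166400, nat_lit 162304, nat_lit 159552, nat_lit 152032, nat_lit 147936, nat_lit 143984, nat_lit 141584, nat_lit 138166, nat_lit 132495, nat_lit 158, nat_lit 5580, nat_lit 8200, nat_lit 13312, nat_lit 16704, nat_lit 22272, nat_lit 25344, nat_lit 29440, nat_lit 33792, nat_lit 37888, nat_lit 41420, nat_lit 37162, nat_lit 33495, nat_lit 28967, nat_lit 24767, nat_lit 20559, nat_lit 16393, nat_lit 12291, nat_lit 8194, nat_lit 8]⟩⟩⟩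
def lhn255 : List AP := [⟨[nat_lit 66, nat_lit 46], [], (nat_lit 122), ⟨[nat_lit 0, nat_lit 21, nat_lit 54], [nat_lit 42, nat_lit 49], ⟨[nat_lit 0x4d1a643ea500643532c7bac8e9c450], [nat_lit 174080, nat_lit 170496, nat_lit 166656, nat_lit 160768, nat_lit 157888, nat_lit 154272, nat_lit 149232, nat_lit 146224, nat_lit 139768, nat_lit 137024, nat_lit 132422, nat_lit 526, nat_lit 5084, nat_lit 9648, nat_lit 14112, nat_lit 16896, nat_lit 20544, nat_lit 24704, nat_lit 29184, nat_lit 37888, nat_lit 41406, nat_lit 37109, nat_lit 34023, nat_lit 28760, nat_lit 24584, nat_lit 21021, nat_lit 16516, nat_lit 12289, nat_lit 8208, nat_lit 5120, nat_lit 8]⟩⟩⟩,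
  ⟨[nat_lit 632, nat_lit 41], [], (nat_lit 1032), ⟨[nat_lit 0, nat_lit 21, nat_lit 67], [nat_lit 71, nat_lit 53], ⟨[nat_lit 0x84a21980432512e7aac5599b73b2a8], [nat_lit 165120, nat_lit 161152, nat_lit 156864, nat_lit 151712, nat_lit 148704, nat_lit 144880, nat_lit 141048, nat_lit 136466, nat_lit 134449, nat_lit 256, nat_lit 5856, nat_lit 9944, nat_lit 13824, nat_lit 17280, nat_lit 22464, nat_lit 25600, nat_lit 30208, nat_lit 34304, nat_lit 37888, nat_lit 41729, nat_lit 36957, nat_lit 32897, nat_lit 29045, nat_lit 24765, nat_lit 20483, nat_lit 16520, nat_lit 12306, nat_lit 8195]⟩⟩⟩]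
theorem shn255 : Suf hnT 19005990 (ldrop (lapp (hnP.getD 7 []) [5, 0, 1]) 6) (apW dcM phn254) (tgtN dcM phn254.e) := Suf.fin' (l := lhn255) (by decide +kernel)
def lhn254 : List AP := [⟨[nat_lit 41, nat_lit 15, nat_lit 43, nat_lit 633, nat_lit 37, nat_lit 38], [], (nat_lit 90), ⟨[nat_lit 0, nat_lit 74, nat_lit 89], [nat_lit 0, nat_lit 24, nat_lit 68], ⟨[nat_lit 0x6c08c5a4f19d8d7455e32c801a29c2], [nat_lit 175104, nat_lit 166400, nat_lit 161792, nat_lit 159616, nat_lit 152160, nat_lit 148032, nat_lit 143952, nat_lit 141448, nat_lit 137856, nat_lit 131343, nat_lit 1814, nat_lit 4720, nat_lit 8224, nat_lit 13120, nat_lit 16960, nat_lit 21952, nat_lit 26496, nat_lit 33280, nat_lit 37888, nat_lit 41558, nat_lit 37151, nat_lit 33409, nat_lit 28689, nat_lit 24598, nat_lit 20504, nat_lit 16428, nat_lit 12326, nat_lit 8201, nat_lit 4]⟩⟩⟩,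
  ⟨[nat_lit 643, nat_lit 73, nat_lit 641, nat_lit 639], [], (nat_lit 120), ⟨[nat_lit 36, nat_lit 59], [nat_lit 57], ⟨[nat_lit 0x7a48362847321c1680ab85a71ad257], [nat_lit 174080, nat_lit 171520, nat_lit 165888, nat_lit 161280, nat_lit 156544, nat_lit 151648, nat_lit 150464, nat_lit 144272, nat_lit 139816, nat_lit 137992, nat_lit 134066, nat_lit 1140, nat_lit 4964, nat_lit 9128, nat_lit 12784, nat_lit 17376, nat_lit 20992, nat_lit 24704, nat_lit 30208, nat_lit 34304, nat_lit 41958, nat_lit 37311, nat_lit 33482, nat_lit 29227, nat_lit 24849, nat_lit 20575, nat_lit 16424, nat_lit 12323, nat_lit 8259, nat_lit 4097, nat_lit 2]⟩⟩⟩]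
theorem hnf1_3 : Suf hnT 19005990 (lapp (hnP.getD 7 []) [5, 0, 1]) (hnT.get 4 :: apW dcM q0) (tgtN dcM q0.e) := Suf.seg (l := lhn254) (by decide +kernel) shn255

def phn256 : AP := ⟨[nat_lit 50], [], (nat_lit 120), ⟨[nat_lit 0, nat_lit 27, nat_lit 47], [nat_lit 0, nat_lit 6], ⟨[nat_lit 0xa15af81237386c0139739306aaa126], [nat_lit 168960, nat_lit 159872, nat_lit 156608, nat_lit 152672, nat_lit 150080, nat_lit 144440, nat_lit 140796, nat_lit 136722, nat_lit 131513, nat_lit 738, nat_lit 5588, nat_lit 8616, nat_lit 13152, nat_lit 16864, nat_lit 21952, nat_lit 26368, nat_lit 29184, nat_lit 33792, nat_lit 37888, nat_lit 41402, nat_lit 36912, nat_lit 32821, nat_lit 28696, nat_lit 24627, nat_lit 20504, nat_lit 16425, nat_lit 12321, nat_lit 8449, nat_lit 8]⟩⟩⟩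
def lhn257 : List AP := [⟨[nat_lit 73], [], (nat_lit 122), ⟨[nat_lit 0, nat_lit 84, nat_lit 91], [nat_lit 0, nat_lit 72, nat_lit 93], ⟨[nat_lit 0x246082846b032933bdcaba4d514acd], [nat_lit 168448, nat_lit 164864, nat_lit 160896, nat_lit 156928, nat_lit 153344, nat_lit 147952, nat_lit 144608, nat_lit 139756, nat_lit 137846, nat_lit 132913, nat_lit 494, nat_lit 4948, nat_lit 9040, nat_lit 14080, nat_lit 17216, nat_lit 21376, nat_lit 25088, nat_lit 29440, nat_lit 37888, nat_lit 41172, nat_lit 37134, nat_lit 32811, nat_lit 29778, nat_lit 25612, nat_lit 20749, nat_lit 16395, nat_lit 12305, nat_lit 8194, nat_lit 4101]⟩⟩⟩,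
  ⟨[nat_lit 17, nat_lit 41], [], (nat_lit 1032), ⟨[nat_lit 0, nat_lit 6, nat_lit 48], [nat_lit 0, nat_lit 38, nat_lit 68], ⟨[nat_lit 0x34835a21d70096c514ed20e164ce2f], [nat_lit 173056, nat_lit 168448, nat_lit 167168, nat_lit 160000, nat_lit 157120, nat_lit 151584, nat_lit 148304, nat_lit 144352, nat_lit 141228, nat_lit 136656, nat_lit 132590, nat_lit 1318, nat_lit 6084, nat_lit 9384, nat_lit 12880, nat_lit 18208, nat_lit 21056, nat_lit 25088, nat_lit 29952, nat_lit 33280, nat_lit 41528, nat_lit 36940, nat_lit 32999, nat_lit 28967, nat_lit 24751, nat_lit 20562, nat_lit 16422, nat_lit 12305, nat_lit 8224, nat_lit 4104, nat_lit 4]⟩⟩⟩]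
theorem shn257 : Suf hnT 19005990 (ldrop (lapp (hnP.getD 7 []) [7, 0, 1]) 6) (apW dcM phn256) (tgtN dcM phn256.e) := Suf.fin' (l := lhn257) (by decide +kernel)
def lhn256 : List AP := [⟨[nat_lit 633, nat_lit 36, nat_lit 40, nat_lit 633, nat_lit 14], [], (nat_lit 90), ⟨[nat_lit 0, nat_lit 11, nat_lit 61], [nat_lit 18, nat_lit 65], ⟨[nat_lit 0x8aaeb058522d607419c39b5940a48f], [nat_lit 173056, nat_lit 169984, nat_lit 164096, nat_lit 162688, nat_lit 155712, nat_lit 154048, nat_lit 150160, nat_lit 145680, nat_lit 140444, nat_lit 136650, nat_lit 133258, nat_lit 1488, nat_lit 5588, nat_lit 9664, nat_lit 14192, nat_lit 16416, nat_lit 21632, nat_lit 26368, nat_lit 29440, nat_lit 34304, nat_lit 37888, nat_lit 41524, nat_lit 36989, nat_lit 32993, nat_lit 28675, nat_lit 24856, nat_lit 20487, nat_lit 16393, nat_lit 12295, nat_lit 8200, nat_lit 4100]⟩⟩⟩,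
  ⟨[nat_lit 639, nat_lit 52, nat_lit 72], [], (nat_lit 121), ⟨[nat_lit 32, nat_lit 53], [nat_lit 36, nat_lit 53], ⟨[nat_lit 0xa15af81237386c0139739306aaa126], [nat_lit 169472, nat_lit 156544, nat_lit 152672, nat_lit 150096, nat_lit 144440, nat_lit 140796, nat_lit 136720, nat_lit 131512, nat_lit 738, nat_lit 5588, nat_lit 8616, nat_lit 13152, nat_lit 16864, nat_lit 21952, nat_lit 26368, nat_lit 29184, nat_lit 33792, nat_lit 37888, nat_lit 41402, nat_lit 36912, nat_lit 32821, nat_lit 28696, nat_lit 24627, nat_lit 20504, nat_lit 16425, nat_lit 12321, nat_lit 8449, nat_lit 8]⟩⟩⟩]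
theorem hnf2_3 : Suf hnT 19005990 (lapp (hnP.getD 7 []) [7, 0, 1]) (hnT.get 6 :: apW dcM q0) (tgtN dcM q0.e) := Suf.seg (l := lhn256) (by decide +kernel) shn257


end

end CF.Mon.Tr
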