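import Cfsg.Agent.Mon.hnR0
import Cfsg.Agent.Mon.hnR1
import Cfsg.Agent.Mon.hnR2
import Cfsg.Agent.Mon.hnR3

set_option autoImplicit false
set_option maxRecDepth 100000

namespace CF.Mon.Tr

open CF.Comp

noncomputable section

theorem hnci1 : Chk hnT hnwi1 := .inl ⟨hnci1_0, hnci1_1, hnci1_2, hnci1_3⟩
theorem hnci3 : Chk hnT hnwi3 := .inl ⟨hnci3_0, hnci3_1, hnci3_2, hnci3_3⟩
theorem hncr0 : Chk hnT hnwr0 := .inl ⟨hncr0_0, hncr0_1, hncr0_2, hncr0_3⟩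
theorem hncr1 : Chk hnT hnwr1 := .inl ⟨hncr1_0, hncr1_1, hncr1_2, hncr1_3⟩
theorem hncr2 : Chk hnT hnwr2 := .inl ⟨hncr2_0, hncr2_1, hncr2_2, hncr2_3⟩
theorem hncr3 : Chk hnT hnwr3 := .inl ⟨hncr3_0, hncr3_1, hncr3_2, hncr3_3⟩
theorem hncr4 : Chk hnT hnwr4 := .inl ⟨hncr4_0, hncr4_1, hncr4_2, hncr4_3⟩
theorem hncr5 : Chk hnT hnwr5 := .inl ⟨hncr5_0, hncr5_1, hncr5_2, hncr5_3⟩
theorem hncr8 : Chk hnT hnwr8 := .inl ⟨hncr8_0, hncr8_1, hncr8_2, hncr8_3⟩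
theorem hncr9 : Chk hnT hnwr9 := .inl ⟨hncr9_0, hncr9_1, hncr9_2, hncr9_3⟩
theorem hncr10 : Chk hnT hnwr10 := .inl ⟨hncr10_0, hncr10_1, hncr10_2, hncr10_3⟩
theorem hncr11 : Chk hnT hnwr11 := .inl ⟨hncr11_0, hncr11_1, hncr11_2, hncr11_3⟩
theorem hncr12 : Chk hnT hnwr12 := .inl ⟨hncr12_0, hncr12_1, hncr12_2, hncr12_3⟩
theorem hncr13 : Chk hnT hnwr13 := .inl ⟨hncr13_0, hncr13_1, hncr13_2, hncr13_3⟩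

theorem hnI_chk : hnI.Forall (Chk hnT) := ⟨hnci0, hnci1, hnci2, hnci3⟩

theorem hnW_chk : hnW.Forall (Chk hnT) := ⟨hncr0, hncr1, hncr2, hncr3, hncr4, hncr5, hncr6, hncr7, hncr8, hncr9, hncr10, hncr11, hncr12, hncr13⟩

theorem hn_fix : ∀ i < 4, Fix hnT (hnP.getD (2 * i + 1) []) 4 5 ∧ Fix hnT (hnP.getD (2 * i + 1) []) 6 7
  | 0, _ => ⟨hnf1_0, hnf2_0⟩
  | 1, _ => ⟨hnf1_1, hnf2_1⟩
  | 2, _ => ⟨hnf1_2, hnf2_2⟩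
  | 3, _ => ⟨hnf1_3, hnf2_3⟩

end

end CF.Mon.Tr
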