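import Cfsg.Agent.Mon.DcBE0

set_option autoImplicit false
set_option maxRecDepth 100000

namespace CF.Mon

open CF.Comp

noncomputable section

def dcBE : BT El := (BT.node (nat_lit 64) (BT.node (nat_lit 32) (BT.node (nat_lit 16) (BT.node (nat_lit 8) dcBE0 dcBE1) (BT.node (nat_lit 24) dcBE2 dcBE3)) (BT.node (nat_lit 48) (BT.node (nat_lit 40) dcBE4 dcBE5) (BT.node (nat_lit 56) dcBE6 dcBE7))) (BT.node (nat_lit 96) (BT.node (nat_lit 80) (BT.node (nat_lit 72) dcBE8 dcBE9) (BT.node (nat_lit 88) dcBE10 dcBE11)) (BT.node (nat_lit 112) (BT.node (nat_lit 104) dcBE12 dcBE13) (BT.node (nat_lit 120) dcBE14 (BT.node (nat_lit 128) dcBE15 dcBE16)))))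

theorem dcBE_ok : dcBE.all (elB (nat_lit 12288)) = true := (BT.all_node (BT.all_node (BT.all_node (BT.all_node dcBE0_ok dcBE1_ok) (BT.all_node dcBE2_ok dcBE3_ok)) (BT.all_node (BT.all_node dcBE4_ok dcBE5_ok) (BT.all_node dcBE6_ok dcBE7_ok))) (BT.all_node (BT.all_node (BT.all_node dcBE8_ok dcBE9_ok) (BT.all_node dcBE10_ok dcBE11_ok)) (BT.all_node (BT.all_node dcBE12_ok dcBE13_ok) (BT.all_node dcBE14_ok (BT.all_node dcBE15_ok dcBE16_ok)))))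

def dcBF : BT Fact := (.node (nat_lit 55) (.node (nat_lit 27) (.node (nat_lit 13) (.node (nat_lit 6) (.node (nat_lit 3) (.node (nat_lit 1) (.leaf ⟨(nat_lit 0), (nat_lit 0), (nat_lit 1), (nat_lit 0), (nat_lit 0)⟩)
 (.node (nat_lit 2) (.leaf ⟨(nat_lit 0), (nat_lit 0), (nat_lit 2), (nat_lit 0), (nat_lit 0)⟩)
 (.leaf ⟨(nat_lit 0), (nat_lit 0), (nat_lit 3), (nat_lit 0), (nat_lit 0)⟩)))
 (.node (nat_lit 4) (.leaf ⟨(nat_lit 0), (nat_lit 0), (nat_lit 4), (nat_lit 0), (nat_lit 0)⟩)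
 (.node (nat_lit 5) (.leaf ⟨(nat_lit 0), (nat_lit 0), (nat_lit 5), (nat_lit 0), (nat_lit 0)⟩)
 (.leaf ⟨(nat_lit 0), (nat_lit 0), (nat_lit 6), (nat_lit 0), (nat_lit 0)⟩))))
 (.node (nat_lit 9) (.node (nat_lit 7) (.leaf ⟨(nat_lit 0), (nat_lit 0), (nat_lit 7), (nat_lit 0), (nat_lit 0)⟩)
 (.node (nat_lit 8) (.leaf ⟨(nat_lit 0), (nat_lit 0), (nat_lit 8), (nat_lit 0), (nat_lit 0)⟩)
 (.leaf ⟨(nat_lit 0), (nat_lit 0), (nat_lit 9), (nat_lit 0), (nat_lit 0)⟩)))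
 (.node (nat_lit 11) (.node (nat_lit 10) (.leaf ⟨(nat_lit 0), (nat_lit 0), (nat_lit 10), (nat_lit 0), (nat_lit 0)⟩)
 (.leaf ⟨(nat_lit 1), (nat_lit 0), (nat_lit 0), (nat_lit 0), (nat_lit 0)⟩))
 (.node (nat_lit 12) (.leaf ⟨(nat_lit 1), (nat_lit 0), (nat_lit 11), (nat_lit 1), (nat_lit 0)⟩)
 (.leaf ⟨(nat_lit 0), (nat_lit 1), (nat_lit 12), (nat_lit 0), (nat_lit 0)⟩)))))
 (.node (nat_lit 20) (.node (nat_lit 16) (.node (nat_lit 14) (.leaf ⟨(nat_lit 0), (nat_lit 1), (nat_lit 13), (nat_lit 0), (nat_lit 0)⟩)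
 (.node (nat_lit 15) (.leaf ⟨(nat_lit 0), (nat_lit 1), (nat_lit 14), (nat_lit 0), (nat_lit 0)⟩)
 (.leaf ⟨(nat_lit 0), (nat_lit 1), (nat_lit 15), (nat_lit 0), (nat_lit 0)⟩)))
 (.node (nat_lit 18) (.node (nat_lit 17) (.leaf ⟨(nat_lit 0), (nat_lit 1), (nat_lit 16), (nat_lit 0), (nat_lit 0)⟩)
 (.leaf ⟨(nat_lit 0), (nat_lit 1), (nat_lit 17), (nat_lit 0), (nat_lit 0)⟩))
 (.node (nat_lit 19) (.leaf ⟨(nat_lit 0), (nat_lit 1), (nat_lit 18), (nat_lit 0), (nat_lit 0)⟩)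
 (.leaf ⟨(nat_lit 0), (nat_lit 1), (nat_lit 19), (nat_lit 0), (nat_lit 0)⟩))))
 (.node (nat_lit 23) (.node (nat_lit 21) (.leaf ⟨(nat_lit 0), (nat_lit 1), (nat_lit 20), (nat_lit 0), (nat_lit 0)⟩)
 (.node (nat_lit 22) (.leaf ⟨(nat_lit 0), (nat_lit 1), (nat_lit 21), (nat_lit 0), (nat_lit 0)⟩)
 (.leaf ⟨(nat_lit 1), (nat_lit 1), (nat_lit 22), (nat_lit 1), (nat_lit 23)⟩)))
 (.node (nat_lit 25) (.node (nat_lit 24) (.leaf ⟨(nat_lit 1), (nat_lit 1), (nat_lit 24), (nat_lit 1), (nat_lit 25)⟩)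
 (.leaf ⟨(nat_lit 1), (nat_lit 0), (nat_lit 26), (nat_lit 2), (nat_lit 0)⟩))
 (.node (nat_lit 26) (.leaf ⟨(nat_lit 0), (nat_lit 2), (nat_lit 27), (nat_lit 0), (nat_lit 0)⟩)
 (.leaf ⟨(nat_lit 0), (nat_lit 2), (nat_lit 28), (nat_lit 0), (nat_lit 0)⟩))))))
 (.node (nat_lit 41) (.node (nat_lit 34) (.node (nat_lit 30) (.node (nat_lit 28) (.leaf ⟨(nat_lit 0), (nat_lit 2), (nat_lit 29), (nat_lit 0), (nat_lit 0)⟩)
 (.node (nat_lit 29) (.leaf ⟨(nat_lit 0), (nat_lit 2), (nat_lit 30), (nat_lit 0), (nat_lit 0)⟩)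
 (.leaf ⟨(nat_lit 1), (nat_lit 2), (nat_lit 31), (nat_lit 2), (nat_lit 32)⟩)))
 (.node (nat_lit 32) (.node (nat_lit 31) (.leaf ⟨(nat_lit 1), (nat_lit 2), (nat_lit 33), (nat_lit 0), (nat_lit 34)⟩)
 (.leaf ⟨(nat_lit 1), (nat_lit 2), (nat_lit 35), (nat_lit 1), (nat_lit 36)⟩))
 (.node (nat_lit 33) (.leaf ⟨(nat_lit 0), (nat_lit 2), (nat_lit 37), (nat_lit 0), (nat_lit 0)⟩)
 (.leaf ⟨(nat_lit 0), (nat_lit 2), (nat_lit 38), (nat_lit 0), (nat_lit 0)⟩))))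
 (.node (nat_lit 37) (.node (nat_lit 35) (.leaf ⟨(nat_lit 0), (nat_lit 2), (nat_lit 39), (nat_lit 0), (nat_lit 0)⟩)
 (.node (nat_lit 36) (.leaf ⟨(nat_lit 0), (nat_lit 2), (nat_lit 40), (nat_lit 0), (nat_lit 0)⟩)
 (.leaf ⟨(nat_lit 0), (nat_lit 2), (nat_lit 41), (nat_lit 0), (nat_lit 0)⟩)))
 (.node (nat_lit 39) (.node (nat_lit 38) (.leaf ⟨(nat_lit 0), (nat_lit 2), (nat_lit 42), (nat_lit 0), (nat_lit 0)⟩)
 (.leaf ⟨(nat_lit 1), (nat_lit 1), (nat_lit 43), (nat_lit 1), (nat_lit 44)⟩))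
 (.node (nat_lit 40) (.leaf ⟨(nat_lit 1), (nat_lit 2), (nat_lit 45), (nat_lit 2), (nat_lit 46)⟩)
 (.leaf ⟨(nat_lit 1), (nat_lit 1), (nat_lit 47), (nat_lit 3), (nat_lit 0)⟩)))))
 (.node (nat_lit 48) (.node (nat_lit 44) (.node (nat_lit 42) (.leaf ⟨(nat_lit 0), (nat_lit 3), (nat_lit 48), (nat_lit 0), (nat_lit 0)⟩)
 (.node (nat_lit 43) (.leaf ⟨(nat_lit 0), (nat_lit 3), (nat_lit 49), (nat_lit 0), (nat_lit 0)⟩)
 (.leaf ⟨(nat_lit 0), (nat_lit 3), (nat_lit 50), (nat_lit 0), (nat_lit 0)⟩)))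
 (.node (nat_lit 46) (.node (nat_lit 45) (.leaf ⟨(nat_lit 0), (nat_lit 3), (nat_lit 51), (nat_lit 0), (nat_lit 0)⟩)
 (.leaf ⟨(nat_lit 0), (nat_lit 3), (nat_lit 52), (nat_lit 0), (nat_lit 0)⟩))
 (.node (nat_lit 47) (.leaf ⟨(nat_lit 0), (nat_lit 3), (nat_lit 53), (nat_lit 0), (nat_lit 0)⟩)
 (.leaf ⟨(nat_lit 0), (nat_lit 3), (nat_lit 54), (nat_lit 0), (nat_lit 0)⟩))))
 (.node (nat_lit 51) (.node (nat_lit 49) (.leaf ⟨(nat_lit 0), (nat_lit 3), (nat_lit 55), (nat_lit 0), (nat_lit 0)⟩)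
 (.node (nat_lit 50) (.leaf ⟨(nat_lit 0), (nat_lit 3), (nat_lit 56), (nat_lit 0), (nat_lit 0)⟩)
 (.leaf ⟨(nat_lit 1), (nat_lit 2), (nat_lit 57), (nat_lit 3), (nat_lit 58)⟩)))
 (.node (nat_lit 53) (.node (nat_lit 52) (.leaf ⟨(nat_lit 1), (nat_lit 3), (nat_lit 59), (nat_lit 3), (nat_lit 60)⟩)
 (.leaf ⟨(nat_lit 1), (nat_lit 3), (nat_lit 61), (nat_lit 3), (nat_lit 62)⟩))
 (.node (nat_lit 54) (.leaf ⟨(nat_lit 1), (nat_lit 3), (nat_lit 63), (nat_lit 1), (nat_lit 64)⟩)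
 (.leaf ⟨(nat_lit 1), (nat_lit 3), (nat_lit 65), (nat_lit 1), (nat_lit 66)⟩)))))))
 (.node (nat_lit 83) (.node (nat_lit 69) (.node (nat_lit 62) (.node (nat_lit 58) (.node (nat_lit 56) (.leaf ⟨(nat_lit 1), (nat_lit 3), (nat_lit 67), (nat_lit 3), (nat_lit 68)⟩)
 (.node (nat_lit 57) (.leaf ⟨(nat_lit 1), (nat_lit 3), (nat_lit 69), (nat_lit 3), (nat_lit 70)⟩)
 (.leaf ⟨(nat_lit 1), (nat_lit 3), (nat_lit 71), (nat_lit 2), (nat_lit 72)⟩)))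
 (.node (nat_lit 60) (.node (nat_lit 59) (.leaf ⟨(nat_lit 0), (nat_lit 3), (nat_lit 73), (nat_lit 0), (nat_lit 0)⟩)
 (.leaf ⟨(nat_lit 0), (nat_lit 3), (nat_lit 74), (nat_lit 0), (nat_lit 0)⟩))
 (.node (nat_lit 61) (.leaf ⟨(nat_lit 0), (nat_lit 3), (nat_lit 75), (nat_lit 0), (nat_lit 0)⟩)
 (.leaf ⟨(nat_lit 0), (nat_lit 3), (nat_lit 76), (nat_lit 0), (nat_lit 0)⟩))))
 (.node (nat_lit 65) (.node (nat_lit 63) (.leaf ⟨(nat_lit 0), (nat_lit 3), (nat_lit 77), (nat_lit 0), (nat_lit 0)⟩)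
 (.node (nat_lit 64) (.leaf ⟨(nat_lit 0), (nat_lit 3), (nat_lit 78), (nat_lit 0), (nat_lit 0)⟩)
 (.leaf ⟨(nat_lit 1), (nat_lit 1), (nat_lit 79), (nat_lit 4), (nat_lit 0)⟩)))
 (.node (nat_lit 67) (.node (nat_lit 66) (.leaf ⟨(nat_lit 0), (nat_lit 4), (nat_lit 80), (nat_lit 0), (nat_lit 0)⟩)
 (.leaf ⟨(nat_lit 0), (nat_lit 4), (nat_lit 81), (nat_lit 0), (nat_lit 0)⟩))
 (.node (nat_lit 68) (.leaf ⟨(nat_lit 0), (nat_lit 4), (nat_lit 82), (nat_lit 0), (nat_lit 0)⟩)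
 (.leaf ⟨(nat_lit 0), (nat_lit 4), (nat_lit 83), (nat_lit 0), (nat_lit 0)⟩)))))
 (.node (nat_lit 76) (.node (nat_lit 72) (.node (nat_lit 70) (.leaf ⟨(nat_lit 0), (nat_lit 4), (nat_lit 84), (nat_lit 0), (nat_lit 0)⟩)
 (.node (nat_lit 71) (.leaf ⟨(nat_lit 0), (nat_lit 4), (nat_lit 85), (nat_lit 0), (nat_lit 0)⟩)
 (.leaf ⟨(nat_lit 1), (nat_lit 4), (nat_lit 86), (nat_lit 1), (nat_lit 87)⟩)))
 (.node (nat_lit 74) (.node (nat_lit 73) (.leaf ⟨(nat_lit 1), (nat_lit 4), (nat_lit 88), (nat_lit 1), (nat_lit 89)⟩)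
 (.leaf ⟨(nat_lit 1), (nat_lit 4), (nat_lit 90), (nat_lit 4), (nat_lit 91)⟩))
 (.node (nat_lit 75) (.leaf ⟨(nat_lit 1), (nat_lit 4), (nat_lit 92), (nat_lit 4), (nat_lit 93)⟩)
 (.leaf ⟨(nat_lit 1), (nat_lit 4), (nat_lit 94), (nat_lit 3), (nat_lit 95)⟩))))
 (.node (nat_lit 79) (.node (nat_lit 77) (.leaf ⟨(nat_lit 1), (nat_lit 4), (nat_lit 96), (nat_lit 4), (nat_lit 97)⟩)
 (.node (nat_lit 78) (.leaf ⟨(nat_lit 0), (nat_lit 4), (nat_lit 98), (nat_lit 0), (nat_lit 0)⟩)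
 (.leaf ⟨(nat_lit 0), (nat_lit 4), (nat_lit 99), (nat_lit 0), (nat_lit 0)⟩)))
 (.node (nat_lit 81) (.node (nat_lit 80) (.leaf ⟨(nat_lit 0), (nat_lit 4), (nat_lit 100), (nat_lit 0), (nat_lit 0)⟩)
 (.leaf ⟨(nat_lit 0), (nat_lit 4), (nat_lit 101), (nat_lit 0), (nat_lit 0)⟩))
 (.node (nat_lit 82) (.leaf ⟨(nat_lit 0), (nat_lit 4), (nat_lit 102), (nat_lit 0), (nat_lit 0)⟩)
 (.leaf ⟨(nat_lit 0), (nat_lit 4), (nat_lit 103), (nat_lit 0), (nat_lit 0)⟩))))))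
 (.node (nat_lit 97) (.node (nat_lit 90) (.node (nat_lit 86) (.node (nat_lit 84) (.leaf ⟨(nat_lit 1), (nat_lit 1), (nat_lit 104), (nat_lit 0), (nat_lit 105)⟩)
 (.node (nat_lit 85) (.leaf ⟨(nat_lit 1), (nat_lit 1), (nat_lit 106), (nat_lit 2), (nat_lit 107)⟩)
 (.leaf ⟨(nat_lit 1), (nat_lit 3), (nat_lit 108), (nat_lit 4), (nat_lit 109)⟩)))
 (.node (nat_lit 88) (.node (nat_lit 87) (.leaf ⟨(nat_lit 0), (nat_lit 0), (nat_lit 110), (nat_lit 0), (nat_lit 0)⟩)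
 (.leaf ⟨(nat_lit 0), (nat_lit 0), (nat_lit 111), (nat_lit 0), (nat_lit 0)⟩))
 (.node (nat_lit 89) (.leaf ⟨(nat_lit 0), (nat_lit 0), (nat_lit 112), (nat_lit 0), (nat_lit 0)⟩)
 (.leaf ⟨(nat_lit 0), (nat_lit 0), (nat_lit 113), (nat_lit 0), (nat_lit 0)⟩))))
 (.node (nat_lit 93) (.node (nat_lit 91) (.leaf ⟨(nat_lit 0), (nat_lit 0), (nat_lit 114), (nat_lit 0), (nat_lit 0)⟩)
 (.node (nat_lit 92) (.leaf ⟨(nat_lit 0), (nat_lit 1), (nat_lit 115), (nat_lit 0), (nat_lit 0)⟩)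
 (.leaf ⟨(nat_lit 0), (nat_lit 1), (nat_lit 116), (nat_lit 0), (nat_lit 0)⟩)))
 (.node (nat_lit 95) (.node (nat_lit 94) (.leaf ⟨(nat_lit 0), (nat_lit 1), (nat_lit 117), (nat_lit 0), (nat_lit 0)⟩)
 (.leaf ⟨(nat_lit 0), (nat_lit 1), (nat_lit 118), (nat_lit 0), (nat_lit 0)⟩))
 (.node (nat_lit 96) (.leaf ⟨(nat_lit 0), (nat_lit 1), (nat_lit 119), (nat_lit 0), (nat_lit 0)⟩)
 (.leaf ⟨(nat_lit 0), (nat_lit 2), (nat_lit 120), (nat_lit 0), (nat_lit 0)⟩)))))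
 (.node (nat_lit 104) (.node (nat_lit 100) (.node (nat_lit 98) (.leaf ⟨(nat_lit 0), (nat_lit 2), (nat_lit 121), (nat_lit 0), (nat_lit 0)⟩)
 (.node (nat_lit 99) (.leaf ⟨(nat_lit 0), (nat_lit 2), (nat_lit 122), (nat_lit 0), (nat_lit 0)⟩)
 (.leaf ⟨(nat_lit 0), (nat_lit 2), (nat_lit 123), (nat_lit 0), (nat_lit 0)⟩)))
 (.node (nat_lit 102) (.node (nat_lit 101) (.leaf ⟨(nat_lit 0), (nat_lit 2), (nat_lit 124), (nat_lit 0), (nat_lit 0)⟩)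
 (.leaf ⟨(nat_lit 0), (nat_lit 3), (nat_lit 125), (nat_lit 0), (nat_lit 0)⟩))
 (.node (nat_lit 103) (.leaf ⟨(nat_lit 0), (nat_lit 3), (nat_lit 126), (nat_lit 0), (nat_lit 0)⟩)
 (.leaf ⟨(nat_lit 0), (nat_lit 3), (nat_lit 127), (nat_lit 0), (nat_lit 0)⟩))))
 (.node (nat_lit 107) (.node (nat_lit 105) (.leaf ⟨(nat_lit 0), (nat_lit 3), (nat_lit 128), (nat_lit 0), (nat_lit 0)⟩)
 (.node (nat_lit 106) (.leaf ⟨(nat_lit 0), (nat_lit 3), (nat_lit 129), (nat_lit 0), (nat_lit 0)⟩)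
 (.leaf ⟨(nat_lit 0), (nat_lit 4), (nat_lit 130), (nat_lit 0), (nat_lit 0)⟩)))
 (.node (nat_lit 109) (.node (nat_lit 108) (.leaf ⟨(nat_lit 0), (nat_lit 4), (nat_lit 131), (nat_lit 0), (nat_lit 0)⟩)
 (.leaf ⟨(nat_lit 0), (nat_lit 4), (nat_lit 132), (nat_lit 0), (nat_lit 0)⟩))
 (.node (nat_lit 110) (.leaf ⟨(nat_lit 0), (nat_lit 4), (nat_lit 133), (nat_lit 0), (nat_lit 0)⟩)
 (.leaf ⟨(nat_lit 0), (nat_lit 4), (nat_lit 134), (nat_lit 0), (nat_lit 0)⟩))))))))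

def dcB : Ctx := ⟨dcBE, dcBF, [(nat_lit 0, nat_lit 0), (nat_lit 0, nat_lit 11), (nat_lit 0, nat_lit 26), (nat_lit 1, nat_lit 47), (nat_lit 1, nat_lit 79)], nat_lit 87960930234368, true⟩

def dcBgi : List (List ℕ) := [[nat_lit 86, nat_lit 87, nat_lit 88, nat_lit 89, nat_lit 90],
  [nat_lit 91, nat_lit 92, nat_lit 93, nat_lit 94, nat_lit 95],
  [nat_lit 96, nat_lit 97, nat_lit 98, nat_lit 99, nat_lit 100],
  [nat_lit 101, nat_lit 102, nat_lit 103, nat_lit 104, nat_lit 105],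
  [nat_lit 106, nat_lit 107, nat_lit 108, nat_lit 109, nat_lit 110]]

def dcBri : List (List ℕ) := [[nat_lit 10, nat_lit 24, nat_lit 11],
  [nat_lit 83, nat_lit 22, nat_lit 40, nat_lit 38, nat_lit 64, nat_lit 84, nat_lit 23],
  [nat_lit 29, nat_lit 30, nat_lit 31, nat_lit 50, nat_lit 39],
  [nat_lit 51, nat_lit 52, nat_lit 53, nat_lit 56, nat_lit 57, nat_lit 85],
  [nat_lit 71, nat_lit 73, nat_lit 74, nat_lit 75, nat_lit 76]]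

theorem dcB_out : allFrom (outB dcB (nat_lit 111) gensB repsB dcBgi dcBri) 0 5 = true := by
  decide +kernel

end

end CF.Mon
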