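import Cfsg.Agent.Mon.Dc
import Cfsg.Agent.Mon.NdB

set_option autoImplicit false
set_option maxRecDepth 100000

namespace CF.Mon

open CF.Comp

noncomputable section

def dcBE0 : BT El := (.node (nat_lit 4) (.node (nat_lit 2) (.node (nat_lit 1) (.leaf ⟨[], []⟩)
 (.leaf ⟨[nat_lit 0x782842898ad9ddd5a1d63484965311078242, nat_lit 0x1dbe8474a853be356c0d602841232f35a503, nat_lit 0x5a9a02cce3221f432aecb06b16c80e8244b], [nat_lit 65536, nat_lit 69632, nat_lit 73728, nat_lit 81920, nat_lit 86016, nat_lit 90112, nat_lit 94208, nat_lit 98304, nat_lit 178176, nat_lit 168448, nat_lit 167168, nat_lit 163584, nat_lit 156160, nat_lit 155616, nat_lit 148208, nat_lit 145016, nat_lit 140064, nat_lit 138130, nat_lit 132416, nat_lit 2616, nat_lit 6712, nat_lit 10808, nat_lit 12384, nat_lit 17632, nat_lit 24064, nat_lit 26112, nat_lit 30976, nat_lit 34816, nat_lit 39936, nat_lit 45745, nat_lit 41852, nat_lit 37904, nat_lit 33491, nat_lit 29046, nat_lit 24752, nat_lit 20504, nat_lit 16421, nat_lit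 12289, nat_lit 8193, nat_lit 4097, nat_lit 2, nat_lit 430088, nat_lit 417796, nat_lit 405504, nat_lit 164352, nat_lit 156416, nat_lit 147712, nat_lit 143936, nat_lit 131648, nat_lit 45057, nat_lit 41745, nat_lit 28673, nat_lit 20481, nat_lit 8193, nat_lit 4097, nat_lit 327680]⟩))
 (.node (nat_lit 3) (.leaf ⟨[nat_lit 0xd44281714d0a8ce87ae2904d82b848ab4a8d, nat_lit 0xfaa65050ae742e6f8006e4d8a165255890cd, nat_lit 0x500a9a5be67509177492429815a4601b31a3, nat_lit 0x8dd42b124b46226a85eae0c46f3596069247], [nat_lit 65536, nat_lit 69632, nat_lit 73728, nat_lit 110592, nat_lit 178176, nat_lit 173056, nat_lit 169472, nat_lit 164352, nat_lit 162688, nat_lit 156352, nat_lit 155232, nat_lit 150960, nat_lit 143632, nat_lit 141788, nat_lit 135706, nat_lit 134516, nat_lit 1178, nat_lit 4100, nat_lit 10272, nat_lit 14912, nat_lit 20160, nat_lit 21056, nat_lit 26368, nat_lit 30464, nat_lit 35840, nat_lit 37888, nat_lit 46175, nat_lit 41934, nat_lit 38240, nat_lit 32885, nat_lit 28734, nat_lit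 24862, nat_lit 20484, nat_lit 16396, nat_lit 12291, nat_lit 8211, nat_lit 4100, nat_lit 2, nat_lit 438282, nat_lit 430088, nat_lit 421894, nat_lit 413700, nat_lit 405504, nat_lit 169984, nat_lit 166912, nat_lit 163072, nat_lit 157568, nat_lit 154240, nat_lit 148128, nat_lit 144160, nat_lit 133848, nat_lit 8193, nat_lit 4097]⟩)
 (.leaf ⟨[nat_lit 0xc6f3faa9a0f930b7a3a64b362742c2a48c40, nat_lit 0x472ee429c24ac12fbb66ba454c1804672256, nat_lit 0x9f5ac285eb4cd16b8810ab22d538e391286], [nat_lit 77824, nat_lit 81920, nat_lit 90112, nat_lit 98304, nat_lit 102400, nat_lit 106496, nat_lit 110592, nat_lit 174080, nat_lit 171008, nat_lit 164608, nat_lit 163072, nat_lit 157376, nat_lit 154048, nat_lit 147696, nat_lit 147040, nat_lit 141548, nat_lit 136836, nat_lit 134800, nat_lit 2732, nat_lit 6828, nat_lit 9280, nat_lit 15504, nat_lit 20064, nat_lit 24256, nat_lit 27008, nat_lit 29440, nat_lit 34816, nat_lit 39936, nat_lit 43008, nat_lit 46539, nat_lit 41724, nat_lit 37273, nat_lit 32860,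 nat_lit 29269, nat_lit 24607, nat_lit 21504, nat_lit 16393, nat_lit 12289, nat_lit 8225, nat_lit 4097, nat_lit 425990, nat_lit 413700, nat_lit 405504, nat_lit 151616, nat_lit 147552, nat_lit 143728, nat_lit 131152, nat_lit 45121, nat_lit 41073, nat_lit 37209, nat_lit 28736, nat_lit 8193, nat_lit 4097]⟩)))
 (.node (nat_lit 6) (.node (nat_lit 5) (.leaf ⟨[nat_lit 0x27ee7d7adb319ecc322244c2f5138b49002a, nat_lit 0x6f3f694da2d090c57415744eac01c627c974, nat_lit 0xaa9f600b57791a3040e8f032c97554224ca7], [nat_lit 90112, nat_lit 94208, nat_lit 98304, nat_lit 110592, nat_lit 178176, nat_lit 173056, nat_lit 168448, nat_lit 165120, nat_lit 160640, nat_lit 157504, nat_lit 153536, nat_lit 147888, nat_lit 143368, nat_lit 140496, nat_lit 136402, nat_lit 134823, nat_lit 2546, nat_lit 4100, nat_lit 12000, nat_lit 15744, nat_lit 18592, nat_lit 21888, nat_lit 24960, nat_lit 35328, nat_lit 37888, nat_lit 46647, nat_lit 41808, nat_lit 38035, nat_lit 33528, nat_lit 28760, nat_lit 24728, nat_lit 20502,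 nat_lit 16419, nat_lit 12422, nat_lit 8201, nat_lit 4100, nat_lit 434184, nat_lit 421893, nat_lit 409600, nat_lit 164864, nat_lit 160768, nat_lit 152704, nat_lit 148736, nat_lit 131360, nat_lit 45057, nat_lit 36865, nat_lit 12289, nat_lit 8193, nat_lit 4097]⟩)
 (.leaf ⟨[nat_lit 0xd4e748904cb72ac9250af032a28b61799d03, nat_lit 0xa59a034c6f4aa8b2b430bdaa8602448b8e2, nat_lit 0x39f3fa629f619a0e011b10d04b2d507bcd32], [nat_lit 94208, nat_lit 106496, nat_lit 169984, nat_lit 161024, nat_lit 156224, nat_lit 153568, nat_lit 148192, nat_lit 145752, nat_lit 139672, nat_lit 137332, nat_lit 135007, nat_lit 3110, nat_lit 4100, nat_lit 11296, nat_lit 14464, nat_lit 19552, nat_lit 24000, nat_lit 27904, nat_lit 31488, nat_lit 33280, nat_lit 37888, nat_lit 43008, nat_lit 46563, nat_lit 41659, nat_lit 38018, nat_lit 34846, nat_lit 29054, nat_lit 24869, nat_lit 20505, nat_lit 16425, nat_lit 8195, nat_lit 4100, nat_lit 434183, nat_lit 417796, nat_lit 405504, nat_lit 143376, nat_lit 131224, nat_lit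 45185, nat_lit 36865, nat_lit 32769, nat_lit 20504, nat_lit 8193, nat_lit 4097, nat_lit 327680]⟩))
 (.node (nat_lit 7) (.leaf ⟨[nat_lit 0x56003929a8d54c0488ceb608377a6a893ad0, nat_lit 0xdd7477822c470e97014cfacd678b64262541, nat_lit 0xa039664c764882679dabb822e81512a928a, nat_lit 0xf6055c15e8c3aab20b4c58a6c44380b7ce03], [nat_lit 81920, nat_lit 94208, nat_lit 98304, nat_lit 178176, nat_lit 173056, nat_lit 165888, nat_lit 161280, nat_lit 157376, nat_lit 152448, nat_lit 148752, nat_lit 145384, nat_lit 139920, nat_lit 135918, nat_lit 132952, nat_lit 2746, nat_lit 4100, nat_lit 8208, nat_lit 15024, nat_lit 17408, nat_lit 21120, nat_lit 28160, nat_lit 32000, nat_lit 39936, nat_lit 46057, nat_lit 41763, nat_lit 38084, nat_lit 32820, nat_lit 29217, nat_lit 24754, nat_lit 20557, nat_lit 16391, nat_lit 12294, nat_lit 8201, nat_lit 4100, nat_lit 2, nat_lit 438282, nat_lit 430088, nat_lit 421894, nat_lit 413700, nat_lit 405504, nat_lit 168960, nat_lit 162816, nat_lit 155776, nat_lit 152448,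 nat_lit 148800, nat_lit 143520, nat_lit 131168, nat_lit 8193, nat_lit 4097, nat_lit 327680]⟩)
 (.leaf ⟨[nat_lit 0x7242b795889a4cc86386d0804f89d5585d65, nat_lit 0x6a3300bc92f3016881e22ad08354ecc73425, nat_lit 0x363f5f686aa316479c4904bc76051885b857, nat_lit 0x50399a84ee34564b428a2b2e01a6424366f], [nat_lit 81920, nat_lit 86016, nat_lit 90112, nat_lit 98304, nat_lit 106496, nat_lit 178176, nat_lit 174080, nat_lit 164864, nat_lit 163200, nat_lit 156864, nat_lit 151712, nat_lit 149728, nat_lit 146808, nat_lit 141300, nat_lit 136312, nat_lit 133463, nat_lit 2304, nat_lit 6400, nat_lit 10496, nat_lit 14784, nat_lit 17760, nat_lit 24512, nat_lit 25088, nat_lit 29696, nat_lit 35840, nat_lit 37888, nat_lit 43008, nat_lit 46889, nat_lit 41164, nat_lit 37190, nat_lit 32870, nat_lit 28781, nat_lit 24630, nat_lit 20544, nat_lit 12421, nat_lit 8193, nat_lit 4097, nat_lit 2, nat_lit 438282, nat_lit 430088, nat_lit 421894, nat_lit 413700, nat_lit 405504, nat_lit 171008, nat_lit 165888, nat_lit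 161280, nat_lit 156672, nat_lit 154496, nat_lit 151360, nat_lit 143808, nat_lit 131328, nat_lit 8193, nat_lit 4097]⟩))))

theorem dcBE0_ok : dcBE0.all (elB (nat_lit 12288)) = true := by decide +kernel

def dcBE1 : BT El := (.node (nat_lit 12) (.node (nat_lit 10) (.node (nat_lit 9) (.leaf ⟨[nat_lit 0xb2b41eb0a44618aa0242f1dcf3752ab6c510, nat_lit 0x96ac596baef3822b54c649052532202a5596, nat_lit 0xf3ca6f3560a1464e2da6901d840ade868e97], [nat_lit 65536, nat_lit 69632, nat_lit 73728, nat_lit 77824, nat_lit 81920, nat_lit 86016, nat_lit 90112, nat_lit 94208, nat_lit 110592, nat_lit 175104, nat_lit 171520, nat_lit 165888, nat_lit 160384, nat_lit 158208, nat_lit 154464, nat_lit 149872, nat_lit 145704, nat_lit 143124, nat_lit 137134, nat_lit 134911, nat_lit 1896, nat_lit 5992, nat_lit 10088, nat_lit 14864, nat_lit 20032, nat_lit 23808, nat_lit 25088, nat_lit 30720, nat_lit 34304, nat_lit 39936, nat_lit 43008, nat_lit 46485, nat_lit 41582, nat_lit 36923, nat_lit 34830, nat_lit 29002, nat_lit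 24749, nat_lit 20487, nat_lit 16448, nat_lit 12306, nat_lit 8193, nat_lit 4097, nat_lit 2, nat_lit 425990, nat_lit 413700, nat_lit 405504, nat_lit 155904, nat_lit 151872, nat_lit 147776, nat_lit 143728, nat_lit 131328, nat_lit 45408, nat_lit 41064, nat_lit 37160, nat_lit 28784, nat_lit 8193, nat_lit 4097, nat_lit 327680]⟩)
 (.leaf ⟨[nat_lit 0x718727b383378e9211c0b25d35515ac34228, nat_lit 0x53fc5f019f559667b495480923205b78b10e, nat_lit 0x9f55362554359a744c450ddc3855f19008b, nat_lit 0x95c30f0de608368e1314478d27b1a45aa22b], [nat_lit 65536, nat_lit 69632, nat_lit 73728, nat_lit 77824, nat_lit 81920, nat_lit 90112, nat_lit 94208, nat_lit 110592, nat_lit 174080, nat_lit 168448, nat_lit 165120, nat_lit 162048, nat_lit 156864, nat_lit 151680, nat_lit 150640, nat_lit 145896, nat_lit 141224, nat_lit 135796, nat_lit 134040, nat_lit 2560, nat_lit 6656, nat_lit 10752, nat_lit 14624, nat_lit 18944, nat_lit 21568, nat_lit 25088, nat_lit 28928, nat_lit 39936, nat_lit 46533, nat_lit 41573,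 nat_lit 32944, nat_lit 28703, nat_lit 24614, nat_lit 20563, nat_lit 16398, nat_lit 12310, nat_lit 8193, nat_lit 4097, nat_lit 438282, nat_lit 430088, nat_lit 421894, nat_lit 413700, nat_lit 405504, nat_lit 174080, nat_lit 168960, nat_lit 166400, nat_lit 163328, nat_lit 159488, nat_lit 152512, nat_lit 148800, nat_lit 144480, nat_lit 131624, nat_lit 8193, nat_lit 4097, nat_lit 327680]⟩))
 (.node (nat_lit 11) (.leaf ⟨[nat_lit 0xeb44d8a804d3ba86459eb22a430cd2565e11, nat_lit 0x21d77454c6c12dd2025b0252b6394d77a221, nat_lit 0xf693c0135809d2d2515677046f856f132488], [nat_lit 77824, nat_lit 81920, nat_lit 86016, nat_lit 94208, nat_lit 98304, nat_lit 102400, nat_lit 106496, nat_lit 178176, nat_lit 173056, nat_lit 169472, nat_lit 165888, nat_lit 160640, nat_lit 157056, nat_lit 153728, nat_lit 147472, nat_lit 145376, nat_lit 140172, nat_lit 136142, nat_lit 134950, nat_lit 2242, nat_lit 4100, nat_lit 8552, nat_lit 13760, nat_lit 16448, nat_lit 24128, nat_lit 26752, nat_lit 32512, nat_lit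 33792, nat_lit 39936, nat_lit 45194, nat_lit 41635, nat_lit 37293, nat_lit 32941, nat_lit 28714, nat_lit 24595, nat_lit 20494, nat_lit 16453, nat_lit 12327, nat_lit 8209, nat_lit 4100, nat_lit 2, nat_lit 430086, nat_lit 413700, nat_lit 405504, nat_lit 156160, nat_lit 152128, nat_lit 148064, nat_lit 143392, nat_lit 131128, nat_lit 45065, nat_lit 41561, nat_lit 32825, nat_lit 28761, nat_lit 8193, nat_lit 4097]⟩)
 (.leaf ndBr0_2)))
 (.node (nat_lit 14) (.node (nat_lit 13) (.leaf ⟨[nat_lit 0x2b81dba9e922ba2fb206d8256655d8224c20], [nat_lit 81920, nat_lit 90112, nat_lit 106496, nat_lit 178176, nat_lit 173056, nat_lit 164096, nat_lit 161280, nat_lit 158272, nat_lit 155232, nat_lit 148368, nat_lit 145832, nat_lit 140564, nat_lit 136156, nat_lit 131135, nat_lit 4020, nat_lit 8116, nat_lit 10840, nat_lit 13808, nat_lit 20384, nat_lit 22400, nat_lit 26112, nat_lit 29184, nat_lit 35328, nat_lit 38912, nat_lit 43008, nat_lit 41469, nat_lit 36924, nat_lit 33985, nat_lit 28774, nat_lit 24738,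 nat_lit 20508, nat_lit 12292, nat_lit 8203]⟩)
 (.leaf ⟨[nat_lit 0x781418989a5baa123d8c8a2dee1b0914d420], [nat_lit 73728, nat_lit 86016, nat_lit 94208, nat_lit 178176, nat_lit 166144, nat_lit 159872, nat_lit 159040, nat_lit 152992, nat_lit 149312, nat_lit 143584, nat_lit 141856, nat_lit 137450, nat_lit 134215, nat_lit 2, nat_lit 5904, nat_lit 11312, nat_lit 15600, nat_lit 19712, nat_lit 24128, nat_lit 30208, nat_lit 34304, nat_lit 38912, nat_lit 41151, nat_lit 36945, nat_lit 32917, nat_lit 28948, nat_lit 25088, nat_lit 21518, nat_lit 16385, nat_lit 13312, nat_lit 8203, nat_lit 4097, nat_lit 2]⟩))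
 (.node (nat_lit 15) (.leaf ⟨[nat_lit 0x666c28d57209748250faba5661cd36c420], [nat_lit 73728, nat_lit 77824, nat_lit 86016, nat_lit 94208, nat_lit 106496, nat_lit 178176, nat_lit 173056, nat_lit 169984, nat_lit 167424, nat_lit 159872, nat_lit 158208, nat_lit 155584, nat_lit 147568, nat_lit 147016, nat_lit 139496, nat_lit 137228, nat_lit 134521, nat_lit 4, nat_lit 4100, nat_lit 10752, nat_lit 13280, nat_lit 20416, nat_lit 20864, nat_lit 25984, nat_lit 30720, nat_lit 33792, nat_lit 37888, nat_lit 41275, nat_lit 37370, nat_lit 33379, nat_lit 28957, nat_lit 25118, nat_lit 20501, nat_lit 16430, nat_lit 12293]⟩)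
 (.leaf ⟨[nat_lit 0xaa09fc12ceeb9646a452a4106dac1ecb4c20], [nat_lit 65536, nat_lit 69632, nat_lit 73728, nat_lit 90112, nat_lit 169984, nat_lit 164864, nat_lit 161152, nat_lit 156928, nat_lit 153056, nat_lit 151344, nat_lit 146632, nat_lit 140212, nat_lit 137108, nat_lit 133873, nat_lit 128, nat_lit 4224, nat_lit 10952, nat_lit 15024, nat_lit 17376, nat_lit 20928, nat_lit 25472, nat_lit 29696, nat_lit 37888, nat_lit 43008, nat_lit 41792, nat_lit 38336, nat_lit 32869, nat_lit 28792, nat_lit 24760, nat_lit 20628, nat_lit 16390, nat_lit 12289, nat_lit 8195]⟩))))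

theorem dcBE1_ok : dcBE1.all (elB (nat_lit 12288)) = true := by decide +kernel

def dcBE2 : BT El := (.node (nat_lit 20) (.node (nat_lit 18) (.node (nat_lit 17) (.leaf ⟨[nat_lit 0x878d7498aceba8d4ab603926254308f59c20], [nat_lit 65536, nat_lit 69632, nat_lit 73728, nat_lit 86016, nat_lit 94208, nat_lit 98304, nat_lit 106496, nat_lit 175104, nat_lit 171008, nat_lit 164864, nat_lit 163200, nat_lit 159488, nat_lit 153600, nat_lit 147520, nat_lit 146168, nat_lit 140612, nat_lit 137040, nat_lit 132523, nat_lit 2, nat_lit 7952, nat_lit 9096, nat_lit 13264, nat_lit 19264, nat_lit 21376, nat_lit 28544, nat_lit 33280, nat_lit 38912, nat_lit 41975, nat_lit 37926, nat_lit 32849, nat_lit 29264, nat_lit 24625, nat_lit 20509, nat_lit 16420, nat_lit 12291, nat_lit 4097, nat_lit 2, nat_lit 327680]⟩)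
 (.leaf ⟨[nat_lit 0xdd7477add4933dc7a590b98a232b48c84820], [nat_lit 65536, nat_lit 69632, nat_lit 81920, nat_lit 86016, nat_lit 94208, nat_lit 102400, nat_lit 106496, nat_lit 178176, nat_lit 175104, nat_lit 166144, nat_lit 160640, nat_lit 157184, nat_lit 151776, nat_lit 149776, nat_lit 145032, nat_lit 143072, nat_lit 136556, nat_lit 131703, nat_lit 1896, nat_lit 5992, nat_lit 9808, nat_lit 16160, nat_lit 19392, nat_lit 24000, nat_lit 26624, nat_lit 29440, nat_lit 39936, nat_lit 41821, nat_lit 38193, nat_lit 32928, nat_lit 28696, nat_lit 24615, nat_lit 20561, nat_lit 16424, nat_lit 8210, nat_lit 327680]⟩))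
 (.node (nat_lit 19) (.leaf ⟨[nat_lit 0xb7d1148a8922b5cba9d3698a8f80eec32020], [nat_lit 73728, nat_lit 77824, nat_lit 81920, nat_lit 102400, nat_lit 106496, nat_lit 178176, nat_lit 175104, nat_lit 169984, nat_lit 165376, nat_lit 162560, nat_lit 159552, nat_lit 153920, nat_lit 149760, nat_lit 147336, nat_lit 140304, nat_lit 137800, nat_lit 134770, nat_lit 2, nat_lit 6400, nat_lit 10728, nat_lit 14032, nat_lit 16576, nat_lit 20800, nat_lit 26112, nat_lit 29696, nat_lit 43008, nat_lit 41759, nat_lit 38036, nat_lit 32831, nat_lit 29251, nat_lit 24709, nat_lit 20760, nat_lit 16385, nat_lit 12354, nat_lit 8195, nat_lit 4100, nat_lit 2, nat_lit 327680]⟩)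
 (.leaf ⟨[nat_lit 0x7242489a604a2ae71564c7150d7c6c332c20], [nat_lit 65536, nat_lit 69632, nat_lit 86016, nat_lit 90112, nat_lit 98304, nat_lit 102400, nat_lit 106496, nat_lit 178176, nat_lit 175104, nat_lit 170496, nat_lit 167680, nat_lit 163456, nat_lit 156992, nat_lit 154656, nat_lit 149616, nat_lit 143664, nat_lit 140740, nat_lit 136952, nat_lit 132355, nat_lit 2, nat_lit 5904, nat_lit 8272, nat_lit 15360, nat_lit 19200, nat_lit 23168, nat_lit 25728, nat_lit 30976, nat_lit 33280, nat_lit 38912, nat_lit 43008, nat_lit 41489, nat_lit 38327, nat_lit 33432, nat_lit 29212, nat_lit 24604, nat_lit 20635, nat_lit 16393, nat_lit 12304, nat_lit 8259, nat_lit 4097, nat_lit 2, nat_lit 327680]⟩)))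
 (.node (nat_lit 22) (.node (nat_lit 21) (.leaf ⟨[nat_lit 0x1422b470af12a98f5cc90ad9076ca8332420], [nat_lit 65536, nat_lit 69632, nat_lit 73728, nat_lit 77824, nat_lit 94208, nat_lit 98304, nat_lit 102400, nat_lit 178176, nat_lit 173056, nat_lit 171008, nat_lit 166144, nat_lit 159040, nat_lit 155296, nat_lit 149024, nat_lit 143872, nat_lit 140788, nat_lit 137910, nat_lit 134662, nat_lit 2, nat_lit 7952, nat_lit 11712, nat_lit 15360, nat_lit 19200, nat_lit 20800, nat_lit 25344, nat_lit 29696, nat_lit 34816, nat_lit 39936, nat_lit 40977, nat_lit 37055, nat_lit 32844, nat_lit 29262, nat_lit 24712, nat_lit 20552, nat_lit 16393, nat_lit 12304, nat_lit 8195, nat_lit 4097, nat_lit 2, nat_lit 327680]⟩)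
 (.leaf ⟨[nat_lit 0x21bee8a992789582bbd4e1b6645c29245820], [nat_lit 65536, nat_lit 69632, nat_lit 73728, nat_lit 90112, nat_lit 106496, nat_lit 168448, nat_lit 167424, nat_lit 160896, nat_lit 154144, nat_lit 151408, nat_lit 144472, nat_lit 143036, nat_lit 139122, nat_lit 131447, nat_lit 128, nat_lit 4224, nat_lit 9888, nat_lit 15152, nat_lit 22400, nat_lit 24832, nat_lit 32512, nat_lit 36352, nat_lit 41664, nat_lit 38382, nat_lit 32912, nat_lit 28976, nat_lit 25636, nat_lit 20555, nat_lit 16640, nat_lit 12327, nat_lit 8226, nat_lit 327680]⟩))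
 (.node (nat_lit 23) (.leaf ndBr1_1)
 (.leaf ⟨[nat_lit 0x717827ac54760dae5dcb0a4cc89113613c20], [nat_lit 73728, nat_lit 86016, nat_lit 90112, nat_lit 102400, nat_lit 110592, nat_lit 178176, nat_lit 175104, nat_lit 167168, nat_lit 160128, nat_lit 156992, nat_lit 154272, nat_lit 151264, nat_lit 143768, nat_lit 139432, nat_lit 138180, nat_lit 134492, nat_lit 2056, nat_lit 6152, nat_lit 12136, nat_lit 13776, nat_lit 20384, nat_lit 22016, nat_lit 26880, nat_lit 30976, nat_lit 35328, nat_lit 38912, nat_lit 41928, nat_lit 37965, nat_lit 33533, nat_lit 28766, nat_lit 24628, nat_lit 20495, nat_lit 16461, nat_lit 12309, nat_lit 8200]⟩))))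

theorem dcBE2_ok : dcBE2.all (elB (nat_lit 12288)) = true := by decide +kernel

def dcBE3 : BT El := (.node (nat_lit 28) (.node (nat_lit 26) (.node (nat_lit 25) (.leaf ndBr1_6)
 (.leaf ⟨[nat_lit 0x4d784b51c8d44e4c2d87070409aadf434457, nat_lit 0xf09693a2e66230e2686b6b95108c80e1bd49], [nat_lit 77824, nat_lit 86016, nat_lit 90112, nat_lit 94208, nat_lit 98304, nat_lit 106496, nat_lit 110592, nat_lit 178176, nat_lit 173056, nat_lit 171008, nat_lit 164608, nat_lit 161280, nat_lit 155968, nat_lit 152480, nat_lit 149984, nat_lit 147216, nat_lit 139564, nat_lit 138902, nat_lit 131577, nat_lit 2030, nat_lit 4212, nat_lit 8280, nat_lit 14400, nat_lit 20320, nat_lit 22976, nat_lit 26240, nat_lit 34816, nat_lit 39936, nat_lit 46827, nat_lit 41963, nat_lit 37128, nat_lit 33528, nat_lit 28967, nat_lit 24727, nat_lit 20765, nat_lit 16527, nat_lit 12308, nat_lit 8200, nat_lit 4224, nat_lit 425989, nat_lit 405504, nat_lit 143616, nat_lit 131368, nat_lit 41216, nat_lit 36896, nat_lit 28680,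 nat_lit 24584, nat_lit 4097]⟩))
 (.node (nat_lit 27) (.leaf ndBr0_1)
 (.leaf ⟨[nat_lit 0xa3f35f1c6502b6a95d9c741a8f65d4498801], [nat_lit 65536, nat_lit 69632, nat_lit 73728, nat_lit 86016, nat_lit 94208, nat_lit 102400, nat_lit 178176, nat_lit 175104, nat_lit 169984, nat_lit 166912, nat_lit 160256, nat_lit 157568, nat_lit 151936, nat_lit 147760, nat_lit 145672, nat_lit 139852, nat_lit 137804, nat_lit 131652, nat_lit 2542, nat_lit 6632, nat_lit 10728, nat_lit 12864, nat_lit 19360, nat_lit 21440, nat_lit 24704, nat_lit 28928, nat_lit 36352, nat_lit 38912, nat_lit 43008, nat_lit 41656, nat_lit 38006, nat_lit 32899, nat_lit 28957, nat_lit 25123, nat_lit 20491, nat_lit 16395, nat_lit 12290, nat_lit 8195, nat_lit 4101]⟩)))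
 (.node (nat_lit 30) (.node (nat_lit 29) (.leaf ⟨[nat_lit 0x82b248a5e6d1d8a939a4f62a2b4544474020], [nat_lit 65536, nat_lit 69632, nat_lit 81920, nat_lit 86016, nat_lit 98304, nat_lit 102400, nat_lit 106496, nat_lit 174080, nat_lit 168448, nat_lit 164864, nat_lit 162816, nat_lit 158720, nat_lit 151872, nat_lit 147952, nat_lit 146640, nat_lit 141540, nat_lit 136670, nat_lit 133514, nat_lit 2, nat_lit 4160, nat_lit 12272, nat_lit 12976, nat_lit 16448, nat_lit 23680, nat_lit 26240, nat_lit 29952, nat_lit 35328, nat_lit 39936, nat_lit 43008, nat_lit 41514, nat_lit 36939, nat_lit 32865, nat_lit 28799, nat_lit 24637, nat_lit 20484, nat_lit 16395, nat_lit 12295, nat_lit 8200, nat_lit 4100, nat_lit 2, nat_lit 327680]⟩)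
 (.leaf ⟨[nat_lit 0xa0a0ac48ed09504a3deac24e2f599a82b820], [nat_lit 65536, nat_lit 69632, nat_lit 86016, nat_lit 98304, nat_lit 102400, nat_lit 170496, nat_lit 164352, nat_lit 160384, nat_lit 159360, nat_lit 152736, nat_lit 148032, nat_lit 146608, nat_lit 139644, nat_lit 138728, nat_lit 131159, nat_lit 32, nat_lit 4128, nat_lit 12176, nat_lit 16080, nat_lit 17920, nat_lit 20544, nat_lit 24832, nat_lit 30976, nat_lit 34304, nat_lit 37888, nat_lit 41824, nat_lit 37364, nat_lit 33388, nat_lit 28781, nat_lit 24627, nat_lit 16451, nat_lit 12421, nat_lit 327680]⟩))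
 (.node (nat_lit 31) (.leaf ⟨[nat_lit 0x42e1d7696b3bc4ce3d20c25a4f40d4b12401], [nat_lit 65536, nat_lit 69632, nat_lit 77824, nat_lit 86016, nat_lit 94208, nat_lit 171008, nat_lit 167424, nat_lit 161408, nat_lit 157440, nat_lit 153696, nat_lit 147568, nat_lit 144352, nat_lit 142824, nat_lit 137600, nat_lit 131250, nat_lit 2, nat_lit 6656, nat_lit 9664, nat_lit 13328, nat_lit 17984, nat_lit 20928, nat_lit 26496, nat_lit 29696, nat_lit 34816, nat_lit 39936, nat_lit 43008, nat_lit 41944, nat_lit 32888, nat_lit 28753, nat_lit 24628, nat_lit 20553, nat_lit 16423, nat_lit 12310, nat_lit 8194, nat_lit 4097, nat_lit 2, nat_lit 327680]⟩)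
 (.leaf ndBr2_0))))

theorem dcBE3_ok : dcBE3.all (elB (nat_lit 12288)) = true := by decide +kernel

def dcBE4 : BT El := (.node (nat_lit 36) (.node (nat_lit 34) (.node (nat_lit 33) (.leaf ⟨[nat_lit 0x47842285a37621eb09c047254d30ca2a5672, nat_lit 0xe82b8e028835c667b24d768a55786142a18e], [nat_lit 65536, nat_lit 69632, nat_lit 73728, nat_lit 81920, nat_lit 98304, nat_lit 173056, nat_lit 168960, nat_lit 165376, nat_lit 161664, nat_lit 157440, nat_lit 154368, nat_lit 150384, nat_lit 143904, nat_lit 141884, nat_lit 137352, nat_lit 131155, nat_lit 3702, nat_lit 7936, nat_lit 11888, nat_lit 14784, nat_lit 19520, nat_lit 23808, nat_lit 28288, nat_lit 32512, nat_lit 34304, nat_lit 43008, nat_lit 46588, nat_lit 41632, nat_lit 36902, nat_lit 34819, nat_lit 28941, nat_lit 24636, nat_lit 20505, nat_lit 16426, nat_lit 12294, nat_lit 8195, nat_lit 4100, nat_lit 409603, nat_lit 401408, nat_lit 143376, nat_lit 139280, nat_lit 131076, nat_lit 40989, nat_lit 32784, nat_lit 24584, nat_lit 20509,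 nat_lit 4097]⟩)
 (.leaf ndBr2_1))
 (.node (nat_lit 35) (.leaf ⟨[nat_lit 0x99099f4126da5c558152e0d860931478ade6, nat_lit 0x35cfc4aa33395ed08296a8ae37188c8490b], [nat_lit 65536, nat_lit 69632, nat_lit 73728, nat_lit 90112, nat_lit 94208, nat_lit 102400, nat_lit 106496, nat_lit 110592, nat_lit 173056, nat_lit 169984, nat_lit 165632, nat_lit 163712, nat_lit 158400, nat_lit 152416, nat_lit 148656, nat_lit 147024, nat_lit 141324, nat_lit 137942, nat_lit 134291, nat_lit 2304, nat_lit 6400, nat_lit 8808, nat_lit 12784, nat_lit 17984, nat_lit 21248, nat_lit 26880, nat_lit 30464, nat_lit 33792, nat_lit 39936, nat_lit 43008, nat_lit 45298, nat_lit 41143, nat_lit 36972, nat_lit 32831, nat_lit 29729, nat_lit 25118, nat_lit 20511, nat_lit 16397, nat_lit 12294, nat_lit 4097, nat_lit 425988, nat_lit 401408, nat_lit 147712, nat_lit 139520, nat_lit 36880, nat_lit 24592, nat_lit 20484, nat_lit 12292, nat_lit 4097]⟩)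
 (.leaf ndBr2_2)))
 (.node (nat_lit 38) (.node (nat_lit 37) (.leaf ⟨[nat_lit 0xb774dd1944694e955b10f846f6384806b92a, nat_lit 0xbe4d24b942e7a5b25c6d4ab0e018a68828c4], [nat_lit 81920, nat_lit 86016, nat_lit 90112, nat_lit 98304, nat_lit 102400, nat_lit 110592, nat_lit 174080, nat_lit 160256, nat_lit 155840, nat_lit 153024, nat_lit 149904, nat_lit 145104, nat_lit 140820, nat_lit 137432, nat_lit 132119, nat_lit 1068, nat_lit 5164, nat_lit 12016, nat_lit 14912, nat_lit 16960, nat_lit 22784, nat_lit 25088, nat_lit 31744, nat_lit 34304, nat_lit 37888, nat_lit 45948, nat_lit 41835, nat_lit 38201, nat_lit 32798, nat_lit 28703, nat_lit 24604, nat_lit 21515, nat_lit 16460, nat_lit 8257, nat_lit 4097, nat_lit 2, nat_lit 425989, nat_lit 405504, nat_lit 143616, nat_lit 131368, nat_lit 41216, nat_lit 36896, nat_lit 28680, nat_lit 24584, nat_lit 4097]⟩)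
 (.leaf ⟨[nat_lit 0xffffff8de16535c9952755bd0c30ca221c20, nat_lit 0xb287b4355af846c71ba4b14d8a450a9b9020], [nat_lit 65536, nat_lit 69632, nat_lit 77824, nat_lit 94208, nat_lit 98304, nat_lit 102400, nat_lit 110592, nat_lit 175104, nat_lit 169472, nat_lit 167424, nat_lit 161024, nat_lit 156672, nat_lit 152448, nat_lit 147904, nat_lit 147016, nat_lit 142192, nat_lit 135852, nat_lit 135125, nat_lit 1636, nat_lit 5732, nat_lit 8256, nat_lit 14912, nat_lit 17664, nat_lit 23808, nat_lit 25216, nat_lit 28928, nat_lit 43008, nat_lit 46988, nat_lit 43217, nat_lit 37021, nat_lit 32808, nat_lit 29273, nat_lit 24584, nat_lit 20753, nat_lit 16426, nat_lit 12295, nat_lit 8200, nat_lit 4097, nat_lit 409603, nat_lit 401408, nat_lit 131088, nat_lit 40968, nat_lit 36872, nat_lit 32784, nat_lit 28676, nat_lit 24580, nat_lit 20509, nat_lit 4097]⟩))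
 (.node (nat_lit 39) (.leaf ⟨[nat_lit 0xc5f530b98512da03235475d68f44e4c4b820], [nat_lit 65536, nat_lit 69632, nat_lit 73728, nat_lit 86016, nat_lit 90112, nat_lit 98304, nat_lit 106496, nat_lit 178176, nat_lit 168448, nat_lit 166144, nat_lit 162816, nat_lit 157184, nat_lit 151648, nat_lit 147792, nat_lit 146568, nat_lit 139484, nat_lit 138150, nat_lit 132477, nat_lit 2, nat_lit 6068, nat_lit 9664, nat_lit 15024, nat_lit 17952, nat_lit 20928, nat_lit 24704, nat_lit 31744, nat_lit 34816, nat_lit 39936, nat_lit 41922, nat_lit 38365, nat_lit 33829, nat_lit 28767, nat_lit 24583, nat_lit 20760, nat_lit 16426, nat_lit 12293, nat_lit 8202, nat_lit 4100, nat_lit 2]⟩)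
 (.leaf ⟨[nat_lit 0xa30ca0a39356ce4ab0cd1610e85840f11617, nat_lit 0xaac695ed3ac23430405531e9435cb10ce4], [nat_lit 65536, nat_lit 69632, nat_lit 73728, nat_lit 77824, nat_lit 81920, nat_lit 86016, nat_lit 90112, nat_lit 110592, nat_lit 173056, nat_lit 171520, nat_lit 167680, nat_lit 162816, nat_lit 158144, nat_lit 152800, nat_lit 149280, nat_lit 146304, nat_lit 143288, nat_lit 138758, nat_lit 133354, nat_lit 2102, nat_lit 6324, nat_lit 10288, nat_lit 12992, nat_lit 16896, nat_lit 22656, nat_lit 28416, nat_lit 29696, nat_lit 38912, nat_lit 45747, nat_lit 41894, nat_lit 38067, nat_lit 32931, nat_lit 28765, nat_lit 24760, nat_lit 20559, nat_lit 16389, nat_lit 12325, nat_lit 8195, nat_lit 4100, nat_lit 417796, nat_lit 401408, nat_lit 147520, nat_lit 139344, nat_lit 131136, nat_lit 41045, nat_lit 32784, nat_lit 28757, nat_lit 12292, nat_lit 4097]⟩))))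

theorem dcBE4_ok : dcBE4.all (elB (nat_lit 12288)) = true := by decide +kernel

def dcBE5 : BT El := (.node (nat_lit 44) (.node (nat_lit 42) (.node (nat_lit 41) (.leaf ⟨[nat_lit 0x28d2d74c2829594375cb55bd049c4cd09d80, nat_lit 0xc33cc9810ccb4db75c9c801eaa4d0a38bc22], [nat_lit 73728, nat_lit 81920, nat_lit 86016, nat_lit 94208, nat_lit 102400, nat_lit 178176, nat_lit 168448, nat_lit 167680, nat_lit 162560, nat_lit 153024, nat_lit 149760, nat_lit 146744, nat_lit 141480, nat_lit 136734, nat_lit 133467, nat_lit 2348, nat_lit 6444, nat_lit 8824, nat_lit 12992, nat_lit 17120, nat_lit 20928, nat_lit 27392, nat_lit 30720, nat_lit 36352, nat_lit 39936, nat_lit 46102, nat_lit 41910, nat_lit 37932, nat_lit 32937, nat_lit 28785, nat_lit 24607, nat_lit 20495, nat_lit 16456, nat_lit 12322, nat_lit 8201, nat_lit 4097, nat_lit 421894, nat_lit 401408, nat_lit 139328, nat_lit 131264, nat_lit 41024, nat_lit 36868, nat_lit 32965, nat_lit 20484, nat_lit 16385, nat_lit 4097, nat_lit 327680]⟩)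
 (.leaf ⟨[nat_lit 0x96f960198a2a4a75384044b94d7ad888c2d7, nat_lit 0xe4bb281a633add427c2c46524732005585ae], [nat_lit 73728, nat_lit 77824, nat_lit 81920, nat_lit 86016, nat_lit 90112, nat_lit 94208, nat_lit 98304, nat_lit 102400, nat_lit 178176, nat_lit 170496, nat_lit 166400, nat_lit 162944, nat_lit 159360, nat_lit 152960, nat_lit 150304, nat_lit 146024, nat_lit 141308, nat_lit 136992, nat_lit 133743, nat_lit 2230, nat_lit 7836, nat_lit 10416, nat_lit 13808, nat_lit 19104, nat_lit 22784, nat_lit 26368, nat_lit 32256, nat_lit 34816, nat_lit 37888, nat_lit 45260, nat_lit 41393, nat_lit 36962, nat_lit 32854, nat_lit 29809, nat_lit 24627, nat_lit 20509, nat_lit 16429, nat_lit 12325, nat_lit 8195, nat_lit 4100, nat_lit 2, nat_lit 409603, nat_lit 401408, nat_lit 143376, nat_lit 139288, nat_lit 131084, nat_lit 40968, nat_lit 36872, nat_lit 32784, nat_lit 28676, nat_lit 24580, nat_lit 20509, nat_lit 4097]⟩))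
 (.node (nat_lit 43) (.leaf ⟨[nat_lit 0x72e88e916a378101988d48c12d610ebb3957, nat_lit 0x11de2d5dc2d538551be8891a300598999487, nat_lit 0xd1ebde31dd5b3253416030922b151a07dd49], [nat_lit 77824, nat_lit 94208, nat_lit 102400, nat_lit 175104, nat_lit 169472, nat_lit 167680, nat_lit 162944, nat_lit 157760, nat_lit 152576, nat_lit 150944, nat_lit 145672, nat_lit 139492, nat_lit 137470, nat_lit 134594, nat_lit 3908, nat_lit 8004, nat_lit 8360, nat_lit 14960, nat_lit 17792, nat_lit 22848, nat_lit 26496, nat_lit 29952, nat_lit 34304, nat_lit 39936, nat_lit 45855, nat_lit 41342, nat_lit 39161, nat_lit 33508, nat_lit 29209, nat_lit 24732, nat_lit 20550, nat_lit 16517, nat_lit 8224, nat_lit 4097, nat_lit 2, nat_lit 421894, nat_lit 413699, nat_lit 401408, nat_lit 155776, nat_lit 151680, nat_lit 143392, nat_lit 139272, nat_lit 131264, nat_lit 45100, nat_lit 41100, nat_lit 37092, nat_lit 32813, nat_lit 16385, nat_lit 4097, nat_lit 327680]⟩)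
 (.leaf ndBr1_3)))
 (.node (nat_lit 46) (.node (nat_lit 45) (.leaf ⟨[nat_lit 0x8e114419693ba5b653a303a1e4a8a465840c, nat_lit 0xd182bd71e3408c089b6c4332177caa552c49, nat_lit 0x71b47261228925e538ec6686ee58aaa05213], [nat_lit 77824, nat_lit 81920, nat_lit 98304, nat_lit 110592, nat_lit 178176, nat_lit 175104, nat_lit 166656, nat_lit 160256, nat_lit 158528, nat_lit 152288, nat_lit 148848, nat_lit 145720, nat_lit 142164, nat_lit 138820, nat_lit 132138, nat_lit 3962, nat_lit 7632, nat_lit 9328, nat_lit 14144, nat_lit 20352, nat_lit 23104, nat_lit 28032, nat_lit 32256, nat_lit 34304, nat_lit 37888, nat_lit 46759, nat_lit 41241, nat_lit 39420, nat_lit 33421, nat_lit 28777, nat_lit 24637, nat_lit 20549, nat_lit 16419, nat_lit 12304, nat_lit 8258, nat_lit 4100, nat_lit 2, nat_lit 425990, nat_lit 413700, nat_lit 401408, nat_lit 155904, nat_lit 147520, nat_lit 139632, nat_lit 131364, nat_lit 45396, nat_lit 41301, nat_lit 36932, nat_lit 28708, nat_lit 12289, nat_lit 4097]⟩)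
 (.leaf ndBr2_4))
 (.node (nat_lit 47) (.leaf ⟨[nat_lit 0x281e82428f3bbc4bb246e28410a9a9193584, nat_lit 0x4278bbbca260c16d64d02259cf182a7a1549], [nat_lit 81920, nat_lit 90112, nat_lit 94208, nat_lit 174080, nat_lit 171008, nat_lit 167680, nat_lit 162048, nat_lit 153920, nat_lit 147664, nat_lit 146336, nat_lit 142704, nat_lit 136168, nat_lit 132103, nat_lit 428, nat_lit 4524, nat_lit 9656, nat_lit 15760, nat_lit 20384, nat_lit 21504, nat_lit 27392, nat_lit 31744, nat_lit 39936, nat_lit 46019, nat_lit 41908, nat_lit 37173, nat_lit 33424, nat_lit 29013, nat_lit 24744, nat_lit 16456, nat_lit 12358, nat_lit 4097, nat_lit 417795, nat_lit 401408, nat_lit 139336, nat_lit 131148, nat_lit 41037, nat_lit 36865, nat_lit 32832, nat_lit 28680, nat_lit 20484, nat_lit 16388, nat_lit 4097, nat_lit 327680]⟩)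
 (.leaf ndBr1_2))))

theorem dcBE5_ok : dcBE5.all (elB (nat_lit 12288)) = true := by decide +kernel

def dcBE6 : BT El := (.node (nat_lit 52) (.node (nat_lit 50) (.node (nat_lit 49) (.leaf ⟨[nat_lit 0xc9a63384eb68ca97590e82a54670c4d63c20], [nat_lit 65536, nat_lit 69632, nat_lit 73728, nat_lit 77824, nat_lit 86016, nat_lit 106496, nat_lit 178176, nat_lit 174080, nat_lit 170496, nat_lit 164352, nat_lit 161792, nat_lit 157632, nat_lit 153728, nat_lit 151008, nat_lit 147040, nat_lit 141180, nat_lit 136170, nat_lit 133054, nat_lit 2048, nat_lit 6144, nat_lit 11856, nat_lit 14176, nat_lit 18624, nat_lit 24320, nat_lit 27904, nat_lit 32256, nat_lit 35328, nat_lit 38912, nat_lit 41832, nat_lit 37960, nat_lit 33312, nat_lit 28692, nat_lit 25613, nat_lit 20572, nat_lit 16397, nat_lit 12294, nat_lit 8202]⟩)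
 (.leaf ⟨[nat_lit 0x5036c023a968cda71de0814aab4bcaa61801], [nat_lit 73728, nat_lit 77824, nat_lit 81920, nat_lit 90112, nat_lit 94208, nat_lit 106496, nat_lit 178176, nat_lit 174080, nat_lit 169984, nat_lit 166912, nat_lit 161664, nat_lit 157376, nat_lit 155296, nat_lit 150144, nat_lit 146304, nat_lit 142008, nat_lit 135358, nat_lit 133614, nat_lit 588, nat_lit 4684, nat_lit 9800, nat_lit 15808, nat_lit 17152, nat_lit 21568, nat_lit 25984, nat_lit 29696, nat_lit 35840, nat_lit 37888, nat_lit 43008, nat_lit 41839, nat_lit 36966, nat_lit 32793, nat_lit 28679, nat_lit 24592, nat_lit 20506, nat_lit 16388, nat_lit 12327, nat_lit 8195]⟩))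
 (.node (nat_lit 51) (.leaf ⟨[nat_lit 0xca0ac0a9d368a8922b9ab1de0ca09f332001], [nat_lit 65536, nat_lit 69632, nat_lit 73728, nat_lit 86016, nat_lit 94208, nat_lit 98304, nat_lit 106496, nat_lit 178176, nat_lit 175104, nat_lit 168960, nat_lit 164608, nat_lit 163200, nat_lit 157056, nat_lit 152256, nat_lit 150128, nat_lit 144776, nat_lit 142988, nat_lit 136320, nat_lit 132870, nat_lit 1808, nat_lit 5904, nat_lit 9032, nat_lit 12704, nat_lit 17920, nat_lit 20800, nat_lit 26240, nat_lit 31488, nat_lit 33792, nat_lit 38912, nat_lit 41407, nat_lit 37123, nat_lit 32821, nat_lit 29796, nat_lit 24712, nat_lit 20751, nat_lit 16388, nat_lit 12321, nat_lit 8211]⟩)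
 (.leaf ⟨[nat_lit 0xe87e48a4a168deb31a5422b5c63bd8442c20], [nat_lit 94208, nat_lit 98304, nat_lit 106496, nat_lit 175104, nat_lit 168448, nat_lit 165888, nat_lit 161792, nat_lit 157312, nat_lit 152704, nat_lit 151424, nat_lit 144888, nat_lit 141808, nat_lit 138902, nat_lit 133384, nat_lit 2, nat_lit 6400, nat_lit 10152, nat_lit 13264, nat_lit 18688, nat_lit 20800, nat_lit 32512, nat_lit 35840, nat_lit 39936, nat_lit 43008, nat_lit 41719, nat_lit 38233, nat_lit 32783, nat_lit 28697, nat_lit 25629, nat_lit 20484, nat_lit 16399, nat_lit 12295, nat_lit 8193, nat_lit 4104, nat_lit 2]⟩)))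
 (.node (nat_lit 54) (.node (nat_lit 53) (.leaf ⟨[nat_lit 0xf0966c4d491b1e4a5d265139afb991060c01], [nat_lit 65536, nat_lit 69632, nat_lit 81920, nat_lit 86016, nat_lit 106496, nat_lit 178176, nat_lit 174080, nat_lit 170496, nat_lit 164608, nat_lit 162176, nat_lit 156352, nat_lit 152576, nat_lit 151440, nat_lit 146152, nat_lit 142040, nat_lit 137838, nat_lit 134850, nat_lit 1180, nat_lit 5276, nat_lit 11408, nat_lit 13728, nat_lit 18240, nat_lit 22400, nat_lit 27136, nat_lit 28928, nat_lit 33280, nat_lit 38912, nat_lit 43008, nat_lit 41519, nat_lit 36911, nat_lit 32999, nat_lit 29000, nat_lit 24636, nat_lit 20495, nat_lit 16451, nat_lit 12293, nat_lit 8195, nat_lit 327680]⟩)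
 (.leaf ⟨[nat_lit 0x3ca60536b49c9c92c6c235e033ade443020], [nat_lit 73728, nat_lit 81920, nat_lit 86016, nat_lit 90112, nat_lit 102400, nat_lit 106496, nat_lit 164864, nat_lit 155904, nat_lit 151872, nat_lit 148016, nat_lit 146064, nat_lit 142488, nat_lit 135268, nat_lit 8504, nat_lit 15856, nat_lit 27776, nat_lit 29184, nat_lit 38912, nat_lit 43008, nat_lit 41514, nat_lit 38358, nat_lit 32888, nat_lit 28696, nat_lit 24886, nat_lit 12358, nat_lit 8194]⟩))
 (.node (nat_lit 55) (.leaf ⟨[nat_lit 0x3593ac559d7836291caa559c8ca18537a001], [nat_lit 65536, nat_lit 69632, nat_lit 73728, nat_lit 77824, nat_lit 90112, nat_lit 102400, nat_lit 178176, nat_lit 173056, nat_lit 168960, nat_lit 166656, nat_lit 160128, nat_lit 157056, nat_lit 155264, nat_lit 148608, nat_lit 146600, nat_lit 141488, nat_lit 136692, nat_lit 135135, nat_lit 2542, nat_lit 4332, nat_lit 10728, nat_lit 13920, nat_lit 16704, nat_lit 21120, nat_lit 25088, nat_lit 32256, nat_lit 36352, nat_lit 37888, nat_lit 41735, nat_lit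 37888, nat_lit 32917, nat_lit 28683, nat_lit 24589, nat_lit 20504, nat_lit 16430, nat_lit 12295, nat_lit 8195, nat_lit 4101]⟩)
 (.leaf ⟨[nat_lit 0x2b18b74ba37859aa5d64c4526f2146730801], [nat_lit 65536, nat_lit 69632, nat_lit 77824, nat_lit 86016, nat_lit 90112, nat_lit 94208, nat_lit 98304, nat_lit 102400, nat_lit 178176, nat_lit 174080, nat_lit 168448, nat_lit 165120, nat_lit 162560, nat_lit 158656, nat_lit 152480, nat_lit 147904, nat_lit 144912, nat_lit 143276, nat_lit 138646, nat_lit 132500, nat_lit 2746, nat_lit 6844, nat_lit 11264, nat_lit 15024, nat_lit 20032, nat_lit 24064, nat_lit 25856, nat_lit 29440, nat_lit 35840, nat_lit 39936, nat_lit 41871, nat_lit 38043, nat_lit 33411, nat_lit 28791, nat_lit 24598, nat_lit 20508, nat_lit 16422, nat_lit 12295, nat_lit 8200, nat_lit 4101, nat_lit 327680]⟩))))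

theorem dcBE6_ok : dcBE6.all (elB (nat_lit 12288)) = true := by decide +kernel

def dcBE7 : BT El := (.node (nat_lit 60) (.node (nat_lit 58) (.node (nat_lit 57) (.leaf ⟨[nat_lit 0xf96ccfb3493a1dd15a54235e0c915f540c01], [nat_lit 73728, nat_lit 94208, nat_lit 98304, nat_lit 102400, nat_lit 106496, nat_lit 173056, nat_lit 171520, nat_lit 167680, nat_lit 163584, nat_lit 156480, nat_lit 155168, nat_lit 151296, nat_lit 145656, nat_lit 142888, nat_lit 136392, nat_lit 131715, nat_lit 3228, nat_lit 7324, nat_lit 11408, nat_lit 12544, nat_lit 16672, nat_lit 24512, nat_lit 26624, nat_lit 33280, nat_lit 37888, nat_lit 41871, nat_lit 37355, nat_lit 32877, nat_lit 28711, nat_lit 24866, nat_lit 20496, nat_lit 16428, nat_lit 12295, nat_lit 8195]⟩)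
 (.leaf ndBr2_3))
 (.node (nat_lit 59) (.leaf ⟨[nat_lit 0xc366ff8bacd252670483582ae912d86415e3, nat_lit 0x533ffa851aa902270952b9a2cfbd466111cc], [nat_lit 65536, nat_lit 69632, nat_lit 77824, nat_lit 86016, nat_lit 94208, nat_lit 98304, nat_lit 110592, nat_lit 178176, nat_lit 174080, nat_lit 169984, nat_lit 164096, nat_lit 162688, nat_lit 159424, nat_lit 152064, nat_lit 149872, nat_lit 147328, nat_lit 139488, nat_lit 137082, nat_lit 131385, nat_lit 2562, nat_lit 4920, nat_lit 10752, nat_lit 15968, nat_lit 20288, nat_lit 23168, nat_lit 27136, nat_lit 28928, nat_lit 35840, nat_lit 38912, nat_lit 43008, nat_lit 46688, nat_lit 41110, nat_lit 37183, nat_lit 33317, nat_lit 28680, nat_lit 24612, nat_lit 20548, nat_lit 16648, nat_lit 8256, nat_lit 4113, nat_lit 430085, nat_lit 401408, nat_lit 139776, nat_lit 131104, nat_lit 41509, nat_lit 32769, nat_lit 24580, nat_lit 16388, nat_lit 4097, nat_lit 327680]⟩)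
 (.leaf ndBr3_0)))
 (.node (nat_lit 62) (.node (nat_lit 61) (.leaf ⟨[nat_lit 0x5ffa656b820956363150b60de284e9721d2a, nat_lit 0xddb7d2042245092592eaf9a1941b4ce3dc36, nat_lit 0xc6f593bee015986514928b9aba22159a461], [nat_lit 86016, nat_lit 90112, nat_lit 94208, nat_lit 98304, nat_lit 110592, nat_lit 178176, nat_lit 173056, nat_lit 171008, nat_lit 165888, nat_lit 161024, nat_lit 159104, nat_lit 152224, nat_lit 151376, nat_lit 145536, nat_lit 142664, nat_lit 138806, nat_lit 134127, nat_lit 2722, nat_lit 7840, nat_lit 8256, nat_lit 16240, nat_lit 16416, nat_lit 23488, nat_lit 25600, nat_lit 29440, nat_lit 33792, nat_lit 39936, nat_lit 46720, nat_lit 43136, nat_lit 36874, nat_lit 32867, nat_lit 28784, nat_lit 24609, nat_lit 20573, nat_lit 16429, nat_lit 12293, nat_lit 8201, nat_lit 4352, nat_lit 2, nat_lit 434184, nat_lit 421894, nat_lit 413699, nat_lit 401408, nat_lit 164864, nat_lit 160768, nat_lit 156800, nat_lit 151616, nat_lit 143424, nat_lit 139392, nat_lit 131552, nat_lit 45485,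 nat_lit 37313, nat_lit 4097]⟩)
 (.leaf ndBr3_1))
 (.node (nat_lit 63) (.leaf ⟨[nat_lit 0x4784dd589d6829058b0cd48df7a1255980e1, nat_lit 0x3c69f019d365d024ab21754dc82be468b402], [nat_lit 65536, nat_lit 69632, nat_lit 77824, nat_lit 81920, nat_lit 94208, nat_lit 98304, nat_lit 102400, nat_lit 106496, nat_lit 174080, nat_lit 166912, nat_lit 161408, nat_lit 156352, nat_lit 151616, nat_lit 148704, nat_lit 143536, nat_lit 142252, nat_lit 137718, nat_lit 131644, nat_lit 1976, nat_lit 6072, nat_lit 9992, nat_lit 15616, nat_lit 19776, nat_lit 22272, nat_lit 26496, nat_lit 29184, nat_lit 35840, nat_lit 37888, nat_lit 43008, nat_lit 46483, nat_lit 41875, nat_lit 36910, nat_lit 32894, nat_lit 29779, nat_lit 24736, nat_lit 20557, nat_lit 16646, nat_lit 12309, nat_lit 8193, nat_lit 4097, nat_lit 2, nat_lit 409603, nat_lit 401408, nat_lit 131084, nat_lit 40964, nat_lit 36865, nat_lit 32797, nat_lit 28680, nat_lit 24592, nat_lit 4097]⟩)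
 (.leaf ndBr3_2))))

theorem dcBE7_ok : dcBE7.all (elB (nat_lit 12288)) = true := by decide +kernel

def dcBE8 : BT El := (.node (nat_lit 68) (.node (nat_lit 66) (.node (nat_lit 65) (.leaf ⟨[nat_lit 0xbd11d8729a98de16204e09d692194465a1ec, nat_lit 0x99cac555586a15cb0c6d714ded1a24901e04, nat_lit 0x14bbd83346b93aaf9dc026048aa44e5b4109], [nat_lit 73728, nat_lit 102400, nat_lit 173056, nat_lit 169472, nat_lit 166144, nat_lit 161024, nat_lit 157888, nat_lit 151904, nat_lit 149360, nat_lit 145696, nat_lit 140500, nat_lit 136226, nat_lit 133692, nat_lit 3568, nat_lit 7664, nat_lit 8224, nat_lit 16176, nat_lit 18880, nat_lit 22016, nat_lit 27264, nat_lit 29440, nat_lit 43008, nat_lit 46047, nat_lit 41883, nat_lit 38292, nat_lit 33804, nat_lit 28983, nat_lit 24603, nat_lit 20495, nat_lit 16463, nat_lit 8211, nat_lit 4097, nat_lit 434185, nat_lit 425989, nat_lit 409603, nat_lit 401408, nat_lit 168960, nat_lit 143376, nat_lit 139288, nat_lit 131100, nat_lit 45344, nat_lit 28688, nat_lit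 4097, nat_lit 327680]⟩)
 (.leaf ⟨[nat_lit 0xaf5f5c115549b109b906b8daad7c0c7905c0, nat_lit 0x9af65a486154575301a9816e77bad32090c, nat_lit 0xd788e13c92e2b1505be6415461445a6052d7], [nat_lit 81920, nat_lit 94208, nat_lit 102400, nat_lit 106496, nat_lit 110592, nat_lit 175104, nat_lit 169472, nat_lit 165376, nat_lit 161408, nat_lit 157120, nat_lit 154432, nat_lit 149616, nat_lit 144912, nat_lit 141628, nat_lit 137076, nat_lit 133341, nat_lit 322, nat_lit 5568, nat_lit 11552, nat_lit 13776, nat_lit 20160, nat_lit 22720, nat_lit 24832, nat_lit 31488, nat_lit 35840, nat_lit 39936, nat_lit 43008, nat_lit 46379, nat_lit 43730, nat_lit 38304, nat_lit 33813, nat_lit 28744, nat_lit 24595, nat_lit 20750, nat_lit 16449, nat_lit 12292, nat_lit 8200, nat_lit 4113, nat_lit 2, nat_lit 430087, nat_lit 417797, nat_lit 409603, nat_lit 401408, nat_lit 160256, nat_lit 156288, nat_lit 148160, nat_lit 143488, nat_lit 139840, nat_lit 131144, nat_lit 45817, nat_lit 41628, nat_lit 32904, nat_lit 4097]⟩))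
 (.node (nat_lit 67) (.leaf ⟨[nat_lit 0x2418b8622d131c64acd2d7dd7028820a494e, nat_lit 0x936395850eb0be3334aa915aed52183200ae, nat_lit 0xf0696c7c9155b29339046bc54d7413628061], [nat_lit 65536, nat_lit 69632, nat_lit 73728, nat_lit 81920, nat_lit 86016, nat_lit 90112, nat_lit 94208, nat_lit 98304, nat_lit 102400, nat_lit 110592, nat_lit 178176, nat_lit 169984, nat_lit 167424, nat_lit 163072, nat_lit 159488, nat_lit 152768, nat_lit 150464, nat_lit 147056, nat_lit 140336, nat_lit 136212, nat_lit 133816, nat_lit 2332, nat_lit 6428, nat_lit 9384, nat_lit 16272, nat_lit 16864, nat_lit 23744, nat_lit 26240, nat_lit 31232, nat_lit 38912, nat_lit 46812, nat_lit 43454, nat_lit 36967, nat_lit 34004, nat_lit 28999, nat_lit 24727, nat_lit 20557, nat_lit 16392, nat_lit 12305, nat_lit 8258, nat_lit 4097, nat_lit 2, nat_lit 425991, nat_lit 417797, nat_lit 409603, nat_lit 401408, nat_lit 155776, nat_lit 151616, nat_lit 147552, nat_lit 143472, nat_lit 139456, nat_lit 131236, nat_lit 45545, nat_lit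 41132, nat_lit 37113, nat_lit 4097, nat_lit 327680]⟩)
 (.leaf ⟨[nat_lit 0x593c6c58a723b6b1a24377da0673143220a0, nat_lit 0xb2bb116aeae1c8cf0126ca223029d3608aea, nat_lit 0x887d74082179b9b4ac92a4186c258f17944b, nat_lit 0x78d74209128b8285955ab78dc611e3362ad0], [nat_lit 77824, nat_lit 81920, nat_lit 90112, nat_lit 94208, nat_lit 98304, nat_lit 174080, nat_lit 168960, nat_lit 164096, nat_lit 160896, nat_lit 157248, nat_lit 154048, nat_lit 150416, nat_lit 144424, nat_lit 142572, nat_lit 138040, nat_lit 131431, nat_lit 1748, nat_lit 5844, nat_lit 10744, nat_lit 13856, nat_lit 18432, nat_lit 23744, nat_lit 25216, nat_lit 30208, nat_lit 35328, nat_lit 38912, nat_lit 45441, nat_lit 41170, nat_lit 37149, nat_lit 32998, nat_lit 29051, nat_lit 24837, nat_lit 20487, nat_lit 16398, nat_lit 12307, nat_lit 8200, nat_lit 4097, nat_lit 438282, nat_lit 425991, nat_lit 417797, nat_lit 409603, nat_lit 401408, nat_lit 174080, nat_lit 165888, nat_lit 161024, nat_lit 156800, nat_lit 152640, nat_lit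 149856, nat_lit 143776, nat_lit 139512, nat_lit 132496, nat_lit 36941, nat_lit 4097, nat_lit 327680]⟩)))
 (.node (nat_lit 70) (.node (nat_lit 69) (.leaf ⟨[nat_lit 0x50c93f7d1cba852088d84359076966294157, nat_lit 0x722b2bb112b1868703a2814daa79aacb9650], [nat_lit 73728, nat_lit 77824, nat_lit 81920, nat_lit 86016, nat_lit 106496, nat_lit 174080, nat_lit 169472, nat_lit 167168, nat_lit 162432, nat_lit 156032, nat_lit 153888, nat_lit 151440, nat_lit 146456, nat_lit 139728, nat_lit 138198, nat_lit 134237, nat_lit 452, nat_lit 4548, nat_lit 12184, nat_lit 15200, nat_lit 16640, nat_lit 20672, nat_lit 24704, nat_lit 32512, nat_lit 33792, nat_lit 37888, nat_lit 46626, nat_lit 43509, nat_lit 37006, nat_lit 32806, nat_lit 28740, nat_lit 24730, nat_lit 20741, nat_lit 16387, nat_lit 12352, nat_lit 8201, nat_lit 4097, nat_lit 2, nat_lit 409603, nat_lit 401408, nat_lit 139272, nat_lit 131100, nat_lit 40964, nat_lit 36872, nat_lit 32797, nat_lit 28680, nat_lit 24580, nat_lit 20509, nat_lit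 4097, nat_lit 327680]⟩)
 (.leaf ndBr3_3))
 (.node (nat_lit 71) (.leaf ⟨[nat_lit 0x81e144241544ccf7780235da26635c2954a8, nat_lit 0x3fca0c644e30160fb844bb10c892693555ae], [nat_lit 94208, nat_lit 106496, nat_lit 110592, nat_lit 173056, nat_lit 169472, nat_lit 167680, nat_lit 161280, nat_lit 157376, nat_lit 154496, nat_lit 149568, nat_lit 144528, nat_lit 141288, nat_lit 137860, nat_lit 133434, nat_lit 3850, nat_lit 6336, nat_lit 11344, nat_lit 13776, nat_lit 19136, nat_lit 21888, nat_lit 26496, nat_lit 31232, nat_lit 33280, nat_lit 38912, nat_lit 46969, nat_lit 41802, nat_lit 38234, nat_lit 32842, nat_lit 28688, nat_lit 24602, nat_lit 22538, nat_lit 16399, nat_lit 12289, nat_lit 8209, nat_lit 4101, nat_lit 409603, nat_lit 401408, nat_lit 139272, nat_lit 131096, nat_lit 40968, nat_lit 36880, nat_lit 32776, nat_lit 28676, nat_lit 24577, nat_lit 20509, nat_lit 4097]⟩)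
 (.leaf ndBr3_4))))

theorem dcBE8_ok : dcBE8.all (elB (nat_lit 12288)) = true := by decide +kernel

def dcBE9 : BT El := (.node (nat_lit 76) (.node (nat_lit 74) (.node (nat_lit 73) (.leaf ⟨[nat_lit 0xc03afc64ac08193150ce11526d256e85b8af, nat_lit 0xd844449c028b19d123e575b5824d0752a807, nat_lit 0xb14d2b3b0ab90c959b911bd12f306d013540, nat_lit 0xed822e828479d99192c241b8174b51529a8f], [nat_lit 73728, nat_lit 77824, nat_lit 81920, nat_lit 86016, nat_lit 90112, nat_lit 98304, nat_lit 102400, nat_lit 110592, nat_lit 170496, nat_lit 165120, nat_lit 162304, nat_lit 156992, nat_lit 153536, nat_lit 149856, nat_lit 146248, nat_lit 140372, nat_lit 137758, nat_lit 133528, nat_lit 18, nat_lit 7132, nat_lit 8208, nat_lit 14496, nat_lit 18976, nat_lit 21184, nat_lit 25984, nat_lit 35840, nat_lit 45577, nat_lit 41219, nat_lit 36977, nat_lit 32885, nat_lit 28777, nat_lit 24627, nat_lit 20552, nat_lit 16395, nat_lit 8450, nat_lit 4100, nat_lit 434185, nat_lit 425991, nat_lit 417797, nat_lit 409603,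 nat_lit 401408, nat_lit 165376, nat_lit 161024, nat_lit 156032, nat_lit 152192, nat_lit 147680, nat_lit 144368, nat_lit 139656, nat_lit 132460, nat_lit 45057, nat_lit 4097, nat_lit 327680]⟩)
 (.leaf ⟨[nat_lit 0x41e7e23d22e332179b6c44896a955e540061, nat_lit 0xa0393f7d4e12412530d946cdc88894092ed7, nat_lit 0x590036a26424441598577639e61da0a234e5], [nat_lit 81920, nat_lit 86016, nat_lit 94208, nat_lit 102400, nat_lit 110592, nat_lit 178176, nat_lit 173056, nat_lit 170496, nat_lit 167168, nat_lit 159872, nat_lit 157120, nat_lit 152160, nat_lit 148128, nat_lit 146600, nat_lit 141292, nat_lit 135404, nat_lit 131803, nat_lit 588, nat_lit 4684, nat_lit 8336, nat_lit 16112, nat_lit 17728, nat_lit 22016, nat_lit 26368, nat_lit 29184, nat_lit 33792, nat_lit 43008, nat_lit 46791, nat_lit 41767, nat_lit 37042, nat_lit 33951, nat_lit 28972, nat_lit 26681, nat_lit 20554, nat_lit 16388, nat_lit 12293, nat_lit 8194, nat_lit 4097, nat_lit 2, nat_lit 430087, nat_lit 417797, nat_lit 409603, nat_lit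 401408, nat_lit 160256, nat_lit 151680, nat_lit 147520, nat_lit 143552, nat_lit 139928, nat_lit 45660, nat_lit 41148, nat_lit 32776, nat_lit 4097, nat_lit 327680]⟩))
 (.node (nat_lit 75) (.leaf ⟨[nat_lit 0xfaa9a0758f3a122d2c2ef42543930d512c20], [nat_lit 73728, nat_lit 77824, nat_lit 86016, nat_lit 102400, nat_lit 106496, nat_lit 174080, nat_lit 168448, nat_lit 165888, nat_lit 163072, nat_lit 156480, nat_lit 155520, nat_lit 150400, nat_lit 144784, nat_lit 143128, nat_lit 139250, nat_lit 135136, nat_lit 16, nat_lit 4112, nat_lit 9160, nat_lit 13264, nat_lit 18144, nat_lit 24384, nat_lit 27904, nat_lit 29952, nat_lit 33280, nat_lit 37888, nat_lit 40982, nat_lit 37040, nat_lit 32968, nat_lit 28720, nat_lit 24613, nat_lit 20503, nat_lit 16387, nat_lit 12292, nat_lit 8202, nat_lit 327680]⟩)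
 (.leaf ⟨[nat_lit 0xc6f3fa081d1488d719e8862d5079664b49b5, nat_lit 0xa3fcaf4c885718156450f38a8dbd9701cc2a, nat_lit 0x6c6c658dc06089c9a36c89c14f3caa362ca4], [nat_lit 77824, nat_lit 81920, nat_lit 86016, nat_lit 90112, nat_lit 98304, nat_lit 102400, nat_lit 110592, nat_lit 168448, nat_lit 166912, nat_lit 163712, nat_lit 156544, nat_lit 153664, nat_lit 147536, nat_lit 144672, nat_lit 143324, nat_lit 138586, nat_lit 134538, nat_lit 588, nat_lit 4684, nat_lit 10248, nat_lit 16048, nat_lit 17728, nat_lit 21120, nat_lit 30208, nat_lit 33280, nat_lit 37888, nat_lit 43008, nat_lit 46447, nat_lit 43104, nat_lit 37016, nat_lit 33911, nat_lit 28708, nat_lit 24636, nat_lit 20508, nat_lit 16390, nat_lit 12323, nat_lit 4097, nat_lit 430087, nat_lit 417797, nat_lit 409603, nat_lit 401408, nat_lit 160256, nat_lit 151680, nat_lit 147520, nat_lit 143552, nat_lit 139928, nat_lit 45660, nat_lit 41148, nat_lit 32776, nat_lit 4097]⟩)))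
 (.node (nat_lit 78) (.node (nat_lit 77) (.leaf ⟨[nat_lit 0xfaa95f14189382817d8ad912754387159957, nat_lit 0x96f960b42420b1d7a2543245a87acd3054e5, nat_lit 0xf905531c5b7750520954081d13624cf592d5], [nat_lit 65536, nat_lit 69632, nat_lit 90112, nat_lit 102400, nat_lit 110592, nat_lit 178176, nat_lit 174080, nat_lit 171008, nat_lit 165632, nat_lit 162304, nat_lit 155968, nat_lit 154464, nat_lit 148112, nat_lit 145312, nat_lit 141948, nat_lit 138098, nat_lit 133445, nat_lit 2832, nat_lit 6928, nat_lit 12192, nat_lit 14352, nat_lit 23744, nat_lit 25600, nat_lit 38912, nat_lit 43008, nat_lit 46524, nat_lit 43932, nat_lit 37179, nat_lit 32896, nat_lit 28959, nat_lit 24577, nat_lit 21012, nat_lit 16399, nat_lit 12295, nat_lit 8203, nat_lit 4097, nat_lit 438280, nat_lit 421894, nat_lit 409603, nat_lit 401408, nat_lit 160000, nat_lit 157824, nat_lit 147904, nat_lit 143744, nat_lit 139272, nat_lit 131208, nat_lit 41100, nat_lit 37081, nat_lit 4097, nat_lit 327680]⟩)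
 (.leaf ⟨[nat_lit 0xbde12825aaa4ca27435c664e83b89f02ac01], [nat_lit 73728, nat_lit 81920, nat_lit 94208, nat_lit 102400, nat_lit 178176, nat_lit 173056, nat_lit 171520, nat_lit 160640, nat_lit 157760, nat_lit 153536, nat_lit 148528, nat_lit 145600, nat_lit 139280, nat_lit 135628, nat_lit 134237, nat_lit 2, nat_lit 6144, nat_lit 10048, nat_lit 13136, nat_lit 20288, nat_lit 21248, nat_lit 26752, nat_lit 35328, nat_lit 38912, nat_lit 43008, nat_lit 41412, nat_lit 34012, nat_lit 28792, nat_lit 24757, nat_lit 20617, nat_lit 16417, nat_lit 12357, nat_lit 8259, nat_lit 4097, nat_lit 2]⟩))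
 (.node (nat_lit 79) (.leaf ⟨[nat_lit 0x906a501b914aa9e29256585ae40c4e0999ac, nat_lit 0x2417485d922620f27b8770c615298142366a, nat_lit 0xfc359fa564b7089663d1350623b81a5824e6], [nat_lit 73728, nat_lit 106496, nat_lit 175104, nat_lit 170496, nat_lit 165376, nat_lit 161024, nat_lit 158144, nat_lit 153856, nat_lit 151472, nat_lit 146168, nat_lit 142448, nat_lit 135200, nat_lit 131551, nat_lit 1660, nat_lit 5756, nat_lit 10568, nat_lit 15008, nat_lit 17536, nat_lit 24384, nat_lit 27776, nat_lit 28928, nat_lit 34304, nat_lit 39936, nat_lit 46640, nat_lit 43161, nat_lit 37079, nat_lit 32980, nat_lit 29044, nat_lit 24601, nat_lit 20608, nat_lit 16455, nat_lit 12290, nat_lit 8209, nat_lit 4097, nat_lit 2, nat_lit 425991, nat_lit 417797, nat_lit 409603, nat_lit 401408, nat_lit 156032, nat_lit 147776, nat_lit 143712, nat_lit 139592, nat_lit 131444, nat_lit 45517, nat_lit 41013, nat_lit 36880, nat_lit 4097]⟩)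
 (.leaf ndBr1_4))))

theorem dcBE9_ok : dcBE9.all (elB (nat_lit 12288)) = true := by decide +kernel

def dcBE10 : BT El := (.node (nat_lit 84) (.node (nat_lit 82) (.node (nat_lit 81) (.leaf ⟨[nat_lit 0x6ac30fab8d32de2d4092ba11f091d961a820], [nat_lit 65536, nat_lit 69632, nat_lit 73728, nat_lit 77824, nat_lit 81920, nat_lit 94208, nat_lit 98304, nat_lit 102400, nat_lit 173056, nat_lit 160128, nat_lit 157952, nat_lit 153536, nat_lit 150656, nat_lit 146816, nat_lit 142380, nat_lit 135650, nat_lit 131924, nat_lit 2, nat_lit 5904, nat_lit 11376, nat_lit 14096, nat_lit 19328, nat_lit 23936, nat_lit 27392, nat_lit 29184, nat_lit 33792, nat_lit 38912, nat_lit 43008, nat_lit 41578, nat_lit 38141, nat_lit 32983, nat_lit 28761, nat_lit 24721, nat_lit 20506, nat_lit 16422, nat_lit 12295, nat_lit 8194, nat_lit 4101, nat_lit 2]⟩)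
 (.leaf ⟨[nat_lit 0x4b8d17ba9323522564ecf711021aced85420], [nat_lit 65536, nat_lit 69632, nat_lit 73728, nat_lit 102400, nat_lit 178176, nat_lit 169472, nat_lit 167424, nat_lit 160768, nat_lit 155712, nat_lit 155392, nat_lit 149344, nat_lit 144120, nat_lit 139616, nat_lit 138534, nat_lit 131975, nat_lit 2080, nat_lit 6176, nat_lit 12072, nat_lit 14176, nat_lit 17728, nat_lit 26112, nat_lit 30720, nat_lit 38912, nat_lit 43008, nat_lit 41978, nat_lit 36896, nat_lit 33942, nat_lit 28759, nat_lit 24759, nat_lit 16514, nat_lit 12548, nat_lit 8210, nat_lit 327680]⟩))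
 (.node (nat_lit 83) (.leaf ⟨[nat_lit 0x7bb71b7cee392e25322b660a14735443a420], [nat_lit 65536, nat_lit 69632, nat_lit 73728, nat_lit 77824, nat_lit 81920, nat_lit 102400, nat_lit 178176, nat_lit 175104, nat_lit 171008, nat_lit 166912, nat_lit 161152, nat_lit 158912, nat_lit 154080, nat_lit 151280, nat_lit 145232, nat_lit 140324, nat_lit 137198, nat_lit 133745, nat_lit 3034, nat_lit 8004, nat_lit 9752, nat_lit 15312, nat_lit 17024, nat_lit 22848, nat_lit 27008, nat_lit 32512, nat_lit 35840, nat_lit 41013, nat_lit 37254, nat_lit 33504, nat_lit 29209, nat_lit 24864, nat_lit 20760, nat_lit 16390, nat_lit 12291, nat_lit 4105]⟩)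
 (.leaf ⟨[nat_lit 0x5af903359cc1362b3d653ba0a91c14f25020], [nat_lit 65536, nat_lit 69632, nat_lit 73728, nat_lit 86016, nat_lit 102400, nat_lit 106496, nat_lit 173056, nat_lit 170496, nat_lit 165632, nat_lit 161536, nat_lit 158720, nat_lit 152544, nat_lit 149968, nat_lit 143488, nat_lit 140064, nat_lit 136650, nat_lit 132111, nat_lit 2, nat_lit 6176, nat_lit 10728, nat_lit 14192, nat_lit 16416, nat_lit 22720, nat_lit 25600, nat_lit 29696, nat_lit 34304, nat_lit 43008, nat_lit 41127, nat_lit 37095, nat_lit 32953, nat_lit 28975, nat_lit 24621, nat_lit 20497, nat_lit 16399, nat_lit 12304, nat_lit 8195, nat_lit 4100, nat_lit 2, nat_lit 327680]⟩)))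
 (.node (nat_lit 86) (.node (nat_lit 85) (.leaf ⟨[nat_lit 0xa0505c589d385e24a99285486c6bcb43d820], [nat_lit 65536, nat_lit 69632, nat_lit 73728, nat_lit 81920, nat_lit 94208, nat_lit 98304, nat_lit 102400, nat_lit 106496, nat_lit 174080, nat_lit 171008, nat_lit 165120, nat_lit 160768, nat_lit 155904, nat_lit 155072, nat_lit 150976, nat_lit 145568, nat_lit 141536, nat_lit 137572, nat_lit 133226, nat_lit 2, nat_lit 7324, nat_lit 11976, nat_lit 15024, nat_lit 19040, nat_lit 21632, nat_lit 25088, nat_lit 30976, nat_lit 35328, nat_lit 43008, nat_lit 41603, nat_lit 38200, nat_lit 33314, nat_lit 28962, nat_lit 24587, nat_lit 20510, nat_lit 16395, nat_lit 12294, nat_lit 4105, nat_lit 2]⟩)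
 (.leaf ⟨[nat_lit 0x4124b8bdab49ca307b9ac5a928398a418820], [nat_lit 77824, nat_lit 81920, nat_lit 90112, nat_lit 94208, nat_lit 178176, nat_lit 173056, nat_lit 171008, nat_lit 167424, nat_lit 161664, nat_lit 156096, nat_lit 154464, nat_lit 147760, nat_lit 145344, nat_lit 142704, nat_lit 138124, nat_lit 131288, nat_lit 14336, nat_lit 18432, nat_lit 26624, nat_lit 30720]⟩))
 (.node (nat_lit 87) (.leaf ndBr4_0)
 (.leaf ⟨[nat_lit 0x995c5994dc519c0db452265c9433d480aeb0, nat_lit 0x7d8e12311964adf58a0e32c84abce0d75001, nat_lit 0xa05f53381414b88d7d6229a0b065a4359a97, nat_lit 0x41b2dbbd54119d04b44cc041326b9622be74], [nat_lit 65536, nat_lit 69632, nat_lit 73728, nat_lit 86016, nat_lit 90112, nat_lit 106496, nat_lit 173056, nat_lit 168960, nat_lit 166912, nat_lit 162944, nat_lit 156096, nat_lit 153632, nat_lit 148592, nat_lit 145248, nat_lit 140360, nat_lit 137580, nat_lit 135166, nat_lit 662, nat_lit 6800, nat_lit 9528, nat_lit 14240, nat_lit 20000, nat_lit 20608, nat_lit 24960, nat_lit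 28928, nat_lit 34304, nat_lit 39936, nat_lit 45641, nat_lit 41688, nat_lit 38121, nat_lit 32975, nat_lit 28937, nat_lit 24637, nat_lit 16449, nat_lit 12295, nat_lit 4104, nat_lit 438281, nat_lit 425991, nat_lit 417797, nat_lit 409603, nat_lit 401408, nat_lit 169984, nat_lit 166400, nat_lit 162304, nat_lit 156416, nat_lit 151936, nat_lit 147904, nat_lit 143952, nat_lit 139736, nat_lit 131908, nat_lit 41833, nat_lit 4097]⟩))))

theorem dcBE10_ok : dcBE10.all (elB (nat_lit 12288)) = true := by decide +kernel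

def dcBE11 : BT El := (.node (nat_lit 92) (.node (nat_lit 90) (.node (nat_lit 89) (.leaf ⟨[nat_lit 0xf0696c008361de953cd6e6aa064159123e49, nat_lit 0xf966c3d0a4ad8d772c10628311be6893449, nat_lit 0x9003339201552dc728de1232f61263469a70], [nat_lit 65536, nat_lit 69632, nat_lit 81920, nat_lit 94208, nat_lit 110592, nat_lit 168960, nat_lit 165376, nat_lit 163200, nat_lit 159488, nat_lit 154208, nat_lit 148336, nat_lit 145616, nat_lit 142520, nat_lit 135466, nat_lit 133790, nat_lit 2848, nat_lit 6944, nat_lit 10976, nat_lit 14032, nat_lit 20192, nat_lit 21248, nat_lit 25216, nat_lit 30208, nat_lit 33792, nat_lit 38912, nat_lit 43008, nat_lit 47080, nat_lit 41067, nat_lit 36919, nat_lit 32841, nat_lit 30825, nat_lit 24872, nat_lit 20558, nat_lit 16902, nat_lit 12294, nat_lit 8193, nat_lit 4097, nat_lit 430087, nat_lit 417795, nat_lit 401408, nat_lit 156288, nat_lit 143424, nat_lit 139456, nat_lit 131204, nat_lit 45185, nat_lit 41028, nat_lit 32896, nat_lit 20481, nat_lit 16385, nat_lit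 4097]⟩)
 (.leaf ⟨[nat_lit 0x5c6a3351e97ac84c1c6cf24269715a802cc1, nat_lit 0x27781ebb8870be82ab65028e295d94c99900, nat_lit 0x22748809aa763c748adc49c0574d9005164d, nat_lit 0xf59afa13607b52eb33243991e0885c555528], [nat_lit 77824, nat_lit 81920, nat_lit 86016, nat_lit 90112, nat_lit 94208, nat_lit 98304, nat_lit 102400, nat_lit 106496, nat_lit 110592, nat_lit 175104, nat_lit 169472, nat_lit 167424, nat_lit 161152, nat_lit 159424, nat_lit 152576, nat_lit 147856, nat_lit 143528, nat_lit 143200, nat_lit 138200, nat_lit 133548, nat_lit 2368, nat_lit 6464, nat_lit 15504, nat_lit 20032, nat_lit 21184, nat_lit 26880, nat_lit 30720, nat_lit 35328, nat_lit 37888, nat_lit 43008, nat_lit 46913, nat_lit 41797, nat_lit 37374, nat_lit 33495, nat_lit 29211, nat_lit 24592, nat_lit 20615, nat_lit 16452, nat_lit 12547, nat_lit 8193, nat_lit 4097, nat_lit 434185, nat_lit 425991, nat_lit 417797, nat_lit 409603, nat_lit 401408, nat_lit 168960, nat_lit 164352, nat_lit 161024, nat_lit 157056, nat_lit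 152384, nat_lit 148096, nat_lit 144720, nat_lit 140520, nat_lit 131908, nat_lit 45073, nat_lit 4097, nat_lit 327680]⟩))
 (.node (nat_lit 91) (.leaf ndBr4_1)
 (.leaf ⟨[nat_lit 0x6990033b6e285a8b920016266e2d5e322a26, nat_lit 0x9566c6596291a99668ae824eb491c20341cf], [nat_lit 77824, nat_lit 81920, nat_lit 90112, nat_lit 94208, nat_lit 102400, nat_lit 106496, nat_lit 178176, nat_lit 174080, nat_lit 170496, nat_lit 167168, nat_lit 160512, nat_lit 157120, nat_lit 152832, nat_lit 149376, nat_lit 146528, nat_lit 142500, nat_lit 137218, nat_lit 132748, nat_lit 1180, nat_lit 5276, nat_lit 11320, nat_lit 13328, nat_lit 20320, nat_lit 23680, nat_lit 27520, nat_lit 30976, nat_lit 36352, nat_lit 43008, nat_lit 46851, nat_lit 43875, nat_lit 39205, nat_lit 35048, nat_lit 29035, nat_lit 24597, nat_lit 20758, nat_lit 16386, nat_lit 12321, nat_lit 8201, nat_lit 4097, nat_lit 2, nat_lit 409603, nat_lit 401408, nat_lit 143376, nat_lit 139288, nat_lit 131080, nat_lit 40968, nat_lit 36865, nat_lit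 32797, nat_lit 28688, nat_lit 24605, nat_lit 4097]⟩)))
 (.node (nat_lit 94) (.node (nat_lit 93) (.leaf ndBr4_2)
 (.leaf ⟨[nat_lit 0xe17beb4b0f0245ab44ccf548aebd476a0801], [nat_lit 73728, nat_lit 81920, nat_lit 86016, nat_lit 94208, nat_lit 98304, nat_lit 106496, nat_lit 110592, nat_lit 173056, nat_lit 171008, nat_lit 167168, nat_lit 161280, nat_lit 159232, nat_lit 153216, nat_lit 148080, nat_lit 143912, nat_lit 142924, nat_lit 135718, nat_lit 132294, nat_lit 2, nat_lit 6656, nat_lit 8704, nat_lit 12432, nat_lit 16544, nat_lit 22592, nat_lit 25344, nat_lit 30976, nat_lit 36352, nat_lit 39936, nat_lit 43008, nat_lit 41889, nat_lit 37343, nat_lit 32788, nat_lit 29223, nat_lit 24586, nat_lit 20632, nat_lit 16515, nat_lit 12307, nat_lit 4097, nat_lit 2]⟩))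
 (.node (nat_lit 95) (.leaf ndBr4_3)
 (.leaf ⟨[nat_lit 0xe818db191b3bb94f31d35889858497445801, nat_lit 0x1eed77290e694233a5ed55a1497358f10c01], [nat_lit 65536, nat_lit 69632, nat_lit 73728, nat_lit 81920, nat_lit 86016, nat_lit 90112, nat_lit 94208, nat_lit 171008, nat_lit 165888, nat_lit 162304, nat_lit 156992, nat_lit 152352, nat_lit 148000, nat_lit 146920, nat_lit 141288, nat_lit 138190, nat_lit 131154, nat_lit 2322, nat_lit 4352, nat_lit 10744, nat_lit 15360, nat_lit 16640, nat_lit 23232, nat_lit 25600, nat_lit 30464, nat_lit 33280, nat_lit 37888, nat_lit 43008, nat_lit 46970, nat_lit 43140, nat_lit 38231, nat_lit 33989, nat_lit 29208, nat_lit 24589, nat_lit 20615, nat_lit 16428, nat_lit 12304, nat_lit 8225, nat_lit 4100, nat_lit 425989, nat_lit 409600, nat_lit 131360, nat_lit 40976, nat_lit 28688, nat_lit 12289, nat_lit 8193, nat_lit 4097]⟩))))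

theorem dcBE11_ok : dcBE11.all (elB (nat_lit 12288)) = true := by decide +kernel

def dcBE12 : BT El := (.node (nat_lit 100) (.node (nat_lit 98) (.node (nat_lit 97) (.leaf ndBr4_4)
 (.leaf ⟨[nat_lit 0xdbdb1d8a00b23ac911e06550af9dc351c9ac, nat_lit 0x6f65a01acc7aaac24b00e79217a15b10ca68, nat_lit 0xe2e44d25d8f2d8613ce3551a88589b2825c0, nat_lit 0xd28b871d8938c1e9405a0a554cb9e42315cb], [nat_lit 90112, nat_lit 102400, nat_lit 110592, nat_lit 175104, nat_lit 169984, nat_lit 166400, nat_lit 159872, nat_lit 158080, nat_lit 151648, nat_lit 151360, nat_lit 147264, nat_lit 142844, nat_lit 137778, nat_lit 133099, nat_lit 4, nat_lit 4100, nat_lit 9712, nat_lit 13152, nat_lit 20128, nat_lit 22016, nat_lit 26880, nat_lit 30976, nat_lit 34816, nat_lit 39936, nat_lit 46934, nat_lit 41792, nat_lit 37287, nat_lit 33456, nat_lit 29220, nat_lit 24594, nat_lit 20491, nat_lit 16448, nat_lit 12289, nat_lit 8448, nat_lit 4097, nat_lit 434185, nat_lit 425991, nat_lit 417797, nat_lit 409603, nat_lit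 401408, nat_lit 160768, nat_lit 156416, nat_lit 153344, nat_lit 148000, nat_lit 144208, nat_lit 140120, nat_lit 132988, nat_lit 45548, nat_lit 4097, nat_lit 327680]⟩))
 (.node (nat_lit 99) (.leaf ⟨[nat_lit 0x77be2e7a8f571937a2c8d1442084e43658a8, nat_lit 0x9506525a260952d40d87bc9cf9d402a414b], [nat_lit 65536, nat_lit 69632, nat_lit 73728, nat_lit 81920, nat_lit 86016, nat_lit 94208, nat_lit 102400, nat_lit 106496, nat_lit 178176, nat_lit 173056, nat_lit 171520, nat_lit 164608, nat_lit 159872, nat_lit 158848, nat_lit 152288, nat_lit 148192, nat_lit 143968, nat_lit 139968, nat_lit 136568, nat_lit 133591, nat_lit 986, nat_lit 5616, nat_lit 10824, nat_lit 12864, nat_lit 16672, nat_lit 20608, nat_lit 26880, nat_lit 30976, nat_lit 35328, nat_lit 37888, nat_lit 46645, nat_lit 43796, nat_lit 37099, nat_lit 32881, nat_lit 29293, nat_lit 24596, nat_lit 20509, nat_lit 16393, nat_lit 12307, nat_lit 8227, nat_lit 4101, nat_lit 2, nat_lit 409603, nat_lit 401408, nat_lit 143376, nat_lit 139288,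 nat_lit 131080, nat_lit 40968, nat_lit 36865, nat_lit 32797, nat_lit 28688, nat_lit 24605, nat_lit 4097, nat_lit 327680]⟩)
 (.leaf ⟨[nat_lit 0x48b787509e7340b4936ce046a145d7319189, nat_lit 0x4b272ea11c53091164af382ce0686a3b3d49], [nat_lit 77824, nat_lit 90112, nat_lit 98304, nat_lit 106496, nat_lit 173056, nat_lit 168448, nat_lit 164608, nat_lit 160384, nat_lit 156032, nat_lit 151808, nat_lit 147776, nat_lit 145392, nat_lit 141824, nat_lit 135488, nat_lit 131602, nat_lit 88, nat_lit 4184, nat_lit 9368, nat_lit 13008, nat_lit 20192, nat_lit 21312, nat_lit 27264, nat_lit 29952, nat_lit 35328, nat_lit 39936, nat_lit 46752, nat_lit 44030, nat_lit 37257, nat_lit 32790, nat_lit 29213, nat_lit 24637, nat_lit 20545, nat_lit 16420, nat_lit 12293, nat_lit 8200, nat_lit 4097, nat_lit 2, nat_lit 413699, nat_lit 401408, nat_lit 131112, nat_lit 36865, nat_lit 28680, nat_lit 24621, nat_lit 4097]⟩)))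
 (.node (nat_lit 102) (.node (nat_lit 101) (.leaf ⟨[nat_lit 0xd1be182516d84e4375d2653ea7416cc04422, nat_lit 0x4e718e75e55a2026234f0558654b1719bc40], [nat_lit 77824, nat_lit 81920, nat_lit 90112, nat_lit 94208, nat_lit 98304, nat_lit 110592, nat_lit 174080, nat_lit 170496, nat_lit 165632, nat_lit 161536, nat_lit 156992, nat_lit 153664, nat_lit 149504, nat_lit 147272, nat_lit 143208, nat_lit 138620, nat_lit 131394, nat_lit 2366, nat_lit 5888, nat_lit 10552, nat_lit 14512, nat_lit 18688, nat_lit 22464, nat_lit 25472, nat_lit 35328, nat_lit 39936, nat_lit 43008, nat_lit 45449, nat_lit 41205, nat_lit 37127, nat_lit 33395, nat_lit 29704, nat_lit 24626, nat_lit 20555, nat_lit 16416, nat_lit 12304, nat_lit 8195, nat_lit 4100, nat_lit 2, nat_lit 413699, nat_lit 401408, nat_lit 139304, nat_lit 131080, nat_lit 40964, nat_lit 36865, nat_lit 32813, nat_lit 24621, nat_lit 16392, nat_lit 4097, nat_lit 327680]⟩)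
 (.leaf ⟨[nat_lit 0x7d811d1848011ca6b4da8a41ea4c59574977, nat_lit 0xb28844b1a9770a6a7c121254a71ad92401b1, nat_lit 0x9c39ac0b1b271d747a0d652622800a41cef5], [nat_lit 65536, nat_lit 69632, nat_lit 77824, nat_lit 81920, nat_lit 94208, nat_lit 98304, nat_lit 102400, nat_lit 110592, nat_lit 168960, nat_lit 166400, nat_lit 161536, nat_lit 157696, nat_lit 152224, nat_lit 148080, nat_lit 146248, nat_lit 141568, nat_lit 136974, nat_lit 132585, nat_lit 2870, nat_lit 7972, nat_lit 11056, nat_lit 15792, nat_lit 17280, nat_lit 22784, nat_lit 24960, nat_lit 30720, nat_lit 46602, nat_lit 41057, nat_lit 39321, nat_lit 33429, nat_lit 28749, nat_lit 24742, nat_lit 20544, nat_lit 16903, nat_lit 12321, nat_lit 8195, nat_lit 4100, nat_lit 438277, nat_lit 409603, nat_lit 401408, nat_lit 143392, nat_lit 139296, nat_lit 133176, nat_lit 41004, nat_lit 36865, nat_lit 32828, nat_lit 28708, nat_lit 24577, nat_lit 4097, nat_lit 327680]⟩))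
 (.node (nat_lit 103) (.leaf ⟨[nat_lit 0x5553354aca77de8c736b6988705190488412, nat_lit 0xee212d48a36ac02b2ca6e25e8c519e83b403], [nat_lit 73728, nat_lit 77824, nat_lit 90112, nat_lit 106496, nat_lit 173056, nat_lit 165632, nat_lit 161792, nat_lit 156096, nat_lit 154592, nat_lit 149184, nat_lit 144576, nat_lit 140244, nat_lit 135274, nat_lit 132917, nat_lit 714, nat_lit 4720, nat_lit 11480, nat_lit 15424, nat_lit 18112, nat_lit 23424, nat_lit 24960, nat_lit 32256, nat_lit 33792, nat_lit 37888, nat_lit 46729, nat_lit 43225, nat_lit 38379, nat_lit 33489, nat_lit 28741, nat_lit 24728, nat_lit 20742, nat_lit 16448, nat_lit 12309, nat_lit 8210, nat_lit 4100, nat_lit 2, nat_lit 409603, nat_lit 401408, nat_lit 139288, nat_lit 40968, nat_lit 36865, nat_lit 32772, nat_lit 28676, nat_lit 24592, nat_lit 20509, nat_lit 4097, nat_lit 327680]⟩)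
 (.leaf ⟨[nat_lit 0x9960fc9a06a11890b25c7a95abbd0128b1e1, nat_lit 0x56f0c9badf02840239864acda9951ca622d1, nat_lit 0xfa03669ddc86560a010e67a69110c25b2e4d], [nat_lit 73728, nat_lit 77824, nat_lit 98304, nat_lit 178176, nat_lit 175104, nat_lit 168448, nat_lit 165376, nat_lit 161280, nat_lit 156416, nat_lit 155008, nat_lit 148528, nat_lit 145552, nat_lit 139564, nat_lit 135978, nat_lit 134186, nat_lit 3434, nat_lit 7972, nat_lit 8992, nat_lit 14752, nat_lit 16576, nat_lit 24000, nat_lit 28288, nat_lit 32000, nat_lit 33792, nat_lit 45788, nat_lit 41824, nat_lit 38191, nat_lit 33895, nat_lit 30730, nat_lit 24585, nat_lit 21519, nat_lit 16521, nat_lit 12290, nat_lit 8209, nat_lit 4101, nat_lit 421893, nat_lit 409603, nat_lit 401408, nat_lit 139432, nat_lit 131120, nat_lit 45204, nat_lit 41132, nat_lit 36865, nat_lit 32769, nat_lit 24588, nat_lit 4097]⟩))))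

theorem dcBE12_ok : dcBE12.all (elB (nat_lit 12288)) = true := by decide +kernel

def dcBE13 : BT El := (.node (nat_lit 108) (.node (nat_lit 106) (.node (nat_lit 105) (.leaf ndBr1_0)
 (.leaf ⟨[nat_lit 0x4747781c96e89e16426859a84c082e46bcd5, nat_lit 0xcccc364b45244c6fbdaa66283139494581d0, nat_lit 0x12d717bcde974688532d201c23836ab208c5], [nat_lit 77824, nat_lit 81920, nat_lit 90112, nat_lit 110592, nat_lit 178176, nat_lit 175104, nat_lit 164864, nat_lit 162560, nat_lit 158848, nat_lit 151648, nat_lit 151376, nat_lit 146920, nat_lit 143128, nat_lit 138930, nat_lit 134770, nat_lit 960, nat_lit 5056, nat_lit 10336, nat_lit 12512, nat_lit 19392, nat_lit 23040, nat_lit 26752, nat_lit 34816, nat_lit 39936, nat_lit 46380, nat_lit 41593, nat_lit 37998, nat_lit 32825, nat_lit 28723, nat_lit 24607, nat_lit 20488, nat_lit 16397, nat_lit 12308, nat_lit 8209, nat_lit 4097, nat_lit 2, nat_lit 421894, nat_lit 413700, nat_lit 401408, nat_lit 155776, nat_lit 151616, nat_lit 147552, nat_lit 139472,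 nat_lit 131284, nat_lit 45220, nat_lit 41125, nat_lit 37088, nat_lit 32852, nat_lit 12289, nat_lit 4097, nat_lit 327680]⟩))
 (.node (nat_lit 107) (.leaf ndBr1_5)
 (.leaf ⟨[nat_lit 0xbb7de89a020192cd9258ebc6ab798543960a, nat_lit 0x8b21888586b4192d3ba329aae10098479695], [nat_lit 65536, nat_lit 69632, nat_lit 73728, nat_lit 86016, nat_lit 90112, nat_lit 94208, nat_lit 102400, nat_lit 110592, nat_lit 178176, nat_lit 174080, nat_lit 165376, nat_lit 160896, nat_lit 156224, nat_lit 155616, nat_lit 148400, nat_lit 143968, nat_lit 139616, nat_lit 137224, nat_lit 133888, nat_lit 310, nat_lit 6152, nat_lit 9216, nat_lit 15216, nat_lit 18688, nat_lit 24320, nat_lit 27520, nat_lit 30464, nat_lit 33792, nat_lit 37888, nat_lit 46652, nat_lit 41340, nat_lit 37202, nat_lit 32930, nat_lit 28680, nat_lit 25124, nat_lit 20481, nat_lit 16454, nat_lit 12420, nat_lit 4161, nat_lit 425989, nat_lit 405504, nat_lit 143616, nat_lit 131368, nat_lit 41216, nat_lit 36896, nat_lit 28680, nat_lit 24584, nat_lit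 4097, nat_lit 327680]⟩)))
 (.node (nat_lit 110) (.node (nat_lit 109) (.leaf ndBr3_5)
 (.leaf ⟨[nat_lit 0xe41ee182500390725d4ac7c5a1a38cabcc56, nat_lit 0xd1d7845a9178b8c390585011b0aa6969bce2, nat_lit 0x21bee89816f125910c94d354a783868b5c94], [nat_lit 65536, nat_lit 69632, nat_lit 81920, nat_lit 90112, nat_lit 94208, nat_lit 98304, nat_lit 102400, nat_lit 110592, nat_lit 178176, nat_lit 175104, nat_lit 169984, nat_lit 166144, nat_lit 161280, nat_lit 157504, nat_lit 152096, nat_lit 151264, nat_lit 143920, nat_lit 141188, nat_lit 137806, nat_lit 133574, nat_lit 234, nat_lit 4332, nat_lit 12136, nat_lit 12512, nat_lit 20160, nat_lit 21184, nat_lit 26752, nat_lit 29696, nat_lit 34304, nat_lit 43008, nat_lit 46982, nat_lit 43907, nat_lit 37319, nat_lit 32838, nat_lit 28792, nat_lit 24623, nat_lit 20571, nat_lit 16396, nat_lit 12294, nat_lit 8200, nat_lit 4101, nat_lit 2, nat_lit 421894, nat_lit 413700, nat_lit 401408, nat_lit 155776, nat_lit 151744, nat_lit 147584, nat_lit 131316,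 nat_lit 45061, nat_lit 41152, nat_lit 37072, nat_lit 32769, nat_lit 12289, nat_lit 4097]⟩))
 (.node (nat_lit 111) (.leaf ndBg0_0)
 (.leaf ndBg0_1))))

theorem dcBE13_ok : dcBE13.all (elB (nat_lit 12288)) = true := by decide +kernel

def dcBE14 : BT El := (.node (nat_lit 116) (.node (nat_lit 114) (.node (nat_lit 113) (.leaf ndBg0_2)
 (.leaf ndBg0_3))
 (.node (nat_lit 115) (.leaf ndBg0_4)
 (.leaf ndBg1_0)))
 (.node (nat_lit 118) (.node (nat_lit 117) (.leaf ndBg1_1)
 (.leaf ndBg1_2))
 (.node (nat_lit 119) (.leaf ndBg1_3)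
 (.leaf ndBg1_4))))

theorem dcBE14_ok : dcBE14.all (elB (nat_lit 12288)) = true := by decide +kernel

def dcBE15 : BT El := (.node (nat_lit 124) (.node (nat_lit 122) (.node (nat_lit 121) (.leaf ndBg2_0)
 (.leaf ndBg2_1))
 (.node (nat_lit 123) (.leaf ndBg2_2)
 (.leaf ndBg2_3)))
 (.node (nat_lit 126) (.node (nat_lit 125) (.leaf ndBg2_4)
 (.leaf ndBg3_0))
 (.node (nat_lit 127) (.leaf ndBg3_1)
 (.leaf ndBg3_2))))

theorem dcBE15_ok : dcBE15.all (elB (nat_lit 12288)) = true := by decide +kernel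

def dcBE16 : BT El := (.node (nat_lit 131) (.node (nat_lit 129) (.leaf ndBg3_3)
 (.node (nat_lit 130) (.leaf ndBg3_4)
 (.leaf ndBg4_0)))
 (.node (nat_lit 133) (.node (nat_lit 132) (.leaf ndBg4_1)
 (.leaf ndBg4_2))
 (.node (nat_lit 134) (.leaf ndBg4_3)
 (.leaf ndBg4_4))))

theorem dcBE16_ok : dcBE16.all (elB (nat_lit 12288)) = true := by decide +kernel


end

end CF.Mon
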