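import Cfsg.Agent.Mon.DcBC

set_option autoImplicit false
set_option maxRecDepth 100000

namespace CF.Mon

open CF.Comp

noncomputable section

def dcBc0 : List Cert := [.init,
  .init,
  .init,
  .init,
  .init,
  .init,
  .init,
  .init,
  .init,
  .init,
  .base,
  .defn,
  .stab (nat_lit 22) tw0 ⟨(nat_lit 0), ⟨[nat_lit 1, nat_lit 7, nat_lit 9, nat_lit 7, nat_lit 1, nat_lit 9, nat_lit 1], [], (nat_lit 22), ⟨[nat_lit 0, nat_lit 12, nat_lit 65], [nat_lit 0, nat_lit 21, nat_lit 55], ⟨[nat_lit 0xa9e922ba2fb206d8256655d8224c20], [nat_lit 175104, nat_lit 170496, nat_lit 165888, nat_lit 162816, nat_lit 155968, nat_lit 155616, nat_lit 150096, nat_lit 144496, nat_lit 141664, nat_lit 136396, nat_lit 131553, nat_lit 1972, nat_lit 6068, nat_lit 8792, nat_lit 13808, nat_lit 18336, nat_lit 22400, nat_lit 26112, nat_lit 29184, nat_lit 33280, nat_lit 41469, nat_lit 36924, nat_lit 33985, nat_lit 28774, nat_lit 24738, nat_lit 20508, nat_lit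 12292, nat_lit 8203]⟩⟩⟩, ap0⟩]

theorem dcBr0 : Rng dcB 0 13 := Rng.of (l := dcBc0) (by decide +kernel)

def dcBc13 : List Cert := [.stab (nat_lit 22) tw0 ⟨(nat_lit 0), ⟨[nat_lit 2, nat_lit 4, nat_lit 9, nat_lit 1, nat_lit 1, nat_lit 5, nat_lit 8, nat_lit 5], [], (nat_lit 22), ⟨[nat_lit 26, nat_lit 49], [nat_lit 0, nat_lit 22, nat_lit 49], ⟨[nat_lit 0x989a5baa123d8c8a2dee1b0914d420], [nat_lit 175104, nat_lit 169984, nat_lit 167680, nat_lit 161536, nat_lit 157312, nat_lit 151584, nat_lit 149728, nat_lit 144088, nat_lit 139900, nat_lit 138996, nat_lit 133598, nat_lit 2, nat_lit 5904, nat_lit 9264, nat_lit 13552, nat_lit 17664, nat_lit 22080, nat_lit 30208, nat_lit 34304, nat_lit 41151, nat_lit 36945, nat_lit 32917, nat_lit 28948, nat_lit 25088, nat_lit 21518, nat_lit 16385, nat_lit 13312, nat_lit 8203, nat_lit 4097, nat_lit 2]⟩⟩⟩, ap0⟩,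
  .stab (nat_lit 22) tw0 ⟨(nat_lit 0), ⟨[nat_lit 0, nat_lit 6, nat_lit 8, nat_lit 5, nat_lit 9, nat_lit 8, nat_lit 2, nat_lit 8], [], (nat_lit 22), ⟨[nat_lit 76, nat_lit 66], [nat_lit 17, nat_lit 54], ⟨[nat_lit 0x28d57209748250faba5661cd36c420], [nat_lit 173056, nat_lit 169472, nat_lit 164864, nat_lit 161536, nat_lit 157248, nat_lit 151968, nat_lit 148288, nat_lit 144184, nat_lit 143336, nat_lit 135510, nat_lit 131083, nat_lit 4, nat_lit 4100, nat_lit 8704, nat_lit 13280, nat_lit 18368, nat_lit 20864, nat_lit 25984, nat_lit 33792, nat_lit 37888, nat_lit 41275, nat_lit 37370, nat_lit 33379, nat_lit 28957, nat_lit 25118, nat_lit 20501, nat_lit 16430, nat_lit 12293]⟩⟩⟩, ap0⟩,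
  .stab (nat_lit 22) tw0 ⟨(nat_lit 0), ⟨[nat_lit 6, nat_lit 5, nat_lit 7, nat_lit 0, nat_lit 8, nat_lit 7, nat_lit 2], [], (nat_lit 22), ⟨[nat_lit 0, nat_lit 79, nat_lit 65], [nat_lit 0, nat_lit 84, nat_lit 52], ⟨[nat_lit 0x12ceeb9646a452a4106dac1ecb4c20], [nat_lit 173056, nat_lit 168448, nat_lit 164608, nat_lit 162944, nat_lit 156480, nat_lit 152160, nat_lit 148560, nat_lit 145176, nat_lit 139716, nat_lit 136856, nat_lit 132579, nat_lit 128, nat_lit 4224, nat_lit 8904, nat_lit 12976, nat_lit 17376, nat_lit 20928, nat_lit 25472, nat_lit 29696, nat_lit 37888, nat_lit 41792, nat_lit 38336, nat_lit 32869, nat_lit 28792, nat_lit 24760, nat_lit 20628, nat_lit 16390, nat_lit 12289, nat_lit 8195]⟩⟩⟩, ap0⟩]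

theorem dcBr13 : Rng dcB 13 16 := Rng.of (l := dcBc13) (by decide +kernel)

def dcBc16 : List Cert := [.prod [] [nat_lit 13, nat_lit 15, nat_lit 15, nat_lit 15],
  .prod [] [nat_lit 14, nat_lit 12, nat_lit 14, nat_lit 16],
  .prod [] [nat_lit 16, nat_lit 16, nat_lit 15, nat_lit 14],
  .prod [] [nat_lit 13, nat_lit 18, nat_lit 13, nat_lit 14],
  .prod [] [nat_lit 19, nat_lit 14, nat_lit 13, nat_lit 18],
  .prod [] [nat_lit 18, nat_lit 20, nat_lit 14, nat_lit 18],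
  .edge tw0 ⟨(nat_lit 1), ⟨[], [], (nat_lit 23), tw0⟩, ⟨[nat_lit 6, nat_lit 0, nat_lit 5, nat_lit 7, nat_lit 2], [], (nat_lit 22), ⟨[nat_lit 11, nat_lit 54], [nat_lit 0, nat_lit 35, nat_lit 53], ⟨[nat_lit 0xac54760dae5dcb0a4cc89113613c20], [nat_lit 168960, nat_lit 165376, nat_lit 161664, nat_lit 156544, nat_lit 153120, nat_lit 149168, nat_lit 146016, nat_lit 139828, nat_lit 136590, nat_lit 131748, nat_lit 8, nat_lit 4104, nat_lit 10088, nat_lit 13776, nat_lit 18336, nat_lit 22016, nat_lit 24832, nat_lit 28928, nat_lit 33280, nat_lit 41928, nat_lit 37965, nat_lit 33533, nat_lit 28766, nat_lit 24628, nat_lit 20495, nat_lit 16461, nat_lit 12309, nat_lit 8200]⟩⟩⟩⟩]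

theorem dcBr16 : Rng dcB 16 23 := Rng.of (l := dcBc16) (by decide +kernel)

def dcBc23 : List Cert := [.edge ⟨[nat_lit 3, nat_lit 55], [nat_lit 0, nat_lit 86, nat_lit 63], ⟨[nat_lit 0x8cd54149e463577a99072c06eb2401], [nat_lit 173056, nat_lit 168448, nat_lit 164352, nat_lit 157440, nat_lit 153024, nat_lit 148752, nat_lit 143976, nat_lit 141088, nat_lit 135622, nat_lit 132597, nat_lit 2, nat_lit 9664, nat_lit 12976, nat_lit 16992, nat_lit 25088, nat_lit 29184, nat_lit 33280, nat_lit 37888, nat_lit 41536, nat_lit 37304, nat_lit 33005, nat_lit 28760, nat_lit 24624, nat_lit 16388, nat_lit 12291, nat_lit 8194, nat_lit 4097, nat_lit 2]⟩⟩ ⟨(nat_lit 2), ⟨[], [], (nat_lit 23), ⟨[nat_lit 0, nat_lit 14, nat_lit 52], [nat_lit 0, nat_lit 22, nat_lit 58], ⟨[nat_lit 0xbc57530a8fb11a3540a7925cc9a001], [nat_lit 168960, nat_lit 164608, nat_lit 160512, nat_lit 156800, nat_lit 152512, nat_lit 148528, nat_lit 143560, nat_lit 143180, nat_lit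 135682, nat_lit 131407, nat_lit 2, nat_lit 4100, nat_lit 8448, nat_lit 12864, nat_lit 16992, nat_lit 22464, nat_lit 25472, nat_lit 30208, nat_lit 33280, nat_lit 37888, nat_lit 41286, nat_lit 37220, nat_lit 33437, nat_lit 28969, nat_lit 24620, nat_lit 20485, nat_lit 16398, nat_lit 12289, nat_lit 4097, nat_lit 2]⟩⟩⟩, ⟨[nat_lit 2, nat_lit 2, nat_lit 3, nat_lit 0, nat_lit 1, nat_lit 0], [], (nat_lit 22), ⟨[nat_lit 79, nat_lit 93], [nat_lit 86], ⟨[nat_lit 0xad1eb816c321daa6491311a3772401], [nat_lit 168960, nat_lit 165120, nat_lit 162816, nat_lit 157504, nat_lit 153472, nat_lit 149328, nat_lit 143872, nat_lit 140124, nat_lit 136050, nat_lit 131156, nat_lit 2, nat_lit 4224, nat_lit 9664, nat_lit 12576, nat_lit 16800, nat_lit 21184, nat_lit 25344, nat_lit 29184, nat_lit 33792, nat_lit 41600, nat_lit 38267, nat_lit 33005, nat_lit 24616, nat_lit 20562, nat_lit 16391, nat_lit 12326, nat_lit 8194, nat_lit 4097, nat_lit 2]⟩⟩⟩⟩,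
  .defn,
  .stab (nat_lit 48) tw0 ⟨(nat_lit 0), ⟨[nat_lit 7, nat_lit 6, nat_lit 7, nat_lit 2, nat_lit 6, nat_lit 9, nat_lit 1], [], (nat_lit 48), ⟨[nat_lit 0, nat_lit 7, nat_lit 69], [nat_lit 0, nat_lit 22, nat_lit 51], ⟨[nat_lit 0x1c6502b6a95d9c741a8f65d4498801], [nat_lit 169472, nat_lit 166656, nat_lit 162688, nat_lit 159232, nat_lit 153920, nat_lit 149248, nat_lit 145872, nat_lit 141976, nat_lit 136290, nat_lit 134331, nat_lit 494, nat_lit 4584, nat_lit 8680, nat_lit 12864, nat_lit 17312, nat_lit 21440, nat_lit 24704, nat_lit 28928, nat_lit 34304, nat_lit 41656, nat_lit 38006, nat_lit 32899, nat_lit 28957, nat_lit 25123, nat_lit 20491, nat_lit 16395, nat_lit 12290, nat_lit 8195, nat_lit 4101]⟩⟩⟩, ap0⟩]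

theorem dcBr23 : Rng dcB 23 26 := Rng.of (l := dcBc23) (by decide +kernel)

def dcBc26 : List Cert := [.stab (nat_lit 48) tw0 ⟨(nat_lit 0), ⟨[nat_lit 7, nat_lit 4, nat_lit 8, nat_lit 9, nat_lit 3, nat_lit 6, nat_lit 2, nat_lit 4], [], (nat_lit 48), ⟨[nat_lit 85, nat_lit 60], [nat_lit 0, nat_lit 81, nat_lit 53], ⟨[nat_lit 0xa5e6d1d8a939a4f62a2b4544474020], [nat_lit 173056, nat_lit 171520, nat_lit 165120, nat_lit 162048, nat_lit 157056, nat_lit 155488, nat_lit 150224, nat_lit 147232, nat_lit 140232, nat_lit 137122, nat_lit 134134, nat_lit 2, nat_lit 4160, nat_lit 10224, nat_lit 12976, nat_lit 16448, nat_lit 21632, nat_lit 26240, nat_lit 29952, nat_lit 33280, nat_lit 37888, nat_lit 41514, nat_lit 36939, nat_lit 32865, nat_lit 28799, nat_lit 24637, nat_lit 20484, nat_lit 16395, nat_lit 12295, nat_lit 8200, nat_lit 4100, nat_lit 2]⟩⟩⟩, ap0⟩,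
  .stab (nat_lit 48) tw0 ⟨(nat_lit 0), ⟨[nat_lit 6, nat_lit 3, nat_lit 6, nat_lit 2, nat_lit 6, nat_lit 1, nat_lit 1, nat_lit 0], [], (nat_lit 48), ⟨[nat_lit 0, nat_lit 32, nat_lit 67], [nat_lit 0, nat_lit 29, nat_lit 69], ⟨[nat_lit 0x48ed09504a3deac24e2f599a82b820], [nat_lit 164608, nat_lit 160384, nat_lit 157632, nat_lit 155296, nat_lit 147472, nat_lit 143528, nat_lit 140924, nat_lit 135560, nat_lit 131455, nat_lit 32, nat_lit 4128, nat_lit 10128, nat_lit 14032, nat_lit 17920, nat_lit 20544, nat_lit 24832, nat_lit 28928, nat_lit 34304, nat_lit 37888, nat_lit 41824, nat_lit 37364, nat_lit 33388, nat_lit 28781, nat_lit 24627, nat_lit 16451, nat_lit 12421]⟩⟩⟩, ap0⟩,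
  .stab (nat_lit 48) tw0 ⟨(nat_lit 0), ⟨[nat_lit 2, nat_lit 4, nat_lit 5, nat_lit 5, nat_lit 2, nat_lit 7, nat_lit 1, nat_lit 0], [], (nat_lit 48), ⟨[nat_lit 0, nat_lit 81, nat_lit 59], [nat_lit 0, nat_lit 29, nat_lit 56], ⟨[nat_lit 0x696b3bc4ce3d20c25a4f40d4b12401], [nat_lit 173056, nat_lit 170496, nat_lit 165376, nat_lit 160768, nat_lit 157184, nat_lit 153344, nat_lit 149280, nat_lit 144320, nat_lit 140468, nat_lit 135938, nat_lit 132141, nat_lit 2, nat_lit 4608, nat_lit 9664, nat_lit 13328, nat_lit 17984, nat_lit 20928, nat_lit 26496, nat_lit 29696, nat_lit 37888, nat_lit 41944, nat_lit 32888, nat_lit 28753, nat_lit 24628, nat_lit 20553, nat_lit 16423, nat_lit 12310, nat_lit 8194, nat_lit 4097, nat_lit 2]⟩⟩⟩, ap0⟩]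

theorem dcBr26 : Rng dcB 26 29 := Rng.of (l := dcBc26) (by decide +kernel)

def dcBc29 : List Cert := [.edge ⟨[nat_lit 18, nat_lit 62], [nat_lit 37, nat_lit 54], ⟨[nat_lit 0xb0a6e23d0cbd0ca6d6038c9253ac20], [nat_lit 174080, nat_lit 170496, nat_lit 167168, nat_lit 160384, nat_lit 158144, nat_lit 154912, nat_lit 147600, nat_lit 146776, nat_lit 139404, nat_lit 136286, nat_lit 132628, nat_lit 1896, nat_lit 5992, nat_lit 8232, nat_lit 13264, nat_lit 17440, nat_lit 20928, nat_lit 25728, nat_lit 29696, nat_lit 34304, nat_lit 41112, nat_lit 37272, nat_lit 33336, nat_lit 28990, nat_lit 24630, nat_lit 20546, nat_lit 16392, nat_lit 12295, nat_lit 8201]⟩⟩ ⟨(nat_lit 2), ⟨[], [], (nat_lit 49), ⟨[nat_lit 0, nat_lit 13, nat_lit 90], [nat_lit 11, nat_lit 93], ⟨[nat_lit 0x308a3a4eb2725aa85ed1621eb21c01], [nat_lit 170496, nat_lit 164864, nat_lit 161152, nat_lit 158208, nat_lit 152544, nat_lit 149104, nat_lit 145800, nat_lit 142088, nat_lit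 138138, nat_lit 133636, nat_lit 588, nat_lit 4684, nat_lit 9352, nat_lit 13568, nat_lit 18112, nat_lit 22336, nat_lit 26240, nat_lit 29696, nat_lit 34304, nat_lit 41799, nat_lit 37348, nat_lit 33443, nat_lit 29195, nat_lit 24583, nat_lit 20608, nat_lit 16393, nat_lit 12310, nat_lit 8203]⟩⟩⟩, ⟨[nat_lit 0, nat_lit 4, nat_lit 0], [], (nat_lit 48), ⟨[nat_lit 76, nat_lit 57], [nat_lit 0, nat_lit 32, nat_lit 53], ⟨[nat_lit 0x6a54e8c2f6a4ab3298435a1ec21c20], [nat_lit 173056, nat_lit 169472, nat_lit 160000, nat_lit 159616, nat_lit 152896, nat_lit 148768, nat_lit 144816, nat_lit 140912, nat_lit 136958, nat_lit 132869, nat_lit 64, nat_lit 4160, nat_lit 9432, nat_lit 13168, nat_lit 17824, nat_lit 21952, nat_lit 24960, nat_lit 29184, nat_lit 33792, nat_lit 37888, nat_lit 41664, nat_lit 38269, nat_lit 33317, nat_lit 28960, nat_lit 24585, nat_lit 20508, nat_lit 16426, nat_lit 12324, nat_lit 8195]⟩⟩⟩⟩,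
  .edge ⟨[nat_lit 0, nat_lit 37, nat_lit 92], [nat_lit 28, nat_lit 92], ⟨[nat_lit 0x6ad8994ca615075844e443d4ebd820], [nat_lit 170496, nat_lit 165376, nat_lit 160896, nat_lit 159488, nat_lit 152608, nat_lit 149216, nat_lit 147368, nat_lit 141792, nat_lit 137592, nat_lit 133607, nat_lit 2, nat_lit 4684, nat_lit 9928, nat_lit 12976, nat_lit 18144, nat_lit 20992, nat_lit 26496, nat_lit 34304, nat_lit 37888, nat_lit 41917, nat_lit 38328, nat_lit 33013, nat_lit 28788, nat_lit 24753, nat_lit 20619, nat_lit 16422, nat_lit 12294, nat_lit 8200, nat_lit 4097, nat_lit 2]⟩⟩ ⟨(nat_lit 2), ⟨[], [], (nat_lit 49), ⟨[nat_lit 81, nat_lit 94], [nat_lit 7, nat_lit 56], ⟨[nat_lit 0x4d1d5b4466220ec85c4592a6d7ac20], [nat_lit 170496, nat_lit 164608, nat_lit 161024, nat_lit 156288, nat_lit 152352, nat_lit 147872, nat_lit 143568, nat_lit 139620, nat_lit 135602, nat_lit 132842, nat_lit 512, nat_lit 4608, nat_lit 8752, nat_lit 13664, nat_lit 18080,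 nat_lit 21696, nat_lit 25344, nat_lit 29696, nat_lit 37888, nat_lit 41075, nat_lit 37288, nat_lit 33320, nat_lit 29055, nat_lit 24767, nat_lit 20483, nat_lit 16397, nat_lit 8211]⟩⟩⟩, ⟨[nat_lit 4, nat_lit 9, nat_lit 0, nat_lit 1], [], (nat_lit 20), ⟨[nat_lit 0, nat_lit 29, nat_lit 91], [nat_lit 85, nat_lit 93], ⟨[nat_lit 0x221b3548eca8af44c0ae59a2fb0c20], [nat_lit 173056, nat_lit 168960, nat_lit 164096, nat_lit 160128, nat_lit 155904, nat_lit 151776, nat_lit 148496, nat_lit 144784, nat_lit 139740, nat_lit 136918, nat_lit 131594, nat_lit 8768, nat_lit 12976, nat_lit 17856, nat_lit 22336, nat_lit 24960, nat_lit 29696, nat_lit 37167, nat_lit 33499, nat_lit 29044, nat_lit 24590, nat_lit 20511, nat_lit 16392, nat_lit 12289, nat_lit 8227]⟩⟩⟩⟩]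

theorem dcBr29 : Rng dcB 29 31 := Rng.of (l := dcBc29) (by decide +kernel)

def dcBc31 : List Cert := [.edge ⟨[nat_lit 3, nat_lit 55], [nat_lit 0, nat_lit 86, nat_lit 63], ⟨[nat_lit 0x8cd54149e463577a99072c06eb2401], [nat_lit 173056, nat_lit 168448, nat_lit 164352, nat_lit 157440, nat_lit 153024, nat_lit 148752, nat_lit 143976, nat_lit 141088, nat_lit 135622, nat_lit 132597, nat_lit 2, nat_lit 9664, nat_lit 12976, nat_lit 16992, nat_lit 25088, nat_lit 29184, nat_lit 33280, nat_lit 37888, nat_lit 41536, nat_lit 37304, nat_lit 33005, nat_lit 28760, nat_lit 24624, nat_lit 16388, nat_lit 12291, nat_lit 8194, nat_lit 4097, nat_lit 2]⟩⟩ ⟨(nat_lit 2), ⟨[], [], (nat_lit 49), ⟨[nat_lit 0, nat_lit 14, nat_lit 52], [nat_lit 0, nat_lit 22, nat_lit 58], ⟨[nat_lit 0xbc57530a8fb11a3540a7925cc9a001], [nat_lit 168960, nat_lit 164608, nat_lit 160512, nat_lit 156800, nat_lit 152512, nat_lit 148528, nat_lit 143560, nat_lit 143180, nat_lit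 135682, nat_lit 131407, nat_lit 2, nat_lit 4100, nat_lit 8448, nat_lit 12864, nat_lit 16992, nat_lit 22464, nat_lit 25472, nat_lit 30208, nat_lit 33280, nat_lit 37888, nat_lit 41286, nat_lit 37220, nat_lit 33437, nat_lit 28969, nat_lit 24620, nat_lit 20485, nat_lit 16398, nat_lit 12289, nat_lit 4097, nat_lit 2]⟩⟩⟩, ⟨[nat_lit 7, nat_lit 3, nat_lit 9, nat_lit 6], [], (nat_lit 22), ⟨[nat_lit 0, nat_lit 21, nat_lit 53], [nat_lit 0, nat_lit 38, nat_lit 61], ⟨[nat_lit 0x5a18fbc6d0188a66a9c994eb421c01], [nat_lit 173056, nat_lit 170496, nat_lit 165120, nat_lit 161024, nat_lit 152608, nat_lit 149120, nat_lit 144696, nat_lit 141280, nat_lit 136564, nat_lit 131158, nat_lit 2, nat_lit 4608, nat_lit 9880, nat_lit 14192, nat_lit 16416, nat_lit 20992, nat_lit 25088, nat_lit 29696, nat_lit 33792, nat_lit 37888, nat_lit 41717, nat_lit 37323, nat_lit 33509, nat_lit 28769, nat_lit 20504, nat_lit 16424, nat_lit 12320, nat_lit 8193, nat_lit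 4097, nat_lit 2]⟩⟩⟩⟩,
  .stab (nat_lit 61) tw0 ⟨(nat_lit 0), ⟨[nat_lit 4, nat_lit 0, nat_lit 3, nat_lit 6, nat_lit 5, nat_lit 5, nat_lit 3], [], (nat_lit 48), ⟨[nat_lit 26, nat_lit 61], [nat_lit 0, nat_lit 37, nat_lit 57], ⟨[nat_lit 0x21debb44456aab493a691de0643020], [nat_lit 173056, nat_lit 171008, nat_lit 164608, nat_lit 160640, nat_lit 156224, nat_lit 153152, nat_lit 148496, nat_lit 144328, nat_lit 140580, nat_lit 135212, nat_lit 132037, nat_lit 512, nat_lit 4608, nat_lit 8504, nat_lit 12496, nat_lit 17280, nat_lit 22272, nat_lit 24704, nat_lit 29184, nat_lit 33280, nat_lit 41501, nat_lit 38001, nat_lit 32814, nat_lit 28736, nat_lit 24704, nat_lit 20740, nat_lit 17421, nat_lit 12322, nat_lit 8194]⟩⟩⟩, ap0⟩,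
  .prod [] [nat_lit 27, nat_lit 27, nat_lit 28, nat_lit 25],
  .prod [] [nat_lit 25, nat_lit 25, nat_lit 32, nat_lit 32],
  .prod [] [nat_lit 33, nat_lit 26, nat_lit 34, nat_lit 26]]

theorem dcBr31 : Rng dcB 31 36 := Rng.of (l := dcBc31) (by decide +kernel)

def dcBc36 : List Cert := [.prod [] [nat_lit 26, nat_lit 28, nat_lit 26, nat_lit 32],
  .prod [] [nat_lit 34, nat_lit 34, nat_lit 25, nat_lit 33],
  .edge ⟨[nat_lit 0, nat_lit 88, nat_lit 90], [nat_lit 0, nat_lit 3, nat_lit 94], ⟨[nat_lit 0x625e524512141b65d2e798eae51801], [nat_lit 171008, nat_lit 161024, nat_lit 155712, nat_lit 152608, nat_lit 148848, nat_lit 144136, nat_lit 140036, nat_lit 137088, nat_lit 132534, nat_lit 2, nat_lit 4608, nat_lit 9136, nat_lit 12336, nat_lit 17152, nat_lit 22080, nat_lit 25856, nat_lit 29184, nat_lit 33792, nat_lit 37888, nat_lit 41592, nat_lit 37120, nat_lit 33309, nat_lit 28705, nat_lit 25656, nat_lit 20609, nat_lit 16649, nat_lit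 12548, nat_lit 8208, nat_lit 4097, nat_lit 2]⟩⟩ ⟨(nat_lit 2), ⟨[nat_lit 14, nat_lit 14], [nat_lit 16, nat_lit 17, nat_lit 18], (nat_lit 63), ⟨[nat_lit 0, nat_lit 22], [nat_lit 76, nat_lit 67], ⟨[nat_lit 0x250ccba1ea58a67ac64d1a4b075801], [nat_lit 173056, nat_lit 169472, nat_lit 166656, nat_lit 160896, nat_lit 156096, nat_lit 153376, nat_lit 147888, nat_lit 143896, nat_lit 139452, nat_lit 135482, nat_lit 131523, nat_lit 2, nat_lit 4352, nat_lit 9224, nat_lit 12976, nat_lit 17504, nat_lit 21248, nat_lit 24832, nat_lit 28928, nat_lit 41758, nat_lit 37048, nat_lit 34041, nat_lit 24625, nat_lit 20551, nat_lit 16422, nat_lit 12292, nat_lit 8203, nat_lit 4097, nat_lit 2]⟩⟩⟩, ⟨[nat_lit 37, nat_lit 34, nat_lit 32, nat_lit 36, nat_lit 25], [], (nat_lit 62), ⟨[nat_lit 0, nat_lit 11, nat_lit 67], [nat_lit 13, nat_lit 57], ⟨[nat_lit 0x3308e3b4af5ca081d6e254e29a5820], [nat_lit 173056, nat_lit 169472, nat_lit 165888, nat_lit 161920,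 nat_lit 159552, nat_lit 155552, nat_lit 148640, nat_lit 145936, nat_lit 142296, nat_lit 135506, nat_lit 134005, nat_lit 2, nat_lit 4128, nat_lit 9040, nat_lit 12976, nat_lit 18048, nat_lit 22400, nat_lit 25728, nat_lit 29952, nat_lit 33280, nat_lit 41602, nat_lit 38317, nat_lit 33019, nat_lit 28719, nat_lit 24631, nat_lit 20572, nat_lit 16393, nat_lit 12295, nat_lit 4104, nat_lit 2]⟩⟩⟩⟩]

theorem dcBr36 : Rng dcB 36 39 := Rng.of (l := dcBc36) (by decide +kernel)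

def dcBc39 : List Cert := [.edge ⟨[nat_lit 0, nat_lit 21, nat_lit 55], [nat_lit 18, nat_lit 67], ⟨[nat_lit 0x440cc99de95c9c415ab48954db8c01], [nat_lit 175104, nat_lit 164864, nat_lit 162432, nat_lit 156224, nat_lit 152768, nat_lit 151408, nat_lit 145488, nat_lit 141928, nat_lit 137750, nat_lit 133976, nat_lit 1180, nat_lit 5276, nat_lit 9360, nat_lit 13712, nat_lit 16576, nat_lit 20672, nat_lit 25600, nat_lit 29184, nat_lit 34304, nat_lit 41439, nat_lit 37287, nat_lit 32959, nat_lit 28684, nat_lit 25610, nat_lit 20509, nat_lit 16419, nat_lit 12304, nat_lit 8195]⟩⟩ ⟨(nat_lit 2), ⟨[nat_lit 32, nat_lit 27, nat_lit 35, nat_lit 27], [], (nat_lit 62), ⟨[nat_lit 85, nat_lit 46], [nat_lit 37, nat_lit 93], ⟨[nat_lit 0x13cb01b89244e353d1464b1b65dc01], [nat_lit 175104, nat_lit 171520, nat_lit 167424, nat_lit 163200, nat_lit 156608, nat_lit 155232, nat_lit 150064, nat_lit 145280, nat_lit 142656, nat_lit 136558, nat_lit 131813, nat_lit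 2, nat_lit 6068, nat_lit 9328, nat_lit 13264, nat_lit 17056, nat_lit 21184, nat_lit 25472, nat_lit 29952, nat_lit 37888, nat_lit 41342, nat_lit 37044, nat_lit 33850, nat_lit 28751, nat_lit 24580, nat_lit 21008, nat_lit 16911, nat_lit 12290, nat_lit 8195, nat_lit 4097, nat_lit 2]⟩⟩⟩, ⟨[nat_lit 16, nat_lit 13, nat_lit 18], [nat_lit 16, nat_lit 17, nat_lit 18], (nat_lit 63), ⟨[nat_lit 0, nat_lit 4, nat_lit 68], [nat_lit 0, nat_lit 79, nat_lit 65], ⟨[nat_lit 0x6adc5bb20392a24a3c533d93541820], [nat_lit 169472, nat_lit 167168, nat_lit 161024, nat_lit 156096, nat_lit 154368, nat_lit 150352, nat_lit 146240, nat_lit 142672, nat_lit 138430, nat_lit 132411, nat_lit 318, nat_lit 5120, nat_lit 8504, nat_lit 12544, nat_lit 18176, nat_lit 22080, nat_lit 24832, nat_lit 29696, nat_lit 33280, nat_lit 37888, nat_lit 41465, nat_lit 37190, nat_lit 33393, nat_lit 28728, nat_lit 25096, nat_lit 20638, nat_lit 16523, nat_lit 12352, nat_lit 8194,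 nat_lit 4100]⟩⟩⟩⟩,
  .defn,
  .stab (nat_lit 80) tw0 ⟨(nat_lit 0), ⟨[nat_lit 14, nat_lit 19, nat_lit 21, nat_lit 20, nat_lit 13, nat_lit 14, nat_lit 18], [], (nat_lit 80), ⟨[nat_lit 0, nat_lit 78, nat_lit 94], [nat_lit 0, nat_lit 82, nat_lit 93], ⟨[nat_lit 0x84eb68ca97590e82a54670c4d63c20], [nat_lit 168960, nat_lit 164608, nat_lit 160640, nat_lit 157184, nat_lit 152864, nat_lit 147920, nat_lit 144000, nat_lit 139764, nat_lit 136244, nat_lit 132068, nat_lit 9808, nat_lit 14176, nat_lit 16576, nat_lit 22272, nat_lit 25856, nat_lit 30208, nat_lit 33280, nat_lit 41832, nat_lit 37960, nat_lit 33312, nat_lit 28692, nat_lit 25613, nat_lit 20572, nat_lit 16397, nat_lit 12294, nat_lit 8202]⟩⟩⟩, ap0⟩]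

theorem dcBr39 : Rng dcB 39 42 := Rng.of (l := dcBc39) (by decide +kernel)

def dcBc42 : List Cert := [.stab (nat_lit 80) tw0 ⟨(nat_lit 0), ⟨[nat_lit 13, nat_lit 16, nat_lit 21, nat_lit 17, nat_lit 16, nat_lit 13, nat_lit 12, nat_lit 13], [], (nat_lit 80), ⟨[nat_lit 0, nat_lit 17, nat_lit 56], [nat_lit 81, nat_lit 92], ⟨[nat_lit 0x23a968cda71de0814aab4bcaa61801], [nat_lit 171008, nat_lit 164096, nat_lit 160128, nat_lit 158336, nat_lit 152096, nat_lit 149392, nat_lit 147024, nat_lit 141516, nat_lit 138136, nat_lit 134581, nat_lit 588, nat_lit 4684, nat_lit 9800, nat_lit 13760, nat_lit 17152, nat_lit 21568, nat_lit 25984, nat_lit 29696, nat_lit 33792, nat_lit 37888, nat_lit 41839, nat_lit 36966, nat_lit 32793, nat_lit 28679, nat_lit 24592, nat_lit 20506, nat_lit 16388, nat_lit 12327, nat_lit 8195]⟩⟩⟩, ap0⟩,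
  .stab (nat_lit 80) tw0 ⟨(nat_lit 0), ⟨[nat_lit 13, nat_lit 19, nat_lit 13, nat_lit 15, nat_lit 18, nat_lit 19, nat_lit 15, nat_lit 21], [], (nat_lit 80), ⟨[nat_lit 0, nat_lit 88, nat_lit 61], [nat_lit 88, nat_lit 54], ⟨[nat_lit 0xa9d368a8922b9ab1de0ca09f332001], [nat_lit 175104, nat_lit 170496, nat_lit 166400, nat_lit 161664, nat_lit 156480, nat_lit 152608, nat_lit 151280, nat_lit 143632, nat_lit 139792, nat_lit 139006, nat_lit 134523, nat_lit 1808, nat_lit 5904, nat_lit 9032, nat_lit 12704, nat_lit 17920, nat_lit 20800, nat_lit 26240, nat_lit 29440, nat_lit 33792, nat_lit 41407, nat_lit 37123, nat_lit 32821, nat_lit 29796, nat_lit 24712, nat_lit 20751, nat_lit 16388, nat_lit 12321, nat_lit 8211]⟩⟩⟩, ap0⟩,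
  .stab (nat_lit 80) tw0 ⟨(nat_lit 0), ⟨[nat_lit 13, nat_lit 16, nat_lit 20, nat_lit 21, nat_lit 12, nat_lit 16, nat_lit 19, nat_lit 14], [], (nat_lit 80), ⟨[nat_lit 0, nat_lit 21, nat_lit 67], [nat_lit 0, nat_lit 76, nat_lit 53], ⟨[nat_lit 0xa4a168deb31a5422b5c63bd8442c20], [nat_lit 175104, nat_lit 169472, nat_lit 164608, nat_lit 160512, nat_lit 159168, nat_lit 155008, nat_lit 151328, nat_lit 144248, nat_lit 141928, nat_lit 136258, nat_lit 135158, nat_lit 2, nat_lit 4352, nat_lit 10152, nat_lit 13264, nat_lit 16640, nat_lit 20800, nat_lit 30464, nat_lit 33792, nat_lit 37888, nat_lit 41719, nat_lit 38233, nat_lit 32783, nat_lit 28697, nat_lit 25629, nat_lit 20484, nat_lit 16399, nat_lit 12295, nat_lit 8193, nat_lit 4104, nat_lit 2]⟩⟩⟩, ap0⟩]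

theorem dcBr42 : Rng dcB 42 45 := Rng.of (l := dcBc42) (by decide +kernel)

def dcBc45 : List Cert := [.prod [] [nat_lit 43, nat_lit 44, nat_lit 42, nat_lit 42],
  .prod [] [nat_lit 44, nat_lit 43, nat_lit 44, nat_lit 43],
  .prod [] [nat_lit 43, nat_lit 44, nat_lit 43, nat_lit 43],
  .prod [] [nat_lit 41, nat_lit 45, nat_lit 47, nat_lit 42],
  .prod [] [nat_lit 41, nat_lit 42, nat_lit 47, nat_lit 42],
  .edge ⟨[nat_lit 0, nat_lit 60], [nat_lit 0, nat_lit 86, nat_lit 66], ⟨[nat_lit 0x2be43bae71a354c31d3620a0e45420], [nat_lit 173056, nat_lit 170496, nat_lit 165888, nat_lit 162176, nat_lit 159424, nat_lit 152032, nat_lit 150320, nat_lit 147072, nat_lit 139596, nat_lit 138704, nat_lit 133079, nat_lit 986, nat_lit 5432, nat_lit 8840, nat_lit 13360, nat_lit 17696, nat_lit 22464, nat_lit 25088, nat_lit 29952, nat_lit 33280, nat_lit 37888, nat_lit 41406, nat_lit 37071, nat_lit 32905, nat_lit 29035, nat_lit 24704, nat_lit 20506,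 nat_lit 16420, nat_lit 12308, nat_lit 8209, nat_lit 4101]⟩⟩ ⟨(nat_lit 2), ⟨[nat_lit 27, nat_lit 33, nat_lit 37, nat_lit 32, nat_lit 27], [], (nat_lit 62), ⟨[nat_lit 42, nat_lit 94], [nat_lit 0, nat_lit 84, nat_lit 90], ⟨[nat_lit 0x4258e250f518a117a9abb5ca69c801], [nat_lit 173056, nat_lit 169472, nat_lit 164352, nat_lit 160768, nat_lit 157440, nat_lit 154848, nat_lit 148576, nat_lit 145384, nat_lit 141056, nat_lit 137112, nat_lit 132266, nat_lit 2, nat_lit 4128, nat_lit 8776, nat_lit 13808, nat_lit 17088, nat_lit 26240, nat_lit 33280, nat_lit 41807, nat_lit 38266, nat_lit 33893, nat_lit 28704, nat_lit 24577, nat_lit 20492, nat_lit 16901, nat_lit 12321, nat_lit 8201, nat_lit 4097, nat_lit 2]⟩⟩⟩, ⟨[nat_lit 19, nat_lit 17, nat_lit 14, nat_lit 21, nat_lit 18], [], (nat_lit 80), ⟨[nat_lit 0, nat_lit 3, nat_lit 91], [nat_lit 3, nat_lit 89], ⟨[nat_lit 0x1950fa4ce4baa09736d113166ac820], [nat_lit 173056, nat_lit 169984, nat_lit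 165376, nat_lit 161536, nat_lit 158656, nat_lit 151968, nat_lit 149440, nat_lit 147176, nat_lit 142456, nat_lit 139134, nat_lit 135146, nat_lit 2, nat_lit 4684, nat_lit 8776, nat_lit 12672, nat_lit 17408, nat_lit 22208, nat_lit 25088, nat_lit 29696, nat_lit 34304, nat_lit 37888, nat_lit 41911, nat_lit 38247, nat_lit 33970, nat_lit 29195, nat_lit 24718, nat_lit 20493, nat_lit 16448, nat_lit 12321, nat_lit 8193, nat_lit 4097, nat_lit 2]⟩⟩⟩⟩]

theorem dcBr45 : Rng dcB 45 51 := Rng.of (l := dcBc45) (by decide +kernel)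

def dcBc51 : List Cert := [.edge ⟨[nat_lit 0, nat_lit 14, nat_lit 94], [nat_lit 0, nat_lit 18, nat_lit 49], ⟨[nat_lit 0xa9e74544c88358572ee34bc5691001], [nat_lit 173056, nat_lit 170496, nat_lit 164352, nat_lit 156160, nat_lit 153376, nat_lit 148048, nat_lit 143896, nat_lit 139268, nat_lit 131369, nat_lit 2, nat_lit 4608, nat_lit 8208, nat_lit 12464, nat_lit 20992, nat_lit 26240, nat_lit 29184, nat_lit 37888, nat_lit 41816, nat_lit 34016, nat_lit 28972, nat_lit 25624, nat_lit 16527, nat_lit 12307, nat_lit 8320, nat_lit 4097, nat_lit 2]⟩⟩ ⟨(nat_lit 2), ⟨[nat_lit 42], [nat_lit 43], (nat_lit 101), ⟨[nat_lit 74, nat_lit 61], [nat_lit 13, nat_lit 65], ⟨[nat_lit 0x9a9362096d3a06e316b095d8fa4401], [nat_lit 173056, nat_lit 168960, nat_lit 165632, nat_lit 160768, nat_lit 156864, nat_lit 153248, nat_lit 147856, nat_lit 143984, nat_lit 142164, nat_lit 136522, nat_lit 132435, nat_lit 2, nat_lit 4100, nat_lit 8704, nat_lit 14144, nat_lit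 18368, nat_lit 20992, nat_lit 25728, nat_lit 28928, nat_lit 34304, nat_lit 37888, nat_lit 41655, nat_lit 37082, nat_lit 32964, nat_lit 28734, nat_lit 24875, nat_lit 20507, nat_lit 16423, nat_lit 12304, nat_lit 4097, nat_lit 2]⟩⟩⟩, ⟨[nat_lit 33, nat_lit 34, nat_lit 27, nat_lit 36, nat_lit 25], [], (nat_lit 100), ⟨[nat_lit 42, nat_lit 92], [nat_lit 18, nat_lit 57], ⟨[nat_lit 0xa4ec932092bb4656416e389f554420], [nat_lit 173056, nat_lit 166912, nat_lit 161408, nat_lit 156928, nat_lit 152608, nat_lit 147488, nat_lit 139780, nat_lit 136612, nat_lit 131847, nat_lit 256, nat_lit 4352, nat_lit 9920, nat_lit 12400, nat_lit 16864, nat_lit 21696, nat_lit 26240, nat_lit 29184, nat_lit 33280, nat_lit 37888, nat_lit 41796, nat_lit 38260, nat_lit 32916, nat_lit 28972, nat_lit 25604, nat_lit 20638, nat_lit 16523, nat_lit 12419, nat_lit 8226]⟩⟩⟩⟩,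
  .edge ⟨[nat_lit 0, nat_lit 22, nat_lit 49], [nat_lit 85, nat_lit 93], ⟨[nat_lit 0xb12075d513489c6a3d9269543bc401], [nat_lit 174080, nat_lit 169984, nat_lit 165120, nat_lit 162176, nat_lit 157824, nat_lit 154208, nat_lit 147728, nat_lit 144568, nat_lit 141160, nat_lit 138698, nat_lit 134258, nat_lit 1760, nat_lit 5856, nat_lit 8336, nat_lit 12800, nat_lit 17088, nat_lit 20672, nat_lit 26496, nat_lit 29184, nat_lit 37888, nat_lit 41123, nat_lit 37155, nat_lit 33280, nat_lit 29779, nat_lit 24716, nat_lit 20492, nat_lit 16455, nat_lit 12309, nat_lit 8201]⟩⟩ ⟨(nat_lit 2), ⟨[], [], (nat_lit 81), ⟨[nat_lit 86, nat_lit 49], [nat_lit 13, nat_lit 53], ⟨[nat_lit 0x6ba5118a97595444a0e683d93ad801], [nat_lit 173056, nat_lit 169472, nat_lit 164352, nat_lit 161536, nat_lit 157376, nat_lit 151872, nat_lit 148768, nat_lit 145376, nat_lit 142424, nat_lit 135842, nat_lit 132548, nat_lit 2, nat_lit 4100, nat_lit 9304, nat_lit 12976, nat_lit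 16608, nat_lit 21696, nat_lit 28928, nat_lit 37888, nat_lit 41684, nat_lit 37324, nat_lit 33504, nat_lit 28710, nat_lit 25139, nat_lit 20492, nat_lit 16393, nat_lit 12293, nat_lit 8202, nat_lit 4097, nat_lit 2]⟩⟩⟩, ⟨[nat_lit 12, nat_lit 20], [], (nat_lit 80), ⟨[nat_lit 0, nat_lit 82, nat_lit 68], [nat_lit 0, nat_lit 13, nat_lit 60], ⟨[nat_lit 0xa12b21bee98b4ccb2dc2441453cc20], [nat_lit 175104, nat_lit 171008, nat_lit 166912, nat_lit 160640, nat_lit 159168, nat_lit 154144, nat_lit 149392, nat_lit 147280, nat_lit 141000, nat_lit 136168, nat_lit 133089, nat_lit 1896, nat_lit 5992, nat_lit 9504, nat_lit 12592, nat_lit 18112, nat_lit 20544, nat_lit 24960, nat_lit 33280, nat_lit 37888, nat_lit 41816, nat_lit 38093, nat_lit 33513, nat_lit 28747, nat_lit 24749, nat_lit 20574, nat_lit 16392, nat_lit 12311, nat_lit 8195]⟩⟩⟩⟩]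

theorem dcBr51 : Rng dcB 51 53 := Rng.of (l := dcBc51) (by decide +kernel)

def dcBc53 : List Cert := [.edge ⟨[nat_lit 12, nat_lit 59], [nat_lit 13, nat_lit 93], ⟨[nat_lit 0x92e16309f325ca938e2e532ad45020], [nat_lit 165376, nat_lit 161536, nat_lit 157632, nat_lit 151904, nat_lit 148080, nat_lit 144336, nat_lit 141884, nat_lit 136076, nat_lit 132552, nat_lit 4, nat_lit 4100, nat_lit 8224, nat_lit 12512, nat_lit 17248, nat_lit 20736, nat_lit 25856, nat_lit 29440, nat_lit 34304, nat_lit 41886, nat_lit 37292, nat_lit 33404, nat_lit 28743, nat_lit 24748, nat_lit 20505, nat_lit 16420, nat_lit 12305]⟩⟩ ⟨(nat_lit 2), ⟨[nat_lit 43], [nat_lit 43], (nat_lit 101), ⟨[nat_lit 0, nat_lit 79, nat_lit 48], [nat_lit 86, nat_lit 54], ⟨[nat_lit 0x55e8b2086545aa983a4f8b26d31c20], [nat_lit 169472, nat_lit 164096, nat_lit 161536, nat_lit 156864, nat_lit 151712, nat_lit 147888, nat_lit 143920, nat_lit 142040, nat_lit 135844, nat_lit 132414,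 nat_lit 4, nat_lit 4100, nat_lit 8344, nat_lit 13456, nat_lit 16736, nat_lit 20672, nat_lit 25472, nat_lit 29696, nat_lit 33280, nat_lit 41702, nat_lit 37172, nat_lit 33440, nat_lit 28795, nat_lit 24759, nat_lit 20625, nat_lit 16389, nat_lit 12292, nat_lit 8203]⟩⟩⟩, ⟨[nat_lit 34, nat_lit 25, nat_lit 36, nat_lit 28, nat_lit 28], [], (nat_lit 62), ⟨[nat_lit 3, nat_lit 50], [nat_lit 74, nat_lit 59], ⟨[nat_lit 0x38aaa435302166eb0d6664af47c420], [nat_lit 173056, nat_lit 168448, nat_lit 167168, nat_lit 161920, nat_lit 158976, nat_lit 154176, nat_lit 148928, nat_lit 146504, nat_lit 143124, nat_lit 135280, nat_lit 135157, nat_lit 2, nat_lit 4608, nat_lit 8680, nat_lit 13664, nat_lit 18208, nat_lit 20992, nat_lit 25088, nat_lit 29952, nat_lit 33792, nat_lit 37888, nat_lit 41479, nat_lit 37193, nat_lit 33358, nat_lit 28760, nat_lit 24583, nat_lit 20502, nat_lit 16417, nat_lit 12295, nat_lit 8195, nat_lit 4100, nat_lit 2]⟩⟩⟩⟩,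
  .edge ⟨[nat_lit 0, nat_lit 82, nat_lit 46], [nat_lit 0, nat_lit 76, nat_lit 68], ⟨[nat_lit 0x6a8c28dce492e8863eb370ca9b4001], [nat_lit 175104, nat_lit 168960, nat_lit 164096, nat_lit 159872, nat_lit 158272, nat_lit 154208, nat_lit 149680, nat_lit 143976, nat_lit 141932, nat_lit 136398, nat_lit 135089, nat_lit 1142, nat_lit 5172, nat_lit 9328, nat_lit 12976, nat_lit 16800, nat_lit 21568, nat_lit 25856, nat_lit 29952, nat_lit 33280, nat_lit 41567, nat_lit 38305, nat_lit 33328, nat_lit 28743, nat_lit 24752, nat_lit 20548, nat_lit 16389, nat_lit 12292, nat_lit 8195, nat_lit 4101]⟩⟩ ⟨(nat_lit 2), ⟨[nat_lit 43, nat_lit 42], [nat_lit 43], (nat_lit 101), ⟨[nat_lit 3, nat_lit 69], [nat_lit 0, nat_lit 28, nat_lit 67], ⟨[nat_lit 0x6d9503948362eb275e299d1e830820], [nat_lit 173056, nat_lit 164864, nat_lit 163200, nat_lit 156672, nat_lit 147600, nat_lit 144840, nat_lit 141244, nat_lit 135488, nat_lit 128, nat_lit 4224, nat_lit 8320,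 nat_lit 13312, nat_lit 16640, nat_lit 21248, nat_lit 25600, nat_lit 29696, nat_lit 41888, nat_lit 37936, nat_lit 32838, nat_lit 28776, nat_lit 24736, nat_lit 20616, nat_lit 16896, nat_lit 12352]⟩⟩⟩, ⟨[nat_lit 25, nat_lit 25, nat_lit 35, nat_lit 26], [], (nat_lit 62), ⟨[nat_lit 21, nat_lit 64], [nat_lit 0, nat_lit 11, nat_lit 69], ⟨[nat_lit 0xb8d0c4cc8b536c2a46a593cee81801], [nat_lit 173056, nat_lit 169984, nat_lit 164864, nat_lit 160384, nat_lit 157824, nat_lit 152032, nat_lit 147712, nat_lit 145544, nat_lit 142908, nat_lit 137674, nat_lit 133515, nat_lit 588, nat_lit 4684, nat_lit 9800, nat_lit 12720, nat_lit 17184, nat_lit 22016, nat_lit 25600, nat_lit 30464, nat_lit 33280, nat_lit 41215, nat_lit 37175, nat_lit 32903, nat_lit 28784, nat_lit 24617, nat_lit 20572, nat_lit 16430, nat_lit 12308, nat_lit 8195]⟩⟩⟩⟩]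

theorem dcBr53 : Rng dcB 53 55 := Rng.of (l := dcBc53) (by decide +kernel)

def dcBc55 : List Cert := [.edge ⟨[nat_lit 0, nat_lit 32, nat_lit 68], [nat_lit 0, nat_lit 60], ⟨[nat_lit 0x225c715a06b9471ad1889c9eb53420], [nat_lit 173056, nat_lit 171520, nat_lit 164352, nat_lit 163328, nat_lit 157312, nat_lit 154272, nat_lit 150640, nat_lit 146040, nat_lit 139300, nat_lit 135340, nat_lit 134173, nat_lit 2, nat_lit 5904, nat_lit 9040, nat_lit 12976, nat_lit 16992, nat_lit 21056, nat_lit 24960, nat_lit 29952, nat_lit 33792, nat_lit 37888, nat_lit 41787, nat_lit 37371, nat_lit 33472, nat_lit 29240, nat_lit 24760, nat_lit 20486, nat_lit 16458, nat_lit 12290, nat_lit 4105, nat_lit 2]⟩⟩ ⟨(nat_lit 2), ⟨[nat_lit 48, nat_lit 43, nat_lit 45], [], (nat_lit 108), ⟨[nat_lit 13, nat_lit 55], [nat_lit 0, nat_lit 11, nat_lit 57], ⟨[nat_lit 0x650e29acc495d556bd1170cb64c020], [nat_lit 170496, nat_lit 166656, nat_lit 161792, nat_lit 158400,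 nat_lit 151584, nat_lit 150976, nat_lit 146128, nat_lit 139788, nat_lit 137760, nat_lit 131522, nat_lit 986, nat_lit 4160, nat_lit 9664, nat_lit 13264, nat_lit 16672, nat_lit 21696, nat_lit 25856, nat_lit 29952, nat_lit 34304, nat_lit 37888, nat_lit 41330, nat_lit 37194, nat_lit 32842, nat_lit 28746, nat_lit 24752, nat_lit 20564, nat_lit 16451, nat_lit 12292, nat_lit 8202, nat_lit 4100]⟩⟩⟩, ⟨[nat_lit 17, nat_lit 12, nat_lit 14, nat_lit 19, nat_lit 15], [], (nat_lit 80), ⟨[nat_lit 78, nat_lit 69], [nat_lit 0, nat_lit 21, nat_lit 59], ⟨[nat_lit 0x1c48c14cada39eb322c7bc24aaa420], [nat_lit 171520, nat_lit 165120, nat_lit 160128, nat_lit 159040, nat_lit 152960, nat_lit 148512, nat_lit 147312, nat_lit 141684, nat_lit 139076, nat_lit 133878, nat_lit 2, nat_lit 4684, nat_lit 9664, nat_lit 12640, nat_lit 16864, nat_lit 21568, nat_lit 25856, nat_lit 29184, nat_lit 33280, nat_lit 41965, nat_lit 36909, nat_lit 33949, nat_lit 28717,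 nat_lit 24590, nat_lit 20511, nat_lit 16396, nat_lit 12292, nat_lit 8195, nat_lit 4097, nat_lit 2]⟩⟩⟩⟩,
  .edge ⟨[nat_lit 21, nat_lit 49], [nat_lit 0, nat_lit 38, nat_lit 89], ⟨[nat_lit 0x795b485e246287241aa99896eb1c01], [nat_lit 175104, nat_lit 168448, nat_lit 164352, nat_lit 158976, nat_lit 155136, nat_lit 150576, nat_lit 143992, nat_lit 142376, nat_lit 136332, nat_lit 133978, nat_lit 1142, nat_lit 5276, nat_lit 9328, nat_lit 12976, nat_lit 16768, nat_lit 21440, nat_lit 25088, nat_lit 29184, nat_lit 33280, nat_lit 41963, nat_lit 37343, nat_lit 33013, nat_lit 28713, nat_lit 24591, nat_lit 20511, nat_lit 16395, nat_lit 12292, nat_lit 8194, nat_lit 4100]⟩⟩ ⟨(nat_lit 2), ⟨[nat_lit 41, nat_lit 45, nat_lit 41], [], (nat_lit 104), ⟨[nat_lit 12, nat_lit 58], [nat_lit 86, nat_lit 64], ⟨[nat_lit 0x68cf09a2377ba8930a4c558855d401], [nat_lit 173056, nat_lit 168960, nat_lit 166144, nat_lit 159872, nat_lit 156032, nat_lit 152416, nat_lit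 147472, nat_lit 144888, nat_lit 140232, nat_lit 136356, nat_lit 131659, nat_lit 2, nat_lit 4352, nat_lit 9104, nat_lit 13264, nat_lit 16512, nat_lit 22144, nat_lit 24832, nat_lit 28928, nat_lit 33792, nat_lit 37888, nat_lit 41963, nat_lit 37120, nat_lit 33406, nat_lit 28688, nat_lit 24615, nat_lit 20551, nat_lit 16512, nat_lit 12290, nat_lit 8258, nat_lit 4097, nat_lit 2]⟩⟩⟩, ⟨[nat_lit 42, nat_lit 41, nat_lit 46], [], (nat_lit 104), ⟨[nat_lit 0, nat_lit 32, nat_lit 64], [nat_lit 0, nat_lit 82, nat_lit 69], ⟨[nat_lit 0x3c145bc5754b1d2309f4192cd9a020], [nat_lit 173056, nat_lit 171008, nat_lit 165376, nat_lit 161536, nat_lit 156736, nat_lit 153120, nat_lit 148368, nat_lit 144160, nat_lit 140364, nat_lit 135848, nat_lit 132993, nat_lit 512, nat_lit 4608, nat_lit 9032, nat_lit 12720, nat_lit 16544, nat_lit 22080, nat_lit 26240, nat_lit 28928, nat_lit 33280, nat_lit 37888, nat_lit 41584, nat_lit 37978, nat_lit 32992, nat_lit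 29033, nat_lit 24835, nat_lit 20547, nat_lit 17413, nat_lit 12422, nat_lit 8203]⟩⟩⟩⟩]

theorem dcBr55 : Rng dcB 55 57 := Rng.of (l := dcBc55) (by decide +kernel)

def dcBc57 : List Cert := [.edge ⟨[nat_lit 0, nat_lit 82, nat_lit 90], [nat_lit 78, nat_lit 91], ⟨[nat_lit 0x6bcb47097325e1145526530723d820], [nat_lit 169472, nat_lit 164864, nat_lit 160256, nat_lit 156864, nat_lit 151840, nat_lit 148608, nat_lit 144456, nat_lit 143068, nat_lit 135844, nat_lit 133061, nat_lit 4, nat_lit 4100, nat_lit 8888, nat_lit 13456, nat_lit 16608, nat_lit 25600, nat_lit 29952, nat_lit 41606, nat_lit 37194, nat_lit 33382, nat_lit 29778, nat_lit 24751, nat_lit 20567, nat_lit 16455, nat_lit 12291, nat_lit 8209]⟩⟩ ⟨(nat_lit 2), ⟨[nat_lit 49, nat_lit 49, nat_lit 43, nat_lit 41], [], (nat_lit 110), ⟨[nat_lit 0, nat_lit 85, nat_lit 47], [nat_lit 0, nat_lit 84, nat_lit 56], ⟨[nat_lit 0xad1c9536722c2e21c6c6231075bc20], [nat_lit 173056, nat_lit 169472,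 nat_lit 166656, nat_lit 163072, nat_lit 158016, nat_lit 153632, nat_lit 149040, nat_lit 147064, nat_lit 142568, nat_lit 135778, nat_lit 134058, nat_lit 2, nat_lit 5992, nat_lit 8680, nat_lit 13264, nat_lit 17952, nat_lit 20672, nat_lit 25344, nat_lit 29440, nat_lit 33792, nat_lit 41521, nat_lit 38347, nat_lit 32927, nat_lit 28703, nat_lit 25125, nat_lit 20995, nat_lit 16419, nat_lit 12293, nat_lit 8195, nat_lit 4100, nat_lit 2]⟩⟩⟩, ⟨[nat_lit 45], [nat_lit 43], (nat_lit 101), ⟨[nat_lit 0, nat_lit 26, nat_lit 48], [nat_lit 0, nat_lit 28, nat_lit 90], ⟨[nat_lit 0x1c9b4b1d1575c519ae042b14f49801], [nat_lit 174080, nat_lit 168960, nat_lit 164864, nat_lit 163712, nat_lit 157184, nat_lit 153440, nat_lit 150800, nat_lit 146032, nat_lit 142520, nat_lit 138416, nat_lit 134640, nat_lit 1180, nat_lit 5276, nat_lit 8344, nat_lit 13648, nat_lit 17952, nat_lit 21504, nat_lit 26240, nat_lit 29696, nat_lit 33280, nat_lit 37888, nat_lit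 41893, nat_lit 37127, nat_lit 33328, nat_lit 29713, nat_lit 24612, nat_lit 20487, nat_lit 16399, nat_lit 12293, nat_lit 8195]⟩⟩⟩⟩,
  .stab (nat_lit 100) tw0 ⟨(nat_lit 0), ⟨[nat_lit 32, nat_lit 27, nat_lit 25, nat_lit 27, nat_lit 25, nat_lit 32, nat_lit 34, nat_lit 26], [], (nat_lit 100), ⟨[nat_lit 0, nat_lit 24, nat_lit 53], [nat_lit 3, nat_lit 52], ⟨[nat_lit 0x72991a4ac869c7532664b88af82c01], [nat_lit 168448, nat_lit 160512, nat_lit 156352, nat_lit 151968, nat_lit 148464, nat_lit 144528, nat_lit 139328, nat_lit 136168, nat_lit 131842, nat_lit 2, nat_lit 9176, nat_lit 14112, nat_lit 16448, nat_lit 22144, nat_lit 24832, nat_lit 37888, nat_lit 41532, nat_lit 38119, nat_lit 32848, nat_lit 24848, nat_lit 21532, nat_lit 16648, nat_lit 12304, nat_lit 9218, nat_lit 4097, nat_lit 2]⟩⟩⟩, ap0⟩,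
  .prod [] [nat_lit 41, nat_lit 42, nat_lit 41, nat_lit 43],
  .prod [] [nat_lit 58, nat_lit 43, nat_lit 43, nat_lit 43]]

theorem dcBr57 : Rng dcB 57 61 := Rng.of (l := dcBc57) (by decide +kernel)

def dcBc61 : List Cert := [.prod [] [nat_lit 41, nat_lit 42, nat_lit 43, nat_lit 58],
  .prod [] [nat_lit 41, nat_lit 44, nat_lit 41, nat_lit 43],
  .prod [] [nat_lit 43, nat_lit 58, nat_lit 41, nat_lit 44],
  .defn,
  .stab (nat_lit 128) tw0 ⟨(nat_lit 0), ⟨[nat_lit 19, nat_lit 14, nat_lit 14, nat_lit 21, nat_lit 17, nat_lit 17, nat_lit 13, nat_lit 12], [], (nat_lit 128), ⟨[nat_lit 63], [nat_lit 0, nat_lit 13, nat_lit 66], ⟨[nat_lit 0xab8d32de2d4092ba11f091d961a820], [nat_lit 174080, nat_lit 168960, nat_lit 165376, nat_lit 161280, nat_lit 159296, nat_lit 155392, nat_lit 150560, nat_lit 144104, nat_lit 142236, nat_lit 136944, nat_lit 134215, nat_lit 2, nat_lit 5904, nat_lit 9328, nat_lit 14096, nat_lit 17280, nat_lit 21888,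 nat_lit 25344, nat_lit 29184, nat_lit 33792, nat_lit 41578, nat_lit 38141, nat_lit 32983, nat_lit 28761, nat_lit 24721, nat_lit 20506, nat_lit 16422, nat_lit 12295, nat_lit 8194, nat_lit 4101, nat_lit 2]⟩⟩⟩, ap0⟩,
  .stab (nat_lit 128) tw0 ⟨(nat_lit 0), ⟨[nat_lit 12, nat_lit 13, nat_lit 21, nat_lit 21, nat_lit 18, nat_lit 14, nat_lit 20, nat_lit 16], [], (nat_lit 128), ⟨[nat_lit 7, nat_lit 58], [nat_lit 0, nat_lit 14, nat_lit 48], ⟨[nat_lit 0xba9323522564ecf711021aced85420], [nat_lit 168448, nat_lit 165376, nat_lit 160768, nat_lit 157440, nat_lit 155296, nat_lit 149216, nat_lit 143912, nat_lit 140800, nat_lit 136682, nat_lit 131994, nat_lit 32, nat_lit 4128, nat_lit 10024, nat_lit 14176, nat_lit 17728, nat_lit 26112, nat_lit 41978, nat_lit 36896, nat_lit 33942, nat_lit 28759, nat_lit 24759, nat_lit 16514, nat_lit 12548, nat_lit 8210]⟩⟩⟩, ap0⟩]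

theorem dcBr61 : Rng dcB 61 67 := Rng.of (l := dcBc61) (by decide +kernel)

def dcBc67 : List Cert := [.stab (nat_lit 128) tw0 ⟨(nat_lit 0), ⟨[nat_lit 20, nat_lit 17, nat_lit 16, nat_lit 18, nat_lit 15, nat_lit 13, nat_lit 16], [], (nat_lit 128), ⟨[nat_lit 0, nat_lit 85, nat_lit 66], [nat_lit 64], ⟨[nat_lit 0x7cee392e25322b660a14735443a420], [nat_lit 169984, nat_lit 166912, nat_lit 163072, nat_lit 158784, nat_lit 152032, nat_lit 150688, nat_lit 146224, nat_lit 140928, nat_lit 139228, nat_lit 132239, nat_lit 986, nat_lit 5956, nat_lit 9752, nat_lit 13264, nat_lit 17024, nat_lit 20800, nat_lit 24960, nat_lit 30464, nat_lit 33792, nat_lit 41013, nat_lit 37254, nat_lit 33504, nat_lit 29209, nat_lit 24864, nat_lit 20760, nat_lit 16390, nat_lit 12291, nat_lit 4105]⟩⟩⟩, ap0⟩,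
  .stab (nat_lit 128) tw0 ⟨(nat_lit 0), ⟨[nat_lit 15, nat_lit 21, nat_lit 18, nat_lit 15, nat_lit 16, nat_lit 21, nat_lit 20, nat_lit 13], [], (nat_lit 128), ⟨[nat_lit 8, nat_lit 62], [nat_lit 0, nat_lit 79, nat_lit 70], ⟨[nat_lit 0x359cc1362b3d653ba0a91c14f25020], [nat_lit 173056, nat_lit 168960, nat_lit 166400, nat_lit 162304, nat_lit 157952, nat_lit 154336, nat_lit 148144, nat_lit 146904, nat_lit 142716, nat_lit 135424, nat_lit 133872, nat_lit 2, nat_lit 4128, nat_lit 8680, nat_lit 14192, nat_lit 16416, nat_lit 20672, nat_lit 25600, nat_lit 29696, nat_lit 34304, nat_lit 41127, nat_lit 37095, nat_lit 32953, nat_lit 28975, nat_lit 24621, nat_lit 20497, nat_lit 16399, nat_lit 12304, nat_lit 8195, nat_lit 4100, nat_lit 2]⟩⟩⟩, ap0⟩,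
  .prod [] [nat_lit 67, nat_lit 68, nat_lit 65, nat_lit 67],
  .prod [] [nat_lit 66, nat_lit 66, nat_lit 66, nat_lit 66]]

theorem dcBr67 : Rng dcB 67 71 := Rng.of (l := dcBc67) (by decide +kernel)

def dcBc71 : List Cert := [.edge ⟨[nat_lit 0, nat_lit 17, nat_lit 50], [nat_lit 0, nat_lit 35, nat_lit 47], ⟨[nat_lit 0x2caa334e8259c8c825b175aea43c20], [nat_lit 173056, nat_lit 171520, nat_lit 165632, nat_lit 160512, nat_lit 158656, nat_lit 152608, nat_lit 148064, nat_lit 146160, nat_lit 141752, nat_lit 137858, nat_lit 133770, nat_lit 2, nat_lit 4684, nat_lit 9504, nat_lit 13920, nat_lit 17920, nat_lit 22336, nat_lit 25344, nat_lit 29952, nat_lit 33280, nat_lit 37888, nat_lit 41178, nat_lit 37229, nat_lit 32781, nat_lit 29708, nat_lit 24617, nat_lit 20485, nat_lit 16396, nat_lit 12293, nat_lit 8193, nat_lit 4097, nat_lit 2]⟩⟩ ⟨(nat_lit 2), ⟨[], [], (nat_lit 129), ⟨[nat_lit 0, nat_lit 7, nat_lit 53], [nat_lit 8, nat_lit 60],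 ⟨[nat_lit 0x11eaa8250d5d8c324caebb2927c401], [nat_lit 175104, nat_lit 168448, nat_lit 167680, nat_lit 162816, nat_lit 159488, nat_lit 152608, nat_lit 148448, nat_lit 144112, nat_lit 141744, nat_lit 139218, nat_lit 131556, nat_lit 2, nat_lit 4608, nat_lit 9664, nat_lit 13664, nat_lit 18176, nat_lit 24832, nat_lit 29696, nat_lit 33792, nat_lit 37888, nat_lit 41624, nat_lit 37126, nat_lit 33396, nat_lit 29758, nat_lit 24585, nat_lit 20625, nat_lit 16417, nat_lit 12294, nat_lit 8194, nat_lit 4101, nat_lit 2]⟩⟩⟩, ⟨[nat_lit 19, nat_lit 20, nat_lit 17, nat_lit 17], [], (nat_lit 76), ⟨[nat_lit 0, nat_lit 85, nat_lit 91], [nat_lit 86, nat_lit 58], ⟨[nat_lit 0xa9522852ee1a09653d723c4cc6cc01], [nat_lit 169472, nat_lit 165376, nat_lit 161408, nat_lit 156288, nat_lit 155136, nat_lit 147936, nat_lit 144896, nat_lit 140988, nat_lit 136830, nat_lit 132023, nat_lit 2, nat_lit 4128, nat_lit 8808, nat_lit 12736, nat_lit 17216, nat_lit 21696,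 nat_lit 25344, nat_lit 29440, nat_lit 33280, nat_lit 41696, nat_lit 38271, nat_lit 33407, nat_lit 28768, nat_lit 24732, nat_lit 20560, nat_lit 16390, nat_lit 12323, nat_lit 8193, nat_lit 4097, nat_lit 2]⟩⟩⟩⟩,
  .edge ⟨[nat_lit 42, nat_lit 59], [nat_lit 86, nat_lit 70], ⟨[nat_lit 0xbd1259b4768c8ca3b16faba0241020], [nat_lit 168448, nat_lit 167680, nat_lit 162816, nat_lit 158784, nat_lit 155392, nat_lit 147920, nat_lit 146912, nat_lit 143104, nat_lit 135170, nat_lit 134268, nat_lit 2, nat_lit 4112, nat_lit 8680, nat_lit 12512, nat_lit 16640, nat_lit 20544, nat_lit 25344, nat_lit 29696, nat_lit 34304, nat_lit 41963, nat_lit 37311, nat_lit 33312, nat_lit 29000, nat_lit 24604, nat_lit 21000, nat_lit 16395, nat_lit 12308, nat_lit 8195, nat_lit 4100, nat_lit 2]⟩⟩ ⟨(nat_lit 2), ⟨[nat_lit 65, nat_lit 66], [], (nat_lit 142), ⟨[nat_lit 0, nat_lit 22, nat_lit 58], [nat_lit 0, nat_lit 4, nat_lit 93], ⟨[nat_lit 0x6a60830ecb238b311eaabca8c7c420],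 [nat_lit 169472, nat_lit 164096, nat_lit 161664, nat_lit 157056, nat_lit 152544, nat_lit 148560, nat_lit 147128, nat_lit 137202, nat_lit 131128, nat_lit 8, nat_lit 4104, nat_lit 9008, nat_lit 13664, nat_lit 16832, nat_lit 21568, nat_lit 26112, nat_lit 29184, nat_lit 33280, nat_lit 37888, nat_lit 41768, nat_lit 36889, nat_lit 33019, nat_lit 28979, nat_lit 24754, nat_lit 20488, nat_lit 16452, nat_lit 12310, nat_lit 8210]⟩⟩⟩, ⟨[nat_lit 16, nat_lit 19, nat_lit 20, nat_lit 15], [], (nat_lit 76), ⟨[nat_lit 0, nat_lit 14, nat_lit 68], [nat_lit 88, nat_lit 51], ⟨[nat_lit 0x99d76ba62651654ac08863c6d13820], [nat_lit 174080, nat_lit 169472, nat_lit 166656, nat_lit 162048, nat_lit 159488, nat_lit 151808, nat_lit 149280, nat_lit 144816, nat_lit 141412, nat_lit 138972, nat_lit 131345, nat_lit 1478, nat_lit 6068, nat_lit 9664, nat_lit 13200, nat_lit 18336, nat_lit 20736, nat_lit 24960, nat_lit 30464, nat_lit 33792, nat_lit 37888, nat_lit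 41354, nat_lit 36946, nat_lit 32850, nat_lit 29792, nat_lit 24594, nat_lit 20489, nat_lit 16397, nat_lit 12307, nat_lit 8194, nat_lit 4100]⟩⟩⟩⟩]

theorem dcBr71 : Rng dcB 71 73 := Rng.of (l := dcBc71) (by decide +kernel)

def dcBc73 : List Cert := [.edge ⟨[nat_lit 74, nat_lit 47], [nat_lit 0, nat_lit 86, nat_lit 53], ⟨[nat_lit 0x716646a209128f5bc9941acd67c420], [nat_lit 168448, nat_lit 167168, nat_lit 160384, nat_lit 156864, nat_lit 151712, nat_lit 148464, nat_lit 144592, nat_lit 140216, nat_lit 136320, nat_lit 132925, nat_lit 256, nat_lit 4352, nat_lit 9920, nat_lit 13920, nat_lit 17600, nat_lit 21696, nat_lit 26240, nat_lit 29184, nat_lit 33280, nat_lit 37888, nat_lit 41402, nat_lit 37312, nat_lit 32864, nat_lit 29248, nat_lit 24870, nat_lit 20752, nat_lit 16393, nat_lit 8258]⟩⟩ ⟨(nat_lit 2), ⟨[nat_lit 70, nat_lit 66], [], (nat_lit 144), ⟨[nat_lit 0, nat_lit 26, nat_lit 57], [nat_lit 85, nat_lit 60], ⟨[nat_lit 0x138909aef178e455368c358e945401],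 [nat_lit 171520, nat_lit 166400, nat_lit 163712, nat_lit 157696, nat_lit 152384, nat_lit 150384, nat_lit 146064, nat_lit 140128, nat_lit 137424, nat_lit 131851, nat_lit 2, nat_lit 5856, nat_lit 9664, nat_lit 13360, nat_lit 16800, nat_lit 21760, nat_lit 25088, nat_lit 29440, nat_lit 41569, nat_lit 37373, nat_lit 33497, nat_lit 29210, nat_lit 24749, nat_lit 20621, nat_lit 16897, nat_lit 12290, nat_lit 8211, nat_lit 4100, nat_lit 2]⟩⟩⟩, ⟨[nat_lit 16, nat_lit 14, nat_lit 14, nat_lit 21, nat_lit 14], [], (nat_lit 128), ⟨[nat_lit 0, nat_lit 82, nat_lit 93], [nat_lit 82, nat_lit 59], ⟨[nat_lit 0x3122a11eeda5a0b4b26e7947544801], [nat_lit 174080, nat_lit 164352, nat_lit 163712, nat_lit 157312, nat_lit 153088, nat_lit 149680, nat_lit 146992, nat_lit 142920, nat_lit 138362, nat_lit 133140, nat_lit 1180, nat_lit 5276, nat_lit 9368, nat_lit 12544, nat_lit 16864, nat_lit 22208, nat_lit 29952, nat_lit 37888, nat_lit 41351, nat_lit 37166,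 nat_lit 33003, nat_lit 29028, nat_lit 24893, nat_lit 20500, nat_lit 16416, nat_lit 12416, nat_lit 8195]⟩⟩⟩⟩,
  .edge tw0 ⟨(nat_lit 1), ⟨[nat_lit 65, nat_lit 66], [], (nat_lit 142), ⟨[nat_lit 0, nat_lit 86, nat_lit 59], [nat_lit 14, nat_lit 65], ⟨[nat_lit 0x3086543d8b535c9bda3094e9521c20], [nat_lit 175104, nat_lit 169984, nat_lit 167168, nat_lit 161024, nat_lit 159552, nat_lit 153920, nat_lit 148624, nat_lit 145432, nat_lit 141248, nat_lit 135266, nat_lit 132435, nat_lit 1896, nat_lit 5992, nat_lit 9200, nat_lit 14192, nat_lit 18144, nat_lit 22080, nat_lit 25216, nat_lit 29952, nat_lit 33280, nat_lit 37888, nat_lit 41975, nat_lit 38185, nat_lit 33935, nat_lit 29190, nat_lit 24618, nat_lit 20504, nat_lit 16395, nat_lit 8195]⟩⟩⟩, ⟨[nat_lit 18, nat_lit 13, nat_lit 12, nat_lit 19], [], (nat_lit 128), ⟨[nat_lit 0, nat_lit 21, nat_lit 51], [nat_lit 24, nat_lit 60], ⟨[nat_lit 0x4b0f0245ab44ccf548aebd476a0801], [nat_lit 173056,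 nat_lit 171008, nat_lit 165120, nat_lit 161152, nat_lit 157632, nat_lit 153056, nat_lit 147648, nat_lit 143728, nat_lit 141216, nat_lit 135718, nat_lit 133011, nat_lit 2, nat_lit 4608, nat_lit 8704, nat_lit 12432, nat_lit 16544, nat_lit 20544, nat_lit 25344, nat_lit 28928, nat_lit 34304, nat_lit 37888, nat_lit 41889, nat_lit 37343, nat_lit 32788, nat_lit 29223, nat_lit 24586, nat_lit 20632, nat_lit 16515, nat_lit 12307, nat_lit 4097, nat_lit 2]⟩⟩⟩⟩]

theorem dcBr73 : Rng dcB 73 75 := Rng.of (l := dcBc73) (by decide +kernel)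

def dcBc75 : List Cert := [.edge ⟨[nat_lit 0, nat_lit 8, nat_lit 56], [nat_lit 0, nat_lit 24, nat_lit 46], ⟨[nat_lit 0xbd2b631c8584e517b98d4296918801], [nat_lit 174080, nat_lit 168448, nat_lit 162432, nat_lit 156736, nat_lit 151584, nat_lit 149760, nat_lit 146232, nat_lit 141612, nat_lit 139040, nat_lit 133385, nat_lit 1180, nat_lit 5276, nat_lit 8200, nat_lit 13456, nat_lit 16704, nat_lit 22016, nat_lit 25856, nat_lit 37888, nat_lit 41860, nat_lit 38147, nat_lit 33890, nat_lit 28975, nat_lit 24599, nat_lit 20490, nat_lit 16397, nat_lit 12295, nat_lit 8200]⟩⟩ ⟨(nat_lit 2), ⟨[], [], (nat_lit 142), ⟨[nat_lit 0, nat_lit 17, nat_lit 89], [nat_lit 0, nat_lit 88, nat_lit 91], ⟨[nat_lit 0x8aeb7692c3395507259230a8f9a020], [nat_lit 173056, nat_lit 168448, nat_lit 165376, nat_lit 160128, nat_lit 155968, nat_lit 151616, nat_lit 149664, nat_lit 143928, nat_lit 139836, nat_lit 135704, nat_lit 131379, nat_lit 16, nat_lit 4112, nat_lit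 9032, nat_lit 13920, nat_lit 16640, nat_lit 22272, nat_lit 29440, nat_lit 37888, nat_lit 41788, nat_lit 37081, nat_lit 32784, nat_lit 29289, nat_lit 24632, nat_lit 20549, nat_lit 16392, nat_lit 12311, nat_lit 8203]⟩⟩⟩, ⟨[nat_lit 19, nat_lit 16, nat_lit 20, nat_lit 17, nat_lit 12], [], (nat_lit 80), ⟨[nat_lit 0, nat_lit 82, nat_lit 59], [nat_lit 3, nat_lit 68], ⟨[nat_lit 0x92e903a6a6bb9ea98da4144ac45820], [nat_lit 174080, nat_lit 168960, nat_lit 167680, nat_lit 161920, nat_lit 158016, nat_lit 152256, nat_lit 147872, nat_lit 143528, nat_lit 142576, nat_lit 139102, nat_lit 131274, nat_lit 1478, nat_lit 4352, nat_lit 10104, nat_lit 12976, nat_lit 18240, nat_lit 22144, nat_lit 25344, nat_lit 28928, nat_lit 33792, nat_lit 41742, nat_lit 36963, nat_lit 32862, nat_lit 28686, nat_lit 24848, nat_lit 21005, nat_lit 16646, nat_lit 12294, nat_lit 8203, nat_lit 4104]⟩⟩⟩⟩,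
  .edge ⟨[nat_lit 0, nat_lit 8, nat_lit 66], [nat_lit 79, nat_lit 60], ⟨[nat_lit 0x79ab7a09718498549d4e1cd1623401], [nat_lit 173056, nat_lit 164864, nat_lit 161152, nat_lit 157184, nat_lit 152640, nat_lit 148960, nat_lit 144088, nat_lit 142892, nat_lit 135296, nat_lit 132582, nat_lit 2, nat_lit 4100, nat_lit 8680, nat_lit 12784, nat_lit 16704, nat_lit 21568, nat_lit 25344, nat_lit 28928, nat_lit 33280, nat_lit 37888, nat_lit 41401, nat_lit 37226, nat_lit 32944, nat_lit 29036, nat_lit 24604, nat_lit 20495, nat_lit 16455, nat_lit 12292, nat_lit 8195, nat_lit 4097, nat_lit 2]⟩⟩ ⟨(nat_lit 2), ⟨[nat_lit 69, nat_lit 67], [], (nat_lit 150), ⟨[nat_lit 0, nat_lit 84, nat_lit 89], [nat_lit 29, nat_lit 58], ⟨[nat_lit 0x4d6171168e244c838ecc7cdab92820], [nat_lit 173056, nat_lit 169472, nat_lit 165632, nat_lit 163584, nat_lit 157504, nat_lit 152640, nat_lit 148640, nat_lit 145208, nat_lit 139776, nat_lit 136462, nat_lit 132421, nat_lit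 128, nat_lit 4224, nat_lit 9184, nat_lit 13136, nat_lit 18176, nat_lit 25472, nat_lit 29952, nat_lit 37888, nat_lit 41983, nat_lit 37983, nat_lit 33326, nat_lit 28765, nat_lit 24596, nat_lit 21013, nat_lit 16431, nat_lit 12306, nat_lit 8226]⟩⟩⟩, ⟨[nat_lit 60, nat_lit 43, nat_lit 62, nat_lit 41], [nat_lit 63, nat_lit 58, nat_lit 44, nat_lit 41, nat_lit 42], (nat_lit 151), ⟨[nat_lit 0, nat_lit 42, nat_lit 48], [nat_lit 8, nat_lit 92], ⟨[nat_lit 0xa10517aa72b32e9438a638e156ac01], [nat_lit 175104, nat_lit 171520, nat_lit 167168, nat_lit 160256, nat_lit 157632, nat_lit 151648, nat_lit 151056, nat_lit 144888, nat_lit 139272, nat_lit 139232, nat_lit 135026, nat_lit 1808, nat_lit 5904, nat_lit 8752, nat_lit 13264, nat_lit 16864, nat_lit 21696, nat_lit 30208, nat_lit 33280, nat_lit 37888, nat_lit 41675, nat_lit 37212, nat_lit 33391, nat_lit 29752, nat_lit 24704, nat_lit 20499, nat_lit 12294, nat_lit 8203]⟩⟩⟩⟩]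

theorem dcBr75 : Rng dcB 75 77 := Rng.of (l := dcBc75) (by decide +kernel)

def dcBc77 : List Cert := [.stab (nat_lit 143) tw0 ⟨(nat_lit 0), ⟨[nat_lit 21, nat_lit 14, nat_lit 18, nat_lit 21, nat_lit 13, nat_lit 17, nat_lit 13, nat_lit 16], [], (nat_lit 128), ⟨[nat_lit 11, nat_lit 94], [nat_lit 3, nat_lit 90], ⟨[nat_lit 0x84cc46decc8c8a750d027d1d54ac01], [nat_lit 174080, nat_lit 168960, nat_lit 164352, nat_lit 161152, nat_lit 158720, nat_lit 154144, nat_lit 149920, nat_lit 144392, nat_lit 143100, nat_lit 136286, nat_lit 134063, nat_lit 1142, nat_lit 5856, nat_lit 9752, nat_lit 13264, nat_lit 16800, nat_lit 20544, nat_lit 26368, nat_lit 29440, nat_lit 33792, nat_lit 37888, nat_lit 41667, nat_lit 38391, nat_lit 33371, nat_lit 29756, nat_lit 24613, nat_lit 20566, nat_lit 16398, nat_lit 12293, nat_lit 8200, nat_lit 4112]⟩⟩⟩, ap0⟩,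
  .prod [] [nat_lit 65, nat_lit 68, nat_lit 77, nat_lit 66],
  .prod [] [nat_lit 66, nat_lit 68, nat_lit 65, nat_lit 77],
  .prod [] [nat_lit 78, nat_lit 67, nat_lit 78, nat_lit 66],
  .prod [] [nat_lit 68, nat_lit 66, nat_lit 80, nat_lit 79],
  .prod [] [nat_lit 68, nat_lit 65, nat_lit 78, nat_lit 81]]

theorem dcBr77 : Rng dcB 77 83 := Rng.of (l := dcBc77) (by decide +kernel)

def dcBc83 : List Cert := [.edge tw0 ⟨(nat_lit 0), ⟨[], [], (nat_lit 23), tw0⟩, ap0⟩,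
  .edge tw0 ⟨(nat_lit 0), ⟨[nat_lit 16, nat_lit 17, nat_lit 18], [nat_lit 16, nat_lit 17, nat_lit 18], (nat_lit 63), tw0⟩, ap0⟩,
  .edge tw0 ⟨(nat_lit 0), ⟨[nat_lit 63, nat_lit 58, nat_lit 44, nat_lit 41, nat_lit 42], [nat_lit 63, nat_lit 58, nat_lit 44, nat_lit 41, nat_lit 42], (nat_lit 151), tw0⟩, ap0⟩,
  .prod [] [nat_lit 8, nat_lit 4, nat_lit 3, nat_lit 8, nat_lit 3]]

theorem dcBr83 : Rng dcB 83 87 := Rng.of (l := dcBc83) (by decide +kernel)

def dcBc87 : List Cert := [.prod [] [nat_lit 7, nat_lit 0, nat_lit 1, nat_lit 7, nat_lit 2],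
  .prod [] [nat_lit 2, nat_lit 8, nat_lit 5, nat_lit 8, nat_lit 5],
  .prod [] [nat_lit 6, nat_lit 8, nat_lit 9, nat_lit 6, nat_lit 6],
  .prod [] [nat_lit 0, nat_lit 4, nat_lit 3, nat_lit 0, nat_lit 9],
  .prod [] [nat_lit 14, nat_lit 13, nat_lit 17, nat_lit 18, nat_lit 15],
  .prod [] [nat_lit 12, nat_lit 13, nat_lit 17, nat_lit 16, nat_lit 15],
  .prod [] [nat_lit 13, nat_lit 19, nat_lit 15, nat_lit 16, nat_lit 18],
  .prod [] [nat_lit 17, nat_lit 15, nat_lit 15, nat_lit 21, nat_lit 12]]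

theorem dcBr87 : Rng dcB 87 95 := Rng.of (l := dcBc87) (by decide +kernel)

def dcBc95 : List Cert := [.prod [] [nat_lit 16, nat_lit 15, nat_lit 12, nat_lit 19, nat_lit 21],
  .prod [] [nat_lit 33, nat_lit 37, nat_lit 28, nat_lit 35, nat_lit 26],
  .prod [] [nat_lit 33, nat_lit 27, nat_lit 37, nat_lit 28, nat_lit 26],
  .prod [] [nat_lit 37, nat_lit 25, nat_lit 36, nat_lit 37, nat_lit 25],
  .prod [] [nat_lit 25, nat_lit 35, nat_lit 35, nat_lit 35, nat_lit 25],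
  .prod [] [nat_lit 36, nat_lit 35, nat_lit 26, nat_lit 26, nat_lit 36],
  .prod [] [nat_lit 42, nat_lit 43, nat_lit 62, nat_lit 44, nat_lit 61],
  .prod [] [nat_lit 41, nat_lit 58, nat_lit 42, nat_lit 63, nat_lit 61]]

theorem dcBr95 : Rng dcB 95 103 := Rng.of (l := dcBc95) (by decide +kernel)

def dcBc103 : List Cert := [.prod [] [nat_lit 44, nat_lit 61, nat_lit 58, nat_lit 59, nat_lit 42],
  .prod [] [nat_lit 42, nat_lit 63, nat_lit 63, nat_lit 63, nat_lit 43],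
  .prod [] [nat_lit 59, nat_lit 42, nat_lit 42, nat_lit 58, nat_lit 63],
  .prod [] [nat_lit 82, nat_lit 82, nat_lit 78, nat_lit 79, nat_lit 77],
  .prod [] [nat_lit 77, nat_lit 67, nat_lit 82, nat_lit 67, nat_lit 66],
  .prod [] [nat_lit 81, nat_lit 67, nat_lit 65, nat_lit 65, nat_lit 80],
  .prod [] [nat_lit 82, nat_lit 65, nat_lit 68, nat_lit 80, nat_lit 67],
  .prod [] [nat_lit 66, nat_lit 68, nat_lit 66, nat_lit 66, nat_lit 77]]

theorem dcBr103 : Rng dcB 103 111 := Rng.of (l := dcBc103) (by decide +kernel)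

theorem dcBR0 : Rng dcB 0 111 := (dcBr0.trans (dcBr13.trans (dcBr16.trans (dcBr23.trans (dcBr26.trans (dcBr29.trans (dcBr31.trans (dcBr36.trans (dcBr39.trans (dcBr42.trans (dcBr45.trans (dcBr51.trans (dcBr53.trans (dcBr55.trans (dcBr57.trans (dcBr61.trans (dcBr67.trans (dcBr71.trans (dcBr73.trans (dcBr75.trans (dcBr77.trans (dcBr83.trans (dcBr87.trans (dcBr95.trans dcBr103))))))))))))))))))))))))

end

end CF.Mon
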