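import Cfsg.Agent.Mon.DcCE0
import Cfsg.Agent.Mon.YG

set_option autoImplicit false
set_option maxRecDepth 100000

namespace CF.Mon

open CF.Comp

noncomputable section

def dcCE : BT El := (BT.node (nat_lit 64) (BT.node (nat_lit 32) (BT.node (nat_lit 16) (BT.node (nat_lit 8) dcCE0 dcCE1) (BT.node (nat_lit 24) dcCE2 dcCE3)) (BT.node (nat_lit 48) (BT.node (nat_lit 40) dcCE4 dcCE5) (BT.node (nat_lit 56) dcCE6 dcCE7))) (BT.node (nat_lit 96) (BT.node (nat_lit 80) (BT.node (nat_lit 72) dcCE8 dcCE9) (BT.node (nat_lit 88) dcCE10 dcCE11)) (BT.node (nat_lit 112) (BT.node (nat_lit 104) dcCE12 dcCE13) (BT.node (nat_lit 120) dcCE14 (BT.node (nat_lit 128) dcCE15 dcCE16)))))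

theorem dcCE_ok : dcCE.all (elB (nat_lit 12288)) = true := (BT.all_node (BT.all_node (BT.all_node (BT.all_node dcCE0_ok dcCE1_ok) (BT.all_node dcCE2_ok dcCE3_ok)) (BT.all_node (BT.all_node dcCE4_ok dcCE5_ok) (BT.all_node dcCE6_ok dcCE7_ok))) (BT.all_node (BT.all_node (BT.all_node dcCE8_ok dcCE9_ok) (BT.all_node dcCE10_ok dcCE11_ok)) (BT.all_node (BT.all_node dcCE12_ok dcCE13_ok) (BT.all_node dcCE14_ok (BT.all_node dcCE15_ok dcCE16_ok)))))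

def dcCF : BT Fact := (.node (nat_lit 56) (.node (nat_lit 28) (.node (nat_lit 14) (.node (nat_lit 7) (.node (nat_lit 3) (.node (nat_lit 1) (.leaf ⟨(nat_lit 0), (nat_lit 0), (nat_lit 1), (nat_lit 0), (nat_lit 0)⟩)
 (.node (nat_lit 2) (.leaf ⟨(nat_lit 0), (nat_lit 0), (nat_lit 2), (nat_lit 0), (nat_lit 0)⟩)
 (.leaf ⟨(nat_lit 0), (nat_lit 0), (nat_lit 3), (nat_lit 0), (nat_lit 0)⟩)))
 (.node (nat_lit 5) (.node (nat_lit 4) (.leaf ⟨(nat_lit 0), (nat_lit 0), (nat_lit 4), (nat_lit 0), (nat_lit 0)⟩)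
 (.leaf ⟨(nat_lit 0), (nat_lit 0), (nat_lit 5), (nat_lit 0), (nat_lit 0)⟩))
 (.node (nat_lit 6) (.leaf ⟨(nat_lit 0), (nat_lit 0), (nat_lit 6), (nat_lit 0), (nat_lit 0)⟩)
 (.leaf ⟨(nat_lit 0), (nat_lit 0), (nat_lit 7), (nat_lit 0), (nat_lit 0)⟩))))
 (.node (nat_lit 10) (.node (nat_lit 8) (.leaf ⟨(nat_lit 0), (nat_lit 0), (nat_lit 8), (nat_lit 0), (nat_lit 0)⟩)
 (.node (nat_lit 9) (.leaf ⟨(nat_lit 0), (nat_lit 0), (nat_lit 9), (nat_lit 0), (nat_lit 0)⟩)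
 (.leaf ⟨(nat_lit 0), (nat_lit 0), (nat_lit 10), (nat_lit 0), (nat_lit 0)⟩)))
 (.node (nat_lit 12) (.node (nat_lit 11) (.leaf ⟨(nat_lit 1), (nat_lit 0), (nat_lit 0), (nat_lit 0), (nat_lit 0)⟩)
 (.leaf ⟨(nat_lit 1), (nat_lit 0), (nat_lit 11), (nat_lit 1), (nat_lit 0)⟩))
 (.node (nat_lit 13) (.leaf ⟨(nat_lit 0), (nat_lit 1), (nat_lit 12), (nat_lit 0), (nat_lit 0)⟩)
 (.leaf ⟨(nat_lit 0), (nat_lit 1), (nat_lit 13), (nat_lit 0), (nat_lit 0)⟩)))))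
 (.node (nat_lit 21) (.node (nat_lit 17) (.node (nat_lit 15) (.leaf ⟨(nat_lit 0), (nat_lit 1), (nat_lit 14), (nat_lit 0), (nat_lit 0)⟩)
 (.node (nat_lit 16) (.leaf ⟨(nat_lit 0), (nat_lit 1), (nat_lit 15), (nat_lit 0), (nat_lit 0)⟩)
 (.leaf ⟨(nat_lit 0), (nat_lit 1), (nat_lit 16), (nat_lit 0), (nat_lit 0)⟩)))
 (.node (nat_lit 19) (.node (nat_lit 18) (.leaf ⟨(nat_lit 0), (nat_lit 1), (nat_lit 17), (nat_lit 0), (nat_lit 0)⟩)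
 (.leaf ⟨(nat_lit 0), (nat_lit 1), (nat_lit 18), (nat_lit 0), (nat_lit 0)⟩))
 (.node (nat_lit 20) (.leaf ⟨(nat_lit 0), (nat_lit 1), (nat_lit 19), (nat_lit 0), (nat_lit 0)⟩)
 (.leaf ⟨(nat_lit 0), (nat_lit 1), (nat_lit 20), (nat_lit 0), (nat_lit 0)⟩))))
 (.node (nat_lit 24) (.node (nat_lit 22) (.leaf ⟨(nat_lit 0), (nat_lit 1), (nat_lit 21), (nat_lit 0), (nat_lit 0)⟩)
 (.node (nat_lit 23) (.leaf ⟨(nat_lit 1), (nat_lit 1), (nat_lit 22), (nat_lit 1), (nat_lit 23)⟩)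
 (.leaf ⟨(nat_lit 1), (nat_lit 1), (nat_lit 24), (nat_lit 1), (nat_lit 25)⟩)))
 (.node (nat_lit 26) (.node (nat_lit 25) (.leaf ⟨(nat_lit 1), (nat_lit 0), (nat_lit 26), (nat_lit 2), (nat_lit 0)⟩)
 (.leaf ⟨(nat_lit 0), (nat_lit 2), (nat_lit 27), (nat_lit 0), (nat_lit 0)⟩))
 (.node (nat_lit 27) (.leaf ⟨(nat_lit 0), (nat_lit 2), (nat_lit 28), (nat_lit 0), (nat_lit 0)⟩)
 (.leaf ⟨(nat_lit 0), (nat_lit 2), (nat_lit 29), (nat_lit 0), (nat_lit 0)⟩))))))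
 (.node (nat_lit 42) (.node (nat_lit 35) (.node (nat_lit 31) (.node (nat_lit 29) (.leaf ⟨(nat_lit 0), (nat_lit 2), (nat_lit 30), (nat_lit 0), (nat_lit 0)⟩)
 (.node (nat_lit 30) (.leaf ⟨(nat_lit 0), (nat_lit 2), (nat_lit 31), (nat_lit 0), (nat_lit 0)⟩)
 (.leaf ⟨(nat_lit 0), (nat_lit 2), (nat_lit 32), (nat_lit 0), (nat_lit 0)⟩)))
 (.node (nat_lit 33) (.node (nat_lit 32) (.leaf ⟨(nat_lit 1), (nat_lit 2), (nat_lit 33), (nat_lit 1), (nat_lit 34)⟩)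
 (.leaf ⟨(nat_lit 1), (nat_lit 2), (nat_lit 35), (nat_lit 2), (nat_lit 36)⟩))
 (.node (nat_lit 34) (.leaf ⟨(nat_lit 1), (nat_lit 2), (nat_lit 37), (nat_lit 2), (nat_lit 38)⟩)
 (.leaf ⟨(nat_lit 1), (nat_lit 2), (nat_lit 39), (nat_lit 0), (nat_lit 40)⟩))))
 (.node (nat_lit 38) (.node (nat_lit 36) (.leaf ⟨(nat_lit 0), (nat_lit 2), (nat_lit 41), (nat_lit 0), (nat_lit 0)⟩)
 (.node (nat_lit 37) (.leaf ⟨(nat_lit 0), (nat_lit 2), (nat_lit 42), (nat_lit 0), (nat_lit 0)⟩)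
 (.leaf ⟨(nat_lit 0), (nat_lit 2), (nat_lit 43), (nat_lit 0), (nat_lit 0)⟩)))
 (.node (nat_lit 40) (.node (nat_lit 39) (.leaf ⟨(nat_lit 0), (nat_lit 2), (nat_lit 44), (nat_lit 0), (nat_lit 0)⟩)
 (.leaf ⟨(nat_lit 0), (nat_lit 2), (nat_lit 45), (nat_lit 0), (nat_lit 0)⟩))
 (.node (nat_lit 41) (.leaf ⟨(nat_lit 0), (nat_lit 2), (nat_lit 46), (nat_lit 0), (nat_lit 0)⟩)
 (.leaf ⟨(nat_lit 1), (nat_lit 1), (nat_lit 47), (nat_lit 1), (nat_lit 48)⟩)))))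
 (.node (nat_lit 49) (.node (nat_lit 45) (.node (nat_lit 43) (.leaf ⟨(nat_lit 1), (nat_lit 1), (nat_lit 49), (nat_lit 3), (nat_lit 0)⟩)
 (.node (nat_lit 44) (.leaf ⟨(nat_lit 0), (nat_lit 3), (nat_lit 50), (nat_lit 0), (nat_lit 0)⟩)
 (.leaf ⟨(nat_lit 0), (nat_lit 3), (nat_lit 51), (nat_lit 0), (nat_lit 0)⟩)))
 (.node (nat_lit 47) (.node (nat_lit 46) (.leaf ⟨(nat_lit 0), (nat_lit 3), (nat_lit 52), (nat_lit 0), (nat_lit 0)⟩)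
 (.leaf ⟨(nat_lit 0), (nat_lit 3), (nat_lit 53), (nat_lit 0), (nat_lit 0)⟩))
 (.node (nat_lit 48) (.leaf ⟨(nat_lit 0), (nat_lit 3), (nat_lit 54), (nat_lit 0), (nat_lit 0)⟩)
 (.leaf ⟨(nat_lit 0), (nat_lit 3), (nat_lit 55), (nat_lit 0), (nat_lit 0)⟩))))
 (.node (nat_lit 52) (.node (nat_lit 50) (.leaf ⟨(nat_lit 0), (nat_lit 3), (nat_lit 56), (nat_lit 0), (nat_lit 0)⟩)
 (.node (nat_lit 51) (.leaf ⟨(nat_lit 0), (nat_lit 3), (nat_lit 57), (nat_lit 0), (nat_lit 0)⟩)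
 (.leaf ⟨(nat_lit 1), (nat_lit 2), (nat_lit 58), (nat_lit 3), (nat_lit 59)⟩)))
 (.node (nat_lit 54) (.node (nat_lit 53) (.leaf ⟨(nat_lit 1), (nat_lit 3), (nat_lit 60), (nat_lit 1), (nat_lit 61)⟩)
 (.leaf ⟨(nat_lit 1), (nat_lit 3), (nat_lit 62), (nat_lit 3), (nat_lit 63)⟩))
 (.node (nat_lit 55) (.leaf ⟨(nat_lit 1), (nat_lit 3), (nat_lit 64), (nat_lit 1), (nat_lit 65)⟩)
 (.leaf ⟨(nat_lit 1), (nat_lit 3), (nat_lit 66), (nat_lit 3), (nat_lit 67)⟩)))))))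
 (.node (nat_lit 84) (.node (nat_lit 70) (.node (nat_lit 63) (.node (nat_lit 59) (.node (nat_lit 57) (.leaf ⟨(nat_lit 1), (nat_lit 3), (nat_lit 68), (nat_lit 2), (nat_lit 69)⟩)
 (.node (nat_lit 58) (.leaf ⟨(nat_lit 1), (nat_lit 3), (nat_lit 70), (nat_lit 3), (nat_lit 71)⟩)
 (.leaf ⟨(nat_lit 0), (nat_lit 3), (nat_lit 72), (nat_lit 0), (nat_lit 0)⟩)))
 (.node (nat_lit 61) (.node (nat_lit 60) (.leaf ⟨(nat_lit 0), (nat_lit 3), (nat_lit 73), (nat_lit 0), (nat_lit 0)⟩)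
 (.leaf ⟨(nat_lit 0), (nat_lit 3), (nat_lit 74), (nat_lit 0), (nat_lit 0)⟩))
 (.node (nat_lit 62) (.leaf ⟨(nat_lit 0), (nat_lit 3), (nat_lit 75), (nat_lit 0), (nat_lit 0)⟩)
 (.leaf ⟨(nat_lit 0), (nat_lit 3), (nat_lit 76), (nat_lit 0), (nat_lit 0)⟩))))
 (.node (nat_lit 66) (.node (nat_lit 64) (.leaf ⟨(nat_lit 0), (nat_lit 3), (nat_lit 77), (nat_lit 0), (nat_lit 0)⟩)
 (.node (nat_lit 65) (.leaf ⟨(nat_lit 1), (nat_lit 1), (nat_lit 78), (nat_lit 4), (nat_lit 0)⟩)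
 (.leaf ⟨(nat_lit 0), (nat_lit 4), (nat_lit 79), (nat_lit 0), (nat_lit 0)⟩)))
 (.node (nat_lit 68) (.node (nat_lit 67) (.leaf ⟨(nat_lit 0), (nat_lit 4), (nat_lit 80), (nat_lit 0), (nat_lit 0)⟩)
 (.leaf ⟨(nat_lit 0), (nat_lit 4), (nat_lit 81), (nat_lit 0), (nat_lit 0)⟩))
 (.node (nat_lit 69) (.leaf ⟨(nat_lit 0), (nat_lit 4), (nat_lit 82), (nat_lit 0), (nat_lit 0)⟩)
 (.leaf ⟨(nat_lit 0), (nat_lit 4), (nat_lit 83), (nat_lit 0), (nat_lit 0)⟩)))))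
 (.node (nat_lit 77) (.node (nat_lit 73) (.node (nat_lit 71) (.leaf ⟨(nat_lit 0), (nat_lit 4), (nat_lit 84), (nat_lit 0), (nat_lit 0)⟩)
 (.node (nat_lit 72) (.leaf ⟨(nat_lit 0), (nat_lit 4), (nat_lit 85), (nat_lit 0), (nat_lit 0)⟩)
 (.leaf ⟨(nat_lit 0), (nat_lit 4), (nat_lit 86), (nat_lit 0), (nat_lit 0)⟩)))
 (.node (nat_lit 75) (.node (nat_lit 74) (.leaf ⟨(nat_lit 0), (nat_lit 4), (nat_lit 87), (nat_lit 0), (nat_lit 0)⟩)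
 (.leaf ⟨(nat_lit 1), (nat_lit 3), (nat_lit 88), (nat_lit 4), (nat_lit 89)⟩))
 (.node (nat_lit 76) (.leaf ⟨(nat_lit 1), (nat_lit 4), (nat_lit 90), (nat_lit 3), (nat_lit 91)⟩)
 (.leaf ⟨(nat_lit 1), (nat_lit 4), (nat_lit 92), (nat_lit 4), (nat_lit 93)⟩))))
 (.node (nat_lit 80) (.node (nat_lit 78) (.leaf ⟨(nat_lit 1), (nat_lit 4), (nat_lit 94), (nat_lit 1), (nat_lit 95)⟩)
 (.node (nat_lit 79) (.leaf ⟨(nat_lit 1), (nat_lit 4), (nat_lit 96), (nat_lit 4), (nat_lit 97)⟩)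
 (.leaf ⟨(nat_lit 1), (nat_lit 4), (nat_lit 98), (nat_lit 4), (nat_lit 99)⟩)))
 (.node (nat_lit 82) (.node (nat_lit 81) (.leaf ⟨(nat_lit 0), (nat_lit 4), (nat_lit 100), (nat_lit 0), (nat_lit 0)⟩)
 (.leaf ⟨(nat_lit 0), (nat_lit 4), (nat_lit 101), (nat_lit 0), (nat_lit 0)⟩))
 (.node (nat_lit 83) (.leaf ⟨(nat_lit 0), (nat_lit 4), (nat_lit 102), (nat_lit 0), (nat_lit 0)⟩)
 (.leaf ⟨(nat_lit 0), (nat_lit 4), (nat_lit 103), (nat_lit 0), (nat_lit 0)⟩))))))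
 (.node (nat_lit 98) (.node (nat_lit 91) (.node (nat_lit 87) (.node (nat_lit 85) (.leaf ⟨(nat_lit 0), (nat_lit 4), (nat_lit 104), (nat_lit 0), (nat_lit 0)⟩)
 (.node (nat_lit 86) (.leaf ⟨(nat_lit 0), (nat_lit 4), (nat_lit 105), (nat_lit 0), (nat_lit 0)⟩)
 (.leaf ⟨(nat_lit 1), (nat_lit 1), (nat_lit 106), (nat_lit 0), (nat_lit 107)⟩)))
 (.node (nat_lit 89) (.node (nat_lit 88) (.leaf ⟨(nat_lit 1), (nat_lit 1), (nat_lit 108), (nat_lit 2), (nat_lit 109)⟩)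
 (.leaf ⟨(nat_lit 0), (nat_lit 0), (nat_lit 110), (nat_lit 0), (nat_lit 0)⟩))
 (.node (nat_lit 90) (.leaf ⟨(nat_lit 0), (nat_lit 0), (nat_lit 111), (nat_lit 0), (nat_lit 0)⟩)
 (.leaf ⟨(nat_lit 0), (nat_lit 0), (nat_lit 112), (nat_lit 0), (nat_lit 0)⟩))))
 (.node (nat_lit 94) (.node (nat_lit 92) (.leaf ⟨(nat_lit 0), (nat_lit 0), (nat_lit 113), (nat_lit 0), (nat_lit 0)⟩)
 (.node (nat_lit 93) (.leaf ⟨(nat_lit 0), (nat_lit 0), (nat_lit 114), (nat_lit 0), (nat_lit 0)⟩)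
 (.leaf ⟨(nat_lit 0), (nat_lit 1), (nat_lit 115), (nat_lit 0), (nat_lit 0)⟩)))
 (.node (nat_lit 96) (.node (nat_lit 95) (.leaf ⟨(nat_lit 0), (nat_lit 1), (nat_lit 116), (nat_lit 0), (nat_lit 0)⟩)
 (.leaf ⟨(nat_lit 0), (nat_lit 1), (nat_lit 117), (nat_lit 0), (nat_lit 0)⟩))
 (.node (nat_lit 97) (.leaf ⟨(nat_lit 0), (nat_lit 1), (nat_lit 118), (nat_lit 0), (nat_lit 0)⟩)
 (.leaf ⟨(nat_lit 0), (nat_lit 1), (nat_lit 119), (nat_lit 0), (nat_lit 0)⟩)))))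
 (.node (nat_lit 105) (.node (nat_lit 101) (.node (nat_lit 99) (.leaf ⟨(nat_lit 0), (nat_lit 2), (nat_lit 120), (nat_lit 0), (nat_lit 0)⟩)
 (.node (nat_lit 100) (.leaf ⟨(nat_lit 0), (nat_lit 2), (nat_lit 121), (nat_lit 0), (nat_lit 0)⟩)
 (.leaf ⟨(nat_lit 0), (nat_lit 2), (nat_lit 122), (nat_lit 0), (nat_lit 0)⟩)))
 (.node (nat_lit 103) (.node (nat_lit 102) (.leaf ⟨(nat_lit 0), (nat_lit 2), (nat_lit 123), (nat_lit 0), (nat_lit 0)⟩)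
 (.leaf ⟨(nat_lit 0), (nat_lit 2), (nat_lit 124), (nat_lit 0), (nat_lit 0)⟩))
 (.node (nat_lit 104) (.leaf ⟨(nat_lit 0), (nat_lit 3), (nat_lit 125), (nat_lit 0), (nat_lit 0)⟩)
 (.leaf ⟨(nat_lit 0), (nat_lit 3), (nat_lit 126), (nat_lit 0), (nat_lit 0)⟩))))
 (.node (nat_lit 109) (.node (nat_lit 107) (.node (nat_lit 106) (.leaf ⟨(nat_lit 0), (nat_lit 3), (nat_lit 127), (nat_lit 0), (nat_lit 0)⟩)
 (.leaf ⟨(nat_lit 0), (nat_lit 3), (nat_lit 128), (nat_lit 0), (nat_lit 0)⟩))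
 (.node (nat_lit 108) (.leaf ⟨(nat_lit 0), (nat_lit 3), (nat_lit 129), (nat_lit 0), (nat_lit 0)⟩)
 (.leaf ⟨(nat_lit 0), (nat_lit 4), (nat_lit 130), (nat_lit 0), (nat_lit 0)⟩)))
 (.node (nat_lit 111) (.node (nat_lit 110) (.leaf ⟨(nat_lit 0), (nat_lit 4), (nat_lit 131), (nat_lit 0), (nat_lit 0)⟩)
 (.leaf ⟨(nat_lit 0), (nat_lit 4), (nat_lit 132), (nat_lit 0), (nat_lit 0)⟩))
 (.node (nat_lit 112) (.leaf ⟨(nat_lit 0), (nat_lit 4), (nat_lit 133), (nat_lit 0), (nat_lit 0)⟩)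
 (.leaf ⟨(nat_lit 0), (nat_lit 4), (nat_lit 134), (nat_lit 0), (nat_lit 0)⟩))))))))

def dcC : Ctx := ⟨dcCE, dcCF, [(nat_lit 0, nat_lit 0), (nat_lit 0, nat_lit 11), (nat_lit 0, nat_lit 26), (nat_lit 1, nat_lit 49), (nat_lit 1, nat_lit 78)], nat_lit 87960930234368, true⟩

def dxC : D2.Cx TW := ⟨dcC, D2.thT2 (nat_lit 12288), [xoE], [xoE], [([xoE], [], [xoE]), ([xoE, aE], [aE], [aE, xoE])]⟩

def dcCgi : List (List ℕ) := [[nat_lit 88, nat_lit 89, nat_lit 90, nat_lit 91, nat_lit 92],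
  [nat_lit 93, nat_lit 94, nat_lit 95, nat_lit 96, nat_lit 97],
  [nat_lit 98, nat_lit 99, nat_lit 100, nat_lit 101, nat_lit 102],
  [nat_lit 103, nat_lit 104, nat_lit 105, nat_lit 106, nat_lit 107],
  [nat_lit 108, nat_lit 109, nat_lit 110, nat_lit 111, nat_lit 112]]

def dcCri : List (List ℕ) := [[nat_lit 10, nat_lit 11, nat_lit 24],
  [nat_lit 86, nat_lit 23, nat_lit 41, nat_lit 64, nat_lit 42, nat_lit 87, nat_lit 22],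
  [nat_lit 31, nat_lit 32, nat_lit 33, nat_lit 34, nat_lit 51],
  [nat_lit 52, nat_lit 53, nat_lit 55, nat_lit 56, nat_lit 57, nat_lit 74],
  [nat_lit 75, nat_lit 76, nat_lit 77, nat_lit 78, nat_lit 79]]

theorem dcC_out : allFrom (outB dcC (nat_lit 113) gensC repsC dcCgi dcCri) 0 5 = true := by
  decide +kernel

end

end CF.Mon
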