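import Cfsg.Agent.Mon.Elem

/-! Node data of a double coset enumeration. -/

set_option autoImplicit false
set_option maxRecDepth 100000

namespace CF.Mon

open CF.Comp

noncomputable section

def ndCg0_0 : El := ⟨[nat_lit 0x9055c290c344aed8d54f825943880175a6b, nat_lit 0x50363f43c5264140585d1a5ae5218f51b533, nat_lit 0xaf39cfa052e65c6a7aea084a24b344899cc5], [nat_lit 65536, nat_lit 69632, nat_lit 73728, nat_lit 77824, nat_lit 81920, nat_lit 86016, nat_lit 90112, nat_lit 94208, nat_lit 102400, nat_lit 178176, nat_lit 164608, nat_lit 161024, nat_lit 158720, nat_lit 152256, nat_lit 148160, nat_lit 145896, nat_lit 141608, nat_lit 135250, nat_lit 133208, nat_lit 4020, nat_lit 8116, nat_lit 8200, nat_lit 13600, nat_lit 20384, nat_lit 22528, nat_lit 27648, nat_lit 30720, nat_lit 35840, nat_lit 43008, nat_lit 46602, nat_lit 43321, nat_lit 38112, nat_lit 33490, nat_lit 28674, nat_lit 25134, nat_lit 16389, nat_lit 12359, nat_lit 8208, nat_lit 4097, nat_lit 2, nat_lit 430088, nat_lit 421893,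 nat_lit 405504, nat_lit 160256, nat_lit 144000, nat_lit 131616, nat_lit 45313, nat_lit 41632, nat_lit 24577, nat_lit 16385, nat_lit 8193, nat_lit 4097, nat_lit 327680]⟩
def ndCg0_1 : El := ⟨[nat_lit 0x748441aa60ab14d3a3e2cb8640134e820dcb, nat_lit 0x4d874ba9c4480e910b2cd481779190f9a9c5, nat_lit 0x5f63096d08eb4cf193d008304a5dd260d465, nat_lit 0x42e1d740a4a831e0b4c3559a8d492ee88ce5], [nat_lit 65536, nat_lit 69632, nat_lit 73728, nat_lit 94208, nat_lit 106496, nat_lit 173056, nat_lit 169472, nat_lit 165632, nat_lit 160640, nat_lit 157184, nat_lit 151872, nat_lit 148960, nat_lit 145336, nat_lit 140428, nat_lit 138618, nat_lit 131073, nat_lit 2634, nat_lit 4100, nat_lit 9952, nat_lit 15504, nat_lit 18112, nat_lit 23232, nat_lit 25344, nat_lit 32512, nat_lit 34816, nat_lit 37888, nat_lit 46916, nat_lit 41781, nat_lit 37221, nat_lit 33435, nat_lit 28986, nat_lit 24719, nat_lit 20494, nat_lit 16398, nat_lit 12308, nat_lit 8209, nat_lit 4100, nat_lit 2, nat_lit 438282, nat_lit 430088,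 nat_lit 421894, nat_lit 413700, nat_lit 405504, nat_lit 174080, nat_lit 171008, nat_lit 167424, nat_lit 163072, nat_lit 158336, nat_lit 153920, nat_lit 150368, nat_lit 145984, nat_lit 134152, nat_lit 8193, nat_lit 4097, nat_lit 327680]⟩
def ndCg0_2 : El := ⟨[nat_lit 0x2248d204461534b79c242a39077acd6232a9, nat_lit 0x9a00a5bb2d458e4641c33124916beae81540, nat_lit 0x781be829ac40b6297811058e6e50992a9ef4], [nat_lit 65536, nat_lit 69632, nat_lit 73728, nat_lit 77824, nat_lit 81920, nat_lit 94208, nat_lit 102400, nat_lit 175104, nat_lit 169984, nat_lit 165632, nat_lit 163200, nat_lit 156928, nat_lit 154240, nat_lit 147680, nat_lit 146952, nat_lit 142664, nat_lit 139246, nat_lit 132063, nat_lit 830, nat_lit 4100, nat_lit 9016, nat_lit 14848, nat_lit 20352, nat_lit 23744, nat_lit 28032, nat_lit 30976, nat_lit 36352, nat_lit 39936, nat_lit 43008, nat_lit 46323, nat_lit 41526, nat_lit 37105, nat_lit 32794, nat_lit 28729, nat_lit 25141, nat_lit 20505, nat_lit 16431, nat_lit 12324, nat_lit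 8195, nat_lit 4100, nat_lit 2, nat_lit 425991, nat_lit 417796, nat_lit 405504, nat_lit 155904, nat_lit 147904, nat_lit 143760, nat_lit 131144, nat_lit 45065, nat_lit 41040, nat_lit 37017, nat_lit 20488, nat_lit 8193, nat_lit 4097]⟩
def ndCg0_3 : El := ⟨[nat_lit 0xe8bd126aa0201ac12399494cb74a0f55c5e3, nat_lit 0xdee421019e28b4b265ae7a4c28855237116a, nat_lit 0xed281704ae79b17035623511e568502b51c9, nat_lit 0xb82e1b899b4b20176564428ceb5382f12613], [nat_lit 65536, nat_lit 69632, nat_lit 73728, nat_lit 86016, nat_lit 98304, nat_lit 102400, nat_lit 106496, nat_lit 110592, nat_lit 173056, nat_lit 169472, nat_lit 159872, nat_lit 156928, nat_lit 152064, nat_lit 147984, nat_lit 144064, nat_lit 141700, nat_lit 138442, nat_lit 131110, nat_lit 2182, nat_lit 4100, nat_lit 10368, nat_lit 14768, nat_lit 18560, nat_lit 22272, nat_lit 27392, nat_lit 29952, nat_lit 35328, nat_lit 37888, nat_lit 45586, nat_lit 41705, nat_lit 36974, nat_lit 32848, nat_lit 29767, nat_lit 24590, nat_lit 20508, nat_lit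 16386, nat_lit 8195, nat_lit 4100, nat_lit 2, nat_lit 438282, nat_lit 430088, nat_lit 421894, nat_lit 413700, nat_lit 405504, nat_lit 169984, nat_lit 164864, nat_lit 163584, nat_lit 158208, nat_lit 151680, nat_lit 148192, nat_lit 147024, nat_lit 133616, nat_lit 8193, nat_lit 4097]⟩
def ndCg0_4 : El := ⟨[nat_lit 0x5a5c3532164b06e200e9529d2a732509c5af, nat_lit 0x4884d28aacf320492c830231a0b9e8372e75, nat_lit 0xa050a390c8d1281582e746592eb950678627, nat_lit 0x21e421826330b2e53d5c06d04620df652172], [nat_lit 81920, nat_lit 90112, nat_lit 94208, nat_lit 98304, nat_lit 102400, nat_lit 106496, nat_lit 174080, nat_lit 168960, nat_lit 167680, nat_lit 163584, nat_lit 158400, nat_lit 152288, nat_lit 147680, nat_lit 143808, nat_lit 141032, nat_lit 138042, nat_lit 133991, nat_lit 318, nat_lit 4100, nat_lit 8504, nat_lit 14912, nat_lit 16608, nat_lit 22848, nat_lit 24960, nat_lit 31744, nat_lit 34816, nat_lit 38912, nat_lit 43008, nat_lit 45168, nat_lit 41104, nat_lit 37279, nat_lit 33481,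 nat_lit 29184, nat_lit 24608, nat_lit 20572, nat_lit 16398, nat_lit 12291, nat_lit 8195, nat_lit 4100, nat_lit 438282, nat_lit 430088, nat_lit 421894, nat_lit 413700, nat_lit 405504, nat_lit 167424, nat_lit 161024, nat_lit 151872, nat_lit 147744, nat_lit 144480, nat_lit 131624, nat_lit 8193, nat_lit 4097]⟩
def ndCr0_0 : El := ⟨[], []⟩
def ndCr0_1 : El := ⟨[nat_lit 0x6a96c92dc823a190a0d6a035d60d65133d33, nat_lit 0x8bb8e42a149ac5c159c8604acda4c4c1ddf0, nat_lit 0xc9cfaf9b8e515544a24c15c5881c80d85aef], [nat_lit 65536, nat_lit 69632, nat_lit 86016, nat_lit 90112, nat_lit 94208, nat_lit 98304, nat_lit 106496, nat_lit 168960, nat_lit 164864, nat_lit 161408, nat_lit 156800, nat_lit 155520, nat_lit 151344, nat_lit 147048, nat_lit 142088, nat_lit 138008, nat_lit 132419, nat_lit 494, nat_lit 5856, nat_lit 9472, nat_lit 14528, nat_lit 16896, nat_lit 21248, nat_lit 25344, nat_lit 28928, nat_lit 37888, nat_lit 43008, nat_lit 45908, nat_lit 41371, nat_lit 37272, nat_lit 33299, nat_lit 28940,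 nat_lit 26657, nat_lit 20493, nat_lit 16459, nat_lit 12292, nat_lit 8201, nat_lit 4112, nat_lit 425991, nat_lit 417797, nat_lit 405506, nat_lit 156032, nat_lit 151936, nat_lit 143680, nat_lit 139304, nat_lit 45060, nat_lit 41408, nat_lit 37036]⟩
def ndCr0_2 : El := ⟨[nat_lit 0xaac6391f3a20650aac6041a265e3572572, nat_lit 0x2b8124ad846785c5ba5b21acea0123383288, nat_lit 0xf595f52a1877aab69ae2ea48c04b423bc044, nat_lit 0xf5303c90670b34e91022372cb5221f7550cc], [nat_lit 94208, nat_lit 102400, nat_lit 110592, nat_lit 174080, nat_lit 171520, nat_lit 165376, nat_lit 163712, nat_lit 157376, nat_lit 152640, nat_lit 148032, nat_lit 147216, nat_lit 142772, nat_lit 136104, nat_lit 134768, nat_lit 1896, nat_lit 5992, nat_lit 10632, nat_lit 16016, nat_lit 19968, nat_lit 24192, nat_lit 25856, nat_lit 30208, nat_lit 36352, nat_lit 38912, nat_lit 45930, nat_lit 41406, nat_lit 36971, nat_lit 32910, nat_lit 28972, nat_lit 25147, nat_lit 20611, nat_lit 16396, nat_lit 12306, nat_lit 8200, nat_lit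 4097, nat_lit 2, nat_lit 434185, nat_lit 425991, nat_lit 417797, nat_lit 409603, nat_lit 401408, nat_lit 168960, nat_lit 165376, nat_lit 160512, nat_lit 157568, nat_lit 151872, nat_lit 144384, nat_lit 140368, nat_lit 131972, nat_lit 46040, nat_lit 4097]⟩
def ndCg1_0 : El := ⟨[nat_lit 0xbbe48448a6d1a1f289a903b99722976a9420], [nat_lit 65536, nat_lit 69632, nat_lit 73728, nat_lit 94208, nat_lit 98304, nat_lit 106496, nat_lit 175104, nat_lit 171520, nat_lit 164352, nat_lit 160384, nat_lit 158720, nat_lit 153760, nat_lit 151216, nat_lit 146064, nat_lit 143280, nat_lit 138844, nat_lit 134053, nat_lit 256, nat_lit 4352, nat_lit 8296, nat_lit 13648, nat_lit 19648, nat_lit 24128, nat_lit 26624, nat_lit 30208, nat_lit 34816, nat_lit 37888, nat_lit 41171, nat_lit 37304, nat_lit 32845, nat_lit 28682, nat_lit 24845, nat_lit 21021, nat_lit 16897, nat_lit 12306, nat_lit 8225]⟩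
def ndCg1_1 : El := ⟨[nat_lit 0x742e8761ee595a2d41202a2d2f98d4675420], [nat_lit 73728, nat_lit 86016, nat_lit 90112, nat_lit 94208, nat_lit 102400, nat_lit 106496, nat_lit 178176, nat_lit 174080, nat_lit 171520, nat_lit 164864, nat_lit 163456, nat_lit 159488, nat_lit 154368, nat_lit 149744, nat_lit 144192, nat_lit 141500, nat_lit 136614, nat_lit 133906, nat_lit 2, nat_lit 5856, nat_lit 10576, nat_lit 12976, nat_lit 17152, nat_lit 22080, nat_lit 27648, nat_lit 31744, nat_lit 37888, nat_lit 41811, nat_lit 37035, nat_lit 33824, nat_lit 28730, nat_lit 24887, nat_lit 20491, nat_lit 16513, nat_lit 12295, nat_lit 8201, nat_lit 4101, nat_lit 2, nat_lit 327680]⟩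
def ndCg1_2 : El := ⟨[nat_lit 0x6f5a3a3952310e39b5355c1f74599111420], [nat_lit 73728, nat_lit 90112, nat_lit 173056, nat_lit 171520, nat_lit 164864, nat_lit 158848, nat_lit 153312, nat_lit 151360, nat_lit 144536, nat_lit 140600, nat_lit 138464, nat_lit 133743, nat_lit 16, nat_lit 4112, nat_lit 8320, nat_lit 12416, nat_lit 18944, nat_lit 22784, nat_lit 25856, nat_lit 35328, nat_lit 37888, nat_lit 41785, nat_lit 38326, nat_lit 33996, nat_lit 29003, nat_lit 24877, nat_lit 20622, nat_lit 12356, nat_lit 8200]⟩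
def ndCg1_3 : El := ⟨[nat_lit 0x6ff33c8deb3b42541a922714cd790ec5a020], [nat_lit 73728, nat_lit 77824, nat_lit 90112, nat_lit 94208, nat_lit 102400, nat_lit 178176, nat_lit 175104, nat_lit 169984, nat_lit 164608, nat_lit 161024, nat_lit 159552, nat_lit 154144, nat_lit 148800, nat_lit 143904, nat_lit 142588, nat_lit 135690, nat_lit 133529, nat_lit 2112, nat_lit 6208, nat_lit 10360, nat_lit 15312, nat_lit 17184, nat_lit 20736, nat_lit 24832, nat_lit 32000, nat_lit 36352, nat_lit 39936, nat_lit 41328, nat_lit 37184, nat_lit 33525, nat_lit 28711, nat_lit 24608, nat_lit 20567, nat_lit 16417, nat_lit 12290, nat_lit 8210, nat_lit 327680]⟩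
def ndCg1_4 : El := ⟨[nat_lit 0x5036c0aad45a3986bc6076cc68125f2b1020], [nat_lit 77824, nat_lit 81920, nat_lit 173056, nat_lit 171008, nat_lit 164608, nat_lit 161792, nat_lit 156736, nat_lit 153504, nat_lit 148160, nat_lit 145808, nat_lit 139668, nat_lit 137356, nat_lit 132463, nat_lit 1972, nat_lit 6068, nat_lit 10144, nat_lit 12976, nat_lit 23680, nat_lit 24960, nat_lit 31744, nat_lit 41830, nat_lit 38344, nat_lit 32788, nat_lit 29282, nat_lit 24728, nat_lit 21018, nat_lit 16388, nat_lit 12289]⟩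
def ndCr1_0 : El := ⟨[], [nat_lit 110592]⟩
def ndCr1_1 : El := ⟨[], []⟩
def ndCr1_2 : El := ⟨[nat_lit 0xe444d70dab155ccc4128f6b8128092b98ca7, nat_lit 0xccf093985e5891c04d96861c52a555730db0, nat_lit 0xfa3f3c9b2085b42272af58809495865499e7], [nat_lit 65536, nat_lit 69632, nat_lit 86016, nat_lit 90112, nat_lit 94208, nat_lit 98304, nat_lit 106496, nat_lit 168960, nat_lit 164864, nat_lit 161408, nat_lit 156800, nat_lit 155520, nat_lit 151344, nat_lit 147048, nat_lit 142088, nat_lit 138008, nat_lit 132419, nat_lit 494, nat_lit 5856, nat_lit 9472, nat_lit 14528, nat_lit 16896, nat_lit 21248, nat_lit 25344, nat_lit 28928, nat_lit 37888, nat_lit 43008, nat_lit 45908, nat_lit 41371, nat_lit 37272, nat_lit 33299, nat_lit 28940, nat_lit 26657, nat_lit 20493, nat_lit 16459, nat_lit 12292, nat_lit 8201, nat_lit 4112, nat_lit 425991, nat_lit 417797, nat_lit 405506, nat_lit 156032, nat_lit 151936, nat_lit 143680, nat_lit 139304, nat_lit 45060, nat_lit 41408, nat_lit 37036]⟩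
def ndCr1_3 : El := ⟨[nat_lit 0xe4eeee325e50a980aa1b4b88933cac38c1cb, nat_lit 0xbe2447a09b560d6925e687c830b2a2571cc0, nat_lit 0x7bb71b435cc91455092f134e835a92f81c16, nat_lit 0x72b2b86aa543c0114cdd53090b78cacb8496], [nat_lit 94208, nat_lit 102400, nat_lit 110592, nat_lit 174080, nat_lit 171520, nat_lit 165376, nat_lit 163712, nat_lit 157376, nat_lit 152640, nat_lit 148032, nat_lit 147216, nat_lit 142772, nat_lit 136104, nat_lit 134768, nat_lit 1896, nat_lit 5992, nat_lit 10632, nat_lit 16016, nat_lit 19968, nat_lit 24192, nat_lit 25856, nat_lit 30208, nat_lit 36352, nat_lit 38912, nat_lit 45930, nat_lit 41406, nat_lit 36971, nat_lit 32910, nat_lit 28972, nat_lit 25147, nat_lit 20611, nat_lit 16396, nat_lit 12306, nat_lit 8200, nat_lit 4097, nat_lit 2, nat_lit 434185, nat_lit 425991, nat_lit 417797, nat_lit 409603, nat_lit 401408, nat_lit 168960, nat_lit 165376, nat_lit 160512, nat_lit 157568, nat_lit 151872, nat_lit 144384, nat_lit 140368, nat_lit 131972, nat_lit 46040, nat_lit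 4097]⟩
def ndCr1_4 : El := ⟨[nat_lit 0xfac0c37c4472aec408155431b470e664c257, nat_lit 0x7447e430cb703dd4aac2988a162351264d47, nat_lit 0xf03c55b14c9431d7580540b4913c86faaa13], [nat_lit 65536, nat_lit 69632, nat_lit 77824, nat_lit 81920, nat_lit 86016, nat_lit 94208, nat_lit 169984, nat_lit 165376, nat_lit 157504, nat_lit 153344, nat_lit 147952, nat_lit 145496, nat_lit 142540, nat_lit 138464, nat_lit 132874, nat_lit 2898, nat_lit 8016, nat_lit 8456, nat_lit 12880, nat_lit 19264, nat_lit 22848, nat_lit 27392, nat_lit 28928, nat_lit 33280, nat_lit 39936, nat_lit 47088, nat_lit 43738, nat_lit 39350, nat_lit 34031, nat_lit 28997, nat_lit 24873, nat_lit 20549, nat_lit 16392, nat_lit 12307, nat_lit 8193, nat_lit 4104, nat_lit 434184, nat_lit 421893, nat_lit 409603, nat_lit 401408, nat_lit 144768, nat_lit 139400, nat_lit 132524, nat_lit 46336, nat_lit 24584, nat_lit 4097]⟩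
def ndCr1_5 : El := ⟨[nat_lit 0xa0a0ac9ad17736d260d240d41111d4f2d206, nat_lit 0x6350cf6927618028640d771e91a95f212969], [nat_lit 65536, nat_lit 69632, nat_lit 77824, nat_lit 81920, nat_lit 86016, nat_lit 90112, nat_lit 98304, nat_lit 175104, nat_lit 171520, nat_lit 165632, nat_lit 160384, nat_lit 158592, nat_lit 155392, nat_lit 149264, nat_lit 145952, nat_lit 140380, nat_lit 137184, nat_lit 133217, nat_lit 4008, nat_lit 8104, nat_lit 11272, nat_lit 16320, nat_lit 16448, nat_lit 21696, nat_lit 26240, nat_lit 30208, nat_lit 36352, nat_lit 38912, nat_lit 43008, nat_lit 45088, nat_lit 41883, nat_lit 38267, nat_lit 33991, nat_lit 28740, nat_lit 24749, nat_lit 20550, nat_lit 16647, nat_lit 12307, nat_lit 8225, nat_lit 4097, nat_lit 421893, nat_lit 409600, nat_lit 151680, nat_lit 147616, nat_lit 131216, nat_lit 41137, nat_lit 32784, nat_lit 24577, nat_lit 8193, nat_lit 4097]⟩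
def ndCr1_6 : El := ⟨[nat_lit 0xf0335a505c0bbd16691278b20ba0a45accc3, nat_lit 0xc0c5fc5a9288c25300c417b98d39885aded4], [nat_lit 73728, nat_lit 77824, nat_lit 86016, nat_lit 90112, nat_lit 94208, nat_lit 102400, nat_lit 106496, nat_lit 110592, nat_lit 171520, nat_lit 166912, nat_lit 163456, nat_lit 157248, nat_lit 154528, nat_lit 147520, nat_lit 145024, nat_lit 142524, nat_lit 138078, nat_lit 134185, nat_lit 3072, nat_lit 7168, nat_lit 9136, nat_lit 13104, nat_lit 17152, nat_lit 23040, nat_lit 26112, nat_lit 30720, nat_lit 36352, nat_lit 39936, nat_lit 45076, nat_lit 41652, nat_lit 37989, nat_lit 32991, nat_lit 24588, nat_lit 21528, nat_lit 16397, nat_lit 12308, nat_lit 8194, nat_lit 4097, nat_lit 2, nat_lit 425989, nat_lit 409600, nat_lit 151808, nat_lit 147744, nat_lit 131088, nat_lit 40976, nat_lit 28688, nat_lit 12289, nat_lit 8193, nat_lit 4097]⟩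
def ndCg2_0 : El := ⟨[nat_lit 0x936c9a628a7b3ea84c1d234ee30c4945880d, nat_lit 0xfacfcc4c6ac7aa1439845b366820c015de4e, nat_lit 0x8ee14b9096750490b25886ceb11828fb98ae], [nat_lit 65536, nat_lit 69632, nat_lit 73728, nat_lit 77824, nat_lit 94208, nat_lit 106496, nat_lit 110592, nat_lit 174080, nat_lit 171520, nat_lit 165376, nat_lit 160384, nat_lit 157952, nat_lit 152928, nat_lit 150416, nat_lit 143368, nat_lit 141628, nat_lit 136820, nat_lit 132952, nat_lit 928, nat_lit 5024, nat_lit 8704, nat_lit 14176, nat_lit 19616, nat_lit 23552, nat_lit 27520, nat_lit 31488, nat_lit 36352, nat_lit 38912, nat_lit 46758, nat_lit 43469, nat_lit 38116, nat_lit 33301, nat_lit 28980, nat_lit 24605, nat_lit 20630, nat_lit 16428, nat_lit 8209, nat_lit 4097, nat_lit 2, nat_lit 434183, nat_lit 417795, nat_lit 401408, nat_lit 160768, nat_lit 156800, nat_lit 140416, nat_lit 132104, nat_lit 45061, nat_lit 36865, nat_lit 32973, nat_lit 20481, nat_lit 16388, nat_lit 4097, nat_lit 327680]⟩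
def ndCg2_1 : El := ⟨[nat_lit 0xc30093111b144256a002b73d3555ce698d85, nat_lit 0x71e1b400c4f342a92cecaa4967412370b1ae], [nat_lit 81920, nat_lit 86016, nat_lit 90112, nat_lit 94208, nat_lit 98304, nat_lit 102400, nat_lit 174080, nat_lit 169984, nat_lit 164096, nat_lit 160896, nat_lit 158208, nat_lit 153696, nat_lit 151328, nat_lit 145064, nat_lit 140040, nat_lit 138060, nat_lit 135150, nat_lit 4014, nat_lit 6028, nat_lit 12200, nat_lit 13920, nat_lit 16736, nat_lit 22336, nat_lit 27776, nat_lit 29952, nat_lit 33280, nat_lit 38912, nat_lit 45147, nat_lit 41612, nat_lit 38076, nat_lit 32994, nat_lit 28736, nat_lit 24613, nat_lit 20573, nat_lit 16423, nat_lit 12306, nat_lit 8194, nat_lit 4101, nat_lit 417796, nat_lit 405504, nat_lit 147520, nat_lit 143424, nat_lit 131144, nat_lit 41049, nat_lit 36880, nat_lit 32857, nat_lit 20481, nat_lit 8193, nat_lit 4097]⟩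
def ndCg2_2 : El := ⟨[nat_lit 0x6c50c070d8f44ae7341560804d2cea9a2e24, nat_lit 0x2e278b645c0799159dc764d0ad248e28054b], [nat_lit 65536, nat_lit 69632, nat_lit 73728, nat_lit 77824, nat_lit 90112, nat_lit 110592, nat_lit 169984, nat_lit 167168, nat_lit 161024, nat_lit 158656, nat_lit 155520, nat_lit 148624, nat_lit 145888, nat_lit 140476, nat_lit 135524, nat_lit 132546, nat_lit 3382, nat_lit 7404, nat_lit 12264, nat_lit 12672, nat_lit 17216, nat_lit 23040, nat_lit 27520, nat_lit 32000, nat_lit 33792, nat_lit 39936, nat_lit 47086, nat_lit 43561, nat_lit 36889, nat_lit 33806, nat_lit 28759, nat_lit 24604, nat_lit 22558, nat_lit 16398, nat_lit 12310, nat_lit 8211, nat_lit 4113, nat_lit 417795, nat_lit 401408, nat_lit 143424, nat_lit 139272, nat_lit 40968, nat_lit 36865, nat_lit 32845, nat_lit 20484, nat_lit 16388, nat_lit 4097]⟩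
def ndCg2_3 : El := ⟨[nat_lit 0x4b8d17aa6e7a442d12c809c9051c1967194f, nat_lit 0xa3f338464db09049bdcc01d541d525b982b, nat_lit 0x8d178e94cb53a6e830e82628115c02e23db6], [nat_lit 73728, nat_lit 81920, nat_lit 86016, nat_lit 90112, nat_lit 94208, nat_lit 98304, nat_lit 178176, nat_lit 173056, nat_lit 168960, nat_lit 166656, nat_lit 162688, nat_lit 157440, nat_lit 152544, nat_lit 149136, nat_lit 146384, nat_lit 140464, nat_lit 138162, nat_lit 134431, nat_lit 26, nat_lit 6680, nat_lit 11256, nat_lit 16112, nat_lit 17664, nat_lit 24256, nat_lit 26624, nat_lit 33280, nat_lit 39936, nat_lit 43008, nat_lit 46374, nat_lit 41895, nat_lit 38042, nat_lit 32966, nat_lit 28711, nat_lit 24585, nat_lit 20490, nat_lit 16396, nat_lit 12305, nat_lit 8193, nat_lit 4129, nat_lit 2, nat_lit 434183, nat_lit 417795, nat_lit 401408, nat_lit 160768, nat_lit 156672, nat_lit 144448, nat_lit 140352, nat_lit 132300, nat_lit 45061, nat_lit 36865, nat_lit 32968, nat_lit 20481, nat_lit 16388, nat_lit 4097]⟩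
def ndCg2_4 : El := ⟨[nat_lit 0xe717248b434416531c196539e6bd4e912c04, nat_lit 0xde4ee7106e06c9071d2b67acb05126c4c4ce, nat_lit 0x7d2b249140f9c28922ae769a220a0755b996], [nat_lit 65536, nat_lit 69632, nat_lit 73728, nat_lit 98304, nat_lit 178176, nat_lit 175104, nat_lit 168448, nat_lit 165376, nat_lit 161280, nat_lit 157120, nat_lit 154560, nat_lit 143824, nat_lit 141252, nat_lit 138666, nat_lit 131942, nat_lit 3184, nat_lit 7280, nat_lit 9280, nat_lit 12576, nat_lit 16896, nat_lit 24256, nat_lit 26112, nat_lit 32000, nat_lit 39936, nat_lit 43008, nat_lit 46001, nat_lit 41041, nat_lit 37281, nat_lit 32987, nat_lit 28953, nat_lit 24619, nat_lit 20570, nat_lit 16421, nat_lit 12356, nat_lit 4097, nat_lit 434183, nat_lit 417795, nat_lit 401408, nat_lit 160768, nat_lit 156672, nat_lit 144448, nat_lit 140352, nat_lit 132300, nat_lit 45061, nat_lit 36865, nat_lit 32968, nat_lit 20481, nat_lit 16388, nat_lit 4097, nat_lit 327680]⟩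
def ndCr2_0 : El := ⟨[nat_lit 0x6f95af9454875196114e37ddb59c12b30081, nat_lit 0x99ccf4428d398814de4c54df67457528c02], [nat_lit 65536, nat_lit 69632, nat_lit 77824, nat_lit 106496, nat_lit 178176, nat_lit 173056, nat_lit 170496, nat_lit 165888, nat_lit 162816, nat_lit 157248, nat_lit 152896, nat_lit 150224, nat_lit 145056, nat_lit 142032, nat_lit 136886, nat_lit 134040, nat_lit 1570, nat_lit 5120, nat_lit 9616, nat_lit 14992, nat_lit 17824, nat_lit 22016, nat_lit 27520, nat_lit 30464, nat_lit 38912, nat_lit 43008, nat_lit 45201, nat_lit 41769, nat_lit 37923, nat_lit 32913, nat_lit 28767, nat_lit 24716, nat_lit 20497, nat_lit 16425, nat_lit 12311, nat_lit 8200, nat_lit 4100, nat_lit 2, nat_lit 421893, nat_lit 409600, nat_lit 151680, nat_lit 147616, nat_lit 131216, nat_lit 41137, nat_lit 32784, nat_lit 24577, nat_lit 8193, nat_lit 4097, nat_lit 327680]⟩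
def ndCr2_1 : El := ⟨[nat_lit 0x2877e17a13055ca364ce61508b0b62075ab2, nat_lit 0x936c6511d955b9f0b34811cc08a4aea4c4a6], [nat_lit 65536, nat_lit 69632, nat_lit 81920, nat_lit 86016, nat_lit 106496, nat_lit 110592, nat_lit 178176, nat_lit 175104, nat_lit 168448, nat_lit 166656, nat_lit 161792, nat_lit 157760, nat_lit 153440, nat_lit 148784, nat_lit 143576, nat_lit 143200, nat_lit 136662, nat_lit 133259, nat_lit 4020, nat_lit 8116, nat_lit 11656, nat_lit 13568, nat_lit 16416, nat_lit 24512, nat_lit 27136, nat_lit 29952, nat_lit 35328, nat_lit 39936, nat_lit 45498, nat_lit 41793, nat_lit 37367, nat_lit 33313, nat_lit 28794, nat_lit 24754, nat_lit 12290, nat_lit 8193, nat_lit 4097, nat_lit 2, nat_lit 413699, nat_lit 401408, nat_lit 143392, nat_lit 139296, nat_lit 40964, nat_lit 32776, nat_lit 28704, nat_lit 24580, nat_lit 16392, nat_lit 4097]⟩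
def ndCr2_2 : El := ⟨[nat_lit 0x69a3a945aef98ea68456ca48a27002a49c8d, nat_lit 0xcaaff6731eda56f684e3210c015a12a298e4], [nat_lit 73728, nat_lit 77824, nat_lit 86016, nat_lit 90112, nat_lit 94208, nat_lit 102400, nat_lit 106496, nat_lit 110592, nat_lit 171520, nat_lit 166912, nat_lit 163456, nat_lit 157248, nat_lit 154528, nat_lit 147520, nat_lit 145024, nat_lit 142524, nat_lit 138078, nat_lit 134185, nat_lit 3072, nat_lit 7168, nat_lit 9136, nat_lit 13104, nat_lit 17152, nat_lit 23040, nat_lit 26112, nat_lit 30720, nat_lit 36352, nat_lit 39936, nat_lit 45076, nat_lit 41652, nat_lit 37989, nat_lit 32991, nat_lit 24588, nat_lit 21528, nat_lit 16397, nat_lit 12308, nat_lit 8194, nat_lit 4097, nat_lit 2, nat_lit 425989, nat_lit 409600, nat_lit 151808, nat_lit 147744, nat_lit 131088, nat_lit 40976, nat_lit 28688, nat_lit 12289, nat_lit 8193, nat_lit 4097]⟩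
def ndCr2_3 : El := ⟨[nat_lit 0xcc5aaaa3564b30a80881190e1371937abcea, nat_lit 0x5fa05384e51ade9621cc5080624256a639ed], [nat_lit 65536, nat_lit 69632, nat_lit 86016, nat_lit 98304, nat_lit 102400, nat_lit 178176, nat_lit 173056, nat_lit 166144, nat_lit 162816, nat_lit 158400, nat_lit 155584, nat_lit 147824, nat_lit 146512, nat_lit 142792, nat_lit 137112, nat_lit 134649, nat_lit 1142, nat_lit 5748, nat_lit 9328, nat_lit 15616, nat_lit 17312, nat_lit 21568, nat_lit 24960, nat_lit 29184, nat_lit 35840, nat_lit 46161, nat_lit 41672, nat_lit 38232, nat_lit 33532, nat_lit 29257, nat_lit 24710, nat_lit 20758, nat_lit 16385, nat_lit 12320, nat_lit 8194, nat_lit 4101, nat_lit 425989, nat_lit 409600, nat_lit 151808, nat_lit 147744, nat_lit 131088, nat_lit 40976, nat_lit 28688, nat_lit 12289, nat_lit 8193, nat_lit 4097, nat_lit 327680]⟩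
def ndCr2_4 : El := ⟨[nat_lit 0xa3a6996841254d6f408f71a4d4230b0ac6ce, nat_lit 0x2778e10dcd49550e2b582192334d9f002967, nat_lit 0x30f9a944cf2185666348ab3e20a09d0aa6e5, nat_lit 0x9aa593abcec4155612dd0bce246c80935061], [nat_lit 94208, nat_lit 102400, nat_lit 110592, nat_lit 174080, nat_lit 171520, nat_lit 165376, nat_lit 163712, nat_lit 157376, nat_lit 152640, nat_lit 148032, nat_lit 147216, nat_lit 142772, nat_lit 136104, nat_lit 134768, nat_lit 1896, nat_lit 5992, nat_lit 10632, nat_lit 16016, nat_lit 19968, nat_lit 24192, nat_lit 25856, nat_lit 30208, nat_lit 36352, nat_lit 38912, nat_lit 45930, nat_lit 41406, nat_lit 36971, nat_lit 32910, nat_lit 28972, nat_lit 25147, nat_lit 20611, nat_lit 16396, nat_lit 12306, nat_lit 8200, nat_lit 4097, nat_lit 2, nat_lit 434185, nat_lit 425991, nat_lit 417797, nat_lit 409603, nat_lit 401408, nat_lit 168960, nat_lit 165376, nat_lit 160512, nat_lit 157568, nat_lit 151872, nat_lit 144384, nat_lit 140368, nat_lit 131972, nat_lit 46040, nat_lit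 4097]⟩
def ndCg3_0 : El := ⟨[nat_lit 0x9ca03f942226168b71aaab9d2f4349698c01, nat_lit 0x128dde38db558600a491699126115f78b14e, nat_lit 0xd74b446504b6a4750aacf3cc8605d0e2c612], [nat_lit 73728, nat_lit 81920, nat_lit 94208, nat_lit 98304, nat_lit 178176, nat_lit 174080, nat_lit 164608, nat_lit 161408, nat_lit 158656, nat_lit 153888, nat_lit 149424, nat_lit 143792, nat_lit 142948, nat_lit 137314, nat_lit 131894, nat_lit 2628, nat_lit 6724, nat_lit 8200, nat_lit 15856, nat_lit 19712, nat_lit 22272, nat_lit 28032, nat_lit 29184, nat_lit 35328, nat_lit 38912, nat_lit 46096, nat_lit 41491, nat_lit 37295, nat_lit 32991, nat_lit 28729, nat_lit 24611, nat_lit 20563, nat_lit 16399, nat_lit 12308, nat_lit 8211, nat_lit 4097, nat_lit 425991, nat_lit 417797, nat_lit 409603, nat_lit 401408, nat_lit 160000, nat_lit 155904, nat_lit 151616, nat_lit 147680, nat_lit 143408, nat_lit 139288, nat_lit 131256, nat_lit 45088, nat_lit 41320, nat_lit 36988, nat_lit 4097, nat_lit 327680]⟩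
def ndCg3_1 : El := ⟨[nat_lit 0x3090355d5f4816c37240144a6c21d4d11af1, nat_lit 0xa666a5a4c9068d7233eae8a180ba8e92d822, nat_lit 0x609a503a6b451460b3e62686f15ca06221cc], [nat_lit 65536, nat_lit 69632, nat_lit 77824, nat_lit 81920, nat_lit 86016, nat_lit 90112, nat_lit 106496, nat_lit 178176, nat_lit 173056, nat_lit 171008, nat_lit 166912, nat_lit 161536, nat_lit 156608, nat_lit 152832, nat_lit 151328, nat_lit 145296, nat_lit 141324, nat_lit 136242, nat_lit 133237, nat_lit 1024, nat_lit 5120, nat_lit 12264, nat_lit 12784, nat_lit 19872, nat_lit 21824, nat_lit 26112, nat_lit 30208, nat_lit 37888, nat_lit 45287, nat_lit 41937, nat_lit 37166, nat_lit 33462, nat_lit 29036, nat_lit 24764, nat_lit 20495, nat_lit 16526, nat_lit 12294, nat_lit 8201, nat_lit 4097, nat_lit 2, nat_lit 425991, nat_lit 417797, nat_lit 409603, nat_lit 401408, nat_lit 155776, nat_lit 151936, nat_lit 147680, nat_lit 143808, nat_lit 139472, nat_lit 131388, nat_lit 45080, nat_lit 41069, nat_lit 37181, nat_lit 4097]⟩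
def ndCg3_2 : El := ⟨[nat_lit 0xb441427d197755b688032494eb80c5321948, nat_lit 0x565500ab24f9d16801da985cc51c456511c1, nat_lit 0xd114210ba48b10e55360378a2b62660352b7], [nat_lit 65536, nat_lit 69632, nat_lit 77824, nat_lit 81920, nat_lit 98304, nat_lit 110592, nat_lit 178176, nat_lit 175104, nat_lit 171520, nat_lit 166144, nat_lit 163200, nat_lit 157568, nat_lit 155392, nat_lit 146720, nat_lit 142320, nat_lit 136400, nat_lit 132305, nat_lit 2176, nat_lit 6272, nat_lit 10264, nat_lit 15920, nat_lit 19456, nat_lit 24320, nat_lit 30720, nat_lit 35328, nat_lit 45587, nat_lit 40964, nat_lit 36867, nat_lit 32943, nat_lit 28777, nat_lit 24749, nat_lit 20618, nat_lit 18435, nat_lit 8259, nat_lit 4097, nat_lit 2, nat_lit 425991, nat_lit 417797, nat_lit 409603, nat_lit 401408, nat_lit 160000, nat_lit 155904, nat_lit 151680, nat_lit 147808, nat_lit 143856, nat_lit 139360, nat_lit 131424, nat_lit 45064, nat_lit 41000, nat_lit 36936, nat_lit 4097]⟩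
def ndCg3_3 : El := ⟨[nat_lit 0x93a0cf925160c47758987500ad99286abe0e, nat_lit 0x7b12d26a2221d4c17d0ec94096b956970153, nat_lit 0x3c5a5a330338b4e0badcf10d362d48854292, nat_lit 0x6a993904dd46dc305c64648c442d6c863d47], [nat_lit 65536, nat_lit 69632, nat_lit 77824, nat_lit 90112, nat_lit 102400, nat_lit 110592, nat_lit 178176, nat_lit 173056, nat_lit 171008, nat_lit 167424, nat_lit 163456, nat_lit 158784, nat_lit 153696, nat_lit 150224, nat_lit 145968, nat_lit 142580, nat_lit 136230, nat_lit 134314, nat_lit 50, nat_lit 7324, nat_lit 9896, nat_lit 13392, nat_lit 16416, nat_lit 23488, nat_lit 26752, nat_lit 31232, nat_lit 36352, nat_lit 37888, nat_lit 43008, nat_lit 47061, nat_lit 41608, nat_lit 37894, nat_lit 32944, nat_lit 28988, nat_lit 26635, nat_lit 20747, nat_lit 16399, nat_lit 12304, nat_lit 8201, nat_lit 4101, nat_lit 2, nat_lit 434185, nat_lit 425991, nat_lit 417797, nat_lit 409603, nat_lit 401408, nat_lit 168960, nat_lit 165376, nat_lit 160256, nat_lit 157440, nat_lit 153088,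 nat_lit 147616, nat_lit 144528, nat_lit 139672, nat_lit 132904, nat_lit 46237, nat_lit 4097, nat_lit 327680]⟩
def ndCg3_4 : El := ⟨[nat_lit 0xdd748842ed07b2f11a5a6708aaa90f395020], [nat_lit 94208, nat_lit 173056, nat_lit 171520, nat_lit 166144, nat_lit 160000, nat_lit 151840, nat_lit 148976, nat_lit 146176, nat_lit 140652, nat_lit 135326, nat_lit 131193, nat_lit 2366, nat_lit 4128, nat_lit 10552, nat_lit 13664, nat_lit 19264, nat_lit 22592, nat_lit 25088, nat_lit 32000, nat_lit 34304, nat_lit 41270, nat_lit 36973, nat_lit 33797, nat_lit 28679, nat_lit 24614, nat_lit 20486, nat_lit 16391, nat_lit 12803, nat_lit 8194, nat_lit 4100, nat_lit 327680]⟩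
def ndCr3_0 : El := ⟨[nat_lit 0x72db24a22501be26636e9582c1989c7216aa, nat_lit 0x44b1bd83828a904079594b1a7168d52b9d69], [nat_lit 73728, nat_lit 77824, nat_lit 81920, nat_lit 90112, nat_lit 178176, nat_lit 175104, nat_lit 169984, nat_lit 165888, nat_lit 161152, nat_lit 156928, nat_lit 151680, nat_lit 148368, nat_lit 143432, nat_lit 139332, nat_lit 139038, nat_lit 133260, nat_lit 998, nat_lit 5692, nat_lit 9520, nat_lit 13264, nat_lit 19904, nat_lit 21184, nat_lit 25088, nat_lit 31488, nat_lit 38912, nat_lit 43008, nat_lit 45216, nat_lit 40981, nat_lit 37189, nat_lit 33533, nat_lit 28712, nat_lit 25130, nat_lit 20562, nat_lit 16426, nat_lit 12322, nat_lit 8203, nat_lit 4104, nat_lit 2, nat_lit 417796, nat_lit 405504, nat_lit 147520, nat_lit 143440, nat_lit 131080, nat_lit 41024, nat_lit 36928, nat_lit 32784, nat_lit 28673, nat_lit 20481, nat_lit 4097]⟩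
def ndCr3_1 : El := ⟨[nat_lit 0xf33a514073a3d97886406d9d55110639569, nat_lit 0xeb888d238364d677920e5600d45444382ded], [nat_lit 81920, nat_lit 86016, nat_lit 90112, nat_lit 94208, nat_lit 102400, nat_lit 110592, nat_lit 169984, nat_lit 164864, nat_lit 160640, nat_lit 156800, nat_lit 152800, nat_lit 147536, nat_lit 147248, nat_lit 141348, nat_lit 139098, nat_lit 131647, nat_lit 3856, nat_lit 7952, nat_lit 8408, nat_lit 15008, nat_lit 17216, nat_lit 23232, nat_lit 25856, nat_lit 30976, nat_lit 34816, nat_lit 39936, nat_lit 43008, nat_lit 46595, nat_lit 43307, nat_lit 38037, nat_lit 33282, nat_lit 28743, nat_lit 24720, nat_lit 20488, nat_lit 16455, nat_lit 12327, nat_lit 8200, nat_lit 4097, nat_lit 2, nat_lit 409603, nat_lit 401408, nat_lit 40968, nat_lit 36872, nat_lit 28688, nat_lit 4097, nat_lit 327680]⟩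
def ndCr3_2 : El := ⟨[nat_lit 0xd141e7384b38d6c35410093c4c3512e22db7, nat_lit 0x87d84d7852e220663da2ca2c15542622b657, nat_lit 0xcff956bbd7468503b0093a8a2692a0e2a4ec, nat_lit 0x66353a21e4a6a19358602a3866b80afb2635], [nat_lit 77824, nat_lit 81920, nat_lit 86016, nat_lit 94208, nat_lit 106496, nat_lit 178176, nat_lit 175104, nat_lit 169984, nat_lit 166144, nat_lit 161536, nat_lit 156352, nat_lit 152032, nat_lit 150272, nat_lit 147200, nat_lit 140560, nat_lit 136148, nat_lit 133976, nat_lit 2776, nat_lit 6872, nat_lit 11952, nat_lit 13264, nat_lit 18624, nat_lit 22848, nat_lit 26880, nat_lit 32000, nat_lit 35840, nat_lit 37888, nat_lit 43008, nat_lit 46671, nat_lit 41491, nat_lit 37144, nat_lit 33524, nat_lit 29046, nat_lit 24628, nat_lit 20495, nat_lit 12289, nat_lit 8225, nat_lit 4097, nat_lit 2, nat_lit 438282, nat_lit 430088, nat_lit 421894, nat_lit 413700, nat_lit 401408, nat_lit 168960, nat_lit 164352, nat_lit 163584, nat_lit 156160, nat_lit 155200, nat_lit 149856, nat_lit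 139392, nat_lit 132896, nat_lit 12289, nat_lit 4097, nat_lit 327680]⟩
def ndCr3_3 : El := ⟨[nat_lit 0xde72bd990d091627b5d8d73eb41a04a48560, nat_lit 0x30903579996896740b64801ee2541c32552b, nat_lit 0xe8e7db316364902d10e17a3e6c71d40ac90b], [nat_lit 65536, nat_lit 69632, nat_lit 77824, nat_lit 90112, nat_lit 94208, nat_lit 102400, nat_lit 178176, nat_lit 174080, nat_lit 171008, nat_lit 164608, nat_lit 161024, nat_lit 156416, nat_lit 153408, nat_lit 148560, nat_lit 146376, nat_lit 142316, nat_lit 135508, nat_lit 133613, nat_lit 424, nat_lit 4520, nat_lit 10784, nat_lit 15872, nat_lit 19456, nat_lit 21376, nat_lit 27648, nat_lit 29952, nat_lit 34816, nat_lit 46583, nat_lit 43560, nat_lit 38240, nat_lit 33888, nat_lit 28969, nat_lit 24627, nat_lit 20553, nat_lit 16430, nat_lit 12294, nat_lit 8195, nat_lit 4097, nat_lit 2, nat_lit 434183, nat_lit 417797, nat_lit 409603, nat_lit 401408, nat_lit 160768, nat_lit 151680, nat_lit 147648, nat_lit 144560, nat_lit 140504, nat_lit 132332,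 nat_lit 45276, nat_lit 37068, nat_lit 33001, nat_lit 4097, nat_lit 327680]⟩
def ndCr3_4 : El := ⟨[nat_lit 0x330f934b5c70048a80e8f3451260a775daa5, nat_lit 0x24db1db45223b460aac3043cca612979166e, nat_lit 0x6935ca2ce0e1aa910d5724248d3bed733002], [nat_lit 86016, nat_lit 94208, nat_lit 98304, nat_lit 106496, nat_lit 110592, nat_lit 173056, nat_lit 170496, nat_lit 165120, nat_lit 163328, nat_lit 158272, nat_lit 155232, nat_lit 150432, nat_lit 145336, nat_lit 141524, nat_lit 137792, nat_lit 133169, nat_lit 1294, nat_lit 4408, nat_lit 9056, nat_lit 13920, nat_lit 19328, nat_lit 24320, nat_lit 26112, nat_lit 29952, nat_lit 34816, nat_lit 39936, nat_lit 46605, nat_lit 41839, nat_lit 37352, nat_lit 33418, nat_lit 28758, nat_lit 24585, nat_lit 20492, nat_lit 16391, nat_lit 12294, nat_lit 8202, nat_lit 4105, nat_lit 430087, nat_lit 417797, nat_lit 409603, nat_lit 401408, nat_lit 160256, nat_lit 156160, nat_lit 148128, nat_lit 143520, nat_lit 131296, nat_lit 45620, nat_lit 41632, nat_lit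 32944, nat_lit 4097, nat_lit 327680]⟩
def ndCr3_5 : El := ⟨[nat_lit 0x3396ff610d403ac159c53936b145dea28e09, nat_lit 0xfac03c9c971ab4e282548a180e205962bc77, nat_lit 0x9fa905538919b0c9b0c41595b23c10f052f5], [nat_lit 65536, nat_lit 69632, nat_lit 86016, nat_lit 90112, nat_lit 94208, nat_lit 98304, nat_lit 106496, nat_lit 168960, nat_lit 164864, nat_lit 161408, nat_lit 156800, nat_lit 155520, nat_lit 151344, nat_lit 147048, nat_lit 142088, nat_lit 138008, nat_lit 132419, nat_lit 494, nat_lit 5856, nat_lit 9472, nat_lit 14528, nat_lit 16896, nat_lit 21248, nat_lit 25344, nat_lit 28928, nat_lit 37888, nat_lit 43008, nat_lit 45908, nat_lit 41371, nat_lit 37272, nat_lit 33299, nat_lit 28940, nat_lit 26657, nat_lit 20493, nat_lit 16459, nat_lit 12292, nat_lit 8201, nat_lit 4112, nat_lit 425991, nat_lit 417797, nat_lit 405506, nat_lit 156032, nat_lit 151936, nat_lit 143680, nat_lit 139304, nat_lit 45060, nat_lit 41408, nat_lit 37036]⟩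
def ndCg4_0 : El := ⟨[nat_lit 0xa39ac309e4049571819cfa54931d94c6a2e2, nat_lit 0xe7248e750d19824b6bd413de0c120a41a6b6, nat_lit 0x535699411a3832af316f212dc7006d3a452a, nat_lit 0x74eddd9c2b77214c8ca96118277a5ab00ca4], [nat_lit 73728, nat_lit 77824, nat_lit 86016, nat_lit 90112, nat_lit 94208, nat_lit 102400, nat_lit 110592, nat_lit 178176, nat_lit 165632, nat_lit 163712, nat_lit 157312, nat_lit 151680, nat_lit 150320, nat_lit 145784, nat_lit 139784, nat_lit 137206, nat_lit 132349, nat_lit 3944, nat_lit 8040, nat_lit 11712, nat_lit 15456, nat_lit 18176, nat_lit 20864, nat_lit 25984, nat_lit 30464, nat_lit 36352, nat_lit 37888, nat_lit 43008, nat_lit 46383, nat_lit 41031, nat_lit 37176, nat_lit 32822, nat_lit 28694, nat_lit 25631, nat_lit 20765, nat_lit 16461, nat_lit 12320, nat_lit 8194, nat_lit 4097, nat_lit 2, nat_lit 438282, nat_lit 425991, nat_lit 417797, nat_lit 409603, nat_lit 401408, nat_lit 174080, nat_lit 162048, nat_lit 156800, nat_lit 152576, nat_lit 150624, nat_lit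 143472, nat_lit 139440, nat_lit 131504, nat_lit 37336, nat_lit 4097, nat_lit 327680]⟩
def ndCg4_1 : El := ⟨[nat_lit 0x27118219d1672933ad24d23226b95608082f, nat_lit 0xe824818d54f4d20cbc90d004e274d7619885, nat_lit 0xf556af9dec80d1872922a1bea66c96e04122], [nat_lit 73728, nat_lit 81920, nat_lit 86016, nat_lit 98304, nat_lit 110592, nat_lit 168960, nat_lit 166656, nat_lit 160512, nat_lit 155840, nat_lit 154816, nat_lit 148704, nat_lit 143584, nat_lit 143080, nat_lit 138730, nat_lit 134234, nat_lit 1932, nat_lit 6028, nat_lit 10648, nat_lit 15840, nat_lit 19712, nat_lit 22656, nat_lit 24960, nat_lit 31232, nat_lit 33280, nat_lit 43008, nat_lit 45469, nat_lit 41303, nat_lit 36871, nat_lit 32839, nat_lit 28788, nat_lit 20620, nat_lit 12292, nat_lit 8195, nat_lit 4097, nat_lit 2, nat_lit 434182, nat_lit 413700, nat_lit 401408, nat_lit 152640, nat_lit 148576, nat_lit 131168, nat_lit 45089, nat_lit 36965, nat_lit 32788, nat_lit 28704, nat_lit 12289, nat_lit 4097, nat_lit 327680]⟩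
def ndCg4_2 : El := ⟨[nat_lit 0x965ca99b6d0895607d10a924e1a886eb988c, nat_lit 0x1e8b1bb21262baec94e84a9c208346b509f1, nat_lit 0x8b217770ecf9d24132a0c8b505a90075dd22, nat_lit 0x53a669540e08b6541bae2b2de92866833095], [nat_lit 65536, nat_lit 69632, nat_lit 77824, nat_lit 81920, nat_lit 90112, nat_lit 98304, nat_lit 106496, nat_lit 110592, nat_lit 173056, nat_lit 168960, nat_lit 167424, nat_lit 159872, nat_lit 158656, nat_lit 151648, nat_lit 148112, nat_lit 143936, nat_lit 141804, nat_lit 137342, nat_lit 132787, nat_lit 2746, nat_lit 4352, nat_lit 9456, nat_lit 14240, nat_lit 19712, nat_lit 21120, nat_lit 25984, nat_lit 31488, nat_lit 35840, nat_lit 39936, nat_lit 43008, nat_lit 45278, nat_lit 41225, nat_lit 36984, nat_lit 32882, nat_lit 28732, nat_lit 24854, nat_lit 20551, nat_lit 16399, nat_lit 12290, nat_lit 8209, nat_lit 4101, nat_lit 438282, nat_lit 425991, nat_lit 417797, nat_lit 409603, nat_lit 401408, nat_lit 166912, nat_lit 162048, nat_lit 156800, nat_lit 152960, nat_lit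 149856, nat_lit 143824, nat_lit 142376, nat_lit 131504, nat_lit 37336, nat_lit 4097]⟩
def ndCg4_3 : El := ⟨[nat_lit 0x33aa80e8f02881725a798aec2d6cb91a28, nat_lit 0x4d44119c0f2292264d82da21c250eaf5b2e0, nat_lit 0x24db1d82de5100378b926920ed22a6c1dab4], [nat_lit 81920, nat_lit 86016, nat_lit 94208, nat_lit 98304, nat_lit 102400, nat_lit 106496, nat_lit 175104, nat_lit 168448, nat_lit 166656, nat_lit 162560, nat_lit 159360, nat_lit 152256, nat_lit 148720, nat_lit 144584, nat_lit 141464, nat_lit 136164, nat_lit 134604, nat_lit 2210, nat_lit 6160, nat_lit 11472, nat_lit 13968, nat_lit 16512, nat_lit 24320, nat_lit 28288, nat_lit 32000, nat_lit 35328, nat_lit 38912, nat_lit 43008, nat_lit 46338, nat_lit 41299, nat_lit 37090, nat_lit 34030, nat_lit 28951, nat_lit 25104, nat_lit 20569, nat_lit 16463, nat_lit 12304, nat_lit 8202, nat_lit 4100, nat_lit 2, nat_lit 425990, nat_lit 413700, nat_lit 405504, nat_lit 155904, nat_lit 147744, nat_lit 131368, nat_lit 45121, nat_lit 41008, nat_lit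 37144, nat_lit 28736, nat_lit 8193, nat_lit 4097, nat_lit 327680]⟩
def ndCg4_4 : El := ⟨[nat_lit 0x30ca034d0e3500b58b253206cb7ba0d15cc8, nat_lit 0xcff6a6784f470ae4929289c57061aa3034b6, nat_lit 0x6af6a38c2f14116249b1652a6982e92adca], [nat_lit 73728, nat_lit 77824, nat_lit 81920, nat_lit 86016, nat_lit 90112, nat_lit 102400, nat_lit 178176, nat_lit 173056, nat_lit 165888, nat_lit 160000, nat_lit 157760, nat_lit 150816, nat_lit 144880, nat_lit 140580, nat_lit 137434, nat_lit 132025, nat_lit 3390, nat_lit 5084, nat_lit 11576, nat_lit 14544, nat_lit 20352, nat_lit 20800, nat_lit 26880, nat_lit 31744, nat_lit 33280, nat_lit 43008, nat_lit 46371, nat_lit 43681, nat_lit 38295, nat_lit 32797, nat_lit 28772, nat_lit 24587, nat_lit 20499, nat_lit 16386, nat_lit 12291, nat_lit 8194, nat_lit 4101, nat_lit 2, nat_lit 434183, nat_lit 417796, nat_lit 405504, nat_lit 160768, nat_lit 155776, nat_lit 143504, nat_lit 131216, nat_lit 45073, nat_lit 36880, nat_lit 32968, nat_lit 20481, nat_lit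 8193, nat_lit 4097, nat_lit 327680]⟩
def ndCr4_0 : El := ⟨[nat_lit 0x74ed222b5684c6e2081c665894aaa63849e7, nat_lit 0xd7bb4b0cd497404fb990db501159d9591464, nat_lit 0x6af9519dcbbd693515e16a082600c985a32], [nat_lit 65536, nat_lit 69632, nat_lit 77824, nat_lit 81920, nat_lit 86016, nat_lit 94208, nat_lit 169984, nat_lit 165376, nat_lit 157504, nat_lit 153344, nat_lit 147952, nat_lit 145496, nat_lit 142540, nat_lit 138464, nat_lit 132874, nat_lit 2898, nat_lit 8016, nat_lit 8456, nat_lit 12880, nat_lit 19264, nat_lit 22848, nat_lit 27392, nat_lit 28928, nat_lit 33280, nat_lit 39936, nat_lit 47088, nat_lit 43738, nat_lit 39350, nat_lit 34031, nat_lit 28997, nat_lit 24873, nat_lit 20549, nat_lit 16392, nat_lit 12307, nat_lit 8193, nat_lit 4104, nat_lit 434184, nat_lit 421893, nat_lit 409603, nat_lit 401408, nat_lit 144768, nat_lit 139400, nat_lit 132524, nat_lit 46336, nat_lit 24584, nat_lit 4097]⟩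
def ndCr4_1 : El := ⟨[nat_lit 0x369a6905d4123053439f64cab03acd468e25, nat_lit 0xcc66f0130e432e74b542d93a2045e0578d2a, nat_lit 0x7b47142840430867831b2ba1345d6ca8cdee], [nat_lit 65536, nat_lit 69632, nat_lit 81920, nat_lit 94208, nat_lit 106496, nat_lit 178176, nat_lit 170496, nat_lit 166656, nat_lit 161280, nat_lit 159168, nat_lit 153184, nat_lit 151072, nat_lit 139856, nat_lit 138740, nat_lit 132019, nat_lit 1394, nat_lit 6160, nat_lit 11104, nat_lit 14608, nat_lit 20448, nat_lit 23104, nat_lit 26496, nat_lit 33280, nat_lit 38912, nat_lit 46461, nat_lit 41120, nat_lit 37142, nat_lit 33416, nat_lit 28679, nat_lit 26655, nat_lit 20548, nat_lit 16655, nat_lit 12548, nat_lit 8226, nat_lit 4105, nat_lit 2, nat_lit 425991, nat_lit 417797, nat_lit 409603, nat_lit 401408, nat_lit 160000, nat_lit 155904, nat_lit 151616, nat_lit 147584, nat_lit 143520, nat_lit 139656, nat_lit 131076, nat_lit 45401, nat_lit 41049, nat_lit 4097]⟩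
def ndCr4_2 : El := ⟨[nat_lit 0xbde1d792915a149001d6eb08336de2f1b126, nat_lit 0xa590606c5e59a8e925e906542b01a4243ac3, nat_lit 0x21bee87cc4ebd6402b574828294119630e27, nat_lit 0x99c535791c16c2cb2827115e87199286564a], [nat_lit 65536, nat_lit 69632, nat_lit 77824, nat_lit 86016, nat_lit 90112, nat_lit 102400, nat_lit 106496, nat_lit 170496, nat_lit 166400, nat_lit 162816, nat_lit 158976, nat_lit 152256, nat_lit 151280, nat_lit 146976, nat_lit 141804, nat_lit 137394, nat_lit 134942, nat_lit 2560, nat_lit 6656, nat_lit 9336, nat_lit 13808, nat_lit 17440, nat_lit 21312, nat_lit 27520, nat_lit 32512, nat_lit 38912, nat_lit 45230, nat_lit 41816, nat_lit 37200, nat_lit 33000, nat_lit 28720, nat_lit 24592, nat_lit 20621, nat_lit 16388, nat_lit 12291, nat_lit 8208, nat_lit 4097, nat_lit 438282, nat_lit 430087, nat_lit 417797, nat_lit 409603, nat_lit 401408, nat_lit 171008, nat_lit 160256, nat_lit 158208, nat_lit 153792, nat_lit 151168, nat_lit 144464, nat_lit 142344, nat_lit 134684, nat_lit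 33004, nat_lit 4097, nat_lit 327680]⟩
def ndCr4_3 : El := ⟨[nat_lit 0xf0999c944a74802b6d997312707d68e1a848, nat_lit 0x5aa3358c855519d0b9025426806586f59e6d, nat_lit 0xb17e810143072476a54d12359242a6713eeb, nat_lit 0x144427a5d0911c666b25055975290209c5cf], [nat_lit 65536, nat_lit 69632, nat_lit 86016, nat_lit 94208, nat_lit 102400, nat_lit 106496, nat_lit 110592, nat_lit 178176, nat_lit 173056, nat_lit 164096, nat_lit 161152, nat_lit 156736, nat_lit 151840, nat_lit 148976, nat_lit 144536, nat_lit 140284, nat_lit 137362, nat_lit 134865, nat_lit 968, nat_lit 5064, nat_lit 8344, nat_lit 16128, nat_lit 16672, nat_lit 22848, nat_lit 28160, nat_lit 31488, nat_lit 34304, nat_lit 46676, nat_lit 43572, nat_lit 37009, nat_lit 33017, nat_lit 28971, nat_lit 24753, nat_lit 20553, nat_lit 16512, nat_lit 12320, nat_lit 10240, nat_lit 4097, nat_lit 2, nat_lit 434185, nat_lit 425991, nat_lit 417797, nat_lit 409603, nat_lit 401408, nat_lit 168960, nat_lit 165376, nat_lit 160512, nat_lit 157440,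 nat_lit 153088, nat_lit 148640, nat_lit 143488, nat_lit 141192, nat_lit 132904, nat_lit 45313, nat_lit 4097, nat_lit 327680]⟩
def ndCr4_4 : El := ⟨[nat_lit 0x17e8d4494c379e5644e205384d5d437a3090, nat_lit 0x2d8b87b864914d74618e4a81506b8afb4468, nat_lit 0xa9aaff854a16086ab36e801a9193973224ef], [nat_lit 65536, nat_lit 69632, nat_lit 77824, nat_lit 81920, nat_lit 86016, nat_lit 94208, nat_lit 98304, nat_lit 106496, nat_lit 174080, nat_lit 168448, nat_lit 159872, nat_lit 155712, nat_lit 154752, nat_lit 149648, nat_lit 145808, nat_lit 139280, nat_lit 137934, nat_lit 132226, nat_lit 3384, nat_lit 7480, nat_lit 8632, nat_lit 16064, nat_lit 17760, nat_lit 23040, nat_lit 27392, nat_lit 30976, nat_lit 33280, nat_lit 38912, nat_lit 43008, nat_lit 46561, nat_lit 41624, nat_lit 38008, nat_lit 25114, nat_lit 20557, nat_lit 16389, nat_lit 12293, nat_lit 8200, nat_lit 4097, nat_lit 2, nat_lit 421894, nat_lit 413700, nat_lit 401408, nat_lit 155776, nat_lit 147648, nat_lit 139376, nat_lit 131284,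 nat_lit 45220, nat_lit 41125, nat_lit 37088, nat_lit 33008, nat_lit 12289, nat_lit 4097]⟩

def gensC : List (List El) := [
  [ndCg0_0, ndCg0_1, ndCg0_2, ndCg0_3, ndCg0_4],
  [ndCg1_0, ndCg1_1, ndCg1_2, ndCg1_3, ndCg1_4],
  [ndCg2_0, ndCg2_1, ndCg2_2, ndCg2_3, ndCg2_4],
  [ndCg3_0, ndCg3_1, ndCg3_2, ndCg3_3, ndCg3_4],
  [ndCg4_0, ndCg4_1, ndCg4_2, ndCg4_3, ndCg4_4]]

def repsC : List (List (El × ℕ)) := [
  [(ndCr0_0, nat_lit 0), (ndCr0_1, nat_lit 1), (ndCr0_2, nat_lit 2)],
  [(ndCr1_0, nat_lit 0), (ndCr1_1, nat_lit 1), (ndCr1_2, nat_lit 1), (ndCr1_3, nat_lit 4), (ndCr1_4, nat_lit 3), (ndCr1_5, nat_lit 2), (ndCr1_6, nat_lit 1)],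
  [(ndCr2_0, nat_lit 1), (ndCr2_1, nat_lit 2), (ndCr2_2, nat_lit 2), (ndCr2_3, nat_lit 0), (ndCr2_4, nat_lit 3)],
  [(ndCr3_0, nat_lit 1), (ndCr3_1, nat_lit 3), (ndCr3_2, nat_lit 3), (ndCr3_3, nat_lit 2), (ndCr3_4, nat_lit 3), (ndCr3_5, nat_lit 4)],
  [(ndCr4_0, nat_lit 3), (ndCr4_1, nat_lit 4), (ndCr4_2, nat_lit 1), (ndCr4_3, nat_lit 4), (ndCr4_4, nat_lit 4)]]

def matC : List (List ℕ) := [
  [1782, 41472, 49896, 0, 0],
  [1, 5391, 462, 42240, 45056],
  [63, 24192, 4383, 64512, 0],
  [0, 2160, 63, 26415, 64512],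
  [0, 891, 0, 24948, 67311]]

end

end CF.Mon
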