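import Cfsg.Agent.Mon.Dc2
import Cfsg.Agent.Mon.NdC

set_option autoImplicit false
set_option maxRecDepth 100000

namespace CF.Mon

open CF.Comp

noncomputable section

def dcCE0 : BT El := (.node (nat_lit 4) (.node (nat_lit 2) (.node (nat_lit 1) (.leaf ⟨[], []⟩)
 (.leaf ⟨[nat_lit 0x556f90b080362c90749063c5a90d6f453e65, nat_lit 0x774ede340eebb2915b66ab09240be401a0b5, nat_lit 0x3009a6b0868216a93c02fa4573748c0bb58a, nat_lit 0xe411ee611e642a97734e59007308a30b26ab], [nat_lit 77824, nat_lit 81920, nat_lit 86016, nat_lit 94208, nat_lit 98304, nat_lit 102400, nat_lit 110592, nat_lit 175104, nat_lit 171520, nat_lit 167680, nat_lit 163200, nat_lit 155776, nat_lit 153952, nat_lit 150384, nat_lit 143368, nat_lit 142236, nat_lit 138574, nat_lit 133267, nat_lit 2118, nat_lit 4100, nat_lit 10304, nat_lit 12352, nat_lit 17312, nat_lit 22016, nat_lit 27776, nat_lit 31488, nat_lit 36352, nat_lit 37888, nat_lit 45585, nat_lit 41273, nat_lit 37116, nat_lit 33956, nat_lit 28939, nat_lit 24598,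 nat_lit 21002, nat_lit 16420, nat_lit 12293, nat_lit 8195, nat_lit 4100, nat_lit 438282, nat_lit 430088, nat_lit 421894, nat_lit 413700, nat_lit 405504, nat_lit 164352, nat_lit 163584, nat_lit 155200, nat_lit 150368, nat_lit 146336, nat_lit 134152, nat_lit 8193, nat_lit 4097, nat_lit 327680]⟩))
 (.node (nat_lit 3) (.leaf ⟨[nat_lit 0x95c30f3b8ad888303308f90e60baa88b5569, nat_lit 0xf3c560b902f84e488a54ba3847302adb3065, nat_lit 0x22b72d90aa6a0cb36016179107b5da95422e], [nat_lit 90112, nat_lit 178176, nat_lit 173056, nat_lit 170496, nat_lit 167424, nat_lit 162432, nat_lit 158272, nat_lit 152768, nat_lit 150400, nat_lit 145072, nat_lit 140272, nat_lit 138378, nat_lit 133871, nat_lit 576, nat_lit 4672, nat_lit 8768, nat_lit 12560, nat_lit 20320, nat_lit 24448, nat_lit 26624, nat_lit 31488, nat_lit 34304, nat_lit 38912, nat_lit 43008, nat_lit 46215, nat_lit 43714, nat_lit 37053, nat_lit 32883, nat_lit 29308, nat_lit 24577, nat_lit 20506, nat_lit 16429, nat_lit 12323, nat_lit 8193,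 nat_lit 4097, nat_lit 2, nat_lit 438280, nat_lit 413700, nat_lit 405504, nat_lit 151808, nat_lit 147488, nat_lit 143408, nat_lit 133160, nat_lit 41008, nat_lit 37144, nat_lit 28673, nat_lit 24577, nat_lit 8193, nat_lit 4097]⟩)
 (.leaf ⟨[nat_lit 0x8be2d23c665102f48124672d0cad86153d2d, nat_lit 0x8714e7929843145685e234ac143cd0d0d5cf, nat_lit 0x128d21b96548a4cab204f5d40d2326e38e01, nat_lit 0xf3a3f3bbc4d4a814b06332498b838c8196a7], [nat_lit 65536, nat_lit 69632, nat_lit 73728, nat_lit 77824, nat_lit 81920, nat_lit 86016, nat_lit 90112, nat_lit 110592, nat_lit 175104, nat_lit 171008, nat_lit 165376, nat_lit 160640, nat_lit 156544, nat_lit 153824, nat_lit 151088, nat_lit 143680, nat_lit 141544, nat_lit 139116, nat_lit 133088, nat_lit 2536, nat_lit 6632, nat_lit 10728, nat_lit 15024, nat_lit 18976, nat_lit 22848, nat_lit 26624, nat_lit 30464, nat_lit 35840, nat_lit 38912, nat_lit 45992, nat_lit 41886, nat_lit 37285, nat_lit 33367, nat_lit 29002, nat_lit 24852, nat_lit 20500, nat_lit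 16429, nat_lit 12289, nat_lit 8193, nat_lit 4097, nat_lit 438282, nat_lit 430088, nat_lit 421894, nat_lit 413700, nat_lit 405504, nat_lit 174080, nat_lit 168960, nat_lit 164864, nat_lit 160768, nat_lit 159232, nat_lit 152704, nat_lit 148736, nat_lit 144448, nat_lit 132456, nat_lit 8193, nat_lit 4097, nat_lit 327680]⟩)))
 (.node (nat_lit 6) (.node (nat_lit 5) (.leaf ⟨[nat_lit 0x8eddeeaaac5580817a0ec90eee34e098b682, nat_lit 0x9f65504bc70a9840520b7a38ed9d8910c96c, nat_lit 0xebddb43c4816bc72aadc6bda009a0492a994, nat_lit 0xbd87bb058924bc419aa0e5b4c7a1623622f5], [nat_lit 65536, nat_lit 69632, nat_lit 73728, nat_lit 81920, nat_lit 86016, nat_lit 94208, nat_lit 102400, nat_lit 169472, nat_lit 167680, nat_lit 163200, nat_lit 157248, nat_lit 152256, nat_lit 150240, nat_lit 143528, nat_lit 141608, nat_lit 135590, nat_lit 135000, nat_lit 2542, nat_lit 4100, nat_lit 10728, nat_lit 12768, nat_lit 18976, nat_lit 22848, nat_lit 26624, nat_lit 31744, nat_lit 37888, nat_lit 43008, nat_lit 46034,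 nat_lit 41937, nat_lit 38233, nat_lit 33881, nat_lit 28933, nat_lit 25615, nat_lit 20502, nat_lit 16393, nat_lit 12290, nat_lit 8195, nat_lit 4100, nat_lit 2, nat_lit 438282, nat_lit 430088, nat_lit 421894, nat_lit 413700, nat_lit 405504, nat_lit 174080, nat_lit 167424, nat_lit 162816, nat_lit 159616, nat_lit 152768, nat_lit 148800, nat_lit 145344, nat_lit 131168, nat_lit 8193, nat_lit 4097]⟩)
 (.leaf ⟨[nat_lit 0xa5c5a603e9330448638ea924b08b6a35dae4, nat_lit 0xca9c5ca357281263282b7b45e94284609d8e, nat_lit 0xc396f00310292a0f2d8311cea77517733489, nat_lit 0x1147be008952b28fbace950e4d0ba08b4666], [nat_lit 65536, nat_lit 69632, nat_lit 73728, nat_lit 77824, nat_lit 81920, nat_lit 86016, nat_lit 94208, nat_lit 110592, nat_lit 178176, nat_lit 174080, nat_lit 171008, nat_lit 164608, nat_lit 163072, nat_lit 158720, nat_lit 155200, nat_lit 148272, nat_lit 145056, nat_lit 141952, nat_lit 138470, nat_lit 132965, nat_lit 2054, nat_lit 4100, nat_lit 10240, nat_lit 12592, nat_lit 20160,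 nat_lit 20608, nat_lit 28032, nat_lit 30720, nat_lit 35328, nat_lit 37888, nat_lit 45656, nat_lit 41687, nat_lit 37179, nat_lit 33324, nat_lit 28704, nat_lit 25602, nat_lit 20626, nat_lit 16423, nat_lit 12293, nat_lit 8195, nat_lit 4100, nat_lit 2, nat_lit 438282, nat_lit 430088, nat_lit 421894, nat_lit 413700, nat_lit 405504, nat_lit 174080, nat_lit 171008, nat_lit 167424, nat_lit 161536, nat_lit 157440, nat_lit 152384, nat_lit 150304, nat_lit 145200, nat_lit 132896, nat_lit 8193, nat_lit 4097, nat_lit 327680]⟩))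
 (.node (nat_lit 7) (.leaf ⟨[nat_lit 0xca0a3f35d8f8a46d451442d612b08079adc1, nat_lit 0x12144d3a08f11ab29d065bb6c97460a0b00b, nat_lit 0x11d1ddab167b99a813e0e910650cd2ab4414, nat_lit 0xf5303c0566580ee48c98aa590e79d66489a1], [nat_lit 86016, nat_lit 90112, nat_lit 94208, nat_lit 98304, nat_lit 106496, nat_lit 110592, nat_lit 178176, nat_lit 174080, nat_lit 168960, nat_lit 160128, nat_lit 156736, nat_lit 152576, nat_lit 149488, nat_lit 143808, nat_lit 140632, nat_lit 136106, nat_lit 131142, nat_lit 1180, nat_lit 5276, nat_lit 8704, nat_lit 13456, nat_lit 19616, nat_lit 22528, nat_lit 25856, nat_lit 29184, nat_lit 36352, nat_lit 37888, nat_lit 45173, nat_lit 41878, nat_lit 36899, nat_lit 33956, nat_lit 28748, nat_lit 24586, nat_lit 20760, nat_lit 16653, nat_lit 12292, nat_lit 8201, nat_lit 4097, nat_lit 438282, nat_lit 430088, nat_lit 421894, nat_lit 413700, nat_lit 405504, nat_lit 171008, nat_lit 163584, nat_lit 156288, nat_lit 152576, nat_lit 147808, nat_lit 145008, nat_lit 131328,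 nat_lit 8193, nat_lit 4097, nat_lit 327680]⟩)
 (.leaf ⟨[nat_lit 0x2e278b0bc6e49888a4a76ade113954b13580, nat_lit 0xb24be19a187a5c36a80625349272cb17a606, nat_lit 0xaaf90c50da53c2c40dc117192244eaba324f], [nat_lit 86016, nat_lit 90112, nat_lit 94208, nat_lit 102400, nat_lit 106496, nat_lit 110592, nat_lit 178176, nat_lit 175104, nat_lit 169472, nat_lit 166912, nat_lit 160000, nat_lit 157184, nat_lit 154464, nat_lit 149168, nat_lit 143600, nat_lit 141536, nat_lit 138754, nat_lit 132913, nat_lit 1896, nat_lit 5992, nat_lit 10088, nat_lit 13872, nat_lit 19424, nat_lit 23616, nat_lit 27136, nat_lit 32512, nat_lit 35328, nat_lit 38912, nat_lit 43008, nat_lit 45560, nat_lit 41556, nat_lit 38278, nat_lit 32806, nat_lit 28693, nat_lit 25123, nat_lit 20562, nat_lit 16448, nat_lit 14343, nat_lit 438279, nat_lit 417797, nat_lit 409603, nat_lit 151680, nat_lit 147616, nat_lit 143456, nat_lit 37088, nat_lit 32824, nat_lit 327680]⟩))))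

theorem dcCE0_ok : dcCE0.all (elB (nat_lit 12288)) = true := by decide +kernel

def dcCE1 : BT El := (.node (nat_lit 12) (.node (nat_lit 10) (.node (nat_lit 9) (.leaf ⟨[nat_lit 0xcf93ab128e080cc8207769e334954f14aab, nat_lit 0x28118da2587bacaf534d62550e004501c653, nat_lit 0xc05c90ab832596701a4e26c4162314f45e86, nat_lit 0x8bb8e4bda959ca11290e6104034254b6b9ec], [nat_lit 77824, nat_lit 81920, nat_lit 94208, nat_lit 98304, nat_lit 102400, nat_lit 110592, nat_lit 178176, nat_lit 174080, nat_lit 171008, nat_lit 167680, nat_lit 158720, nat_lit 155328, nat_lit 147920, nat_lit 145760, nat_lit 140340, nat_lit 137152, nat_lit 131943, nat_lit 1472, nat_lit 5568, nat_lit 9664, nat_lit 13264, nat_lit 17344, nat_lit 22272, nat_lit 25856, nat_lit 29440, nat_lit 33280, nat_lit 37888, nat_lit 43008, nat_lit 46332, nat_lit 41138, nat_lit 36978, nat_lit 32969, nat_lit 29044, nat_lit 24593, nat_lit 20482, nat_lit 16449, nat_lit 12289, nat_lit 8193, nat_lit 4097, nat_lit 438282, nat_lit 430088,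 nat_lit 421894, nat_lit 413700, nat_lit 405504, nat_lit 174080, nat_lit 171008, nat_lit 161280, nat_lit 158080, nat_lit 152064, nat_lit 150656, nat_lit 145200, nat_lit 131216, nat_lit 8193, nat_lit 4097]⟩)
 (.leaf ⟨[nat_lit 0x55f603a2977018e120c458cdac849ee4a2d5, nat_lit 0x247ed4a0489154ca74a116cd8f2dc083ac76, nat_lit 0xff33551d20e8cd4525917598229540c3a5af], [nat_lit 65536, nat_lit 69632, nat_lit 73728, nat_lit 77824, nat_lit 81920, nat_lit 90112, nat_lit 94208, nat_lit 98304, nat_lit 106496, nat_lit 178176, nat_lit 175104, nat_lit 171520, nat_lit 166144, nat_lit 161280, nat_lit 157504, nat_lit 151936, nat_lit 148976, nat_lit 145288, nat_lit 142664, nat_lit 135954, nat_lit 133933, nat_lit 894, nat_lit 4100, nat_lit 9080, nat_lit 16128, nat_lit 16864, nat_lit 23488, nat_lit 26240, nat_lit 28928, nat_lit 35328, nat_lit 39936, nat_lit 45242, nat_lit 41595, nat_lit 36881, nat_lit 32949, nat_lit 29014, nat_lit 24730, nat_lit 20481, nat_lit 16449, nat_lit 12310, nat_lit 8195, nat_lit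 4100, nat_lit 434183, nat_lit 417796, nat_lit 405504, nat_lit 160768, nat_lit 156672, nat_lit 147584, nat_lit 131080, nat_lit 45073, nat_lit 36880, nat_lit 32985, nat_lit 20496, nat_lit 8193, nat_lit 4097]⟩))
 (.node (nat_lit 11) (.leaf ⟨[nat_lit 0x44e4845a5a6915938aaa0104ef45a03a3ae4, nat_lit 0x5005952c435040d499c766356fb90527212a, nat_lit 0xbdbbe1add0f3821435a6354a2d2ac8e60449], [nat_lit 77824, nat_lit 81920, nat_lit 90112, nat_lit 110592, nat_lit 168448, nat_lit 167680, nat_lit 162816, nat_lit 158144, nat_lit 152000, nat_lit 151136, nat_lit 145280, nat_lit 140120, nat_lit 136320, nat_lit 132197, nat_lit 2422, nat_lit 4100, nat_lit 10608, nat_lit 14384, nat_lit 18880, nat_lit 22528, nat_lit 27648, nat_lit 29952, nat_lit 34816, nat_lit 39936, nat_lit 43008, nat_lit 45611, nat_lit 41037, nat_lit 38942, nat_lit 32936, nat_lit 28695, nat_lit 25632, nat_lit 20544, nat_lit 16520, nat_lit 12290, nat_lit 8195, nat_lit 4100, nat_lit 2, nat_lit 421894, nat_lit 413700, nat_lit 405504,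 nat_lit 155776, nat_lit 151616, nat_lit 147648, nat_lit 131272, nat_lit 45057, nat_lit 37088, nat_lit 32825, nat_lit 8193, nat_lit 4097, nat_lit 327680]⟩)
 (.leaf ndCr0_1)))
 (.node (nat_lit 14) (.node (nat_lit 13) (.leaf ⟨[nat_lit 0x99f69f522ce99d236d4c48b2545c0a27dc20], [nat_lit 65536, nat_lit 69632, nat_lit 86016, nat_lit 98304, nat_lit 102400, nat_lit 178176, nat_lit 173056, nat_lit 170496, nat_lit 164096, nat_lit 162432, nat_lit 156544, nat_lit 153632, nat_lit 149360, nat_lit 146304, nat_lit 139848, nat_lit 135198, nat_lit 134676, nat_lit 2, nat_lit 7324, nat_lit 9328, nat_lit 13072, nat_lit 18336, nat_lit 22336, nat_lit 27392, nat_lit 32512, nat_lit 33280, nat_lit 39936, nat_lit 40989, nat_lit 36887, nat_lit 32829, nat_lit 28765, nat_lit 24760, nat_lit 20572, nat_lit 16416, nat_lit 12308, nat_lit 8194, nat_lit 4097, nat_lit 2, nat_lit 327680]⟩)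
 (.leaf ⟨[nat_lit 0xa9c3637a0d32c94e6c48b640e9b5477a0820], [nat_lit 65536, nat_lit 69632, nat_lit 81920, nat_lit 90112, nat_lit 98304, nat_lit 102400, nat_lit 106496, nat_lit 178176, nat_lit 173056, nat_lit 170496, nat_lit 164352, nat_lit 161920, nat_lit 156352, nat_lit 153088, nat_lit 149280, nat_lit 146688, nat_lit 139332, nat_lit 138662, nat_lit 133783, nat_lit 2048, nat_lit 6144, nat_lit 12896, nat_lit 19552, nat_lit 25472, nat_lit 30976, nat_lit 34304, nat_lit 37888, nat_lit 43008, nat_lit 41827, nat_lit 37363, nat_lit 33461, nat_lit 28776, nat_lit 24596, nat_lit 20495, nat_lit 16389, nat_lit 12327]⟩))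
 (.node (nat_lit 15) (.leaf ⟨[nat_lit 0x5036c03d9a5aa56e932f1828839a0c2a3c20], [nat_lit 65536, nat_lit 69632, nat_lit 81920, nat_lit 86016, nat_lit 90112, nat_lit 94208, nat_lit 106496, nat_lit 178176, nat_lit 173056, nat_lit 169472, nat_lit 167168, nat_lit 161792, nat_lit 156096, nat_lit 154912, nat_lit 147952, nat_lit 145776, nat_lit 141208, nat_lit 136928, nat_lit 131985, nat_lit 1478, nat_lit 5992, nat_lit 9664, nat_lit 14144, nat_lit 18336, nat_lit 22656, nat_lit 27904, nat_lit 31744, nat_lit 34816, nat_lit 39936, nat_lit 41390, nat_lit 37308, nat_lit 33370, nat_lit 28718, nat_lit 24634, nat_lit 20494, nat_lit 16448, nat_lit 12294, nat_lit 8194, nat_lit 4100]⟩)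
 (.leaf ⟨[nat_lit 0xb14d2bb0ef48388832e4c3bd516953315420], [nat_lit 77824, nat_lit 94208, nat_lit 102400, nat_lit 178176, nat_lit 175104, nat_lit 169472, nat_lit 164352, nat_lit 161664, nat_lit 159488, nat_lit 152384, nat_lit 148880, nat_lit 144024, nat_lit 141900, nat_lit 137732, nat_lit 134339, nat_lit 4020, nat_lit 8116, nat_lit 8528, nat_lit 14912, nat_lit 20384, nat_lit 20736, nat_lit 28288, nat_lit 32000, nat_lit 33280, nat_lit 38912, nat_lit 41188, nat_lit 37076, nat_lit 32868, nat_lit 29282, nat_lit 24612, nat_lit 20544, nat_lit 16395, nat_lit 12307, nat_lit 8195, nat_lit 327680]⟩))))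

theorem dcCE1_ok : dcCE1.all (elB (nat_lit 12288)) = true := by decide +kernel

def dcCE2 : BT El := (.node (nat_lit 20) (.node (nat_lit 18) (.node (nat_lit 17) (.leaf ⟨[nat_lit 0x7b47142cead8b8d758d48830f4911f648820], [nat_lit 73728, nat_lit 77824, nat_lit 98304, nat_lit 102400, nat_lit 174080, nat_lit 171520, nat_lit 164864, nat_lit 161536, nat_lit 156608, nat_lit 153280, nat_lit 148288, nat_lit 143736, nat_lit 142960, nat_lit 137806, nat_lit 135098, nat_lit 1972, nat_lit 6068, nat_lit 10864, nat_lit 13568, nat_lit 20384, nat_lit 22784, nat_lit 27264, nat_lit 30208, nat_lit 35840, nat_lit 37888, nat_lit 43008, nat_lit 41972, nat_lit 37188, nat_lit 33312, nat_lit 28716, nat_lit 24865, nat_lit 20509, nat_lit 16393, nat_lit 12311, nat_lit 8202]⟩)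
 (.leaf ⟨[nat_lit 0xaa9af915e39dd7170a046d18a49ac745420], [nat_lit 65536, nat_lit 69632, nat_lit 81920, nat_lit 94208, nat_lit 102400, nat_lit 174080, nat_lit 169472, nat_lit 167168, nat_lit 161408, nat_lit 157120, nat_lit 154656, nat_lit 147808, nat_lit 143520, nat_lit 139548, nat_lit 138730, nat_lit 135065, nat_lit 2, nat_lit 5856, nat_lit 11376, nat_lit 12768, nat_lit 17568, nat_lit 21440, nat_lit 27136, nat_lit 29184, nat_lit 36352, nat_lit 41767, nat_lit 38330, nat_lit 32854, nat_lit 29217, nat_lit 24881, nat_lit 20552, nat_lit 16518, nat_lit 12309, nat_lit 8194, nat_lit 4101, nat_lit 2]⟩))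
 (.node (nat_lit 19) (.leaf ⟨[nat_lit 0xd8bb44226f43aa137caa3889965b5c641420], [nat_lit 65536, nat_lit 69632, nat_lit 73728, nat_lit 94208, nat_lit 102400, nat_lit 106496, nat_lit 175104, nat_lit 171520, nat_lit 165632, nat_lit 160000, nat_lit 156608, nat_lit 152864, nat_lit 147888, nat_lit 144728, nat_lit 141696, nat_lit 137210, nat_lit 135144, nat_lit 2, nat_lit 5904, nat_lit 10952, nat_lit 15472, nat_lit 17152, nat_lit 23552, nat_lit 27136, nat_lit 30976, nat_lit 33792, nat_lit 39936, nat_lit 41766, nat_lit 36945, nat_lit 32970, nat_lit 29015, nat_lit 24862, nat_lit 20497, nat_lit 16385, nat_lit 12420, nat_lit 8257, nat_lit 4097, nat_lit 2]⟩)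
 (.leaf ⟨[nat_lit 0x18e8db88dc714ccf6aaac494975ca16a2020], [nat_lit 77824, nat_lit 90112, nat_lit 175104, nat_lit 171520, nat_lit 167168, nat_lit 162176, nat_lit 156032, nat_lit 155488, nat_lit 148624, nat_lit 145064, nat_lit 139464, nat_lit 139012, nat_lit 132186, nat_lit 2, nat_lit 6732, nat_lit 9032, nat_lit 15248, nat_lit 18400, nat_lit 22784, nat_lit 27392, nat_lit 30464, nat_lit 36352, nat_lit 38912, nat_lit 43008, nat_lit 41733, nat_lit 37125, nat_lit 33451, nat_lit 29035, nat_lit 24728, nat_lit 20496, nat_lit 16426, nat_lit 12311, nat_lit 8193, nat_lit 4097, nat_lit 2]⟩)))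
 (.node (nat_lit 22) (.node (nat_lit 21) (.leaf ⟨[nat_lit 0x536a3cb5110712e38a4a77cdaaab0c292c20], [nat_lit 86016, nat_lit 106496, nat_lit 168960, nat_lit 164864, nat_lit 161536, nat_lit 157824, nat_lit 155008, nat_lit 150480, nat_lit 145680, nat_lit 142364, nat_lit 137742, nat_lit 131767, nat_lit 16, nat_lit 4112, nat_lit 9160, nat_lit 13248, nat_lit 18432, nat_lit 21504, nat_lit 25472, nat_lit 30464, nat_lit 34304, nat_lit 39936, nat_lit 41846, nat_lit 38283, nat_lit 32771, nat_lit 29293, nat_lit 24600, nat_lit 21005, nat_lit 16396, nat_lit 12308, nat_lit 8210]⟩)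
 (.leaf ⟨[nat_lit 0x811e44b404d24648acc6e4b0af5dcf451820], [nat_lit 65536, nat_lit 69632, nat_lit 77824, nat_lit 94208, nat_lit 106496, nat_lit 173056, nat_lit 169472, nat_lit 164608, nat_lit 159872, nat_lit 158912, nat_lit 153920, nat_lit 149296, nat_lit 144784, nat_lit 140588, nat_lit 136588, nat_lit 132117, nat_lit 512, nat_lit 4608, nat_lit 12264, nat_lit 12400, nat_lit 19264, nat_lit 23552, nat_lit 25856, nat_lit 29696, nat_lit 35328, nat_lit 43008, nat_lit 41709, nat_lit 32856, nat_lit 29786, nat_lit 24856, nat_lit 20626, nat_lit 16519, nat_lit 12547, nat_lit 8225]⟩))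
 (.node (nat_lit 23) (.leaf ndCr1_6)
 (.leaf ⟨[nat_lit 0x8ddb249a9afb8c8e90560b5110894e9154cc, nat_lit 0x2b81db5a5488ca1331ca408c40b56f46bdcc], [nat_lit 81920, nat_lit 90112, nat_lit 94208, nat_lit 102400, nat_lit 169984, nat_lit 166656, nat_lit 161024, nat_lit 158208, nat_lit 152192, nat_lit 150848, nat_lit 147304, nat_lit 139508, nat_lit 135708, nat_lit 132415, nat_lit 472, nat_lit 4568, nat_lit 9336, nat_lit 15312, nat_lit 20320, nat_lit 22656, nat_lit 26496, nat_lit 33280, nat_lit 37888, nat_lit 43008, nat_lit 46593, nat_lit 43940, nat_lit 36933, nat_lit 34027, nat_lit 28686, nat_lit 24834, nat_lit 20483, nat_lit 16385, nat_lit 12291, nat_lit 8256, nat_lit 4097, nat_lit 425989, nat_lit 409600, nat_lit 131360, nat_lit 40976, nat_lit 28688, nat_lit 12289, nat_lit 8193, nat_lit 4097, nat_lit 327680]⟩))))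

theorem dcCE2_ok : dcCE2.all (elB (nat_lit 12288)) = true := by decide +kernel

def dcCE3 : BT El := (.node (nat_lit 28) (.node (nat_lit 26) (.node (nat_lit 25) (.leaf ndCr1_1)
 (.leaf ⟨[nat_lit 0x27d227810f17a9c85a5ac94ca610e95bd820], [nat_lit 73728, nat_lit 77824, nat_lit 81920, nat_lit 86016, nat_lit 94208, nat_lit 110592, nat_lit 173056, nat_lit 169984, nat_lit 165888, nat_lit 162688, nat_lit 157504, nat_lit 152544, nat_lit 150784, nat_lit 146088, nat_lit 143064, nat_lit 137470, nat_lit 134294, nat_lit 2, nat_lit 5904, nat_lit 11976, nat_lit 12976, nat_lit 18912, nat_lit 21696, nat_lit 25984, nat_lit 30464, nat_lit 35840, nat_lit 41961, nat_lit 38292, nat_lit 34008, nat_lit 29752, nat_lit 24736, nat_lit 20497, nat_lit 12294, nat_lit 8200, nat_lit 4097, nat_lit 2]⟩))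
 (.node (nat_lit 27) (.leaf ndCr0_2)
 (.leaf ⟨[nat_lit 0x21411765e5129db63205320d504d5cb7d020], [nat_lit 65536, nat_lit 69632, nat_lit 73728, nat_lit 106496, nat_lit 178176, nat_lit 175104, nat_lit 171008, nat_lit 165120, nat_lit 161280, nat_lit 156992, nat_lit 155008, nat_lit 151088, nat_lit 143984, nat_lit 139780, nat_lit 135214, nat_lit 134467, nat_lit 2, nat_lit 7324, nat_lit 11448, nat_lit 16192, nat_lit 19584, nat_lit 23040, nat_lit 27392, nat_lit 32512, nat_lit 37888, nat_lit 43008, nat_lit 41668, nat_lit 38162, nat_lit 32869, nat_lit 29247, nat_lit 24634, nat_lit 20485, nat_lit 16395, nat_lit 12293, nat_lit 8193, nat_lit 4097, nat_lit 2, nat_lit 327680]⟩)))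
 (.node (nat_lit 30) (.node (nat_lit 29) (.leaf ⟨[nat_lit 0x59339c4daeb2c09231e33a55487b86263420], [nat_lit 73728, nat_lit 81920, nat_lit 86016, nat_lit 94208, nat_lit 98304, nat_lit 102400, nat_lit 178176, nat_lit 173056, nat_lit 165376, nat_lit 161792, nat_lit 158272, nat_lit 151968, nat_lit 149808, nat_lit 144856, nat_lit 140572, nat_lit 137906, nat_lit 134694, nat_lit 64, nat_lit 4160, nat_lit 10728, nat_lit 12656, nat_lit 16576, nat_lit 23168, nat_lit 26624, nat_lit 29440, nat_lit 43008, nat_lit 41708, nat_lit 37264, nat_lit 32832, nat_lit 29288, nat_lit 20490, nat_lit 16396, nat_lit 12306, nat_lit 8193, nat_lit 327680]⟩)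
 (.leaf ⟨[nat_lit 0x4be474429227da262ce8c69eb095dc41ac01], [nat_lit 77824, nat_lit 90112, nat_lit 174080, nat_lit 171520, nat_lit 162176, nat_lit 156224, nat_lit 153792, nat_lit 151008, nat_lit 145888, nat_lit 139968, nat_lit 136272, nat_lit 131823, nat_lit 698, nat_lit 4784, nat_lit 10600, nat_lit 12976, nat_lit 17408, nat_lit 22848, nat_lit 25472, nat_lit 32256, nat_lit 37888, nat_lit 43008, nat_lit 41316, nat_lit 36979, nat_lit 32947, nat_lit 29036, nat_lit 24627, nat_lit 20495, nat_lit 16448, nat_lit 12291, nat_lit 8226, nat_lit 4105]⟩))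
 (.node (nat_lit 31) (.leaf ⟨[nat_lit 0x33990f48ea47416a99da6a5e4f416c264420], [nat_lit 73728, nat_lit 81920, nat_lit 86016, nat_lit 90112, nat_lit 94208, nat_lit 98304, nat_lit 102400, nat_lit 175104, nat_lit 168448, nat_lit 165120, nat_lit 160640, nat_lit 156288, nat_lit 152256, nat_lit 150592, nat_lit 146136, nat_lit 142936, nat_lit 139104, nat_lit 133039, nat_lit 2112, nat_lit 6208, nat_lit 11128, nat_lit 12656, nat_lit 16896, nat_lit 22720, nat_lit 27904, nat_lit 30208, nat_lit 37888, nat_lit 43008, nat_lit 41920, nat_lit 37226, nat_lit 32856, nat_lit 28745, nat_lit 24595, nat_lit 21018, nat_lit 16428, nat_lit 12306, nat_lit 8202, nat_lit 327680]⟩)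
 (.leaf ⟨[nat_lit 0xe2d7e7532e2325701d9a8a4aa7715f199020], [nat_lit 65536, nat_lit 69632, nat_lit 73728, nat_lit 81920, nat_lit 86016, nat_lit 90112, nat_lit 94208, nat_lit 98304, nat_lit 102400, nat_lit 106496, nat_lit 175104, nat_lit 167168, nat_lit 158848, nat_lit 154048, nat_lit 149632, nat_lit 145912, nat_lit 139568, nat_lit 137274, nat_lit 134186, nat_lit 3526, nat_lit 4112, nat_lit 11712, nat_lit 14224, nat_lit 18944, nat_lit 24320, nat_lit 25088, nat_lit 32000, nat_lit 35328, nat_lit 37888, nat_lit 43008, nat_lit 41366, nat_lit 36940, nat_lit 32991, nat_lit 28782, nat_lit 24598, nat_lit 20636, nat_lit 16390, nat_lit 12295, nat_lit 8194, nat_lit 4100, nat_lit 327680]⟩))))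

theorem dcCE3_ok : dcCE3.all (elB (nat_lit 12288)) = true := by decide +kernel

def dcCE4 : BT El := (.node (nat_lit 36) (.node (nat_lit 34) (.node (nat_lit 33) (.leaf ⟨[nat_lit 0x65aa9c494f153db385a8820eeeab0c292c20], [nat_lit 65536, nat_lit 69632, nat_lit 102400, nat_lit 106496, nat_lit 173056, nat_lit 171520, nat_lit 166656, nat_lit 162432, nat_lit 158400, nat_lit 154464, nat_lit 151456, nat_lit 146560, nat_lit 140288, nat_lit 137350, nat_lit 133418, nat_lit 3944, nat_lit 8040, nat_lit 11440, nat_lit 14176, nat_lit 19616, nat_lit 24320, nat_lit 28544, nat_lit 31232, nat_lit 33280, nat_lit 37888, nat_lit 43008, nat_lit 41582, nat_lit 38131, nat_lit 32780, nat_lit 29205, nat_lit 25625, nat_lit 20575, nat_lit 16396, nat_lit 8210, nat_lit 327680]⟩)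
 (.leaf ndCr2_0))
 (.node (nat_lit 35) (.leaf ⟨[nat_lit 0xc96a99736560d41148c8ca1a059dd6879d42, nat_lit 0xa999aa786c54ad136d007708d520d9754612], [nat_lit 77824, nat_lit 81920, nat_lit 90112, nat_lit 102400, nat_lit 106496, nat_lit 110592, nat_lit 174080, nat_lit 171008, nat_lit 165632, nat_lit 160384, nat_lit 158656, nat_lit 155392, nat_lit 149248, nat_lit 145960, nat_lit 140376, nat_lit 137184, nat_lit 133217, nat_lit 4008, nat_lit 8104, nat_lit 11272, nat_lit 16320, nat_lit 16448, nat_lit 21696, nat_lit 26240, nat_lit 30208, nat_lit 36352, nat_lit 38912, nat_lit 43008, nat_lit 45088, nat_lit 41883, nat_lit 38267, nat_lit 33991, nat_lit 28740, nat_lit 24749, nat_lit 20550, nat_lit 16647, nat_lit 12307, nat_lit 8225, nat_lit 4097, nat_lit 421893, nat_lit 409600, nat_lit 151680, nat_lit 147616, nat_lit 131216, nat_lit 41137, nat_lit 32784, nat_lit 24577, nat_lit 8193, nat_lit 4097, nat_lit 327680]⟩)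
 (.leaf ndCr2_1)))
 (.node (nat_lit 38) (.node (nat_lit 37) (.leaf ⟨[nat_lit 0x5996aa3a590a08018b48b2b952a8ef69bcc8, nat_lit 0x3603fa141147ad24baa211940da9acc71e53], [nat_lit 65536, nat_lit 69632, nat_lit 77824, nat_lit 86016, nat_lit 94208, nat_lit 178176, nat_lit 165120, nat_lit 163328, nat_lit 158464, nat_lit 152000, nat_lit 147536, nat_lit 144776, nat_lit 140832, nat_lit 137626, nat_lit 134736, nat_lit 2468, nat_lit 6564, nat_lit 10336, nat_lit 15648, nat_lit 16960, nat_lit 21888, nat_lit 26368, nat_lit 30976, nat_lit 35328, nat_lit 46407, nat_lit 43979, nat_lit 38239, nat_lit 32953, nat_lit 28706, nat_lit 24638, nat_lit 20562, nat_lit 16391, nat_lit 12295, nat_lit 8201, nat_lit 4097, nat_lit 2, nat_lit 413699, nat_lit 401408, nat_lit 139272, nat_lit 131116, nat_lit 40964, nat_lit 32776, nat_lit 28704, nat_lit 24580, nat_lit 16392, nat_lit 4097]⟩)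
 (.leaf ndCr2_2))
 (.node (nat_lit 39) (.leaf ⟨[nat_lit 0x712de1b3eee9c0a758d228c8c4651b50050a, nat_lit 0x48de1b52169ad2d784e32390a663dcd08062], [nat_lit 65536, nat_lit 69632, nat_lit 73728, nat_lit 77824, nat_lit 90112, nat_lit 102400, nat_lit 170496, nat_lit 167424, nat_lit 160256, nat_lit 158912, nat_lit 153024, nat_lit 149744, nat_lit 145208, nat_lit 141864, nat_lit 135958, nat_lit 134860, nat_lit 2370, nat_lit 6400, nat_lit 9224, nat_lit 13776, nat_lit 18880, nat_lit 22656, nat_lit 26880, nat_lit 30976, nat_lit 33792, nat_lit 43008, nat_lit 46032, nat_lit 40964, nat_lit 39108, nat_lit 33332, nat_lit 30790, nat_lit 24583, nat_lit 20753, nat_lit 16426, nat_lit 12305, nat_lit 8256, nat_lit 4100, nat_lit 425989, nat_lit 409600, nat_lit 131360, nat_lit 40976, nat_lit 28688, nat_lit 12289, nat_lit 8193, nat_lit 4097, nat_lit 327680]⟩)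
 (.leaf ndCr2_3))))

theorem dcCE4_ok : dcCE4.all (elB (nat_lit 12288)) = true := by decide +kernel

def dcCE5 : BT El := (.node (nat_lit 44) (.node (nat_lit 42) (.node (nat_lit 41) (.leaf ⟨[nat_lit 0x393faf1498b1cdcaa4225054c1b212725daf, nat_lit 0xa5f903731edbd2b68ce5021cc51880152568], [nat_lit 73728, nat_lit 77824, nat_lit 81920, nat_lit 90112, nat_lit 102400, nat_lit 110592, nat_lit 178176, nat_lit 171008, nat_lit 166144, nat_lit 163584, nat_lit 158976, nat_lit 154400, nat_lit 147936, nat_lit 146984, nat_lit 142312, nat_lit 137268, nat_lit 133871, nat_lit 588, nat_lit 4684, nat_lit 11432, nat_lit 13040, nat_lit 17760, nat_lit 21184, nat_lit 26496, nat_lit 29696, nat_lit 35328, nat_lit 37888, nat_lit 43008, nat_lit 45088, nat_lit 41896, nat_lit 36988, nat_lit 33996, nat_lit 28761, nat_lit 24590, nat_lit 20496, nat_lit 16429, nat_lit 12304, nat_lit 8194, nat_lit 4097, nat_lit 2, nat_lit 425989, nat_lit 409600, nat_lit 151808, nat_lit 147744, nat_lit 131088, nat_lit 40976,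 nat_lit 28688, nat_lit 12289, nat_lit 8193, nat_lit 4097]⟩)
 (.leaf ⟨[nat_lit 0x2141e865937714c8585a0549f31c2a7a0a24, nat_lit 0x7de78ebcca04adca3d05109ad225603431af], [nat_lit 65536, nat_lit 69632, nat_lit 94208, nat_lit 98304, nat_lit 102400, nat_lit 106496, nat_lit 175104, nat_lit 170496, nat_lit 165888, nat_lit 159168, nat_lit 155552, nat_lit 148176, nat_lit 144408, nat_lit 139508, nat_lit 137196, nat_lit 133408, nat_lit 2656, nat_lit 6752, nat_lit 8680, nat_lit 13232, nat_lit 19616, nat_lit 21696, nat_lit 28416, nat_lit 29184, nat_lit 35840, nat_lit 39936, nat_lit 43008, nat_lit 45740, nat_lit 41065, nat_lit 37032, nat_lit 32812, nat_lit 29239, nat_lit 24627, nat_lit 20508, nat_lit 16399, nat_lit 12307, nat_lit 8195, nat_lit 4097, nat_lit 434183, nat_lit 409600, nat_lit 160768, nat_lit 148608, nat_lit 132096, nat_lit 36865, nat_lit 32896, nat_lit 20496, nat_lit 8193, nat_lit 4097]⟩))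
 (.node (nat_lit 43) (.leaf ⟨[nat_lit 0x17db7e9b2ea004827a656742a85b63428cc7, nat_lit 0xcaaf091b1e743a57b366b306b45244401611], [nat_lit 90112, nat_lit 94208, nat_lit 98304, nat_lit 165120, nat_lit 159872, nat_lit 155776, nat_lit 149424, nat_lit 146416, nat_lit 139320, nat_lit 136488, nat_lit 132079, nat_lit 2130, nat_lit 5912, nat_lit 10656, nat_lit 15680, nat_lit 20448, nat_lit 23744, nat_lit 28288, nat_lit 31744, nat_lit 34816, nat_lit 37888, nat_lit 43008, nat_lit 46373, nat_lit 44010, nat_lit 37893, nat_lit 33017, nat_lit 24629, nat_lit 20567, nat_lit 16453, nat_lit 12551, nat_lit 8201, nat_lit 4100, nat_lit 417795, nat_lit 401408, nat_lit 143424, nat_lit 41037, nat_lit 36865, nat_lit 32832, nat_lit 28680, nat_lit 20484, nat_lit 16388, nat_lit 4097]⟩)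
 (.leaf ⟨[nat_lit 0x66900c4dcc28296c19e8823cb3b4aad74401], [nat_lit 65536, nat_lit 69632, nat_lit 73728, nat_lit 94208, nat_lit 178176, nat_lit 175104, nat_lit 168448, nat_lit 167424, nat_lit 161152, nat_lit 156032, nat_lit 153440, nat_lit 147920, nat_lit 145536, nat_lit 139520, nat_lit 136344, nat_lit 133575, nat_lit 3856, nat_lit 7952, nat_lit 9648, nat_lit 12608, nat_lit 17664, nat_lit 23168, nat_lit 25984, nat_lit 29440, nat_lit 33280, nat_lit 37888, nat_lit 43008, nat_lit 41491, nat_lit 38026, nat_lit 32812, nat_lit 28784, nat_lit 24589, nat_lit 20487, nat_lit 16398, nat_lit 12305, nat_lit 8200, nat_lit 327680]⟩)))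
 (.node (nat_lit 46) (.node (nat_lit 45) (.leaf ⟨[nat_lit 0x7eee4b2d6ca580817b10749a708d1a21baf2, nat_lit 0x8271ed72544ba2421ae153b401b51e561a71], [nat_lit 81920, nat_lit 90112, nat_lit 94208, nat_lit 106496, nat_lit 178176, nat_lit 170496, nat_lit 167168, nat_lit 162816, nat_lit 159488, nat_lit 151936, nat_lit 149328, nat_lit 146384, nat_lit 139632, nat_lit 136050, nat_lit 132127, nat_lit 3826, nat_lit 4616, nat_lit 9456, nat_lit 15152, nat_lit 20192, nat_lit 21440, nat_lit 28544, nat_lit 30208, nat_lit 34304, nat_lit 46675, nat_lit 43979, nat_lit 37243, nat_lit 33315, nat_lit 29709, nat_lit 24842, nat_lit 20487, nat_lit 16388, nat_lit 12289, nat_lit 8210, nat_lit 4101, nat_lit 2, nat_lit 417795, nat_lit 401408, nat_lit 143424, nat_lit 41037, nat_lit 36865, nat_lit 32832, nat_lit 28680, nat_lit 20484, nat_lit 16388, nat_lit 4097, nat_lit 327680]⟩)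
 (.leaf ⟨[nat_lit 0xd2b7dda9e0302c2db5d2c246829c94f2990e, nat_lit 0xf6c6f9b94896554d0d10089dc313cd3b2e50], [nat_lit 65536, nat_lit 69632, nat_lit 77824, nat_lit 81920, nat_lit 106496, nat_lit 110592, nat_lit 178176, nat_lit 174080, nat_lit 168960, nat_lit 166400, nat_lit 162816, nat_lit 156800, nat_lit 152224, nat_lit 147616, nat_lit 145968, nat_lit 141588, nat_lit 135876, nat_lit 133005, nat_lit 2284, nat_lit 6380, nat_lit 12264, nat_lit 14032, nat_lit 19744, nat_lit 21056, nat_lit 26752, nat_lit 29952, nat_lit 35840, nat_lit 39936, nat_lit 45836, nat_lit 41083, nat_lit 37372, nat_lit 33307, nat_lit 28928, nat_lit 24726, nat_lit 20557, nat_lit 16424, nat_lit 12323, nat_lit 8195, nat_lit 4097, nat_lit 2, nat_lit 421894, nat_lit 401408, nat_lit 139328, nat_lit 131264, nat_lit 41024, nat_lit 36868, nat_lit 32965, nat_lit 20484, nat_lit 16385, nat_lit 4097, nat_lit 327680]⟩))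
 (.node (nat_lit 47) (.leaf ⟨[nat_lit 0x503991be7541ad71102b730a98b414940ea, nat_lit 0x4118e2335ee0267621cac80917955630d151, nat_lit 0x3930a05126f5c18539ac1a0a51481151baed], [nat_lit 65536, nat_lit 69632, nat_lit 77824, nat_lit 86016, nat_lit 102400, nat_lit 106496, nat_lit 174080, nat_lit 170496, nat_lit 167424, nat_lit 159872, nat_lit 159360, nat_lit 154272, nat_lit 148128, nat_lit 146720, nat_lit 140376, nat_lit 138844, nat_lit 132050, nat_lit 1324, nat_lit 5420, nat_lit 12072, nat_lit 15568, nat_lit 17664, nat_lit 23808, nat_lit 24704, nat_lit 30976, nat_lit 34304, nat_lit 39936, nat_lit 43008, nat_lit 45333, nat_lit 41091, nat_lit 37201, nat_lit 32830, nat_lit 28765, nat_lit 24596, nat_lit 20496, nat_lit 16399, nat_lit 12295, nat_lit 8193, nat_lit 4097, nat_lit 434183, nat_lit 417796, nat_lit 405504, nat_lit 160768, nat_lit 156672, nat_lit 147584, nat_lit 131080, nat_lit 45073, nat_lit 36880, nat_lit 32985, nat_lit 20496, nat_lit 8193, nat_lit 4097, nat_lit 327680]⟩)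
 (.leaf ndCr1_2))))

theorem dcCE5_ok : dcCE5.all (elB (nat_lit 12288)) = true := by decide +kernel

def dcCE6 : BT El := (.node (nat_lit 52) (.node (nat_lit 50) (.node (nat_lit 49) (.leaf ⟨[nat_lit 0x939c95bc2c413eaa3326da21c34957289c20, nat_lit 0x5c6a3384661321d6188123be8bbb0a9a91aa, nat_lit 0xd82dd83b5422b160aa1301ce8189897959cf], [nat_lit 65536, nat_lit 69632, nat_lit 73728, nat_lit 86016, nat_lit 90112, nat_lit 94208, nat_lit 98304, nat_lit 102400, nat_lit 106496, nat_lit 110592, nat_lit 174080, nat_lit 171008, nat_lit 159872, nat_lit 157568, nat_lit 154400, nat_lit 151024, nat_lit 143600, nat_lit 140076, nat_lit 136380, nat_lit 131368, nat_lit 1088, nat_lit 5184, nat_lit 10792, nat_lit 13088, nat_lit 17440, nat_lit 23680, nat_lit 26624, nat_lit 34304, nat_lit 38912, nat_lit 46658, nat_lit 43560, nat_lit 39385, nat_lit 32856, nat_lit 29187, nat_lit 24855, nat_lit 20487, nat_lit 16516, nat_lit 12294, nat_lit 8200, nat_lit 4097, nat_lit 425991, nat_lit 417797, nat_lit 405504,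 nat_lit 155904, nat_lit 151936, nat_lit 143744, nat_lit 131168, nat_lit 45057, nat_lit 41408, nat_lit 37033, nat_lit 8193, nat_lit 4097, nat_lit 327680]⟩)
 (.leaf ndCr1_4))
 (.node (nat_lit 51) (.leaf ⟨[nat_lit 0x35c03926aa1990c258f12896f751b3bc001], [nat_lit 65536, nat_lit 69632, nat_lit 77824, nat_lit 81920, nat_lit 90112, nat_lit 178176, nat_lit 173056, nat_lit 170496, nat_lit 167424, nat_lit 162304, nat_lit 156160, nat_lit 155008, nat_lit 148720, nat_lit 146104, nat_lit 142340, nat_lit 136026, nat_lit 132538, nat_lit 2, nat_lit 7168, nat_lit 10288, nat_lit 14896, nat_lit 18240, nat_lit 25600, nat_lit 32512, nat_lit 33280, nat_lit 39936, nat_lit 40992, nat_lit 37120, nat_lit 33304, nat_lit 28783, nat_lit 24638, nat_lit 20559, nat_lit 16428, nat_lit 12306, nat_lit 8203, nat_lit 4097, nat_lit 2, nat_lit 327680]⟩)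
 (.leaf ⟨[nat_lit 0xe2d7e7796b2332f08b8f46cec45a9221a020], [nat_lit 77824, nat_lit 90112, nat_lit 98304, nat_lit 106496, nat_lit 178176, nat_lit 174080, nat_lit 168448, nat_lit 164608, nat_lit 163200, nat_lit 157888, nat_lit 152288, nat_lit 148128, nat_lit 144400, nat_lit 139352, nat_lit 135810, nat_lit 134480, nat_lit 2366, nat_lit 4352, nat_lit 10552, nat_lit 14592, nat_lit 18720, nat_lit 20736, nat_lit 26880, nat_lit 29952, nat_lit 34816, nat_lit 38912, nat_lit 41523, nat_lit 38270, nat_lit 32822, nat_lit 28760, nat_lit 24582, nat_lit 20752, nat_lit 16394, nat_lit 12294, nat_lit 8194, nat_lit 4100]⟩)))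
 (.node (nat_lit 54) (.node (nat_lit 53) (.leaf ⟨[nat_lit 0x50afac7b6b74464a63ad4288e35c13321820], [nat_lit 65536, nat_lit 69632, nat_lit 86016, nat_lit 178176, nat_lit 175104, nat_lit 169472, nat_lit 167680, nat_lit 162176, nat_lit 157568, nat_lit 152608, nat_lit 149680, nat_lit 145464, nat_lit 141804, nat_lit 137464, nat_lit 131249, nat_lit 512, nat_lit 4608, nat_lit 11848, nat_lit 14368, nat_lit 17408, nat_lit 21888, nat_lit 25344, nat_lit 30976, nat_lit 36352, nat_lit 43008, nat_lit 41792, nat_lit 34024, nat_lit 28934, nat_lit 25619, nat_lit 20627, nat_lit 16426, nat_lit 12325, nat_lit 8211]⟩)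
 (.leaf ⟨[nat_lit 0x724db853970951f71d524698f3b08a864401], [nat_lit 73728, nat_lit 77824, nat_lit 90112, nat_lit 98304, nat_lit 106496, nat_lit 175104, nat_lit 168960, nat_lit 165632, nat_lit 162048, nat_lit 158656, nat_lit 153888, nat_lit 148192, nat_lit 147448, nat_lit 141572, nat_lit 136020, nat_lit 131469, nat_lit 2, nat_lit 4128, nat_lit 11032, nat_lit 15680, nat_lit 18496, nat_lit 22592, nat_lit 27136, nat_lit 31232, nat_lit 35328, nat_lit 43008, nat_lit 41084, nat_lit 36872, nat_lit 32885, nat_lit 28768, nat_lit 24623, nat_lit 16645, nat_lit 12353, nat_lit 8202, nat_lit 4097, nat_lit 2]⟩))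
 (.node (nat_lit 55) (.leaf ⟨[nat_lit 0x7b47147b530928861b8f4b30a2acd7744420], [nat_lit 65536, nat_lit 69632, nat_lit 86016, nat_lit 94208, nat_lit 98304, nat_lit 106496, nat_lit 178176, nat_lit 173056, nat_lit 169984, nat_lit 165632, nat_lit 160640, nat_lit 156480, nat_lit 152320, nat_lit 150256, nat_lit 144080, nat_lit 139972, nat_lit 138898, nat_lit 134046, nat_lit 2, nat_lit 5904, nat_lit 8544, nat_lit 13760, nat_lit 19712, nat_lit 20736, nat_lit 25600, nat_lit 29184, nat_lit 34816, nat_lit 37888, nat_lit 41980, nat_lit 37121, nat_lit 33396, nat_lit 29799, nat_lit 24868, nat_lit 20740, nat_lit 16390, nat_lit 12418, nat_lit 8211, nat_lit 4097, nat_lit 2]⟩)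
 (.leaf ⟨[nat_lit 0xaa950bb922428929b4ec2c2b45bec389801], [nat_lit 73728, nat_lit 81920, nat_lit 98304, nat_lit 106496, nat_lit 178176, nat_lit 175104, nat_lit 169984, nat_lit 165376, nat_lit 162944, nat_lit 157760, nat_lit 152160, nat_lit 148624, nat_lit 147128, nat_lit 141760, nat_lit 135606, nat_lit 134272, nat_lit 1808, nat_lit 5904, nat_lit 9216, nat_lit 14848, nat_lit 17664, nat_lit 23424, nat_lit 28288, nat_lit 30464, nat_lit 34816, nat_lit 37888, nat_lit 41595, nat_lit 37123, nat_lit 33456, nat_lit 28937, nat_lit 25640, nat_lit 20621, nat_lit 16395, nat_lit 12304, nat_lit 8224]⟩))))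

theorem dcCE6_ok : dcCE6.all (elB (nat_lit 12288)) = true := by decide +kernel

def dcCE7 : BT El := (.node (nat_lit 60) (.node (nat_lit 58) (.node (nat_lit 57) (.leaf ⟨[nat_lit 0x655a9312d2a85d86236d33c5d4abcb240c01], [nat_lit 77824, nat_lit 81920, nat_lit 90112, nat_lit 178176, nat_lit 174080, nat_lit 171520, nat_lit 164352, nat_lit 162432, nat_lit 158208, nat_lit 152192, nat_lit 151168, nat_lit 144072, nat_lit 141612, nat_lit 137530, nat_lit 134536, nat_lit 1142, nat_lit 7292, nat_lit 9328, nat_lit 12544, nat_lit 20224, nat_lit 22528, nat_lit 24832, nat_lit 28928, nat_lit 34816, nat_lit 38912, nat_lit 41575, nat_lit 38186, nat_lit 32815, nat_lit 28687, nat_lit 25090, nat_lit 20757, nat_lit 16421, nat_lit 12295, nat_lit 8195, nat_lit 4101, nat_lit 327680]⟩)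
 (.leaf ⟨[nat_lit 0xc56353958b713e8861db170eaa5913034c01], [nat_lit 73728, nat_lit 77824, nat_lit 81920, nat_lit 90112, nat_lit 94208, nat_lit 98304, nat_lit 106496, nat_lit 178176, nat_lit 175104, nat_lit 169472, nat_lit 165120, nat_lit 160000, nat_lit 156160, nat_lit 152192, nat_lit 150112, nat_lit 144344, nat_lit 139880, nat_lit 136226, nat_lit 133236, nat_lit 2, nat_lit 5992, nat_lit 11552, nat_lit 15200, nat_lit 19712, nat_lit 23680, nat_lit 24832, nat_lit 29952, nat_lit 35328, nat_lit 37888, nat_lit 43008, nat_lit 41752, nat_lit 37288, nat_lit 33457, nat_lit 29262, nat_lit 24750, nat_lit 20625, nat_lit 16431, nat_lit 8193, nat_lit 4097, nat_lit 2]⟩))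
 (.node (nat_lit 59) (.leaf ndCr2_4)
 (.leaf ⟨[nat_lit 0x8814e86d6ce84c62520c4044323ad25652ef, nat_lit 0x2e2774406262bee70289268ea285a6e6512b], [nat_lit 65536, nat_lit 69632, nat_lit 73728, nat_lit 77824, nat_lit 81920, nat_lit 90112, nat_lit 94208, nat_lit 102400, nat_lit 106496, nat_lit 110592, nat_lit 173056, nat_lit 171520, nat_lit 165376, nat_lit 161536, nat_lit 159040, nat_lit 152672, nat_lit 149088, nat_lit 144672, nat_lit 141144, nat_lit 136534, nat_lit 132200, nat_lit 376, nat_lit 4472, nat_lit 8920, nat_lit 16000, nat_lit 17920, nat_lit 24128, nat_lit 28416, nat_lit 31232, nat_lit 34816, nat_lit 39936, nat_lit 46595, nat_lit 41231, nat_lit 36961, nat_lit 33995, nat_lit 28788, nat_lit 24721, nat_lit 20548, nat_lit 16387, nat_lit 13319, nat_lit 8256, nat_lit 4097, nat_lit 2, nat_lit 421893, nat_lit 401408, nat_lit 139296, nat_lit 131204, nat_lit 40964, nat_lit 36868, nat_lit 32933, nat_lit 24608, nat_lit 4097]⟩)))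
 (.node (nat_lit 62) (.node (nat_lit 61) (.leaf ndCr3_0)
 (.leaf ⟨[nat_lit 0x8de77e0d4075c1a3499165444fbb8aca1253, nat_lit 0xc93f5f1b6e9a4ec563e26ab90091d4b24022, nat_lit 0x3359f0564a0de0935a8f191a23ad0e61633], [nat_lit 81920, nat_lit 98304, nat_lit 110592, nat_lit 178176, nat_lit 173056, nat_lit 170496, nat_lit 164352, nat_lit 160768, nat_lit 156352, nat_lit 154464, nat_lit 148544, nat_lit 143424, nat_lit 142740, nat_lit 139010, nat_lit 133928, nat_lit 428, nat_lit 4524, nat_lit 12080, nat_lit 14416, nat_lit 19904, nat_lit 22272, nat_lit 27520, nat_lit 28928, nat_lit 35328, nat_lit 39936, nat_lit 47026, nat_lit 43757, nat_lit 37132, nat_lit 33360, nat_lit 30733, nat_lit 24608, nat_lit 20495, nat_lit 16394, nat_lit 12306, nat_lit 8195, nat_lit 4097, nat_lit 438279, nat_lit 417797, nat_lit 409603, nat_lit 401408, nat_lit 151744, nat_lit 147680, nat_lit 143568, nat_lit 141432, nat_lit 131196, nat_lit 41184, nat_lit 37081, nat_lit 32813, nat_lit 4097, nat_lit 327680]⟩))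
 (.node (nat_lit 63) (.leaf ndCr3_1)
 (.leaf ⟨[nat_lit 0x99aca914d352325079e965b906015a1baa23, nat_lit 0x9596361d130b817155852aa2613b9ed610a6], [nat_lit 73728, nat_lit 81920, nat_lit 86016, nat_lit 90112, nat_lit 102400, nat_lit 110592, nat_lit 175104, nat_lit 168960, nat_lit 166400, nat_lit 161792, nat_lit 157696, nat_lit 154432, nat_lit 148864, nat_lit 144192, nat_lit 140160, nat_lit 138488, nat_lit 134184, nat_lit 1696, nat_lit 5792, nat_lit 10728, nat_lit 13504, nat_lit 20160, nat_lit 24192, nat_lit 26624, nat_lit 29440, nat_lit 35840, nat_lit 43008, nat_lit 47014, nat_lit 41774, nat_lit 36937, nat_lit 33856, nat_lit 28695, nat_lit 20483, nat_lit 16399, nat_lit 12308, nat_lit 4097, nat_lit 2, nat_lit 430085, nat_lit 405504, nat_lit 152064, nat_lit 143872, nat_lit 40968, nat_lit 28680, nat_lit 24608, nat_lit 16392, nat_lit 8193, nat_lit 4097, nat_lit 327680]⟩))))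

theorem dcCE7_ok : dcCE7.all (elB (nat_lit 12288)) = true := by decide +kernel

def dcCE8 : BT El := (.node (nat_lit 68) (.node (nat_lit 66) (.node (nat_lit 65) (.leaf ⟨[nat_lit 0x174de2b1cada040f50c904d5cbbca2c9a046, nat_lit 0xfa03991b4d37228c490f55dc02b2a512be01, nat_lit 0xe8421293a8a080459d5a98b1165be17190c7], [nat_lit 86016, nat_lit 90112, nat_lit 94208, nat_lit 102400, nat_lit 165632, nat_lit 162048, nat_lit 156096, nat_lit 154240, nat_lit 149088, nat_lit 144048, nat_lit 142288, nat_lit 137702, nat_lit 133429, nat_lit 1334, nat_lit 8008, nat_lit 9040, nat_lit 16320, nat_lit 17280, nat_lit 22080, nat_lit 28288, nat_lit 33280, nat_lit 45605, nat_lit 41389, nat_lit 39298, nat_lit 33390, nat_lit 28726, nat_lit 24833, nat_lit 20506, nat_lit 16421, nat_lit 12305, nat_lit 8202, nat_lit 4105, nat_lit 2, nat_lit 430088, nat_lit 421893, nat_lit 409603, nat_lit 401408, nat_lit 164352, nat_lit 160256, nat_lit 152064, nat_lit 143392, nat_lit 139560, nat_lit 131096, nat_lit 45840,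 nat_lit 41900, nat_lit 24580, nat_lit 4097, nat_lit 327680]⟩)
 (.leaf ⟨[nat_lit 0xe422449b5722a58675ec81c09488aa77a820, nat_lit 0xaf9cf9a1c6e6bd3004501158ac91146bcd75, nat_lit 0xcfac90514513066b1c8e8ad2cd8240475d8f], [nat_lit 65536, nat_lit 69632, nat_lit 73728, nat_lit 81920, nat_lit 86016, nat_lit 90112, nat_lit 94208, nat_lit 102400, nat_lit 106496, nat_lit 170496, nat_lit 166400, nat_lit 156608, nat_lit 154016, nat_lit 148160, nat_lit 146848, nat_lit 141348, nat_lit 137328, nat_lit 133199, nat_lit 1760, nat_lit 5856, nat_lit 10576, nat_lit 15824, nat_lit 19808, nat_lit 21760, nat_lit 24960, nat_lit 30208, nat_lit 34304, nat_lit 37888, nat_lit 45739, nat_lit 41286, nat_lit 37064, nat_lit 32880, nat_lit 28738, nat_lit 24615, nat_lit 20485, nat_lit 16389, nat_lit 12802, nat_lit 4097, nat_lit 425991, nat_lit 417797, nat_lit 409603, nat_lit 401408, nat_lit 160000, nat_lit 156032, nat_lit 151936, nat_lit 147584, nat_lit 143600, nat_lit 139536, nat_lit 45320, nat_lit 41148, nat_lit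 36956, nat_lit 4097]⟩))
 (.node (nat_lit 67) (.leaf ndCr3_2)
 (.leaf ⟨[nat_lit 0xe2d8176b2b499cb04040a312515a443b3eee, nat_lit 0x18bde2742a730d05b91b28a6600d954589ec], [nat_lit 81920, nat_lit 86016, nat_lit 94208, nat_lit 178176, nat_lit 174080, nat_lit 171008, nat_lit 166400, nat_lit 160128, nat_lit 158400, nat_lit 151584, nat_lit 148544, nat_lit 147392, nat_lit 139796, nat_lit 136560, nat_lit 131335, nat_lit 2636, nat_lit 6732, nat_lit 10136, nat_lit 16192, nat_lit 20448, nat_lit 23744, nat_lit 28032, nat_lit 29952, nat_lit 34304, nat_lit 39936, nat_lit 46896, nat_lit 41922, nat_lit 33843, nat_lit 29041, nat_lit 24883, nat_lit 20766, nat_lit 16642, nat_lit 12327, nat_lit 8193, nat_lit 4097, nat_lit 2, nat_lit 413700, nat_lit 405504, nat_lit 143408, nat_lit 40976, nat_lit 36872, nat_lit 28680, nat_lit 24608, nat_lit 4097]⟩)))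
 (.node (nat_lit 70) (.node (nat_lit 69) (.leaf ndCr3_3)
 (.leaf ⟨[nat_lit 0xcaaff63a59593c0d722840cd6a894c285ec3, nat_lit 0xde1b216d531239e232c0a6591380cb23dc34, nat_lit 0xedb17b980ebb044e33ea565e506d1281922a, nat_lit 0xe18b1bbb4f5a2431b01537946242ccc8488e], [nat_lit 65536, nat_lit 69632, nat_lit 73728, nat_lit 77824, nat_lit 81920, nat_lit 90112, nat_lit 102400, nat_lit 168448, nat_lit 167680, nat_lit 161280, nat_lit 157312, nat_lit 154208, nat_lit 150464, nat_lit 145408, nat_lit 141984, nat_lit 138222, nat_lit 131220, nat_lit 2114, nat_lit 7796, nat_lit 10304, nat_lit 12656, nat_lit 17152, nat_lit 20672, nat_lit 26624, nat_lit 32000, nat_lit 33280, nat_lit 37888, nat_lit 43008, nat_lit 45239, nat_lit 41502, nat_lit 37349, nat_lit 33486, nat_lit 29304, nat_lit 24627, nat_lit 20568, nat_lit 16391, nat_lit 12321, nat_lit 4105, nat_lit 434185, nat_lit 425991, nat_lit 417797, nat_lit 409603, nat_lit 401408, nat_lit 168960, nat_lit 160256, nat_lit 156800, nat_lit 151808, nat_lit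 148288, nat_lit 144064, nat_lit 139400, nat_lit 132212, nat_lit 45752, nat_lit 4097]⟩))
 (.node (nat_lit 71) (.leaf ndCr3_4)
 (.leaf ⟨[nat_lit 0x8d187ead9cd18a70bb1f4880323952b51904, nat_lit 0x3f35f33b971035f79a18580e563049515149], [nat_lit 73728, nat_lit 81920, nat_lit 94208, nat_lit 98304, nat_lit 110592, nat_lit 175104, nat_lit 170496, nat_lit 164864, nat_lit 160000, nat_lit 156864, nat_lit 151616, nat_lit 150720, nat_lit 143496, nat_lit 141864, nat_lit 136074, nat_lit 134720, nat_lit 654, nat_lit 6564, nat_lit 8840, nat_lit 13440, nat_lit 20320, nat_lit 22720, nat_lit 26752, nat_lit 29184, nat_lit 33280, nat_lit 38912, nat_lit 45573, nat_lit 41221, nat_lit 39386, nat_lit 33446, nat_lit 29185, nat_lit 24623, nat_lit 20495, nat_lit 16390, nat_lit 12324, nat_lit 8194, nat_lit 4101, nat_lit 413699, nat_lit 401408, nat_lit 139272, nat_lit 131116, nat_lit 40968, nat_lit 32772, nat_lit 28717, nat_lit 24580, nat_lit 16388, nat_lit 4097]⟩))))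

theorem dcCE8_ok : dcCE8.all (elB (nat_lit 12288)) = true := by decide +kernel

def dcCE9 : BT El := (.node (nat_lit 76) (.node (nat_lit 74) (.node (nat_lit 73) (.leaf ⟨[nat_lit 0x441b84410ca90411a5dec808733a565b39b5, nat_lit 0xaa6f90131c6a25f2bd4646da2b3a14104265, nat_lit 0x1e4841594ca8883341c897ddb6655d494060], [nat_lit 73728, nat_lit 86016, nat_lit 90112, nat_lit 98304, nat_lit 178176, nat_lit 174080, nat_lit 168448, nat_lit 167424, nat_lit 160640, nat_lit 156160, nat_lit 154208, nat_lit 150736, nat_lit 144688, nat_lit 141384, nat_lit 136558, nat_lit 133526, nat_lit 172, nat_lit 4268, nat_lit 10472, nat_lit 13824, nat_lit 19648, nat_lit 21632, nat_lit 28032, nat_lit 30720, nat_lit 33280, nat_lit 43008, nat_lit 46848, nat_lit 43208, nat_lit 33859, nat_lit 29044, nat_lit 24727, nat_lit 20495, nat_lit 16397, nat_lit 12292, nat_lit 8203, nat_lit 4097, nat_lit 425991, nat_lit 417797, nat_lit 409603, nat_lit 401408, nat_lit 156032, nat_lit 151616, nat_lit 147776, nat_lit 143680,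 nat_lit 139512, nat_lit 131224, nat_lit 45401, nat_lit 41049, nat_lit 4097]⟩)
 (.leaf ⟨[nat_lit 0xb7de1b534b780a72655243d1c859acf88c01], [nat_lit 65536, nat_lit 69632, nat_lit 73728, nat_lit 77824, nat_lit 81920, nat_lit 86016, nat_lit 90112, nat_lit 94208, nat_lit 98304, nat_lit 106496, nat_lit 178176, nat_lit 174080, nat_lit 169984, nat_lit 164864, nat_lit 161152, nat_lit 156288, nat_lit 151904, nat_lit 150320, nat_lit 146352, nat_lit 140400, nat_lit 136988, nat_lit 131115, nat_lit 2, nat_lit 4100, nat_lit 10248, nat_lit 14848, nat_lit 18688, nat_lit 24384, nat_lit 25728, nat_lit 32256, nat_lit 35328, nat_lit 43008, nat_lit 41484, nat_lit 37065, nat_lit 32780, nat_lit 29234, nat_lit 24759, nat_lit 20511, nat_lit 16427, nat_lit 12292, nat_lit 4097, nat_lit 2, nat_lit 327680]⟩))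
 (.node (nat_lit 75) (.leaf ⟨[nat_lit 0xa6af5b988fab40114ca98da4e38e0b62154, nat_lit 0x27871e3bd2ba30b7104cd1c51524dd2b4140, nat_lit 0xdbe7b878e960ba53b9d512c2ab0212c688c4], [nat_lit 77824, nat_lit 86016, nat_lit 94208, nat_lit 178176, nat_lit 174080, nat_lit 171008, nat_lit 166144, nat_lit 161408, nat_lit 155840, nat_lit 154176, nat_lit 148672, nat_lit 145208, nat_lit 141952, nat_lit 136530, nat_lit 133407, nat_lit 1896, nat_lit 5992, nat_lit 11944, nat_lit 14224, nat_lit 18816, nat_lit 21568, nat_lit 25600, nat_lit 32512, nat_lit 34304, nat_lit 39936, nat_lit 45203, nat_lit 41437, nat_lit 37198, nat_lit 33530, nat_lit 28955, nat_lit 25149, nat_lit 20551, nat_lit 16386, nat_lit 12294, nat_lit 8202, nat_lit 4097, nat_lit 425991, nat_lit 417797, nat_lit 409603, nat_lit 401408, nat_lit 155776, nat_lit 151936, nat_lit 147680, nat_lit 143808, nat_lit 139472, nat_lit 131388, nat_lit 45080, nat_lit 41069, nat_lit 37181, nat_lit 4097, nat_lit 327680]⟩)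
 (.leaf ⟨[nat_lit 0xcf06a97c6920303754c444d9ab820c329eae, nat_lit 0x936395a91b02acc263d0371e570269650671, nat_lit 0xe12ed2b948a44e364b1b57c8e0305d0a2c43], [nat_lit 65536, nat_lit 69632, nat_lit 73728, nat_lit 81920, nat_lit 86016, nat_lit 94208, nat_lit 102400, nat_lit 178176, nat_lit 173056, nat_lit 169472, nat_lit 166144, nat_lit 161664, nat_lit 158592, nat_lit 154336, nat_lit 148960, nat_lit 144720, nat_lit 140120, nat_lit 139114, nat_lit 134382, nat_lit 1212, nat_lit 5308, nat_lit 9128, nat_lit 14416, nat_lit 18688, nat_lit 22784, nat_lit 27008, nat_lit 29952, nat_lit 34816, nat_lit 39936, nat_lit 43008, nat_lit 46592, nat_lit 43035, nat_lit 38147, nat_lit 32942, nat_lit 29050, nat_lit 24763, nat_lit 20496, nat_lit 16396, nat_lit 12292, nat_lit 8203, nat_lit 4097, nat_lit 2, nat_lit 425991, nat_lit 417797, nat_lit 409603, nat_lit 401408, nat_lit 156032, nat_lit 151616, nat_lit 147776, nat_lit 143680, nat_lit 139512, nat_lit 131224, nat_lit 45401, nat_lit 41049, nat_lit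 4097, nat_lit 327680]⟩)))
 (.node (nat_lit 78) (.node (nat_lit 77) (.leaf ⟨[nat_lit 0x7d424762dd091904195b74d2d338aaf54401], [nat_lit 65536, nat_lit 69632, nat_lit 81920, nat_lit 94208, nat_lit 98304, nat_lit 106496, nat_lit 178176, nat_lit 173056, nat_lit 170496, nat_lit 165120, nat_lit 161408, nat_lit 155840, nat_lit 155392, nat_lit 147840, nat_lit 144496, nat_lit 139956, nat_lit 136328, nat_lit 131523, nat_lit 2, nat_lit 5120, nat_lit 10312, nat_lit 12400, nat_lit 19200, nat_lit 24192, nat_lit 27392, nat_lit 30208, nat_lit 35328, nat_lit 37888, nat_lit 41404, nat_lit 37120, nat_lit 33285, nat_lit 29789, nat_lit 24753, nat_lit 20609, nat_lit 16392, nat_lit 12305, nat_lit 8449, nat_lit 4097, nat_lit 2, nat_lit 327680]⟩)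
 (.leaf ⟨[nat_lit 0x7d4db751cb013e861d9a4731325c6b744c20], [nat_lit 94208, nat_lit 178176, nat_lit 175104, nat_lit 170496, nat_lit 167424, nat_lit 162816, nat_lit 158208, nat_lit 152032, nat_lit 151296, nat_lit 146336, nat_lit 141896, nat_lit 135356, nat_lit 134655, nat_lit 1896, nat_lit 5992, nat_lit 9504, nat_lit 15968, nat_lit 16704, nat_lit 22144, nat_lit 25600, nat_lit 31232, nat_lit 34816, nat_lit 39936, nat_lit 41736, nat_lit 38048, nat_lit 32776, nat_lit 29251, nat_lit 24739, nat_lit 20611, nat_lit 16389, nat_lit 8195]⟩))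
 (.node (nat_lit 79) (.leaf ndCr1_3)
 (.leaf ⟨[nat_lit 0xd1287b20d13395f48d64e5a6ec8184ab3420], [nat_lit 65536, nat_lit 69632, nat_lit 73728, nat_lit 77824, nat_lit 102400, nat_lit 106496, nat_lit 178176, nat_lit 174080, nat_lit 169472, nat_lit 165632, nat_lit 162944, nat_lit 159360, nat_lit 154944, nat_lit 148464, nat_lit 146920, nat_lit 139528, nat_lit 135510, nat_lit 131078, nat_lit 2176, nat_lit 6272, nat_lit 10728, nat_lit 12976, nat_lit 20352, nat_lit 21248, nat_lit 26496, nat_lit 31488, nat_lit 33280, nat_lit 39936, nat_lit 41344, nat_lit 37208, nat_lit 32982, nat_lit 28764, nat_lit 24764, nat_lit 20487, nat_lit 16387, nat_lit 12289, nat_lit 8193]⟩))))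

theorem dcCE9_ok : dcCE9.all (elB (nat_lit 12288)) = true := by decide +kernel

def dcCE10 : BT El := (.node (nat_lit 84) (.node (nat_lit 82) (.node (nat_lit 81) (.leaf ⟨[nat_lit 0x11e288b1d52246a96bc4e5d265442e61b020], [nat_lit 77824, nat_lit 81920, nat_lit 98304, nat_lit 102400, nat_lit 171008, nat_lit 164864, nat_lit 162560, nat_lit 157184, nat_lit 154080, nat_lit 148528, nat_lit 143976, nat_lit 139812, nat_lit 136862, nat_lit 132759, nat_lit 512, nat_lit 4608, nat_lit 8504, nat_lit 14848, nat_lit 16608, nat_lit 24256, nat_lit 26880, nat_lit 29696, nat_lit 35840, nat_lit 38912, nat_lit 43008, nat_lit 41792, nat_lit 36899, nat_lit 33984, nat_lit 29005, nat_lit 24723, nat_lit 20995, nat_lit 16462, nat_lit 8194, nat_lit 327680]⟩)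
 (.leaf ⟨[nat_lit 0x2844b433e933caed2b2365a46a241d512020], [nat_lit 81920, nat_lit 98304, nat_lit 106496, nat_lit 173056, nat_lit 168960, nat_lit 166912, nat_lit 161024, nat_lit 156096, nat_lit 155168, nat_lit 147952, nat_lit 146920, nat_lit 142132, nat_lit 135286, nat_lit 134050, nat_lit 10496, nat_lit 12864, nat_lit 18496, nat_lit 21376, nat_lit 25600, nat_lit 32512, nat_lit 35328, nat_lit 41024, nat_lit 37301, nat_lit 32851, nat_lit 29249, nat_lit 24729, nat_lit 20546, nat_lit 16519, nat_lit 12323, nat_lit 8200, nat_lit 327680]⟩))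
 (.node (nat_lit 83) (.leaf ⟨[nat_lit 0x11ed87b204c991cf356145a647bb46a2c420], [nat_lit 65536, nat_lit 69632, nat_lit 106496, nat_lit 175104, nat_lit 171520, nat_lit 164864, nat_lit 162176, nat_lit 156288, nat_lit 151536, nat_lit 147312, nat_lit 140116, nat_lit 138794, nat_lit 131096, nat_lit 2064, nat_lit 6160, nat_lit 11048, nat_lit 16352, nat_lit 19712, nat_lit 21952, nat_lit 28544, nat_lit 31232, nat_lit 34304, nat_lit 37888, nat_lit 43008, nat_lit 41797, nat_lit 38377, nat_lit 32999, nat_lit 29023, nat_lit 24895, nat_lit 20622, nat_lit 16421, nat_lit 12352, nat_lit 8226, nat_lit 327680]⟩)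
 (.leaf ⟨[nat_lit 0xcf35fc612b13524dbccef5a90283ac51a420], [nat_lit 73728, nat_lit 77824, nat_lit 81920, nat_lit 90112, nat_lit 94208, nat_lit 178176, nat_lit 174080, nat_lit 170496, nat_lit 166400, nat_lit 160768, nat_lit 158464, nat_lit 153856, nat_lit 148064, nat_lit 145840, nat_lit 140300, nat_lit 138590, nat_lit 134576, nat_lit 2080, nat_lit 6176, nat_lit 11712, nat_lit 12320, nat_lit 18976, nat_lit 23040, nat_lit 25472, nat_lit 31232, nat_lit 34304, nat_lit 38912, nat_lit 41460, nat_lit 36896, nat_lit 33936, nat_lit 28729, nat_lit 24873, nat_lit 16521, nat_lit 8194, nat_lit 327680]⟩)))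
 (.node (nat_lit 86) (.node (nat_lit 85) (.leaf ⟨[nat_lit 0xff969c4b25388cf47aad7599a5812a243820], [nat_lit 65536, nat_lit 69632, nat_lit 81920, nat_lit 86016, nat_lit 94208, nat_lit 106496, nat_lit 173056, nat_lit 171520, nat_lit 162816, nat_lit 156032, nat_lit 152640, nat_lit 150208, nat_lit 145568, nat_lit 143216, nat_lit 136802, nat_lit 132705, nat_lit 2056, nat_lit 6152, nat_lit 10168, nat_lit 12544, nat_lit 18336, nat_lit 21056, nat_lit 25344, nat_lit 32000, nat_lit 34304, nat_lit 37888, nat_lit 41720, nat_lit 38295, nat_lit 33511, nat_lit 28715, nat_lit 24616, nat_lit 20567, nat_lit 16388, nat_lit 327680]⟩)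
 (.leaf ⟨[nat_lit 0xa303cac19635048ba4e35a9b22162e7cc20], [nat_lit 86016, nat_lit 174080, nat_lit 171520, nat_lit 167680, nat_lit 163200, nat_lit 157056, nat_lit 152256, nat_lit 147552, nat_lit 146944, nat_lit 141496, nat_lit 138020, nat_lit 132142, nat_lit 32, nat_lit 4128, nat_lit 10856, nat_lit 16192, nat_lit 19104, nat_lit 22080, nat_lit 26368, nat_lit 31232, nat_lit 37888, nat_lit 43008, nat_lit 41952, nat_lit 38124, nat_lit 32864, nat_lit 29696, nat_lit 24608, nat_lit 20569, nat_lit 16396, nat_lit 8195]⟩))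
 (.node (nat_lit 87) (.leaf ⟨[nat_lit 0x7242486c9d52b102a266a58de63c097b4420], [nat_lit 65536, nat_lit 69632, nat_lit 73728, nat_lit 81920, nat_lit 98304, nat_lit 106496, nat_lit 173056, nat_lit 168448, nat_lit 166912, nat_lit 162304, nat_lit 157376, nat_lit 155520, nat_lit 151376, nat_lit 143832, nat_lit 142956, nat_lit 136998, nat_lit 134217, nat_lit 318, nat_lit 4608, nat_lit 8504, nat_lit 15024, nat_lit 20448, nat_lit 23744, nat_lit 25472, nat_lit 30720, nat_lit 35840, nat_lit 37888, nat_lit 43008, nat_lit 41414, nat_lit 37126, nat_lit 33280, nat_lit 29808, nat_lit 25612, nat_lit 20483, nat_lit 16397, nat_lit 12289, nat_lit 8194, nat_lit 4100, nat_lit 327680]⟩)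
 (.leaf ⟨[nat_lit 0x2ed78430e0c4d085729f65d633149a7ba020], [nat_lit 73728, nat_lit 90112, nat_lit 98304, nat_lit 106496, nat_lit 173056, nat_lit 169472, nat_lit 164096, nat_lit 163584, nat_lit 157056, nat_lit 154816, nat_lit 148160, nat_lit 145896, nat_lit 143144, nat_lit 135874, nat_lit 132700, nat_lit 2080, nat_lit 6176, nat_lit 9552, nat_lit 14528, nat_lit 19776, nat_lit 23680, nat_lit 25984, nat_lit 32000, nat_lit 34304, nat_lit 38912, nat_lit 41888, nat_lit 38352, nat_lit 33951, nat_lit 28733, nat_lit 25104, nat_lit 20494, nat_lit 16514, nat_lit 12306, nat_lit 8201]⟩))))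

theorem dcCE10_ok : dcCE10.all (elB (nat_lit 12288)) = true := by decide +kernel

def dcCE11 : BT El := (.node (nat_lit 92) (.node (nat_lit 90) (.node (nat_lit 89) (.leaf ndCr3_5)
 (.leaf ⟨[nat_lit 0x3ac6653c6d012a6c939634951420417336af, nat_lit 0x81e14403af4a91516861312d88b26471bca6], [nat_lit 73728, nat_lit 77824, nat_lit 90112, nat_lit 106496, nat_lit 178176, nat_lit 174080, nat_lit 171008, nat_lit 167680, nat_lit 159872, nat_lit 157504, nat_lit 153152, nat_lit 149536, nat_lit 147432, nat_lit 141080, nat_lit 137452, nat_lit 133032, nat_lit 3190, nat_lit 4944, nat_lit 11376, nat_lit 15584, nat_lit 19008, nat_lit 22848, nat_lit 27392, nat_lit 32256, nat_lit 35328, nat_lit 37888, nat_lit 43008, nat_lit 45126, nat_lit 41868, nat_lit 36938, nat_lit 33888, nat_lit 28682, nat_lit 24606, nat_lit 20739, nat_lit 16461, nat_lit 12325, nat_lit 8194, nat_lit 4100, nat_lit 417797, nat_lit 405506, nat_lit 143392, nat_lit 139304, nat_lit 41068, nat_lit 36972, nat_lit 32876, nat_lit 28736,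 nat_lit 327680]⟩))
 (.node (nat_lit 91) (.leaf ndCr4_0)
 (.leaf ⟨[nat_lit 0x99f6608040589a95b246e54d0715d6f231b2, nat_lit 0x2ed784130d488c0ab95a122cf3749e9442b6], [nat_lit 65536, nat_lit 69632, nat_lit 81920, nat_lit 86016, nat_lit 90112, nat_lit 94208, nat_lit 171008, nat_lit 164096, nat_lit 162176, nat_lit 157376, nat_lit 154240, nat_lit 149920, nat_lit 143768, nat_lit 139856, nat_lit 136724, nat_lit 133213, nat_lit 3796, nat_lit 7892, nat_lit 10856, nat_lit 15488, nat_lit 18400, nat_lit 24128, nat_lit 26368, nat_lit 29952, nat_lit 36352, nat_lit 37888, nat_lit 46787, nat_lit 41312, nat_lit 39027, nat_lit 32931, nat_lit 28985, nat_lit 24624, nat_lit 20558, nat_lit 16391, nat_lit 12323, nat_lit 8200, nat_lit 4097, nat_lit 2, nat_lit 421891, nat_lit 401408, nat_lit 40964, nat_lit 32772, nat_lit 24584, nat_lit 20481, nat_lit 16392, nat_lit 4097]⟩)))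
 (.node (nat_lit 94) (.node (nat_lit 93) (.leaf ndCr4_1)
 (.leaf ⟨[nat_lit 0xa09c0933db589e1625c202d12872e439898a, nat_lit 0x78be2110c2c3c6eb5560522254b4cc9681cf], [nat_lit 65536, nat_lit 69632, nat_lit 86016, nat_lit 90112, nat_lit 94208, nat_lit 98304, nat_lit 106496, nat_lit 175104, nat_lit 168960, nat_lit 164608, nat_lit 161408, nat_lit 157312, nat_lit 153888, nat_lit 150768, nat_lit 143984, nat_lit 143032, nat_lit 137570, nat_lit 133396, nat_lit 1042, nat_lit 4112, nat_lit 8952, nat_lit 13952, nat_lit 18208, nat_lit 21248, nat_lit 28416, nat_lit 29952, nat_lit 33280, nat_lit 38912, nat_lit 45070, nat_lit 41792, nat_lit 37269, nat_lit 33489, nat_lit 28684, nat_lit 24874, nat_lit 20499, nat_lit 16389, nat_lit 12292, nat_lit 8193, nat_lit 4128, nat_lit 2, nat_lit 421892, nat_lit 401408, nat_lit 139392, nat_lit 131220, nat_lit 37013, nat_lit 32917, nat_lit 24592, nat_lit 20481, nat_lit 12289, nat_lit 4097]⟩))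
 (.node (nat_lit 95) (.leaf ndCr4_2)
 (.leaf ⟨[nat_lit 0x9c5f3facd778802883da9a1dc3130b631152, nat_lit 0xebdd4bb02e51a1674c6af8518a111ae34a61, nat_lit 0x7ed21118408a1e2eb4da452562955e5bc186, nat_lit 0x284b442b44e7d26b012f681c311992a93115], [nat_lit 65536, nat_lit 69632, nat_lit 73728, nat_lit 77824, nat_lit 110592, nat_lit 173056, nat_lit 169472, nat_lit 167168, nat_lit 160768, nat_lit 158144, nat_lit 154912, nat_lit 150736, nat_lit 145784, nat_lit 140980, nat_lit 137562, nat_lit 133961, nat_lit 3856, nat_lit 7952, nat_lit 9072, nat_lit 13360, nat_lit 17408, nat_lit 23040, nat_lit 25088, nat_lit 32256, nat_lit 34816, nat_lit 37888, nat_lit 46098, nat_lit 41455, nat_lit 37357, nat_lit 32785, nat_lit 29255, nat_lit 24586, nat_lit 20633, nat_lit 16429, nat_lit 12291, nat_lit 8209, nat_lit 4097, nat_lit 438282, nat_lit 430087, nat_lit 417797, nat_lit 409603, nat_lit 401408, nat_lit 161792, nat_lit 157696, nat_lit 150208, nat_lit 143968, nat_lit 140464, nat_lit 134860, nat_lit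 33004, nat_lit 4097, nat_lit 327680]⟩))))

theorem dcCE11_ok : dcCE11.all (elB (nat_lit 12288)) = true := by decide +kernel

def dcCE12 : BT El := (.node (nat_lit 100) (.node (nat_lit 98) (.node (nat_lit 97) (.leaf ndCr4_3)
 (.leaf ⟨[nat_lit 0x655a6c68e465bdd5b455381d82b94880d009, nat_lit 0xfc605970c89396f182d5579901932cd98054, nat_lit 0xb44eb2acac935da2741e82d02c51e249ac60], [nat_lit 65536, nat_lit 69632, nat_lit 77824, nat_lit 90112, nat_lit 94208, nat_lit 178176, nat_lit 171008, nat_lit 164096, nat_lit 163072, nat_lit 159552, nat_lit 153984, nat_lit 149184, nat_lit 147040, nat_lit 140276, nat_lit 139034, nat_lit 132289, nat_lit 3730, nat_lit 7268, nat_lit 10992, nat_lit 13152, nat_lit 16480, nat_lit 22656, nat_lit 25472, nat_lit 32000, nat_lit 35840, nat_lit 37888, nat_lit 46926, nat_lit 43123, nat_lit 38350, nat_lit 32916, nat_lit 29025, nat_lit 24736, nat_lit 20637, nat_lit 16456, nat_lit 12289, nat_lit 8209, nat_lit 4608, nat_lit 2, nat_lit 425991, nat_lit 417797, nat_lit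 409603, nat_lit 401408, nat_lit 155776, nat_lit 151680, nat_lit 147552, nat_lit 143792, nat_lit 139392, nat_lit 131424, nat_lit 45293, nat_lit 41320, nat_lit 37041, nat_lit 4097, nat_lit 327680]⟩))
 (.node (nat_lit 99) (.leaf ndCr4_4)
 (.leaf ⟨[nat_lit 0xd4b28e49aa59388018577b426aa21af60a27, nat_lit 0xbbeb8b496a37b26e3815432ee11111683632, nat_lit 0x530cafb09d5029892497489d17095e66c073], [nat_lit 65536, nat_lit 69632, nat_lit 73728, nat_lit 86016, nat_lit 106496, nat_lit 174080, nat_lit 169472, nat_lit 166912, nat_lit 163584, nat_lit 157184, nat_lit 154624, nat_lit 150528, nat_lit 147072, nat_lit 141092, nat_lit 135708, nat_lit 133284, nat_lit 9928, nat_lit 14336, nat_lit 16928, nat_lit 22912, nat_lit 27136, nat_lit 30976, nat_lit 39936, nat_lit 43008, nat_lit 45399, nat_lit 41966, nat_lit 38374, nat_lit 32926, nat_lit 29003, nat_lit 24747, nat_lit 20485, nat_lit 16395, nat_lit 12294, nat_lit 8200, nat_lit 4097, nat_lit 2, nat_lit 430086, nat_lit 413700, nat_lit 405504, nat_lit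 151616, nat_lit 147552, nat_lit 143392, nat_lit 131168, nat_lit 45640, nat_lit 41064, nat_lit 32864, nat_lit 28784, nat_lit 8193, nat_lit 4097]⟩)))
 (.node (nat_lit 102) (.node (nat_lit 101) (.leaf ⟨[nat_lit 0xcf603a69e653205622ee16521590c0e4c54f, nat_lit 0x4812b12bd8d3b8c44c2c29a017aac31a486a, nat_lit 0x7ee144a88c55c1a464527b39e14015790e93], [nat_lit 65536, nat_lit 69632, nat_lit 73728, nat_lit 98304, nat_lit 102400, nat_lit 173056, nat_lit 169984, nat_lit 166400, nat_lit 162560, nat_lit 157120, nat_lit 151648, nat_lit 147984, nat_lit 145704, nat_lit 140176, nat_lit 138136, nat_lit 131277, nat_lit 1300, nat_lit 5396, nat_lit 8624, nat_lit 24512, nat_lit 28288, nat_lit 29696, nat_lit 33792, nat_lit 39936, nat_lit 43008, nat_lit 46573, nat_lit 43697, nat_lit 37908, nat_lit 32791, nat_lit 28735, nat_lit 24635, nat_lit 20483, nat_lit 16392, nat_lit 8320, nat_lit 4097, nat_lit 425991, nat_lit 417797, nat_lit 401408, nat_lit 156032, nat_lit 151936, nat_lit 139648, nat_lit 131204,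 nat_lit 45057, nat_lit 41060, nat_lit 37312, nat_lit 4097, nat_lit 327680]⟩)
 (.leaf ⟨[nat_lit 0x9a96c6834678cee8aac01b11457268f93046, nat_lit 0x560fc942a4624401a8d2c68974bc0f62cdee], [nat_lit 65536, nat_lit 69632, nat_lit 73728, nat_lit 77824, nat_lit 81920, nat_lit 90112, nat_lit 102400, nat_lit 174080, nat_lit 168448, nat_lit 166400, nat_lit 162944, nat_lit 157888, nat_lit 153280, nat_lit 150704, nat_lit 145152, nat_lit 142412, nat_lit 137614, nat_lit 134194, nat_lit 2064, nat_lit 6160, nat_lit 11080, nat_lit 13840, nat_lit 19552, nat_lit 22656, nat_lit 24704, nat_lit 32000, nat_lit 36352, nat_lit 38912, nat_lit 43008, nat_lit 45786, nat_lit 41949, nat_lit 36966, nat_lit 32952, nat_lit 28694, nat_lit 24606, nat_lit 20494, nat_lit 16462, nat_lit 12294, nat_lit 8195, nat_lit 4097, nat_lit 417796, nat_lit 405504, nat_lit 147520, nat_lit 143376, nat_lit 36928, nat_lit 32784, nat_lit 28680, nat_lit 20488, nat_lit 4097, nat_lit 327680]⟩))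
 (.node (nat_lit 103) (.leaf ⟨[nat_lit 0x12d8183ba9002ca4b99911bda99c902b06aa, nat_lit 0x5c03501ca7180402712a8b29a67dcab4b287, nat_lit 0x747bbe10d494002b315aea5a50611e79d637], [nat_lit 73728, nat_lit 77824, nat_lit 90112, nat_lit 98304, nat_lit 102400, nat_lit 106496, nat_lit 110592, nat_lit 178176, nat_lit 175104, nat_lit 166400, nat_lit 160768, nat_lit 157184, nat_lit 153120, nat_lit 147984, nat_lit 146008, nat_lit 141364, nat_lit 139220, nat_lit 134051, nat_lit 3558, nat_lit 6160, nat_lit 11744, nat_lit 15840, nat_lit 20320, nat_lit 22848, nat_lit 26624, nat_lit 29696, nat_lit 36352, nat_lit 37888, nat_lit 46994, nat_lit 43498, nat_lit 36954, nat_lit 32770, nat_lit 30800, nat_lit 24620, nat_lit 20504, nat_lit 16419, nat_lit 12306, nat_lit 8195, nat_lit 4100, nat_lit 421894, nat_lit 413700, nat_lit 405504, nat_lit 155776, nat_lit 151680, nat_lit 147584, nat_lit 143488, nat_lit 131192, nat_lit 45065, nat_lit 41152, nat_lit 37081, nat_lit 32769, nat_lit 8193, nat_lit 4097,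 nat_lit 327680]⟩)
 (.leaf ⟨[nat_lit 0xc5c66578dc7922eca3530144d3504abb12a0, nat_lit 0x6596391048093d366ae344560e298679b157, nat_lit 0xf6360994ccd4958b8a87623841855007d0f7], [nat_lit 65536, nat_lit 69632, nat_lit 77824, nat_lit 86016, nat_lit 90112, nat_lit 98304, nat_lit 102400, nat_lit 110592, nat_lit 178176, nat_lit 170496, nat_lit 166656, nat_lit 163712, nat_lit 158656, nat_lit 155616, nat_lit 148192, nat_lit 143528, nat_lit 139444, nat_lit 135892, nat_lit 132534, nat_lit 2, nat_lit 7952, nat_lit 8272, nat_lit 16256, nat_lit 18816, nat_lit 24512, nat_lit 27520, nat_lit 31232, nat_lit 34304, nat_lit 39936, nat_lit 45313, nat_lit 41904, nat_lit 38161, nat_lit 33865, nat_lit 28764, nat_lit 24727, nat_lit 20759, nat_lit 16386, nat_lit 12326, nat_lit 8195, nat_lit 4097, nat_lit 2, nat_lit 421894, nat_lit 413700, nat_lit 405506, nat_lit 155776, nat_lit 151616, nat_lit 147488, nat_lit 143600, nat_lit 139408, nat_lit 45060, nat_lit 37092, nat_lit 32828]⟩))))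

theorem dcCE12_ok : dcCE12.all (elB (nat_lit 12288)) = true := by decide +kernel

def dcCE13 : BT El := (.node (nat_lit 108) (.node (nat_lit 106) (.node (nat_lit 105) (.leaf ⟨[nat_lit 0x3a50063d47054a6f33905005abbd92c15224, nat_lit 0x24db1d3c283256224b9af904b734ec053168, nat_lit 0xcac99a595f03b64849a2e1dab423153b8402], [nat_lit 65536, nat_lit 69632, nat_lit 73728, nat_lit 94208, nat_lit 102400, nat_lit 110592, nat_lit 173056, nat_lit 171008, nat_lit 165376, nat_lit 162432, nat_lit 156160, nat_lit 152096, nat_lit 149200, nat_lit 146360, nat_lit 143076, nat_lit 136170, nat_lit 132226, nat_lit 128, nat_lit 4224, nat_lit 9752, nat_lit 13904, nat_lit 17856, nat_lit 23872, nat_lit 25856, nat_lit 32256, nat_lit 35328, nat_lit 38912, nat_lit 43008, nat_lit 45685, nat_lit 41212, nat_lit 37130, nat_lit 33416, nat_lit 28686, nat_lit 24596, nat_lit 21507, nat_lit 16394, nat_lit 12308, nat_lit 421894, nat_lit 413700, nat_lit 405506, nat_lit 155776, nat_lit 151616, nat_lit 147488, nat_lit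 143600, nat_lit 139408, nat_lit 45060, nat_lit 37092, nat_lit 32828, nat_lit 327680]⟩)
 (.leaf ⟨[nat_lit 0x36a6cc28a69a2988312ef59e038c9d6ab420], [nat_lit 65536, nat_lit 69632, nat_lit 73728, nat_lit 77824, nat_lit 81920, nat_lit 86016, nat_lit 98304, nat_lit 102400, nat_lit 174080, nat_lit 169984, nat_lit 165632, nat_lit 160768, nat_lit 159232, nat_lit 155008, nat_lit 151264, nat_lit 144720, nat_lit 141872, nat_lit 138204, nat_lit 135068, nat_lit 2, nat_lit 7952, nat_lit 10728, nat_lit 13120, nat_lit 16864, nat_lit 22336, nat_lit 25088, nat_lit 31232, nat_lit 34816, nat_lit 37888, nat_lit 41905, nat_lit 38342, nat_lit 33864, nat_lit 29044, nat_lit 24840, nat_lit 20495, nat_lit 16394, nat_lit 12306, nat_lit 8194, nat_lit 4097, nat_lit 2]⟩))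
 (.node (nat_lit 107) (.leaf ndCr1_0)
 (.leaf ⟨[nat_lit 0x3c99001a5ea2a2179d1669022e6d6c161c44, nat_lit 0x59339c830150d9f3495683288788aeda0e4e, nat_lit 0x56f0c93b0049a6c56d077909d1a9a0a0ade8], [nat_lit 77824, nat_lit 86016, nat_lit 94208, nat_lit 98304, nat_lit 106496, nat_lit 173056, nat_lit 168960, nat_lit 164864, nat_lit 161280, nat_lit 156800, nat_lit 155552, nat_lit 151328, nat_lit 147048, nat_lit 142092, nat_lit 138008, nat_lit 132419, nat_lit 494, nat_lit 5856, nat_lit 9472, nat_lit 14528, nat_lit 16896, nat_lit 21248, nat_lit 25344, nat_lit 28928, nat_lit 37888, nat_lit 43008, nat_lit 45908, nat_lit 41371, nat_lit 37272, nat_lit 33299, nat_lit 28940, nat_lit 26657, nat_lit 20493, nat_lit 16459, nat_lit 12292, nat_lit 8201, nat_lit 4112, nat_lit 425991, nat_lit 417797, nat_lit 405506, nat_lit 156032, nat_lit 151936, nat_lit 143680, nat_lit 139304, nat_lit 45060, nat_lit 41408, nat_lit 37036]⟩)))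
 (.node (nat_lit 110) (.node (nat_lit 109) (.leaf ndCr1_5)
 (.leaf ⟨[nat_lit 0x56f0c92886784d6944951bd5ed080c4a59cc, nat_lit 0x441b7b585d59ca054bc1450aedb0d0c890c7], [nat_lit 81920, nat_lit 102400, nat_lit 110592, nat_lit 173056, nat_lit 169984, nat_lit 165888, nat_lit 162816, nat_lit 157184, nat_lit 152928, nat_lit 150224, nat_lit 145064, nat_lit 142032, nat_lit 136884, nat_lit 134040, nat_lit 1570, nat_lit 5120, nat_lit 9616, nat_lit 14992, nat_lit 17824, nat_lit 22016, nat_lit 27520, nat_lit 30464, nat_lit 38912, nat_lit 43008, nat_lit 45201, nat_lit 41769, nat_lit 37923, nat_lit 32913, nat_lit 28767, nat_lit 24716, nat_lit 20497, nat_lit 16425, nat_lit 12311, nat_lit 8200, nat_lit 4100, nat_lit 2, nat_lit 421893, nat_lit 409600, nat_lit 151680, nat_lit 147616, nat_lit 131216, nat_lit 41137, nat_lit 32784, nat_lit 24577, nat_lit 8193, nat_lit 4097]⟩))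
 (.node (nat_lit 111) (.leaf ndCg0_0)
 (.leaf ndCg0_1))))

theorem dcCE13_ok : dcCE13.all (elB (nat_lit 12288)) = true := by decide +kernel

def dcCE14 : BT El := (.node (nat_lit 116) (.node (nat_lit 114) (.node (nat_lit 113) (.leaf ndCg0_2)
 (.leaf ndCg0_3))
 (.node (nat_lit 115) (.leaf ndCg0_4)
 (.leaf ndCg1_0)))
 (.node (nat_lit 118) (.node (nat_lit 117) (.leaf ndCg1_1)
 (.leaf ndCg1_2))
 (.node (nat_lit 119) (.leaf ndCg1_3)
 (.leaf ndCg1_4))))

theorem dcCE14_ok : dcCE14.all (elB (nat_lit 12288)) = true := by decide +kernel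

def dcCE15 : BT El := (.node (nat_lit 124) (.node (nat_lit 122) (.node (nat_lit 121) (.leaf ndCg2_0)
 (.leaf ndCg2_1))
 (.node (nat_lit 123) (.leaf ndCg2_2)
 (.leaf ndCg2_3)))
 (.node (nat_lit 126) (.node (nat_lit 125) (.leaf ndCg2_4)
 (.leaf ndCg3_0))
 (.node (nat_lit 127) (.leaf ndCg3_1)
 (.leaf ndCg3_2))))

theorem dcCE15_ok : dcCE15.all (elB (nat_lit 12288)) = true := by decide +kernel

def dcCE16 : BT El := (.node (nat_lit 131) (.node (nat_lit 129) (.leaf ndCg3_3)
 (.node (nat_lit 130) (.leaf ndCg3_4)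
 (.leaf ndCg4_0)))
 (.node (nat_lit 133) (.node (nat_lit 132) (.leaf ndCg4_1)
 (.leaf ndCg4_2))
 (.node (nat_lit 134) (.leaf ndCg4_3)
 (.leaf ndCg4_4))))

theorem dcCE16_ok : dcCE16.all (elB (nat_lit 12288)) = true := by decide +kernel


end

end CF.Mon
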