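import Cfsg.Agent.Mon.DcCC

set_option autoImplicit false
set_option maxRecDepth 100000

namespace CF.Mon

open CF.Comp

noncomputable section

def dcCc0 : List (D2.Cert TW) := [.init,
  .init,
  .init,
  .init,
  .init,
  .init,
  .init,
  .init,
  .init,
  .init,
  .base,
  .defn,
  .stab (nat_lit 22) tw0 ⟨(nat_lit 0), ⟨[nat_lit 3, nat_lit 7, nat_lit 5, nat_lit 8, nat_lit 1, nat_lit 0, nat_lit 3, nat_lit 0, nat_lit 0], [], (nat_lit 22), ⟨[nat_lit 0, nat_lit 79, nat_lit 49], [nat_lit 0, nat_lit 18, nat_lit 50], ⟨[nat_lit 0x522ce99d236d4c48b2545c0a27dc20], [nat_lit 174080, nat_lit 165120, nat_lit 162048, nat_lit 157248, nat_lit 152224, nat_lit 149824, nat_lit 146856, nat_lit 142096, nat_lit 137542, nat_lit 133170, nat_lit 2, nat_lit 5276, nat_lit 9328, nat_lit 13072, nat_lit 18336, nat_lit 22336, nat_lit 25344, nat_lit 30464, nat_lit 33280, nat_lit 37888, nat_lit 40989, nat_lit 36887, nat_lit 32829, nat_lit 28765, nat_lit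 24760, nat_lit 20572, nat_lit 16416, nat_lit 12308, nat_lit 8194, nat_lit 4097, nat_lit 2]⟩⟩⟩, ⟨[], [], nat_lit 0, tw0⟩⟩]

theorem dcCr0 : D2.Rng dxC 0 13 := D2.Rng.of (l := dcCc0) (by decide +kernel)

def dcCc13 : List (D2.Cert TW) := [.stab (nat_lit 22) tw0 ⟨(nat_lit 0), ⟨[nat_lit 7, nat_lit 6, nat_lit 8, nat_lit 9, nat_lit 8, nat_lit 7, nat_lit 8, nat_lit 0, nat_lit 0], [], (nat_lit 22), ⟨[nat_lit 3, nat_lit 59], [nat_lit 89], ⟨[nat_lit 0x7a0d32c94e6c48b640e9b5477a0820], [nat_lit 173056, nat_lit 168960, nat_lit 165376, nat_lit 160128, nat_lit 157440, nat_lit 152032, nat_lit 148496, nat_lit 145168, nat_lit 141124, nat_lit 135708, nat_lit 131335, nat_lit 12896, nat_lit 17504, nat_lit 25472, nat_lit 28928, nat_lit 34304, nat_lit 37888, nat_lit 41827, nat_lit 37363, nat_lit 33461, nat_lit 28776, nat_lit 24596, nat_lit 20495, nat_lit 16389, nat_lit 12327]⟩⟩⟩, ⟨[], [], nat_lit 0, tw0⟩⟩,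
  .stab (nat_lit 22) tw0 ⟨(nat_lit 0), ⟨[nat_lit 8, nat_lit 8, nat_lit 3, nat_lit 6, nat_lit 5, nat_lit 5], [], (nat_lit 22), ⟨[nat_lit 0, nat_lit 37, nat_lit 47], [nat_lit 0, nat_lit 13, nat_lit 61], ⟨[nat_lit 0x3d9a5aa56e932f1828839a0c2a3c20], [nat_lit 174080, nat_lit 168448, nat_lit 166400, nat_lit 162432, nat_lit 159616, nat_lit 152544, nat_lit 147504, nat_lit 143752, nat_lit 141728, nat_lit 138174, nat_lit 131073, nat_lit 1478, nat_lit 5992, nat_lit 9664, nat_lit 14144, nat_lit 18336, nat_lit 20608, nat_lit 25856, nat_lit 29696, nat_lit 37888, nat_lit 41390, nat_lit 37308, nat_lit 33370, nat_lit 28718, nat_lit 24634, nat_lit 20494, nat_lit 16448, nat_lit 12294, nat_lit 8194, nat_lit 4100]⟩⟩⟩, ⟨[], [], nat_lit 0, tw0⟩⟩,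
  .stab (nat_lit 22) tw0 ⟨(nat_lit 0), ⟨[nat_lit 1, nat_lit 4, nat_lit 6, nat_lit 1, nat_lit 6, nat_lit 5, nat_lit 1, nat_lit 2], [], (nat_lit 22), ⟨[nat_lit 0, nat_lit 65], [nat_lit 0, nat_lit 79, nat_lit 60], ⟨[nat_lit 0xb0ef48388832e4c3bd516953315420], [nat_lit 174080, nat_lit 170496, nat_lit 166656, nat_lit 163712, nat_lit 156160, nat_lit 154336, nat_lit 150528, nat_lit 143368, nat_lit 143204, nat_lit 135302, nat_lit 132752, nat_lit 1972, nat_lit 6068, nat_lit 8528, nat_lit 12864, nat_lit 18336, nat_lit 20736, nat_lit 26240, nat_lit 29952, nat_lit 33280, nat_lit 41188, nat_lit 37076, nat_lit 32868, nat_lit 29282, nat_lit 24612, nat_lit 20544, nat_lit 16395, nat_lit 12307, nat_lit 8195]⟩⟩⟩, ⟨[], [], nat_lit 0, tw0⟩⟩]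

theorem dcCr13 : D2.Rng dxC 13 16 := D2.Rng.of (l := dcCc13) (by decide +kernel)

def dcCc16 : List (D2.Cert TW) := [.prod [] [nat_lit 12, nat_lit 15, nat_lit 15, nat_lit 15],
  .prod [] [nat_lit 16, nat_lit 15, nat_lit 16, nat_lit 16],
  .prod [] [nat_lit 12, nat_lit 16, nat_lit 14, nat_lit 15],
  .prod [] [nat_lit 13, nat_lit 18, nat_lit 17, nat_lit 13],
  .prod [] [nat_lit 15, nat_lit 18, nat_lit 14, nat_lit 19],
  .prod [] [nat_lit 16, nat_lit 14, nat_lit 13, nat_lit 12],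
  .edge ⟨[nat_lit 84, nat_lit 58], [nat_lit 0, nat_lit 13, nat_lit 94], ⟨[nat_lit 0x6b9ec298e48ca13a56f65216918820], [nat_lit 174080, nat_lit 165120, nat_lit 161152, nat_lit 155840, nat_lit 151584, nat_lit 148416, nat_lit 144416, nat_lit 139372, nat_lit 136418, nat_lit 132314, nat_lit 1024, nat_lit 5120, nat_lit 9216, nat_lit 13312, nat_lit 16608, nat_lit 21760, nat_lit 24960, nat_lit 29952, nat_lit 33280, nat_lit 41728, nat_lit 37375, nat_lit 33318, nat_lit 29027, nat_lit 24624, nat_lit 20558, nat_lit 16424]⟩⟩ ⟨(nat_lit 2), ⟨[], [], (nat_lit 23), ⟨[nat_lit 88, nat_lit 48], [nat_lit 0, nat_lit 17, nat_lit 62], ⟨[nat_lit 0xaccc395045ba1f66460b490ed53801], [nat_lit 173056, nat_lit 168960, nat_lit 159872, nat_lit 155776, nat_lit 155488, nat_lit 148032, nat_lit 145336, nat_lit 140372, nat_lit 136984, nat_lit 131295, nat_lit 2, nat_lit 4128, nat_lit 10128, nat_lit 12608, nat_lit 18208, nat_lit 20800, nat_lit 24960, nat_lit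 29440, nat_lit 33792, nat_lit 37888, nat_lit 41744, nat_lit 37268, nat_lit 32890, nat_lit 29241, nat_lit 24608, nat_lit 20488, nat_lit 16399, nat_lit 12310, nat_lit 4097, nat_lit 2]⟩⟩⟩, ⟨[nat_lit 5, nat_lit 2, nat_lit 7, nat_lit 1, nat_lit 2], [], (nat_lit 22), ⟨[nat_lit 0, nat_lit 42, nat_lit 52], [nat_lit 38, nat_lit 50], ⟨[nat_lit 0x3c4a96cdeab91c3a4116130d592c01], [nat_lit 169984, nat_lit 160896, nat_lit 158208, nat_lit 152256, nat_lit 148208, nat_lit 146368, nat_lit 141580, nat_lit 137770, nat_lit 133373, nat_lit 588, nat_lit 4684, nat_lit 8592, nat_lit 13264, nat_lit 17056, nat_lit 22208, nat_lit 25344, nat_lit 29440, nat_lit 33792, nat_lit 37888, nat_lit 41437, nat_lit 36887, nat_lit 33911, nat_lit 28965, nat_lit 24636, nat_lit 20501, nat_lit 16425, nat_lit 12295, nat_lit 8202]⟩⟩⟩⟩]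

theorem dcCr16 : D2.Rng dxC 16 23 := D2.Rng.of (l := dcCc16) (by decide +kernel)

def dcCc23 : List (D2.Cert TW) := [.edge ⟨[nat_lit 12, nat_lit 91], [nat_lit 0, nat_lit 13, nat_lit 63], ⟨[nat_lit 0x7b1a3b4cebbc4c92c9544560470801], [nat_lit 171520, nat_lit 159872, nat_lit 157888, nat_lit 153216, nat_lit 148400, nat_lit 146120, nat_lit 142576, nat_lit 138638, nat_lit 134749, nat_lit 588, nat_lit 4684, nat_lit 8208, nat_lit 13808, nat_lit 18336, nat_lit 21952, nat_lit 25472, nat_lit 29952, nat_lit 33280, nat_lit 41420, nat_lit 37296, nat_lit 33343, nat_lit 28960, nat_lit 24617, nat_lit 20503, nat_lit 16399, nat_lit 12291, nat_lit 8208]⟩⟩ ⟨(nat_lit 1), ⟨[], [], (nat_lit 23), ⟨[nat_lit 3, nat_lit 48], [nat_lit 0, nat_lit 13, nat_lit 63], ⟨[nat_lit 0x7b1a3b4cebbc4c92c9544560470801], [nat_lit 173056, nat_lit 171520, nat_lit 157888, nat_lit 153248, nat_lit 148384, nat_lit 146120, nat_lit 142580, nat_lit 138636, nat_lit 134748,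 nat_lit 588, nat_lit 4684, nat_lit 8208, nat_lit 13808, nat_lit 18336, nat_lit 21952, nat_lit 25472, nat_lit 29952, nat_lit 33280, nat_lit 41420, nat_lit 37296, nat_lit 33343, nat_lit 28960, nat_lit 24617, nat_lit 20503, nat_lit 16399, nat_lit 12291, nat_lit 8208]⟩⟩⟩, ⟨[nat_lit 2, nat_lit 5, nat_lit 5, nat_lit 0, nat_lit 1], [], (nat_lit 22), ⟨[nat_lit 26, nat_lit 58], [nat_lit 35, nat_lit 70], ⟨[nat_lit 0x5b1b723c5283865a2a7131d154d801], [nat_lit 174080, nat_lit 169984, nat_lit 166912, nat_lit 160384, nat_lit 158656, nat_lit 154368, nat_lit 149184, nat_lit 146592, nat_lit 141056, nat_lit 135672, nat_lit 131121, nat_lit 2, nat_lit 5992, nat_lit 10104, nat_lit 12976, nat_lit 17184, nat_lit 21568, nat_lit 25984, nat_lit 29440, nat_lit 33280, nat_lit 41757, nat_lit 37364, nat_lit 32952, nat_lit 28728, nat_lit 25100, nat_lit 20551, nat_lit 16393, nat_lit 12294, nat_lit 8201, nat_lit 4097, nat_lit 2]⟩⟩⟩⟩,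
  .defn,
  .stab (nat_lit 48) tw0 ⟨(nat_lit 0), ⟨[nat_lit 1, nat_lit 8, nat_lit 6, nat_lit 8, nat_lit 5, nat_lit 9, nat_lit 9, nat_lit 5], [], (nat_lit 48), ⟨[nat_lit 0, nat_lit 74, nat_lit 60], [nat_lit 0, nat_lit 12, nat_lit 63], ⟨[nat_lit 0x65e5129db63205320d504d5cb7d020], [nat_lit 174080, nat_lit 168960, nat_lit 165376, nat_lit 163584, nat_lit 157312, nat_lit 153344, nat_lit 151360, nat_lit 146192, nat_lit 141824, nat_lit 138228, nat_lit 135163, nat_lit 2, nat_lit 5276, nat_lit 9400, nat_lit 14144, nat_lit 17536, nat_lit 20992, nat_lit 25344, nat_lit 30464, nat_lit 37888, nat_lit 41668, nat_lit 38162, nat_lit 32869, nat_lit 29247, nat_lit 24634, nat_lit 20485, nat_lit 16395, nat_lit 12293, nat_lit 8193, nat_lit 4097, nat_lit 2]⟩⟩⟩, ⟨[], [], nat_lit 0, tw0⟩⟩]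

theorem dcCr23 : D2.Rng dxC 23 26 := D2.Rng.of (l := dcCc23) (by decide +kernel)

def dcCc26 : List (D2.Cert TW) := [.stab (nat_lit 48) tw0 ⟨(nat_lit 0), ⟨[nat_lit 7, nat_lit 7, nat_lit 6, nat_lit 9, nat_lit 9, nat_lit 6, nat_lit 7, nat_lit 4], [], (nat_lit 48), ⟨[nat_lit 14, nat_lit 56], [nat_lit 35, nat_lit 53], ⟨[nat_lit 0x4daeb2c09231e33a55487b86263420], [nat_lit 173056, nat_lit 168448, nat_lit 164864, nat_lit 159040, nat_lit 152704, nat_lit 149104, nat_lit 143680, nat_lit 141184, nat_lit 136458, nat_lit 131118, nat_lit 64, nat_lit 4160, nat_lit 8680, nat_lit 12656, nat_lit 16576, nat_lit 21120, nat_lit 29440, nat_lit 41708, nat_lit 37264, nat_lit 32832, nat_lit 29288, nat_lit 20490, nat_lit 16396, nat_lit 12306, nat_lit 8193]⟩⟩⟩, ⟨[], [], nat_lit 0, tw0⟩⟩,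
  .stab (nat_lit 48) tw0 ⟨(nat_lit 0), ⟨[nat_lit 7, nat_lit 0, nat_lit 4, nat_lit 6, nat_lit 0, nat_lit 5, nat_lit 6, nat_lit 0], [], (nat_lit 48), ⟨[nat_lit 84, nat_lit 55], [nat_lit 0, nat_lit 28, nat_lit 59], ⟨[nat_lit 0x429227da262ce8c69eb095dc41ac01], [nat_lit 173056, nat_lit 170496, nat_lit 165120, nat_lit 162048, nat_lit 155776, nat_lit 154720, nat_lit 151152, nat_lit 146312, nat_lit 141264, nat_lit 136778, nat_lit 135000, nat_lit 698, nat_lit 4784, nat_lit 8552, nat_lit 12976, nat_lit 17408, nat_lit 20800, nat_lit 25472, nat_lit 30208, nat_lit 37888, nat_lit 41316, nat_lit 36979, nat_lit 32947, nat_lit 29036, nat_lit 24627, nat_lit 20495, nat_lit 16448, nat_lit 12291, nat_lit 8226, nat_lit 4105]⟩⟩⟩, ⟨[], [], nat_lit 0, tw0⟩⟩,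
  .stab (nat_lit 48) tw0 ⟨(nat_lit 0), ⟨[nat_lit 6, nat_lit 3, nat_lit 2, nat_lit 6, nat_lit 5, nat_lit 8, nat_lit 1, nat_lit 4], [], (nat_lit 48), ⟨[nat_lit 11, nat_lit 51], [nat_lit 29, nat_lit 55], ⟨[nat_lit 0x48ea47416a99da6a5e4f416c264420], [nat_lit 169472, nat_lit 165632, nat_lit 161408, nat_lit 158336, nat_lit 152128, nat_lit 147872, nat_lit 144656, nat_lit 140588, nat_lit 136762, nat_lit 132113, nat_lit 64, nat_lit 4160, nat_lit 9080, nat_lit 12656, nat_lit 16896, nat_lit 20672, nat_lit 25856, nat_lit 30208, nat_lit 37888, nat_lit 41920, nat_lit 37226, nat_lit 32856, nat_lit 28745, nat_lit 24595, nat_lit 21018, nat_lit 16428, nat_lit 12306, nat_lit 8202]⟩⟩⟩, ⟨[], [], nat_lit 0, tw0⟩⟩]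

theorem dcCr26 : D2.Rng dxC 26 29 := D2.Rng.of (l := dcCc26) (by decide +kernel)

def dcCc29 : List (D2.Cert TW) := [.prod [] [nat_lit 28, nat_lit 27, nat_lit 27, nat_lit 26],
  .prod [] [nat_lit 28, nat_lit 28, nat_lit 25, nat_lit 25],
  .edge ⟨[nat_lit 0, nat_lit 24, nat_lit 65], [nat_lit 0, nat_lit 28, nat_lit 51], ⟨[nat_lit 0x8cc725dde561d34b35467550480801], [nat_lit 175104, nat_lit 168960, nat_lit 160768, nat_lit 157824, nat_lit 154752, nat_lit 150928, nat_lit 144504, nat_lit 142048, nat_lit 135268, nat_lit 133560, nat_lit 1142, nat_lit 5232, nat_lit 9328, nat_lit 14112, nat_lit 21568, nat_lit 24704, nat_lit 28928, nat_lit 33792, nat_lit 41878, nat_lit 37997, nat_lit 33480, nat_lit 29256, nat_lit 25096, nat_lit 20499, nat_lit 16416, nat_lit 12800, nat_lit 8195, nat_lit 4101]⟩⟩ ⟨(nat_lit 2), ⟨[], [], (nat_lit 49), ⟨[nat_lit 85, nat_lit 50], [nat_lit 0, nat_lit 24, nat_lit 50], ⟨[nat_lit 0x9ae097b6b711c6563a964495131020],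 [nat_lit 173056, nat_lit 169472, nat_lit 167680, nat_lit 163712, nat_lit 158976, nat_lit 154880, nat_lit 148288, nat_lit 146440, nat_lit 143084, nat_lit 136986, nat_lit 134743, nat_lit 2, nat_lit 4112, nat_lit 8680, nat_lit 12336, nat_lit 16896, nat_lit 21376, nat_lit 24832, nat_lit 29952, nat_lit 34304, nat_lit 37888, nat_lit 41495, nat_lit 36982, nat_lit 32908, nat_lit 28938, nat_lit 25118, nat_lit 20561, nat_lit 16391, nat_lit 12326, nat_lit 8195, nat_lit 4100, nat_lit 2]⟩⟩⟩, ⟨[nat_lit 9, nat_lit 7, nat_lit 6, nat_lit 0, nat_lit 2], [], (nat_lit 22), ⟨[nat_lit 26, nat_lit 70], [nat_lit 13, nat_lit 46], ⟨[nat_lit 0x2c0d448d845dd13508ef93acd8d401], [nat_lit 173056, nat_lit 169472, nat_lit 164352, nat_lit 161408, nat_lit 156672, nat_lit 152896, nat_lit 148784, nat_lit 145600, nat_lit 139416, nat_lit 135836, nat_lit 132533, nat_lit 2, nat_lit 4104, nat_lit 9984, nat_lit 12800, nat_lit 18144, nat_lit 20992, nat_lit 26240,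 nat_lit 33280, nat_lit 37888, nat_lit 41692, nat_lit 38018, nat_lit 32992, nat_lit 28763, nat_lit 24632, nat_lit 20488, nat_lit 16455, nat_lit 8210, nat_lit 4097, nat_lit 2]⟩⟩⟩⟩,
  .edge ⟨[nat_lit 0, nat_lit 22, nat_lit 59], [nat_lit 35, nat_lit 92], ⟨[nat_lit 0x3bcb44dd6c50a06955d124c686d801], [nat_lit 174080, nat_lit 169472, nat_lit 161536, nat_lit 158272, nat_lit 154592, nat_lit 149584, nat_lit 145208, nat_lit 141784, nat_lit 136704, nat_lit 134617, nat_lit 1142, nat_lit 5492, nat_lit 9928, nat_lit 13712, nat_lit 16576, nat_lit 20736, nat_lit 25600, nat_lit 29440, nat_lit 33792, nat_lit 41606, nat_lit 36937, nat_lit 32815, nat_lit 29809, nat_lit 24706, nat_lit 20570, nat_lit 16458, nat_lit 4113]⟩⟩ ⟨(nat_lit 2), ⟨[], [], (nat_lit 49), ⟨[nat_lit 0, nat_lit 76], [nat_lit 0, nat_lit 84, nat_lit 67], ⟨[nat_lit 0x4412f959d55147761cd322e828b420], [nat_lit 169984, nat_lit 165632, nat_lit 162304, nat_lit 157184, nat_lit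 154880, nat_lit 151520, nat_lit 146992, nat_lit 139892, nat_lit 135718, nat_lit 134239, nat_lit 2, nat_lit 4608, nat_lit 9040, nat_lit 12976, nat_lit 16704, nat_lit 21056, nat_lit 26240, nat_lit 30208, nat_lit 33792, nat_lit 41761, nat_lit 37039, nat_lit 32870, nat_lit 28779, nat_lit 24705, nat_lit 20569, nat_lit 16399, nat_lit 12291, nat_lit 4104, nat_lit 2]⟩⟩⟩, ⟨[nat_lit 6, nat_lit 7, nat_lit 4, nat_lit 9, nat_lit 3], [], (nat_lit 48), ⟨[nat_lit 0, nat_lit 28, nat_lit 69], [nat_lit 37, nat_lit 52], ⟨[nat_lit 0x824ec34de8adc76728b28ac8da0801], [nat_lit 173056, nat_lit 171008, nat_lit 164096, nat_lit 160512, nat_lit 158848, nat_lit 152160, nat_lit 147760, nat_lit 145888, nat_lit 141336, nat_lit 138320, nat_lit 134532, nat_lit 588, nat_lit 4684, nat_lit 8224, nat_lit 12864, nat_lit 16576, nat_lit 21120, nat_lit 24960, nat_lit 29440, nat_lit 37888, nat_lit 41945, nat_lit 38110, nat_lit 32943, nat_lit 28799, nat_lit 24720,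 nat_lit 20562, nat_lit 16419, nat_lit 12295, nat_lit 8200]⟩⟩⟩⟩]

theorem dcCr29 : D2.Rng dxC 29 33 := D2.Rng.of (l := dcCc29) (by decide +kernel)

def dcCc33 : List (D2.Cert TW) := [.edge ⟨[nat_lit 0, nat_lit 11, nat_lit 67], [nat_lit 22, nat_lit 46], ⟨[nat_lit 0x82e4869caf9a62a619c4b8ea2a5801], [nat_lit 174080, nat_lit 164096, nat_lit 161792, nat_lit 155712, nat_lit 152704, nat_lit 150528, nat_lit 146224, nat_lit 141464, nat_lit 139172, nat_lit 134138, nat_lit 1180, nat_lit 5276, nat_lit 9728, nat_lit 12976, nat_lit 17344, nat_lit 20736, nat_lit 24960, nat_lit 30208, nat_lit 33280, nat_lit 41687, nat_lit 38264, nat_lit 32895, nat_lit 29283, nat_lit 24763, nat_lit 20495, nat_lit 16460, nat_lit 12295, nat_lit 8201]⟩⟩ ⟨(nat_lit 2), ⟨[nat_lit 27, nat_lit 29, nat_lit 30], [], (nat_lit 62), ⟨[nat_lit 0, nat_lit 82, nat_lit 91], [nat_lit 91], ⟨[nat_lit 0x91677611d45c5e341ea91360a35801], [nat_lit 173056, nat_lit 169472, nat_lit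 160256, nat_lit 155968, nat_lit 152576, nat_lit 149904, nat_lit 143600, nat_lit 139368, nat_lit 135274, nat_lit 131134, nat_lit 2, nat_lit 4112, nat_lit 9928, nat_lit 13984, nat_lit 17152, nat_lit 21504, nat_lit 25600, nat_lit 30208, nat_lit 34304, nat_lit 41255, nat_lit 37324, nat_lit 32942, nat_lit 29054, nat_lit 24736, nat_lit 20559, nat_lit 16430, nat_lit 12327, nat_lit 8224, nat_lit 4097, nat_lit 2]⟩⟩⟩, ⟨[nat_lit 12, nat_lit 12], [nat_lit 15, nat_lit 18], (nat_lit 63), ⟨[nat_lit 28, nat_lit 70], [nat_lit 0, nat_lit 13, nat_lit 54], ⟨[nat_lit 0x598ad9a592b3d57a44e31121572001], [nat_lit 175104, nat_lit 168448, nat_lit 166912, nat_lit 162944, nat_lit 159296, nat_lit 152704, nat_lit 149376, nat_lit 144592, nat_lit 143028, nat_lit 138456, nat_lit 132005, nat_lit 2, nat_lit 4352, nat_lit 9664, nat_lit 14160, nat_lit 17536, nat_lit 22464, nat_lit 29440, nat_lit 41622, nat_lit 38142, nat_lit 32990, nat_lit 28952, nat_lit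 24704, nat_lit 20505, nat_lit 16430, nat_lit 12323, nat_lit 8194, nat_lit 4101, nat_lit 2]⟩⟩⟩⟩,
  .edge ⟨[nat_lit 0, nat_lit 26, nat_lit 64], [nat_lit 65], ⟨[nat_lit 0x214c76b1ee5a928bda958c25310c01], [nat_lit 173056, nat_lit 168960, nat_lit 166144, nat_lit 160512, nat_lit 155904, nat_lit 154080, nat_lit 150240, nat_lit 146928, nat_lit 142204, nat_lit 137302, nat_lit 131441, nat_lit 2, nat_lit 4104, nat_lit 8504, nat_lit 12864, nat_lit 16672, nat_lit 22464, nat_lit 25728, nat_lit 30208, nat_lit 37888, nat_lit 41486, nat_lit 37030, nat_lit 33007, nat_lit 28750, nat_lit 24716, nat_lit 20491, nat_lit 16395, nat_lit 12305, nat_lit 8194, nat_lit 4101, nat_lit 2]⟩⟩ ⟨(nat_lit 2), ⟨[], [], (nat_lit 49), ⟨[nat_lit 29, nat_lit 92], [nat_lit 13, nat_lit 49], ⟨[nat_lit 0x9c24375d267d547458ac2368b88820], [nat_lit 175104, nat_lit 169472, nat_lit 165632, nat_lit 160256, nat_lit 158208, nat_lit 153728, nat_lit 149872, nat_lit 144312,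 nat_lit 141420, nat_lit 135798, nat_lit 135090, nat_lit 2, nat_lit 4100, nat_lit 9328, nat_lit 13728, nat_lit 18016, nat_lit 22400, nat_lit 24832, nat_lit 29952, nat_lit 33792, nat_lit 37888, nat_lit 41816, nat_lit 37329, nat_lit 33464, nat_lit 28723, nat_lit 24890, nat_lit 20507, nat_lit 16397, nat_lit 12310, nat_lit 8195, nat_lit 4100, nat_lit 2]⟩⟩⟩, ⟨[nat_lit 7, nat_lit 2, nat_lit 0, nat_lit 8], [], (nat_lit 20), ⟨[nat_lit 0, nat_lit 86, nat_lit 92], [nat_lit 0, nat_lit 14, nat_lit 89], ⟨[nat_lit 0x7b49770e6a4a2c72c29158992a9801], [nat_lit 169472, nat_lit 164352, nat_lit 155712, nat_lit 151616, nat_lit 147520, nat_lit 146552, nat_lit 139304, nat_lit 136214, nat_lit 132625, nat_lit 2, nat_lit 4104, nat_lit 8312, nat_lit 14048, nat_lit 18176, nat_lit 21184, nat_lit 25856, nat_lit 29184, nat_lit 41908, nat_lit 38249, nat_lit 33948, nat_lit 29211, nat_lit 24767, nat_lit 20495, nat_lit 16449, nat_lit 12289, nat_lit 8227,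 nat_lit 4097, nat_lit 2]⟩⟩⟩⟩]

theorem dcCr33 : D2.Rng dxC 33 35 := D2.Rng.of (l := dcCc33) (by decide +kernel)

def dcCc35 : List (D2.Cert TW) := [.stab (nat_lit 69) tw0 ⟨(nat_lit 0), ⟨[nat_lit 1, nat_lit 5, nat_lit 4, nat_lit 5, nat_lit 3, nat_lit 9], [], (nat_lit 48), ⟨[nat_lit 17, nat_lit 94], [nat_lit 7, nat_lit 63], ⟨[nat_lit 0x320ae8928265d36a8cf09aa4f6ac20], [nat_lit 173056, nat_lit 165120, nat_lit 161536, nat_lit 157632, nat_lit 152512, nat_lit 151120, nat_lit 143520, nat_lit 139336, nat_lit 137064, nat_lit 131266, nat_lit 16, nat_lit 4112, nat_lit 8752, nat_lit 13264, nat_lit 16672, nat_lit 21632, nat_lit 25344, nat_lit 29952, nat_lit 33280, nat_lit 41219, nat_lit 37136, nat_lit 33008, nat_lit 28720, nat_lit 24852, nat_lit 20500, nat_lit 16428, nat_lit 12293, nat_lit 8203]⟩⟩⟩, ⟨[], [], nat_lit 0, tw0⟩⟩,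
  .prod [] [nat_lit 27, nat_lit 27, nat_lit 35, nat_lit 25],
  .prod [] [nat_lit 28, nat_lit 25, nat_lit 26, nat_lit 27],
  .prod [] [nat_lit 36, nat_lit 26, nat_lit 37, nat_lit 26],
  .prod [] [nat_lit 38, nat_lit 37, nat_lit 35, nat_lit 37],
  .prod [] [nat_lit 27, nat_lit 28, nat_lit 39, nat_lit 39]]

theorem dcCr35 : D2.Rng dxC 35 41 := D2.Rng.of (l := dcCc35) (by decide +kernel)

def dcCc41 : List (D2.Cert TW) := [.edge ⟨[nat_lit 79, nat_lit 53], [nat_lit 3, nat_lit 90], ⟨[nat_lit 0xade0a23c568aca774d88199b44c820], [nat_lit 175104, nat_lit 171008, nat_lit 166144, nat_lit 161536, nat_lit 159168, nat_lit 155072, nat_lit 148496, nat_lit 145600, nat_lit 140716, nat_lit 135916, nat_lit 132605, nat_lit 1896, nat_lit 5992, nat_lit 8872, nat_lit 14176, nat_lit 18208, nat_lit 25216, nat_lit 28928, nat_lit 37888, nat_lit 40968, nat_lit 37188, nat_lit 32776, nat_lit 28741, nat_lit 24633, nat_lit 20507, nat_lit 16419, nat_lit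 12294, nat_lit 8202]⟩⟩ ⟨(nat_lit 2), ⟨[nat_lit 12, nat_lit 20, nat_lit 12], [nat_lit 15, nat_lit 18], (nat_lit 63), ⟨[nat_lit 11, nat_lit 65], [nat_lit 13, nat_lit 90], ⟨[nat_lit 0xabd9614643752ed3248b41d4584c01], [nat_lit 173056, nat_lit 171520, nat_lit 164352, nat_lit 159872, nat_lit 156992, nat_lit 152064, nat_lit 143568, nat_lit 140692, nat_lit 137070, nat_lit 131620, nat_lit 2, nat_lit 4608, nat_lit 8264, nat_lit 12528, nat_lit 16480, nat_lit 22272, nat_lit 24704, nat_lit 29184, nat_lit 34304, nat_lit 41397, nat_lit 33951, nat_lit 28785, nat_lit 24745, nat_lit 20634, nat_lit 16456, nat_lit 12323, nat_lit 8193, nat_lit 4097, nat_lit 2]⟩⟩⟩, ⟨[nat_lit 38, nat_lit 38, nat_lit 37, nat_lit 28], [], (nat_lit 62), ⟨[nat_lit 21, nat_lit 64], [nat_lit 0, nat_lit 17, nat_lit 49], ⟨[nat_lit 0x9a28f6da0aaae4c745372906711801], [nat_lit 169984, nat_lit 162944, nat_lit 157248, nat_lit 154816, nat_lit 151392, nat_lit 145520, nat_lit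 139912, nat_lit 135570, nat_lit 135152, nat_lit 698, nat_lit 5816, nat_lit 9216, nat_lit 12976, nat_lit 18400, nat_lit 22016, nat_lit 25216, nat_lit 29440, nat_lit 41851, nat_lit 38064, nat_lit 33367, nat_lit 28755, nat_lit 24626, nat_lit 20499, nat_lit 16429, nat_lit 12295, nat_lit 8200, nat_lit 4101]⟩⟩⟩⟩,
  .defn,
  .stab (nat_lit 84) tw0 ⟨(nat_lit 0), ⟨[nat_lit 18, nat_lit 20, nat_lit 13, nat_lit 13, nat_lit 18, nat_lit 15, nat_lit 15, nat_lit 13], [], (nat_lit 84), ⟨[nat_lit 0, nat_lit 37, nat_lit 48], [nat_lit 0, nat_lit 35, nat_lit 54], ⟨[nat_lit 0x926aa1990c258f12896f751b3bc001], [nat_lit 175104, nat_lit 165376, nat_lit 159872, nat_lit 156224, nat_lit 153088, nat_lit 149360, nat_lit 143672, nat_lit 140600, nat_lit 135780, nat_lit 132866, nat_lit 2, nat_lit 5120, nat_lit 8240, nat_lit 12848, nat_lit 18240, nat_lit 25600, nat_lit 30464, nat_lit 33280, nat_lit 37888, nat_lit 40992, nat_lit 37120, nat_lit 33304,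 nat_lit 28783, nat_lit 24638, nat_lit 20559, nat_lit 16428, nat_lit 12306, nat_lit 8203, nat_lit 4097, nat_lit 2]⟩⟩⟩, ⟨[], [], nat_lit 0, tw0⟩⟩]

theorem dcCr41 : D2.Rng dxC 41 44 := D2.Rng.of (l := dcCc41) (by decide +kernel)

def dcCc44 : List (D2.Cert TW) := [.stab (nat_lit 84) tw0 ⟨(nat_lit 0), ⟨[nat_lit 21, nat_lit 15, nat_lit 15, nat_lit 14, nat_lit 19, nat_lit 15, nat_lit 20, nat_lit 14], [], (nat_lit 84), ⟨[nat_lit 0, nat_lit 12, nat_lit 48], [nat_lit 11, nat_lit 93], ⟨[nat_lit 0x796b2332f08b8f46cec45a9221a020], [nat_lit 173056, nat_lit 166400, nat_lit 155968, nat_lit 154144, nat_lit 151312, nat_lit 145496, nat_lit 142356, nat_lit 139040, nat_lit 131106, nat_lit 318, nat_lit 4352, nat_lit 8504, nat_lit 12544, nat_lit 16672, nat_lit 20736, nat_lit 24832, nat_lit 29952, nat_lit 41523, nat_lit 38270, nat_lit 32822, nat_lit 28760, nat_lit 24582, nat_lit 20752, nat_lit 16394, nat_lit 12294, nat_lit 8194, nat_lit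 4100]⟩⟩⟩, ⟨[], [], nat_lit 0, tw0⟩⟩,
  .stab (nat_lit 84) tw0 ⟨(nat_lit 0), ⟨[nat_lit 17, nat_lit 13, nat_lit 21, nat_lit 13, nat_lit 21, nat_lit 17, nat_lit 14], [], (nat_lit 84), ⟨[nat_lit 3, nat_lit 47], [nat_lit 0, nat_lit 37, nat_lit 49], ⟨[nat_lit 0x7b6b74464a63ad4288e35c13321820], [nat_lit 173056, nat_lit 171008, nat_lit 164096, nat_lit 159872, nat_lit 156672, nat_lit 152064, nat_lit 147472, nat_lit 144664, nat_lit 140308, nat_lit 136006, nat_lit 131854, nat_lit 512, nat_lit 4608, nat_lit 9800, nat_lit 12320, nat_lit 17408, nat_lit 21888, nat_lit 25344, nat_lit 28928, nat_lit 34304, nat_lit 41792, nat_lit 34024, nat_lit 28934, nat_lit 25619, nat_lit 20627, nat_lit 16426, nat_lit 12325, nat_lit 8211]⟩⟩⟩, ⟨[], [], nat_lit 0, tw0⟩⟩,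
  .stab (nat_lit 84) tw0 ⟨(nat_lit 0), ⟨[nat_lit 17, nat_lit 14, nat_lit 15, nat_lit 17, nat_lit 13, nat_lit 12, nat_lit 15], [], (nat_lit 84), ⟨[nat_lit 42, nat_lit 64], [nat_lit 69], ⟨[nat_lit 0x53970951f71d524698f3b08a864401], [nat_lit 173056, nat_lit 164864, nat_lit 159872, nat_lit 156160, nat_lit 154976, nat_lit 148752, nat_lit 144224, nat_lit 140328, nat_lit 136478, nat_lit 132725, nat_lit 2, nat_lit 4128, nat_lit 8984, nat_lit 13632, nat_lit 16448, nat_lit 20544, nat_lit 25088, nat_lit 29184, nat_lit 33280, nat_lit 41084, nat_lit 36872, nat_lit 32885, nat_lit 28768, nat_lit 24623, nat_lit 16645, nat_lit 12353, nat_lit 8202, nat_lit 4097, nat_lit 2]⟩⟩⟩, ⟨[], [], nat_lit 0, tw0⟩⟩]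

theorem dcCr44 : D2.Rng dxC 44 47 := D2.Rng.of (l := dcCc44) (by decide +kernel)

def dcCc47 : List (D2.Cert TW) := [.prod [] [nat_lit 43, nat_lit 46, nat_lit 45, nat_lit 44],
  .prod [] [nat_lit 46, nat_lit 43, nat_lit 46, nat_lit 44],
  .prod [] [nat_lit 44, nat_lit 45, nat_lit 45, nat_lit 48],
  .prod [] [nat_lit 45, nat_lit 45, nat_lit 49, nat_lit 47],
  .edge ⟨[nat_lit 12, nat_lit 54], [nat_lit 35, nat_lit 64], ⟨[nat_lit 0xa4e0d2b2a743eca8892622c72bb801], [nat_lit 173056, nat_lit 168448, nat_lit 166912, nat_lit 160512, nat_lit 155840, nat_lit 154016, nat_lit 150256, nat_lit 146192, nat_lit 143092, nat_lit 138996, nat_lit 132084, nat_lit 2, nat_lit 6068, nat_lit 8504, nat_lit 13632, nat_lit 17152, nat_lit 21888, nat_lit 25472, nat_lit 30208, nat_lit 34304, nat_lit 37888, nat_lit 41372, nat_lit 37035, nat_lit 34006, nat_lit 28674, nat_lit 24623, nat_lit 20574, nat_lit 16427, nat_lit 12289, nat_lit 8194, nat_lit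 4101, nat_lit 2]⟩⟩ ⟨(nat_lit 2), ⟨[nat_lit 25, nat_lit 39, nat_lit 25, nat_lit 38, nat_lit 25], [], (nat_lit 62), ⟨[nat_lit 85, nat_lit 58], [nat_lit 81, nat_lit 94], ⟨[nat_lit 0x1125619e775d2ae83511518ac4bc20], [nat_lit 175104, nat_lit 165632, nat_lit 162304, nat_lit 156352, nat_lit 153056, nat_lit 149792, nat_lit 147432, nat_lit 142044, nat_lit 138266, nat_lit 133394, nat_lit 2, nat_lit 5276, nat_lit 9200, nat_lit 13552, nat_lit 17952, nat_lit 21312, nat_lit 24960, nat_lit 30464, nat_lit 33792, nat_lit 41853, nat_lit 38349, nat_lit 32893, nat_lit 28797, nat_lit 24763, nat_lit 20631, nat_lit 16399, nat_lit 12304, nat_lit 8193, nat_lit 4097, nat_lit 2]⟩⟩⟩, ⟨[nat_lit 19, nat_lit 19, nat_lit 14, nat_lit 17, nat_lit 15], [], (nat_lit 84), ⟨[nat_lit 0, nat_lit 38, nat_lit 53], [nat_lit 0, nat_lit 11, nat_lit 51], ⟨[nat_lit 0x3956918a1365df46bad5510c894401], [nat_lit 169472, nat_lit 164096, nat_lit 160256, nat_lit 156480,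 nat_lit 151584, nat_lit 143616, nat_lit 143160, nat_lit 137024, nat_lit 131142, nat_lit 2, nat_lit 4100, nat_lit 8704, nat_lit 12352, nat_lit 16640, nat_lit 21248, nat_lit 25984, nat_lit 28928, nat_lit 37888, nat_lit 41748, nat_lit 37060, nat_lit 33905, nat_lit 29248, nat_lit 24876, nat_lit 20739, nat_lit 17408, nat_lit 12357, nat_lit 4097, nat_lit 2]⟩⟩⟩⟩]

theorem dcCr47 : D2.Rng dxC 47 52 := D2.Rng.of (l := dcCc47) (by decide +kernel)

def dcCc52 : List (D2.Cert TW) := [.edge ⟨[nat_lit 3, nat_lit 69], [nat_lit 0, nat_lit 13, nat_lit 53], ⟨[nat_lit 0x8c0d5b1ded53a421b26b492e8a1420], [nat_lit 175104, nat_lit 168448, nat_lit 164608, nat_lit 162432, nat_lit 156224, nat_lit 152992, nat_lit 151024, nat_lit 146160, nat_lit 142312, nat_lit 137468, nat_lit 133759, nat_lit 2, nat_lit 5276, nat_lit 9240, nat_lit 12480, nat_lit 17504, nat_lit 22080, nat_lit 26368, nat_lit 28928, nat_lit 37888, nat_lit 41909, nat_lit 36973, nat_lit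 32827, nat_lit 28782, nat_lit 24760, nat_lit 20484, nat_lit 16451, nat_lit 12419, nat_lit 8193, nat_lit 4097, nat_lit 2]⟩⟩ ⟨(nat_lit 2), ⟨[], [], (nat_lit 85), ⟨[nat_lit 11, nat_lit 92], [nat_lit 0, nat_lit 82, nat_lit 61], ⟨[nat_lit 0x516a46dd8999dc2a424878e265d820], [nat_lit 175104, nat_lit 168960, nat_lit 165376, nat_lit 160768, nat_lit 158720, nat_lit 154048, nat_lit 149632, nat_lit 145304, nat_lit 142312, nat_lit 135692, nat_lit 133383, nat_lit 2, nat_lit 5120, nat_lit 9928, nat_lit 13264, nat_lit 17408, nat_lit 20800, nat_lit 25728, nat_lit 29696, nat_lit 33792, nat_lit 37888, nat_lit 41847, nat_lit 37017, nat_lit 32815, nat_lit 29238, nat_lit 24625, nat_lit 20511, nat_lit 16416, nat_lit 12306, nat_lit 4112, nat_lit 2]⟩⟩⟩, ⟨[nat_lit 12, nat_lit 17, nat_lit 18, nat_lit 15], [], (nat_lit 82), ⟨[nat_lit 0, nat_lit 7, nat_lit 52], [nat_lit 0, nat_lit 29, nat_lit 59], ⟨[nat_lit 0xb2da97c692510533d5c541870bb020], [nat_lit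 170496, nat_lit 164352, nat_lit 161152, nat_lit 156608, nat_lit 153440, nat_lit 148528, nat_lit 145064, nat_lit 139332, nat_lit 135890, nat_lit 132534, nat_lit 512, nat_lit 4608, nat_lit 8504, nat_lit 13632, nat_lit 17376, nat_lit 20544, nat_lit 25856, nat_lit 33792, nat_lit 41472, nat_lit 37216, nat_lit 33504, nat_lit 29000, nat_lit 24712, nat_lit 21022, nat_lit 16430, nat_lit 12293, nat_lit 8194]⟩⟩⟩⟩,
  .edge ⟨[nat_lit 0, nat_lit 3, nat_lit 57], [nat_lit 0, nat_lit 38, nat_lit 69], ⟨[nat_lit 0x7c5554c194b2dd328c86921b711c20], [nat_lit 173056, nat_lit 160768, nat_lit 159488, nat_lit 152928, nat_lit 148848, nat_lit 143600, nat_lit 140856, nat_lit 136994, nat_lit 131136, nat_lit 64, nat_lit 4160, nat_lit 9432, nat_lit 13456, nat_lit 17440, nat_lit 22144, nat_lit 26240, nat_lit 29440, nat_lit 37888, nat_lit 41152, nat_lit 37094, nat_lit 32960, nat_lit 29013, nat_lit 24608, nat_lit 20483, nat_lit 16397, nat_lit 12292,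 nat_lit 8195]⟩⟩ ⟨(nat_lit 2), ⟨[nat_lit 47, nat_lit 43], [], (nat_lit 104), ⟨[nat_lit 14, nat_lit 51], [nat_lit 0, nat_lit 85, nat_lit 58], ⟨[nat_lit 0x6dab15dc6450a85399f09b12893801], [nat_lit 175104, nat_lit 169472, nat_lit 165376, nat_lit 161152, nat_lit 157760, nat_lit 155232, nat_lit 150368, nat_lit 143936, nat_lit 142660, nat_lit 135362, nat_lit 134802, nat_lit 1142, nat_lit 5056, nat_lit 9328, nat_lit 16640, nat_lit 20800, nat_lit 25216, nat_lit 33280, nat_lit 41421, nat_lit 37195, nat_lit 32899, nat_lit 29046, nat_lit 24595, nat_lit 20630, nat_lit 16448, nat_lit 12800, nat_lit 8195, nat_lit 4101]⟩⟩⟩, ⟨[nat_lit 12, nat_lit 19, nat_lit 20, nat_lit 18], [], (nat_lit 84), ⟨[nat_lit 84, nat_lit 60], [nat_lit 0, nat_lit 32, nat_lit 51], ⟨[nat_lit 0x4196e9120caa662a1df61c5572b401], [nat_lit 173056, nat_lit 165376, nat_lit 160000, nat_lit 157120, nat_lit 153216, nat_lit 150080, nat_lit 144208, nat_lit 140676, nat_lit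 137138, nat_lit 131097, nat_lit 2, nat_lit 4112, nat_lit 8680, nat_lit 13568, nat_lit 16512, nat_lit 21568, nat_lit 30464, nat_lit 33280, nat_lit 41872, nat_lit 37952, nat_lit 32891, nat_lit 29265, nat_lit 24598, nat_lit 20759, nat_lit 16399, nat_lit 12311, nat_lit 8195, nat_lit 4097, nat_lit 2]⟩⟩⟩⟩]

theorem dcCr52 : D2.Rng dxC 52 54 := D2.Rng.of (l := dcCc52) (by decide +kernel)

def dcCc54 : List (D2.Cert TW) := [.edge ⟨[nat_lit 88, nat_lit 66], [nat_lit 88, nat_lit 55], ⟨[nat_lit 0x8bab21195040e647d0a765d2bb3401], [nat_lit 174080, nat_lit 169472, nat_lit 164352, nat_lit 156672, nat_lit 153184, nat_lit 149472, nat_lit 144384, nat_lit 140144, nat_lit 137192, nat_lit 132686, nat_lit 2, nat_lit 5120, nat_lit 8680, nat_lit 12976, nat_lit 18400, nat_lit 21824, nat_lit 25600, nat_lit 29184, nat_lit 34304, nat_lit 41583, nat_lit 38366, nat_lit 33316, nat_lit 28971, nat_lit 20638, nat_lit 16516, nat_lit 12291, nat_lit 8195,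 nat_lit 4097, nat_lit 2]⟩⟩ ⟨(nat_lit 2), ⟨[nat_lit 44], [nat_lit 46], (nat_lit 103), ⟨[nat_lit 0, nat_lit 82, nat_lit 47], [nat_lit 0, nat_lit 29, nat_lit 57], ⟨[nat_lit 0xb31c4ac225bad479246d13e68a1820], [nat_lit 173056, nat_lit 164864, nat_lit 160256, nat_lit 158592, nat_lit 152032, nat_lit 147520, nat_lit 144096, nat_lit 140416, nat_lit 137146, nat_lit 133064, nat_lit 64, nat_lit 4160, nat_lit 9800, nat_lit 14144, nat_lit 16640, nat_lit 22208, nat_lit 24704, nat_lit 29696, nat_lit 33792, nat_lit 37888, nat_lit 41640, nat_lit 37056, nat_lit 32997, nat_lit 28743, nat_lit 20757, nat_lit 16416, nat_lit 13312, nat_lit 8323]⟩⟩⟩, ⟨[nat_lit 35, nat_lit 28, nat_lit 37, nat_lit 36, nat_lit 25, nat_lit 25], [], (nat_lit 62), ⟨[nat_lit 88, nat_lit 57], [nat_lit 0, nat_lit 84, nat_lit 94], ⟨[nat_lit 0x710b1856cc92d4d4dce3309147cc01], [nat_lit 174080, nat_lit 170496, nat_lit 165120, nat_lit 161792, nat_lit 157952, nat_lit 154624,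 nat_lit 149360, nat_lit 144752, nat_lit 140392, nat_lit 138444, nat_lit 133144, nat_lit 1760, nat_lit 5856, nat_lit 9384, nat_lit 12672, nat_lit 17216, nat_lit 21696, nat_lit 26240, nat_lit 33280, nat_lit 41807, nat_lit 38389, nat_lit 32939, nat_lit 28936, nat_lit 24597, nat_lit 20483, nat_lit 16454, nat_lit 12291]⟩⟩⟩⟩,
  .edge ⟨[nat_lit 0, nat_lit 74, nat_lit 92], [nat_lit 74, nat_lit 64], ⟨[nat_lit 0x9c28eabc8688d45389125d989bb420], [nat_lit 174080, nat_lit 171520, nat_lit 166656, nat_lit 160640, nat_lit 159680, nat_lit 155168, nat_lit 149392, nat_lit 145848, nat_lit 140408, nat_lit 136874, nat_lit 131918, nat_lit 1896, nat_lit 5992, nat_lit 8680, nat_lit 13712, nat_lit 16800, nat_lit 20928, nat_lit 26368, nat_lit 34304, nat_lit 41961, nat_lit 38081, nat_lit 33392, nat_lit 28726, nat_lit 24600, nat_lit 20610, nat_lit 16398, nat_lit 12293, nat_lit 8193]⟩⟩ ⟨(nat_lit 2), ⟨[nat_lit 48, nat_lit 50], [], (nat_lit 108),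 ⟨[nat_lit 7, nat_lit 62], [nat_lit 14, nat_lit 69], ⟨[nat_lit 0x930b08d16244c763b94933ef523401], [nat_lit 168960, nat_lit 164096, nat_lit 160128, nat_lit 156032, nat_lit 155200, nat_lit 147872, nat_lit 144528, nat_lit 140556, nat_lit 135984, nat_lit 132984, nat_lit 2, nat_lit 4128, nat_lit 8680, nat_lit 12784, nat_lit 18144, nat_lit 20544, nat_lit 26240, nat_lit 28928, nat_lit 41944, nat_lit 37938, nat_lit 33300, nat_lit 29009, nat_lit 24604, nat_lit 16461, nat_lit 12356, nat_lit 8195, nat_lit 4097, nat_lit 2]⟩⟩⟩, ⟨[nat_lit 16, nat_lit 16, nat_lit 15, nat_lit 12, nat_lit 18], [], (nat_lit 84), ⟨[nat_lit 0, nat_lit 17, nat_lit 52], [nat_lit 0, nat_lit 22, nat_lit 69], ⟨[nat_lit 0x1ac49a32ad248d1b39f78166752001], [nat_lit 169472, nat_lit 167424, nat_lit 161152, nat_lit 156800, nat_lit 155456, nat_lit 149648, nat_lit 146960, nat_lit 142852, nat_lit 137666, nat_lit 132626, nat_lit 2, nat_lit 4352, nat_lit 8504, nat_lit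 13024, nat_lit 17056, nat_lit 21632, nat_lit 26240, nat_lit 29440, nat_lit 33280, nat_lit 37888, nat_lit 41606, nat_lit 37095, nat_lit 32809, nat_lit 29236, nat_lit 24625, nat_lit 20504, nat_lit 16427, nat_lit 12327, nat_lit 8194, nat_lit 4101, nat_lit 2]⟩⟩⟩⟩]

theorem dcCr54 : D2.Rng dxC 54 56 := D2.Rng.of (l := dcCc54) (by decide +kernel)

def dcCc56 : List (D2.Cert TW) := [.edge ⟨[nat_lit 0, nat_lit 42, nat_lit 55], [nat_lit 0, nat_lit 82, nat_lit 61], ⟨[nat_lit 0x8b4d3b95d522d0f4d202b28723b020], [nat_lit 169472, nat_lit 165376, nat_lit 162176, nat_lit 157440, nat_lit 152608, nat_lit 148624, nat_lit 143496, nat_lit 140604, nat_lit 136142, nat_lit 131625, nat_lit 128, nat_lit 4224, nat_lit 8504, nat_lit 13728, nat_lit 17248, nat_lit 22208, nat_lit 25344, nat_lit 37888, nat_lit 41523, nat_lit 36972, nat_lit 32956, nat_lit 28776, nat_lit 24715, nat_lit 20564, nat_lit 16423, nat_lit 12423, nat_lit 8194]⟩⟩ ⟨(nat_lit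 2), ⟨[nat_lit 46, nat_lit 44, nat_lit 43, nat_lit 47], [], (nat_lit 110), ⟨[nat_lit 0, nat_lit 17, nat_lit 62], [nat_lit 0, nat_lit 38, nat_lit 89], ⟨[nat_lit 0x79ea2b526934888639701b4b78a820], [nat_lit 173056, nat_lit 169472, nat_lit 164608, nat_lit 160000, nat_lit 156672, nat_lit 155136, nat_lit 149088, nat_lit 143424, nat_lit 140044, nat_lit 135844, nat_lit 131619, nat_lit 32, nat_lit 4128, nat_lit 9024, nat_lit 13056, nat_lit 18208, nat_lit 21312, nat_lit 25856, nat_lit 30208, nat_lit 33280, nat_lit 37888, nat_lit 41965, nat_lit 38274, nat_lit 32800, nat_lit 28768, nat_lit 24742, nat_lit 20484, nat_lit 16389, nat_lit 12807, nat_lit 8210]⟩⟩⟩, ⟨[nat_lit 46], [nat_lit 46], (nat_lit 103), ⟨[nat_lit 0, nat_lit 29, nat_lit 61], [nat_lit 0, nat_lit 21, nat_lit 59], ⟨[nat_lit 0x1592fa54f351911634b070eeb91001], [nat_lit 174080, nat_lit 169984, nat_lit 164352, nat_lit 161920, nat_lit 158528, nat_lit 154752, nat_lit 148816,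 nat_lit 144816, nat_lit 141116, nat_lit 138640, nat_lit 133817, nat_lit 1760, nat_lit 5856, nat_lit 8792, nat_lit 13616, nat_lit 16960, nat_lit 22208, nat_lit 25088, nat_lit 30464, nat_lit 41627, nat_lit 37348, nat_lit 33415, nat_lit 29242, nat_lit 24628, nat_lit 20507, nat_lit 16418, nat_lit 12306, nat_lit 8259]⟩⟩⟩⟩,
  .edge ⟨[nat_lit 86, nat_lit 47], [nat_lit 0, nat_lit 28, nat_lit 94], ⟨[nat_lit 0x2ae516b88a98eef8504ca991649c20], [nat_lit 175104, nat_lit 170496, nat_lit 165888, nat_lit 162560, nat_lit 153728, nat_lit 149984, nat_lit 144040, nat_lit 142476, nat_lit 136892, nat_lit 131752, nat_lit 1972, nat_lit 6068, nat_lit 9960, nat_lit 13088, nat_lit 16768, nat_lit 20928, nat_lit 25216, nat_lit 30464, nat_lit 33280, nat_lit 41532, nat_lit 38032, nat_lit 32982, nat_lit 29034, nat_lit 24889, nat_lit 20508, nat_lit 16393, nat_lit 12294, nat_lit 8201]⟩⟩ ⟨(nat_lit 1), ⟨[nat_lit 49], [], (nat_lit 112), ⟨[nat_lit 38,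 nat_lit 55], [nat_lit 0, nat_lit 29, nat_lit 54], ⟨[nat_lit 0xb0e2661d044ba95142e56aa535bc01], [nat_lit 174080, nat_lit 168960, nat_lit 165120, nat_lit 161792, nat_lit 156416, nat_lit 149904, nat_lit 147072, nat_lit 142996, nat_lit 138810, nat_lit 134469, nat_lit 1180, nat_lit 5276, nat_lit 9200, nat_lit 13264, nat_lit 18112, nat_lit 22080, nat_lit 25216, nat_lit 41836, nat_lit 37971, nat_lit 33408, nat_lit 28928, nat_lit 24623, nat_lit 20511, nat_lit 12289, nat_lit 8195]⟩⟩⟩, ⟨[nat_lit 36, nat_lit 36, nat_lit 26, nat_lit 36, nat_lit 40], [], (nat_lit 102), ⟨[nat_lit 85, nat_lit 94], [nat_lit 11, nat_lit 52], ⟨[nat_lit 0x9b2cf55d321ada7894d471048ac001], [nat_lit 174080, nat_lit 168448, nat_lit 164864, nat_lit 158016, nat_lit 154208, nat_lit 151232, nat_lit 144504, nat_lit 143208, nat_lit 136304, nat_lit 133397, nat_lit 1142, nat_lit 5172, nat_lit 9328, nat_lit 12672, nat_lit 17760, nat_lit 22144, nat_lit 30464, nat_lit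 41143, nat_lit 37333, nat_lit 32999, nat_lit 28980, nat_lit 24583, nat_lit 20495, nat_lit 16516, nat_lit 12325, nat_lit 8195, nat_lit 4101]⟩⟩⟩⟩]

theorem dcCr56 : D2.Rng dxC 56 58 := D2.Rng.of (l := dcCc56) (by decide +kernel)

def dcCc58 : List (D2.Cert TW) := [.stab (nat_lit 102) tw0 ⟨(nat_lit 0), ⟨[nat_lit 37, nat_lit 40, nat_lit 39, nat_lit 36, nat_lit 25, nat_lit 37, nat_lit 39, nat_lit 39], [], (nat_lit 102), ⟨[nat_lit 24, nat_lit 56], [nat_lit 0, nat_lit 13, nat_lit 56], ⟨[nat_lit 0x99dcb829a67a492a0eb761511b0801], [nat_lit 175104, nat_lit 171520, nat_lit 166400, nat_lit 159872, nat_lit 157312, nat_lit 153152, nat_lit 151104, nat_lit 143856, nat_lit 140336, nat_lit 137862, nat_lit 133861, nat_lit 1808, nat_lit 5904, nat_lit 10000, nat_lit 12976, nat_lit 17664, nat_lit 20800, nat_lit 25088, nat_lit 28928, nat_lit 37888, nat_lit 41875, nat_lit 36942, nat_lit 33973, nat_lit 29696, nat_lit 25117, nat_lit 20489,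 nat_lit 16387, nat_lit 12290, nat_lit 8195]⟩⟩⟩, ⟨[], [], nat_lit 0, tw0⟩⟩,
  .prod [] [nat_lit 43, nat_lit 46, nat_lit 45, nat_lit 46],
  .prod [] [nat_lit 46, nat_lit 59, nat_lit 58, nat_lit 58],
  .prod [] [nat_lit 58, nat_lit 59, nat_lit 43, nat_lit 44],
  .prod [] [nat_lit 46, nat_lit 45, nat_lit 59, nat_lit 46],
  .prod [] [nat_lit 45, nat_lit 62, nat_lit 44, nat_lit 62],
  .defn]

theorem dcCr58 : D2.Rng dxC 58 65 := D2.Rng.of (l := dcCc58) (by decide +kernel)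

def dcCc65 : List (D2.Cert TW) := [.stab (nat_lit 128) tw0 ⟨(nat_lit 0), ⟨[nat_lit 16, nat_lit 12, nat_lit 16, nat_lit 19, nat_lit 14, nat_lit 13, nat_lit 16, nat_lit 13], [], (nat_lit 128), ⟨[nat_lit 0, nat_lit 37, nat_lit 94], [nat_lit 0, nat_lit 18, nat_lit 57], ⟨[nat_lit 0x20d13395f48d64e5a6ec8184ab3420], [nat_lit 173056, nat_lit 164608, nat_lit 163200, nat_lit 157504, nat_lit 153568, nat_lit 148864, nat_lit 145088, nat_lit 140100, nat_lit 137170, nat_lit 133090, nat_lit 128, nat_lit 4224, nat_lit 8680, nat_lit 12976, nat_lit 18304, nat_lit 21248, nat_lit 26496, nat_lit 29440, nat_lit 33280, nat_lit 37888, nat_lit 41344, nat_lit 37208, nat_lit 32982, nat_lit 28764, nat_lit 24764, nat_lit 20487, nat_lit 16387, nat_lit 12289, nat_lit 8193]⟩⟩⟩, ⟨[], [], nat_lit 0, tw0⟩⟩,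
  .stab (nat_lit 128) tw0 ⟨(nat_lit 0), ⟨[nat_lit 20, nat_lit 15, nat_lit 17, nat_lit 13, nat_lit 20, nat_lit 13, nat_lit 15, nat_lit 15], [], (nat_lit 128), ⟨[nat_lit 0, nat_lit 81, nat_lit 63], [nat_lit 0, nat_lit 74, nat_lit 64], ⟨[nat_lit 0xb1d52246a96bc4e5d265442e61b020], [nat_lit 173056, nat_lit 170496, nat_lit 165376, nat_lit 161664, nat_lit 157504, nat_lit 153440, nat_lit 148512, nat_lit 145064, nat_lit 140352, nat_lit 135446, nat_lit 132404, nat_lit 512, nat_lit 4608, nat_lit 8504, nat_lit 12800, nat_lit 16608, nat_lit 22208, nat_lit 24832, nat_lit 29696, nat_lit 33792, nat_lit 41792, nat_lit 36899, nat_lit 33984, nat_lit 29005, nat_lit 24723, nat_lit 20995, nat_lit 16462, nat_lit 8194]⟩⟩⟩, ⟨[], [], nat_lit 0, tw0⟩⟩,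
  .stab (nat_lit 128) tw0 ⟨(nat_lit 0), ⟨[nat_lit 14, nat_lit 12, nat_lit 12, nat_lit 18, nat_lit 20, nat_lit 14, nat_lit 13, nat_lit 14], [], (nat_lit 128), ⟨[nat_lit 0, nat_lit 18, nat_lit 89], [nat_lit 0, nat_lit 50], ⟨[nat_lit 0x33e933caed2b2365a46a241d512020], [nat_lit 173056, nat_lit 169472, nat_lit 165632, nat_lit 161024, nat_lit 156352, nat_lit 153152, nat_lit 148464, nat_lit 143424, nat_lit 140512, nat_lit 136946, nat_lit 131551, nat_lit 8448, nat_lit 12864, nat_lit 16448, nat_lit 21376, nat_lit 25600, nat_lit 30464, nat_lit 33280, nat_lit 41024, nat_lit 37301, nat_lit 32851, nat_lit 29249, nat_lit 24729, nat_lit 20546, nat_lit 16519, nat_lit 12323, nat_lit 8200]⟩⟩⟩, ⟨[], [], nat_lit 0, tw0⟩⟩]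

theorem dcCr65 : D2.Rng dxC 65 68 := D2.Rng.of (l := dcCc65) (by decide +kernel)

def dcCc68 : List (D2.Cert TW) := [.stab (nat_lit 128) tw0 ⟨(nat_lit 0), ⟨[nat_lit 16, nat_lit 17, nat_lit 14, nat_lit 15, nat_lit 17, nat_lit 19, nat_lit 16], [], (nat_lit 128), ⟨[nat_lit 0, nat_lit 81, nat_lit 93], [nat_lit 0, nat_lit 18, nat_lit 66], ⟨[nat_lit 0xb204c991cf356145a647bb46a2c420], [nat_lit 168960, nat_lit 165120, nat_lit 161024, nat_lit 155904, nat_lit 152800, nat_lit 151024, nat_lit 144992, nat_lit 141124, nat_lit 136054, nat_lit 132624, nat_lit 16, nat_lit 4112, nat_lit 9000, nat_lit 14304, nat_lit 17664, nat_lit 21952, nat_lit 26496, nat_lit 29184, nat_lit 34304, nat_lit 37888, nat_lit 41797, nat_lit 38377, nat_lit 32999, nat_lit 29023, nat_lit 24895, nat_lit 20622, nat_lit 16421, nat_lit 12352, nat_lit 8226]⟩⟩⟩, ⟨[], [], nat_lit 0, tw0⟩⟩,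
  .prod [] [nat_lit 68, nat_lit 66, nat_lit 66, nat_lit 65],
  .prod [] [nat_lit 66, nat_lit 69, nat_lit 65, nat_lit 68],
  .prod [] [nat_lit 70, nat_lit 70, nat_lit 67, nat_lit 66],
  .prod [] [nat_lit 67, nat_lit 69, nat_lit 71, nat_lit 70],
  .prod [] [nat_lit 65, nat_lit 72, nat_lit 65, nat_lit 66]]

theorem dcCr68 : D2.Rng dxC 68 74 := D2.Rng.of (l := dcCc68) (by decide +kernel)

def dcCc74 : List (D2.Cert TW) := [.edge ⟨[nat_lit 18, nat_lit 66], [nat_lit 79, nat_lit 55], ⟨[nat_lit 0xb244f634b0a4ea7428d175d6324820], [nat_lit 173056, nat_lit 168448, nat_lit 166144, nat_lit 163712, nat_lit 159360, nat_lit 153760, nat_lit 147968, nat_lit 146664, nat_lit 141936, nat_lit 135856, nat_lit 133433, nat_lit 2, nat_lit 8680, nat_lit 12304, nat_lit 22336, nat_lit 29440, nat_lit 41608, nat_lit 37255, nat_lit 33408, nat_lit 28749, nat_lit 24583, nat_lit 20511, nat_lit 16399, nat_lit 12304, nat_lit 8195, nat_lit 4100, nat_lit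 2]⟩⟩ ⟨(nat_lit 2), ⟨[nat_lit 43, nat_lit 46], [], (nat_lit 104), ⟨[nat_lit 0, nat_lit 24, nat_lit 51], [nat_lit 11, nat_lit 62], ⟨[nat_lit 0x938a283c83b46696550d598f7a2801], [nat_lit 174080, nat_lit 171008, nat_lit 167424, nat_lit 161664, nat_lit 158208, nat_lit 155168, nat_lit 148880, nat_lit 146048, nat_lit 141056, nat_lit 136672, nat_lit 132275, nat_lit 2, nat_lit 5992, nat_lit 9224, nat_lit 14144, nat_lit 18208, nat_lit 21312, nat_lit 25344, nat_lit 30464, nat_lit 37888, nat_lit 41064, nat_lit 37144, nat_lit 32935, nat_lit 28701, nat_lit 25608, nat_lit 20484, nat_lit 16399, nat_lit 8210, nat_lit 4097, nat_lit 2]⟩⟩⟩, ⟨[nat_lit 19, nat_lit 12, nat_lit 19, nat_lit 17, nat_lit 12], [], (nat_lit 128), ⟨[nat_lit 0, nat_lit 37, nat_lit 50], [nat_lit 24, nat_lit 93], ⟨[nat_lit 0x5c86e1315389ed04168969aaf25c01], [nat_lit 173056, nat_lit 166144, nat_lit 161024, nat_lit 157568, nat_lit 154624, nat_lit 150528, nat_lit 146336,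 nat_lit 142984, nat_lit 137476, nat_lit 132556, nat_lit 2, nat_lit 4112, nat_lit 9328, nat_lit 13632, nat_lit 16928, nat_lit 20928, nat_lit 26112, nat_lit 29184, nat_lit 37888, nat_lit 41982, nat_lit 37135, nat_lit 32920, nat_lit 28767, nat_lit 24764, nat_lit 20506, nat_lit 16390, nat_lit 12294, nat_lit 8203, nat_lit 4105, nat_lit 2]⟩⟩⟩⟩,
  .edge ⟨[nat_lit 0, nat_lit 21, nat_lit 93], [nat_lit 84, nat_lit 89], ⟨[nat_lit 0x7d08a8ca6269eab7592545d8680c01], [nat_lit 173056, nat_lit 168960, nat_lit 164352, nat_lit 159872, nat_lit 156480, nat_lit 147536, nat_lit 144184, nat_lit 140124, nat_lit 135932, nat_lit 131683, nat_lit 2, nat_lit 8200, nat_lit 12352, nat_lit 17152, nat_lit 22016, nat_lit 29696, nat_lit 33792, nat_lit 41279, nat_lit 36933, nat_lit 33983, nat_lit 28982, nat_lit 24588, nat_lit 20615, nat_lit 16417, nat_lit 12356, nat_lit 8256, nat_lit 4097, nat_lit 2]⟩⟩ ⟨(nat_lit 2), ⟨[nat_lit 69, nat_lit 71, nat_lit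 65, nat_lit 65], [nat_lit 73, nat_lit 71, nat_lit 66, nat_lit 65], (nat_lit 149), ⟨[nat_lit 18, nat_lit 51], [nat_lit 0, nat_lit 4, nat_lit 63], ⟨[nat_lit 0x488d73d10323e65ac9b65418b74420], [nat_lit 173056, nat_lit 169472, nat_lit 160768, nat_lit 157376, nat_lit 154752, nat_lit 149296, nat_lit 143704, nat_lit 139360, nat_lit 136176, nat_lit 132215, nat_lit 32, nat_lit 4128, nat_lit 9648, nat_lit 12784, nat_lit 17376, nat_lit 21440, nat_lit 24960, nat_lit 30208, nat_lit 34304, nat_lit 37888, nat_lit 41888, nat_lit 38080, nat_lit 33449, nat_lit 28702, nat_lit 24632, nat_lit 20573, nat_lit 16450, nat_lit 12310, nat_lit 8200]⟩⟩⟩, ⟨[nat_lit 58, nat_lit 46, nat_lit 45, nat_lit 46, nat_lit 45], [], (nat_lit 110), ⟨[nat_lit 86, nat_lit 90], [nat_lit 24, nat_lit 62], ⟨[nat_lit 0x4b1b7255458511270a673446f5d820], [nat_lit 174080, nat_lit 169984, nat_lit 165632, nat_lit 163200, nat_lit 158912, nat_lit 155008, nat_lit 147632, nat_lit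 139620, nat_lit 137332, nat_lit 133439, nat_lit 2, nat_lit 5856, nat_lit 9928, nat_lit 13264, nat_lit 16960, nat_lit 20800, nat_lit 25984, nat_lit 28928, nat_lit 37888, nat_lit 41121, nat_lit 37232, nat_lit 33476, nat_lit 28941, nat_lit 25105, nat_lit 20494, nat_lit 16393, nat_lit 12291, nat_lit 8224, nat_lit 4097, nat_lit 2]⟩⟩⟩⟩]

theorem dcCr74 : D2.Rng dxC 74 76 := D2.Rng.of (l := dcCc74) (by decide +kernel)

def dcCc76 : List (D2.Cert TW) := [.edge ⟨[nat_lit 18, nat_lit 94], [nat_lit 76, nat_lit 64], ⟨[nat_lit 0x3c2a324682414ce929f365ae95b420], [nat_lit 170496, nat_lit 165632, nat_lit 161536, nat_lit 157568, nat_lit 152640, nat_lit 148656, nat_lit 144048, nat_lit 141168, nat_lit 136852, nat_lit 131152, nat_lit 512, nat_lit 4608, nat_lit 8680, nat_lit 13264, nat_lit 18400, nat_lit 22016, nat_lit 26496, nat_lit 28928, nat_lit 34304, nat_lit 41961, nat_lit 38345, nat_lit 33870, nat_lit 28749, nat_lit 24604, nat_lit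 20504, nat_lit 16398, nat_lit 12290, nat_lit 8193]⟩⟩ ⟨(nat_lit 1), ⟨[nat_lit 70, nat_lit 73, nat_lit 69, nat_lit 73], [], (nat_lit 150), ⟨[nat_lit 0, nat_lit 7, nat_lit 65], [nat_lit 7, nat_lit 70], ⟨[nat_lit 0x23a65441a9652f21997638aaa7c420], [nat_lit 168448, nat_lit 164864, nat_lit 160768, nat_lit 157888, nat_lit 151744, nat_lit 148576, nat_lit 144848, nat_lit 141228, nat_lit 136362, nat_lit 131921, nat_lit 64, nat_lit 4160, nat_lit 10112, nat_lit 14112, nat_lit 18240, nat_lit 22080, nat_lit 25088, nat_lit 29184, nat_lit 41924, nat_lit 37197, nat_lit 33428, nat_lit 28771, nat_lit 24582, nat_lit 20611, nat_lit 16387, nat_lit 8258]⟩⟩⟩, ⟨[nat_lit 44, nat_lit 59, nat_lit 58, nat_lit 58, nat_lit 58], [], (nat_lit 148), ⟨[nat_lit 0, nat_lit 17, nat_lit 93], [nat_lit 0, nat_lit 21, nat_lit 64], ⟨[nat_lit 0x1aa048de4c5a6ae9a0c2b34a77d020], [nat_lit 175104, nat_lit 168448, nat_lit 164096, nat_lit 160768, nat_lit 159168, nat_lit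 153984, nat_lit 149888, nat_lit 144400, nat_lit 143088, nat_lit 135392, nat_lit 133401, nat_lit 2, nat_lit 4128, nat_lit 9328, nat_lit 14144, nat_lit 18336, nat_lit 22272, nat_lit 26240, nat_lit 30464, nat_lit 33792, nat_lit 41976, nat_lit 37159, nat_lit 33364, nat_lit 28711, nat_lit 24890, nat_lit 20624, nat_lit 16429, nat_lit 12295, nat_lit 8195, nat_lit 4100, nat_lit 2]⟩⟩⟩⟩,
  .edge ⟨[nat_lit 89], [nat_lit 74, nat_lit 70], ⟨[nat_lit 0x8524878cd1625b770a67a9145b2c01], [nat_lit 173056, nat_lit 168960, nat_lit 165120, nat_lit 160000, nat_lit 155712, nat_lit 151584, nat_lit 149328, nat_lit 146832, nat_lit 139276, nat_lit 136622, nat_lit 131722, nat_lit 2, nat_lit 4104, nat_lit 10056, nat_lit 12976, nat_lit 16928, nat_lit 21504, nat_lit 26496, nat_lit 28928, nat_lit 33280, nat_lit 37888, nat_lit 41384, nat_lit 37272, nat_lit 33005, nat_lit 28713, nat_lit 24885, nat_lit 20625, nat_lit 16392, nat_lit 12291, nat_lit 8451,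 nat_lit 4097, nat_lit 2]⟩⟩ ⟨(nat_lit 2), ⟨[nat_lit 65, nat_lit 72, nat_lit 66, nat_lit 65], [], (nat_lit 150), ⟨[nat_lit 17, nat_lit 65], [nat_lit 85, nat_lit 49], ⟨[nat_lit 0x256e613983a1cb6549738a2096bc01], [nat_lit 175104, nat_lit 171520, nat_lit 166144, nat_lit 163712, nat_lit 156288, nat_lit 153664, nat_lit 149552, nat_lit 143456, nat_lit 142468, nat_lit 136828, nat_lit 131938, nat_lit 2, nat_lit 6068, nat_lit 8408, nat_lit 13344, nat_lit 16672, nat_lit 26368, nat_lit 29696, nat_lit 33280, nat_lit 41804, nat_lit 37094, nat_lit 33017, nat_lit 29045, nat_lit 24612, nat_lit 20552, nat_lit 16398, nat_lit 12305, nat_lit 4097, nat_lit 2]⟩⟩⟩, ⟨[nat_lit 59, nat_lit 62, nat_lit 58, nat_lit 45], [], (nat_lit 104), ⟨[nat_lit 0, nat_lit 8, nat_lit 62], [nat_lit 7, nat_lit 52], ⟨[nat_lit 0xb286c25674819cf40aed895693c801], [nat_lit 175104, nat_lit 170496, nat_lit 164352, nat_lit 161792, nat_lit 159168, nat_lit 155360, nat_lit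 149104, nat_lit 145384, nat_lit 139764, nat_lit 137858, nat_lit 133950, nat_lit 1760, nat_lit 5856, nat_lit 9368, nat_lit 14256, nat_lit 17280, nat_lit 21888, nat_lit 26240, nat_lit 29184, nat_lit 34304, nat_lit 37888, nat_lit 41827, nat_lit 36916, nat_lit 33014, nat_lit 28959, nat_lit 24579, nat_lit 20485, nat_lit 16651, nat_lit 12305, nat_lit 8203]⟩⟩⟩⟩]

theorem dcCr76 : D2.Rng dxC 76 78 := D2.Rng.of (l := dcCc76) (by decide +kernel)

def dcCc78 : List (D2.Cert TW) := [.edge ⟨[nat_lit 28, nat_lit 52], [nat_lit 0, nat_lit 4, nat_lit 93], ⟨[nat_lit 0x156977c4cb4960e4349391d4cb0c01], [nat_lit 171520, nat_lit 165120, nat_lit 155840, nat_lit 153440, nat_lit 147616, nat_lit 143808, nat_lit 140464, nat_lit 135804, nat_lit 131288, nat_lit 2, nat_lit 4608, nat_lit 9008, nat_lit 12976, nat_lit 16544, nat_lit 22016, nat_lit 26368, nat_lit 29440, nat_lit 33792, nat_lit 37888, nat_lit 41661, nat_lit 32973, nat_lit 28721, nat_lit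 24618, nat_lit 20557, nat_lit 16398, nat_lit 12291, nat_lit 8210, nat_lit 4097, nat_lit 2]⟩⟩ ⟨(nat_lit 2), ⟨[nat_lit 66, nat_lit 72, nat_lit 66, nat_lit 70, nat_lit 65], [], (nat_lit 150), ⟨[nat_lit 0, nat_lit 76, nat_lit 70], [nat_lit 37, nat_lit 60], ⟨[nat_lit 0x1454741472236e64d1cb832d3abc01], [nat_lit 173056, nat_lit 169472, nat_lit 162048, nat_lit 156736, nat_lit 151936, nat_lit 147712, nat_lit 143712, nat_lit 140904, nat_lit 135682, nat_lit 132235, nat_lit 2, nat_lit 4224, nat_lit 9504, nat_lit 12672, nat_lit 18112, nat_lit 22080, nat_lit 25472, nat_lit 29440, nat_lit 34304, nat_lit 37888, nat_lit 41438, nat_lit 37128, nat_lit 32922, nat_lit 28731, nat_lit 25630, nat_lit 20509, nat_lit 16416, nat_lit 12308, nat_lit 8209, nat_lit 4097, nat_lit 2]⟩⟩⟩, ⟨[nat_lit 62, nat_lit 44, nat_lit 58, nat_lit 63, nat_lit 62], [], (nat_lit 148), ⟨[nat_lit 0, nat_lit 76, nat_lit 70], [nat_lit 32, nat_lit 91], ⟨[nat_lit 0x94d0ca556f146e6b0cb051c8d72420],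 [nat_lit 175104, nat_lit 171520, nat_lit 165120, nat_lit 162816, nat_lit 158656, nat_lit 154336, nat_lit 147936, nat_lit 144544, nat_lit 139928, nat_lit 138816, nat_lit 133869, nat_lit 2, nat_lit 5856, nat_lit 9664, nat_lit 12464, nat_lit 17536, nat_lit 20928, nat_lit 25600, nat_lit 29440, nat_lit 33280, nat_lit 41228, nat_lit 37291, nat_lit 32865, nat_lit 28721, nat_lit 24633, nat_lit 20566, nat_lit 16398, nat_lit 12307, nat_lit 8195, nat_lit 4097, nat_lit 2]⟩⟩⟩⟩,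
  .edge ⟨[nat_lit 37, nat_lit 65], [nat_lit 76, nat_lit 47], ⟨[nat_lit 0x2a632989d651af42310f836a33ac01], [nat_lit 168448, nat_lit 165120, nat_lit 160512, nat_lit 156672, nat_lit 152896, nat_lit 148112, nat_lit 143400, nat_lit 142188, nat_lit 135224, nat_lit 132582, nat_lit 2, nat_lit 4100, nat_lit 9168, nat_lit 13456, nat_lit 17536, nat_lit 20800, nat_lit 26368, nat_lit 30464, nat_lit 33280, nat_lit 37888, nat_lit 41455, nat_lit 37232, nat_lit 33308, nat_lit 28789, nat_lit 24619, nat_lit 20575, nat_lit 16424, nat_lit 12289, nat_lit 8210, nat_lit 4097, nat_lit 2]⟩⟩ ⟨(nat_lit 2), ⟨[nat_lit 66, nat_lit 72, nat_lit 69, nat_lit 66, nat_lit 65], [], (nat_lit 150), ⟨[nat_lit 3, nat_lit 48], [nat_lit 0, nat_lit 78, nat_lit 53], ⟨[nat_lit 0x84497a15ed14dcb549834d4c83d801], [nat_lit 173056, nat_lit 165120, nat_lit 162688, nat_lit 157376, nat_lit 152192, nat_lit 147728, nat_lit 144384, nat_lit 139272, nat_lit 136218, nat_lit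 131651, nat_lit 2, nat_lit 4224, nat_lit 9888, nat_lit 12976, nat_lit 17216, nat_lit 22272, nat_lit 26496, nat_lit 29696, nat_lit 33792, nat_lit 37888, nat_lit 41697, nat_lit 36888, nat_lit 33016, nat_lit 24839, nat_lit 20552, nat_lit 16423, nat_lit 12293, nat_lit 8202, nat_lit 4097, nat_lit 2]⟩⟩⟩, ⟨[nat_lit 59, nat_lit 59, nat_lit 58, nat_lit 46, nat_lit 60, nat_lit 43], [], (nat_lit 148), ⟨[nat_lit 86, nat_lit 48], [nat_lit 0, nat_lit 68], ⟨[nat_lit 0x63a682584f29d71556176d0c392420], [nat_lit 171520, nat_lit 165376, nat_lit 163200, nat_lit 156544, nat_lit 154464, nat_lit 149680, nat_lit 145704, nat_lit 139680, nat_lit 136124, nat_lit 134627, nat_lit 2, nat_lit 10104, nat_lit 12976, nat_lit 17056, nat_lit 22080, nat_lit 25728, nat_lit 30208, nat_lit 33280, nat_lit 41195, nat_lit 37191, nat_lit 32788, nat_lit 29792, nat_lit 25140, nat_lit 20568, nat_lit 16387, nat_lit 12291, nat_lit 8193, nat_lit 4104, nat_lit 2]⟩⟩⟩⟩]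

theorem dcCr78 : D2.Rng dxC 78 80 := D2.Rng.of (l := dcCc78) (by decide +kernel)

def dcCc80 : List (D2.Cert TW) := [.stab (nat_lit 148) tw0 ⟨(nat_lit 0), ⟨[nat_lit 45, nat_lit 58, nat_lit 59, nat_lit 43, nat_lit 62, nat_lit 61, nat_lit 61, nat_lit 43], [], (nat_lit 148), ⟨[nat_lit 3, nat_lit 62], [nat_lit 0, nat_lit 74], ⟨[nat_lit 0x9d954708d77c1a81b0952acf28a401], [nat_lit 169472, nat_lit 164096, nat_lit 160000, nat_lit 157312, nat_lit 152192, nat_lit 147728, nat_lit 144840, nat_lit 143084, nat_lit 136460, nat_lit 132830, nat_lit 2, nat_lit 4100, nat_lit 9664, nat_lit 13136, nat_lit 17504, nat_lit 21952, nat_lit 25984, nat_lit 29184, nat_lit 33280, nat_lit 37888, nat_lit 41610, nat_lit 38094, nat_lit 32869, nat_lit 29763, nat_lit 24599, nat_lit 20484, nat_lit 16451, nat_lit 12421, nat_lit 8194, nat_lit 4097, nat_lit 2]⟩⟩⟩, ⟨[], [], nat_lit 0, tw0⟩⟩,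
  .prod [] [nat_lit 65, nat_lit 80, nat_lit 80, nat_lit 65],
  .prod [] [nat_lit 68, nat_lit 67, nat_lit 80, nat_lit 65],
  .prod [] [nat_lit 81, nat_lit 66, nat_lit 68, nat_lit 82],
  .prod [] [nat_lit 83, nat_lit 67, nat_lit 68, nat_lit 65],
  .prod [] [nat_lit 65, nat_lit 67, nat_lit 65, nat_lit 66]]

theorem dcCr80 : D2.Rng dxC 80 86 := D2.Rng.of (l := dcCc80) (by decide +kernel)

def dcCc86 : List (D2.Cert TW) := [.edge tw0 ⟨(nat_lit 0), ⟨[], [], (nat_lit 23), tw0⟩, ⟨[], [], nat_lit 0, tw0⟩⟩,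
  .edge tw0 ⟨(nat_lit 0), ⟨[nat_lit 15, nat_lit 18], [nat_lit 15, nat_lit 18], (nat_lit 63), tw0⟩, ⟨[], [], nat_lit 0, tw0⟩⟩,
  .prod [] [nat_lit 9, nat_lit 8, nat_lit 5, nat_lit 3, nat_lit 5],
  .prod [] [nat_lit 6, nat_lit 6, nat_lit 2, nat_lit 9, nat_lit 3],
  .prod [] [nat_lit 1, nat_lit 8, nat_lit 7, nat_lit 1, nat_lit 7],
  .prod [] [nat_lit 6, nat_lit 6, nat_lit 3, nat_lit 9, nat_lit 2]]

theorem dcCr86 : D2.Rng dxC 86 92 := D2.Rng.of (l := dcCc86) (by decide +kernel)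

def dcCc92 : List (D2.Cert TW) := [.prod [] [nat_lit 5, nat_lit 3, nat_lit 7, nat_lit 2, nat_lit 5],
  .prod [] [nat_lit 15, nat_lit 20, nat_lit 13, nat_lit 20, nat_lit 20],
  .prod [] [nat_lit 13, nat_lit 14, nat_lit 18, nat_lit 12, nat_lit 19],
  .prod [] [nat_lit 13, nat_lit 15, nat_lit 19, nat_lit 20, nat_lit 21],
  .prod [] [nat_lit 13, nat_lit 14, nat_lit 12, nat_lit 21, nat_lit 18],
  .prod [] [nat_lit 17, nat_lit 15, nat_lit 12, nat_lit 21, nat_lit 17],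
  .prod [] [nat_lit 26, nat_lit 40, nat_lit 38, nat_lit 36, nat_lit 36],
  .prod [] [nat_lit 40, nat_lit 25, nat_lit 38, nat_lit 25, nat_lit 28]]

theorem dcCr92 : D2.Rng dxC 92 100 := D2.Rng.of (l := dcCc92) (by decide +kernel)

def dcCc100 : List (D2.Cert TW) := [.prod [] [nat_lit 38, nat_lit 40, nat_lit 36, nat_lit 38, nat_lit 36],
  .prod [] [nat_lit 27, nat_lit 36, nat_lit 25, nat_lit 37, nat_lit 35],
  .prod [] [nat_lit 40, nat_lit 39, nat_lit 27, nat_lit 40, nat_lit 27],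
  .prod [] [nat_lit 59, nat_lit 62, nat_lit 60, nat_lit 62, nat_lit 63],
  .prod [] [nat_lit 60, nat_lit 45, nat_lit 45, nat_lit 46, nat_lit 63],
  .prod [] [nat_lit 44, nat_lit 61, nat_lit 45, nat_lit 60, nat_lit 58],
  .prod [] [nat_lit 59, nat_lit 46, nat_lit 60, nat_lit 63, nat_lit 61],
  .prod [] [nat_lit 46, nat_lit 46, nat_lit 46, nat_lit 59, nat_lit 63]]

theorem dcCr100 : D2.Rng dxC 100 108 := D2.Rng.of (l := dcCc100) (by decide +kernel)

def dcCc108 : List (D2.Cert TW) := [.prod [] [nat_lit 67, nat_lit 80, nat_lit 82, nat_lit 65, nat_lit 85],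
  .prod [] [nat_lit 66, nat_lit 80, nat_lit 67, nat_lit 84, nat_lit 66],
  .prod [] [nat_lit 66, nat_lit 66, nat_lit 66, nat_lit 82, nat_lit 82],
  .prod [] [nat_lit 85, nat_lit 83, nat_lit 83, nat_lit 66, nat_lit 85],
  .prod [] [nat_lit 85, nat_lit 83, nat_lit 84, nat_lit 81, nat_lit 81]]

theorem dcCr108 : D2.Rng dxC 108 113 := D2.Rng.of (l := dcCc108) (by decide +kernel)

theorem dcCR0 : D2.Rng dxC 0 113 := (dcCr0.trans (dcCr13.trans (dcCr16.trans (dcCr23.trans (dcCr26.trans (dcCr29.trans (dcCr33.trans (dcCr35.trans (dcCr41.trans (dcCr44.trans (dcCr47.trans (dcCr52.trans (dcCr54.trans (dcCr56.trans (dcCr58.trans (dcCr65.trans (dcCr68.trans (dcCr74.trans (dcCr76.trans (dcCr78.trans (dcCr80.trans (dcCr86.trans (dcCr92.trans (dcCr100.trans dcCr108))))))))))))))))))))))))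

end

end CF.Mon
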