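import Cfsg.Agent.Mon.DcGE0
import Cfsg.Agent.Mon.YG

set_option autoImplicit false
set_option maxRecDepth 100000

namespace CF.Mon

open CF.Comp

noncomputable section

def dcGE : BT El := (BT.node (nat_lit 56) (BT.node (nat_lit 24) (BT.node (nat_lit 8) dcGE0 (BT.node (nat_lit 16) dcGE1 dcGE2)) (BT.node (nat_lit 40) (BT.node (nat_lit 32) dcGE3 dcGE4) (BT.node (nat_lit 48) dcGE5 dcGE6))) (BT.node (nat_lit 88) (BT.node (nat_lit 72) (BT.node (nat_lit 64) dcGE7 dcGE8) (BT.node (nat_lit 80) dcGE9 dcGE10)) (BT.node (nat_lit 104) (BT.node (nat_lit 96) dcGE11 dcGE12) (BT.node (nat_lit 112) dcGE13 dcGE14))))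

theorem dcGE_ok : dcGE.all (elB (nat_lit 12288)) = true := (BT.all_node (BT.all_node (BT.all_node dcGE0_ok (BT.all_node dcGE1_ok dcGE2_ok)) (BT.all_node (BT.all_node dcGE3_ok dcGE4_ok) (BT.all_node dcGE5_ok dcGE6_ok))) (BT.all_node (BT.all_node (BT.all_node dcGE7_ok dcGE8_ok) (BT.all_node dcGE9_ok dcGE10_ok)) (BT.all_node (BT.all_node dcGE11_ok dcGE12_ok) (BT.all_node dcGE13_ok dcGE14_ok))))

def dcGF : BT Fact := (.node (nat_lit 49) (.node (nat_lit 24) (.node (nat_lit 12) (.node (nat_lit 6) (.node (nat_lit 3) (.node (nat_lit 1) (.leaf ⟨(nat_lit 0), (nat_lit 0), (nat_lit 1), (nat_lit 0), (nat_lit 0)⟩)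
 (.node (nat_lit 2) (.leaf ⟨(nat_lit 0), (nat_lit 0), (nat_lit 2), (nat_lit 0), (nat_lit 0)⟩)
 (.leaf ⟨(nat_lit 0), (nat_lit 0), (nat_lit 3), (nat_lit 0), (nat_lit 0)⟩)))
 (.node (nat_lit 4) (.leaf ⟨(nat_lit 0), (nat_lit 0), (nat_lit 4), (nat_lit 0), (nat_lit 0)⟩)
 (.node (nat_lit 5) (.leaf ⟨(nat_lit 0), (nat_lit 0), (nat_lit 5), (nat_lit 0), (nat_lit 0)⟩)
 (.leaf ⟨(nat_lit 0), (nat_lit 0), (nat_lit 6), (nat_lit 0), (nat_lit 0)⟩))))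
 (.node (nat_lit 9) (.node (nat_lit 7) (.leaf ⟨(nat_lit 0), (nat_lit 0), (nat_lit 7), (nat_lit 0), (nat_lit 0)⟩)
 (.node (nat_lit 8) (.leaf ⟨(nat_lit 0), (nat_lit 0), (nat_lit 8), (nat_lit 0), (nat_lit 0)⟩)
 (.leaf ⟨(nat_lit 0), (nat_lit 0), (nat_lit 9), (nat_lit 0), (nat_lit 0)⟩)))
 (.node (nat_lit 10) (.leaf ⟨(nat_lit 0), (nat_lit 0), (nat_lit 10), (nat_lit 0), (nat_lit 0)⟩)
 (.node (nat_lit 11) (.leaf ⟨(nat_lit 1), (nat_lit 0), (nat_lit 11), (nat_lit 1), (nat_lit 0)⟩)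
 (.leaf ⟨(nat_lit 0), (nat_lit 1), (nat_lit 12), (nat_lit 0), (nat_lit 0)⟩)))))
 (.node (nat_lit 18) (.node (nat_lit 15) (.node (nat_lit 13) (.leaf ⟨(nat_lit 0), (nat_lit 1), (nat_lit 13), (nat_lit 0), (nat_lit 0)⟩)
 (.node (nat_lit 14) (.leaf ⟨(nat_lit 0), (nat_lit 1), (nat_lit 14), (nat_lit 0), (nat_lit 0)⟩)
 (.leaf ⟨(nat_lit 0), (nat_lit 1), (nat_lit 15), (nat_lit 0), (nat_lit 0)⟩)))
 (.node (nat_lit 16) (.leaf ⟨(nat_lit 0), (nat_lit 1), (nat_lit 16), (nat_lit 0), (nat_lit 0)⟩)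
 (.node (nat_lit 17) (.leaf ⟨(nat_lit 0), (nat_lit 1), (nat_lit 17), (nat_lit 0), (nat_lit 0)⟩)
 (.leaf ⟨(nat_lit 0), (nat_lit 1), (nat_lit 18), (nat_lit 0), (nat_lit 0)⟩))))
 (.node (nat_lit 21) (.node (nat_lit 19) (.leaf ⟨(nat_lit 0), (nat_lit 1), (nat_lit 19), (nat_lit 0), (nat_lit 0)⟩)
 (.node (nat_lit 20) (.leaf ⟨(nat_lit 0), (nat_lit 1), (nat_lit 20), (nat_lit 0), (nat_lit 0)⟩)
 (.leaf ⟨(nat_lit 0), (nat_lit 1), (nat_lit 21), (nat_lit 0), (nat_lit 0)⟩)))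
 (.node (nat_lit 22) (.leaf ⟨(nat_lit 1), (nat_lit 1), (nat_lit 22), (nat_lit 1), (nat_lit 23)⟩)
 (.node (nat_lit 23) (.leaf ⟨(nat_lit 1), (nat_lit 1), (nat_lit 24), (nat_lit 1), (nat_lit 25)⟩)
 (.leaf ⟨(nat_lit 1), (nat_lit 1), (nat_lit 26), (nat_lit 2), (nat_lit 0)⟩))))))
 (.node (nat_lit 36) (.node (nat_lit 30) (.node (nat_lit 27) (.node (nat_lit 25) (.leaf ⟨(nat_lit 0), (nat_lit 2), (nat_lit 27), (nat_lit 0), (nat_lit 0)⟩)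
 (.node (nat_lit 26) (.leaf ⟨(nat_lit 0), (nat_lit 2), (nat_lit 28), (nat_lit 0), (nat_lit 0)⟩)
 (.leaf ⟨(nat_lit 0), (nat_lit 2), (nat_lit 29), (nat_lit 0), (nat_lit 0)⟩)))
 (.node (nat_lit 28) (.leaf ⟨(nat_lit 0), (nat_lit 2), (nat_lit 30), (nat_lit 0), (nat_lit 0)⟩)
 (.node (nat_lit 29) (.leaf ⟨(nat_lit 1), (nat_lit 2), (nat_lit 31), (nat_lit 1), (nat_lit 32)⟩)
 (.leaf ⟨(nat_lit 0), (nat_lit 2), (nat_lit 33), (nat_lit 0), (nat_lit 0)⟩))))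
 (.node (nat_lit 33) (.node (nat_lit 31) (.leaf ⟨(nat_lit 0), (nat_lit 2), (nat_lit 34), (nat_lit 0), (nat_lit 0)⟩)
 (.node (nat_lit 32) (.leaf ⟨(nat_lit 0), (nat_lit 2), (nat_lit 35), (nat_lit 0), (nat_lit 0)⟩)
 (.leaf ⟨(nat_lit 0), (nat_lit 2), (nat_lit 36), (nat_lit 0), (nat_lit 0)⟩)))
 (.node (nat_lit 34) (.leaf ⟨(nat_lit 0), (nat_lit 2), (nat_lit 37), (nat_lit 0), (nat_lit 0)⟩)
 (.node (nat_lit 35) (.leaf ⟨(nat_lit 0), (nat_lit 2), (nat_lit 38), (nat_lit 0), (nat_lit 0)⟩)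
 (.leaf ⟨(nat_lit 1), (nat_lit 1), (nat_lit 39), (nat_lit 1), (nat_lit 40)⟩)))))
 (.node (nat_lit 42) (.node (nat_lit 39) (.node (nat_lit 37) (.leaf ⟨(nat_lit 1), (nat_lit 1), (nat_lit 41), (nat_lit 3), (nat_lit 0)⟩)
 (.node (nat_lit 38) (.leaf ⟨(nat_lit 0), (nat_lit 3), (nat_lit 42), (nat_lit 0), (nat_lit 0)⟩)
 (.leaf ⟨(nat_lit 0), (nat_lit 3), (nat_lit 43), (nat_lit 0), (nat_lit 0)⟩)))
 (.node (nat_lit 40) (.leaf ⟨(nat_lit 0), (nat_lit 3), (nat_lit 44), (nat_lit 0), (nat_lit 0)⟩)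
 (.node (nat_lit 41) (.leaf ⟨(nat_lit 0), (nat_lit 3), (nat_lit 45), (nat_lit 0), (nat_lit 0)⟩)
 (.leaf ⟨(nat_lit 1), (nat_lit 3), (nat_lit 46), (nat_lit 1), (nat_lit 47)⟩))))
 (.node (nat_lit 45) (.node (nat_lit 43) (.leaf ⟨(nat_lit 1), (nat_lit 3), (nat_lit 48), (nat_lit 3), (nat_lit 49)⟩)
 (.node (nat_lit 44) (.leaf ⟨(nat_lit 1), (nat_lit 3), (nat_lit 50), (nat_lit 1), (nat_lit 51)⟩)
 (.leaf ⟨(nat_lit 1), (nat_lit 3), (nat_lit 52), (nat_lit 1), (nat_lit 53)⟩)))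
 (.node (nat_lit 47) (.node (nat_lit 46) (.leaf ⟨(nat_lit 0), (nat_lit 3), (nat_lit 54), (nat_lit 0), (nat_lit 0)⟩)
 (.leaf ⟨(nat_lit 0), (nat_lit 3), (nat_lit 55), (nat_lit 0), (nat_lit 0)⟩))
 (.node (nat_lit 48) (.leaf ⟨(nat_lit 0), (nat_lit 3), (nat_lit 56), (nat_lit 0), (nat_lit 0)⟩)
 (.leaf ⟨(nat_lit 0), (nat_lit 3), (nat_lit 57), (nat_lit 0), (nat_lit 0)⟩)))))))
 (.node (nat_lit 74) (.node (nat_lit 61) (.node (nat_lit 55) (.node (nat_lit 52) (.node (nat_lit 50) (.leaf ⟨(nat_lit 0), (nat_lit 3), (nat_lit 58), (nat_lit 0), (nat_lit 0)⟩)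
 (.node (nat_lit 51) (.leaf ⟨(nat_lit 0), (nat_lit 3), (nat_lit 59), (nat_lit 0), (nat_lit 0)⟩)
 (.leaf ⟨(nat_lit 1), (nat_lit 1), (nat_lit 60), (nat_lit 4), (nat_lit 0)⟩)))
 (.node (nat_lit 53) (.leaf ⟨(nat_lit 0), (nat_lit 4), (nat_lit 61), (nat_lit 0), (nat_lit 0)⟩)
 (.node (nat_lit 54) (.leaf ⟨(nat_lit 0), (nat_lit 4), (nat_lit 62), (nat_lit 0), (nat_lit 0)⟩)
 (.leaf ⟨(nat_lit 0), (nat_lit 4), (nat_lit 63), (nat_lit 0), (nat_lit 0)⟩))))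
 (.node (nat_lit 58) (.node (nat_lit 56) (.leaf ⟨(nat_lit 0), (nat_lit 4), (nat_lit 64), (nat_lit 0), (nat_lit 0)⟩)
 (.node (nat_lit 57) (.leaf ⟨(nat_lit 0), (nat_lit 4), (nat_lit 65), (nat_lit 0), (nat_lit 0)⟩)
 (.leaf ⟨(nat_lit 0), (nat_lit 4), (nat_lit 66), (nat_lit 0), (nat_lit 0)⟩)))
 (.node (nat_lit 59) (.leaf ⟨(nat_lit 0), (nat_lit 4), (nat_lit 67), (nat_lit 0), (nat_lit 0)⟩)
 (.node (nat_lit 60) (.leaf ⟨(nat_lit 0), (nat_lit 4), (nat_lit 68), (nat_lit 0), (nat_lit 0)⟩)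
 (.leaf ⟨(nat_lit 0), (nat_lit 4), (nat_lit 69), (nat_lit 0), (nat_lit 0)⟩)))))
 (.node (nat_lit 67) (.node (nat_lit 64) (.node (nat_lit 62) (.leaf ⟨(nat_lit 1), (nat_lit 3), (nat_lit 70), (nat_lit 4), (nat_lit 71)⟩)
 (.node (nat_lit 63) (.leaf ⟨(nat_lit 1), (nat_lit 4), (nat_lit 72), (nat_lit 3), (nat_lit 73)⟩)
 (.leaf ⟨(nat_lit 1), (nat_lit 4), (nat_lit 74), (nat_lit 4), (nat_lit 75)⟩)))
 (.node (nat_lit 65) (.leaf ⟨(nat_lit 1), (nat_lit 4), (nat_lit 76), (nat_lit 4), (nat_lit 77)⟩)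
 (.node (nat_lit 66) (.leaf ⟨(nat_lit 1), (nat_lit 4), (nat_lit 78), (nat_lit 3), (nat_lit 79)⟩)
 (.leaf ⟨(nat_lit 1), (nat_lit 4), (nat_lit 80), (nat_lit 1), (nat_lit 81)⟩))))
 (.node (nat_lit 70) (.node (nat_lit 68) (.leaf ⟨(nat_lit 0), (nat_lit 4), (nat_lit 82), (nat_lit 0), (nat_lit 0)⟩)
 (.node (nat_lit 69) (.leaf ⟨(nat_lit 0), (nat_lit 4), (nat_lit 83), (nat_lit 0), (nat_lit 0)⟩)
 (.leaf ⟨(nat_lit 0), (nat_lit 4), (nat_lit 84), (nat_lit 0), (nat_lit 0)⟩)))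
 (.node (nat_lit 72) (.node (nat_lit 71) (.leaf ⟨(nat_lit 0), (nat_lit 4), (nat_lit 85), (nat_lit 0), (nat_lit 0)⟩)
 (.leaf ⟨(nat_lit 0), (nat_lit 4), (nat_lit 86), (nat_lit 0), (nat_lit 0)⟩))
 (.node (nat_lit 73) (.leaf ⟨(nat_lit 0), (nat_lit 4), (nat_lit 87), (nat_lit 0), (nat_lit 0)⟩)
 (.leaf ⟨(nat_lit 1), (nat_lit 1), (nat_lit 88), (nat_lit 0), (nat_lit 89)⟩))))))
 (.node (nat_lit 86) (.node (nat_lit 80) (.node (nat_lit 77) (.node (nat_lit 75) (.leaf ⟨(nat_lit 0), (nat_lit 0), (nat_lit 90), (nat_lit 0), (nat_lit 0)⟩)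
 (.node (nat_lit 76) (.leaf ⟨(nat_lit 0), (nat_lit 0), (nat_lit 91), (nat_lit 0), (nat_lit 0)⟩)
 (.leaf ⟨(nat_lit 0), (nat_lit 0), (nat_lit 92), (nat_lit 0), (nat_lit 0)⟩)))
 (.node (nat_lit 78) (.leaf ⟨(nat_lit 0), (nat_lit 0), (nat_lit 93), (nat_lit 0), (nat_lit 0)⟩)
 (.node (nat_lit 79) (.leaf ⟨(nat_lit 0), (nat_lit 0), (nat_lit 94), (nat_lit 0), (nat_lit 0)⟩)
 (.leaf ⟨(nat_lit 0), (nat_lit 1), (nat_lit 95), (nat_lit 0), (nat_lit 0)⟩))))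
 (.node (nat_lit 83) (.node (nat_lit 81) (.leaf ⟨(nat_lit 0), (nat_lit 1), (nat_lit 96), (nat_lit 0), (nat_lit 0)⟩)
 (.node (nat_lit 82) (.leaf ⟨(nat_lit 0), (nat_lit 1), (nat_lit 97), (nat_lit 0), (nat_lit 0)⟩)
 (.leaf ⟨(nat_lit 0), (nat_lit 1), (nat_lit 98), (nat_lit 0), (nat_lit 0)⟩)))
 (.node (nat_lit 84) (.leaf ⟨(nat_lit 0), (nat_lit 1), (nat_lit 99), (nat_lit 0), (nat_lit 0)⟩)
 (.node (nat_lit 85) (.leaf ⟨(nat_lit 0), (nat_lit 2), (nat_lit 100), (nat_lit 0), (nat_lit 0)⟩)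
 (.leaf ⟨(nat_lit 0), (nat_lit 2), (nat_lit 101), (nat_lit 0), (nat_lit 0)⟩)))))
 (.node (nat_lit 92) (.node (nat_lit 89) (.node (nat_lit 87) (.leaf ⟨(nat_lit 0), (nat_lit 2), (nat_lit 102), (nat_lit 0), (nat_lit 0)⟩)
 (.node (nat_lit 88) (.leaf ⟨(nat_lit 0), (nat_lit 2), (nat_lit 103), (nat_lit 0), (nat_lit 0)⟩)
 (.leaf ⟨(nat_lit 0), (nat_lit 2), (nat_lit 104), (nat_lit 0), (nat_lit 0)⟩)))
 (.node (nat_lit 90) (.leaf ⟨(nat_lit 0), (nat_lit 3), (nat_lit 105), (nat_lit 0), (nat_lit 0)⟩)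
 (.node (nat_lit 91) (.leaf ⟨(nat_lit 0), (nat_lit 3), (nat_lit 106), (nat_lit 0), (nat_lit 0)⟩)
 (.leaf ⟨(nat_lit 0), (nat_lit 3), (nat_lit 107), (nat_lit 0), (nat_lit 0)⟩))))
 (.node (nat_lit 95) (.node (nat_lit 93) (.leaf ⟨(nat_lit 0), (nat_lit 3), (nat_lit 108), (nat_lit 0), (nat_lit 0)⟩)
 (.node (nat_lit 94) (.leaf ⟨(nat_lit 0), (nat_lit 3), (nat_lit 109), (nat_lit 0), (nat_lit 0)⟩)
 (.leaf ⟨(nat_lit 0), (nat_lit 4), (nat_lit 110), (nat_lit 0), (nat_lit 0)⟩)))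
 (.node (nat_lit 97) (.node (nat_lit 96) (.leaf ⟨(nat_lit 0), (nat_lit 4), (nat_lit 111), (nat_lit 0), (nat_lit 0)⟩)
 (.leaf ⟨(nat_lit 0), (nat_lit 4), (nat_lit 112), (nat_lit 0), (nat_lit 0)⟩))
 (.node (nat_lit 98) (.leaf ⟨(nat_lit 0), (nat_lit 4), (nat_lit 113), (nat_lit 0), (nat_lit 0)⟩)
 (.leaf ⟨(nat_lit 0), (nat_lit 4), (nat_lit 114), (nat_lit 0), (nat_lit 0)⟩))))))))

def dcG : Ctx := ⟨dcGE, dcGF, [(nat_lit 0, nat_lit 0), (nat_lit 0, nat_lit 11), (nat_lit 1, nat_lit 26), (nat_lit 1, nat_lit 41), (nat_lit 1, nat_lit 60)], nat_lit 12288, false⟩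

def dcGs : El := ⟨[nat_lit 0x342cd938b440d2b9b09789df550820], [nat_lit 175104, nat_lit 171008, nat_lit 165888, nat_lit 163712, nat_lit 155776, nat_lit 155168, nat_lit 150256, nat_lit 145208, nat_lit 141928, nat_lit 137198, nat_lit 131139, nat_lit 1972, nat_lit 6068, nat_lit 10000, nat_lit 12608, nat_lit 16864, nat_lit 21760, nat_lit 26240, nat_lit 30208, nat_lit 33280, nat_lit 37888, nat_lit 41451, nat_lit 37156, nat_lit 33473, nat_lit 28684, nat_lit 24865, nat_lit 20760, nat_lit 16426, nat_lit 12322, nat_lit 8203]⟩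

def dcGb : List (El × El) := [(bG1, ⟨[nat_lit 0xb12bb8bb1c8236211028b3c9e39d55035925, nat_lit 0xf963c064dee8b6121a6a5b10483aa8009977, nat_lit 0x50fa6a9a9cdb8c8f59cd065825101114d654], [nat_lit 65536, nat_lit 69632, nat_lit 73728, nat_lit 86016, nat_lit 90112, nat_lit 102400, nat_lit 110592, nat_lit 168448, nat_lit 167424, nat_lit 162176, nat_lit 158400, nat_lit 154912, nat_lit 150912, nat_lit 147168, nat_lit 139576, nat_lit 138258, nat_lit 132495, nat_lit 3034, nat_lit 4100, nat_lit 9720, nat_lit 15312, nat_lit 20000, nat_lit 25088, nat_lit 30208, nat_lit 34304, nat_lit 38912, nat_lit 43008, nat_lit 46130, nat_lit 43546, nat_lit 37931, nat_lit 32807, nat_lit 28745, nat_lit 24723, nat_lit 20762, nat_lit 16391, nat_lit 12295, nat_lit 8200, nat_lit 4100, nat_lit 2, nat_lit 425991, nat_lit 417797, nat_lit 405504, nat_lit 155776, nat_lit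 143392, nat_lit 131176, nat_lit 45352, nat_lit 41056, nat_lit 36936, nat_lit 16385, nat_lit 8193, nat_lit 4097, nat_lit 327680]⟩),
  (bG2, ⟨[nat_lit 0xb21ed8bdab49ca307b9ac5a928398a418820], [nat_lit 65536, nat_lit 69632, nat_lit 73728, nat_lit 81920, nat_lit 94208, nat_lit 102400, nat_lit 106496, nat_lit 160768, nat_lit 158848, nat_lit 152480, nat_lit 150784, nat_lit 145008, nat_lit 140308, nat_lit 137804, nat_lit 131354, nat_lit 14336, nat_lit 18432, nat_lit 22528, nat_lit 38912, nat_lit 43008, nat_lit 327680]⟩)]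

def dxG : D2.Cx (El × El) := ⟨dcG, D2.thG (nat_lit 12288) gG, [], [dcGs], lmap (fun b => ([dcGs, b.1], [b.1], [b.1, b.2])) dcGb⟩

def dcGgi : List (List ℕ) := [[nat_lit 74, nat_lit 75, nat_lit 76, nat_lit 77, nat_lit 78],
  [nat_lit 79, nat_lit 80, nat_lit 81, nat_lit 82, nat_lit 83],
  [nat_lit 84, nat_lit 85, nat_lit 86, nat_lit 87, nat_lit 88],
  [nat_lit 89, nat_lit 90, nat_lit 91, nat_lit 92, nat_lit 93],
  [nat_lit 94, nat_lit 95, nat_lit 96, nat_lit 97, nat_lit 98]]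

def dcGri : List (List ℕ) := [[nat_lit 10],
  [nat_lit 73, nat_lit 51, nat_lit 36, nat_lit 22, nat_lit 21, nat_lit 35, nat_lit 23],
  [nat_lit 28],
  [nat_lit 41, nat_lit 42, nat_lit 61],
  [nat_lit 62, nat_lit 63, nat_lit 64, nat_lit 66]]

theorem dcG_out : allFrom (outB dcG (nat_lit 99) gensG repsG dcGgi dcGri) 0 5 = true := by
  decide +kernel

end

end CF.Mon
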