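import Cfsg.Agent.Mon.Elem

/-! Node data of a double coset enumeration. -/

set_option autoImplicit false
set_option maxRecDepth 100000

namespace CF.Mon

open CF.Comp

noncomputable section

def ndGg0_0 : El := ⟨[nat_lit 0x9caf3060606b2ca700d17725b554e5478a24, nat_lit 0x66353a11921512b49d9832c112b81d13b5eb, nat_lit 0x3aa0f668ab70a96e4d8d28458044e842bce3, nat_lit 0xcaaf092a4449dde63d1b2b55030adcc84540], [nat_lit 65536, nat_lit 69632, nat_lit 73728, nat_lit 81920, nat_lit 86016, nat_lit 90112, nat_lit 98304, nat_lit 106496, nat_lit 175104, nat_lit 170496, nat_lit 164864, nat_lit 162816, nat_lit 158336, nat_lit 154144, nat_lit 147840, nat_lit 144296, nat_lit 139868, nat_lit 135254, nat_lit 131205, nat_lit 3748, nat_lit 7844, nat_lit 8920, nat_lit 14400, nat_lit 20352, nat_lit 22464, nat_lit 28416, nat_lit 32256, nat_lit 34304, nat_lit 46329, nat_lit 40999, nat_lit 37375, nat_lit 33408, nat_lit 28691, nat_lit 24596, nat_lit 20760, nat_lit 16392, nat_lit 12304, nat_lit 8194, nat_lit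 4097, nat_lit 2, nat_lit 438281, nat_lit 425991, nat_lit 417797, nat_lit 409603, nat_lit 401408, nat_lit 169984, nat_lit 166400, nat_lit 160512, nat_lit 155904, nat_lit 152064, nat_lit 149920, nat_lit 146304, nat_lit 141960, nat_lit 133184, nat_lit 40961, nat_lit 4097, nat_lit 327680]⟩
def ndGg0_1 : El := ⟨[nat_lit 0xb27744429876c8937d8b5046e982e8370446, nat_lit 0x66ccfaa62a6980bb1c9218af3720a16428f, nat_lit 0x66099f3c22b6b089b486e120069bc34a9557, nat_lit 0x4278bb80e2495d4cb4d2f3340e2ad013d055], [nat_lit 65536, nat_lit 69632, nat_lit 77824, nat_lit 81920, nat_lit 86016, nat_lit 94208, nat_lit 106496, nat_lit 110592, nat_lit 170496, nat_lit 166144, nat_lit 163584, nat_lit 158784, nat_lit 152544, nat_lit 148560, nat_lit 146408, nat_lit 141616, nat_lit 137028, nat_lit 134939, nat_lit 458, nat_lit 6488, nat_lit 10128, nat_lit 14480, nat_lit 18752, nat_lit 23168, nat_lit 24832, nat_lit 30464, nat_lit 35840, nat_lit 38912, nat_lit 46868, nat_lit 41928, nat_lit 37269, nat_lit 32968,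 nat_lit 28688, nat_lit 24605, nat_lit 20495, nat_lit 16394, nat_lit 12293, nat_lit 8200, nat_lit 4113, nat_lit 2, nat_lit 434185, nat_lit 425991, nat_lit 417797, nat_lit 409603, nat_lit 401408, nat_lit 168960, nat_lit 164352, nat_lit 160768, nat_lit 156800, nat_lit 152896, nat_lit 149120, nat_lit 144960, nat_lit 139768, nat_lit 132208, nat_lit 45073, nat_lit 4097]⟩
def ndGg0_2 : El := ⟨[nat_lit 0x535699b298181128ac4d7a3c4b1c8076966e, nat_lit 0x3f60351de074d6cc8b513728407acc4a4825, nat_lit 0xd48e2ba00f60b5e58187393ae98b2ab11148, nat_lit 0xcc5a5573028ad9633094704a69236f18168f], [nat_lit 65536, nat_lit 69632, nat_lit 86016, nat_lit 94208, nat_lit 102400, nat_lit 106496, nat_lit 110592, nat_lit 173056, nat_lit 169472, nat_lit 164096, nat_lit 162560, nat_lit 158912, nat_lit 153152, nat_lit 149952, nat_lit 146272, nat_lit 140004, nat_lit 139224, nat_lit 131527, nat_lit 2402, nat_lit 4908, nat_lit 10792, nat_lit 14272, nat_lit 17824, nat_lit 22848, nat_lit 25472, nat_lit 30464, nat_lit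 35840, nat_lit 39936, nat_lit 46909, nat_lit 41625, nat_lit 37241, nat_lit 33287, nat_lit 29745, nat_lit 24581, nat_lit 20486, nat_lit 16394, nat_lit 12305, nat_lit 8225, nat_lit 4100, nat_lit 438282, nat_lit 425991, nat_lit 417797, nat_lit 409603, nat_lit 401408, nat_lit 164864, nat_lit 161792, nat_lit 156672, nat_lit 151872, nat_lit 149600, nat_lit 146560, nat_lit 141592, nat_lit 132372, nat_lit 37048, nat_lit 4097]⟩
def ndGg0_3 : El := ⟨[nat_lit 0x18421d89265459570b80f5d2a9609a339a50, nat_lit 0xa3f3a0282269a12371d568568193da222eec, nat_lit 0xd787ee2b009799415d608b8c528b9b4b4c87], [nat_lit 65536, nat_lit 69632, nat_lit 81920, nat_lit 90112, nat_lit 94208, nat_lit 98304, nat_lit 102400, nat_lit 174080, nat_lit 169472, nat_lit 167680, nat_lit 162560, nat_lit 155776, nat_lit 155200, nat_lit 149824, nat_lit 146208, nat_lit 139916, nat_lit 138942, nat_lit 132548, nat_lit 278, nat_lit 5200, nat_lit 8464, nat_lit 13440, nat_lit 17376, nat_lit 23360, nat_lit 24832, nat_lit 31488,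 nat_lit 33792, nat_lit 37888, nat_lit 46834, nat_lit 41036, nat_lit 39234, nat_lit 32803, nat_lit 29199, nat_lit 25621, nat_lit 20624, nat_lit 16449, nat_lit 12291, nat_lit 8194, nat_lit 4101, nat_lit 438279, nat_lit 417797, nat_lit 409603, nat_lit 401408, nat_lit 155776, nat_lit 147616, nat_lit 143408, nat_lit 139448, nat_lit 133268, nat_lit 41077, nat_lit 36896, nat_lit 33001, nat_lit 4097]⟩
def ndGg0_4 : El := ⟨[nat_lit 0xed1b42896954ae6443077509b679e4e81801, nat_lit 0x390a9539a5592519d981ba2877c2a030869, nat_lit 0xb21ed8a90313acce7d9149a9b01a40c2c857, nat_lit 0xac9a331512d7a8175d46c706c88c0d3248e5], [nat_lit 77824, nat_lit 90112, nat_lit 94208, nat_lit 171520, nat_lit 165120, nat_lit 163456, nat_lit 157632, nat_lit 153056, nat_lit 148960, nat_lit 145144, nat_lit 141944, nat_lit 138056, nat_lit 134087, nat_lit 556, nat_lit 4652, nat_lit 10784, nat_lit 12672, nat_lit 20352, nat_lit 23744, nat_lit 25728, nat_lit 32000, nat_lit 36352, nat_lit 43008, nat_lit 46212, nat_lit 41645,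 nat_lit 37263, nat_lit 32782, nat_lit 29295, nat_lit 24591, nat_lit 20630, nat_lit 16425, nat_lit 12290, nat_lit 8195, nat_lit 4097, nat_lit 438281, nat_lit 425991, nat_lit 417797, nat_lit 409603, nat_lit 401408, nat_lit 169984, nat_lit 158080, nat_lit 154432, nat_lit 150176, nat_lit 145792, nat_lit 141984, nat_lit 133684, nat_lit 41117, nat_lit 4097]⟩
def ndGr0_0 : El := ⟨[], []⟩
def ndGg1_0 : El := ⟨[nat_lit 0xc9fa9b32920a4b5981a258cd781de4429d1, nat_lit 0x1b1ee1b1d041028a4dded30e2c0c8ae5ceb0, nat_lit 0x53953c485acab8d0b8176792749454238ca8, nat_lit 0xe17beb451d094ce26aeb1604af3014925877], [nat_lit 77824, nat_lit 81920, nat_lit 98304, nat_lit 106496, nat_lit 178176, nat_lit 173056, nat_lit 167680, nat_lit 162432, nat_lit 158272, nat_lit 155328, nat_lit 147856, nat_lit 146984, nat_lit 139752, nat_lit 136828, nat_lit 131141, nat_lit 2086, nat_lit 4100, nat_lit 10272, nat_lit 13792, nat_lit 19520, nat_lit 23552, nat_lit 28416, nat_lit 30464, nat_lit 38912, nat_lit 45942, nat_lit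 41600, nat_lit 37282, nat_lit 32965, nat_lit 28990, nat_lit 20498, nat_lit 16429, nat_lit 12304, nat_lit 8195, nat_lit 4100, nat_lit 2, nat_lit 438282, nat_lit 430088, nat_lit 421894, nat_lit 413700, nat_lit 405504, nat_lit 174080, nat_lit 169984, nat_lit 167424, nat_lit 162048, nat_lit 157312, nat_lit 152256, nat_lit 148512, nat_lit 143440, nat_lit 132896, nat_lit 8193, nat_lit 4097]⟩
def ndGg1_1 : El := ⟨[nat_lit 0x369566822a459e765165468d8f105c034537, nat_lit 0xe4ddbb44e22abe05039aa3a481b2e83b9a4c, nat_lit 0x65cc0f9267105c8d2d9c23b0744414b79aa1, nat_lit 0xbb148b10276935940b9674a2f028d4f89aa4], [nat_lit 65536, nat_lit 69632, nat_lit 73728, nat_lit 77824, nat_lit 90112, nat_lit 94208, nat_lit 102400, nat_lit 106496, nat_lit 110592, nat_lit 178176, nat_lit 173056, nat_lit 168960, nat_lit 164864, nat_lit 160128, nat_lit 156736, nat_lit 151680, nat_lit 151072, nat_lit 144776, nat_lit 140888, nat_lit 135616, nat_lit 132534, nat_lit 312, nat_lit 4408, nat_lit 8504, nat_lit 13632,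 nat_lit 16800, nat_lit 23296, nat_lit 25856, nat_lit 30464, nat_lit 33280, nat_lit 39936, nat_lit 46305, nat_lit 41980, nat_lit 37104, nat_lit 32849, nat_lit 29193, nat_lit 24728, nat_lit 20501, nat_lit 16392, nat_lit 12293, nat_lit 8193, nat_lit 4097, nat_lit 438282, nat_lit 430088, nat_lit 421894, nat_lit 413700, nat_lit 405504, nat_lit 171008, nat_lit 164352, nat_lit 158976, nat_lit 151616, nat_lit 148032, nat_lit 145712, nat_lit 134720, nat_lit 8193, nat_lit 4097]⟩
def ndGg1_2 : El := ⟨[nat_lit 0x2bdbed81e8925d531002cb20b168deeac966, nat_lit 0xaf5fa30d4488986da1d652400e4b2ef9c956, nat_lit 0xb4eb8442924abe606d07174ae26403639566, nat_lit 0xdb17486ad340960a04ce8219d77da5165462], [nat_lit 65536, nat_lit 69632, nat_lit 73728, nat_lit 98304, nat_lit 102400, nat_lit 106496, nat_lit 110592, nat_lit 173056, nat_lit 168448, nat_lit 167168, nat_lit 162688, nat_lit 158528, nat_lit 154272, nat_lit 148512, nat_lit 147160, nat_lit 141888, nat_lit 138080, nat_lit 132612, nat_lit 1472, nat_lit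 5568, nat_lit 9664, nat_lit 12368, nat_lit 19904, nat_lit 23616, nat_lit 25728, nat_lit 28928, nat_lit 38912, nat_lit 43008, nat_lit 45271, nat_lit 41630, nat_lit 37187, nat_lit 33507, nat_lit 28710, nat_lit 24611, nat_lit 20560, nat_lit 16425, nat_lit 12311, nat_lit 8193, nat_lit 4097, nat_lit 2, nat_lit 438282, nat_lit 430088, nat_lit 421894, nat_lit 413700, nat_lit 405504, nat_lit 174080, nat_lit 165888, nat_lit 161536, nat_lit 156416, nat_lit 153088, nat_lit 149856, nat_lit 144896, nat_lit 132896, nat_lit 8193, nat_lit 4097, nat_lit 327680]⟩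
def ndGg1_3 : El := ⟨[nat_lit 0x9a06a75eaa1342b31d2f9c10c28e5620234, nat_lit 0x8177d833e12b4d6265ea5446833b8015112d, nat_lit 0xc03afc01d630d60d331c92d9179aa24a49e2, nat_lit 0xa0505c80660655f61c642428a7a39b722d26], [nat_lit 102400, nat_lit 178176, nat_lit 175104, nat_lit 169472, nat_lit 166656, nat_lit 162560, nat_lit 159232, nat_lit 153056, nat_lit 148512, nat_lit 146416, nat_lit 140480, nat_lit 137554, nat_lit 133375, nat_lit 2182, nat_lit 4100, nat_lit 10368, nat_lit 12640, nat_lit 16928, nat_lit 23040, nat_lit 25216, nat_lit 32000, nat_lit 35840, nat_lit 39936, nat_lit 45625, nat_lit 41627, nat_lit 38370, nat_lit 32959, nat_lit 28692, nat_lit 25128, nat_lit 20745, nat_lit 16419, nat_lit 12293, nat_lit 8195, nat_lit 4100, nat_lit 2, nat_lit 438282, nat_lit 430088, nat_lit 421894, nat_lit 413700, nat_lit 405504, nat_lit 174080, nat_lit 169984, nat_lit 164352, nat_lit 161024, nat_lit 159360, nat_lit 155200, nat_lit 149856, nat_lit 143488, nat_lit 132896, nat_lit 8193, nat_lit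 4097]⟩
def ndGg1_4 : El := ⟨[nat_lit 0xfc53f398e32080505dde53b289536c675488, nat_lit 0x666f0c80ecc329cf4d6e7a442d12c0444e45, nat_lit 0x71bb829a8ce1d40182da72c9e8b0af423131, nat_lit 0xd7ee72030ad59d42a3931356c344eef09250], [nat_lit 94208, nat_lit 106496, nat_lit 175104, nat_lit 169984, nat_lit 165632, nat_lit 163584, nat_lit 157376, nat_lit 153952, nat_lit 148272, nat_lit 147272, nat_lit 142704, nat_lit 137436, nat_lit 132266, nat_lit 262, nat_lit 4100, nat_lit 8448, nat_lit 14384, nat_lit 19072, nat_lit 21632, nat_lit 27776, nat_lit 31488, nat_lit 36352, nat_lit 39936, nat_lit 43008, nat_lit 45196, nat_lit 41849, nat_lit 38286, nat_lit 33991, nat_lit 28782, nat_lit 24633, nat_lit 20556, nat_lit 16418, nat_lit 12290, nat_lit 8195, nat_lit 4100, nat_lit 2, nat_lit 438282, nat_lit 430088, nat_lit 421894, nat_lit 413700, nat_lit 405504, nat_lit 174080, nat_lit 164352, nat_lit 161024, nat_lit 158848, nat_lit 155200, nat_lit 149856, nat_lit 144064, nat_lit 132456, nat_lit 8193, nat_lit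 4097, nat_lit 327680]⟩
def ndGr1_0 : El := ⟨[], []⟩
def ndGr1_1 : El := ⟨[nat_lit 0xbe244771ac49aca30828c95df1522ad81d22, nat_lit 0xf5595f5c1c153011b9d09188d42cab3791b6, nat_lit 0xaaf90c05c62891e8b52a151e0e34dab61532, nat_lit 0x3fa390858e24046f4b8c49a991916a0a2db7], [nat_lit 73728, nat_lit 77824, nat_lit 90112, nat_lit 94208, nat_lit 98304, nat_lit 102400, nat_lit 110592, nat_lit 170496, nat_lit 167424, nat_lit 163584, nat_lit 157760, nat_lit 154336, nat_lit 151248, nat_lit 143440, nat_lit 142284, nat_lit 136512, nat_lit 134678, nat_lit 3668, nat_lit 7764, nat_lit 12136, nat_lit 13920, nat_lit 19712, nat_lit 23552, nat_lit 27392, nat_lit 29184, nat_lit 33280, nat_lit 38912, nat_lit 43008, nat_lit 46846, nat_lit 41933, nat_lit 37192, nat_lit 32859, nat_lit 29726, nat_lit 24635, nat_lit 20547, nat_lit 16424, nat_lit 12327, nat_lit 8203, nat_lit 4097, nat_lit 2, nat_lit 438282, nat_lit 430088, nat_lit 421894, nat_lit 413700, nat_lit 401408, nat_lit 171008, nat_lit 164352, nat_lit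 162816, nat_lit 158080, nat_lit 154880, nat_lit 150464, nat_lit 142112, nat_lit 132452, nat_lit 12289, nat_lit 4097]⟩
def ndGr1_2 : El := ⟨[nat_lit 0x53953c0482b9a9eda5a0870ee4155863a4b1, nat_lit 0x9c6f98504503468addc90d8937a8e65b251, nat_lit 0x7714178caf60a0696b0e5ace9052c40311ee], [nat_lit 65536, nat_lit 69632, nat_lit 81920, nat_lit 102400, nat_lit 110592, nat_lit 178176, nat_lit 169984, nat_lit 165376, nat_lit 163584, nat_lit 157056, nat_lit 153024, nat_lit 148256, nat_lit 143872, nat_lit 140932, nat_lit 135808, nat_lit 131571, nat_lit 4038, nat_lit 4440, nat_lit 11744, nat_lit 15120, nat_lit 17216, nat_lit 20992, nat_lit 25856, nat_lit 30208, nat_lit 35328, nat_lit 37888, nat_lit 46210, nat_lit 41763, nat_lit 38254, nat_lit 32772, nat_lit 30814, nat_lit 24610, nat_lit 20487, nat_lit 16396, nat_lit 4128, nat_lit 434183, nat_lit 417797, nat_lit 409603, nat_lit 401408, nat_lit 152576, nat_lit 147488, nat_lit 144512, nat_lit 139320, nat_lit 131244, nat_lit 45276, nat_lit 36992,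 nat_lit 32825, nat_lit 4097]⟩
def ndGr1_3 : El := ⟨[nat_lit 0xe1b84e7514584473a998bbb507259e90c802, nat_lit 0xe241845aab234c976d990438e02a5e288474, nat_lit 0x656939ba1e49c830754ab3b6c96514688860], [nat_lit 73728, nat_lit 86016, nat_lit 90112, nat_lit 106496, nat_lit 110592, nat_lit 175104, nat_lit 171008, nat_lit 164352, nat_lit 163584, nat_lit 155840, nat_lit 152288, nat_lit 151024, nat_lit 144496, nat_lit 141616, nat_lit 137160, nat_lit 132646, nat_lit 2830, nat_lit 6804, nat_lit 9808, nat_lit 12608, nat_lit 19456, nat_lit 21632, nat_lit 28288, nat_lit 34816, nat_lit 38912, nat_lit 45681, nat_lit 41805, nat_lit 38297, nat_lit 33800, nat_lit 28739, nat_lit 24735, nat_lit 20508, nat_lit 16399, nat_lit 12293, nat_lit 8201, nat_lit 4112, nat_lit 2, nat_lit 434183, nat_lit 417797, nat_lit 409603, nat_lit 401408, nat_lit 156672, nat_lit 152576, nat_lit 148576, nat_lit 143520, nat_lit 131232, nat_lit 45120, nat_lit 36868, nat_lit 32944, nat_lit 4097]⟩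
def ndGr1_4 : El := ⟨[nat_lit 0xc5c69a690b01a8f664801aacc24cdc88d2ef, nat_lit 0xf6993621af4a96e144f4b96601921534ac1, nat_lit 0xff996c0ad84534c379d008ca76289c9a42b7], [nat_lit 65536, nat_lit 69632, nat_lit 77824, nat_lit 81920, nat_lit 90112, nat_lit 98304, nat_lit 106496, nat_lit 110592, nat_lit 174080, nat_lit 170496, nat_lit 167424, nat_lit 162304, nat_lit 157568, nat_lit 154240, nat_lit 149168, nat_lit 144160, nat_lit 139396, nat_lit 138606, nat_lit 132788, nat_lit 1498, nat_lit 5596, nat_lit 10752, nat_lit 13776, nat_lit 17440, nat_lit 22656, nat_lit 24832, nat_lit 31744, nat_lit 33792, nat_lit 45932, nat_lit 40963, nat_lit 39264, nat_lit 34914, nat_lit 28788, nat_lit 24704, nat_lit 20569, nat_lit 16390, nat_lit 12294, nat_lit 8200, nat_lit 4101, nat_lit 421894, nat_lit 413700, nat_lit 405504, nat_lit 155776, nat_lit 151744, nat_lit 147520, nat_lit 131320, nat_lit 45065, nat_lit 41152, nat_lit 37072, nat_lit 32769, nat_lit 8193, nat_lit 4097]⟩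
def ndGr1_5 : El := ⟨[nat_lit 0x66ccf63889ad0e82882b9a8d1959a3802ef, nat_lit 0x9accf0025e65cae8504ac892871c055b4dcd, nat_lit 0xf9a0659ac74834923deae7994961401122d1, nat_lit 0x5600c6115500b2a3722cb8a480bca6da19e7], [nat_lit 65536, nat_lit 69632, nat_lit 73728, nat_lit 81920, nat_lit 94208, nat_lit 98304, nat_lit 102400, nat_lit 106496, nat_lit 110592, nat_lit 178176, nat_lit 171520, nat_lit 166400, nat_lit 163200, nat_lit 158976, nat_lit 154688, nat_lit 147824, nat_lit 146104, nat_lit 140544, nat_lit 135580, nat_lit 133079, nat_lit 22, nat_lit 4112, nat_lit 8208, nat_lit 12768, nat_lit 18432, nat_lit 22208, nat_lit 25856, nat_lit 31488, nat_lit 34816, nat_lit 37888, nat_lit 46890, nat_lit 41192, nat_lit 37182, nat_lit 33509, nat_lit 28789, nat_lit 24748, nat_lit 16398, nat_lit 12310, nat_lit 8194, nat_lit 4101, nat_lit 438282, nat_lit 430088, nat_lit 421894, nat_lit 413700, nat_lit 405504, nat_lit 174080, nat_lit 168960, nat_lit 164864, nat_lit 163328, nat_lit 155776, nat_lit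 152704, nat_lit 151296, nat_lit 147296, nat_lit 134720, nat_lit 8193, nat_lit 4097]⟩
def ndGr1_6 : El := ⟨[nat_lit 0xb287b4728e4845e85daec4802d14cb534a83, nat_lit 0x6fc069b11ab622859a5420bdd0018f2bd471, nat_lit 0x88828b1aa8d342b793d85b016e11c3322131, nat_lit 0x44be4d40a006d0654de76205d559e26549ec], [nat_lit 65536, nat_lit 69632, nat_lit 77824, nat_lit 81920, nat_lit 86016, nat_lit 90112, nat_lit 98304, nat_lit 106496, nat_lit 171008, nat_lit 158592, nat_lit 153984, nat_lit 150416, nat_lit 143976, nat_lit 141268, nat_lit 138858, nat_lit 132417, nat_lit 1024, nat_lit 5120, nat_lit 9216, nat_lit 15840, nat_lit 17632, nat_lit 21504, nat_lit 25472, nat_lit 29440, nat_lit 37888, nat_lit 43008, nat_lit 45345, nat_lit 41811, nat_lit 37267, nat_lit 33523, nat_lit 28713, nat_lit 24853, nat_lit 20501, nat_lit 16421, nat_lit 8193, nat_lit 4097, nat_lit 438282, nat_lit 430088, nat_lit 421894, nat_lit 413700, nat_lit 405504, nat_lit 174080, nat_lit 166400, nat_lit 161024, nat_lit 155904,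 nat_lit 155584, nat_lit 150176, nat_lit 144432, nat_lit 134392, nat_lit 8193, nat_lit 4097, nat_lit 327680]⟩
def ndGg2_0 : El := ⟨[nat_lit 0xd14118494c47dc5375412b05b16407459d0a, nat_lit 0xaaa33a2d2329a1a11416c32557202c33bdd5, nat_lit 0x78d7421c2b73368a016640c5cf58a484d8ec, nat_lit 0x6a99c61b4c2886a8648f0252cf5dc134b945], [nat_lit 65536, nat_lit 69632, nat_lit 73728, nat_lit 77824, nat_lit 86016, nat_lit 102400, nat_lit 174080, nat_lit 169984, nat_lit 167168, nat_lit 163200, nat_lit 157696, nat_lit 155008, nat_lit 149008, nat_lit 144984, nat_lit 139284, nat_lit 136976, nat_lit 133056, nat_lit 536, nat_lit 4632, nat_lit 11112, nat_lit 14192, nat_lit 19808, nat_lit 22016, nat_lit 27392, nat_lit 35328, nat_lit 39936, nat_lit 45320, nat_lit 41604, nat_lit 37315, nat_lit 32904, nat_lit 28780, nat_lit 24635, nat_lit 20506, nat_lit 16395, nat_lit 12307, nat_lit 8195, nat_lit 4097, nat_lit 2, nat_lit 438281, nat_lit 425991, nat_lit 417797, nat_lit 409603, nat_lit 401408, nat_lit 165888,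 nat_lit 160000, nat_lit 155904, nat_lit 153600, nat_lit 150368, nat_lit 143648, nat_lit 139568, nat_lit 133628, nat_lit 41697, nat_lit 4097, nat_lit 327680]⟩
def ndGg2_1 : El := ⟨[nat_lit 0x84481ba24735a8cf944ec1100eb15b745601, nat_lit 0xbb28d12b4035bd24b862a658d59c8eea0910, nat_lit 0xedb184b8c867acf0886936c8a8a89cc02ac9, nat_lit 0xcfcafc509cf69ed2450750a613301648dd85], [nat_lit 73728, nat_lit 86016, nat_lit 90112, nat_lit 102400, nat_lit 110592, nat_lit 175104, nat_lit 171008, nat_lit 166656, nat_lit 163584, nat_lit 158016, nat_lit 152224, nat_lit 151456, nat_lit 143368, nat_lit 142804, nat_lit 138722, nat_lit 133573, nat_lit 2182, nat_lit 4964, nat_lit 10368, nat_lit 14848, nat_lit 18784, nat_lit 23360, nat_lit 27648, nat_lit 29184, nat_lit 36352, nat_lit 38912, nat_lit 43008, nat_lit 46821, nat_lit 41792, nat_lit 37031, nat_lit 32988, nat_lit 28680, nat_lit 24875, nat_lit 20482, nat_lit 16448, nat_lit 12423, nat_lit 8195, nat_lit 4100, nat_lit 438282, nat_lit 430088, nat_lit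 421894, nat_lit 409603, nat_lit 401408, nat_lit 169984, nat_lit 166912, nat_lit 160256, nat_lit 156160, nat_lit 147968, nat_lit 145808, nat_lit 142488, nat_lit 134360, nat_lit 20481, nat_lit 4097, nat_lit 327680]⟩
def ndGg2_2 : El := ⟨[nat_lit 0x90a6fa65ea8a162369d664844f2581274d50, nat_lit 0x481d417368314af1501764bcf09b106206a5, nat_lit 0xa036302b5041cae665974129e1a9c114c1d3, nat_lit 0x93906209b303e078b0a3add14706465a936], [nat_lit 65536, nat_lit 69632, nat_lit 73728, nat_lit 86016, nat_lit 94208, nat_lit 98304, nat_lit 168960, nat_lit 165376, nat_lit 160768, nat_lit 157632, nat_lit 154880, nat_lit 148624, nat_lit 143392, nat_lit 140280, nat_lit 139172, nat_lit 133956, nat_lit 3986, nat_lit 8084, nat_lit 11944, nat_lit 12560, nat_lit 20352, nat_lit 21696, nat_lit 27520, nat_lit 30464, nat_lit 34816, nat_lit 43008, nat_lit 46958, nat_lit 41610, nat_lit 37319, nat_lit 32825, nat_lit 28797, nat_lit 24622, nat_lit 20481, nat_lit 16396, nat_lit 12307, nat_lit 8200, nat_lit 4100,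 nat_lit 2, nat_lit 434185, nat_lit 425991, nat_lit 417797, nat_lit 409603, nat_lit 401408, nat_lit 168960, nat_lit 164864, nat_lit 161024, nat_lit 157312, nat_lit 153152, nat_lit 149088, nat_lit 143488, nat_lit 139848, nat_lit 132460, nat_lit 45061, nat_lit 4097, nat_lit 327680]⟩
def ndGg2_3 : El := ⟨[nat_lit 0x4ddd82b0a25a554d23ceb9c9c935c7062001, nat_lit 0x2247dd0b9ec3da295dcd3680438151455492, nat_lit 0xc6f3fa74cf045242b96cfaa6201902c3356a], [nat_lit 65536, nat_lit 69632, nat_lit 73728, nat_lit 94208, nat_lit 106496, nat_lit 110592, nat_lit 169472, nat_lit 165376, nat_lit 161152, nat_lit 156480, nat_lit 152192, nat_lit 149488, nat_lit 144800, nat_lit 140704, nat_lit 138956, nat_lit 132894, nat_lit 2208, nat_lit 6304, nat_lit 10808, nat_lit 15952, nat_lit 16736, nat_lit 24064, nat_lit 28160, nat_lit 32256, nat_lit 35840, nat_lit 37888, nat_lit 45818, nat_lit 41940, nat_lit 37236, nat_lit 32769, nat_lit 28710, nat_lit 24627, nat_lit 20496, nat_lit 16390, nat_lit 12289, nat_lit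 8194, nat_lit 4097, nat_lit 421893, nat_lit 409603, nat_lit 401408, nat_lit 147616, nat_lit 143520, nat_lit 139448, nat_lit 131204, nat_lit 45057, nat_lit 41137, nat_lit 36917, nat_lit 32917, nat_lit 24632, nat_lit 4097]⟩
def ndGg2_4 : El := ⟨[nat_lit 0xb784d20062ab4d3431112696e362dd07d4e2, nat_lit 0xacc0054b5062018291dd154ee12d68f58ed0, nat_lit 0x7e221ea2e0e30823bc94f6c6a8b4d89280e4], [nat_lit 65536, nat_lit 69632, nat_lit 86016, nat_lit 90112, nat_lit 94208, nat_lit 98304, nat_lit 102400, nat_lit 178176, nat_lit 174080, nat_lit 168960, nat_lit 167680, nat_lit 155904, nat_lit 152992, nat_lit 150224, nat_lit 143648, nat_lit 140004, nat_lit 138972, nat_lit 132370, nat_lit 600, nat_lit 4696, nat_lit 9224, nat_lit 16352, nat_lit 19936, nat_lit 22208, nat_lit 27648, nat_lit 30720, nat_lit 35328, nat_lit 39936, nat_lit 46590, nat_lit 41264, nat_lit 36912, nat_lit 34034, nat_lit 24892, nat_lit 20573, nat_lit 16457, nat_lit 12294, nat_lit 8202, nat_lit 4097, nat_lit 2, nat_lit 434183,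 nat_lit 417797, nat_lit 409603, nat_lit 401408, nat_lit 160768, nat_lit 152704, nat_lit 147616, nat_lit 143376, nat_lit 139288, nat_lit 132300, nat_lit 45289, nat_lit 36932, nat_lit 32957, nat_lit 4097, nat_lit 327680]⟩
def ndGr2_0 : El := ⟨[nat_lit 0xbdb4117460a0b00b90aa698cb4791074d9b7, nat_lit 0x36fc0519dd185a4bab54c25d250203434de2, nat_lit 0xb8de1428a15599a472697048f66282343e71], [nat_lit 73728, nat_lit 86016, nat_lit 90112, nat_lit 106496, nat_lit 110592, nat_lit 175104, nat_lit 171008, nat_lit 164352, nat_lit 163584, nat_lit 155840, nat_lit 152288, nat_lit 151024, nat_lit 144496, nat_lit 141616, nat_lit 137160, nat_lit 132646, nat_lit 2830, nat_lit 6804, nat_lit 9808, nat_lit 12608, nat_lit 19456, nat_lit 21632, nat_lit 28288, nat_lit 34816, nat_lit 38912, nat_lit 45681, nat_lit 41805, nat_lit 38297, nat_lit 33800, nat_lit 28739, nat_lit 24735, nat_lit 20508, nat_lit 16399, nat_lit 12293, nat_lit 8201, nat_lit 4112, nat_lit 2, nat_lit 434183, nat_lit 417797, nat_lit 409603,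 nat_lit 401408, nat_lit 156672, nat_lit 152576, nat_lit 148576, nat_lit 143520, nat_lit 131232, nat_lit 45120, nat_lit 36868, nat_lit 32944, nat_lit 4097]⟩
def ndGg3_0 : El := ⟨[nat_lit 0x711e4bb9e6fab22458948934d400d2171616, nat_lit 0xafa0a305cd37aa3012c6dad12c2d8323910e, nat_lit 0xf553611860badb329027449d67c1358d18a, nat_lit 0x955a9c399abb10124bc229ba0a1d0b1622b7], [nat_lit 73728, nat_lit 81920, nat_lit 98304, nat_lit 110592, nat_lit 178176, nat_lit 173056, nat_lit 168960, nat_lit 165376, nat_lit 161408, nat_lit 157504, nat_lit 151936, nat_lit 144224, nat_lit 140580, nat_lit 138594, nat_lit 134588, nat_lit 720, nat_lit 4816, nat_lit 11408, nat_lit 15808, nat_lit 18112, nat_lit 20864, nat_lit 25984, nat_lit 29184, nat_lit 36352, nat_lit 38912, nat_lit 46170, nat_lit 41976, nat_lit 37933, nat_lit 33418, nat_lit 28795, nat_lit 24716, nat_lit 20511, nat_lit 16389, nat_lit 12323, nat_lit 8193, nat_lit 4097, nat_lit 434185, nat_lit 425991, nat_lit 417797, nat_lit 409603, nat_lit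 401408, nat_lit 156288, nat_lit 152064, nat_lit 148320, nat_lit 143968, nat_lit 139952, nat_lit 132064, nat_lit 46865, nat_lit 4097]⟩
def ndGg3_1 : El := ⟨[nat_lit 0x14bb279d425552ef72e121352088ec732184, nat_lit 0xa5c55942acb3026cbd135708b07c8833b431, nat_lit 0x9aa56c289c81dc33b2970244d401de9649b5], [nat_lit 81920, nat_lit 94208, nat_lit 102400, nat_lit 106496, nat_lit 178176, nat_lit 174080, nat_lit 171520, nat_lit 165376, nat_lit 162816, nat_lit 156096, nat_lit 152832, nat_lit 149248, nat_lit 147280, nat_lit 142444, nat_lit 137910, nat_lit 133402, nat_lit 3226, nat_lit 7532, nat_lit 12048, nat_lit 15504, nat_lit 16480, nat_lit 22336, nat_lit 28288, nat_lit 32000, nat_lit 35840, nat_lit 43008, nat_lit 46973, nat_lit 41393, nat_lit 37143, nat_lit 32812, nat_lit 29718, nat_lit 24584, nat_lit 20624, nat_lit 16396, nat_lit 12294, nat_lit 8201, nat_lit 4100, nat_lit 430086, nat_lit 413700, nat_lit 401408, nat_lit 156160, nat_lit 151616, nat_lit 147488, nat_lit 139344, nat_lit 131584,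 nat_lit 45057, nat_lit 41569, nat_lit 32769, nat_lit 28673, nat_lit 12289, nat_lit 4097]⟩
def ndGg3_2 : El := ⟨[nat_lit 0xbb41b2ba8f4004cb434ae1bed12261360ab2, nat_lit 0x72bd48306c8742339358fa80e922c5751474, nat_lit 0x5f505c31d6f28275a59c854991b8c906a422, nat_lit 0x50c9c088eb65dc8d29c33649e2a38c90410a], [nat_lit 65536, nat_lit 69632, nat_lit 73728, nat_lit 81920, nat_lit 86016, nat_lit 90112, nat_lit 94208, nat_lit 98304, nat_lit 102400, nat_lit 178176, nat_lit 175104, nat_lit 171008, nat_lit 166400, nat_lit 160384, nat_lit 156800, nat_lit 152768, nat_lit 150496, nat_lit 143720, nat_lit 140712, nat_lit 135676, nat_lit 132290, nat_lit 2182, nat_lit 6152, nat_lit 10368, nat_lit 13168, nat_lit 20320, nat_lit 21504, nat_lit 26368, nat_lit 30208, nat_lit 35840, nat_lit 43008, nat_lit 46923, nat_lit 43829, nat_lit 36926, nat_lit 34835, nat_lit 28687, nat_lit 24838, nat_lit 21022, nat_lit 16397, nat_lit 12309, nat_lit 8194, nat_lit 4101, nat_lit 2, nat_lit 434185, nat_lit 425991, nat_lit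 417797, nat_lit 409603, nat_lit 401408, nat_lit 168960, nat_lit 165376, nat_lit 160768, nat_lit 157056, nat_lit 152512, nat_lit 144560, nat_lit 140584, nat_lit 132864, nat_lit 45645, nat_lit 4097, nat_lit 327680]⟩
def ndGg3_3 : El := ⟨[nat_lit 0x9390650de5826e86ca8cb02620adc789aa4, nat_lit 0x17e72439ad120d889dd69836af029c508a92, nat_lit 0x56aaff0d47323c4b3394065db23da2582688, nat_lit 0x55609f7cc6a0b228942a7008b623aeda24cb], [nat_lit 86016, nat_lit 94208, nat_lit 98304, nat_lit 110592, nat_lit 171520, nat_lit 165632, nat_lit 160000, nat_lit 158976, nat_lit 153824, nat_lit 148528, nat_lit 143976, nat_lit 141564, nat_lit 139018, nat_lit 132284, nat_lit 15328, nat_lit 19936, nat_lit 22720, nat_lit 25088, nat_lit 29184, nat_lit 33792, nat_lit 38912, nat_lit 43008, nat_lit 46453, nat_lit 41106, nat_lit 37368, nat_lit 33455, nat_lit 28703, nat_lit 24840, nat_lit 21021, nat_lit 16452, nat_lit 12307, nat_lit 8193, nat_lit 4097, nat_lit 438282, nat_lit 430088, nat_lit 421894, nat_lit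 413700, nat_lit 405504, nat_lit 174080, nat_lit 171008, nat_lit 167424, nat_lit 160512, nat_lit 155776, nat_lit 152256, nat_lit 150624, nat_lit 145168, nat_lit 131168, nat_lit 8193, nat_lit 4097, nat_lit 327680]⟩
def ndGg3_4 : El := ⟨[nat_lit 0x9a9639651177988a99c361963572c02925b0, nat_lit 0x6533f008117a24a43c9a233203ac66b73eca, nat_lit 0x69cc0542c47481332e91bd44f38da562501, nat_lit 0x718828a3ca9184513dd6c6d4c8b114e9c810], [nat_lit 81920, nat_lit 86016, nat_lit 94208, nat_lit 102400, nat_lit 106496, nat_lit 110592, nat_lit 178176, nat_lit 173056, nat_lit 168448, nat_lit 165120, nat_lit 157632, nat_lit 155296, nat_lit 147840, nat_lit 143528, nat_lit 140896, nat_lit 138044, nat_lit 133770, nat_lit 3036, nat_lit 7132, nat_lit 8200, nat_lit 15312, nat_lit 18336, nat_lit 23104, nat_lit 27264, nat_lit 30208, nat_lit 36352, nat_lit 38912, nat_lit 43008, nat_lit 46373, nat_lit 41072, nat_lit 36916, nat_lit 32865, nat_lit 28793, nat_lit 24590, nat_lit 20610, nat_lit 16385, nat_lit 12292,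 nat_lit 8201, nat_lit 4097, nat_lit 2, nat_lit 438282, nat_lit 430088, nat_lit 421894, nat_lit 413700, nat_lit 405504, nat_lit 168960, nat_lit 160768, nat_lit 156672, nat_lit 148672, nat_lit 145984, nat_lit 132024, nat_lit 8193, nat_lit 4097, nat_lit 327680]⟩
def ndGr3_0 : El := ⟨[nat_lit 0xaa609f20d1479e65b5e0e3540b648225262d, nat_lit 0xb2e127059d15a50480a8f2a8e61dd93ac82d, nat_lit 0x4b72173d1a07d8a125c6c8c24a754465a269], [nat_lit 65536, nat_lit 69632, nat_lit 77824, nat_lit 81920, nat_lit 90112, nat_lit 98304, nat_lit 106496, nat_lit 110592, nat_lit 174080, nat_lit 170496, nat_lit 167424, nat_lit 162304, nat_lit 157568, nat_lit 154240, nat_lit 149168, nat_lit 144160, nat_lit 139396, nat_lit 138606, nat_lit 132788, nat_lit 1498, nat_lit 5596, nat_lit 10752, nat_lit 13776, nat_lit 17440, nat_lit 22656, nat_lit 24832, nat_lit 31744, nat_lit 33792, nat_lit 45932, nat_lit 40963, nat_lit 39264, nat_lit 34914, nat_lit 28788, nat_lit 24704, nat_lit 20569, nat_lit 16390, nat_lit 12294,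 nat_lit 8200, nat_lit 4101, nat_lit 421894, nat_lit 413700, nat_lit 405504, nat_lit 155776, nat_lit 151744, nat_lit 147520, nat_lit 131320, nat_lit 45065, nat_lit 41152, nat_lit 37072, nat_lit 32769, nat_lit 8193, nat_lit 4097]⟩
def ndGr3_1 : El := ⟨[nat_lit 0x774ede740766cc555c6477a8cc45e842a401, nat_lit 0x22b8dd8dcd0b08a353e606ae413b28eaa089, nat_lit 0x9cfaf69114fb2c6829c176c1267303515233], [nat_lit 65536, nat_lit 69632, nat_lit 81920, nat_lit 102400, nat_lit 110592, nat_lit 178176, nat_lit 169984, nat_lit 165376, nat_lit 163584, nat_lit 157056, nat_lit 153024, nat_lit 148256, nat_lit 143872, nat_lit 140932, nat_lit 135808, nat_lit 131571, nat_lit 4038, nat_lit 4440, nat_lit 11744, nat_lit 15120, nat_lit 17216, nat_lit 20992, nat_lit 25856, nat_lit 30208, nat_lit 35328, nat_lit 37888, nat_lit 46210, nat_lit 41763, nat_lit 38254, nat_lit 32772, nat_lit 30814, nat_lit 24610, nat_lit 20487, nat_lit 16396, nat_lit 4128, nat_lit 434183, nat_lit 417797, nat_lit 409603, nat_lit 401408,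 nat_lit 152576, nat_lit 147488, nat_lit 144512, nat_lit 139320, nat_lit 131244, nat_lit 45276, nat_lit 36992, nat_lit 32825, nat_lit 4097]⟩
def ndGr3_2 : El := ⟨[nat_lit 0xe8e7db746d55bd532b0901a4d445ce20c9a0, nat_lit 0xe1b7419b6b12dcce4a1967d0608048a14967, nat_lit 0x633953a5c0438dac8baaa5bed3808d228528], [nat_lit 73728, nat_lit 77824, nat_lit 81920, nat_lit 90112, nat_lit 102400, nat_lit 173056, nat_lit 171008, nat_lit 166144, nat_lit 160128, nat_lit 158528, nat_lit 153024, nat_lit 151104, nat_lit 145176, nat_lit 143168, nat_lit 136020, nat_lit 134402, nat_lit 380, nat_lit 4476, nat_lit 10968, nat_lit 16144, nat_lit 19968, nat_lit 22336, nat_lit 26880, nat_lit 29696, nat_lit 34304, nat_lit 45664, nat_lit 41790, nat_lit 38328, nat_lit 32958, nat_lit 28785, nat_lit 24762, nat_lit 20485, nat_lit 16397, nat_lit 12293, nat_lit 8194, nat_lit 4097, nat_lit 2, nat_lit 430088, nat_lit 417797, nat_lit 409603, nat_lit 401408, nat_lit 156160, nat_lit 151808, nat_lit 148256, nat_lit 144192,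 nat_lit 139592, nat_lit 131688, nat_lit 45632, nat_lit 41000, nat_lit 28708, nat_lit 4097, nat_lit 327680]⟩
def ndGg4_0 : El := ⟨[nat_lit 0xe8e82ba5d25141d5345520808879d6c1cecd, nat_lit 0xbd4beea8a34049287059335deb80c872d94d, nat_lit 0xbb1b84782d4592f329c2d40d2c34aaa70a11], [nat_lit 65536, nat_lit 69632, nat_lit 77824, nat_lit 81920, nat_lit 90112, nat_lit 102400, nat_lit 110592, nat_lit 178176, nat_lit 175104, nat_lit 170496, nat_lit 167168, nat_lit 158592, nat_lit 154080, nat_lit 148928, nat_lit 145384, nat_lit 142504, nat_lit 138904, nat_lit 132579, nat_lit 3398, nat_lit 5164, nat_lit 8504, nat_lit 15472, nat_lit 17920, nat_lit 23168, nat_lit 26368, nat_lit 32256, nat_lit 35840, nat_lit 39936, nat_lit 45171, nat_lit 41744, nat_lit 37146, nat_lit 32797, nat_lit 28719, nat_lit 26657, nat_lit 20616, nat_lit 16455, nat_lit 12295, nat_lit 8203, nat_lit 4104, nat_lit 2, nat_lit 438279, nat_lit 417797, nat_lit 409603, nat_lit 401408, nat_lit 161792, nat_lit 155776, nat_lit 151616,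 nat_lit 147584, nat_lit 143584, nat_lit 139392, nat_lit 131092, nat_lit 41024, nat_lit 36896, nat_lit 32776, nat_lit 4097]⟩
def ndGg4_1 : El := ⟨[nat_lit 0x350ac01d0ce08a0b282efac5369a18d51e44, nat_lit 0xc9c05f5dcc943e400d4a3751a49da2712990, nat_lit 0x417e716c0d724ecc280e97a1c20ae51aa874, nat_lit 0x90fc330193242df7642363cd421b434255c5], [nat_lit 65536, nat_lit 69632, nat_lit 73728, nat_lit 86016, nat_lit 102400, nat_lit 110592, nat_lit 178176, nat_lit 175104, nat_lit 169984, nat_lit 166656, nat_lit 161536, nat_lit 158784, nat_lit 151840, nat_lit 150560, nat_lit 144168, nat_lit 141148, nat_lit 137206, nat_lit 135091, nat_lit 1120, nat_lit 5216, nat_lit 10176, nat_lit 13520, nat_lit 18208, nat_lit 23424, nat_lit 28544, nat_lit 34816, nat_lit 38912, nat_lit 47009, nat_lit 43146, nat_lit 38359, nat_lit 33963, nat_lit 29000, nat_lit 24611, nat_lit 20558, nat_lit 16902, nat_lit 12305, nat_lit 8226, nat_lit 4097, nat_lit 434185, nat_lit 425991, nat_lit 417797, nat_lit 409603, nat_lit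 401408, nat_lit 168960, nat_lit 164864, nat_lit 160256, nat_lit 156544, nat_lit 153024, nat_lit 148320, nat_lit 144496, nat_lit 139704, nat_lit 132156, nat_lit 46953, nat_lit 4097]⟩
def ndGg4_2 : El := ⟨[nat_lit 0xa6ff36196d05beb4b88d164e4821d4d0242e, nat_lit 0x8828b21c6e8209e00a6565a9c6652a59b4f0, nat_lit 0x48d11425648585a911ccf8cc6ebd80ca40aa, nat_lit 0x5c3ff57ba77102553058b69143b1cb08d128], [nat_lit 65536, nat_lit 69632, nat_lit 73728, nat_lit 86016, nat_lit 90112, nat_lit 94208, nat_lit 98304, nat_lit 106496, nat_lit 110592, nat_lit 178176, nat_lit 174080, nat_lit 168960, nat_lit 165632, nat_lit 160768, nat_lit 159680, nat_lit 155232, nat_lit 148176, nat_lit 144360, nat_lit 142560, nat_lit 136676, nat_lit 133521, nat_lit 2558, nat_lit 5748, nat_lit 10744, nat_lit 13696, nat_lit 17024, nat_lit 22464, nat_lit 25088, nat_lit 30720, nat_lit 38912, nat_lit 46813, nat_lit 41791, nat_lit 37058, nat_lit 32858, nat_lit 28757, nat_lit 24763, nat_lit 20564, nat_lit 16397, nat_lit 12290,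 nat_lit 8195, nat_lit 4100, nat_lit 2, nat_lit 434185, nat_lit 425991, nat_lit 417797, nat_lit 409603, nat_lit 401408, nat_lit 161024, nat_lit 156416, nat_lit 148256, nat_lit 145216, nat_lit 140360, nat_lit 131624, nat_lit 46953, nat_lit 4097]⟩
def ndGg4_3 : El := ⟨[nat_lit 0x1781b701c2b1c1b5a2ae614ece4c4b24118f, nat_lit 0xb7d1eb431e2a362723a761aca6add2150212, nat_lit 0x282dd75aa134a2510dec3a80547948c6b8c7], [nat_lit 77824, nat_lit 98304, nat_lit 175104, nat_lit 169984, nat_lit 166912, nat_lit 160512, nat_lit 157952, nat_lit 153824, nat_lit 150048, nat_lit 143792, nat_lit 140464, nat_lit 135196, nat_lit 132153, nat_lit 1278, nat_lit 4544, nat_lit 10656, nat_lit 14176, nat_lit 18976, nat_lit 22464, nat_lit 25472, nat_lit 32000, nat_lit 33792, nat_lit 37888, nat_lit 47072, nat_lit 43163, nat_lit 37147, nat_lit 32771, nat_lit 28684, nat_lit 20494, nat_lit 16398, nat_lit 8193, nat_lit 4113, nat_lit 2, nat_lit 425991, nat_lit 417797, nat_lit 409603, nat_lit 401408, nat_lit 160000,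 nat_lit 156032, nat_lit 151872, nat_lit 147648, nat_lit 139488, nat_lit 131108, nat_lit 45176, nat_lit 41088, nat_lit 36916, nat_lit 4097, nat_lit 327680]⟩
def ndGg4_4 : El := ⟨[nat_lit 0xb2dd82726021c5887866a5c80d31c96a54b7, nat_lit 0x77e4e73d4814be05b3582052727456655c68, nat_lit 0x8e11bb0d2f228cf07b0115a453455c6559a4, nat_lit 0xd7e182490576c023999e59390aaace0b5191], [nat_lit 73728, nat_lit 81920, nat_lit 98304, nat_lit 171520, nat_lit 167424, nat_lit 163328, nat_lit 158848, nat_lit 153568, nat_lit 150128, nat_lit 146488, nat_lit 140564, nat_lit 136114, nat_lit 134071, nat_lit 2276, nat_lit 6372, nat_lit 10480, nat_lit 12784, nat_lit 18592, nat_lit 24128, nat_lit 24832, nat_lit 29952, nat_lit 35840, nat_lit 37888, nat_lit 43008, nat_lit 46965, nat_lit 41177, nat_lit 37262, nat_lit 33437, nat_lit 29201, nat_lit 25619, nat_lit 20505, nat_lit 16416, nat_lit 12306, nat_lit 4097, nat_lit 438282, nat_lit 425991, nat_lit 417797, nat_lit 409603, nat_lit 401408, nat_lit 160000, nat_lit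 155776, nat_lit 151808, nat_lit 147616, nat_lit 144448, nat_lit 139616, nat_lit 133268, nat_lit 36941, nat_lit 4097, nat_lit 327680]⟩
def ndGr4_0 : El := ⟨[nat_lit 0xccff63abcd7a2e22728e9684041cd168164c, nat_lit 0xe41ee123e851540cbb6304aace905663a073, nat_lit 0x63c95c3a1838d8c4a82627baf2285a98514b], [nat_lit 65536, nat_lit 69632, nat_lit 81920, nat_lit 86016, nat_lit 98304, nat_lit 102400, nat_lit 178176, nat_lit 174080, nat_lit 170496, nat_lit 167424, nat_lit 162944, nat_lit 158144, nat_lit 152800, nat_lit 148816, nat_lit 147064, nat_lit 139632, nat_lit 138388, nat_lit 134204, nat_lit 2938, nat_lit 4976, nat_lit 11936, nat_lit 15216, nat_lit 18944, nat_lit 20928, nat_lit 28544, nat_lit 32256, nat_lit 33280, nat_lit 37888, nat_lit 43008, nat_lit 47040, nat_lit 41188, nat_lit 37143, nat_lit 33020, nat_lit 28768, nat_lit 24621, nat_lit 20563, nat_lit 12295, nat_lit 8200, nat_lit 4100, nat_lit 2, nat_lit 425991, nat_lit 417797, nat_lit 409603, nat_lit 401408, nat_lit 160000, nat_lit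 155904, nat_lit 151744, nat_lit 147744, nat_lit 143680, nat_lit 139320, nat_lit 131420, nat_lit 45320, nat_lit 41161, nat_lit 37281, nat_lit 4097]⟩
def ndGr4_1 : El := ⟨[nat_lit 0x9f033c5b012b9e132268a7bac54446d35422, nat_lit 0xb747884b4b308055411d053e27931661d2d7, nat_lit 0x48124e659b43a4ca22d0590262756ef0c470], [nat_lit 65536, nat_lit 69632, nat_lit 77824, nat_lit 81920, nat_lit 90112, nat_lit 98304, nat_lit 106496, nat_lit 110592, nat_lit 174080, nat_lit 170496, nat_lit 167424, nat_lit 162304, nat_lit 157568, nat_lit 154240, nat_lit 149168, nat_lit 144160, nat_lit 139396, nat_lit 138606, nat_lit 132788, nat_lit 1498, nat_lit 5596, nat_lit 10752, nat_lit 13776, nat_lit 17440, nat_lit 22656, nat_lit 24832, nat_lit 31744, nat_lit 33792, nat_lit 45932, nat_lit 40963, nat_lit 39264, nat_lit 34914, nat_lit 28788, nat_lit 24704, nat_lit 20569, nat_lit 16390, nat_lit 12294, nat_lit 8200, nat_lit 4101, nat_lit 421894, nat_lit 413700, nat_lit 405504, nat_lit 155776, nat_lit 151744,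 nat_lit 147520, nat_lit 131320, nat_lit 45065, nat_lit 41152, nat_lit 37072, nat_lit 32769, nat_lit 8193, nat_lit 4097]⟩
def ndGr4_2 : El := ⟨[nat_lit 0x2be8b8998f10b40c940a47b843a21555dae9, nat_lit 0x69f99fb10693d02b84e2f7324d416a2502e6, nat_lit 0x2d84889aab2598970d9020162c19e0f4d1cd], [nat_lit 65536, nat_lit 69632, nat_lit 73728, nat_lit 77824, nat_lit 81920, nat_lit 94208, nat_lit 110592, nat_lit 178176, nat_lit 175104, nat_lit 168448, nat_lit 167680, nat_lit 161664, nat_lit 158464, nat_lit 151808, nat_lit 149504, nat_lit 145728, nat_lit 141416, nat_lit 138568, nat_lit 132215, nat_lit 380, nat_lit 4476, nat_lit 10520, nat_lit 14672, nat_lit 16448, nat_lit 22528, nat_lit 26112, nat_lit 31744, nat_lit 36352, nat_lit 37888, nat_lit 43008, nat_lit 46244, nat_lit 43388, nat_lit 36983, nat_lit 33992, nat_lit 29733, nat_lit 24766, nat_lit 20504, nat_lit 16431, nat_lit 12325, nat_lit 8203, nat_lit 4097, nat_lit 2, nat_lit 434183, nat_lit 417797, nat_lit 401408, nat_lit 160768, nat_lit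 155776, nat_lit 151680, nat_lit 132132, nat_lit 45284, nat_lit 37024, nat_lit 32997, nat_lit 16385, nat_lit 12289, nat_lit 4097, nat_lit 327680]⟩
def ndGr4_3 : El := ⟨[nat_lit 0xb2228263515748a2550203dccb23e034da71, nat_lit 0xa9aa008d2a54cc8b6d942040c179e4eba06c, nat_lit 0x5f6cf9a9e606aaf61306872611248345bca6], [nat_lit 73728, nat_lit 81920, nat_lit 86016, nat_lit 90112, nat_lit 94208, nat_lit 98304, nat_lit 110592, nat_lit 175104, nat_lit 165120, nat_lit 155904, nat_lit 154304, nat_lit 150208, nat_lit 145976, nat_lit 140344, nat_lit 138588, nat_lit 132350, nat_lit 1574, nat_lit 8128, nat_lit 9760, nat_lit 13888, nat_lit 17856, nat_lit 21440, nat_lit 25088, nat_lit 28928, nat_lit 35328, nat_lit 37888, nat_lit 43008, nat_lit 47068, nat_lit 41161, nat_lit 37369, nat_lit 32940, nat_lit 28741, nat_lit 24587, nat_lit 20495, nat_lit 16387, nat_lit 12321, nat_lit 8194, nat_lit 4101, nat_lit 425991, nat_lit 417797, nat_lit 409603, nat_lit 401408, nat_lit 155776, nat_lit 151936, nat_lit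 147712, nat_lit 143840, nat_lit 139656, nat_lit 131396, nat_lit 45365, nat_lit 41216, nat_lit 37157, nat_lit 4097, nat_lit 327680]⟩

def gensG : List (List El) := [
  [ndGg0_0, ndGg0_1, ndGg0_2, ndGg0_3, ndGg0_4],
  [ndGg1_0, ndGg1_1, ndGg1_2, ndGg1_3, ndGg1_4],
  [ndGg2_0, ndGg2_1, ndGg2_2, ndGg2_3, ndGg2_4],
  [ndGg3_0, ndGg3_1, ndGg3_2, ndGg3_3, ndGg3_4],
  [ndGg4_0, ndGg4_1, ndGg4_2, ndGg4_3, ndGg4_4]]

def repsG : List (List (El × ℕ)) := [
  [(ndGr0_0, nat_lit 1)],
  [(ndGr1_0, nat_lit 0), (ndGr1_1, nat_lit 4), (ndGr1_2, nat_lit 3), (ndGr1_3, nat_lit 1), (ndGr1_4, nat_lit 1), (ndGr1_5, nat_lit 1), (ndGr1_6, nat_lit 2)],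
  [(ndGr2_0, nat_lit 1)],
  [(ndGr3_0, nat_lit 1), (ndGr3_1, nat_lit 3), (ndGr3_2, nat_lit 4)],
  [(ndGr4_0, nat_lit 3), (ndGr4_1, nat_lit 4), (ndGr4_2, nat_lit 4), (ndGr4_3, nat_lit 1)]]

def matG : List (List ℕ) := [
  [0, 9200, 0, 0, 0],
  [1, 1784, 1, 1782, 5632],
  [0, 9200, 0, 0, 0],
  [0, 176, 0, 4928, 4096],
  [0, 550, 0, 4050, 4600]]

end

end CF.Mon
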