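import Cfsg.Agent.Mon.Dc2
import Cfsg.Agent.Mon.NdG

set_option autoImplicit false
set_option maxRecDepth 100000

namespace CF.Mon

open CF.Comp

noncomputable section

def dcGE0 : BT El := (.node (nat_lit 4) (.node (nat_lit 2) (.node (nat_lit 1) (.leaf ⟨[], []⟩)
 (.leaf ⟨[nat_lit 0x7d8eed64d5708044a362b38ca67c936855c8, nat_lit 0x1b77823b2f2439e304d702b6d1aa85449026, nat_lit 0x77b1dea5ecc755af112290160a0cce83486b, nat_lit 0x22ede41bd2402da59da303390151c4cbd692], [nat_lit 73728, nat_lit 81920, nat_lit 90112, nat_lit 94208, nat_lit 175104, nat_lit 170496, nat_lit 165888, nat_lit 163712, nat_lit 157376, nat_lit 153504, nat_lit 150192, nat_lit 145648, nat_lit 140416, nat_lit 137128, nat_lit 132504, nat_lit 2350, nat_lit 6068, nat_lit 9544, nat_lit 13648, nat_lit 19520, nat_lit 23616, nat_lit 25728, nat_lit 30976, nat_lit 33792, nat_lit 38912, nat_lit 45718, nat_lit 41623, nat_lit 37226, nat_lit 32842, nat_lit 28768, nat_lit 24632, nat_lit 20509, nat_lit 16427, nat_lit 8193, nat_lit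 4113, nat_lit 2, nat_lit 438281, nat_lit 425991, nat_lit 417797, nat_lit 409603, nat_lit 401408, nat_lit 169984, nat_lit 165888, nat_lit 156032, nat_lit 154304, nat_lit 150432, nat_lit 143904, nat_lit 141856, nat_lit 133316, nat_lit 41833, nat_lit 4097, nat_lit 327680]⟩))
 (.node (nat_lit 3) (.leaf ⟨[nat_lit 0x82db2b5c424820a3a98ee051a29d9924aaef, nat_lit 0x9a9936159ea85c9598ca08a5066c9c75d02c, nat_lit 0x5a35a92562f3154399eeca2036489ae04970, nat_lit 0xe74ded151a7bc17691524a80ce7c50c1cc2a], [nat_lit 65536, nat_lit 69632, nat_lit 73728, nat_lit 81920, nat_lit 86016, nat_lit 94208, nat_lit 106496, nat_lit 178176, nat_lit 175104, nat_lit 168960, nat_lit 166656, nat_lit 159872, nat_lit 156864, nat_lit 152736, nat_lit 151232, nat_lit 144184, nat_lit 141148, nat_lit 135996, nat_lit 133227, nat_lit 2048, nat_lit 6144, nat_lit 10240, nat_lit 15312, nat_lit 19328, nat_lit 22848, nat_lit 26112, nat_lit 31488, nat_lit 35840, nat_lit 38912, nat_lit 46145, nat_lit 41867, nat_lit 37248, nat_lit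 33432, nat_lit 28771, nat_lit 24760, nat_lit 20493, nat_lit 16395, nat_lit 12291, nat_lit 8195, nat_lit 4097, nat_lit 438282, nat_lit 430088, nat_lit 421894, nat_lit 413700, nat_lit 401408, nat_lit 174080, nat_lit 171008, nat_lit 165376, nat_lit 161280, nat_lit 156672, nat_lit 154496, nat_lit 148032, nat_lit 139360, nat_lit 131232, nat_lit 12289, nat_lit 4097, nat_lit 327680]⟩)
 (.leaf ⟨[nat_lit 0xca05309c2cf032a132e42bb8a720d31a21aa, nat_lit 0x9fa6f5a82cd8b832b9e6a812893146c7a162, nat_lit 0xff996c405eb3808c945c21b6f4aaa064d8b3, nat_lit 0xbd78bb14512236d0514679dccc05534585cf], [nat_lit 73728, nat_lit 77824, nat_lit 86016, nat_lit 94208, nat_lit 98304, nat_lit 173056, nat_lit 170496, nat_lit 165120, nat_lit 163584, nat_lit 156928, nat_lit 153536, nat_lit 151120, nat_lit 144024, nat_lit 142908, nat_lit 135566, nat_lit 134744, nat_lit 444, nat_lit 4540, nat_lit 12120, nat_lit 12592, nat_lit 18784, nat_lit 23360, nat_lit 28160, nat_lit 30720, nat_lit 33792, nat_lit 43008, nat_lit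 45990, nat_lit 41956, nat_lit 37308, nat_lit 32942, nat_lit 29032, nat_lit 24763, nat_lit 20492, nat_lit 16459, nat_lit 12290, nat_lit 8208, nat_lit 4097, nat_lit 438282, nat_lit 430088, nat_lit 421894, nat_lit 413699, nat_lit 401408, nat_lit 164864, nat_lit 160000, nat_lit 152256, nat_lit 145184, nat_lit 141288, nat_lit 135044, nat_lit 16385, nat_lit 4097, nat_lit 327680]⟩)))
 (.node (nat_lit 6) (.node (nat_lit 5) (.leaf ⟨[nat_lit 0xbd2d7d6d533a2a4e3986482df7104058d90c, nat_lit 0xa95a0fb448101e1770c4a698a99ad9243e95, nat_lit 0x812d119882cb0d26ba80429e4f746956c10b], [nat_lit 77824, nat_lit 81920, nat_lit 86016, nat_lit 90112, nat_lit 94208, nat_lit 102400, nat_lit 106496, nat_lit 110592, nat_lit 173056, nat_lit 168960, nat_lit 164096, nat_lit 161536, nat_lit 157504, nat_lit 151712, nat_lit 148032, nat_lit 145392, nat_lit 142372, nat_lit 138894, nat_lit 134660, nat_lit 146, nat_lit 5612, nat_lit 10856, nat_lit 15936, nat_lit 16512, nat_lit 21568, nat_lit 27648, nat_lit 30464,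 nat_lit 35328, nat_lit 39936, nat_lit 43008, nat_lit 47010, nat_lit 41795, nat_lit 36928, nat_lit 34028, nat_lit 29046, nat_lit 24738, nat_lit 20492, nat_lit 16387, nat_lit 12321, nat_lit 4112, nat_lit 2, nat_lit 430087, nat_lit 417797, nat_lit 409603, nat_lit 401408, nat_lit 155776, nat_lit 152064, nat_lit 147520, nat_lit 143392, nat_lit 140016, nat_lit 131220, nat_lit 45753, nat_lit 41108, nat_lit 32800, nat_lit 4097]⟩)
 (.leaf ⟨[nat_lit 0xe1474ea3cf6081a5126b35990e1de2a2424c, nat_lit 0x8e87278a837694039c9c75bd24356cc82054, nat_lit 0xfa0c69b5e66a384a5a4f1904a043ea3241ac], [nat_lit 65536, nat_lit 69632, nat_lit 86016, nat_lit 90112, nat_lit 94208, nat_lit 170496, nat_lit 165120, nat_lit 161280, nat_lit 157632, nat_lit 152032, nat_lit 148320, nat_lit 143472, nat_lit 140132, nat_lit 137520, nat_lit 131540, nat_lit 4084, nat_lit 8180, nat_lit 11168, nat_lit 15216, nat_lit 18848, nat_lit 21824, nat_lit 27008, nat_lit 29696, nat_lit 33792, nat_lit 38912, nat_lit 43008, nat_lit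 46249, nat_lit 41798, nat_lit 38390, nat_lit 32963, nat_lit 28983, nat_lit 24628, nat_lit 20548, nat_lit 16393, nat_lit 12308, nat_lit 4097, nat_lit 2, nat_lit 434185, nat_lit 417797, nat_lit 409603, nat_lit 401408, nat_lit 168960, nat_lit 157184, nat_lit 152064, nat_lit 149088, nat_lit 145008, nat_lit 139872, nat_lit 132100, nat_lit 46080, nat_lit 32825, nat_lit 28764, nat_lit 4097]⟩))
 (.node (nat_lit 7) (.leaf ⟨[nat_lit 0x9a556365ca7a802eb363282082a2de999943, nat_lit 0xc0caf3b22a4329ae189258868f05e4c9ae07, nat_lit 0x6336a3410528c1b655d2e31df59aca065061], [nat_lit 73728, nat_lit 77824, nat_lit 98304, nat_lit 102400, nat_lit 106496, nat_lit 110592, nat_lit 171520, nat_lit 165888, nat_lit 162688, nat_lit 159424, nat_lit 154720, nat_lit 148032, nat_lit 144128, nat_lit 141376, nat_lit 138818, nat_lit 133038, nat_lit 2294, nat_lit 4224, nat_lit 10480, nat_lit 14336, nat_lit 16864, nat_lit 24128, nat_lit 26496, nat_lit 31744, nat_lit 34304, nat_lit 38912, nat_lit 43008, nat_lit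 46931, nat_lit 41050, nat_lit 39406, nat_lit 34943, nat_lit 28770, nat_lit 24737, nat_lit 20638, nat_lit 16424, nat_lit 12325, nat_lit 8194, nat_lit 4101, nat_lit 2, nat_lit 438280, nat_lit 421893, nat_lit 409603, nat_lit 401408, nat_lit 165888, nat_lit 151808, nat_lit 147744, nat_lit 143648, nat_lit 139680, nat_lit 131220, nat_lit 41148, nat_lit 36872, nat_lit 24580, nat_lit 4097, nat_lit 327680]⟩)
 (.leaf ⟨[nat_lit 0x3659cc7560329cc859149136d3786f195180, nat_lit 0xa969a593d6c2b816544e6a227582423112ed, nat_lit 0x222ebe3569050eed9bc8e28411121963ae49, nat_lit 0xb712b1b9c4a9559403a03244cd486c544d6f], [nat_lit 77824, nat_lit 81920, nat_lit 86016, nat_lit 94208, nat_lit 174080, nat_lit 167424, nat_lit 158656, nat_lit 155008, nat_lit 151072, nat_lit 146680, nat_lit 139792, nat_lit 137870, nat_lit 132217, nat_lit 3716, nat_lit 7812, nat_lit 12272, nat_lit 12800, nat_lit 16608, nat_lit 24384, nat_lit 27520, nat_lit 32000, nat_lit 33792, nat_lit 37888, nat_lit 45994, nat_lit 41559,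 nat_lit 37366, nat_lit 33352, nat_lit 28783, nat_lit 24630, nat_lit 20503, nat_lit 16421, nat_lit 8227, nat_lit 4097, nat_lit 438282, nat_lit 430087, nat_lit 417797, nat_lit 409603, nat_lit 401408, nat_lit 162304, nat_lit 158336, nat_lit 154304, nat_lit 148672, nat_lit 147072, nat_lit 142984, nat_lit 132156, nat_lit 32769, nat_lit 4097]⟩))))

theorem dcGE0_ok : dcGE0.all (elB (nat_lit 12288)) = true := by decide +kernel

def dcGE1 : BT El := (.node (nat_lit 12) (.node (nat_lit 10) (.node (nat_lit 9) (.leaf ⟨[nat_lit 0x65005a6a09662e8549eefab9460807314251, nat_lit 0xe18be44cd0e32ea23a876a46ef03241811a5, nat_lit 0xee12786126aad0768b926449a783cabb8402], [nat_lit 65536, nat_lit 69632, nat_lit 81920, nat_lit 98304, nat_lit 106496, nat_lit 178176, nat_lit 175104, nat_lit 171520, nat_lit 167680, nat_lit 161024, nat_lit 155840, nat_lit 152256, nat_lit 150000, nat_lit 144088, nat_lit 142976, nat_lit 135202, nat_lit 133141, nat_lit 378, nat_lit 6692, nat_lit 10576, nat_lit 15712, nat_lit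 17088, nat_lit 23616, nat_lit 28288, nat_lit 30976, nat_lit 39936, nat_lit 43008, nat_lit 46681, nat_lit 41561, nat_lit 37133, nat_lit 33466, nat_lit 28948, nat_lit 24605, nat_lit 20490, nat_lit 12321, nat_lit 8258, nat_lit 4100, nat_lit 434184, nat_lit 421893, nat_lit 409603, nat_lit 401408, nat_lit 160000, nat_lit 151936, nat_lit 147872, nat_lit 143792, nat_lit 140728, nat_lit 132248, nat_lit 45501, nat_lit 36868, nat_lit 4097, nat_lit 327680]⟩)
 (.leaf ⟨[nat_lit 0x22d1be4d401a396f320f620e2c2cda2bc24a, nat_lit 0x530cc83a65608c01d1516a124a864b3bed7, nat_lit 0xfafc99b250472c116055094e863dded2d443], [nat_lit 73728, nat_lit 77824, nat_lit 86016, nat_lit 90112, nat_lit 94208, nat_lit 98304, nat_lit 102400, nat_lit 106496, nat_lit 178176, nat_lit 171008, nat_lit 167680, nat_lit 162048, nat_lit 154816, nat_lit 147664, nat_lit 145384, nat_lit 139416, nat_lit 137498, nat_lit 135112, nat_lit 1524, nat_lit 5620, nat_lit 8488, nat_lit 15584, nat_lit 16768, nat_lit 24256, nat_lit 27904,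 nat_lit 30208, nat_lit 34304, nat_lit 46721, nat_lit 43753, nat_lit 37331, nat_lit 33514, nat_lit 29232, nat_lit 24710, nat_lit 20569, nat_lit 16426, nat_lit 12325, nat_lit 8211, nat_lit 4097, nat_lit 2, nat_lit 438279, nat_lit 417797, nat_lit 409603, nat_lit 401408, nat_lit 157696, nat_lit 151680, nat_lit 143424, nat_lit 139424, nat_lit 131184, nat_lit 40964, nat_lit 37092, nat_lit 32944, nat_lit 4097]⟩))
 (.node (nat_lit 11) (.leaf ⟨[nat_lit 0xbe42d414187698722dd0472eaf9d9514d001, nat_lit 0xe1dedd132d1404054d0971beb299d505b4ce, nat_lit 0x787d8420de72d113bc0cb4a84cad80e0b651], [nat_lit 65536, nat_lit 69632, nat_lit 77824, nat_lit 86016, nat_lit 90112, nat_lit 102400, nat_lit 110592, nat_lit 171520, nat_lit 167680, nat_lit 163200, nat_lit 156992, nat_lit 151776, nat_lit 148224, nat_lit 145832, nat_lit 141956, nat_lit 138238, nat_lit 134051, nat_lit 2056, nat_lit 6152, nat_lit 8624, nat_lit 13168, nat_lit 19648, nat_lit 22336, nat_lit 25472, nat_lit 32000, nat_lit 36352, nat_lit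 38912, nat_lit 43008, nat_lit 45995, nat_lit 41022, nat_lit 37072, nat_lit 32958, nat_lit 28715, nat_lit 25096, nat_lit 20510, nat_lit 16396, nat_lit 12306, nat_lit 8202, nat_lit 4097, nat_lit 2, nat_lit 425991, nat_lit 417797, nat_lit 409603, nat_lit 401408, nat_lit 155776, nat_lit 152000, nat_lit 147840, nat_lit 143552, nat_lit 139296, nat_lit 131564, nat_lit 45328, nat_lit 41285, nat_lit 37041, nat_lit 4097]⟩)
 (.leaf ndGr0_0)))
 (.node (nat_lit 14) (.node (nat_lit 13) (.leaf ⟨[nat_lit 0xca366538db3900ae5d98f08a8a85e28492a6, nat_lit 0x1b1e1e8c95371c37654a0790545a130b0ccd, nat_lit 0xe478728be75a0c0d30532122057594b610f7], [nat_lit 65536, nat_lit 69632, nat_lit 73728, nat_lit 77824, nat_lit 94208, nat_lit 98304, nat_lit 102400, nat_lit 106496, nat_lit 110592, nat_lit 178176, nat_lit 173056, nat_lit 169984, nat_lit 165376, nat_lit 163456, nat_lit 159360, nat_lit 153184, nat_lit 146496, nat_lit 141916, nat_lit 135586, nat_lit 132543, nat_lit 1406, nat_lit 4100, nat_lit 9592,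 nat_lit 15680, nat_lit 16608, nat_lit 23872, nat_lit 25600, nat_lit 30464, nat_lit 34816, nat_lit 43008, nat_lit 46043, nat_lit 41856, nat_lit 37205, nat_lit 32864, nat_lit 29794, nat_lit 24712, nat_lit 20546, nat_lit 16898, nat_lit 12290, nat_lit 8195, nat_lit 4100, nat_lit 2, nat_lit 421894, nat_lit 413700, nat_lit 405504, nat_lit 151616, nat_lit 131080, nat_lit 45089, nat_lit 40992, nat_lit 36936, nat_lit 32800, nat_lit 8193, nat_lit 4097, nat_lit 327680]⟩)
 (.leaf ⟨[nat_lit 0x3ca5a54ac9753c3169a8e1b11300aa7b40b2, nat_lit 0x9a96394d9a189486940f3409d402d977d543, nat_lit 0x4848874d0243544a7cd8d020b75d867849d1], [nat_lit 65536, nat_lit 69632, nat_lit 73728, nat_lit 86016, nat_lit 98304, nat_lit 106496, nat_lit 174080, nat_lit 167424, nat_lit 161024, nat_lit 156288, nat_lit 152192, nat_lit 149136, nat_lit 147160, nat_lit 139432, nat_lit 137302, nat_lit 131418, nat_lit 1004, nat_lit 5100, nat_lit 11896, nat_lit 13664, nat_lit 16448, nat_lit 24384, nat_lit 25216, nat_lit 30208,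 nat_lit 33792, nat_lit 39936, nat_lit 45302, nat_lit 41391, nat_lit 37077, nat_lit 32991, nat_lit 28797, nat_lit 24733, nat_lit 20573, nat_lit 16416, nat_lit 12289, nat_lit 8208, nat_lit 4097, nat_lit 430086, nat_lit 413700, nat_lit 405504, nat_lit 156160, nat_lit 152128, nat_lit 148064, nat_lit 143392, nat_lit 131128, nat_lit 45065, nat_lit 41561, nat_lit 32825, nat_lit 28761, nat_lit 8193, nat_lit 4097]⟩))
 (.node (nat_lit 15) (.leaf ⟨[nat_lit 0xa0393fa19cb554ac7a0f69c811236e908a03, nat_lit 0x2417b79d86291c97736154b0c14517178145, nat_lit 0x41e7e268cee8d58a9c8a04d1f035ec14088b, nat_lit 0xdb7ed4648ab8c05403dd6699330aae8a9c83], [nat_lit 65536, nat_lit 69632, nat_lit 73728, nat_lit 77824, nat_lit 86016, nat_lit 90112, nat_lit 98304, nat_lit 106496, nat_lit 173056, nat_lit 171008, nat_lit 166400, nat_lit 162048, nat_lit 158592, nat_lit 153568, nat_lit 150624, nat_lit 147080, nat_lit 140536, nat_lit 136178, nat_lit 133449, nat_lit 488, nat_lit 4584, nat_lit 8680, nat_lit 12864,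 nat_lit 18336, nat_lit 24448, nat_lit 28288, nat_lit 32000, nat_lit 33792, nat_lit 38912, nat_lit 46496, nat_lit 41792, nat_lit 38251, nat_lit 33991, nat_lit 29041, nat_lit 24600, nat_lit 20484, nat_lit 16388, nat_lit 12289, nat_lit 8193, nat_lit 4097, nat_lit 2, nat_lit 438282, nat_lit 430088, nat_lit 421894, nat_lit 413700, nat_lit 405504, nat_lit 174080, nat_lit 169984, nat_lit 166912, nat_lit 162048, nat_lit 157568, nat_lit 154240, nat_lit 151072, nat_lit 145328, nat_lit 134720, nat_lit 8193, nat_lit 4097, nat_lit 327680]⟩)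
 (.leaf ⟨[nat_lit 0x6fcf6695e8b0cc4969415330767a9d0220f1, nat_lit 0xebd24414666a90160ad4545e4c4d20d73ce3, nat_lit 0xfac03c03d6dbc5c79864a61a1449065b5448, nat_lit 0xf6c90921820bbead659d48a9128266b38c45], [nat_lit 65536, nat_lit 69632, nat_lit 73728, nat_lit 81920, nat_lit 102400, nat_lit 159872, nat_lit 154496, nat_lit 150416, nat_lit 143440, nat_lit 142480, nat_lit 137852, nat_lit 132728, nat_lit 2062, nat_lit 4100, nat_lit 10248, nat_lit 14464, nat_lit 16672, nat_lit 24128, nat_lit 27392, nat_lit 30720, nat_lit 38912, nat_lit 45158, nat_lit 41845, nat_lit 37368, nat_lit 32963, nat_lit 29025, nat_lit 24873, nat_lit 12293, nat_lit 8195, nat_lit 4100, nat_lit 438282, nat_lit 430088, nat_lit 421894, nat_lit 413700, nat_lit 405504, nat_lit 174080, nat_lit 168960, nat_lit 164864, nat_lit 163584, nat_lit 159488, nat_lit 151808, nat_lit 150368, nat_lit 144576, nat_lit 134152, nat_lit 8193, nat_lit 4097]⟩))))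

theorem dcGE1_ok : dcGE1.all (elB (nat_lit 12288)) = true := by decide +kernel

def dcGE2 : BT El := (.node (nat_lit 20) (.node (nat_lit 18) (.node (nat_lit 17) (.leaf ⟨[nat_lit 0x99a3a6290c7008235a54884e516b1eebdab4, nat_lit 0x6c6c9a10525820d2a3c71b5d47682b362dc4, nat_lit 0xd722d89c1f2aa8674828511acb7362cba024, nat_lit 0xc930509828f51dcc82645320221d5b1592d7], [nat_lit 65536, nat_lit 69632, nat_lit 73728, nat_lit 81920, nat_lit 86016, nat_lit 102400, nat_lit 175104, nat_lit 171520, nat_lit 166144, nat_lit 162688, nat_lit 157184, nat_lit 155552, nat_lit 150624, nat_lit 140212, nat_lit 137044, nat_lit 133793, nat_lit 2086, nat_lit 4100, nat_lit 10272, nat_lit 13024, nat_lit 18464, nat_lit 23552, nat_lit 26752, nat_lit 31232, nat_lit 36352, nat_lit 37888, nat_lit 43008, nat_lit 45058, nat_lit 41279, nat_lit 37038, nat_lit 33898, nat_lit 29198, nat_lit 24615, nat_lit 20544, nat_lit 12803, nat_lit 8195, nat_lit 4100, nat_lit 438282, nat_lit 430088, nat_lit 421894, nat_lit 413700,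 nat_lit 405504, nat_lit 168960, nat_lit 160256, nat_lit 155776, nat_lit 148032, nat_lit 145328, nat_lit 134720, nat_lit 8193, nat_lit 4097]⟩)
 (.leaf ⟨[nat_lit 0x2777112456d548aebd6c33c189a04027cd06, nat_lit 0xe781b8a05c9b344850d978925031cb3aade0, nat_lit 0xe1e27815150982ab92476735840c6e8798a7], [nat_lit 65536, nat_lit 69632, nat_lit 73728, nat_lit 77824, nat_lit 94208, nat_lit 110592, nat_lit 178176, nat_lit 174080, nat_lit 165632, nat_lit 160256, nat_lit 159040, nat_lit 153088, nat_lit 148080, nat_lit 143888, nat_lit 139348, nat_lit 139096, nat_lit 134676, nat_lit 2550, nat_lit 4100, nat_lit 10736, nat_lit 13936, nat_lit 19520, nat_lit 22208, nat_lit 27392, nat_lit 31744, nat_lit 39936, nat_lit 43008, nat_lit 45459, nat_lit 41170, nat_lit 36883, nat_lit 35013, nat_lit 29699, nat_lit 24627, nat_lit 20508, nat_lit 16426, nat_lit 12292, nat_lit 8195, nat_lit 4100, nat_lit 2, nat_lit 430088, nat_lit 421893, nat_lit 405504, nat_lit 164352, nat_lit 160256, nat_lit 152064, nat_lit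 143392, nat_lit 131360, nat_lit 45313, nat_lit 41889, nat_lit 24577, nat_lit 16385, nat_lit 8193, nat_lit 4097, nat_lit 327680]⟩))
 (.node (nat_lit 19) (.leaf ⟨[nat_lit 0x93c6a3958f4344415aa651d50d7013723e0c, nat_lit 0x1718db7ae6742ae231415a40311b5962492e, nat_lit 0xe1de2204e2d721425d8b0abc74098ec926e4, nat_lit 0x7bde7808e8b708d0281937dd0d492c7aca2a], [nat_lit 86016, nat_lit 90112, nat_lit 98304, nat_lit 106496, nat_lit 110592, nat_lit 178176, nat_lit 173056, nat_lit 169472, nat_lit 164864, nat_lit 162944, nat_lit 158144, nat_lit 154880, nat_lit 151232, nat_lit 145656, nat_lit 140028, nat_lit 135430, nat_lit 132431, nat_lit 3072, nat_lit 7168, nat_lit 11264, nat_lit 13456, nat_lit 16576, nat_lit 24512, nat_lit 25728, nat_lit 32512, nat_lit 33792, nat_lit 43008, nat_lit 45175, nat_lit 41015, nat_lit 37297, nat_lit 33010, nat_lit 29012, nat_lit 24591, nat_lit 20618, nat_lit 16652, nat_lit 12295, nat_lit 8193, nat_lit 4097, nat_lit 2, nat_lit 438282, nat_lit 430088, nat_lit 421894,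 nat_lit 413700, nat_lit 405504, nat_lit 174080, nat_lit 171008, nat_lit 164352, nat_lit 163072, nat_lit 158720, nat_lit 155200, nat_lit 148256, nat_lit 145056, nat_lit 131328, nat_lit 8193, nat_lit 4097, nat_lit 327680]⟩)
 (.leaf ⟨[nat_lit 0xa9cc9328600a1ab16124d5dc4f3a153726c3, nat_lit 0x8d178e6c047a5ecb0962e24c0f4d54893066, nat_lit 0xcf603a48448890f31ad40bb2af6d1d629a12], [nat_lit 86016, nat_lit 94208, nat_lit 98304, nat_lit 106496, nat_lit 174080, nat_lit 169472, nat_lit 165632, nat_lit 160512, nat_lit 158144, nat_lit 155584, nat_lit 150928, nat_lit 145312, nat_lit 139384, nat_lit 136016, nat_lit 134504, nat_lit 2, nat_lit 4100, nat_lit 11376, nat_lit 15120, nat_lit 16832, nat_lit 21696, nat_lit 27392, nat_lit 29952, nat_lit 34304, nat_lit 37888, nat_lit 45555, nat_lit 41785, nat_lit 37069, nat_lit 33999, nat_lit 29038, nat_lit 24888, nat_lit 20488, nat_lit 16516, nat_lit 12291, nat_lit 8195, nat_lit 4100, nat_lit 2, nat_lit 434184, nat_lit 421894, nat_lit 413700, nat_lit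 160000, nat_lit 152576, nat_lit 148960, nat_lit 45120, nat_lit 327680]⟩)))
 (.node (nat_lit 22) (.node (nat_lit 21) (.leaf ⟨[nat_lit 0xe1d12da00b2b12230894e430c7bb6ab7cd30, nat_lit 0xe8e7db725f2590f3456161c40a330546dc25, nat_lit 0x3afa3f1250c311a09aa850ddf53ae5674223, nat_lit 0xee48b1990464dde505ab10c9ae650eb1a150], [nat_lit 94208, nat_lit 98304, nat_lit 102400, nat_lit 173056, nat_lit 164608, nat_lit 160256, nat_lit 155712, nat_lit 152160, nat_lit 147536, nat_lit 143392, nat_lit 140848, nat_lit 136218, nat_lit 131882, nat_lit 22, nat_lit 4100, nat_lit 8208, nat_lit 16512, nat_lit 23744, nat_lit 27520, nat_lit 33792, nat_lit 43008, nat_lit 45789, nat_lit 41359, nat_lit 37045, nat_lit 32808, nat_lit 28703, nat_lit 24579, nat_lit 20498, nat_lit 16386, nat_lit 12416, nat_lit 8195, nat_lit 4100, nat_lit 2, nat_lit 438282, nat_lit 430088, nat_lit 421894, nat_lit 413700, nat_lit 405504, nat_lit 174080, nat_lit 167424, nat_lit 161024, nat_lit 158848, nat_lit 152256, nat_lit 149664,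 nat_lit 147072, nat_lit 133616, nat_lit 8193, nat_lit 4097, nat_lit 327680]⟩)
 (.leaf ⟨[nat_lit 0x1d1bb28da4a4399469a630bcb000aeb226a7, nat_lit 0xb8742d9bc748b6a05a5463a08565c5093ac1, nat_lit 0x1282d1a54ceb44692426f9051769c022a98b], [nat_lit 77824, nat_lit 81920, nat_lit 90112, nat_lit 98304, nat_lit 102400, nat_lit 106496, nat_lit 178176, nat_lit 174080, nat_lit 170496, nat_lit 165120, nat_lit 161408, nat_lit 159296, nat_lit 153792, nat_lit 148512, nat_lit 144720, nat_lit 141160, nat_lit 137546, nat_lit 132675, nat_lit 1534, nat_lit 4100, nat_lit 9720, nat_lit 13040, nat_lit 17984, nat_lit 23808, nat_lit 27776, nat_lit 29696, nat_lit 35328, nat_lit 46125, nat_lit 43428, nat_lit 37169, nat_lit 32951, nat_lit 28716, nat_lit 24622, nat_lit 20573, nat_lit 16388, nat_lit 12295, nat_lit 8195, nat_lit 4100, nat_lit 430087, nat_lit 417796, nat_lit 405504, nat_lit 160256, nat_lit 155776, nat_lit 148096, nat_lit 143568, nat_lit 131784, nat_lit 45121, nat_lit 41112, nat_lit 32857, nat_lit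 20481, nat_lit 8193, nat_lit 4097]⟩))
 (.node (nat_lit 23) (.leaf ndGr1_4)
 (.leaf ⟨[nat_lit 0x41e7e2b9dccb2c8a342911266d90d0f0d4a0, nat_lit 0xe27dde5bce22da2445d533052d742ac90283, nat_lit 0x56695a75e1131e8c2097390105a846f525b6, nat_lit 0xc53fc09062acd6f53ad14c1b792194380a6], [nat_lit 73728, nat_lit 81920, nat_lit 90112, nat_lit 94208, nat_lit 98304, nat_lit 102400, nat_lit 106496, nat_lit 110592, nat_lit 173056, nat_lit 167680, nat_lit 162944, nat_lit 157312, nat_lit 155328, nat_lit 149248, nat_lit 146392, nat_lit 141380, nat_lit 138538, nat_lit 132931, nat_lit 1136, nat_lit 5232, nat_lit 9328, nat_lit 15312, nat_lit 20416, nat_lit 22912, nat_lit 26112, nat_lit 29952, nat_lit 33280, nat_lit 37888, nat_lit 43008, nat_lit 46659, nat_lit 41861, nat_lit 36918, nat_lit 32992, nat_lit 29013, nat_lit 24613, nat_lit 20563, nat_lit 16429, nat_lit 12289, nat_lit 8194, nat_lit 4097, nat_lit 438282, nat_lit 430088, nat_lit 421894, nat_lit 413700, nat_lit 405504, nat_lit 174080, nat_lit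 169984, nat_lit 165888, nat_lit 161536, nat_lit 155904, nat_lit 153088, nat_lit 149856, nat_lit 144448, nat_lit 132456, nat_lit 8193, nat_lit 4097]⟩))))

theorem dcGE2_ok : dcGE2.all (elB (nat_lit 12288)) = true := by decide +kernel

def dcGE3 : BT El := (.node (nat_lit 28) (.node (nat_lit 26) (.node (nat_lit 25) (.leaf ndGr1_3)
 (.leaf ⟨[nat_lit 0x99099f8dd68329c33ca84289a9acc01b320f, nat_lit 0xee2edd82ee478ce614dd1429a0916c90b2b4, nat_lit 0x21d77440542339871ac09691e595a75a5e11], [nat_lit 77824, nat_lit 81920, nat_lit 86016, nat_lit 90112, nat_lit 102400, nat_lit 106496, nat_lit 173056, nat_lit 165120, nat_lit 159872, nat_lit 155968, nat_lit 152096, nat_lit 147520, nat_lit 143392, nat_lit 142492, nat_lit 135468, nat_lit 134704, nat_lit 1424, nat_lit 5520, nat_lit 10000, nat_lit 12496, nat_lit 16832, nat_lit 22016, nat_lit 27392, nat_lit 28928, nat_lit 33280, nat_lit 39936, nat_lit 43008, nat_lit 46121, nat_lit 43590, nat_lit 38347, nat_lit 33333, nat_lit 28775, nat_lit 24760,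 nat_lit 20507, nat_lit 16417, nat_lit 12305, nat_lit 8195, nat_lit 4097, nat_lit 438279, nat_lit 417797, nat_lit 409603, nat_lit 401408, nat_lit 143440, nat_lit 139288, nat_lit 133224, nat_lit 40988, nat_lit 32852, nat_lit 4097]⟩))
 (.node (nat_lit 27) (.leaf ndGr1_6)
 (.leaf ⟨[nat_lit 0x5955f07c5558268c9b97628c866de48004e2, nat_lit 0x55060cbb47359802648358a0f07b88a2d934, nat_lit 0xb847781152ebd6149c6560b16403ce8329a3, nat_lit 0x1818d4458078ce4fa114228d77a98296b1d0], [nat_lit 77824, nat_lit 81920, nat_lit 86016, nat_lit 94208, nat_lit 102400, nat_lit 106496, nat_lit 178176, nat_lit 175104, nat_lit 168448, nat_lit 165632, nat_lit 161536, nat_lit 158464, nat_lit 153824, nat_lit 149728, nat_lit 143792, nat_lit 143236, nat_lit 138084, nat_lit 132208, nat_lit 3856, nat_lit 7952, nat_lit 12048, nat_lit 16144, nat_lit 18912, nat_lit 22080, nat_lit 28416, nat_lit 29184, nat_lit 34304, nat_lit 38912, nat_lit 43008, nat_lit 47014, nat_lit 41504, nat_lit 37363, nat_lit 32819, nat_lit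 28720, nat_lit 25123, nat_lit 20507, nat_lit 16390, nat_lit 12325, nat_lit 8193, nat_lit 4097, nat_lit 438282, nat_lit 430088, nat_lit 421894, nat_lit 413700, nat_lit 405504, nat_lit 169984, nat_lit 164352, nat_lit 160256, nat_lit 155904, nat_lit 151616, nat_lit 147968, nat_lit 144432, nat_lit 131912, nat_lit 8193, nat_lit 4097, nat_lit 327680]⟩)))
 (.node (nat_lit 30) (.node (nat_lit 29) (.leaf ⟨[nat_lit 0x74e2d2a1d569c8ab8bee36a5868542e40804, nat_lit 0x565a0f8a4c57c1cb1a013092cd3b2a2bc954, nat_lit 0xc09f359d6080d06928a2f62aee6c8065d8e4, nat_lit 0xf9c6f658901312d7396b46cd907464f02869], [nat_lit 81920, nat_lit 86016, nat_lit 94208, nat_lit 98304, nat_lit 102400, nat_lit 178176, nat_lit 174080, nat_lit 170496, nat_lit 165888, nat_lit 161536, nat_lit 155904, nat_lit 153088, nat_lit 149872, nat_lit 144456, nat_lit 140324, nat_lit 139228, nat_lit 134803, nat_lit 256, nat_lit 4352, nat_lit 8448, nat_lit 15968, nat_lit 20032, nat_lit 24512, nat_lit 25472, nat_lit 30976, nat_lit 34816,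 nat_lit 39936, nat_lit 43008, nat_lit 46723, nat_lit 41539, nat_lit 37187, nat_lit 33015, nat_lit 28675, nat_lit 24882, nat_lit 20488, nat_lit 16392, nat_lit 12294, nat_lit 8193, nat_lit 4097, nat_lit 2, nat_lit 438282, nat_lit 430088, nat_lit 421894, nat_lit 413700, nat_lit 405504, nat_lit 166912, nat_lit 160000, nat_lit 158464, nat_lit 151808, nat_lit 151456, nat_lit 144720, nat_lit 134552, nat_lit 8193, nat_lit 4097, nat_lit 327680]⟩)
 (.leaf ⟨[nat_lit 0x9653598954b7d008304534b2c3bd4f02364e, nat_lit 0x9f0c338cdd2506e7641afaa064126c532e80, nat_lit 0xf90553a80479a18325d690a9f1858b2335d4], [nat_lit 65536, nat_lit 69632, nat_lit 73728, nat_lit 94208, nat_lit 102400, nat_lit 106496, nat_lit 110592, nat_lit 178176, nat_lit 175104, nat_lit 170496, nat_lit 164864, nat_lit 159872, nat_lit 156160, nat_lit 153504, nat_lit 148928, nat_lit 145760, nat_lit 140752, nat_lit 136554, nat_lit 132414, nat_lit 1866, nat_lit 4100, nat_lit 11376, nat_lit 16064, nat_lit 20000, nat_lit 20608, nat_lit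 25472, nat_lit 31488, nat_lit 36352, nat_lit 38912, nat_lit 43008, nat_lit 45731, nat_lit 41823, nat_lit 38144, nat_lit 33928, nat_lit 29011, nat_lit 24607, nat_lit 22542, nat_lit 16395, nat_lit 12305, nat_lit 8226, nat_lit 4100, nat_lit 421894, nat_lit 413700, nat_lit 405504, nat_lit 155776, nat_lit 143552, nat_lit 131280, nat_lit 45168, nat_lit 40961, nat_lit 36865, nat_lit 32960, nat_lit 8193, nat_lit 4097, nat_lit 327680]⟩))
 (.node (nat_lit 31) (.leaf ⟨[nat_lit 0x788284449a7ad8749b08ab84405c1e5345c9, nat_lit 0x142d442d804aad413cd89bb5c21ca3483d06, nat_lit 0xcf6353aeceab52508a608c07243e86bb144, nat_lit 0xfc06ca245b3b50ee2b043bc809806aa32de8], [nat_lit 86016, nat_lit 94208, nat_lit 98304, nat_lit 110592, nat_lit 178176, nat_lit 174080, nat_lit 169984, nat_lit 166144, nat_lit 161536, nat_lit 155904, nat_lit 153088, nat_lit 149856, nat_lit 144456, nat_lit 141136, nat_lit 136008, nat_lit 131442, nat_lit 2182, nat_lit 4100, nat_lit 10368, nat_lit 13264, nat_lit 20064, nat_lit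 20608, nat_lit 28416, nat_lit 29952, nat_lit 34304, nat_lit 43008, nat_lit 45130, nat_lit 41509, nat_lit 38080, nat_lit 32907, nat_lit 28728, nat_lit 24597, nat_lit 20492, nat_lit 16460, nat_lit 12291, nat_lit 8195, nat_lit 4100, nat_lit 438282, nat_lit 430088, nat_lit 421894, nat_lit 413700, nat_lit 405504, nat_lit 165376, nat_lit 160256, nat_lit 157312, nat_lit 152896, nat_lit 144576, nat_lit 134152, nat_lit 8193, nat_lit 4097, nat_lit 327680]⟩)
 (.leaf ndGr2_0))))

theorem dcGE3_ok : dcGE3.all (elB (nat_lit 12288)) = true := by decide +kernel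

def dcGE4 : BT El := (.node (nat_lit 36) (.node (nat_lit 34) (.node (nat_lit 33) (.leaf ⟨[nat_lit 0x74de880a2154cc740104e3c9912b6f67ad46, nat_lit 0x7e7828b3d603a550648ae3442324e976a2a2, nat_lit 0x11212d0264d4594519834ab1e7992378096e, nat_lit 0xfa5950341621d1c17ced202227690b5ba989], [nat_lit 65536, nat_lit 69632, nat_lit 81920, nat_lit 86016, nat_lit 90112, nat_lit 94208, nat_lit 106496, nat_lit 110592, nat_lit 168448, nat_lit 167424, nat_lit 159680, nat_lit 152768, nat_lit 147904, nat_lit 146264, nat_lit 140848, nat_lit 135634, nat_lit 133913, nat_lit 1024, nat_lit 5120, nat_lit 9216, nat_lit 13152, nat_lit 17728, nat_lit 24000, nat_lit 27904, nat_lit 31232, nat_lit 34816, nat_lit 39936, nat_lit 45125, nat_lit 41510, nat_lit 37155, nat_lit 33512, nat_lit 28717, nat_lit 24867, nat_lit 20575, nat_lit 16423, nat_lit 8193, nat_lit 4097, nat_lit 2, nat_lit 438282, nat_lit 430088, nat_lit 421894, nat_lit 413700, nat_lit 405504, nat_lit 174080, nat_lit 171008, nat_lit 167424, nat_lit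 160768, nat_lit 155776, nat_lit 152896, nat_lit 150720, nat_lit 145168, nat_lit 133072, nat_lit 8193, nat_lit 4097]⟩)
 (.leaf ⟨[nat_lit 0xd4e7485369535c703ade42c4567267260101, nat_lit 0x65a593191c95c2aa63656980540bcc8894f7, nat_lit 0xbb1b7b5a2e21c2552b5313103699d4f03a8c, nat_lit 0xc930af810014ae6653e83455c26964c89ef6], [nat_lit 77824, nat_lit 81920, nat_lit 94208, nat_lit 106496, nat_lit 110592, nat_lit 174080, nat_lit 168448, nat_lit 166656, nat_lit 163456, nat_lit 156672, nat_lit 153632, nat_lit 151248, nat_lit 144848, nat_lit 139472, nat_lit 136092, nat_lit 133850, nat_lit 1246, nat_lit 7688, nat_lit 12208, nat_lit 15200, nat_lit 18304, nat_lit 24128, nat_lit 25344, nat_lit 29440, nat_lit 36352, nat_lit 37888, nat_lit 46375, nat_lit 41673, nat_lit 37046, nat_lit 32923, nat_lit 28979, nat_lit 24599, nat_lit 20635, nat_lit 12294, nat_lit 8193, nat_lit 4105, nat_lit 434185, nat_lit 425991, nat_lit 417797, nat_lit 409603, nat_lit 401408, nat_lit 168960, nat_lit 161280, nat_lit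 157440, nat_lit 153216, nat_lit 148032, nat_lit 145344, nat_lit 139360, nat_lit 132640, nat_lit 45057, nat_lit 4097, nat_lit 327680]⟩))
 (.node (nat_lit 35) (.leaf ⟨[nat_lit 0x72d42b7c0b752503b3a6712c01648d58d1a4, nat_lit 0x6a559300a16ba269916a7534266106ba39f1, nat_lit 0xde287430e28a844d4cc0555d6e3d88ca3e12], [nat_lit 77824, nat_lit 98304, nat_lit 110592, nat_lit 174080, nat_lit 171008, nat_lit 166400, nat_lit 162560, nat_lit 159488, nat_lit 151712, nat_lit 151392, nat_lit 145568, nat_lit 142376, nat_lit 135996, nat_lit 131429, nat_lit 698, nat_lit 5432, nat_lit 11240, nat_lit 13600, nat_lit 18400, nat_lit 20544, nat_lit 32256, nat_lit 33792, nat_lit 39936, nat_lit 45262, nat_lit 41531, nat_lit 38219, nat_lit 32819, nat_lit 28745, nat_lit 24720, nat_lit 20510, nat_lit 16385, nat_lit 12291, nat_lit 8225, nat_lit 4100, nat_lit 434184, nat_lit 421893, nat_lit 409603, nat_lit 401408, nat_lit 161024, nat_lit 152832, nat_lit 147712, nat_lit 144768, nat_lit 139400, nat_lit 45328,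 nat_lit 24580, nat_lit 4097]⟩)
 (.leaf ⟨[nat_lit 0x777d8b7416ab20a26062031db3952ef4d483, nat_lit 0x841ddd1d6e60ad257a2d36088e0464783554, nat_lit 0xd21d1b534f142c3660eae2a5f3112e695010, nat_lit 0x7814e7b5126786f02ac4061daaab87122253], [nat_lit 73728, nat_lit 81920, nat_lit 102400, nat_lit 106496, nat_lit 110592, nat_lit 178176, nat_lit 173056, nat_lit 171008, nat_lit 160896, nat_lit 157120, nat_lit 153312, nat_lit 150224, nat_lit 144672, nat_lit 141312, nat_lit 139184, nat_lit 134076, nat_lit 2858, nat_lit 7816, nat_lit 11680, nat_lit 15280, nat_lit 19488, nat_lit 23680, nat_lit 25728, nat_lit 32000, nat_lit 46766, nat_lit 41610, nat_lit 36889, nat_lit 32770, nat_lit 28780, nat_lit 24621, nat_lit 20511, nat_lit 16393, nat_lit 8225, nat_lit 4101, nat_lit 2, nat_lit 434185, nat_lit 425991, nat_lit 417797, nat_lit 409603, nat_lit 401408, nat_lit 164864, nat_lit 160000, nat_lit 152256, nat_lit 147840, nat_lit 143696, nat_lit 141288, nat_lit 132548, nat_lit 46040, nat_lit 4097]⟩)))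
 (.node (nat_lit 38) (.node (nat_lit 37) (.leaf ⟨[nat_lit 0x7d8eedb84096596d54255744c27cce321514, nat_lit 0xebb4d7bb4d2215033d1f3805710298e15935, nat_lit 0xca9c5ca4a283aee472acc985a533c70aa402], [nat_lit 65536, nat_lit 69632, nat_lit 73728, nat_lit 77824, nat_lit 94208, nat_lit 98304, nat_lit 110592, nat_lit 169472, nat_lit 161920, nat_lit 158976, nat_lit 152192, nat_lit 149744, nat_lit 147376, nat_lit 140308, nat_lit 136614, nat_lit 132978, nat_lit 1020, nat_lit 5116, nat_lit 10136, nat_lit 14160, nat_lit 18528, nat_lit 22272, nat_lit 27264, nat_lit 29696, nat_lit 33280, nat_lit 39936, nat_lit 46275, nat_lit 43872, nat_lit 36999, nat_lit 33872, nat_lit 28994, nat_lit 24860, nat_lit 20560, nat_lit 16416, nat_lit 12307, nat_lit 8201, nat_lit 4097, nat_lit 438281, nat_lit 421894, nat_lit 409603, nat_lit 401408, nat_lit 169984, nat_lit 160256, nat_lit 157824, nat_lit 148032, nat_lit 145616, nat_lit 141896, nat_lit 131800, nat_lit 41680, nat_lit 32832, nat_lit 4097, nat_lit 327680]⟩)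
 (.leaf ⟨[nat_lit 0x2b7e2484ea2b9827551602be284b09270ecd, nat_lit 0xfa3fc38bc642d5465ba8c385b24ce16b8102, nat_lit 0xc6305f454b4849447b4c903ad31c59712c27, nat_lit 0x874ed1228127dca79da0e10db50a0d14ad94], [nat_lit 65536, nat_lit 69632, nat_lit 81920, nat_lit 86016, nat_lit 90112, nat_lit 102400, nat_lit 178176, nat_lit 163200, nat_lit 155776, nat_lit 154688, nat_lit 151440, nat_lit 144480, nat_lit 141660, nat_lit 137484, nat_lit 133906, nat_lit 64, nat_lit 4160, nat_lit 10848, nat_lit 14112, nat_lit 16864, nat_lit 22464, nat_lit 24704, nat_lit 31232, nat_lit 34304, nat_lit 39936, nat_lit 45612, nat_lit 41889, nat_lit 37975, nat_lit 33517, nat_lit 28739, nat_lit 24624, nat_lit 20501, nat_lit 16398, nat_lit 12291, nat_lit 8194, nat_lit 4097, nat_lit 2, nat_lit 438281, nat_lit 425991, nat_lit 417797, nat_lit 409603, nat_lit 401408, nat_lit 160512, nat_lit 152000, nat_lit 150272, nat_lit 143632, nat_lit 140160, nat_lit 41412, nat_lit 4097, nat_lit 327680]⟩))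
 (.node (nat_lit 39) (.leaf ⟨[nat_lit 0xc3aa5571d8b9a0b119809baac47c0550b654, nat_lit 0x77b1de2a64408d533d04d7a191301d55ded0, nat_lit 0x6fc0962dc697c14889dc4b51b332c3593040, nat_lit 0x59cc634dc485c5a53d06685a607d58122a4e], [nat_lit 94208, nat_lit 102400, nat_lit 106496, nat_lit 178176, nat_lit 173056, nat_lit 169472, nat_lit 165120, nat_lit 162816, nat_lit 156544, nat_lit 152768, nat_lit 150784, nat_lit 146584, nat_lit 141468, nat_lit 137928, nat_lit 131965, nat_lit 3202, nat_lit 4580, nat_lit 9984, nat_lit 15792, nat_lit 19072, nat_lit 21824, nat_lit 25856, nat_lit 31744, nat_lit 36352, nat_lit 38912, nat_lit 45286, nat_lit 41255, nat_lit 36964, nat_lit 33804, nat_lit 28767, nat_lit 24740, nat_lit 20544, nat_lit 16420, nat_lit 12305, nat_lit 8201, nat_lit 4100, nat_lit 2, nat_lit 438281, nat_lit 425991, nat_lit 417797, nat_lit 409603, nat_lit 401408, nat_lit 169984, nat_lit 165888, nat_lit 162048, nat_lit 156544, nat_lit 154240, nat_lit 150464, nat_lit 144176, nat_lit 139808,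 nat_lit 133436, nat_lit 41412, nat_lit 4097, nat_lit 327680]⟩)
 (.leaf ndGr1_5))))

theorem dcGE4_ok : dcGE4.all (elB (nat_lit 12288)) = true := by decide +kernel

def dcGE5 : BT El := (.node (nat_lit 44) (.node (nat_lit 42) (.node (nat_lit 41) (.leaf ⟨[nat_lit 0x11b8be8ac41251a0b26b09a8c543dd23dc6c, nat_lit 0x930af678485a48cb4344a81d35bd86c8826e, nat_lit 0x1d7dde4d4567d0f36de46195045c6017018a, nat_lit 0x4d7744b2a41122b33b060bd08d83e2572cc9], [nat_lit 65536, nat_lit 69632, nat_lit 73728, nat_lit 94208, nat_lit 102400, nat_lit 169472, nat_lit 164608, nat_lit 161536, nat_lit 156352, nat_lit 155232, nat_lit 147744, nat_lit 144768, nat_lit 141608, nat_lit 135592, nat_lit 133803, nat_lit 318, nat_lit 4408, nat_lit 8504, nat_lit 13616, nat_lit 19456, nat_lit 21056, nat_lit 27904, nat_lit 31488, nat_lit 34304, nat_lit 43008, nat_lit 47069, nat_lit 41733, nat_lit 37131, nat_lit 33018, nat_lit 29031, nat_lit 24590, nat_lit 20762, nat_lit 16395, nat_lit 12293, nat_lit 8194, nat_lit 4101,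 nat_lit 2, nat_lit 438282, nat_lit 430088, nat_lit 421894, nat_lit 413700, nat_lit 405504, nat_lit 164352, nat_lit 157056, nat_lit 151616, nat_lit 144720, nat_lit 131624, nat_lit 8193, nat_lit 4097, nat_lit 327680]⟩)
 (.leaf ndGr1_2))
 (.node (nat_lit 43) (.leaf ⟨[nat_lit 0x5f05653b8a88ad93baa8d13c09910361c0d5, nat_lit 0x1b777d6541090dd48b6e20d9f3228c72ad28, nat_lit 0x11741498537a0a4b23ab68c0ac43546780e3], [nat_lit 65536, nat_lit 69632, nat_lit 73728, nat_lit 81920, nat_lit 90112, nat_lit 94208, nat_lit 106496, nat_lit 178176, nat_lit 174080, nat_lit 164608, nat_lit 163456, nat_lit 158592, nat_lit 151936, nat_lit 149728, nat_lit 146616, nat_lit 139932, nat_lit 137864, nat_lit 132491, nat_lit 1952, nat_lit 6048, nat_lit 10144, nat_lit 13376, nat_lit 18144, nat_lit 22656, nat_lit 25600, nat_lit 32512, nat_lit 43008, nat_lit 45543, nat_lit 41767, nat_lit 36982, nat_lit 32848, nat_lit 28678, nat_lit 24635, nat_lit 20574, nat_lit 16392, nat_lit 12289, nat_lit 8193, nat_lit 4097,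 nat_lit 2, nat_lit 425991, nat_lit 417797, nat_lit 405504, nat_lit 160000, nat_lit 155776, nat_lit 151680, nat_lit 143520, nat_lit 131080, nat_lit 45057, nat_lit 41409, nat_lit 37032, nat_lit 16385, nat_lit 8193, nat_lit 4097]⟩)
 (.leaf ⟨[nat_lit 0x7ee1444dc887d9a72d020846a65cd8313a4a, nat_lit 0xb1b22b2a6b3891746804151ad060dcf922e7, nat_lit 0x5c95cc356499862f68af63ae9052183038a4], [nat_lit 81920, nat_lit 90112, nat_lit 98304, nat_lit 102400, nat_lit 174080, nat_lit 169984, nat_lit 165120, nat_lit 160384, nat_lit 157952, nat_lit 152128, nat_lit 151344, nat_lit 141960, nat_lit 136734, nat_lit 132226, nat_lit 2170, nat_lit 4100, nat_lit 10960, nat_lit 14448, nat_lit 19840, nat_lit 23424, nat_lit 25984, nat_lit 29696, nat_lit 35840, nat_lit 38912, nat_lit 45499, nat_lit 41097, nat_lit 36880, nat_lit 34918, nat_lit 28947, nat_lit 24582, nat_lit 22559, nat_lit 16650, nat_lit 12292, nat_lit 8203, nat_lit 4100, nat_lit 425991, nat_lit 413700, nat_lit 405504, nat_lit 160000, nat_lit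 147584, nat_lit 143760, nat_lit 131376, nat_lit 45185, nat_lit 41137, nat_lit 37273, nat_lit 24577, nat_lit 8193, nat_lit 4097]⟩)))
 (.node (nat_lit 46) (.node (nat_lit 45) (.leaf ⟨[nat_lit 0x227b87352ec23d488ba07a8133104ad1d972, nat_lit 0xc3a55a4bcc200eb02cee43ada19328e546c8, nat_lit 0xc5f530a38b00bd88590e0126b79c543b49a6, nat_lit 0x696ffc080a87caa3b4582ba4943356e3c26a], [nat_lit 77824, nat_lit 86016, nat_lit 90112, nat_lit 98304, nat_lit 106496, nat_lit 174080, nat_lit 169472, nat_lit 164864, nat_lit 162816, nat_lit 155840, nat_lit 155392, nat_lit 148608, nat_lit 144608, nat_lit 139792, nat_lit 139028, nat_lit 131581, nat_lit 3072, nat_lit 7168, nat_lit 11264, nat_lit 13312, nat_lit 20384, nat_lit 23552, nat_lit 25984, nat_lit 29952, nat_lit 34816, nat_lit 43008, nat_lit 45297, nat_lit 41751, nat_lit 38379, nat_lit 32826, nat_lit 29244, nat_lit 24747, nat_lit 20491, nat_lit 16388, nat_lit 12325, nat_lit 8193, nat_lit 4097, nat_lit 438282, nat_lit 430088, nat_lit 421894, nat_lit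 413700, nat_lit 405504, nat_lit 163584, nat_lit 159616, nat_lit 155008, nat_lit 147680, nat_lit 144608, nat_lit 134392, nat_lit 8193, nat_lit 4097, nat_lit 327680]⟩)
 (.leaf ⟨[nat_lit 0x2d8b87485b37d184ba9063c2d28b96328aa0, nat_lit 0x5036649e2d6120b33912a5c35008762cdea, nat_lit 0x2b427eb2db47014315e07a86667c53261504], [nat_lit 65536, nat_lit 69632, nat_lit 73728, nat_lit 81920, nat_lit 94208, nat_lit 102400, nat_lit 106496, nat_lit 173056, nat_lit 167680, nat_lit 159872, nat_lit 157440, nat_lit 155360, nat_lit 150480, nat_lit 143792, nat_lit 142976, nat_lit 135380, nat_lit 131687, nat_lit 932, nat_lit 5028, nat_lit 10064, nat_lit 16240, nat_lit 20128, nat_lit 22080, nat_lit 25984, nat_lit 32512, nat_lit 35328, nat_lit 38912, nat_lit 46156, nat_lit 41624, nat_lit 37986, nat_lit 32793, nat_lit 28724, nat_lit 24615, nat_lit 20550, nat_lit 16517, nat_lit 12547, nat_lit 8258, nat_lit 4097, nat_lit 2, nat_lit 434183, nat_lit 417796, nat_lit 405504, nat_lit 155776, nat_lit 147520,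 nat_lit 144448, nat_lit 131160, nat_lit 45185, nat_lit 36865, nat_lit 32896, nat_lit 20504, nat_lit 8193, nat_lit 4097]⟩))
 (.node (nat_lit 47) (.leaf ndGr3_0)
 (.leaf ⟨[nat_lit 0x3035fc732890a877149e6220f584ecb881a5, nat_lit 0xdb712450e3474265586556a4887dcf633040, nat_lit 0x6c60948d4c0d1d783413922a611c8f896cb, nat_lit 0x8b2e781521120ea7b01cf4b4d3505172ae4c], [nat_lit 73728, nat_lit 81920, nat_lit 86016, nat_lit 94208, nat_lit 98304, nat_lit 110592, nat_lit 175104, nat_lit 168448, nat_lit 164864, nat_lit 160768, nat_lit 158464, nat_lit 154880, nat_lit 150192, nat_lit 144496, nat_lit 141944, nat_lit 137724, nat_lit 131866, nat_lit 2052, nat_lit 6148, nat_lit 10920, nat_lit 16240, nat_lit 16512, nat_lit 22272, nat_lit 25984, nat_lit 29952, nat_lit 33280, nat_lit 37888, nat_lit 46108, nat_lit 41687, nat_lit 38149, nat_lit 32940, nat_lit 28967, nat_lit 24617, nat_lit 20566, nat_lit 16419, nat_lit 12309, nat_lit 8194, nat_lit 4097, nat_lit 2, nat_lit 438282, nat_lit 430087, nat_lit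 417797, nat_lit 409603, nat_lit 401408, nat_lit 171008, nat_lit 162816, nat_lit 157824, nat_lit 155136, nat_lit 149024, nat_lit 145568, nat_lit 140968, nat_lit 134860, nat_lit 32828, nat_lit 4097]⟩))))

theorem dcGE5_ok : dcGE5.all (elB (nat_lit 12288)) = true := by decide +kernel

def dcGE6 : BT El := (.node (nat_lit 52) (.node (nat_lit 50) (.node (nat_lit 49) (.leaf ndGr3_1)
 (.leaf ⟨[nat_lit 0xdd121bb55b1748203be0644d891ac972aa82, nat_lit 0xf636090146e99e4d62144859217d2e65d622, nat_lit 0x7e78283a122780aeb8cd4542ad65a4b20633], [nat_lit 65536, nat_lit 69632, nat_lit 86016, nat_lit 98304, nat_lit 106496, nat_lit 110592, nat_lit 175104, nat_lit 168448, nat_lit 166912, nat_lit 161536, nat_lit 158720, nat_lit 155072, nat_lit 149696, nat_lit 146808, nat_lit 141968, nat_lit 135442, nat_lit 131128, nat_lit 2130, nat_lit 7064, nat_lit 11840, nat_lit 16128, nat_lit 19712, nat_lit 23168, nat_lit 25856, nat_lit 29440, nat_lit 33280, nat_lit 46795, nat_lit 43293, nat_lit 38211, nat_lit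 33968, nat_lit 29290, nat_lit 24637, nat_lit 20549, nat_lit 16430, nat_lit 12322, nat_lit 8211, nat_lit 4105, nat_lit 2, nat_lit 438279, nat_lit 417797, nat_lit 409603, nat_lit 401408, nat_lit 151680, nat_lit 147648, nat_lit 143424, nat_lit 139376, nat_lit 133120, nat_lit 41085, nat_lit 37037, nat_lit 32832, nat_lit 4097, nat_lit 327680]⟩))
 (.node (nat_lit 51) (.leaf ⟨[nat_lit 0x2481d42504c835ca03cb58d9370c86831d73, nat_lit 0xf3c59fa4023b322db9e452014f5984e4cea8, nat_lit 0x3afac0b0669addc4199825029181e4d2a16f, nat_lit 0x2d8488a2c703a988911b3a96cf882e913826], [nat_lit 65536, nat_lit 69632, nat_lit 77824, nat_lit 81920, nat_lit 90112, nat_lit 98304, nat_lit 106496, nat_lit 175104, nat_lit 170496, nat_lit 166400, nat_lit 159872, nat_lit 157760, nat_lit 155008, nat_lit 148400, nat_lit 145968, nat_lit 140748, nat_lit 136544, nat_lit 131945, nat_lit 2044, nat_lit 6140, nat_lit 10232, nat_lit 14192, nat_lit 20160, nat_lit 23936, nat_lit 25344, nat_lit 29952, nat_lit 34816, nat_lit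 37888, nat_lit 43008, nat_lit 45277, nat_lit 41009, nat_lit 37362, nat_lit 33319, nat_lit 28768, nat_lit 24746, nat_lit 20494, nat_lit 16392, nat_lit 12293, nat_lit 8203, nat_lit 4097, nat_lit 434185, nat_lit 425991, nat_lit 417797, nat_lit 409603, nat_lit 401408, nat_lit 164352, nat_lit 161024, nat_lit 156416, nat_lit 152704, nat_lit 147872, nat_lit 143968, nat_lit 141240, nat_lit 132340, nat_lit 47029, nat_lit 4097, nat_lit 327680]⟩)
 (.leaf ⟨[nat_lit 0xdb17b74346404ec1ab1f029a575269170967, nat_lit 0x8218712c9e062dd6a267030a2d08ea855c87, nat_lit 0xf3f9c54527118976934a1811803aaa6ba5cf], [nat_lit 73728, nat_lit 77824, nat_lit 98304, nat_lit 106496, nat_lit 178176, nat_lit 174080, nat_lit 164096, nat_lit 162048, nat_lit 155712, nat_lit 152320, nat_lit 148848, nat_lit 144016, nat_lit 141212, nat_lit 137904, nat_lit 132519, nat_lit 3428, nat_lit 7524, nat_lit 9032, nat_lit 12480, nat_lit 20032, nat_lit 23040, nat_lit 25856, nat_lit 30720, nat_lit 33280, nat_lit 37888, nat_lit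 43008, nat_lit 45648, nat_lit 41032, nat_lit 38975, nat_lit 32792, nat_lit 28733, nat_lit 24607, nat_lit 20636, nat_lit 16455, nat_lit 12289, nat_lit 8194, nat_lit 4097, nat_lit 2, nat_lit 430088, nat_lit 421894, nat_lit 409603, nat_lit 401408, nat_lit 164352, nat_lit 160000, nat_lit 148352, nat_lit 143952, nat_lit 139864, nat_lit 131548, nat_lit 45644, nat_lit 41664, nat_lit 20509, nat_lit 4097, nat_lit 327680]⟩)))
 (.node (nat_lit 54) (.node (nat_lit 53) (.leaf ⟨[nat_lit 0x56aa0010e30ad0e40ce402dae67b56a4392c, nat_lit 0xd2b7dd79675bd14131d6060dc988910236d2, nat_lit 0x78eb184040283aa41ad2a3b6578b0b634e8f, nat_lit 0x748bb1301287de4ba9ec16348298cb182a8e], [nat_lit 81920, nat_lit 86016, nat_lit 178176, nat_lit 174080, nat_lit 168960, nat_lit 167424, nat_lit 160768, nat_lit 152736, nat_lit 149328, nat_lit 146584, nat_lit 142908, nat_lit 136314, nat_lit 135148, nat_lit 1120, nat_lit 5216, nat_lit 10176, nat_lit 14992, nat_lit 18944, nat_lit 22400, nat_lit 25856, nat_lit 30720,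 nat_lit 34816, nat_lit 43008, nat_lit 46817, nat_lit 41697, nat_lit 37909, nat_lit 32832, nat_lit 29206, nat_lit 24705, nat_lit 20546, nat_lit 16903, nat_lit 12295, nat_lit 8195, nat_lit 4097, nat_lit 2, nat_lit 434185, nat_lit 425991, nat_lit 417797, nat_lit 409603, nat_lit 401408, nat_lit 152384, nat_lit 147584, nat_lit 144608, nat_lit 139912, nat_lit 132452, nat_lit 46865, nat_lit 4097]⟩)
 (.leaf ⟨[nat_lit 0x71e1b499cd7221c050caca49af8d96908ab0, nat_lit 0x18172461e892550e1ce3279577082026d8ca, nat_lit 0x30536f998020a28f51e495dda3b549174185], [nat_lit 65536, nat_lit 69632, nat_lit 77824, nat_lit 90112, nat_lit 106496, nat_lit 178176, nat_lit 168960, nat_lit 166144, nat_lit 160640, nat_lit 157568, nat_lit 152288, nat_lit 150528, nat_lit 143800, nat_lit 139832, nat_lit 139162, nat_lit 134391, nat_lit 18, nat_lit 6052, nat_lit 11352, nat_lit 15232, nat_lit 20928, nat_lit 26880, nat_lit 30976, nat_lit 35840, nat_lit 37888, nat_lit 43008, nat_lit 46946, nat_lit 41217, nat_lit 39054,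 nat_lit 32934, nat_lit 28733, nat_lit 25106, nat_lit 20495, nat_lit 16392, nat_lit 12306, nat_lit 8193, nat_lit 4105, nat_lit 425991, nat_lit 413700, nat_lit 401408, nat_lit 160000, nat_lit 151808, nat_lit 147872, nat_lit 139552, nat_lit 131508, nat_lit 45185, nat_lit 41349, nat_lit 37041, nat_lit 24577, nat_lit 12289, nat_lit 4097, nat_lit 327680]⟩))
 (.node (nat_lit 55) (.leaf ⟨[nat_lit 0x27b4b43be4ba86d76454610e809a48e6a0b0, nat_lit 0xd417b8b2a4323d0b851222d6ee8cccd03027, nat_lit 0x22b8dd18aa43d2306c80a5cc2f65cce2d928, nat_lit 0xc35aa52b12db3e0219d01adc8a746805ca66], [nat_lit 73728, nat_lit 98304, nat_lit 106496, nat_lit 178176, nat_lit 175104, nat_lit 168448, nat_lit 164096, nat_lit 163200, nat_lit 156864, nat_lit 152608, nat_lit 149792, nat_lit 145712, nat_lit 138740, nat_lit 132023, nat_lit 64, nat_lit 4160, nat_lit 8256, nat_lit 13264, nat_lit 17120, nat_lit 20800, nat_lit 26368, nat_lit 30720, nat_lit 33280, nat_lit 43008, nat_lit 45771, nat_lit 41784, nat_lit 38358,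 nat_lit 33911, nat_lit 28701, nat_lit 24632, nat_lit 20497, nat_lit 16430, nat_lit 12295, nat_lit 8194, nat_lit 4097, nat_lit 438282, nat_lit 430088, nat_lit 421894, nat_lit 413700, nat_lit 405504, nat_lit 174080, nat_lit 169984, nat_lit 166400, nat_lit 161536, nat_lit 158848, nat_lit 155072, nat_lit 150240, nat_lit 143680, nat_lit 133072, nat_lit 8193, nat_lit 4097]⟩)
 (.leaf ⟨[nat_lit 0x1b44d7bd9d541c51991217b28d2c94358206, nat_lit 0xf60aacbc64600cf58342b55125620537588f, nat_lit 0x778d7b35a901550c3826322971b85e9934ae, nat_lit 0xb7d1144d0cb7cd43aca0705845bb48e44581], [nat_lit 73728, nat_lit 94208, nat_lit 98304, nat_lit 102400, nat_lit 106496, nat_lit 178176, nat_lit 171520, nat_lit 167680, nat_lit 160128, nat_lit 156480, nat_lit 151584, nat_lit 149008, nat_lit 144920, nat_lit 139292, nat_lit 138592, nat_lit 134239, nat_lit 146, nat_lit 7652, nat_lit 11272, nat_lit 14544, nat_lit 16544, nat_lit 21248, nat_lit 26624, nat_lit 28928, nat_lit 37888, nat_lit 45197, nat_lit 41853,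 nat_lit 38257, nat_lit 32904, nat_lit 28988, nat_lit 25605, nat_lit 20556, nat_lit 16391, nat_lit 12354, nat_lit 8193, nat_lit 4105, nat_lit 2, nat_lit 434185, nat_lit 425991, nat_lit 417797, nat_lit 409603, nat_lit 401408, nat_lit 168960, nat_lit 164352, nat_lit 160512, nat_lit 155904, nat_lit 152384, nat_lit 147872, nat_lit 143520, nat_lit 139728, nat_lit 132640, nat_lit 45073, nat_lit 4097, nat_lit 327680]⟩))))

theorem dcGE6_ok : dcGE6.all (elB (nat_lit 12288)) = true := by decide +kernel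

def dcGE7 : BT El := (.node (nat_lit 60) (.node (nat_lit 58) (.node (nat_lit 57) (.leaf ⟨[nat_lit 0x471db1782c12b687722ea9d60c4c84458cd1, nat_lit 0xa5909fac4377c1c304d0b29242a1da9530d6, nat_lit 0xacfc38b4e95c184b0c407ccaaa86f4438d2, nat_lit 0xaa60608a18f338159a8615da1738a8d924a4], [nat_lit 73728, nat_lit 90112, nat_lit 110592, nat_lit 174080, nat_lit 171520, nat_lit 166656, nat_lit 161536, nat_lit 156800, nat_lit 153376, nat_lit 150704, nat_lit 145168, nat_lit 142808, nat_lit 136522, nat_lit 131425, nat_lit 1898, nat_lit 7312, nat_lit 8208, nat_lit 14176, nat_lit 18688, nat_lit 21632, nat_lit 25984, nat_lit 29952, nat_lit 33280, nat_lit 37888, nat_lit 43008, nat_lit 46936, nat_lit 41392, nat_lit 39177, nat_lit 32935, nat_lit 28704, nat_lit 24632, nat_lit 20575, nat_lit 16458, nat_lit 12294, nat_lit 8200, nat_lit 4101, nat_lit 2, nat_lit 434185, nat_lit 425991, nat_lit 417797, nat_lit 409603, nat_lit 401408, nat_lit 164864, nat_lit 156416, nat_lit 152768, nat_lit 148352, nat_lit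 145008, nat_lit 139440, nat_lit 132896, nat_lit 45073, nat_lit 4097]⟩)
 (.leaf ⟨[nat_lit 0x36959925e6c0804a819b6a9e2f2c9d44246b, nat_lit 0xdb17b7aac0f24612998e50a68ebb1436d902, nat_lit 0x563c634a14b735eca56f618820218e584e32], [nat_lit 73728, nat_lit 86016, nat_lit 98304, nat_lit 102400, nat_lit 178176, nat_lit 171008, nat_lit 165632, nat_lit 163072, nat_lit 157888, nat_lit 154080, nat_lit 151488, nat_lit 144432, nat_lit 140728, nat_lit 136004, nat_lit 132439, nat_lit 2418, nat_lit 6516, nat_lit 8832, nat_lit 15200, nat_lit 16960, nat_lit 23296, nat_lit 25728, nat_lit 28928, nat_lit 35840, nat_lit 43008, nat_lit 47030, nat_lit 41152, nat_lit 36930, nat_lit 33022, nat_lit 28780, nat_lit 24762, nat_lit 20503, nat_lit 16386, nat_lit 12421, nat_lit 8225, nat_lit 4101, nat_lit 2, nat_lit 434184, nat_lit 421893, nat_lit 409600, nat_lit 160000, nat_lit 152960, nat_lit 148512, nat_lit 131328, nat_lit 45057, nat_lit 36865, nat_lit 24577, nat_lit 8193, nat_lit 4097]⟩))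
 (.node (nat_lit 59) (.leaf ⟨[nat_lit 0xb1e7ed5580712284930616ceb72c4ce5c12f, nat_lit 0x56c39cb24157de25a11b039828731421ae53, nat_lit 0x418e812daadba20149d6e1b0c0145547c893, nat_lit 0xbd44e1848866216e525afa00572c4f31daa1], [nat_lit 65536, nat_lit 69632, nat_lit 94208, nat_lit 178176, nat_lit 175104, nat_lit 171008, nat_lit 166656, nat_lit 161536, nat_lit 156800, nat_lit 153376, nat_lit 148992, nat_lit 146872, nat_lit 141152, nat_lit 136810, nat_lit 131650, nat_lit 3034, nat_lit 6840, nat_lit 11768, nat_lit 15312, nat_lit 17760, nat_lit 20800, nat_lit 25600, nat_lit 29184, nat_lit 34304, nat_lit 37888, nat_lit 46262, nat_lit 41745, nat_lit 38187, nat_lit 34007, nat_lit 29004, nat_lit 24841, nat_lit 20484, nat_lit 16897, nat_lit 12290, nat_lit 8225, nat_lit 4105, nat_lit 438282, nat_lit 430088, nat_lit 421894, nat_lit 413700, nat_lit 405504, nat_lit 174080, nat_lit 171008, nat_lit 166912, nat_lit 160512, nat_lit 158080, nat_lit 154240, nat_lit 149088, nat_lit 145648, nat_lit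 131328, nat_lit 8193, nat_lit 4097, nat_lit 327680]⟩)
 (.leaf ⟨[nat_lit 0xd8bb4401ef30a46f71904b35559320b2c682, nat_lit 0x242b1290893401657342638ed7626b053e34, nat_lit 0xf5595f6027510ce8bd0c98964a7116d0bed0, nat_lit 0xc06c534a2850480ad96549dae7c28315e6c], [nat_lit 65536, nat_lit 69632, nat_lit 73728, nat_lit 77824, nat_lit 81920, nat_lit 90112, nat_lit 94208, nat_lit 102400, nat_lit 110592, nat_lit 174080, nat_lit 168960, nat_lit 166912, nat_lit 162688, nat_lit 156544, nat_lit 152608, nat_lit 151264, nat_lit 146440, nat_lit 142744, nat_lit 135582, nat_lit 134456, nat_lit 3190, nat_lit 6176, nat_lit 8800, nat_lit 15600, nat_lit 19968, nat_lit 22208, nat_lit 25216, nat_lit 31744, nat_lit 39936, nat_lit 43008, nat_lit 46065, nat_lit 41466, nat_lit 39309, nat_lit 33931, nat_lit 28760, nat_lit 24728, nat_lit 20754, nat_lit 16396, nat_lit 12306, nat_lit 8203, nat_lit 4105, nat_lit 2, nat_lit 434185, nat_lit 425991, nat_lit 417797, nat_lit 409603, nat_lit 401408, nat_lit 164352, nat_lit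 160000, nat_lit 151936, nat_lit 148224, nat_lit 145296, nat_lit 139816, nat_lit 132136, nat_lit 46532, nat_lit 4097]⟩)))
 (.node (nat_lit 62) (.node (nat_lit 61) (.leaf ndGr1_1)
 (.leaf ⟨[nat_lit 0x536ac3592b62a820a3a4268ef13ce08499ec, nat_lit 0x82e88155c643a2a11168b6be6eb012684991, nat_lit 0x965ca96a4e628217532967491124ea37ac22], [nat_lit 77824, nat_lit 94208, nat_lit 98304, nat_lit 102400, nat_lit 106496, nat_lit 175104, nat_lit 169984, nat_lit 164352, nat_lit 160768, nat_lit 158592, nat_lit 154400, nat_lit 148016, nat_lit 145768, nat_lit 142716, nat_lit 136670, nat_lit 133189, nat_lit 128, nat_lit 4224, nat_lit 8320, nat_lit 15664, nat_lit 19680, nat_lit 21888, nat_lit 26880, nat_lit 30464, nat_lit 35328, nat_lit 45299, nat_lit 41766, nat_lit 37972, nat_lit 32990, nat_lit 28701, nat_lit 24866, nat_lit 20549, nat_lit 16425, nat_lit 12322, nat_lit 425991, nat_lit 417797, nat_lit 409603, nat_lit 155776, nat_lit 151744, nat_lit 143680, nat_lit 45072, nat_lit 41408, nat_lit 37032]⟩))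
 (.node (nat_lit 63) (.leaf ⟨[nat_lit 0xfacfcc41a8f14c01532e488e123add6696a9, nat_lit 0x7eb47d09055039102caf15cde361db63512a, nat_lit 0x487b2d1cea5386367b1c925c105a9a891854, nat_lit 0xa3fcafa3c2a41e4924003bccb51596c8b5c6], [nat_lit 77824, nat_lit 81920, nat_lit 86016, nat_lit 90112, nat_lit 94208, nat_lit 98304, nat_lit 110592, nat_lit 178176, nat_lit 169984, nat_lit 165120, nat_lit 162432, nat_lit 155904, nat_lit 155296, nat_lit 150400, nat_lit 146312, nat_lit 143208, nat_lit 136780, nat_lit 132575, nat_lit 2304, nat_lit 6400, nat_lit 10496, nat_lit 15632, nat_lit 16416, nat_lit 22656, nat_lit 27776, nat_lit 28928, nat_lit 34304, nat_lit 38912, nat_lit 46691, nat_lit 41544, nat_lit 37093, nat_lit 32822, nat_lit 28752, nat_lit 24709, nat_lit 20486, nat_lit 16458, nat_lit 12305, nat_lit 8193, nat_lit 4097, nat_lit 2, nat_lit 438282, nat_lit 430088, nat_lit 421894, nat_lit 413700, nat_lit 405504, nat_lit 174080, nat_lit 160768, nat_lit 159104, nat_lit 152064, nat_lit 150720,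 nat_lit 145968, nat_lit 134552, nat_lit 8193, nat_lit 4097, nat_lit 327680]⟩)
 (.leaf ⟨[nat_lit 0xca0ac08aec63a6f3a408a689cc78023aa245, nat_lit 0xa55c35bc06f706b16da4014e8c4954859c86, nat_lit 0x99099f5d1a0bcaa563e067586a3cd2889022], [nat_lit 77824, nat_lit 81920, nat_lit 86016, nat_lit 90112, nat_lit 94208, nat_lit 102400, nat_lit 106496, nat_lit 173056, nat_lit 169984, nat_lit 165632, nat_lit 159872, nat_lit 156608, nat_lit 153120, nat_lit 148944, nat_lit 143408, nat_lit 142240, nat_lit 137524, nat_lit 132329, nat_lit 2260, nat_lit 6356, nat_lit 11080, nat_lit 14944, nat_lit 18656, nat_lit 23552, nat_lit 27008, nat_lit 28928, nat_lit 33280, nat_lit 39936, nat_lit 46136, nat_lit 43438, nat_lit 37140, nat_lit 32966, nat_lit 28695, nat_lit 24849, nat_lit 22541, nat_lit 16391, nat_lit 14343, nat_lit 8202, nat_lit 4097, nat_lit 438281, nat_lit 421892, nat_lit 405504, nat_lit 143376, nat_lit 133632, nat_lit 41112, nat_lit 32792, nat_lit 24577, nat_lit 20481, nat_lit 8193, nat_lit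 4097]⟩))))

theorem dcGE7_ok : dcGE7.all (elB (nat_lit 12288)) = true := by decide +kernel

def dcGE8 : BT El := (.node (nat_lit 68) (.node (nat_lit 66) (.node (nat_lit 65) (.leaf ⟨[nat_lit 0x7eb47d1b1af822a43263770402a48aa3ae76, nat_lit 0x8dd4d4332b688557591e91229000cad99e4e, nat_lit 0xfc3a6f954c3150b3b06047b96d5250cb9c11, nat_lit 0x9f0ccc3150a7cdd28b60c1da8105c553ad24], [nat_lit 65536, nat_lit 69632, nat_lit 73728, nat_lit 77824, nat_lit 81920, nat_lit 86016, nat_lit 90112, nat_lit 94208, nat_lit 98304, nat_lit 102400, nat_lit 106496, nat_lit 110592, nat_lit 178176, nat_lit 173056, nat_lit 168448, nat_lit 165120, nat_lit 163456, nat_lit 158272, nat_lit 152736, nat_lit 148816, nat_lit 143680, nat_lit 141416, nat_lit 136584, nat_lit 134528, nat_lit 1896, nat_lit 5992, nat_lit 10088, nat_lit 12864, nat_lit 19136, nat_lit 23872, nat_lit 27136, nat_lit 31232, nat_lit 33792, nat_lit 38912, nat_lit 45965, nat_lit 41174, nat_lit 37309, nat_lit 32885, nat_lit 28782, nat_lit 24598,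 nat_lit 20510, nat_lit 16422, nat_lit 12289, nat_lit 8193, nat_lit 4097, nat_lit 438282, nat_lit 430088, nat_lit 421894, nat_lit 413700, nat_lit 405504, nat_lit 164864, nat_lit 163328, nat_lit 158208, nat_lit 152704, nat_lit 148800, nat_lit 143680, nat_lit 131168, nat_lit 8193, nat_lit 4097, nat_lit 327680]⟩)
 (.leaf ⟨[nat_lit 0x7b481b1b0d76bd31112ae4003029e6a95176, nat_lit 0xf05ac635a22906876adcc4bd0a24c151c0b7, nat_lit 0x590fc6205109c9f769e86ab84058cb1b312a], [nat_lit 81920, nat_lit 86016, nat_lit 98304, nat_lit 102400, nat_lit 110592, nat_lit 174080, nat_lit 170496, nat_lit 167680, nat_lit 161664, nat_lit 156480, nat_lit 153760, nat_lit 148320, nat_lit 146104, nat_lit 142320, nat_lit 136466, nat_lit 132509, nat_lit 2434, nat_lit 4100, nat_lit 10448, nat_lit 14160, nat_lit 18080, nat_lit 23040, nat_lit 27648, nat_lit 32512, nat_lit 37888, nat_lit 46407, nat_lit 41653, nat_lit 37364, nat_lit 33300, nat_lit 29001, nat_lit 24868, nat_lit 20625, nat_lit 16385, nat_lit 12321,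 nat_lit 8259, nat_lit 4100, nat_lit 430087, nat_lit 413700, nat_lit 405504, nat_lit 151680, nat_lit 147488, nat_lit 143520, nat_lit 131232, nat_lit 45569, nat_lit 41112, nat_lit 32904, nat_lit 24632, nat_lit 8193, nat_lit 4097]⟩))
 (.node (nat_lit 67) (.leaf ⟨[nat_lit 0x355ff91bee61482a750053920b45ab34b591, nat_lit 0x87d8b27c23320ec96c9cc122a555cc0a0567, nat_lit 0x8dbd48825ea704532a2e3382cb219b28d2ac], [nat_lit 65536, nat_lit 69632, nat_lit 73728, nat_lit 77824, nat_lit 94208, nat_lit 98304, nat_lit 102400, nat_lit 178176, nat_lit 168448, nat_lit 167168, nat_lit 161664, nat_lit 157056, nat_lit 151616, nat_lit 149776, nat_lit 144072, nat_lit 141892, nat_lit 137956, nat_lit 131598, nat_lit 1810, nat_lit 4100, nat_lit 9200, nat_lit 15328, nat_lit 18112, nat_lit 24512, nat_lit 24960, nat_lit 30208, nat_lit 35328, nat_lit 37888, nat_lit 43008, nat_lit 46972, nat_lit 43820, nat_lit 37189, nat_lit 32919, nat_lit 28771, nat_lit 24610, nat_lit 20571, nat_lit 16389, nat_lit 12324, nat_lit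 8202, nat_lit 4100, nat_lit 2, nat_lit 438278, nat_lit 413700, nat_lit 405504, nat_lit 151616, nat_lit 143424, nat_lit 133152, nat_lit 41000, nat_lit 36936, nat_lit 32872, nat_lit 28673, nat_lit 8193, nat_lit 4097]⟩)
 (.leaf ⟨[nat_lit 0x18e72b84e84620116c86bb08257d5c63a557, nat_lit 0xf693c0846483d42c78e86236c205cae4cd6a, nat_lit 0xd8871e62c50754ef4a8d7a46456851320076], [nat_lit 65536, nat_lit 69632, nat_lit 73728, nat_lit 90112, nat_lit 110592, nat_lit 178176, nat_lit 175104, nat_lit 168448, nat_lit 166400, nat_lit 163200, nat_lit 157888, nat_lit 154272, nat_lit 147760, nat_lit 143928, nat_lit 141256, nat_lit 139040, nat_lit 134824, nat_lit 256, nat_lit 4352, nat_lit 8448, nat_lit 15792, nat_lit 18528, nat_lit 22080, nat_lit 26368, nat_lit 29440, nat_lit 33280, nat_lit 37888, nat_lit 43008, nat_lit 45962, nat_lit 41603, nat_lit 38170, nat_lit 32774, nat_lit 28736, nat_lit 24623, nat_lit 20493, nat_lit 16397, nat_lit 430087, nat_lit 417797, nat_lit 409603, nat_lit 151616, nat_lit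 147968, nat_lit 143888, nat_lit 45792, nat_lit 41696, nat_lit 32824]⟩)))
 (.node (nat_lit 70) (.node (nat_lit 69) (.leaf ⟨[nat_lit 0xfafc6671ecbbb14408a60496ad79a881ca30, nat_lit 0x5a9f6f74105129761d4c795c116a6646502f, nat_lit 0x9c9395640c89bce9b505518037711726c545, nat_lit 0x7177d780c89b4e2f900e8a1586686e2ab96a], [nat_lit 65536, nat_lit 69632, nat_lit 73728, nat_lit 77824, nat_lit 86016, nat_lit 90112, nat_lit 94208, nat_lit 106496, nat_lit 110592, nat_lit 178176, nat_lit 171008, nat_lit 166912, nat_lit 161536, nat_lit 158080, nat_lit 154240, nat_lit 150256, nat_lit 144488, nat_lit 141060, nat_lit 137566, nat_lit 132036, nat_lit 2304, nat_lit 6400, nat_lit 10496, nat_lit 13808, nat_lit 17824, nat_lit 20864, nat_lit 25728, nat_lit 30208, nat_lit 35328, nat_lit 38912, nat_lit 43008, nat_lit 45504, nat_lit 41960, nat_lit 37309, nat_lit 32821, nat_lit 29299, nat_lit 24709, nat_lit 20743, nat_lit 16420, nat_lit 12357, nat_lit 8193, nat_lit 4097, nat_lit 438282, nat_lit 430088,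 nat_lit 421894, nat_lit 413700, nat_lit 405504, nat_lit 169984, nat_lit 164864, nat_lit 162304, nat_lit 155904, nat_lit 155264, nat_lit 150400, nat_lit 146304, nat_lit 134392, nat_lit 8193, nat_lit 4097]⟩)
 (.leaf ⟨[nat_lit 0xa303af8cd09280668494b659b5208e17ba97, nat_lit 0x1b2db421cd0628150b5149c4b2b244ebade3, nat_lit 0x6cf5f61a827658125b9e5845269b454256e8], [nat_lit 65536, nat_lit 69632, nat_lit 73728, nat_lit 77824, nat_lit 86016, nat_lit 90112, nat_lit 94208, nat_lit 102400, nat_lit 168960, nat_lit 166400, nat_lit 160768, nat_lit 155712, nat_lit 153952, nat_lit 149808, nat_lit 144456, nat_lit 139340, nat_lit 136490, nat_lit 131556, nat_lit 2064, nat_lit 6160, nat_lit 10256, nat_lit 14592, nat_lit 17312, nat_lit 23552, nat_lit 27136, nat_lit 30464, nat_lit 35328, nat_lit 39936, nat_lit 46655, nat_lit 43190, nat_lit 38159, nat_lit 32832, nat_lit 28796, nat_lit 24632, nat_lit 20559, nat_lit 16396, nat_lit 12305, nat_lit 425991, nat_lit 417797, nat_lit 409603, nat_lit 160000,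 nat_lit 155776, nat_lit 151808, nat_lit 147520, nat_lit 143648, nat_lit 45072, nat_lit 41424, nat_lit 37032, nat_lit 327680]⟩))
 (.node (nat_lit 71) (.leaf ndGr3_2)
 (.leaf ⟨[nat_lit 0xaa6a04c9cc3aa0500513798548dd75b106d, nat_lit 0x77727b055687d9a2bcc31824ac72a47190d4, nat_lit 0x5f0a95a84ec5266b8ca08bb8a0a3c66111b6, nat_lit 0x369599a1052b55cb2b52705cd0605039a9f1], [nat_lit 73728, nat_lit 81920, nat_lit 90112, nat_lit 94208, nat_lit 174080, nat_lit 169984, nat_lit 166656, nat_lit 161280, nat_lit 157888, nat_lit 153280, nat_lit 149232, nat_lit 147008, nat_lit 141900, nat_lit 136620, nat_lit 133261, nat_lit 1944, nat_lit 6040, nat_lit 11872, nat_lit 13920, nat_lit 20352, nat_lit 20800, nat_lit 27264, nat_lit 34816, nat_lit 38912, nat_lit 45518, nat_lit 41529, nat_lit 37191, nat_lit 32897, nat_lit 28718, nat_lit 25142, nat_lit 20563, nat_lit 12290, nat_lit 8322, nat_lit 4097, nat_lit 438281, nat_lit 425991, nat_lit 417797, nat_lit 409603, nat_lit 401408, nat_lit 169984, nat_lit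 166400, nat_lit 158592, nat_lit 154432, nat_lit 143504, nat_lit 139992, nat_lit 131428, nat_lit 41117, nat_lit 4097, nat_lit 327680]⟩))))

theorem dcGE8_ok : dcGE8.all (elB (nat_lit 12288)) = true := by decide +kernel

def dcGE9 : BT El := (.node (nat_lit 76) (.node (nat_lit 74) (.node (nat_lit 73) (.leaf ndGr4_0)
 (.leaf ⟨[nat_lit 0x3f5c90a841342ef1b3e0c5386621e924b4a2, nat_lit 0xc5af069450c5b40381ea111af3b29d44bc85, nat_lit 0x18d481951c3518e42a1696de22802ac0cecf, nat_lit 0xd141e73a5012b06d20a33ad806a2a4f5ddd0], [nat_lit 65536, nat_lit 69632, nat_lit 77824, nat_lit 94208, nat_lit 106496, nat_lit 175104, nat_lit 169472, nat_lit 164096, nat_lit 162048, nat_lit 156224, nat_lit 153824, nat_lit 149808, nat_lit 144072, nat_lit 141252, nat_lit 138796, nat_lit 131464, nat_lit 64, nat_lit 4160, nat_lit 11576, nat_lit 14112, nat_lit 18368, nat_lit 22912, nat_lit 30976, nat_lit 33280, nat_lit 39936, nat_lit 43008, nat_lit 46965, nat_lit 41950, nat_lit 38256, nat_lit 33970, nat_lit 29300,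 nat_lit 24594, nat_lit 20502, nat_lit 16398, nat_lit 12311, nat_lit 8208, nat_lit 4097, nat_lit 434185, nat_lit 425991, nat_lit 417797, nat_lit 409603, nat_lit 401408, nat_lit 168960, nat_lit 161024, nat_lit 157056, nat_lit 152960, nat_lit 147616, nat_lit 144240, nat_lit 141072, nat_lit 132424, nat_lit 45548, nat_lit 4097, nat_lit 327680]⟩))
 (.node (nat_lit 75) (.leaf ndGr4_1)
 (.leaf ⟨[nat_lit 0x71114433495646920bee04cce3b290e588b0, nat_lit 0x5a35564d98354565239b2b9eb0a21e00cc46, nat_lit 0x2d84881c226116d748547aae6c6b8804524f, nat_lit 0xf3905953a4b4d826a9d0018993bd1f06c4a4], [nat_lit 65536, nat_lit 69632, nat_lit 81920, nat_lit 90112, nat_lit 98304, nat_lit 106496, nat_lit 171520, nat_lit 167424, nat_lit 162816, nat_lit 158976, nat_lit 152800, nat_lit 151312, nat_lit 145888, nat_lit 139564, nat_lit 139196, nat_lit 131282, nat_lit 256, nat_lit 4352, nat_lit 8448, nat_lit 15712, nat_lit 16640, nat_lit 24384, nat_lit 27008, nat_lit 29440, nat_lit 35840, nat_lit 39936, nat_lit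 46122, nat_lit 41076, nat_lit 37165, nat_lit 32907, nat_lit 28942, nat_lit 25650, nat_lit 21016, nat_lit 16429, nat_lit 12310, nat_lit 8194, nat_lit 4097, nat_lit 2, nat_lit 438282, nat_lit 430088, nat_lit 421894, nat_lit 413700, nat_lit 405504, nat_lit 171008, nat_lit 164864, nat_lit 161024, nat_lit 159232, nat_lit 151680, nat_lit 150176, nat_lit 146256, nat_lit 134392, nat_lit 8193, nat_lit 4097, nat_lit 327680]⟩)))
 (.node (nat_lit 78) (.node (nat_lit 77) (.leaf ndGr4_2)
 (.leaf ⟨[nat_lit 0xb1db48736d2850a61918951de2056219dd68, nat_lit 0xbb7d1748ab77850c3900b919b61cd51a15d0, nat_lit 0x471d4eb106909e8b35c0a8cdf0454459398d], [nat_lit 77824, nat_lit 81920, nat_lit 86016, nat_lit 90112, nat_lit 94208, nat_lit 98304, nat_lit 102400, nat_lit 175104, nat_lit 168960, nat_lit 167168, nat_lit 160128, nat_lit 155776, nat_lit 153952, nat_lit 148768, nat_lit 146968, nat_lit 142300, nat_lit 138776, nat_lit 132732, nat_lit 3262, nat_lit 7148, nat_lit 11448, nat_lit 12704, nat_lit 20320,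 nat_lit 22336, nat_lit 24704, nat_lit 29696, nat_lit 35328, nat_lit 39936, nat_lit 43008, nat_lit 46599, nat_lit 43424, nat_lit 37086, nat_lit 34008, nat_lit 29195, nat_lit 24599, nat_lit 20760, nat_lit 16455, nat_lit 12549, nat_lit 8195, nat_lit 4100, nat_lit 430088, nat_lit 421894, nat_lit 413699, nat_lit 401408, nat_lit 164352, nat_lit 160000, nat_lit 152320, nat_lit 144128, nat_lit 131144, nat_lit 46017, nat_lit 41472, nat_lit 4097]⟩))
 (.node (nat_lit 79) (.leaf ⟨[nat_lit 0x2bbd7e59e51a2097acda2004a97407633d4c, nat_lit 0x35f53f32e4a992b73c5ec68a88b052e19410, nat_lit 0xee21d2b45647200994c2c3515029c4f1b6b7], [nat_lit 65536, nat_lit 69632, nat_lit 81920, nat_lit 102400, nat_lit 110592, nat_lit 178176, nat_lit 169984, nat_lit 165376, nat_lit 163584, nat_lit 157056, nat_lit 153024, nat_lit 148256, nat_lit 143872, nat_lit 140932, nat_lit 135808, nat_lit 131571, nat_lit 4038, nat_lit 4440, nat_lit 11744, nat_lit 15120, nat_lit 17216, nat_lit 20992, nat_lit 25856, nat_lit 30208,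 nat_lit 35328, nat_lit 37888, nat_lit 46210, nat_lit 41763, nat_lit 38254, nat_lit 32772, nat_lit 30814, nat_lit 24610, nat_lit 20487, nat_lit 16396, nat_lit 4128, nat_lit 434183, nat_lit 417797, nat_lit 409603, nat_lit 401408, nat_lit 152576, nat_lit 147488, nat_lit 144512, nat_lit 139320, nat_lit 131244, nat_lit 45276, nat_lit 36992, nat_lit 32825, nat_lit 4097]⟩)
 (.leaf ⟨[nat_lit 0x33a5aa199ac91c508bd37282b6a4d0e51161, nat_lit 0xe8814813412404f7a91432c4cf9da8c5c12e, nat_lit 0xc63fafbc02373eb16a4826190054ecba48e5, nat_lit 0x72dbdb4b8ab33e306d4f6bcc0a089841a254], [nat_lit 65536, nat_lit 69632, nat_lit 86016, nat_lit 90112, nat_lit 94208, nat_lit 106496, nat_lit 110592, nat_lit 178176, nat_lit 174080, nat_lit 168960, nat_lit 167168, nat_lit 161920, nat_lit 155712, nat_lit 152288, nat_lit 150720, nat_lit 143520, nat_lit 143088, nat_lit 136028, nat_lit 134318, nat_lit 662, nat_lit 5296, nat_lit 8848, nat_lit 14000, nat_lit 20288, nat_lit 21376, nat_lit 25216, nat_lit 30208,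 nat_lit 34816, nat_lit 43008, nat_lit 45952, nat_lit 40968, nat_lit 37191, nat_lit 32798, nat_lit 28795, nat_lit 24620, nat_lit 20502, nat_lit 16421, nat_lit 12352, nat_lit 8195, nat_lit 4100, nat_lit 438281, nat_lit 425991, nat_lit 417797, nat_lit 409603, nat_lit 401408, nat_lit 169984, nat_lit 166400, nat_lit 160512, nat_lit 157696, nat_lit 154432, nat_lit 148256, nat_lit 146416, nat_lit 142056, nat_lit 133168, nat_lit 41909, nat_lit 4097]⟩))))

theorem dcGE9_ok : dcGE9.all (elB (nat_lit 12288)) = true := by decide +kernel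

def dcGE10 : BT El := (.node (nat_lit 84) (.node (nat_lit 82) (.node (nat_lit 81) (.leaf ndGr4_3)
 (.leaf ⟨[nat_lit 0x4e171d5458d340a80c84970cf50588fbcd74, nat_lit 0xee1d886d9070ad517dd2403a0c11a6590eb4, nat_lit 0x1b888262df71aaa0446d049e8568a44305d3, nat_lit 0xb24be1744c44b26a6c060150a8b4aef38575], [nat_lit 65536, nat_lit 69632, nat_lit 77824, nat_lit 86016, nat_lit 94208, nat_lit 98304, nat_lit 102400, nat_lit 106496, nat_lit 174080, nat_lit 170496, nat_lit 164096, nat_lit 160256, nat_lit 156480, nat_lit 153792, nat_lit 151104, nat_lit 147304, nat_lit 142904, nat_lit 137682, nat_lit 132639, nat_lit 50, nat_lit 8116, nat_lit 10552, nat_lit 15120, nat_lit 16416, nat_lit 21504, nat_lit 27520, nat_lit 29952, nat_lit 33280, nat_lit 46711, nat_lit 43421, nat_lit 38146, nat_lit 33917, nat_lit 28699, nat_lit 25126, nat_lit 20497, nat_lit 16398, nat_lit 12308, nat_lit 8193, nat_lit 4105, nat_lit 434185, nat_lit 425991, nat_lit 417797, nat_lit 409603, nat_lit 401408, nat_lit 168960,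 nat_lit 164864, nat_lit 160000, nat_lit 151808, nat_lit 148960, nat_lit 144896, nat_lit 140816, nat_lit 131520, nat_lit 45645, nat_lit 4097, nat_lit 327680]⟩))
 (.node (nat_lit 83) (.leaf ⟨[nat_lit 0x9a6939236eb33a8999ca17c84c1dab180148, nat_lit 0xf00fff791953592b3de339054e8346828282, nat_lit 0x4e17e29168d35a0e60dea490470a23305eab, nat_lit 0x1bd2b461149189e79b8d1bb4b50da08a480b], [nat_lit 65536, nat_lit 69632, nat_lit 73728, nat_lit 77824, nat_lit 81920, nat_lit 86016, nat_lit 98304, nat_lit 178176, nat_lit 175104, nat_lit 169984, nat_lit 166656, nat_lit 163712, nat_lit 157184, nat_lit 154720, nat_lit 150368, nat_lit 144040, nat_lit 141972, nat_lit 137350, nat_lit 134683, nat_lit 2678, nat_lit 4500, nat_lit 10864, nat_lit 15424, nat_lit 19136, nat_lit 22016, nat_lit 26112, nat_lit 29440, nat_lit 35840, nat_lit 39936, nat_lit 43008, nat_lit 46801, nat_lit 41703, nat_lit 37215, nat_lit 33432, nat_lit 29005, nat_lit 24855, nat_lit 20503, nat_lit 16423, nat_lit 12418, nat_lit 8194,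 nat_lit 4101, nat_lit 438282, nat_lit 425991, nat_lit 417797, nat_lit 409603, nat_lit 401408, nat_lit 163072, nat_lit 155904, nat_lit 151680, nat_lit 151008, nat_lit 144832, nat_lit 139592, nat_lit 132308, nat_lit 36941, nat_lit 4097]⟩)
 (.leaf ⟨[nat_lit 0xdde2eba3c9312a516b0295dc1638d05342ae, nat_lit 0xa5365de2e1a8c8b168114264034efab249, nat_lit 0x188147411e3882e22d267836ac325c192acb, nat_lit 0xde41178dc75620b412553048c722ecd0b9f0], [nat_lit 65536, nat_lit 69632, nat_lit 90112, nat_lit 94208, nat_lit 98304, nat_lit 102400, nat_lit 106496, nat_lit 110592, nat_lit 178176, nat_lit 174080, nat_lit 164352, nat_lit 162176, nat_lit 159296, nat_lit 155264, nat_lit 149808, nat_lit 146520, nat_lit 140916, nat_lit 137888, nat_lit 133498, nat_lit 3466, nat_lit 4160, nat_lit 11176, nat_lit 13760, nat_lit 17920, nat_lit 22976, nat_lit 26624, nat_lit 30464, nat_lit 43008, nat_lit 46187, nat_lit 40983, nat_lit 36877, nat_lit 32794, nat_lit 28748, nat_lit 24590, nat_lit 20489, nat_lit 16394,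 nat_lit 12290, nat_lit 8256, nat_lit 4101, nat_lit 2, nat_lit 438282, nat_lit 425991, nat_lit 417797, nat_lit 409603, nat_lit 401408, nat_lit 164864, nat_lit 160768, nat_lit 158976, nat_lit 151616, nat_lit 147904, nat_lit 143808, nat_lit 139544, nat_lit 131468, nat_lit 36941, nat_lit 4097, nat_lit 327680]⟩)))
 (.node (nat_lit 86) (.node (nat_lit 85) (.leaf ⟨[nat_lit 0x6f5905a45c831482aadb0384037a6f3b324a, nat_lit 0x60955f6d09112c20b4dc72c2ef61a551a50a, nat_lit 0x6cc6a30bd659a2c9636b138d4e21a92bc002], [nat_lit 77824, nat_lit 81920, nat_lit 90112, nat_lit 94208, nat_lit 102400, nat_lit 110592, nat_lit 174080, nat_lit 171520, nat_lit 164608, nat_lit 162560, nat_lit 155712, nat_lit 153920, nat_lit 147760, nat_lit 144328, nat_lit 142756, nat_lit 138054, nat_lit 131389, nat_lit 964, nat_lit 5060, nat_lit 11472, nat_lit 13232, nat_lit 17312, nat_lit 26752, nat_lit 30464, nat_lit 35328, nat_lit 39936, nat_lit 46856, nat_lit 41635, nat_lit 38097, nat_lit 32944, nat_lit 28730, nat_lit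 24581, nat_lit 20491, nat_lit 16393, nat_lit 12292, nat_lit 8194, nat_lit 4097, nat_lit 2, nat_lit 421894, nat_lit 413700, nat_lit 405504, nat_lit 155776, nat_lit 151680, nat_lit 147584, nat_lit 143392, nat_lit 131320, nat_lit 45073, nat_lit 41056, nat_lit 36953, nat_lit 32825, nat_lit 8193, nat_lit 4097, nat_lit 327680]⟩)
 (.leaf ⟨[nat_lit 0xe24e74a91f034dd450ad702e51494271b50c, nat_lit 0xc9cfaf8566e1b6c20964b89c0952197a188f, nat_lit 0x7e4b7d51d0d4c2a29c9842de8e00ccfb2c31, nat_lit 0x3af530b8d226903072ecf8cd5528192418f4], [nat_lit 65536, nat_lit 69632, nat_lit 73728, nat_lit 77824, nat_lit 102400, nat_lit 106496, nat_lit 178176, nat_lit 173056, nat_lit 166400, nat_lit 159872, nat_lit 156864, nat_lit 152928, nat_lit 147712, nat_lit 143616, nat_lit 142520, nat_lit 136616, nat_lit 132880, nat_lit 698, nat_lit 7548, nat_lit 10104, nat_lit 12976, nat_lit 20096, nat_lit 22336, nat_lit 26368, nat_lit 30464, nat_lit 33792, nat_lit 37888, nat_lit 46543, nat_lit 41465, nat_lit 37278,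 nat_lit 33314, nat_lit 28944, nat_lit 24595, nat_lit 20617, nat_lit 16396, nat_lit 12291, nat_lit 8193, nat_lit 4104, nat_lit 438282, nat_lit 430088, nat_lit 421894, nat_lit 413700, nat_lit 405504, nat_lit 160768, nat_lit 156800, nat_lit 149120, nat_lit 146976, nat_lit 133072, nat_lit 8193, nat_lit 4097]⟩))
 (.node (nat_lit 87) (.leaf ⟨[nat_lit 0xd7ee72a32376cd4b2a075340eeb2482049e1, nat_lit 0x728e1db42ef1824d510556450b2ccee0a686, nat_lit 0x3399f0324e2785ab742c4a0d172d62c50272], [nat_lit 77824, nat_lit 81920, nat_lit 178176, nat_lit 173056, nat_lit 171520, nat_lit 165888, nat_lit 160000, nat_lit 158400, nat_lit 152128, nat_lit 149056, nat_lit 146392, nat_lit 142580, nat_lit 135170, nat_lit 132948, nat_lit 3256, nat_lit 7352, nat_lit 11400, nat_lit 16064, nat_lit 16960, nat_lit 20544, nat_lit 27520, nat_lit 30976, nat_lit 33792, nat_lit 37888, nat_lit 45858, nat_lit 41157, nat_lit 37037, nat_lit 34928, nat_lit 29199, nat_lit 24636, nat_lit 20568, nat_lit 16463, nat_lit 12357,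 nat_lit 8227, nat_lit 4097, nat_lit 2, nat_lit 438280, nat_lit 421893, nat_lit 409603, nat_lit 401408, nat_lit 151808, nat_lit 147712, nat_lit 145456, nat_lit 139544, nat_lit 131092, nat_lit 41216, nat_lit 36916, nat_lit 24584, nat_lit 4097, nat_lit 327680]⟩)
 (.leaf ⟨[nat_lit 0x447218bb9f580623636969c840590a849cca, nat_lit 0x5a9a0826532d00f385b65c50aab08275cc3, nat_lit 0x955a9c8acc012207b3c2394e8e2b0976a6aa], [nat_lit 65536, nat_lit 69632, nat_lit 73728, nat_lit 94208, nat_lit 102400, nat_lit 106496, nat_lit 110592, nat_lit 178176, nat_lit 175104, nat_lit 165632, nat_lit 163200, nat_lit 151872, nat_lit 148336, nat_lit 146352, nat_lit 141752, nat_lit 138028, nat_lit 133294, nat_lit 2, nat_lit 4684, nat_lit 8752, nat_lit 12864, nat_lit 17728, nat_lit 23232, nat_lit 25728, nat_lit 30208, nat_lit 36352, nat_lit 38912, nat_lit 46453, nat_lit 43895, nat_lit 38088, nat_lit 32872, nat_lit 28687, nat_lit 24871, nat_lit 20495, nat_lit 18434, nat_lit 12293, nat_lit 8200, nat_lit 4097,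 nat_lit 2, nat_lit 425991, nat_lit 417797, nat_lit 409603, nat_lit 160000, nat_lit 155776, nat_lit 151808, nat_lit 147520, nat_lit 143648, nat_lit 45072, nat_lit 41424, nat_lit 37032, nat_lit 327680]⟩))))

theorem dcGE10_ok : dcGE10.all (elB (nat_lit 12288)) = true := by decide +kernel

def dcGE11 : BT El := (.node (nat_lit 92) (.node (nat_lit 90) (.node (nat_lit 89) (.leaf ndGr1_0)
 (.leaf ⟨[nat_lit 0x342cd938b440d2b9b09789df550820], [nat_lit 175104, nat_lit 171008, nat_lit 165888, nat_lit 163712, nat_lit 155776, nat_lit 155168, nat_lit 150256, nat_lit 145208, nat_lit 141928, nat_lit 137198, nat_lit 131139, nat_lit 1972, nat_lit 6068, nat_lit 10000, nat_lit 12608, nat_lit 16864, nat_lit 21760, nat_lit 26240, nat_lit 30208, nat_lit 33280, nat_lit 37888, nat_lit 41451, nat_lit 37156, nat_lit 33473, nat_lit 28684, nat_lit 24865, nat_lit 20760, nat_lit 16426, nat_lit 12322, nat_lit 8203]⟩))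
 (.node (nat_lit 91) (.leaf ndGg0_0)
 (.leaf ndGg0_1)))
 (.node (nat_lit 94) (.node (nat_lit 93) (.leaf ndGg0_2)
 (.leaf ndGg0_3))
 (.node (nat_lit 95) (.leaf ndGg0_4)
 (.leaf ndGg1_0))))

theorem dcGE11_ok : dcGE11.all (elB (nat_lit 12288)) = true := by decide +kernel

def dcGE12 : BT El := (.node (nat_lit 100) (.node (nat_lit 98) (.node (nat_lit 97) (.leaf ndGg1_1)
 (.leaf ndGg1_2))
 (.node (nat_lit 99) (.leaf ndGg1_3)
 (.leaf ndGg1_4)))
 (.node (nat_lit 102) (.node (nat_lit 101) (.leaf ndGg2_0)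
 (.leaf ndGg2_1))
 (.node (nat_lit 103) (.leaf ndGg2_2)
 (.leaf ndGg2_3))))

theorem dcGE12_ok : dcGE12.all (elB (nat_lit 12288)) = true := by decide +kernel

def dcGE13 : BT El := (.node (nat_lit 108) (.node (nat_lit 106) (.node (nat_lit 105) (.leaf ndGg2_4)
 (.leaf ndGg3_0))
 (.node (nat_lit 107) (.leaf ndGg3_1)
 (.leaf ndGg3_2)))
 (.node (nat_lit 110) (.node (nat_lit 109) (.leaf ndGg3_3)
 (.leaf ndGg3_4))
 (.node (nat_lit 111) (.leaf ndGg4_0)
 (.leaf ndGg4_1))))

theorem dcGE13_ok : dcGE13.all (elB (nat_lit 12288)) = true := by decide +kernel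

def dcGE14 : BT El := (.node (nat_lit 113) (.leaf ndGg4_2)
 (.node (nat_lit 114) (.leaf ndGg4_3)
 (.leaf ndGg4_4)))

theorem dcGE14_ok : dcGE14.all (elB (nat_lit 12288)) = true := by decide +kernel


end

end CF.Mon
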