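import Cfsg.Agent.Mon.DcGC

set_option autoImplicit false
set_option maxRecDepth 100000

namespace CF.Mon

open CF.Comp

noncomputable section

def dcGc0 : List (D2.Cert (El × El)) := [.init,
  .init,
  .init,
  .init,
  .init,
  .init,
  .init,
  .init,
  .init,
  .init,
  .defn,
  .stab (nat_lit 20) (idE, idE) ⟨(nat_lit 0), ⟨[nat_lit 8, nat_lit 9, nat_lit 9, nat_lit 1, nat_lit 2, nat_lit 6, nat_lit 9], [], (nat_lit 20), (⟨[nat_lit 0xffaa39642481d8b38d4e14b6973116e53c02, nat_lit 0xc55ff66340f8d88a70c22819743a6b22dd13, nat_lit 0x8e11bb1caf08b1443266ea14275d448036cf], [nat_lit 81920, nat_lit 86016, nat_lit 98304, nat_lit 110592, nat_lit 174080, nat_lit 169472, nat_lit 166400, nat_lit 162176, nat_lit 159680, nat_lit 152864, nat_lit 150624, nat_lit 146376, nat_lit 140828, nat_lit 137804, nat_lit 134072, nat_lit 2834, nat_lit 4100, nat_lit 10264, nat_lit 14960, nat_lit 19200, nat_lit 22912, nat_lit 25088, nat_lit 30976, nat_lit 43008, nat_lit 46334, nat_lit 43521, nat_lit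 37242, nat_lit 33377, nat_lit 28698, nat_lit 25141, nat_lit 20494, nat_lit 16388, nat_lit 12326, nat_lit 8211, nat_lit 4100, nat_lit 2, nat_lit 421894, nat_lit 413700, nat_lit 405504, nat_lit 151680, nat_lit 147488, nat_lit 143600, nat_lit 131280, nat_lit 45057, nat_lit 40961, nat_lit 37089, nat_lit 32824, nat_lit 8193, nat_lit 4097]⟩, ⟨[nat_lit 0x6c395caa6cca16419a1b13116f81c7713940, nat_lit 0x60f3cc888013aaaf1ce12620b6325d76928b, nat_lit 0xa039c092e2fac004bcca30a04e331474d1b6], [nat_lit 65536, nat_lit 69632, nat_lit 73728, nat_lit 77824, nat_lit 94208, nat_lit 98304, nat_lit 102400, nat_lit 106496, nat_lit 110592, nat_lit 178176, nat_lit 173056, nat_lit 169984, nat_lit 165376, nat_lit 163456, nat_lit 159360, nat_lit 153184, nat_lit 146496, nat_lit 141916, nat_lit 135586, nat_lit 132543, nat_lit 1406, nat_lit 4100, nat_lit 9592, nat_lit 15680, nat_lit 16608, nat_lit 23872, nat_lit 25600, nat_lit 30464, nat_lit 34816, nat_lit 43008, nat_lit 46043, nat_lit 41856, nat_lit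 37205, nat_lit 32864, nat_lit 29794, nat_lit 24712, nat_lit 20546, nat_lit 16898, nat_lit 12290, nat_lit 8195, nat_lit 4100, nat_lit 2, nat_lit 421894, nat_lit 413700, nat_lit 405504, nat_lit 151616, nat_lit 131080, nat_lit 45089, nat_lit 40992, nat_lit 36936, nat_lit 32800, nat_lit 8193, nat_lit 4097, nat_lit 327680]⟩)⟩, ⟨[], [], nat_lit 0, (idE, idE)⟩⟩,
  .stab (nat_lit 20) (idE, idE) ⟨(nat_lit 0), ⟨[nat_lit 4, nat_lit 3, nat_lit 4, nat_lit 5, nat_lit 9, nat_lit 5, nat_lit 2], [], (nat_lit 20), (⟨[nat_lit 0x593c9394cc45d55789607089ae7806ca2136, nat_lit 0x8484b11cdf485c4c2a0e48d40d906ce3256a, nat_lit 0x5553ca3349659c12bc26c522ae8a425a0c4f], [nat_lit 65536, nat_lit 69632, nat_lit 73728, nat_lit 81920, nat_lit 90112, nat_lit 94208, nat_lit 106496, nat_lit 175104, nat_lit 168448, nat_lit 166144, nat_lit 163200, nat_lit 159296, nat_lit 154176, nat_lit 148912, nat_lit 143448, nat_lit 140608, nat_lit 135466, nat_lit 133962, nat_lit 2532, nat_lit 6628, nat_lit 8624, nat_lit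 14896, nat_lit 18400, nat_lit 21184, nat_lit 26240, nat_lit 32256, nat_lit 35840, nat_lit 37888, nat_lit 45186, nat_lit 41839, nat_lit 37235, nat_lit 33502, nat_lit 28931, nat_lit 25101, nat_lit 20566, nat_lit 16456, nat_lit 12290, nat_lit 8211, nat_lit 4097, nat_lit 434182, nat_lit 413700, nat_lit 405504, nat_lit 156672, nat_lit 152576, nat_lit 143456, nat_lit 131096, nat_lit 45112, nat_lit 36921, nat_lit 32769, nat_lit 28729, nat_lit 8193, nat_lit 4097, nat_lit 327680]⟩, ⟨[nat_lit 0xd777e1314648aaaf65130ba1b29bacb088e0, nat_lit 0x7bedd241aad3dd8b22ace802724bcb410e21, nat_lit 0xd4428179634359935810a25db03bab248c41], [nat_lit 65536, nat_lit 69632, nat_lit 73728, nat_lit 86016, nat_lit 98304, nat_lit 106496, nat_lit 174080, nat_lit 167424, nat_lit 161024, nat_lit 156288, nat_lit 152192, nat_lit 149136, nat_lit 147160, nat_lit 139432, nat_lit 137302, nat_lit 131418, nat_lit 1004, nat_lit 5100, nat_lit 11896, nat_lit 13664, nat_lit 16448, nat_lit 24384, nat_lit 25216,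 nat_lit 30208, nat_lit 33792, nat_lit 39936, nat_lit 45302, nat_lit 41391, nat_lit 37077, nat_lit 32991, nat_lit 28797, nat_lit 24733, nat_lit 20573, nat_lit 16416, nat_lit 12289, nat_lit 8208, nat_lit 4097, nat_lit 430086, nat_lit 413700, nat_lit 405504, nat_lit 156160, nat_lit 152128, nat_lit 148064, nat_lit 143392, nat_lit 131128, nat_lit 45065, nat_lit 41561, nat_lit 32825, nat_lit 28761, nat_lit 8193, nat_lit 4097]⟩)⟩, ⟨[], [], nat_lit 0, (idE, idE)⟩⟩]

theorem dcGr0 : D2.Rng dxG 0 13 := D2.Rng.of (l := dcGc0) (by decide +kernel)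

def dcGc13 : List (D2.Cert (El × El)) := [.stab (nat_lit 20) (idE, idE) ⟨(nat_lit 0), ⟨[nat_lit 9, nat_lit 2, nat_lit 9, nat_lit 9, nat_lit 6, nat_lit 6, nat_lit 5], [], (nat_lit 20), (⟨[nat_lit 0x7bedd25dde18a48a008b040e8d91ed5730d3, nat_lit 0xebbb276da4a8ccc3480a8832ab3bc4ea1037, nat_lit 0xacfc5f751803be6a0d8c445c4b84aa36a4b1, nat_lit 0xeee288a5e490ae623bac08a8c520df58310d], [nat_lit 77824, nat_lit 81920, nat_lit 86016, nat_lit 90112, nat_lit 94208, nat_lit 98304, nat_lit 106496, nat_lit 175104, nat_lit 168448, nat_lit 164864, nat_lit 160896, nat_lit 159168, nat_lit 155296, nat_lit 150800, nat_lit 145016, nat_lit 139452, nat_lit 136158, nat_lit 131680, nat_lit 588, nat_lit 4684, nat_lit 8200, nat_lit 15504, nat_lit 20160, nat_lit 21056, nat_lit 26240, nat_lit 31744, nat_lit 35328, nat_lit 37888, nat_lit 43008, nat_lit 45985, nat_lit 41828, nat_lit 38128, nat_lit 32909, nat_lit 28765, nat_lit 24740, nat_lit 20503, nat_lit 16396, nat_lit 12311, nat_lit 8209, nat_lit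 4097, nat_lit 438282, nat_lit 430088, nat_lit 421894, nat_lit 413700, nat_lit 405504, nat_lit 171008, nat_lit 164352, nat_lit 155776, nat_lit 152000, nat_lit 147840, nat_lit 145344, nat_lit 133072, nat_lit 8193, nat_lit 4097]⟩, ⟨[nat_lit 0xcfca0304e4208e30abeee49947b518d22165, nat_lit 0xbd2d7dba012ab2c409da2325eb1cd548960e, nat_lit 0x3006a9894331daa76d248239e032962bc12c, nat_lit 0xdd121b29c52badc69b1e14b4941c54805a15], [nat_lit 65536, nat_lit 69632, nat_lit 73728, nat_lit 77824, nat_lit 86016, nat_lit 90112, nat_lit 98304, nat_lit 106496, nat_lit 173056, nat_lit 171008, nat_lit 166400, nat_lit 162048, nat_lit 158592, nat_lit 153568, nat_lit 150624, nat_lit 147080, nat_lit 140536, nat_lit 136178, nat_lit 133449, nat_lit 488, nat_lit 4584, nat_lit 8680, nat_lit 12864, nat_lit 18336, nat_lit 24448, nat_lit 28288, nat_lit 32000, nat_lit 33792, nat_lit 38912, nat_lit 46496, nat_lit 41792, nat_lit 38251, nat_lit 33991, nat_lit 29041, nat_lit 24600, nat_lit 20484, nat_lit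 16388, nat_lit 12289, nat_lit 8193, nat_lit 4097, nat_lit 2, nat_lit 438282, nat_lit 430088, nat_lit 421894, nat_lit 413700, nat_lit 405504, nat_lit 174080, nat_lit 169984, nat_lit 166912, nat_lit 162048, nat_lit 157568, nat_lit 154240, nat_lit 151072, nat_lit 145328, nat_lit 134720, nat_lit 8193, nat_lit 4097, nat_lit 327680]⟩)⟩, ⟨[], [], nat_lit 0, (idE, idE)⟩⟩,
  .stab (nat_lit 20) (idE, idE) ⟨(nat_lit 0), ⟨[nat_lit 3, nat_lit 1, nat_lit 8, nat_lit 0, nat_lit 3], [], (nat_lit 20), (⟨[nat_lit 0xffc3a58284da118e01ac188deb4d5079dcb2, nat_lit 0x4e8e71112419b5c60592f540eba96374506c, nat_lit 0x63af30684657ccd090acbba811a928e3a189, nat_lit 0xcc0f93518333d88f754605c4a24a2ed65250], [nat_lit 65536, nat_lit 69632, nat_lit 73728, nat_lit 86016, nat_lit 90112, nat_lit 98304, nat_lit 102400, nat_lit 106496, nat_lit 173056, nat_lit 171520, nat_lit 165120, nat_lit 161152, nat_lit 159232, nat_lit 151712, nat_lit 150192, nat_lit 146256, nat_lit 139360, nat_lit 136260, nat_lit 133342,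 nat_lit 1136, nat_lit 5232, nat_lit 9328, nat_lit 13072, nat_lit 18784, nat_lit 23616, nat_lit 26368, nat_lit 32256, nat_lit 39936, nat_lit 45937, nat_lit 41440, nat_lit 36976, nat_lit 32987, nat_lit 28685, nat_lit 24835, nat_lit 20494, nat_lit 16455, nat_lit 8193, nat_lit 4097, nat_lit 2, nat_lit 438282, nat_lit 430088, nat_lit 421894, nat_lit 413700, nat_lit 405504, nat_lit 174080, nat_lit 171008, nat_lit 167424, nat_lit 157184, nat_lit 155328, nat_lit 147904, nat_lit 144160, nat_lit 133848, nat_lit 8193, nat_lit 4097]⟩, ⟨[nat_lit 0x2788ee92c559b6271a2f0b508e0b0c053ca9, nat_lit 0x8224d46c9890c54245e145966603cf5b3864, nat_lit 0x5aac3a0d132b8a6b811d13a90f65aa533403, nat_lit 0x9a9936115868a6a77401325a4a0ddb478d68], [nat_lit 65536, nat_lit 69632, nat_lit 73728, nat_lit 81920, nat_lit 102400, nat_lit 159872, nat_lit 154496, nat_lit 150416, nat_lit 143440, nat_lit 142480, nat_lit 137852, nat_lit 132728, nat_lit 2062, nat_lit 4100, nat_lit 10248, nat_lit 14464, nat_lit 16672,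 nat_lit 24128, nat_lit 27392, nat_lit 30720, nat_lit 38912, nat_lit 45158, nat_lit 41845, nat_lit 37368, nat_lit 32963, nat_lit 29025, nat_lit 24873, nat_lit 12293, nat_lit 8195, nat_lit 4100, nat_lit 438282, nat_lit 430088, nat_lit 421894, nat_lit 413700, nat_lit 405504, nat_lit 174080, nat_lit 168960, nat_lit 164864, nat_lit 163584, nat_lit 159488, nat_lit 151808, nat_lit 150368, nat_lit 144576, nat_lit 134152, nat_lit 8193, nat_lit 4097]⟩)⟩, ⟨[], [], nat_lit 0, (idE, idE)⟩⟩,
  .prod [] [nat_lit 13, nat_lit 11, nat_lit 11, nat_lit 14],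
  .prod [] [nat_lit 15, nat_lit 15, nat_lit 15, nat_lit 12],
  .prod [] [nat_lit 13, nat_lit 12, nat_lit 12, nat_lit 11],
  .prod [] [nat_lit 13, nat_lit 15, nat_lit 13, nat_lit 15]]

theorem dcGr13 : D2.Rng dxG 13 19 := D2.Rng.of (l := dcGc13) (by decide +kernel)

def dcGc19 : List (D2.Cert (El × El)) := [.prod [] [nat_lit 14, nat_lit 13, nat_lit 17, nat_lit 12],
  .prod [] [nat_lit 13, nat_lit 14, nat_lit 19, nat_lit 19],
  .edge (⟨[nat_lit 0xe8814893ac6892efa9d9312060a34b00a56a, nat_lit 0xd1724d7a0772aa093ba4c356d301051a2da1, nat_lit 0x59ff361c0d22a9604ba778bd14092d5608ed, nat_lit 0x217d4dab409088b31ddc8544cb91d8f85096], [nat_lit 86016, nat_lit 90112, nat_lit 94208, nat_lit 102400, nat_lit 106496, nat_lit 173056, nat_lit 168448, nat_lit 166144, nat_lit 160000, nat_lit 155968, nat_lit 152992, nat_lit 149104, nat_lit 146264, nat_lit 140048, nat_lit 138794, nat_lit 134772, nat_lit 64, nat_lit 4160, nat_lit 8256, nat_lit 14576, nat_lit 19968, nat_lit 22592, nat_lit 25088,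 nat_lit 32512, nat_lit 36352, nat_lit 39936, nat_lit 46385, nat_lit 41529, nat_lit 38249, nat_lit 33489, nat_lit 28968, nat_lit 24639, nat_lit 20502, nat_lit 16422, nat_lit 12359, nat_lit 8193, nat_lit 4097, nat_lit 438282, nat_lit 430088, nat_lit 421894, nat_lit 413700, nat_lit 405504, nat_lit 174080, nat_lit 167424, nat_lit 162816, nat_lit 157056, nat_lit 152768, nat_lit 148800, nat_lit 144768, nat_lit 131624, nat_lit 8193, nat_lit 4097]⟩, ⟨[nat_lit 0x503996ba2781422bbc0ba8d8a32512b5264, nat_lit 0x821781a4e42545e40aee9682cc441c7354a3, nat_lit 0x444ebda5d520d88d5be0e4c4a6400733b2a2, nat_lit 0xe88eb8219233ceada40ac92c5143c2e05eca], [nat_lit 81920, nat_lit 94208, nat_lit 110592, nat_lit 178176, nat_lit 175104, nat_lit 171008, nat_lit 166144, nat_lit 161664, nat_lit 156672, nat_lit 155520, nat_lit 149744, nat_lit 147160, nat_lit 139876, nat_lit 137968, nat_lit 133127, nat_lit 262, nat_lit 4100, nat_lit 8448, nat_lit 13664, nat_lit 20224, nat_lit 21376, nat_lit 26880,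 nat_lit 30208, nat_lit 35328, nat_lit 38912, nat_lit 43008, nat_lit 45728, nat_lit 41954, nat_lit 36923, nat_lit 32839, nat_lit 29794, nat_lit 24853, nat_lit 21019, nat_lit 16463, nat_lit 12311, nat_lit 8195, nat_lit 4100, nat_lit 2, nat_lit 438282, nat_lit 430088, nat_lit 421894, nat_lit 413700, nat_lit 405504, nat_lit 169984, nat_lit 167424, nat_lit 160768, nat_lit 158208, nat_lit 154944, nat_lit 151168, nat_lit 145712, nat_lit 133616, nat_lit 8193, nat_lit 4097, nat_lit 327680]⟩) ⟨(nat_lit 1), ⟨[], [], (nat_lit 21), (⟨[nat_lit 0x3355a5b35e72213770a4a8d4d0284145b073, nat_lit 0x305c60616c96c1e299007956811aa2b75d06, nat_lit 0xe781b80c9ed75d25390715cd40b190c80ab4, nat_lit 0x55090372e778c0442a809099ec921b638eb4], [nat_lit 65536, nat_lit 69632, nat_lit 73728, nat_lit 77824, nat_lit 81920, nat_lit 90112, nat_lit 94208, nat_lit 98304, nat_lit 102400, nat_lit 106496, nat_lit 173056, nat_lit 164352, nat_lit 160000, nat_lit 153024, nat_lit 150624, nat_lit 146616, nat_lit 141212,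 nat_lit 137882, nat_lit 134952, nat_lit 2542, nat_lit 4100, nat_lit 10728, nat_lit 16240, nat_lit 20352, nat_lit 22272, nat_lit 25088, nat_lit 30720, nat_lit 35328, nat_lit 38912, nat_lit 43008, nat_lit 45923, nat_lit 41643, nat_lit 37279, nat_lit 32925, nat_lit 28928, nat_lit 24578, nat_lit 21526, nat_lit 16418, nat_lit 12304, nat_lit 8195, nat_lit 4100, nat_lit 2, nat_lit 438282, nat_lit 430088, nat_lit 421894, nat_lit 413700, nat_lit 405504, nat_lit 163584, nat_lit 159104, nat_lit 155008, nat_lit 147680, nat_lit 145056, nat_lit 132784, nat_lit 8193, nat_lit 4097, nat_lit 327680]⟩, ⟨[nat_lit 0xac30f58dca779828aaa0b9d0406da4c48dc4, nat_lit 0xb21e276b87739836a4642402a99bc8a82d85, nat_lit 0xe77e477c4b3b8e4bb30d469d4945602011c1, nat_lit 0x555cc5640b5a4ced1282333ef2744965a408], [nat_lit 77824, nat_lit 94208, nat_lit 102400, nat_lit 110592, nat_lit 178176, nat_lit 174080, nat_lit 171520, nat_lit 165120, nat_lit 160640, nat_lit 158400, nat_lit 151712, nat_lit 148528, nat_lit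 145056, nat_lit 142532, nat_lit 137942, nat_lit 132884, nat_lit 3226, nat_lit 4100, nat_lit 8344, nat_lit 15504, nat_lit 17056, nat_lit 23680, nat_lit 26624, nat_lit 32000, nat_lit 34816, nat_lit 38912, nat_lit 43008, nat_lit 46442, nat_lit 41728, nat_lit 37951, nat_lit 33535, nat_lit 28998, nat_lit 24587, nat_lit 21000, nat_lit 16424, nat_lit 12295, nat_lit 8200, nat_lit 4100, nat_lit 438282, nat_lit 430088, nat_lit 421894, nat_lit 413700, nat_lit 405504, nat_lit 174080, nat_lit 168960, nat_lit 166400, nat_lit 163584, nat_lit 158720, nat_lit 153024, nat_lit 149664, nat_lit 146720, nat_lit 132024, nat_lit 8193, nat_lit 4097, nat_lit 327680]⟩)⟩, ⟨[nat_lit 5, nat_lit 8, nat_lit 0, nat_lit 9, nat_lit 0], [], (nat_lit 20), (⟨[nat_lit 0xa0059ab00222b228b8eb46aa065ccee93d24, nat_lit 0x2db7dd2818a799218ceb2589a720dc885af4], [nat_lit 65536, nat_lit 69632, nat_lit 73728, nat_lit 86016, nat_lit 94208, nat_lit 98304, nat_lit 173056, nat_lit 168960, nat_lit 164096, nat_lit 163072,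 nat_lit 158016, nat_lit 152160, nat_lit 150848, nat_lit 145752, nat_lit 142484, nat_lit 135476, nat_lit 134598, nat_lit 1910, nat_lit 4100, nat_lit 10096, nat_lit 15680, nat_lit 18912, nat_lit 21696, nat_lit 25728, nat_lit 31744, nat_lit 34816, nat_lit 38912, nat_lit 43008, nat_lit 46618, nat_lit 43864, nat_lit 37082, nat_lit 34037, nat_lit 28701, nat_lit 24615, nat_lit 20495, nat_lit 16389, nat_lit 12290, nat_lit 8195, nat_lit 4100, nat_lit 417796, nat_lit 405504, nat_lit 143440, nat_lit 131144, nat_lit 41024, nat_lit 36880, nat_lit 28761, nat_lit 20496, nat_lit 8193, nat_lit 4097]⟩, ⟨[nat_lit 0x53f3c0044d7b1c3542c69a4b52468b3a2f2, nat_lit 0xe228182928660e098a1c204daa905eb3d6d7], [nat_lit 77824, nat_lit 86016, nat_lit 90112, nat_lit 98304, nat_lit 102400, nat_lit 106496, nat_lit 173056, nat_lit 165632, nat_lit 160000, nat_lit 158464, nat_lit 154528, nat_lit 151312, nat_lit 147056, nat_lit 141620, nat_lit 139256, nat_lit 131143, nat_lit 2804, nat_lit 6900, nat_lit 10144,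 nat_lit 15168, nat_lit 19168, nat_lit 24000, nat_lit 26240, nat_lit 30720, nat_lit 35328, nat_lit 46878, nat_lit 40990, nat_lit 39246, nat_lit 32931, nat_lit 28933, nat_lit 24625, nat_lit 20494, nat_lit 16395, nat_lit 12309, nat_lit 8203, nat_lit 4097, nat_lit 421892, nat_lit 405504, nat_lit 147584, nat_lit 143488, nat_lit 131088, nat_lit 37017, nat_lit 32784, nat_lit 24592, nat_lit 20488, nat_lit 8193, nat_lit 4097, nat_lit 327680]⟩)⟩⟩,
  .edge (⟨[nat_lit 0xe2d7e7050910b56264268bd54e3992fb1472, nat_lit 0xbe4d242852cbc670a4ab612dc41a0ed029e6, nat_lit 0x533f05320aa831b100ab7a0c36391697ce4e], [nat_lit 77824, nat_lit 81920, nat_lit 86016, nat_lit 90112, nat_lit 98304, nat_lit 102400, nat_lit 106496, nat_lit 110592, nat_lit 178176, nat_lit 173056, nat_lit 169472, nat_lit 167424, nat_lit 162944, nat_lit 157440, nat_lit 152992, nat_lit 150624, nat_lit 145488, nat_lit 142220, nat_lit 137078, nat_lit 133410, nat_lit 2080, nat_lit 6176, nat_lit 10272, nat_lit 16272, nat_lit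 19328, nat_lit 23040, nat_lit 26496, nat_lit 32000, nat_lit 33792, nat_lit 46794, nat_lit 41922, nat_lit 36986, nat_lit 33926, nat_lit 29745, nat_lit 24631, nat_lit 20500, nat_lit 16424, nat_lit 12308, nat_lit 434184, nat_lit 421894, nat_lit 413700, nat_lit 164864, nat_lit 160000, nat_lit 151680, nat_lit 148512, nat_lit 45120, nat_lit 36928, nat_lit 327680]⟩, ⟨[nat_lit 0xb7edb138df6a808e106085cd8d91526bc68a, nat_lit 0xd84b4b9b61209d3620e8b15caa055068b1ee, nat_lit 0xc96569a28eb996d28892e64068255ed30037], [nat_lit 77824, nat_lit 81920, nat_lit 86016, nat_lit 90112, nat_lit 94208, nat_lit 98304, nat_lit 102400, nat_lit 110592, nat_lit 173056, nat_lit 169472, nat_lit 166400, nat_lit 162688, nat_lit 155776, nat_lit 152032, nat_lit 149776, nat_lit 143448, nat_lit 139968, nat_lit 139256, nat_lit 131819, nat_lit 4020, nat_lit 8116, nat_lit 10256, nat_lit 14336, nat_lit 20160, nat_lit 21952, nat_lit 26880, nat_lit 31232, nat_lit 33792, nat_lit 37888, nat_lit 43008, nat_lit 46624,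 nat_lit 43157, nat_lit 38068, nat_lit 33002, nat_lit 29041, nat_lit 24578, nat_lit 20754, nat_lit 16417, nat_lit 12290, nat_lit 9216, nat_lit 4097, nat_lit 425991, nat_lit 413700, nat_lit 405504, nat_lit 143376, nat_lit 131232, nat_lit 45488, nat_lit 40961, nat_lit 36865, nat_lit 24624, nat_lit 8193, nat_lit 4097, nat_lit 327680]⟩) ⟨(nat_lit 2), ⟨[], [], (nat_lit 21), (⟨[nat_lit 0x282d2859ca9bb28f1c26290620220cab3aad, nat_lit 0x5666aa2d2203cee29107642d4f6b92cac026, nat_lit 0x8b8b4e7013420c5378575958f78b0ad81948], [nat_lit 65536, nat_lit 69632, nat_lit 73728, nat_lit 86016, nat_lit 90112, nat_lit 94208, nat_lit 98304, nat_lit 106496, nat_lit 110592, nat_lit 178176, nat_lit 175104, nat_lit 164864, nat_lit 160768, nat_lit 157184, nat_lit 152864, nat_lit 150720, nat_lit 144400, nat_lit 143264, nat_lit 138404, nat_lit 132570, nat_lit 2112, nat_lit 6208, nat_lit 10304, nat_lit 16368, nat_lit 19680, nat_lit 21696, nat_lit 27648, nat_lit 30976, nat_lit 33792, nat_lit 43008,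 nat_lit 46874, nat_lit 43291, nat_lit 37894, nat_lit 33022, nat_lit 28960, nat_lit 24583, nat_lit 20764, nat_lit 16387, nat_lit 12418, nat_lit 8193, nat_lit 4097, nat_lit 425990, nat_lit 413700, nat_lit 405504, nat_lit 155904, nat_lit 147520, nat_lit 143616, nat_lit 131400, nat_lit 45416, nat_lit 41280, nat_lit 36936, nat_lit 28673, nat_lit 8193, nat_lit 4097]⟩, ⟨[nat_lit 0x5ccf059da45abc8d8a44e3a97444183b9801, nat_lit 0x42e1d74d264542e75c6a56342f70c40322d2, nat_lit 0x8448e442547ab45098dd6bc5800be9222cc5], [nat_lit 65536, nat_lit 69632, nat_lit 73728, nat_lit 86016, nat_lit 98304, nat_lit 102400, nat_lit 173056, nat_lit 168448, nat_lit 166912, nat_lit 157568, nat_lit 152608, nat_lit 150768, nat_lit 146680, nat_lit 139596, nat_lit 135900, nat_lit 131083, nat_lit 2008, nat_lit 6104, nat_lit 10200, nat_lit 15264, nat_lit 18432, nat_lit 21568, nat_lit 26496, nat_lit 28928, nat_lit 38912, nat_lit 43008, nat_lit 46137, nat_lit 43587, nat_lit 36917, nat_lit 33015, nat_lit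 28961, nat_lit 24615, nat_lit 20544, nat_lit 16387, nat_lit 12292, nat_lit 8193, nat_lit 4097, nat_lit 425991, nat_lit 417797, nat_lit 409600, nat_lit 160000, nat_lit 156032, nat_lit 151808, nat_lit 147776, nat_lit 131312, nat_lit 45089, nat_lit 41073, nat_lit 37041, nat_lit 12289, nat_lit 8193, nat_lit 4097]⟩)⟩, ⟨[nat_lit 5, nat_lit 3, nat_lit 5, nat_lit 5], [], (nat_lit 20), (⟨[nat_lit 0x9cc95c03201a1d2219917291b28b94bad9f3, nat_lit 0x1282d173029b1df1588a4a2ae36d4d040253, nat_lit 0x88ebe8bad857a4f4200d14055298ad56c06e, nat_lit 0x3caa5528d73946ef238d60828c81c49ab50a], [nat_lit 65536, nat_lit 69632, nat_lit 73728, nat_lit 77824, nat_lit 81920, nat_lit 94208, nat_lit 98304, nat_lit 106496, nat_lit 174080, nat_lit 169472, nat_lit 165376, nat_lit 160512, nat_lit 158080, nat_lit 153824, nat_lit 151088, nat_lit 144136, nat_lit 141432, nat_lit 137376, nat_lit 131826, nat_lit 4020, nat_lit 8116, nat_lit 9136, nat_lit 15840, nat_lit 20384, nat_lit 24448, nat_lit 26624, nat_lit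 32256, nat_lit 34304, nat_lit 37888, nat_lit 43008, nat_lit 45922, nat_lit 41952, nat_lit 38342, nat_lit 32926, nat_lit 28701, nat_lit 24598, nat_lit 21012, nat_lit 16398, nat_lit 12304, nat_lit 8203, nat_lit 4097, nat_lit 438282, nat_lit 430088, nat_lit 421894, nat_lit 413700, nat_lit 405504, nat_lit 174080, nat_lit 171008, nat_lit 164864, nat_lit 156544, nat_lit 154880, nat_lit 148032, nat_lit 146976, nat_lit 131168, nat_lit 8193, nat_lit 4097]⟩, ⟨[nat_lit 0x6c6097289684c122a5f4144613dd8b336a8, nat_lit 0x1b788d25994849e73380150eb315d316a0ab, nat_lit 0x5506f34c6b4101123dc2d75866831ea2926b, nat_lit 0xe74d1273e804488d3cd4c28ee6aac29b4222], [nat_lit 77824, nat_lit 81920, nat_lit 90112, nat_lit 98304, nat_lit 106496, nat_lit 110592, nat_lit 173056, nat_lit 171520, nat_lit 166912, nat_lit 163456, nat_lit 159552, nat_lit 152864, nat_lit 150736, nat_lit 146384, nat_lit 143132, nat_lit 136132, nat_lit 131395, nat_lit 986, nat_lit 4100, nat_lit 8320, nat_lit 13264, nat_lit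 19712, nat_lit 22848, nat_lit 26112, nat_lit 32000, nat_lit 35840, nat_lit 37888, nat_lit 46627, nat_lit 41958, nat_lit 38013, nat_lit 32907, nat_lit 28693, nat_lit 25629, nat_lit 20546, nat_lit 16423, nat_lit 12294, nat_lit 8201, nat_lit 4100, nat_lit 2, nat_lit 438282, nat_lit 430088, nat_lit 421894, nat_lit 413700, nat_lit 405504, nat_lit 171008, nat_lit 166400, nat_lit 163072, nat_lit 158976, nat_lit 154688, nat_lit 147808, nat_lit 146096, nat_lit 131912, nat_lit 8193, nat_lit 4097, nat_lit 327680]⟩)⟩⟩,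
  .defn]

theorem dcGr19 : D2.Rng dxG 19 24 := D2.Rng.of (l := dcGc19) (by decide +kernel)

def dcGc24 : List (D2.Cert (El × El)) := [.stab (nat_lit 46) (idE, idE) ⟨(nat_lit 0), ⟨[nat_lit 18, nat_lit 16, nat_lit 12], [], (nat_lit 46), (⟨[nat_lit 0xa0505cb2a8863a517b67028cc1208075dd35, nat_lit 0xfcc5a2c53764e0170c871216d950ca056cf, nat_lit 0x36a93c0cd97824b17acce22840a58e8a8db2, nat_lit 0x814b825a4d66c068050a20c9ca9c4f7abc8c], [nat_lit 77824, nat_lit 81920, nat_lit 90112, nat_lit 106496, nat_lit 171520, nat_lit 164352, nat_lit 158720, nat_lit 152128, nat_lit 146720, nat_lit 139480, nat_lit 138910, nat_lit 131656, nat_lit 1478, nat_lit 4100, nat_lit 9664, nat_lit 14224, nat_lit 17856, nat_lit 21568, nat_lit 27776, nat_lit 30976, nat_lit 34304, nat_lit 43008, nat_lit 46693, nat_lit 41725, nat_lit 38330, nat_lit 33495, nat_lit 28741, nat_lit 24615, nat_lit 20560, nat_lit 16395, nat_lit 12307, nat_lit 8195, nat_lit 4100, nat_lit 2, nat_lit 438282, nat_lit 430088, nat_lit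 421894, nat_lit 413700, nat_lit 405504, nat_lit 160768, nat_lit 156800, nat_lit 149120, nat_lit 146976, nat_lit 133072, nat_lit 8193, nat_lit 4097]⟩, ⟨[nat_lit 0x4bb1b240d6a104092d5b38bae623ed265207, nat_lit 0xe8d48e994514c9d658546231a3441f53dc14, nat_lit 0xee47410a20d03e2993943b96b69ad82a1887, nat_lit 0xfaa36988c569d1683980bbc89ad0728ac2a], [nat_lit 77824, nat_lit 81920, nat_lit 86016, nat_lit 94208, nat_lit 102400, nat_lit 106496, nat_lit 178176, nat_lit 175104, nat_lit 168448, nat_lit 165632, nat_lit 161536, nat_lit 158464, nat_lit 153824, nat_lit 149728, nat_lit 143792, nat_lit 143236, nat_lit 138084, nat_lit 132208, nat_lit 3856, nat_lit 7952, nat_lit 12048, nat_lit 16144, nat_lit 18912, nat_lit 22080, nat_lit 28416, nat_lit 29184, nat_lit 34304, nat_lit 38912, nat_lit 43008, nat_lit 47014, nat_lit 41504, nat_lit 37363, nat_lit 32819, nat_lit 28720, nat_lit 25123, nat_lit 20507, nat_lit 16390, nat_lit 12325, nat_lit 8193, nat_lit 4097, nat_lit 438282, nat_lit 430088,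 nat_lit 421894, nat_lit 413700, nat_lit 405504, nat_lit 169984, nat_lit 164352, nat_lit 160256, nat_lit 155904, nat_lit 151616, nat_lit 147968, nat_lit 144432, nat_lit 131912, nat_lit 8193, nat_lit 4097, nat_lit 327680]⟩)⟩, ⟨[], [], nat_lit 0, (idE, idE)⟩⟩,
  .stab (nat_lit 46) (idE, idE) ⟨(nat_lit 0), ⟨[nat_lit 12, nat_lit 19, nat_lit 19], [], (nat_lit 46), (⟨[nat_lit 0xdddeb181c762154dadd89405e27464ba00d3, nat_lit 0x35cfca12b15cca9502eeb050f6364638870, nat_lit 0xf055368d9a550ab4930f782c1340dcf32481, nat_lit 0x3060c590465abc08bd2071596d331d19a544], [nat_lit 65536, nat_lit 69632, nat_lit 73728, nat_lit 81920, nat_lit 86016, nat_lit 98304, nat_lit 174080, nat_lit 169984, nat_lit 165888, nat_lit 161280, nat_lit 159680, nat_lit 153984, nat_lit 149328, nat_lit 146416, nat_lit 140900, nat_lit 138236, nat_lit 133366, nat_lit 1142, nat_lit 4100, nat_lit 9328, nat_lit 14496, nat_lit 17440, nat_lit 23232, nat_lit 24704, nat_lit 31488, nat_lit 39936, nat_lit 46170, nat_lit 41774,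 nat_lit 37360, nat_lit 32962, nat_lit 29018, nat_lit 24844, nat_lit 20508, nat_lit 16393, nat_lit 12310, nat_lit 8195, nat_lit 4100, nat_lit 438282, nat_lit 430088, nat_lit 421894, nat_lit 413700, nat_lit 405504, nat_lit 174080, nat_lit 169984, nat_lit 166400, nat_lit 161536, nat_lit 159360, nat_lit 155072, nat_lit 150240, nat_lit 144128, nat_lit 134552, nat_lit 8193, nat_lit 4097, nat_lit 327680]⟩, ⟨[nat_lit 0x95ff5532e8354d2f3c4ad13a0165e5602095, nat_lit 0x3505cf5c50db89253aac103072852ae24ccf, nat_lit 0xe4777d0562762ed4291a874133129e191877, nat_lit 0x303a0c42e0a3b07433c3525da070ac58ce49], [nat_lit 81920, nat_lit 86016, nat_lit 94208, nat_lit 98304, nat_lit 102400, nat_lit 178176, nat_lit 174080, nat_lit 170496, nat_lit 165888, nat_lit 161536, nat_lit 155904, nat_lit 153088, nat_lit 149872, nat_lit 144456, nat_lit 140324, nat_lit 139228, nat_lit 134803, nat_lit 256, nat_lit 4352, nat_lit 8448, nat_lit 15968, nat_lit 20032, nat_lit 24512, nat_lit 25472, nat_lit 30976,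 nat_lit 34816, nat_lit 39936, nat_lit 43008, nat_lit 46723, nat_lit 41539, nat_lit 37187, nat_lit 33015, nat_lit 28675, nat_lit 24882, nat_lit 20488, nat_lit 16392, nat_lit 12294, nat_lit 8193, nat_lit 4097, nat_lit 2, nat_lit 438282, nat_lit 430088, nat_lit 421894, nat_lit 413700, nat_lit 405504, nat_lit 166912, nat_lit 160000, nat_lit 158464, nat_lit 151808, nat_lit 151456, nat_lit 144720, nat_lit 134552, nat_lit 8193, nat_lit 4097, nat_lit 327680]⟩)⟩, ⟨[], [], nat_lit 0, (idE, idE)⟩⟩,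
  .stab (nat_lit 46) (idE, idE) ⟨(nat_lit 0), ⟨[nat_lit 13, nat_lit 20, nat_lit 13], [], (nat_lit 46), (⟨[nat_lit 0x1dd81712c15392e9a2a130999288dc57d9a8, nat_lit 0x99c302c1a171c51b55171cde624980a2d49, nat_lit 0x3aa00942672031c12dcf552e11a18961bc4d], [nat_lit 90112, nat_lit 98304, nat_lit 102400, nat_lit 106496, nat_lit 110592, nat_lit 175104, nat_lit 171008, nat_lit 164352, nat_lit 162176, nat_lit 159552, nat_lit 152608, nat_lit 149424, nat_lit 143760, nat_lit 140904, nat_lit 135968, nat_lit 133789, nat_lit 986, nat_lit 4100, nat_lit 13264, nat_lit 17376, nat_lit 22592, nat_lit 26112, nat_lit 28928, nat_lit 35328, nat_lit 39936, nat_lit 43008, nat_lit 46503, nat_lit 41301, nat_lit 36988, nat_lit 33810, nat_lit 28705, nat_lit 24841, nat_lit 20498, nat_lit 16426, nat_lit 12294, nat_lit 8200, nat_lit 4100, nat_lit 434185, nat_lit 425991, nat_lit 413700, nat_lit 164864, nat_lit 152704, nat_lit 147840, nat_lit 45568]⟩, ⟨[nat_lit 0xaccff535033724a75daad8dc83409e082992, nat_lit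 0x1bd24b809c98a18321cd6049abade859bc2a, nat_lit 0x5359696c2eb0288891831150f69bea91b0ae], [nat_lit 65536, nat_lit 69632, nat_lit 73728, nat_lit 94208, nat_lit 102400, nat_lit 106496, nat_lit 110592, nat_lit 178176, nat_lit 175104, nat_lit 170496, nat_lit 164864, nat_lit 159872, nat_lit 156160, nat_lit 153504, nat_lit 148928, nat_lit 145760, nat_lit 140752, nat_lit 136554, nat_lit 132414, nat_lit 1866, nat_lit 4100, nat_lit 11376, nat_lit 16064, nat_lit 20000, nat_lit 20608, nat_lit 25472, nat_lit 31488, nat_lit 36352, nat_lit 38912, nat_lit 43008, nat_lit 45731, nat_lit 41823, nat_lit 38144, nat_lit 33928, nat_lit 29011, nat_lit 24607, nat_lit 22542, nat_lit 16395, nat_lit 12305, nat_lit 8226, nat_lit 4100, nat_lit 421894, nat_lit 413700, nat_lit 405504, nat_lit 155776, nat_lit 143552, nat_lit 131280, nat_lit 45168, nat_lit 40961, nat_lit 36865, nat_lit 32960, nat_lit 8193, nat_lit 4097, nat_lit 327680]⟩)⟩, ⟨[], [], nat_lit 0, (idE, idE)⟩⟩,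
  .stab (nat_lit 46) (idE, idE) ⟨(nat_lit 0), ⟨[nat_lit 12, nat_lit 13, nat_lit 20], [], (nat_lit 46), (⟨[nat_lit 0x939c9505988088b181dcd59953256f27a474, nat_lit 0x3300639427609d2d53804789661b105a5eb1, nat_lit 0xbee812282325a427a1076688cf7221754d95, nat_lit 0xaf6c09502935c2a2bc8682b486b06293bd8e], [nat_lit 81920, nat_lit 94208, nat_lit 106496, nat_lit 110592, nat_lit 178176, nat_lit 175104, nat_lit 169984, nat_lit 166144, nat_lit 161280, nat_lit 159680, nat_lit 153984, nat_lit 149328, nat_lit 146424, nat_lit 142172, nat_lit 139032, nat_lit 131372, nat_lit 70, nat_lit 4100, nat_lit 8256, nat_lit 14752, nat_lit 19232, nat_lit 24512, nat_lit 28416, nat_lit 28928, nat_lit 33792, nat_lit 38912, nat_lit 45463, nat_lit 41613, nat_lit 38066, nat_lit 32845, nat_lit 29800, nat_lit 24589, nat_lit 20627, nat_lit 16422, nat_lit 8195, nat_lit 4100, nat_lit 438282, nat_lit 430088, nat_lit 421894, nat_lit 413700, nat_lit 405504, nat_lit 165376, nat_lit 160256, nat_lit 157056, nat_lit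 153408, nat_lit 148032, nat_lit 144016, nat_lit 134152, nat_lit 8193, nat_lit 4097, nat_lit 327680]⟩, ⟨[nat_lit 0x42884b8c968b1aa53dc947844e60da082553, nat_lit 0xafc9c01c9cf290504c40ab4c346aea645d87, nat_lit 0x14878261175b19e9396431450a9b80dbc281, nat_lit 0x5af9fc054371da824c15244d71311ed614ee], [nat_lit 86016, nat_lit 94208, nat_lit 98304, nat_lit 110592, nat_lit 178176, nat_lit 174080, nat_lit 169984, nat_lit 166144, nat_lit 161536, nat_lit 155904, nat_lit 153088, nat_lit 149856, nat_lit 144456, nat_lit 141136, nat_lit 136008, nat_lit 131442, nat_lit 2182, nat_lit 4100, nat_lit 10368, nat_lit 13264, nat_lit 20064, nat_lit 20608, nat_lit 28416, nat_lit 29952, nat_lit 34304, nat_lit 43008, nat_lit 45130, nat_lit 41509, nat_lit 38080, nat_lit 32907, nat_lit 28728, nat_lit 24597, nat_lit 20492, nat_lit 16460, nat_lit 12291, nat_lit 8195, nat_lit 4100, nat_lit 438282, nat_lit 430088, nat_lit 421894, nat_lit 413700, nat_lit 405504, nat_lit 165376, nat_lit 160256, nat_lit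 157312, nat_lit 152896, nat_lit 144576, nat_lit 134152, nat_lit 8193, nat_lit 4097, nat_lit 327680]⟩)⟩, ⟨[], [], nat_lit 0, (idE, idE)⟩⟩]

theorem dcGr24 : D2.Rng dxG 24 28 := D2.Rng.of (l := dcGc24) (by decide +kernel)

def dcGc28 : List (D2.Cert (El × El)) := [.edge (⟨[nat_lit 0x590fc6ad9d23cccc43d30a2c822dd438840d, nat_lit 0x74b81b48d6a241d5bc8ed00448a4de661636, nat_lit 0x711e4b68e47452d5640462cdc07c4815dd49], [nat_lit 77824, nat_lit 81920, nat_lit 86016, nat_lit 90112, nat_lit 98304, nat_lit 102400, nat_lit 106496, nat_lit 110592, nat_lit 178176, nat_lit 173056, nat_lit 169472, nat_lit 167424, nat_lit 162944, nat_lit 157440, nat_lit 152992, nat_lit 150624, nat_lit 145488, nat_lit 142220, nat_lit 137078, nat_lit 133410, nat_lit 2080, nat_lit 6176, nat_lit 10272, nat_lit 16272, nat_lit 19328, nat_lit 23040, nat_lit 26496, nat_lit 32000, nat_lit 33792, nat_lit 46794, nat_lit 41922, nat_lit 36986, nat_lit 33926, nat_lit 29745, nat_lit 24631, nat_lit 20500, nat_lit 16424,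 nat_lit 12308, nat_lit 434184, nat_lit 421894, nat_lit 413700, nat_lit 164864, nat_lit 160000, nat_lit 151680, nat_lit 148512, nat_lit 45120, nat_lit 36928, nat_lit 327680]⟩, ⟨[nat_lit 0xd12884254029286d2bd940a20eb1a7149d77, nat_lit 0xffc3a5456d770a27815a16101233c734ae8a, nat_lit 0xf0aac9a910c8346f286668ac4a3d12e95c16], [nat_lit 77824, nat_lit 81920, nat_lit 86016, nat_lit 90112, nat_lit 94208, nat_lit 98304, nat_lit 102400, nat_lit 110592, nat_lit 173056, nat_lit 169472, nat_lit 166400, nat_lit 162688, nat_lit 155776, nat_lit 152032, nat_lit 149776, nat_lit 143448, nat_lit 139968, nat_lit 139256, nat_lit 131819, nat_lit 4020, nat_lit 8116, nat_lit 10256, nat_lit 14336, nat_lit 20160, nat_lit 21952, nat_lit 26880, nat_lit 31232, nat_lit 33792, nat_lit 37888, nat_lit 43008, nat_lit 46624, nat_lit 43157, nat_lit 38068, nat_lit 33002, nat_lit 29041, nat_lit 24578, nat_lit 20754, nat_lit 16417, nat_lit 12290, nat_lit 9216, nat_lit 4097, nat_lit 425991, nat_lit 413700, nat_lit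 405504, nat_lit 143376, nat_lit 131232, nat_lit 45488, nat_lit 40961, nat_lit 36865, nat_lit 24624, nat_lit 8193, nat_lit 4097, nat_lit 327680]⟩) ⟨(nat_lit 2), ⟨[], [], (nat_lit 47), (⟨[nat_lit 0x48de1b72095008308c873329b62aeef49e8c, nat_lit 0xcac0328a8b3580925c6a849919b9ed41c35, nat_lit 0x87d74293cc0552b6134b164c83704f0bad28], [nat_lit 65536, nat_lit 69632, nat_lit 73728, nat_lit 86016, nat_lit 90112, nat_lit 94208, nat_lit 98304, nat_lit 106496, nat_lit 110592, nat_lit 178176, nat_lit 175104, nat_lit 164864, nat_lit 160768, nat_lit 157184, nat_lit 152864, nat_lit 150720, nat_lit 144400, nat_lit 143264, nat_lit 138404, nat_lit 132570, nat_lit 2112, nat_lit 6208, nat_lit 10304, nat_lit 16368, nat_lit 19680, nat_lit 21696, nat_lit 27648, nat_lit 30976, nat_lit 33792, nat_lit 43008, nat_lit 46874, nat_lit 43291, nat_lit 37894, nat_lit 33022, nat_lit 28960, nat_lit 24583, nat_lit 20764, nat_lit 16387, nat_lit 12418, nat_lit 8193, nat_lit 4097, nat_lit 425990, nat_lit 413700,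 nat_lit 405504, nat_lit 155904, nat_lit 147520, nat_lit 143616, nat_lit 131400, nat_lit 45416, nat_lit 41280, nat_lit 36936, nat_lit 28673, nat_lit 8193, nat_lit 4097]⟩, ⟨[nat_lit 0x53a6691aa8c706e982ce87c9a524eb688806, nat_lit 0x56339325d2d7d90708a03ab0aa72e868ca60, nat_lit 0x5303a00b40c8cce62165045554b2d3713c6e], [nat_lit 65536, nat_lit 69632, nat_lit 73728, nat_lit 86016, nat_lit 98304, nat_lit 102400, nat_lit 173056, nat_lit 168448, nat_lit 166912, nat_lit 157568, nat_lit 152608, nat_lit 150768, nat_lit 146680, nat_lit 139596, nat_lit 135900, nat_lit 131083, nat_lit 2008, nat_lit 6104, nat_lit 10200, nat_lit 15264, nat_lit 18432, nat_lit 21568, nat_lit 26496, nat_lit 28928, nat_lit 38912, nat_lit 43008, nat_lit 46137, nat_lit 43587, nat_lit 36917, nat_lit 33015, nat_lit 28961, nat_lit 24615, nat_lit 20544, nat_lit 16387, nat_lit 12292, nat_lit 8193, nat_lit 4097, nat_lit 425991, nat_lit 417797, nat_lit 409600, nat_lit 160000, nat_lit 156032, nat_lit 151808, nat_lit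 147776, nat_lit 131312, nat_lit 45089, nat_lit 41073, nat_lit 37041, nat_lit 12289, nat_lit 8193, nat_lit 4097]⟩)⟩, ⟨[nat_lit 18, nat_lit 20, nat_lit 14, nat_lit 13], [], (nat_lit 44), (⟨[nat_lit 0x28d2d763ea500a84b290791af0885ab9a46e, nat_lit 0x8242476a835316475b8574d9e38127162280, nat_lit 0x3fcaf3406ac15de902a8d89e505b87621a65], [nat_lit 65536, nat_lit 69632, nat_lit 73728, nat_lit 81920, nat_lit 94208, nat_lit 102400, nat_lit 178176, nat_lit 175104, nat_lit 169984, nat_lit 166144, nat_lit 162432, nat_lit 155840, nat_lit 154432, nat_lit 148608, nat_lit 146464, nat_lit 140436, nat_lit 136694, nat_lit 132274, nat_lit 2332, nat_lit 6428, nat_lit 9784, nat_lit 13280, nat_lit 19168, nat_lit 24320, nat_lit 27648, nat_lit 29952, nat_lit 33792, nat_lit 37888, nat_lit 43008, nat_lit 46853, nat_lit 41742, nat_lit 38131, nat_lit 32800, nat_lit 29246, nat_lit 24633, nat_lit 20483, nat_lit 16398, nat_lit 12309, nat_lit 8211, nat_lit 4097, nat_lit 421894, nat_lit 413700, nat_lit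 405504, nat_lit 147616, nat_lit 143392, nat_lit 131288, nat_lit 45065, nat_lit 41161, nat_lit 37081, nat_lit 32776, nat_lit 8193, nat_lit 4097]⟩, ⟨[nat_lit 0xb1e7eda848eb26f35498fa3465101105c4c7, nat_lit 0xfa59af0262f21e867486a805a8ad8b758a6c, nat_lit 0x4ee712b1aa17b8a2424076d17355e2c1c092], [nat_lit 65536, nat_lit 69632, nat_lit 73728, nat_lit 81920, nat_lit 86016, nat_lit 98304, nat_lit 106496, nat_lit 110592, nat_lit 173056, nat_lit 170496, nat_lit 164096, nat_lit 163328, nat_lit 159360, nat_lit 152064, nat_lit 151488, nat_lit 145664, nat_lit 139448, nat_lit 135240, nat_lit 131802, nat_lit 3962, nat_lit 4100, nat_lit 8648, nat_lit 13088, nat_lit 16576, nat_lit 22976, nat_lit 27520, nat_lit 31744, nat_lit 35328, nat_lit 38912, nat_lit 43008, nat_lit 46199, nat_lit 41960, nat_lit 38264, nat_lit 33832, nat_lit 28769, nat_lit 24723, nat_lit 20556, nat_lit 16430, nat_lit 12289, nat_lit 8225, nat_lit 4100, nat_lit 2, nat_lit 434183, nat_lit 417796, nat_lit 405504, nat_lit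 160768, nat_lit 155776, nat_lit 148608, nat_lit 144512, nat_lit 132160, nat_lit 45185, nat_lit 36992, nat_lit 32896, nat_lit 20504, nat_lit 8193, nat_lit 4097, nat_lit 327680]⟩)⟩⟩,
  .stab (nat_lit 57) (idE, idE) ⟨(nat_lit 0), ⟨[nat_lit 20, nat_lit 19, nat_lit 15], [], (nat_lit 46), (⟨[nat_lit 0x8242472586b29a6e8d6ed38534602029290f, nat_lit 0x565a0f149ec2cce1b916d02a08ada23a19c9, nat_lit 0xc0f959858ec304ab251f2bd469889537200d, nat_lit 0x72e781a1e4cba8558a66383ec46ac2e41406], [nat_lit 90112, nat_lit 98304, nat_lit 178176, nat_lit 166912, nat_lit 160128, nat_lit 158528, nat_lit 151808, nat_lit 151456, nat_lit 144728, nat_lit 143220, nat_lit 137426, nat_lit 133690, nat_lit 2048, nat_lit 6144, nat_lit 10240, nat_lit 15504, nat_lit 18240, nat_lit 21888, nat_lit 26624, nat_lit 29440, nat_lit 34816, nat_lit 39936, nat_lit 43008, nat_lit 45428, nat_lit 41972, nat_lit 37199, nat_lit 32818, nat_lit 28765, nat_lit 24625, nat_lit 20552, nat_lit 16426, nat_lit 12295, nat_lit 8193,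 nat_lit 4097, nat_lit 438282, nat_lit 430088, nat_lit 421894, nat_lit 413700, nat_lit 405504, nat_lit 164352, nat_lit 157568, nat_lit 151616, nat_lit 145168, nat_lit 131168, nat_lit 8193, nat_lit 4097, nat_lit 327680]⟩, ⟨[nat_lit 0xeeb841adaf40804342d49218e5635cf84e51, nat_lit 0x6a556c6ca91b886e81c0a09668ab0864d9eb, nat_lit 0x8e78270c9c620a6d456f488d855d92a3c1e0, nat_lit 0x9cc6ac45c8a70932b4cb10d4e35c1a0a30cf], [nat_lit 65536, nat_lit 69632, nat_lit 73728, nat_lit 81920, nat_lit 86016, nat_lit 90112, nat_lit 94208, nat_lit 98304, nat_lit 178176, nat_lit 168448, nat_lit 164352, nat_lit 163712, nat_lit 155200, nat_lit 150384, nat_lit 146336, nat_lit 142536, nat_lit 135714, nat_lit 131814, nat_lit 3814, nat_lit 4100, nat_lit 12000, nat_lit 15152, nat_lit 17024, nat_lit 21696, nat_lit 28544, nat_lit 30720, nat_lit 35840, nat_lit 47056, nat_lit 41046, nat_lit 36903, nat_lit 32840, nat_lit 28762, nat_lit 24741, nat_lit 20552, nat_lit 12359, nat_lit 8195, nat_lit 4100, nat_lit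 438282, nat_lit 430088, nat_lit 421894, nat_lit 413700, nat_lit 405504, nat_lit 174080, nat_lit 168960, nat_lit 164864, nat_lit 160768, nat_lit 156672, nat_lit 152704, nat_lit 148736, nat_lit 144896, nat_lit 132896, nat_lit 8193, nat_lit 4097, nat_lit 327680]⟩)⟩, ⟨[], [], nat_lit 0, (idE, idE)⟩⟩,
  .prod [] [nat_lit 25, nat_lit 29, nat_lit 29, nat_lit 29],
  .prod [] [nat_lit 27, nat_lit 29, nat_lit 30, nat_lit 25],
  .prod [] [nat_lit 25, nat_lit 24, nat_lit 24, nat_lit 31]]

theorem dcGr28 : D2.Rng dxG 28 33 := D2.Rng.of (l := dcGc28) (by decide +kernel)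

def dcGc33 : List (D2.Cert (El × El)) := [.prod [] [nat_lit 29, nat_lit 24, nat_lit 31, nat_lit 24],
  .prod [] [nat_lit 31, nat_lit 30, nat_lit 27, nat_lit 25],
  .edge (⟨[nat_lit 0x8bd178b0a21030a870c8a5d530352477ddb3, nat_lit 0x936c650808c758d44d6239160d79d6855c53, nat_lit 0xf9c9f9031e98cd621d11623af0315413b655, nat_lit 0x33ccc902874a9ca98998223c305d9ae44a77], [nat_lit 90112, nat_lit 94208, nat_lit 102400, nat_lit 106496, nat_lit 110592, nat_lit 166144, nat_lit 162432, nat_lit 159104, nat_lit 153984, nat_lit 150464, nat_lit 146728, nat_lit 142984, nat_lit 135612, nat_lit 134281, nat_lit 1472, nat_lit 5568, nat_lit 9664, nat_lit 14784, nat_lit 19296, nat_lit 21952, nat_lit 26496, nat_lit 29440, nat_lit 34304, nat_lit 39936, nat_lit 45697, nat_lit 41940, nat_lit 38022, nat_lit 33407, nat_lit 28682, nat_lit 24633, nat_lit 20508, nat_lit 16423, nat_lit 12310, nat_lit 8193, nat_lit 4097, nat_lit 2, nat_lit 438282, nat_lit 430088, nat_lit 421894, nat_lit 413700, nat_lit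 405504, nat_lit 164352, nat_lit 155904, nat_lit 152512, nat_lit 147840, nat_lit 145328, nat_lit 133616, nat_lit 8193, nat_lit 4097]⟩, ⟨[nat_lit 0x6aaa6c40c8c8d8c74ae7714834ab5f0500ae, nat_lit 0x218dbd05a285b8899c9e7604451c2aa6d2e6, nat_lit 0x7d8eed141945348eb22a6484072c5729dde3, nat_lit 0x41d4b7bc9035c2a2502743b9ecb0629290cd], [nat_lit 81920, nat_lit 86016, nat_lit 102400, nat_lit 106496, nat_lit 110592, nat_lit 171008, nat_lit 164352, nat_lit 163072, nat_lit 156352, nat_lit 155104, nat_lit 148144, nat_lit 144896, nat_lit 139556, nat_lit 135534, nat_lit 131289, nat_lit 3520, nat_lit 7616, nat_lit 11712, nat_lit 12352, nat_lit 16800, nat_lit 24256, nat_lit 26624, nat_lit 29952, nat_lit 35840, nat_lit 38912, nat_lit 43008, nat_lit 45063, nat_lit 41109, nat_lit 37299, nat_lit 32960, nat_lit 28725, nat_lit 24595, nat_lit 20608, nat_lit 16427, nat_lit 12304, nat_lit 8193, nat_lit 4097, nat_lit 438282, nat_lit 430088, nat_lit 421894, nat_lit 413700, nat_lit 405504, nat_lit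 164864, nat_lit 155904, nat_lit 152832, nat_lit 134720, nat_lit 8193, nat_lit 4097]⟩) ⟨(nat_lit 1), ⟨[], [], (nat_lit 46), (⟨[nat_lit 0x41d448904a089d69811ac1a2afa29c2b1af3, nat_lit 0xf36f590b1511be68909a972e0021e85b5ea6, nat_lit 0x9fa9fa6bd69bc2756390a304e2a4ad121403], [nat_lit 77824, nat_lit 81920, nat_lit 90112, nat_lit 98304, nat_lit 102400, nat_lit 110592, nat_lit 170496, nat_lit 166912, nat_lit 163072, nat_lit 158976, nat_lit 155008, nat_lit 150016, nat_lit 143840, nat_lit 141624, nat_lit 136194, nat_lit 131205, nat_lit 664, nat_lit 4760, nat_lit 8856, nat_lit 12976, nat_lit 19904, nat_lit 20864, nat_lit 25984, nat_lit 29952, nat_lit 33280, nat_lit 39936, nat_lit 43008, nat_lit 46889, nat_lit 41685, nat_lit 36991, nat_lit 35060, nat_lit 28737, nat_lit 24603, nat_lit 21012, nat_lit 16453, nat_lit 12289, nat_lit 8193, nat_lit 4097, nat_lit 2, nat_lit 425991, nat_lit 417797, nat_lit 409600, nat_lit 160000, nat_lit 156032, nat_lit 151616, nat_lit 147776, nat_lit 131360,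 nat_lit 45313, nat_lit 41152, nat_lit 37329, nat_lit 12289, nat_lit 8193, nat_lit 4097]⟩, ⟨[nat_lit 0x81d2ee849ac0148173e71a22e9308e35aad5, nat_lit 0x5ccffa58aad4b2830aaee310b00590f8ce47, nat_lit 0x7d811db8cd389034614ea74a09abd166ac40], [nat_lit 77824, nat_lit 90112, nat_lit 94208, nat_lit 98304, nat_lit 102400, nat_lit 106496, nat_lit 173056, nat_lit 170496, nat_lit 165632, nat_lit 162688, nat_lit 157568, nat_lit 155616, nat_lit 148144, nat_lit 146464, nat_lit 141028, nat_lit 137656, nat_lit 131237, nat_lit 3214, nat_lit 4100, nat_lit 11400, nat_lit 14656, nat_lit 17024, nat_lit 21824, nat_lit 26624, nat_lit 28928, nat_lit 34304, nat_lit 39936, nat_lit 46811, nat_lit 43018, nat_lit 38282, nat_lit 32858, nat_lit 28747, nat_lit 24639, nat_lit 20481, nat_lit 16397, nat_lit 12289, nat_lit 8195, nat_lit 4100, nat_lit 434182, nat_lit 413700, nat_lit 405504, nat_lit 156672, nat_lit 131096, nat_lit 45112, nat_lit 36865, nat_lit 32769, nat_lit 28673, nat_lit 8193, nat_lit 4097]⟩)⟩,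 ⟨[nat_lit 31, nat_lit 27, nat_lit 33, nat_lit 25, nat_lit 24], [], (nat_lit 56), (⟨[nat_lit 0x3c690f9b4a97c4ea711103324bbd076106a0, nat_lit 0x3af530b1da90ce12411f73518a2add588c40], [nat_lit 65536, nat_lit 69632, nat_lit 73728, nat_lit 77824, nat_lit 86016, nat_lit 90112, nat_lit 94208, nat_lit 98304, nat_lit 106496, nat_lit 178176, nat_lit 175104, nat_lit 166656, nat_lit 163456, nat_lit 158272, nat_lit 153120, nat_lit 150096, nat_lit 147400, nat_lit 141160, nat_lit 137608, nat_lit 133413, nat_lit 3400, nat_lit 7496, nat_lit 11592, nat_lit 14000, nat_lit 19296, nat_lit 27648, nat_lit 30720, nat_lit 36352, nat_lit 37888, nat_lit 43008, nat_lit 46716, nat_lit 43008, nat_lit 38091, nat_lit 32910, nat_lit 28753, nat_lit 24745, nat_lit 20495, nat_lit 16452, nat_lit 12295, nat_lit 8193, nat_lit 4097, nat_lit 421893, nat_lit 409600, nat_lit 131104, nat_lit 40992, nat_lit 32800, nat_lit 8193, nat_lit 4097]⟩, ⟨[nat_lit 0x60306979a681003481d89bd476548ae5922d, nat_lit 0x8b2e7883daeb88c8514155d88119d3464e32],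 [nat_lit 77824, nat_lit 86016, nat_lit 90112, nat_lit 106496, nat_lit 178176, nat_lit 174080, nat_lit 166400, nat_lit 160256, nat_lit 159424, nat_lit 152608, nat_lit 147984, nat_lit 145952, nat_lit 142208, nat_lit 137950, nat_lit 132147, nat_lit 2576, nat_lit 6672, nat_lit 10768, nat_lit 15904, nat_lit 17984, nat_lit 22080, nat_lit 26496, nat_lit 31232, nat_lit 34816, nat_lit 39936, nat_lit 46647, nat_lit 43818, nat_lit 39417, nat_lit 32976, nat_lit 28977, nat_lit 24730, nat_lit 20549, nat_lit 16430, nat_lit 12293, nat_lit 8193, nat_lit 4097, nat_lit 2, nat_lit 417796, nat_lit 405504, nat_lit 147520, nat_lit 131088, nat_lit 41049, nat_lit 36953, nat_lit 28736, nat_lit 20488, nat_lit 8193, nat_lit 4097, nat_lit 327680]⟩)⟩⟩,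
  .defn,
  .stab (nat_lit 72) (idE, idE) ⟨(nat_lit 0), ⟨[nat_lit 19, nat_lit 19, nat_lit 11, nat_lit 17, nat_lit 12, nat_lit 15], [], (nat_lit 72), (⟨[nat_lit 0x930af660450a00e98988fb4aee44d6daa8a3, nat_lit 0x6cf5098c2773a1a361521a5656029e612c8e, nat_lit 0x56ff397b6550c05424cb63396349d808a157], [nat_lit 81920, nat_lit 86016, nat_lit 90112, nat_lit 94208, nat_lit 98304, nat_lit 106496, nat_lit 110592, nat_lit 168448, nat_lit 167680, nat_lit 160256, nat_lit 159168, nat_lit 153120, nat_lit 148000, nat_lit 144480, nat_lit 142468, nat_lit 137752, nat_lit 132087, nat_lit 1506, nat_lit 4100, nat_lit 9664, nat_lit 12880, nat_lit 19424, nat_lit 21952, nat_lit 26240, nat_lit 30976, nat_lit 33792, nat_lit 39936, nat_lit 43008, nat_lit 46245, nat_lit 43679, nat_lit 38242, nat_lit 33400, nat_lit 28713, nat_lit 24586, nat_lit 20485, nat_lit 16907, nat_lit 12289, nat_lit 8226, nat_lit 4100, nat_lit 2, nat_lit 434185, nat_lit 421892, nat_lit 405504, nat_lit 147968, nat_lit 144384,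 nat_lit 132760, nat_lit 46232, nat_lit 32792, nat_lit 24577, nat_lit 20481, nat_lit 8193, nat_lit 4097]⟩, ⟨[nat_lit 0x2d21410a496431506c4c5a0ceb7c802ade6e, nat_lit 0xeeb8417ac51541a34cd80258e5a54d793901, nat_lit 0x90a539228f898702dc5665573035c40a8e9], [nat_lit 65536, nat_lit 69632, nat_lit 73728, nat_lit 81920, nat_lit 90112, nat_lit 94208, nat_lit 106496, nat_lit 178176, nat_lit 174080, nat_lit 164608, nat_lit 163456, nat_lit 158592, nat_lit 151936, nat_lit 149728, nat_lit 146616, nat_lit 139932, nat_lit 137864, nat_lit 132491, nat_lit 1952, nat_lit 6048, nat_lit 10144, nat_lit 13376, nat_lit 18144, nat_lit 22656, nat_lit 25600, nat_lit 32512, nat_lit 43008, nat_lit 45543, nat_lit 41767, nat_lit 36982, nat_lit 32848, nat_lit 28678, nat_lit 24635, nat_lit 20574, nat_lit 16392, nat_lit 12289, nat_lit 8193, nat_lit 4097, nat_lit 2, nat_lit 425991, nat_lit 417797, nat_lit 405504, nat_lit 160000, nat_lit 155776, nat_lit 151680, nat_lit 143520, nat_lit 131080, nat_lit 45057,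 nat_lit 41409, nat_lit 37032, nat_lit 16385, nat_lit 8193, nat_lit 4097]⟩)⟩, ⟨[], [], nat_lit 0, (idE, idE)⟩⟩]

theorem dcGr33 : D2.Rng dxG 33 38 := D2.Rng.of (l := dcGc33) (by decide +kernel)

def dcGc38 : List (D2.Cert (El × El)) := [.stab (nat_lit 72) (idE, idE) ⟨(nat_lit 0), ⟨[nat_lit 14, nat_lit 14, nat_lit 20, nat_lit 12, nat_lit 16, nat_lit 17], [], (nat_lit 72), (⟨[nat_lit 0xa9ff392d123554070c44fb4eed640865ba48, nat_lit 0x909aa0051040dca95d46611d56749ed84d91, nat_lit 0x71ee44151cd0a6c88de43595f353204a98e0], [nat_lit 65536, nat_lit 69632, nat_lit 73728, nat_lit 77824, nat_lit 81920, nat_lit 90112, nat_lit 106496, nat_lit 110592, nat_lit 178176, nat_lit 174080, nat_lit 169984, nat_lit 167680, nat_lit 162176, nat_lit 157312, nat_lit 153824, nat_lit 150816, nat_lit 144896, nat_lit 141416, nat_lit 136098, nat_lit 132284, nat_lit 1180, nat_lit 5276, nat_lit 9224, nat_lit 13456, nat_lit 20448, nat_lit 22720, nat_lit 28416, nat_lit 29440, nat_lit 33792, nat_lit 38912,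 nat_lit 43008, nat_lit 45724, nat_lit 40994, nat_lit 39402, nat_lit 33491, nat_lit 28799, nat_lit 24714, nat_lit 20560, nat_lit 16456, nat_lit 12294, nat_lit 8203, nat_lit 4097, nat_lit 430087, nat_lit 417797, nat_lit 405504, nat_lit 151744, nat_lit 131176, nat_lit 45640, nat_lit 41056, nat_lit 32808, nat_lit 16385, nat_lit 8193, nat_lit 4097, nat_lit 327680]⟩, ⟨[nat_lit 0xa0fa9a61c9170a404586628554825ababef3, nat_lit 0x827e1d8a56a138f444a70b3065036a6b848f, nat_lit 0x9fa9fabc8858257678147ac4411a1a69ba8c], [nat_lit 81920, nat_lit 90112, nat_lit 98304, nat_lit 102400, nat_lit 174080, nat_lit 169984, nat_lit 165120, nat_lit 160384, nat_lit 157952, nat_lit 152128, nat_lit 151344, nat_lit 141960, nat_lit 136734, nat_lit 132226, nat_lit 2170, nat_lit 4100, nat_lit 10960, nat_lit 14448, nat_lit 19840, nat_lit 23424, nat_lit 25984, nat_lit 29696, nat_lit 35840, nat_lit 38912, nat_lit 45499, nat_lit 41097, nat_lit 36880, nat_lit 34918, nat_lit 28947, nat_lit 24582, nat_lit 22559,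 nat_lit 16650, nat_lit 12292, nat_lit 8203, nat_lit 4100, nat_lit 425991, nat_lit 413700, nat_lit 405504, nat_lit 160000, nat_lit 147584, nat_lit 143760, nat_lit 131376, nat_lit 45185, nat_lit 41137, nat_lit 37273, nat_lit 24577, nat_lit 8193, nat_lit 4097]⟩)⟩, ⟨[], [], nat_lit 0, (idE, idE)⟩⟩,
  .stab (nat_lit 72) (idE, idE) ⟨(nat_lit 0), ⟨[nat_lit 14, nat_lit 14, nat_lit 13, nat_lit 11, nat_lit 18, nat_lit 12, nat_lit 11], [], (nat_lit 72), (⟨[nat_lit 0x39305f998ab20dd685e880a8516c9893d5e0, nat_lit 0x72b2b80a891900c8bade99d60d650a7b0c4e, nat_lit 0xdd121b6bc13432e592d4149ace39202a46a3, nat_lit 0xa9c3631bdb3804a659ecc44922ba88e8d680], [nat_lit 65536, nat_lit 69632, nat_lit 73728, nat_lit 98304, nat_lit 102400, nat_lit 106496, nat_lit 175104, nat_lit 168960, nat_lit 166400, nat_lit 161664, nat_lit 158144, nat_lit 154688, nat_lit 148320, nat_lit 146384, nat_lit 140308, nat_lit 138890, nat_lit 133297, nat_lit 2310, nat_lit 4100, nat_lit 10496, nat_lit 14272, nat_lit 17760,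 nat_lit 23616, nat_lit 27904, nat_lit 28928, nat_lit 34304, nat_lit 46827, nat_lit 40962, nat_lit 37122, nat_lit 32805, nat_lit 28679, nat_lit 24581, nat_lit 20482, nat_lit 16393, nat_lit 12307, nat_lit 8195, nat_lit 4100, nat_lit 2, nat_lit 438282, nat_lit 430088, nat_lit 421894, nat_lit 413700, nat_lit 405504, nat_lit 174080, nat_lit 168960, nat_lit 165888, nat_lit 161024, nat_lit 158080, nat_lit 155008, nat_lit 149664, nat_lit 146336, nat_lit 132024, nat_lit 8193, nat_lit 4097, nat_lit 327680]⟩, ⟨[nat_lit 0x3a935c21548b46f3599276bc417006cac254, nat_lit 0xff6963035f1914c24c02822acc59dd7ad073, nat_lit 0x8bed2298c06136ebb50f00d5ca416297c88c, nat_lit 0x8b844131c82759305cd9493d156c55708c05], [nat_lit 77824, nat_lit 86016, nat_lit 90112, nat_lit 98304, nat_lit 106496, nat_lit 174080, nat_lit 169472, nat_lit 164864, nat_lit 162816, nat_lit 155840, nat_lit 155392, nat_lit 148608, nat_lit 144608, nat_lit 139792, nat_lit 139028, nat_lit 131581, nat_lit 3072, nat_lit 7168,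 nat_lit 11264, nat_lit 13312, nat_lit 20384, nat_lit 23552, nat_lit 25984, nat_lit 29952, nat_lit 34816, nat_lit 43008, nat_lit 45297, nat_lit 41751, nat_lit 38379, nat_lit 32826, nat_lit 29244, nat_lit 24747, nat_lit 20491, nat_lit 16388, nat_lit 12325, nat_lit 8193, nat_lit 4097, nat_lit 438282, nat_lit 430088, nat_lit 421894, nat_lit 413700, nat_lit 405504, nat_lit 163584, nat_lit 159616, nat_lit 155008, nat_lit 147680, nat_lit 144608, nat_lit 134392, nat_lit 8193, nat_lit 4097, nat_lit 327680]⟩)⟩, ⟨[], [], nat_lit 0, (idE, idE)⟩⟩,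
  .stab (nat_lit 72) (idE, idE) ⟨(nat_lit 0), ⟨[nat_lit 14, nat_lit 16, nat_lit 12, nat_lit 17, nat_lit 17, nat_lit 11, nat_lit 13], [], (nat_lit 72), (⟨[nat_lit 0x4e244860e910d9b0711eb2d5173a67250046, nat_lit 0xb4b14d04253321b57588a2d12fb9d6c08e22, nat_lit 0x724db864524719533adb0152f62bd1208ea0], [nat_lit 77824, nat_lit 90112, nat_lit 94208, nat_lit 98304, nat_lit 106496, nat_lit 175104, nat_lit 169984, nat_lit 167680, nat_lit 162816, nat_lit 157248, nat_lit 154496, nat_lit 151072, nat_lit 144480, nat_lit 140512, nat_lit 135746, nat_lit 134910, nat_lit 1392, nat_lit 5488, nat_lit 9584, nat_lit 12640, nat_lit 18816, nat_lit 20672, nat_lit 28032, nat_lit 29440, nat_lit 36352, nat_lit 39936, nat_lit 43008, nat_lit 45500, nat_lit 41803, nat_lit 36908, nat_lit 32958, nat_lit 28975, nat_lit 25622, nat_lit 20507, nat_lit 16390, nat_lit 12322, nat_lit 8193, nat_lit 4097, nat_lit 425991, nat_lit 417797, nat_lit 409600, nat_lit 155776, nat_lit 147584, nat_lit 131312, nat_lit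 45313, nat_lit 41152, nat_lit 37072, nat_lit 12289, nat_lit 8193, nat_lit 4097]⟩, ⟨[nat_lit 0x4278bbaa6651340151ad091d17a448b1b1cf, nat_lit 0xa666a55380449c2d9ca1662065a5eb1589e6, nat_lit 0x59c3931193445ce30d544059658c1b3931cf], [nat_lit 65536, nat_lit 69632, nat_lit 73728, nat_lit 81920, nat_lit 94208, nat_lit 102400, nat_lit 106496, nat_lit 173056, nat_lit 167680, nat_lit 159872, nat_lit 157440, nat_lit 155360, nat_lit 150480, nat_lit 143792, nat_lit 142976, nat_lit 135380, nat_lit 131687, nat_lit 932, nat_lit 5028, nat_lit 10064, nat_lit 16240, nat_lit 20128, nat_lit 22080, nat_lit 25984, nat_lit 32512, nat_lit 35328, nat_lit 38912, nat_lit 46156, nat_lit 41624, nat_lit 37986, nat_lit 32793, nat_lit 28724, nat_lit 24615, nat_lit 20550, nat_lit 16517, nat_lit 12547, nat_lit 8258, nat_lit 4097, nat_lit 2, nat_lit 434183, nat_lit 417796, nat_lit 405504, nat_lit 155776, nat_lit 147520, nat_lit 144448, nat_lit 131160, nat_lit 45185, nat_lit 36865, nat_lit 32896, nat_lit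 20504, nat_lit 8193, nat_lit 4097]⟩)⟩, ⟨[], [], nat_lit 0, (idE, idE)⟩⟩]

theorem dcGr38 : D2.Rng dxG 38 41 := D2.Rng.of (l := dcGc38) (by decide +kernel)

def dcGc41 : List (D2.Cert (El × El)) := [.edge (⟨[nat_lit 0xccff9c42a34b498e142e13cea62bd604b464, nat_lit 0x8741de690c558a151de4879dccb062954e80, nat_lit 0x6aaa9362c717d1c4401b284ea6388372a556], [nat_lit 77824, nat_lit 86016, nat_lit 94208, nat_lit 98304, nat_lit 102400, nat_lit 106496, nat_lit 178176, nat_lit 175104, nat_lit 171008, nat_lit 164608, nat_lit 162816, nat_lit 157824, nat_lit 154688, nat_lit 148256, nat_lit 143368, nat_lit 140488, nat_lit 138982, nat_lit 133581, nat_lit 386, nat_lit 4100, nat_lit 13008, nat_lit 17536, nat_lit 21824, nat_lit 27392, nat_lit 28928, nat_lit 35840, nat_lit 43008, nat_lit 46473, nat_lit 43636, nat_lit 37056, nat_lit 32902, nat_lit 28690, nat_lit 24613, nat_lit 20545, nat_lit 16524, nat_lit 12306, nat_lit 8203, nat_lit 4100, nat_lit 425991, nat_lit 417797, nat_lit 405504,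 nat_lit 160000, nat_lit 155904, nat_lit 151616, nat_lit 143840, nat_lit 131264, nat_lit 45057, nat_lit 41409, nat_lit 37033, nat_lit 8193, nat_lit 4097]⟩, ⟨[nat_lit 0xd21214424439c9ed6460e5802ab16a4a18f7, nat_lit 0x36cf509bc25a55575d928132472440e8186d, nat_lit 0x69330b354438cb0bd241438d514d690458f], [nat_lit 65536, nat_lit 69632, nat_lit 73728, nat_lit 86016, nat_lit 90112, nat_lit 98304, nat_lit 106496, nat_lit 178176, nat_lit 175104, nat_lit 168448, nat_lit 166400, nat_lit 160896, nat_lit 157888, nat_lit 152768, nat_lit 150112, nat_lit 144656, nat_lit 142124, nat_lit 137850, nat_lit 133758, nat_lit 3886, nat_lit 4100, nat_lit 12072, nat_lit 15616, nat_lit 18208, nat_lit 21184, nat_lit 27520, nat_lit 31232, nat_lit 35328, nat_lit 38912, nat_lit 43008, nat_lit 46691, nat_lit 40968, nat_lit 36894, nat_lit 32845, nat_lit 28719, nat_lit 24625, nat_lit 20508, nat_lit 16430, nat_lit 12295, nat_lit 8195, nat_lit 4100, nat_lit 2, nat_lit 421894, nat_lit 413700, nat_lit 405504,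 nat_lit 151744, nat_lit 143392, nat_lit 131320, nat_lit 45121, nat_lit 41024, nat_lit 37048, nat_lit 32936, nat_lit 8193, nat_lit 4097, nat_lit 327680]⟩) ⟨(nat_lit 1), ⟨[], [], (nat_lit 73), (⟨[nat_lit 0xcaa006548407c10c68ea49a4c72ba81b46eb, nat_lit 0xf5c0337a031835205b852b9ca61aa6ca9296, nat_lit 0x884e21b38338a0d0615aa1ca8faa49738960], [nat_lit 65536, nat_lit 69632, nat_lit 73728, nat_lit 77824, nat_lit 81920, nat_lit 90112, nat_lit 94208, nat_lit 110592, nat_lit 178176, nat_lit 173056, nat_lit 167424, nat_lit 159232, nat_lit 153984, nat_lit 147504, nat_lit 146256, nat_lit 141056, nat_lit 135336, nat_lit 133826, nat_lit 492, nat_lit 4588, nat_lit 8640, nat_lit 15712, nat_lit 17664, nat_lit 23744, nat_lit 29696, nat_lit 34304, nat_lit 37888, nat_lit 45817, nat_lit 41300, nat_lit 38938, nat_lit 32958, nat_lit 28720, nat_lit 25147, nat_lit 20484, nat_lit 16453, nat_lit 12308, nat_lit 8208, nat_lit 4097, nat_lit 2, nat_lit 421894, nat_lit 413700, nat_lit 405504, nat_lit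 151616, nat_lit 147552, nat_lit 143456, nat_lit 131232, nat_lit 45057, nat_lit 37088, nat_lit 32824, nat_lit 8193, nat_lit 4097, nat_lit 327680]⟩, ⟨[nat_lit 0xc9fa9304a2636975ce2a00c87759f582512, nat_lit 0xb8b7881124e6cc26aaed44a2ea80caf01d91, nat_lit 0x748b4e80eee49a7250807ac42fa22c42b1ab], [nat_lit 77824, nat_lit 86016, nat_lit 102400, nat_lit 178176, nat_lit 170496, nat_lit 163200, nat_lit 158912, nat_lit 155520, nat_lit 150960, nat_lit 145472, nat_lit 142004, nat_lit 137254, nat_lit 134543, nat_lit 2816, nat_lit 6912, nat_lit 11008, nat_lit 15696, nat_lit 18016, nat_lit 21120, nat_lit 25088, nat_lit 32256, nat_lit 33792, nat_lit 37888, nat_lit 43008, nat_lit 46849, nat_lit 41679, nat_lit 37945, nat_lit 32897, nat_lit 28795, nat_lit 24631, nat_lit 20570, nat_lit 16454, nat_lit 12325, nat_lit 8193, nat_lit 4097, nat_lit 2, nat_lit 421894, nat_lit 413700, nat_lit 405504, nat_lit 155776, nat_lit 151680, nat_lit 147648, nat_lit 143376, nat_lit 131272, nat_lit 45089,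 nat_lit 40992, nat_lit 36969, nat_lit 32769, nat_lit 8193, nat_lit 4097]⟩)⟩, ⟨[nat_lit 14, nat_lit 20, nat_lit 16, nat_lit 11], [], (nat_lit 44), (⟨[nat_lit 0x5c65c398d893ca34104d65dc88501b0abdc5, nat_lit 0xd2b7dda98650598d5448f1525358537740e8, nat_lit 0x1debbd589357c9458063674cc8012e7a0dac, nat_lit 0xdb4d7e6495402d24adce2804d3b450e2bda3], [nat_lit 77824, nat_lit 81920, nat_lit 90112, nat_lit 110592, nat_lit 178176, nat_lit 175104, nat_lit 169472, nat_lit 166400, nat_lit 162560, nat_lit 159296, nat_lit 153024, nat_lit 148528, nat_lit 146416, nat_lit 140308, nat_lit 136140, nat_lit 131763, nat_lit 2086, nat_lit 4100, nat_lit 10272, nat_lit 16112, nat_lit 20256, nat_lit 20928, nat_lit 24832, nat_lit 32256, nat_lit 34304, nat_lit 38912, nat_lit 45504, nat_lit 41277, nat_lit 37292, nat_lit 33008, nat_lit 29026, nat_lit 24893, nat_lit 20490, nat_lit 16392, nat_lit 12304, nat_lit 8195, nat_lit 4100, nat_lit 2, nat_lit 438282, nat_lit 430088, nat_lit 421894, nat_lit 413700,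 nat_lit 405504, nat_lit 168960, nat_lit 164352, nat_lit 160256, nat_lit 158592, nat_lit 151616, nat_lit 147520, nat_lit 143888, nat_lit 132456, nat_lit 8193, nat_lit 4097]⟩, ⟨[nat_lit 0x12be748b454b2aa584cc91baf25900141dec, nat_lit 0x6a3c0f6014899acb6d681b9e2970c8580a4f, nat_lit 0x8177d8b0967702612be24a36f032aa34492c, nat_lit 0xd71e82ab0eabd2429ac29800c42bec888dae], [nat_lit 81920, nat_lit 102400, nat_lit 106496, nat_lit 178176, nat_lit 175104, nat_lit 169472, nat_lit 164864, nat_lit 162048, nat_lit 155776, nat_lit 154368, nat_lit 151456, nat_lit 147304, nat_lit 142080, nat_lit 137812, nat_lit 133284, nat_lit 3228, nat_lit 7324, nat_lit 11632, nat_lit 15504, nat_lit 18336, nat_lit 22976, nat_lit 28032, nat_lit 31232, nat_lit 34816, nat_lit 37888, nat_lit 45880, nat_lit 41856, nat_lit 37974, nat_lit 32930, nat_lit 28739, nat_lit 24764, nat_lit 20557, nat_lit 16395, nat_lit 12293, nat_lit 8200, nat_lit 4097, nat_lit 2, nat_lit 438282, nat_lit 430088, nat_lit 421894, nat_lit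 413700, nat_lit 405504, nat_lit 174080, nat_lit 167424, nat_lit 162816, nat_lit 159616, nat_lit 152768, nat_lit 148800, nat_lit 145344, nat_lit 131168, nat_lit 8193, nat_lit 4097]⟩)⟩⟩,
  .edge (⟨[nat_lit 0xc96a66a1e0099876abee892a2d4b0412b964, nat_lit 0x90fc33a94c78b0496c94103d731ba08bd2c4, nat_lit 0x111d775c5527b0c7b80569c109691c50d683], [nat_lit 90112, nat_lit 94208, nat_lit 98304, nat_lit 106496, nat_lit 178176, nat_lit 174080, nat_lit 170496, nat_lit 166144, nat_lit 163456, nat_lit 156928, nat_lit 155552, nat_lit 151232, nat_lit 144248, nat_lit 139732, nat_lit 138488, nat_lit 131100, nat_lit 2304, nat_lit 6400, nat_lit 10496, nat_lit 14288, nat_lit 17248, nat_lit 24256, nat_lit 28032, nat_lit 32512, nat_lit 37888, nat_lit 43008, nat_lit 47041, nat_lit 43951, nat_lit 38996, nat_lit 32809, nat_lit 28684, nat_lit 25618, nat_lit 20560, nat_lit 16390, nat_lit 12320, nat_lit 8193, nat_lit 4097, nat_lit 2, nat_lit 430086, nat_lit 413700, nat_lit 405504, nat_lit 156160,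 nat_lit 152064, nat_lit 147488, nat_lit 143408, nat_lit 131104, nat_lit 45065, nat_lit 41552, nat_lit 32825, nat_lit 28761, nat_lit 8193, nat_lit 4097]⟩, ⟨[nat_lit 0xc5af06adc74540cd058412264f9acee620b1, nat_lit 0xff33aa386757b5c8808d74a98bb4465a0244, nat_lit 0x827e1d231353596f451c70c460536e514a13], [nat_lit 77824, nat_lit 94208, nat_lit 98304, nat_lit 106496, nat_lit 178176, nat_lit 174080, nat_lit 171520, nat_lit 166400, nat_lit 161792, nat_lit 156736, nat_lit 155168, nat_lit 149920, nat_lit 144568, nat_lit 143288, nat_lit 138214, nat_lit 131522, nat_lit 700, nat_lit 4796, nat_lit 10928, nat_lit 12976, nat_lit 19936, nat_lit 22272, nat_lit 29440, nat_lit 35840, nat_lit 38912, nat_lit 43008, nat_lit 46795, nat_lit 43420, nat_lit 37212, nat_lit 33487, nat_lit 29001, nat_lit 24622, nat_lit 20482, nat_lit 16389, nat_lit 12292, nat_lit 8201, nat_lit 4097, nat_lit 425991, nat_lit 413700, nat_lit 405504, nat_lit 160000, nat_lit 147584, nat_lit 143792, nat_lit 131368, nat_lit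 45448, nat_lit 41112, nat_lit 37257, nat_lit 24632, nat_lit 8193, nat_lit 4097, nat_lit 327680]⟩) ⟨(nat_lit 2), ⟨[], [], (nat_lit 82), (⟨[nat_lit 0x93afc07b8202c664559176b043a2d353c8d0, nat_lit 0xc5a0f649971a050c20e420554d838afbda67, nat_lit 0xa63c93b2a49a90f15b8c1400ad7b27780874, nat_lit 0xbdb4ee6850463a3781e869552b509e59d860], [nat_lit 77824, nat_lit 81920, nat_lit 90112, nat_lit 98304, nat_lit 102400, nat_lit 106496, nat_lit 173056, nat_lit 170496, nat_lit 167680, nat_lit 162432, nat_lit 155904, nat_lit 152800, nat_lit 150464, nat_lit 143480, nat_lit 142536, nat_lit 135552, nat_lit 133787, nat_lit 16, nat_lit 4112, nat_lit 8208, nat_lit 12304, nat_lit 32256, nat_lit 33792, nat_lit 37888, nat_lit 43008, nat_lit 45833, nat_lit 41861, nat_lit 38037, nat_lit 33400, nat_lit 29800, nat_lit 24619, nat_lit 20510, nat_lit 8193, nat_lit 4097, nat_lit 2, nat_lit 438282, nat_lit 430088, nat_lit 421894, nat_lit 413700, nat_lit 405504, nat_lit 174080, nat_lit 160768, nat_lit 159616,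 nat_lit 152064, nat_lit 150720, nat_lit 143472, nat_lit 133072, nat_lit 8193, nat_lit 4097, nat_lit 327680]⟩, ⟨[nat_lit 0x7b744181d573491600c4e6bc2ca1269aae25, nat_lit 0x741d2d4cc8a184b27a2a0a1ef06d84b8b986, nat_lit 0x636c6a025f22c29372a2325822ba1663b595, nat_lit 0x72811235c677920b705b6ac6406166aa2049], [nat_lit 77824, nat_lit 90112, nat_lit 106496, nat_lit 110592, nat_lit 169984, nat_lit 164864, nat_lit 162944, nat_lit 158272, nat_lit 153344, nat_lit 149200, nat_lit 144064, nat_lit 140416, nat_lit 138890, nat_lit 131280, nat_lit 2062, nat_lit 4100, nat_lit 10248, nat_lit 13568, nat_lit 20384, nat_lit 23936, nat_lit 28416, nat_lit 31744, nat_lit 34816, nat_lit 37888, nat_lit 46477, nat_lit 41066, nat_lit 37130, nat_lit 32923, nat_lit 29046, nat_lit 24613, nat_lit 20494, nat_lit 16395, nat_lit 12309, nat_lit 8195, nat_lit 4100, nat_lit 438282, nat_lit 430088, nat_lit 421894, nat_lit 413700, nat_lit 405504, nat_lit 174080, nat_lit 169984, nat_lit 165888, nat_lit 162048,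 nat_lit 159616, nat_lit 153088, nat_lit 149472, nat_lit 146416, nat_lit 133848, nat_lit 8193, nat_lit 4097]⟩)⟩, ⟨[nat_lit 14, nat_lit 13, nat_lit 12], [], (nat_lit 72), (⟨[nat_lit 0xcccc36b044592c6d045889c28473ea64a8f7, nat_lit 0xbdbbe10452b63e62712c851aad914e1a5c70, nat_lit 0xa900c602433ab4459390c19df73408b54696, nat_lit 0xf3063a498ec25e4143e70156251adc055a8d], [nat_lit 77824, nat_lit 90112, nat_lit 102400, nat_lit 106496, nat_lit 110592, nat_lit 173056, nat_lit 169984, nat_lit 165120, nat_lit 162432, nat_lit 155904, nat_lit 155296, nat_lit 150416, nat_lit 146312, nat_lit 139616, nat_lit 139020, nat_lit 131728, nat_lit 2566, nat_lit 4100, nat_lit 10752, nat_lit 15712, nat_lit 16480, nat_lit 22272, nat_lit 27904, nat_lit 29184, nat_lit 34816, nat_lit 38912, nat_lit 46289, nat_lit 41942, nat_lit 38076, nat_lit 32860, nat_lit 28753, nat_lit 24752, nat_lit 20555, nat_lit 16518, nat_lit 12320, nat_lit 8195, nat_lit 4100, nat_lit 438282, nat_lit 430088, nat_lit 421894, nat_lit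 413700, nat_lit 405504, nat_lit 174080, nat_lit 169984, nat_lit 165376, nat_lit 161536, nat_lit 155904, nat_lit 153792, nat_lit 149728, nat_lit 146416, nat_lit 133848, nat_lit 8193, nat_lit 4097]⟩, ⟨[nat_lit 0xe817d45c6f26552e78e6533430a2087b004a, nat_lit 0xaf50ac80947249610387779a85426ad8d993, nat_lit 0xbb8de77a030aa9668812d9de44651c5b1c62, nat_lit 0xcf35036ca0f182d77459359ca81069551126], [nat_lit 86016, nat_lit 94208, nat_lit 98304, nat_lit 102400, nat_lit 106496, nat_lit 178176, nat_lit 173056, nat_lit 169472, nat_lit 166144, nat_lit 162048, nat_lit 158592, nat_lit 155040, nat_lit 148528, nat_lit 146808, nat_lit 139824, nat_lit 137536, nat_lit 134680, nat_lit 488, nat_lit 4584, nat_lit 8680, nat_lit 12736, nat_lit 20160, nat_lit 21248, nat_lit 28160, nat_lit 29440, nat_lit 35840, nat_lit 38912, nat_lit 43008, nat_lit 46922, nat_lit 41532, nat_lit 37350, nat_lit 32867, nat_lit 28717, nat_lit 24881, nat_lit 20639, nat_lit 16427, nat_lit 8193, nat_lit 4097, nat_lit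 438282, nat_lit 430088, nat_lit 421894, nat_lit 413700, nat_lit 405504, nat_lit 169984, nat_lit 166912, nat_lit 163328, nat_lit 156800, nat_lit 155392, nat_lit 148672, nat_lit 145888, nat_lit 133616, nat_lit 8193, nat_lit 4097]⟩)⟩⟩]

theorem dcGr41 : D2.Rng dxG 41 43 := D2.Rng.of (l := dcGc41) (by decide +kernel)

def dcGc43 : List (D2.Cert (El × El)) := [.edge (⟨[nat_lit 0x8e11440b84a320ec2ca80badb51da247a670, nat_lit 0xb8edbe14cca4107089561024f2ab1edbd2ce, nat_lit 0xe8bd12a58d3920892b22f50aee0b6ab80067], [nat_lit 81920, nat_lit 86016, nat_lit 90112, nat_lit 98304, nat_lit 110592, nat_lit 178176, nat_lit 175104, nat_lit 171008, nat_lit 166144, nat_lit 162048, nat_lit 159168, nat_lit 152576, nat_lit 150944, nat_lit 144888, nat_lit 143120, nat_lit 139048, nat_lit 134029, nat_lit 1866, nat_lit 4100, nat_lit 11448, nat_lit 14144, nat_lit 16864, nat_lit 20800, nat_lit 26240, nat_lit 31744, nat_lit 33280, nat_lit 46743, nat_lit 43225, nat_lit 36886, nat_lit 33001, nat_lit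 28767, nat_lit 24592, nat_lit 20491, nat_lit 16399, nat_lit 12292, nat_lit 8203, nat_lit 4100, nat_lit 430087, nat_lit 413700, nat_lit 405504, nat_lit 160256, nat_lit 152192, nat_lit 147488, nat_lit 144016, nat_lit 131592, nat_lit 45569, nat_lit 41625, nat_lit 32904, nat_lit 24632, nat_lit 8193, nat_lit 4097]⟩, ⟨[nat_lit 0x2d12149d5885be54542ee6da2911c03090c5, nat_lit 0xa9a5f0184c293d578a2ad010e5b313375170, nat_lit 0x8ed21e79db472603620510582591af322eaa], [nat_lit 81920, nat_lit 98304, nat_lit 102400, nat_lit 110592, nat_lit 173056, nat_lit 164352, nat_lit 162304, nat_lit 158976, nat_lit 152544, nat_lit 147840, nat_lit 145760, nat_lit 142752, nat_lit 138904, nat_lit 131790, nat_lit 3586, nat_lit 4100, nat_lit 11344, nat_lit 15664, nat_lit 18496, nat_lit 24256, nat_lit 27136, nat_lit 29184, nat_lit 34816, nat_lit 38912, nat_lit 46442, nat_lit 41542, nat_lit 32790, nat_lit 28695, nat_lit 25654, nat_lit 20551, nat_lit 16424, nat_lit 12307, nat_lit 8203, nat_lit 4100, nat_lit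 430088, nat_lit 417796, nat_lit 405504, nat_lit 164352, nat_lit 156416, nat_lit 147712, nat_lit 143936, nat_lit 131648, nat_lit 45057, nat_lit 41745, nat_lit 28673, nat_lit 20481, nat_lit 8193, nat_lit 4097]⟩) ⟨(nat_lit 2), ⟨[], [], (nat_lit 82), (⟨[nat_lit 0x8eeebb51111b4cb73024183cee1b534ab04b, nat_lit 0xee841b60e6b13952a040569ecf45c89844d5, nat_lit 0x7b844eb1d038044f582e58998454d2ead1b2, nat_lit 0xaa53ca88ad3a21636dc2f81d8a915c9a8086], [nat_lit 90112, nat_lit 94208, nat_lit 102400, nat_lit 106496, nat_lit 110592, nat_lit 173056, nat_lit 171008, nat_lit 164608, nat_lit 162944, nat_lit 158784, nat_lit 152160, nat_lit 150656, nat_lit 143800, nat_lit 140484, nat_lit 136000, nat_lit 132886, nat_lit 2636, nat_lit 6732, nat_lit 10240, nat_lit 14912, nat_lit 16864, nat_lit 24512, nat_lit 26880, nat_lit 30720, nat_lit 35840, nat_lit 46282, nat_lit 41785, nat_lit 37893, nat_lit 33532, nat_lit 28998, nat_lit 24842, nat_lit 21002, nat_lit 16426, nat_lit 12292, nat_lit 8201,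 nat_lit 4097, nat_lit 2, nat_lit 438282, nat_lit 430088, nat_lit 421894, nat_lit 413700, nat_lit 405504, nat_lit 160256, nat_lit 146384, nat_lit 131624, nat_lit 8193, nat_lit 4097, nat_lit 327680]⟩, ⟨[nat_lit 0x90a6055920c7a8b33224eb004389da9b8695, nat_lit 0xd2d14e150727ac0782ac90910c34cb5bc5cd, nat_lit 0xc35aa5809a41a6e17514c945165d4c599c0f, nat_lit 0x4beb7b78e078b00594d5508ac859ae4a392d], [nat_lit 65536, nat_lit 69632, nat_lit 73728, nat_lit 77824, nat_lit 86016, nat_lit 90112, nat_lit 98304, nat_lit 110592, nat_lit 175104, nat_lit 169984, nat_lit 165376, nat_lit 161664, nat_lit 155968, nat_lit 153792, nat_lit 149728, nat_lit 146424, nat_lit 142904, nat_lit 136148, nat_lit 132913, nat_lit 4020, nat_lit 8116, nat_lit 10240, nat_lit 13808, nat_lit 18432, nat_lit 22400, nat_lit 25984, nat_lit 32256, nat_lit 34816, nat_lit 39936, nat_lit 45309, nat_lit 41747, nat_lit 38166, nat_lit 33019, nat_lit 29054, nat_lit 24587, nat_lit 20511, nat_lit 16424, nat_lit 12320, nat_lit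 8202, nat_lit 4097, nat_lit 438282, nat_lit 430088, nat_lit 421894, nat_lit 413700, nat_lit 405504, nat_lit 169984, nat_lit 160256, nat_lit 155904, nat_lit 152064, nat_lit 148032, nat_lit 145344, nat_lit 131168, nat_lit 8193, nat_lit 4097]⟩)⟩, ⟨[], [], (nat_lit 70), (⟨[nat_lit 0xaf5f5c0948030ce26b25073e71a26e8b2aab, nat_lit 0x227477a2db319212a86c63810953237115ee, nat_lit 0x82d424a5cd3b384a4d5806c8ef5c1050c483, nat_lit 0x14bbd8480b0b38233b4d77d2531122a6550b], [nat_lit 77824, nat_lit 81920, nat_lit 90112, nat_lit 98304, nat_lit 102400, nat_lit 106496, nat_lit 175104, nat_lit 171520, nat_lit 164864, nat_lit 162432, nat_lit 156544, nat_lit 155264, nat_lit 147920, nat_lit 146848, nat_lit 142328, nat_lit 135328, nat_lit 131460, nat_lit 2360, nat_lit 6456, nat_lit 10552, nat_lit 13104, nat_lit 18720, nat_lit 22720, nat_lit 27136, nat_lit 30208, nat_lit 36352, nat_lit 38912, nat_lit 43008, nat_lit 46947, nat_lit 41570, nat_lit 37226, nat_lit 33013, nat_lit 28690, nat_lit 24623,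 nat_lit 20484, nat_lit 16389, nat_lit 8193, nat_lit 4097, nat_lit 2, nat_lit 438282, nat_lit 430088, nat_lit 421894, nat_lit 413700, nat_lit 405504, nat_lit 169984, nat_lit 166400, nat_lit 161024, nat_lit 157568, nat_lit 154688, nat_lit 150304, nat_lit 146576, nat_lit 132456, nat_lit 8193, nat_lit 4097, nat_lit 327680]⟩, ⟨[nat_lit 0x6ca0cf71c4bb06603165743464526348558f, nat_lit 0x9500aa2d1355cc91335e875e023806ab482c, nat_lit 0xac5666234309aa3548ee272ecf3d0c864805, nat_lit 0x303af3311c9158f05b6971a02f282b253271], [nat_lit 90112, nat_lit 98304, nat_lit 102400, nat_lit 106496, nat_lit 110592, nat_lit 171008, nat_lit 166656, nat_lit 162688, nat_lit 158656, nat_lit 154688, nat_lit 149488, nat_lit 144640, nat_lit 142680, nat_lit 135706, nat_lit 132027, nat_lit 2360, nat_lit 6456, nat_lit 10552, nat_lit 15664, nat_lit 17152, nat_lit 20864, nat_lit 25472, nat_lit 29184, nat_lit 35328, nat_lit 37888, nat_lit 45468, nat_lit 41434, nat_lit 37169, nat_lit 33458, nat_lit 29049,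 nat_lit 24625, nat_lit 20484, nat_lit 16398, nat_lit 8193, nat_lit 4097, nat_lit 438282, nat_lit 430088, nat_lit 421894, nat_lit 413700, nat_lit 405504, nat_lit 174080, nat_lit 168960, nat_lit 164864, nat_lit 163328, nat_lit 158336, nat_lit 152704, nat_lit 151296, nat_lit 146720, nat_lit 134152, nat_lit 8193, nat_lit 4097, nat_lit 327680]⟩)⟩⟩,
  .edge (⟨[nat_lit 0x127d2e89d2394d94682c27d56851a0175ca4, nat_lit 0x418e8190d3604d75235cc2bcc75405445c31, nat_lit 0x21b1182d964bc13270cd313cf1506a0a310d], [nat_lit 65536, nat_lit 69632, nat_lit 73728, nat_lit 77824, nat_lit 90112, nat_lit 94208, nat_lit 106496, nat_lit 171520, nat_lit 166400, nat_lit 162176, nat_lit 158400, nat_lit 152736, nat_lit 151312, nat_lit 143480, nat_lit 140120, nat_lit 137956, nat_lit 133593, nat_lit 1090, nat_lit 4100, nat_lit 9040, nat_lit 14656, nat_lit 19712, nat_lit 23040, nat_lit 25600, nat_lit 32000, nat_lit 33280, nat_lit 39936, nat_lit 45124, nat_lit 41311, nat_lit 36951, nat_lit 32942, nat_lit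 28962, nat_lit 24581, nat_lit 20767, nat_lit 16417, nat_lit 12291, nat_lit 8258, nat_lit 4100, nat_lit 2, nat_lit 434183, nat_lit 413700, nat_lit 405504, nat_lit 151680, nat_lit 147616, nat_lit 144528, nat_lit 132152, nat_lit 46232, nat_lit 36865, nat_lit 32904, nat_lit 24632, nat_lit 8193, nat_lit 4097, nat_lit 327680]⟩, ⟨[nat_lit 0x6fcf995ddf0646c839883008256a6b3a29d2, nat_lit 0x6fcf660b2753ad2a13a916dc72414c478216, nat_lit 0x144bd76d00744d69a99c2192ec784b654232], [nat_lit 65536, nat_lit 69632, nat_lit 73728, nat_lit 77824, nat_lit 90112, nat_lit 94208, nat_lit 106496, nat_lit 173056, nat_lit 164864, nat_lit 161792, nat_lit 156224, nat_lit 155072, nat_lit 150112, nat_lit 147032, nat_lit 141524, nat_lit 138806, nat_lit 131205, nat_lit 3052, nat_lit 7148, nat_lit 8280, nat_lit 15328, nat_lit 19392, nat_lit 22272, nat_lit 31744, nat_lit 36352, nat_lit 37888, nat_lit 46581, nat_lit 43895, nat_lit 37346, nat_lit 33422, nat_lit 29185, nat_lit 24588, nat_lit 20628, nat_lit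 16418, nat_lit 12292, nat_lit 8201, nat_lit 4097, nat_lit 2, nat_lit 430088, nat_lit 417796, nat_lit 405504, nat_lit 164352, nat_lit 155904, nat_lit 147712, nat_lit 131408, nat_lit 45057, nat_lit 41744, nat_lit 8193, nat_lit 4097, nat_lit 327680]⟩) ⟨(nat_lit 2), ⟨[], [], (nat_lit 86), (⟨[nat_lit 0x84122d700377aac8654a784e8d888c91c964, nat_lit 0x227b872068f29a4b8a2b69b52c1aa0038aee, nat_lit 0xb27744728a1812e68d52859de3950409d9ac, nat_lit 0x88eb17532d2a222e208a64ddf3855ab19c20], [nat_lit 65536, nat_lit 69632, nat_lit 73728, nat_lit 77824, nat_lit 81920, nat_lit 86016, nat_lit 106496, nat_lit 110592, nat_lit 178176, nat_lit 173056, nat_lit 171008, nat_lit 165632, nat_lit 160000, nat_lit 158976, nat_lit 153824, nat_lit 148512, nat_lit 143968, nat_lit 140960, nat_lit 137206, nat_lit 131612, nat_lit 2112, nat_lit 6208, nat_lit 10304, nat_lit 14112, nat_lit 20384, nat_lit 21504, nat_lit 25088, nat_lit 29184, nat_lit 36352, nat_lit 37888, nat_lit 43008, nat_lit 46016, nat_lit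 41880, nat_lit 37224, nat_lit 33318, nat_lit 28707, nat_lit 24608, nat_lit 20485, nat_lit 16385, nat_lit 12544, nat_lit 8193, nat_lit 4097, nat_lit 2, nat_lit 438282, nat_lit 430088, nat_lit 421894, nat_lit 413700, nat_lit 405504, nat_lit 168960, nat_lit 165888, nat_lit 161280, nat_lit 157184, nat_lit 154496, nat_lit 151360, nat_lit 146304, nat_lit 131912, nat_lit 8193, nat_lit 4097]⟩, ⟨[nat_lit 0xaa060c64801690b0bd22faac464393351ec3, nat_lit 0x3a30385ae6582ae64da428871a3d2144947, nat_lit 0x218d423a196a5c334ae4289864039b0abd45, nat_lit 0xfcca5b50c4396b76040e78c4d9a51252e30], [nat_lit 65536, nat_lit 69632, nat_lit 73728, nat_lit 86016, nat_lit 90112, nat_lit 110592, nat_lit 178176, nat_lit 171520, nat_lit 165376, nat_lit 161280, nat_lit 159040, nat_lit 155488, nat_lit 148624, nat_lit 143976, nat_lit 139964, nat_lit 135680, nat_lit 134208, nat_lit 2182, nat_lit 4100, nat_lit 10368, nat_lit 12976, nat_lit 19360, nat_lit 20608, nat_lit 26752, nat_lit 32256, nat_lit 34304,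 nat_lit 46034, nat_lit 41684, nat_lit 37337, nat_lit 32918, nat_lit 28799, nat_lit 24593, nat_lit 20491, nat_lit 16451, nat_lit 12289, nat_lit 8195, nat_lit 4100, nat_lit 2, nat_lit 438282, nat_lit 430088, nat_lit 421894, nat_lit 413700, nat_lit 405504, nat_lit 174080, nat_lit 169984, nat_lit 165888, nat_lit 161280, nat_lit 159616, nat_lit 153984, nat_lit 149312, nat_lit 146416, nat_lit 132456, nat_lit 8193, nat_lit 4097, nat_lit 327680]⟩)⟩, ⟨[nat_lit 18, nat_lit 11, nat_lit 11], [], (nat_lit 44), (⟨[nat_lit 0xe2d7e7236d393ea5744f4081035a54265e06, nat_lit 0xb7dee4ba130a498d254d171d61102762bd43, nat_lit 0x27d22728af383552ad98b790c93d01170468, nat_lit 0x42e1289da8381cc08ad02229956dca9905cf], [nat_lit 65536, nat_lit 69632, nat_lit 73728, nat_lit 77824, nat_lit 90112, nat_lit 94208, nat_lit 102400, nat_lit 106496, nat_lit 110592, nat_lit 167424, nat_lit 162816, nat_lit 157312, nat_lit 155328, nat_lit 149248, nat_lit 146384, nat_lit 142984, nat_lit 136520, nat_lit 133613,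 nat_lit 2542, nat_lit 4100, nat_lit 10728, nat_lit 16112, nat_lit 19072, nat_lit 21760, nat_lit 31232, nat_lit 36352, nat_lit 37888, nat_lit 43008, nat_lit 46085, nat_lit 41521, nat_lit 36991, nat_lit 32919, nat_lit 28952, nat_lit 24612, nat_lit 20505, nat_lit 16418, nat_lit 12290, nat_lit 8195, nat_lit 4100, nat_lit 2, nat_lit 438282, nat_lit 430088, nat_lit 421894, nat_lit 413700, nat_lit 405504, nat_lit 174080, nat_lit 169984, nat_lit 165888, nat_lit 160512, nat_lit 157312, nat_lit 153472, nat_lit 151072, nat_lit 144480, nat_lit 131624, nat_lit 8193, nat_lit 4097]⟩, ⟨[nat_lit 0xcc56043db50cceeb004ba152654af160e04, nat_lit 0x390562dce98180d891c30d84a7ae8cac913, nat_lit 0x4e71712ae7782286a8acc5012e6848793c71, nat_lit 0x36f30a4d2e85d9559418d73e33388c309005], [nat_lit 106496, nat_lit 178176, nat_lit 174080, nat_lit 169984, nat_lit 166912, nat_lit 161664, nat_lit 156864, nat_lit 154368, nat_lit 148336, nat_lit 145144, nat_lit 140752, nat_lit 137290, nat_lit 134649, nat_lit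 494, nat_lit 4100, nat_lit 8680, nat_lit 13280, nat_lit 18336, nat_lit 21824, nat_lit 28544, nat_lit 32256, nat_lit 34816, nat_lit 39936, nat_lit 43008, nat_lit 46433, nat_lit 41968, nat_lit 38264, nat_lit 34032, nat_lit 28677, nat_lit 25658, nat_lit 21525, nat_lit 16387, nat_lit 12290, nat_lit 8195, nat_lit 4100, nat_lit 2, nat_lit 438282, nat_lit 430088, nat_lit 421894, nat_lit 413700, nat_lit 405504, nat_lit 168960, nat_lit 162816, nat_lit 155776, nat_lit 152448, nat_lit 148800, nat_lit 143520, nat_lit 131168, nat_lit 8193, nat_lit 4097, nat_lit 327680]⟩)⟩⟩,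
  .stab (nat_lit 83) (idE, idE) ⟨(nat_lit 0), ⟨[nat_lit 17, nat_lit 15, nat_lit 11, nat_lit 16, nat_lit 14, nat_lit 12, nat_lit 11], [], (nat_lit 72), (⟨[nat_lit 0xc59c53634d7286825024e24ed05a0f58bc69, nat_lit 0xe78eb78a1f40d89530e504ba7711dac2814b, nat_lit 0x11e277740358bee33358992cb302082b50ea, nat_lit 0xffff00b98e15aa804c88cac0537c505b35c3], [nat_lit 65536, nat_lit 69632, nat_lit 73728, nat_lit 77824, nat_lit 90112, nat_lit 94208, nat_lit 98304, nat_lit 106496, nat_lit 110592, nat_lit 178176, nat_lit 174080, nat_lit 171520, nat_lit 166912, nat_lit 163456, nat_lit 156672, nat_lit 153376, nat_lit 149136, nat_lit 144768, nat_lit 139396, nat_lit 136082, nat_lit 134792, nat_lit 2056, nat_lit 6152, nat_lit 10248, nat_lit 16096, nat_lit 16928, nat_lit 21632, nat_lit 25472, nat_lit 32000, nat_lit 39936, nat_lit 43008, nat_lit 45911, nat_lit 41554, nat_lit 37145, nat_lit 32867, nat_lit 28690, nat_lit 24636, nat_lit 20487, nat_lit 16460, nat_lit 12294, nat_lit 8193, nat_lit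 4097, nat_lit 438282, nat_lit 430088, nat_lit 421894, nat_lit 413700, nat_lit 405504, nat_lit 174080, nat_lit 167424, nat_lit 162816, nat_lit 157056, nat_lit 152768, nat_lit 148800, nat_lit 144768, nat_lit 131624, nat_lit 8193, nat_lit 4097, nat_lit 327680]⟩, ⟨[nat_lit 0xf5536531265de0290ea8784a0991d1a36c7, nat_lit 0x7727bd32141a5865048919dda9638e28556f, nat_lit 0x3930a091a80b8a045ce2e414ec55aaf185a9, nat_lit 0x8827bda4d8bac90fba9b1742c92802330887], [nat_lit 77824, nat_lit 81920, nat_lit 86016, nat_lit 98304, nat_lit 102400, nat_lit 175104, nat_lit 169472, nat_lit 164352, nat_lit 163328, nat_lit 158592, nat_lit 151616, nat_lit 148688, nat_lit 147072, nat_lit 143296, nat_lit 138924, nat_lit 133274, nat_lit 2070, nat_lit 4100, nat_lit 10256, nat_lit 12480, nat_lit 18336, nat_lit 23488, nat_lit 28928, nat_lit 35328, nat_lit 39936, nat_lit 43008, nat_lit 46294, nat_lit 41410, nat_lit 37013, nat_lit 32922, nat_lit 28722, nat_lit 25655, nat_lit 20493, nat_lit 16397, nat_lit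 12307, nat_lit 8195, nat_lit 4100, nat_lit 2, nat_lit 438282, nat_lit 430088, nat_lit 421894, nat_lit 413700, nat_lit 405504, nat_lit 169984, nat_lit 167424, nat_lit 160768, nat_lit 158208, nat_lit 154944, nat_lit 151168, nat_lit 145712, nat_lit 133616, nat_lit 8193, nat_lit 4097, nat_lit 327680]⟩)⟩, ⟨[], [], nat_lit 0, (idE, idE)⟩⟩]

theorem dcGr43 : D2.Rng dxG 43 46 := D2.Rng.of (l := dcGc43) (by decide +kernel)

def dcGc46 : List (D2.Cert (El × El)) := [.stab (nat_lit 87) (idE, idE) ⟨(nat_lit 0), ⟨[nat_lit 17, nat_lit 11, nat_lit 11, nat_lit 16, nat_lit 20, nat_lit 16], [], (nat_lit 72), (⟨[nat_lit 0xa6665a84d2668a91580813a18f2d6cabc86e, nat_lit 0x56339300caba4c2c756226912f91a0aba0f6, nat_lit 0x4d227d756e523d0b152099b62690eca60407, nat_lit 0x5ff56a88aad65c104b9e455a85199013ae72], [nat_lit 77824, nat_lit 81920, nat_lit 86016, nat_lit 94208, nat_lit 98304, nat_lit 110592, nat_lit 178176, nat_lit 174080, nat_lit 168960, nat_lit 165120, nat_lit 159488, nat_lit 155264,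 nat_lit 150464, nat_lit 144584, nat_lit 140364, nat_lit 138546, nat_lit 133825, nat_lit 2634, nat_lit 4100, nat_lit 9072, nat_lit 13264, nat_lit 18816, nat_lit 23488, nat_lit 26368, nat_lit 31488, nat_lit 35328, nat_lit 37888, nat_lit 43008, nat_lit 45900, nat_lit 41469, nat_lit 36941, nat_lit 33945, nat_lit 29816, nat_lit 24852, nat_lit 20485, nat_lit 16397, nat_lit 12289, nat_lit 8210, nat_lit 4100, nat_lit 438282, nat_lit 430088, nat_lit 421894, nat_lit 413700, nat_lit 405504, nat_lit 174080, nat_lit 166912, nat_lit 163584, nat_lit 158464, nat_lit 154240, nat_lit 149664, nat_lit 145984, nat_lit 132024, nat_lit 8193, nat_lit 4097]⟩, ⟨[nat_lit 0x8b12221da0b3ca2e608809a8372d68f4990d, nat_lit 0x55609f759523bda249961a322824e001d4b7, nat_lit 0x2417b743c221d8f0234aa8c96eaa59734e80, nat_lit 0x128d21b4e92ade115a8e50098d785c332089], [nat_lit 65536, nat_lit 69632, nat_lit 73728, nat_lit 90112, nat_lit 94208, nat_lit 171008, nat_lit 166144, nat_lit 162688, nat_lit 158144, nat_lit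 153088, nat_lit 151472, nat_lit 146608, nat_lit 142048, nat_lit 138166, nat_lit 134348, nat_lit 488, nat_lit 4584, nat_lit 8680, nat_lit 14912, nat_lit 19040, nat_lit 21440, nat_lit 26624, nat_lit 32256, nat_lit 33280, nat_lit 46574, nat_lit 41349, nat_lit 37229, nat_lit 32987, nat_lit 28760, nat_lit 24606, nat_lit 20496, nat_lit 16424, nat_lit 12292, nat_lit 8193, nat_lit 4097, nat_lit 438282, nat_lit 430088, nat_lit 421894, nat_lit 413700, nat_lit 405504, nat_lit 174080, nat_lit 164352, nat_lit 162048, nat_lit 158848, nat_lit 155200, nat_lit 148960, nat_lit 147024, nat_lit 133616, nat_lit 8193, nat_lit 4097]⟩)⟩, ⟨[], [], nat_lit 0, (idE, idE)⟩⟩,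
  .stab (nat_lit 89) (idE, idE) ⟨(nat_lit 0), ⟨[nat_lit 15, nat_lit 11, nat_lit 11, nat_lit 18, nat_lit 16, nat_lit 18], [], (nat_lit 72), (⟨[nat_lit 0x699f0cbbd6543aa46d94600a013d12c1ca33, nat_lit 0x48211ba2dc8ab63039acf0915390d25b8182, nat_lit 0x6f0333040ce45149bd97591de1132651b491, nat_lit 0x35399590920b8cac99947792c1452355c1ae], [nat_lit 77824, nat_lit 81920, nat_lit 86016, nat_lit 94208, nat_lit 98304, nat_lit 102400, nat_lit 106496, nat_lit 110592, nat_lit 178176, nat_lit 173056, nat_lit 170496, nat_lit 164096, nat_lit 160512, nat_lit 156160, nat_lit 152576, nat_lit 151456, nat_lit 147072, nat_lit 142880, nat_lit 136058, nat_lit 132267, nat_lit 3034, nat_lit 4100, nat_lit 8448, nat_lit 15312, nat_lit 18016, nat_lit 20800, nat_lit 26880, nat_lit 30976, nat_lit 33280, nat_lit 43008, nat_lit 45480, nat_lit 40997, nat_lit 37338, nat_lit 32793, nat_lit 29236, nat_lit 24711, nat_lit 20546, nat_lit 16652, nat_lit 12292, nat_lit 8203, nat_lit 4100, nat_lit 2, nat_lit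 438282, nat_lit 430088, nat_lit 421894, nat_lit 413700, nat_lit 405504, nat_lit 168960, nat_lit 165888, nat_lit 161280, nat_lit 157184, nat_lit 154496, nat_lit 151360, nat_lit 146304, nat_lit 131912, nat_lit 8193, nat_lit 4097, nat_lit 327680]⟩, ⟨[nat_lit 0xfc359f5ba839dea76448f104d0424b2b340a, nat_lit 0x550903a01838a846ac24e6dc870acb3b250f, nat_lit 0x7412dda2e49340f540dc50cee20288c6bed1, nat_lit 0xdd74773242c248f7500af73615b0873a2171], [nat_lit 90112, nat_lit 102400, nat_lit 106496, nat_lit 110592, nat_lit 178176, nat_lit 169472, nat_lit 166400, nat_lit 162432, nat_lit 158784, nat_lit 154048, nat_lit 150400, nat_lit 145056, nat_lit 140276, nat_lit 139172, nat_lit 133863, nat_lit 518, nat_lit 4100, nat_lit 8704, nat_lit 13664, nat_lit 16448, nat_lit 21824, nat_lit 26752, nat_lit 29184, nat_lit 34304, nat_lit 37888, nat_lit 43008, nat_lit 45586, nat_lit 41912, nat_lit 36890, nat_lit 32847, nat_lit 28782, nat_lit 24605, nat_lit 20630, nat_lit 16426, nat_lit 12290, nat_lit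 8195, nat_lit 4100, nat_lit 2, nat_lit 438282, nat_lit 430088, nat_lit 421894, nat_lit 413700, nat_lit 405504, nat_lit 174080, nat_lit 169984, nat_lit 165888, nat_lit 161280, nat_lit 159616, nat_lit 153984, nat_lit 149312, nat_lit 146416, nat_lit 132456, nat_lit 8193, nat_lit 4097, nat_lit 327680]⟩)⟩, ⟨[], [], nat_lit 0, (idE, idE)⟩⟩,
  .prod [] [nat_lit 45, nat_lit 39, nat_lit 37, nat_lit 37],
  .prod [] [nat_lit 38, nat_lit 47, nat_lit 48, nat_lit 37],
  .prod [] [nat_lit 38, nat_lit 37, nat_lit 47, nat_lit 49],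
  .defn]

theorem dcGr46 : D2.Rng dxG 46 52 := D2.Rng.of (l := dcGc46) (by decide +kernel)

def dcGc52 : List (D2.Cert (El × El)) := [.stab (nat_lit 102) (idE, idE) ⟨(nat_lit 0), ⟨[nat_lit 20, nat_lit 15, nat_lit 16, nat_lit 14, nat_lit 19, nat_lit 14, nat_lit 11], [], (nat_lit 102), (⟨[nat_lit 0x44b142299d688147ba12c1ac937d4226ca90, nat_lit 0xe8e724131569c2275d1e1bb5033488570135, nat_lit 0xf699315905aa4645b9506062093e97698f3], [nat_lit 86016, nat_lit 94208, nat_lit 106496, nat_lit 110592, nat_lit 178176, nat_lit 173056, nat_lit 168448, nat_lit 167424, nat_lit 160768, nat_lit 159232, nat_lit 153568, nat_lit 149632, nat_lit 144488, nat_lit 140464, nat_lit 137810, nat_lit 132029, nat_lit 1456, nat_lit 5552, nat_lit 9648, nat_lit 14656, nat_lit 18144, nat_lit 21696, nat_lit 26880, nat_lit 31232, nat_lit 34304, nat_lit 46521, nat_lit 43229, nat_lit 36866, nat_lit 33843, nat_lit 30782, nat_lit 24626, nat_lit 20546, nat_lit 16416, nat_lit 12293, nat_lit 8193, nat_lit 4097,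 nat_lit 430087, nat_lit 413700, nat_lit 405504, nat_lit 160256, nat_lit 147968, nat_lit 143392, nat_lit 131592, nat_lit 45089, nat_lit 41112, nat_lit 32825, nat_lit 24577, nat_lit 8193, nat_lit 4097, nat_lit 327680]⟩, ⟨[nat_lit 0xa65aff44467548454d5ebbce0d0d1c021acc, nat_lit 0x4b272e29207409979c4d2a016eb35434d42f, nat_lit 0xb8742d0b0a71b528a1151342cb14e4f03af5], [nat_lit 77824, nat_lit 94208, nat_lit 98304, nat_lit 102400, nat_lit 106496, nat_lit 175104, nat_lit 169984, nat_lit 164352, nat_lit 160768, nat_lit 158592, nat_lit 154400, nat_lit 148016, nat_lit 145768, nat_lit 142716, nat_lit 136670, nat_lit 133189, nat_lit 128, nat_lit 4224, nat_lit 8320, nat_lit 15664, nat_lit 19680, nat_lit 21888, nat_lit 26880, nat_lit 30464, nat_lit 35328, nat_lit 45299, nat_lit 41766, nat_lit 37972, nat_lit 32990, nat_lit 28701, nat_lit 24866, nat_lit 20549, nat_lit 16425, nat_lit 12322, nat_lit 425991, nat_lit 417797, nat_lit 409603, nat_lit 155776, nat_lit 151744, nat_lit 143680,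 nat_lit 45072, nat_lit 41408, nat_lit 37032]⟩)⟩, ⟨[], [], nat_lit 0, (idE, idE)⟩⟩,
  .stab (nat_lit 102) (idE, idE) ⟨(nat_lit 0), ⟨[nat_lit 18, nat_lit 11, nat_lit 17, nat_lit 20, nat_lit 11, nat_lit 19, nat_lit 12], [], (nat_lit 102), (⟨[nat_lit 0xf5f3996be4b25d828a6d441607a8dc608153, nat_lit 0xd14e1785923285c09c5e490a8a69968adcec, nat_lit 0x3333c95858311e373114d83d32b550e04cb4, nat_lit 0x72e88e3950b73271ad041b02e37c24d31149], [nat_lit 65536, nat_lit 69632, nat_lit 73728, nat_lit 81920, nat_lit 86016, nat_lit 90112, nat_lit 94208, nat_lit 102400, nat_lit 110592, nat_lit 178176, nat_lit 174080, nat_lit 169472, nat_lit 166400, nat_lit 163328, nat_lit 159552, nat_lit 152512, nat_lit 148800, nat_lit 144488, nat_lit 142368, nat_lit 137632, nat_lit 133032, nat_lit 22, nat_lit 4100, nat_lit 8208, nat_lit 12784, nat_lit 16448, nat_lit 23616, nat_lit 27648, nat_lit 30208, nat_lit 36352, nat_lit 38912, nat_lit 43008, nat_lit 45683, nat_lit 41926, nat_lit 37998, nat_lit 33527,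 nat_lit 28784, nat_lit 24639, nat_lit 20495, nat_lit 16389, nat_lit 12290, nat_lit 8195, nat_lit 4100, nat_lit 438282, nat_lit 430088, nat_lit 421894, nat_lit 413700, nat_lit 405504, nat_lit 162816, nat_lit 154496, nat_lit 151296, nat_lit 144576, nat_lit 134152, nat_lit 8193, nat_lit 4097, nat_lit 327680]⟩, ⟨[nat_lit 0x4b41429c2ac3968d7803645dca148891ae26, nat_lit 0x7bde87a300f54dc769a0b95e21b2123a9045, nat_lit 0xebdd4b3590f50931810a0605b2a1d6ebcea3, nat_lit 0x114741898f050c29990b27d9b57519742c40], [nat_lit 77824, nat_lit 81920, nat_lit 86016, nat_lit 90112, nat_lit 94208, nat_lit 98304, nat_lit 110592, nat_lit 178176, nat_lit 169984, nat_lit 165120, nat_lit 162432, nat_lit 155904, nat_lit 155296, nat_lit 150400, nat_lit 146312, nat_lit 143208, nat_lit 136780, nat_lit 132575, nat_lit 2304, nat_lit 6400, nat_lit 10496, nat_lit 15632, nat_lit 16416, nat_lit 22656, nat_lit 27776, nat_lit 28928, nat_lit 34304, nat_lit 38912, nat_lit 46691, nat_lit 41544, nat_lit 37093,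 nat_lit 32822, nat_lit 28752, nat_lit 24709, nat_lit 20486, nat_lit 16458, nat_lit 12305, nat_lit 8193, nat_lit 4097, nat_lit 2, nat_lit 438282, nat_lit 430088, nat_lit 421894, nat_lit 413700, nat_lit 405504, nat_lit 174080, nat_lit 160768, nat_lit 159104, nat_lit 152064, nat_lit 150720, nat_lit 145968, nat_lit 134552, nat_lit 8193, nat_lit 4097, nat_lit 327680]⟩)⟩, ⟨[], [], nat_lit 0, (idE, idE)⟩⟩,
  .stab (nat_lit 102) (idE, idE) ⟨(nat_lit 0), ⟨[nat_lit 14, nat_lit 15, nat_lit 14, nat_lit 12, nat_lit 19, nat_lit 14, nat_lit 11, nat_lit 11], [], (nat_lit 102), (⟨[nat_lit 0x228b77a4de64ac6a081023de4d8b2c52560e, nat_lit 0x55acca5cea0bc50182a826388d1a6d2794c7, nat_lit 0x742e876d46575081b00cc3bee2942299a90b], [nat_lit 81920, nat_lit 86016, nat_lit 90112, nat_lit 94208, nat_lit 98304, nat_lit 102400, nat_lit 178176, nat_lit 175104, nat_lit 169984, nat_lit 164608, nat_lit 163712, nat_lit 158208, nat_lit 151776, nat_lit 150784, nat_lit 146192, nat_lit 141048, nat_lit 136942,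 nat_lit 132728, nat_lit 184, nat_lit 4280, nat_lit 8376, nat_lit 12960, nat_lit 17152, nat_lit 23168, nat_lit 27648, nat_lit 32256, nat_lit 35328, nat_lit 38912, nat_lit 46815, nat_lit 43714, nat_lit 39184, nat_lit 32793, nat_lit 28727, nat_lit 25110, nat_lit 20508, nat_lit 16393, nat_lit 12294, nat_lit 8193, nat_lit 4097, nat_lit 2, nat_lit 438281, nat_lit 421893, nat_lit 405504, nat_lit 152064, nat_lit 133664, nat_lit 41632, nat_lit 32769, nat_lit 24577, nat_lit 16385, nat_lit 8193, nat_lit 4097]⟩, ⟨[nat_lit 0x841ddd9a28651e35780222aef0259326b06e, nat_lit 0xde7d4d99ac93ae3708983a4904aaa05781ae, nat_lit 0xeb78825a9202524c3da0f8d5a6716f340443], [nat_lit 77824, nat_lit 81920, nat_lit 86016, nat_lit 90112, nat_lit 94208, nat_lit 102400, nat_lit 106496, nat_lit 173056, nat_lit 169984, nat_lit 165632, nat_lit 159872, nat_lit 156608, nat_lit 153120, nat_lit 148944, nat_lit 143408, nat_lit 142240, nat_lit 137524, nat_lit 132329, nat_lit 2260, nat_lit 6356, nat_lit 11080,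 nat_lit 14944, nat_lit 18656, nat_lit 23552, nat_lit 27008, nat_lit 28928, nat_lit 33280, nat_lit 39936, nat_lit 46136, nat_lit 43438, nat_lit 37140, nat_lit 32966, nat_lit 28695, nat_lit 24849, nat_lit 22541, nat_lit 16391, nat_lit 14343, nat_lit 8202, nat_lit 4097, nat_lit 438281, nat_lit 421892, nat_lit 405504, nat_lit 143376, nat_lit 133632, nat_lit 41112, nat_lit 32792, nat_lit 24577, nat_lit 20481, nat_lit 8193, nat_lit 4097]⟩)⟩, ⟨[], [], nat_lit 0, (idE, idE)⟩⟩]

theorem dcGr52 : D2.Rng dxG 52 55 := D2.Rng.of (l := dcGc52) (by decide +kernel)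

def dcGc55 : List (D2.Cert (El × El)) := [.stab (nat_lit 102) (idE, idE) ⟨(nat_lit 0), ⟨[nat_lit 17, nat_lit 15, nat_lit 12, nat_lit 19, nat_lit 11], [], (nat_lit 102), (⟨[nat_lit 0x9ffc3c72987120c1b12eb916098d46d04e8f, nat_lit 0x930af6b2da5ba8cf62284a9dc98023308e42, nat_lit 0xdbb27e815e9744cb6b2c221c35ba86804a93, nat_lit 0xd82d270dc91116b2731a830e7481ec07ad49], [nat_lit 81920, nat_lit 94208, nat_lit 102400, nat_lit 106496, nat_lit 110592, nat_lit 173056, nat_lit 171520, nat_lit 167680, nat_lit 162944, nat_lit 157440, nat_lit 152768, nat_lit 151296, nat_lit 146344, nat_lit 143176, nat_lit 137246, nat_lit 133976, nat_lit 2536, nat_lit 6632, nat_lit 10728, nat_lit 16192, nat_lit 18656, nat_lit 20544, nat_lit 28544, nat_lit 29952, nat_lit 34304, nat_lit 37888, nat_lit 43008, nat_lit 46623, nat_lit 41374, nat_lit 37229, nat_lit 32872, nat_lit 29808, nat_lit 20493, nat_lit 17408, nat_lit 12304, nat_lit 8193, nat_lit 4097, nat_lit 2, nat_lit 438282, nat_lit 430088, nat_lit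 421894, nat_lit 413700, nat_lit 405504, nat_lit 171008, nat_lit 167424, nat_lit 162816, nat_lit 157440, nat_lit 152768, nat_lit 151296, nat_lit 146336, nat_lit 134152, nat_lit 8193, nat_lit 4097]⟩, ⟨[nat_lit 0x47d1e43d2cf0142d612127190b1c6eaaa453, nat_lit 0x335608b680acde3848ea1048b4b8ac458d7, nat_lit 0xb77b2d33a019a2d1900ef228b758e824d58d, nat_lit 0x4b72e8551e3aa04e59a698dec72b59224001], [nat_lit 65536, nat_lit 69632, nat_lit 73728, nat_lit 77824, nat_lit 81920, nat_lit 86016, nat_lit 90112, nat_lit 94208, nat_lit 98304, nat_lit 102400, nat_lit 106496, nat_lit 110592, nat_lit 178176, nat_lit 173056, nat_lit 168448, nat_lit 165120, nat_lit 163456, nat_lit 158272, nat_lit 152736, nat_lit 148816, nat_lit 143680, nat_lit 141416, nat_lit 136584, nat_lit 134528, nat_lit 1896, nat_lit 5992, nat_lit 10088, nat_lit 12864, nat_lit 19136, nat_lit 23872, nat_lit 27136, nat_lit 31232, nat_lit 33792, nat_lit 38912, nat_lit 45965, nat_lit 41174, nat_lit 37309, nat_lit 32885, nat_lit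 28782, nat_lit 24598, nat_lit 20510, nat_lit 16422, nat_lit 12289, nat_lit 8193, nat_lit 4097, nat_lit 438282, nat_lit 430088, nat_lit 421894, nat_lit 413700, nat_lit 405504, nat_lit 164864, nat_lit 163328, nat_lit 158208, nat_lit 152704, nat_lit 148800, nat_lit 143680, nat_lit 131168, nat_lit 8193, nat_lit 4097, nat_lit 327680]⟩)⟩, ⟨[], [], nat_lit 0, (idE, idE)⟩⟩,
  .prod [] [nat_lit 52, nat_lit 55, nat_lit 55, nat_lit 55],
  .prod [] [nat_lit 52, nat_lit 54, nat_lit 53, nat_lit 54],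
  .prod [] [nat_lit 56, nat_lit 53, nat_lit 56, nat_lit 55],
  .prod [] [nat_lit 54, nat_lit 58, nat_lit 53, nat_lit 54],
  .prod [] [nat_lit 56, nat_lit 55, nat_lit 53, nat_lit 56]]

theorem dcGr55 : D2.Rng dxG 55 61 := D2.Rng.of (l := dcGc55) (by decide +kernel)

def dcGc61 : List (D2.Cert (El × El)) := [.edge (⟨[nat_lit 0x1d41849dae66b09049d717a2a391420a094e, nat_lit 0xe7bd1db21f0726b210ce1551b33100565e2b, nat_lit 0x7de881335e454a098ad1310ed4006b7730a7], [nat_lit 77824, nat_lit 86016, nat_lit 90112, nat_lit 94208, nat_lit 98304, nat_lit 178176, nat_lit 174080, nat_lit 171520, nat_lit 166144, nat_lit 161664, nat_lit 158656, nat_lit 155424, nat_lit 147584, nat_lit 145896, nat_lit 140828, nat_lit 136556, nat_lit 131718, nat_lit 32, nat_lit 4128, nat_lit 8224, nat_lit 13568, nat_lit 18336, nat_lit 27136, nat_lit 31744, nat_lit 33280, nat_lit 46213, nat_lit 43953, nat_lit 38145, nat_lit 33956, nat_lit 29001, nat_lit 24585, nat_lit 20481, nat_lit 16392, nat_lit 12309,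 nat_lit 8193, nat_lit 4097, nat_lit 434184, nat_lit 421894, nat_lit 409600, nat_lit 160000, nat_lit 147904, nat_lit 131536, nat_lit 46160, nat_lit 37008, nat_lit 20481, nat_lit 12289, nat_lit 8193, nat_lit 4097, nat_lit 327680]⟩, ⟨[nat_lit 0x9566c66d1f68a64b1106654e0801c2563af5, nat_lit 0xa33005615cf0d20805a4b48e758dc4a391a6, nat_lit 0x5999a5530e06ac45446e9a3dd3810d595861], [nat_lit 65536, nat_lit 69632, nat_lit 73728, nat_lit 86016, nat_lit 90112, nat_lit 98304, nat_lit 102400, nat_lit 106496, nat_lit 178176, nat_lit 175104, nat_lit 168960, nat_lit 166656, nat_lit 159872, nat_lit 159296, nat_lit 155328, nat_lit 151440, nat_lit 147176, nat_lit 141220, nat_lit 138228, nat_lit 134297, nat_lit 2970, nat_lit 4100, nat_lit 9624, nat_lit 15248, nat_lit 19200, nat_lit 20736, nat_lit 28288, nat_lit 31744, nat_lit 35840, nat_lit 43008, nat_lit 45703, nat_lit 41488, nat_lit 37130, nat_lit 32796, nat_lit 30838, nat_lit 24716, nat_lit 20552, nat_lit 16418, nat_lit 12294, nat_lit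 8201, nat_lit 4100, nat_lit 2, nat_lit 434183, nat_lit 417797, nat_lit 405504, nat_lit 156672, nat_lit 144608, nat_lit 131200, nat_lit 45089, nat_lit 36865, nat_lit 33001, nat_lit 16385, nat_lit 8193, nat_lit 4097]⟩) ⟨(nat_lit 2), ⟨[nat_lit 47, nat_lit 39, nat_lit 50], [], (nat_lit 82), (⟨[nat_lit 0x2b71d42ae2991c2073e0640aed62ac325674, nat_lit 0x717827b8ac654e8e0ad047b0076a6b22c223, nat_lit 0xe74d1211c2cad88d82680796534194ebc46b, nat_lit 0xcc006341d8db3810184a992a647c45432ef5], [nat_lit 77824, nat_lit 81920, nat_lit 86016, nat_lit 90112, nat_lit 94208, nat_lit 102400, nat_lit 106496, nat_lit 110592, nat_lit 178176, nat_lit 173056, nat_lit 171520, nat_lit 164096, nat_lit 160256, nat_lit 158592, nat_lit 152096, nat_lit 145888, nat_lit 139604, nat_lit 135728, nat_lit 134438, nat_lit 3856, nat_lit 7952, nat_lit 12048, nat_lit 12400, nat_lit 16480, nat_lit 21312, nat_lit 27008, nat_lit 31744, nat_lit 33792, nat_lit 39936, nat_lit 43008, nat_lit 46985, nat_lit 41478, nat_lit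 37936, nat_lit 32830, nat_lit 28798, nat_lit 24758, nat_lit 20510, nat_lit 16430, nat_lit 12294, nat_lit 8193, nat_lit 4097, nat_lit 438282, nat_lit 430088, nat_lit 421894, nat_lit 413700, nat_lit 405504, nat_lit 174080, nat_lit 167424, nat_lit 162560, nat_lit 157056, nat_lit 154432, nat_lit 148960, nat_lit 144768, nat_lit 134552, nat_lit 8193, nat_lit 4097]⟩, ⟨[nat_lit 0x56afa636324006b73e702d8f74854221a95, nat_lit 0xfaa9a040eb4bb0b184d21200cb6c8f6129ee, nat_lit 0xa3a9696822242a6eb1c697c8a665e15a048b, nat_lit 0x55f9f3a2057acda4581ccb3e4519cc90c22a], [nat_lit 86016, nat_lit 98304, nat_lit 102400, nat_lit 106496, nat_lit 175104, nat_lit 169472, nat_lit 164352, nat_lit 160000, nat_lit 159232, nat_lit 155232, nat_lit 151472, nat_lit 143480, nat_lit 139440, nat_lit 136778, nat_lit 131368, nat_lit 1970, nat_lit 4100, nat_lit 9664, nat_lit 15632, nat_lit 18976, nat_lit 21952, nat_lit 27392, nat_lit 32000, nat_lit 37888, nat_lit 45424, nat_lit 41779, nat_lit 38039, nat_lit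 32878, nat_lit 28775, nat_lit 24730, nat_lit 20551, nat_lit 16429, nat_lit 12324, nat_lit 8201, nat_lit 4100, nat_lit 2, nat_lit 438282, nat_lit 430088, nat_lit 421894, nat_lit 413700, nat_lit 405504, nat_lit 169984, nat_lit 167424, nat_lit 158208, nat_lit 154944, nat_lit 147968, nat_lit 146848, nat_lit 132456, nat_lit 8193, nat_lit 4097]⟩)⟩, ⟨[nat_lit 18, nat_lit 14, nat_lit 13], [], (nat_lit 102), (⟨[nat_lit 0xe12ed202c446c434728cfadce91c2cc920b3, nat_lit 0xa3fcaf3bd61bcab64b4c29c234231002a9c3, nat_lit 0x82188e3808352e71088a665e8d7bab64c112], [nat_lit 77824, nat_lit 90112, nat_lit 110592, nat_lit 173056, nat_lit 168960, nat_lit 165632, nat_lit 160512, nat_lit 157376, nat_lit 154080, nat_lit 148560, nat_lit 146392, nat_lit 142720, nat_lit 136992, nat_lit 131710, nat_lit 2080, nat_lit 6176, nat_lit 10272, nat_lit 14560, nat_lit 17504, nat_lit 23744, nat_lit 28032, nat_lit 30720, nat_lit 34304, nat_lit 39936, nat_lit 43008, nat_lit 46432, nat_lit 41133, nat_lit 37328,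 nat_lit 32805, nat_lit 29254, nat_lit 25130, nat_lit 20569, nat_lit 12354, nat_lit 434184, nat_lit 421893, nat_lit 409603, nat_lit 164864, nat_lit 161024, nat_lit 151808, nat_lit 147744, nat_lit 144640, nat_lit 45064, nat_lit 24584]⟩, ⟨[nat_lit 0xcc0f930044e9168a855047b583bc5269d967, nat_lit 0x50a0a332c7265ed40a0f3ab9ed49222540a0, nat_lit 0x28bb4b505c7ad2166a480331027ac65bce32], [nat_lit 65536, nat_lit 69632, nat_lit 73728, nat_lit 77824, nat_lit 90112, nat_lit 94208, nat_lit 98304, nat_lit 102400, nat_lit 178176, nat_lit 170496, nat_lit 165888, nat_lit 160256, nat_lit 158336, nat_lit 154784, nat_lit 150128, nat_lit 146904, nat_lit 139360, nat_lit 135856, nat_lit 134908, nat_lit 2112, nat_lit 6208, nat_lit 10304, nat_lit 14304, nat_lit 20000, nat_lit 20800, nat_lit 24704, nat_lit 32000, nat_lit 33792, nat_lit 47008, nat_lit 43153, nat_lit 37173, nat_lit 32805, nat_lit 28679, nat_lit 24598, nat_lit 20503, nat_lit 16387, nat_lit 12290, nat_lit 8193, nat_lit 4097, nat_lit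 425991, nat_lit 413700, nat_lit 405504, nat_lit 151680, nat_lit 147872, nat_lit 143392, nat_lit 131232, nat_lit 45488, nat_lit 40961, nat_lit 37297, nat_lit 24624, nat_lit 8193, nat_lit 4097, nat_lit 327680]⟩)⟩⟩,
  .edge (⟨[nat_lit 0xd284887dcb0580221a50a3559274ec78b684, nat_lit 0x5a090ca152019d5545c2483e728b98d59ac2, nat_lit 0xbd1ed7a026d2988abc02ea8df160ad23a12b], [nat_lit 65536, nat_lit 69632, nat_lit 73728, nat_lit 77824, nat_lit 81920, nat_lit 86016, nat_lit 90112, nat_lit 94208, nat_lit 98304, nat_lit 106496, nat_lit 110592, nat_lit 178176, nat_lit 174080, nat_lit 169984, nat_lit 165120, nat_lit 161536, nat_lit 156288, nat_lit 154080, nat_lit 147648, nat_lit 146480, nat_lit 139580, nat_lit 138794, nat_lit 131172, nat_lit 2958, nat_lit 4100, nat_lit 11144, nat_lit 13760, nat_lit 16736, nat_lit 22976, nat_lit 27648, nat_lit 29696, nat_lit 35840, nat_lit 37888, nat_lit 46985, nat_lit 43899, nat_lit 37195, nat_lit 32947, nat_lit 29020, nat_lit 24731, nat_lit 20498,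 nat_lit 16390, nat_lit 12290, nat_lit 8195, nat_lit 4100, nat_lit 434184, nat_lit 421893, nat_lit 409600, nat_lit 151936, nat_lit 147840, nat_lit 131216, nat_lit 45057, nat_lit 36865, nat_lit 8193, nat_lit 4097]⟩, ⟨[nat_lit 0x9599c6a5e0a5be4e3cc89030b6ab46614501, nat_lit 0xbb2721bbc914854ba15b0758d23d59318048, nat_lit 0x7d42479a5676542a346d74500d7488f28c50], [nat_lit 65536, nat_lit 69632, nat_lit 73728, nat_lit 77824, nat_lit 94208, nat_lit 102400, nat_lit 110592, nat_lit 174080, nat_lit 170496, nat_lit 167168, nat_lit 162560, nat_lit 157632, nat_lit 152064, nat_lit 151184, nat_lit 145368, nat_lit 139832, nat_lit 135336, nat_lit 134759, nat_lit 3204, nat_lit 7300, nat_lit 8408, nat_lit 15776, nat_lit 17440, nat_lit 24256, nat_lit 27648, nat_lit 31744, nat_lit 33792, nat_lit 39936, nat_lit 43008, nat_lit 47069, nat_lit 41509, nat_lit 38011, nat_lit 32899, nat_lit 28701, nat_lit 25146, nat_lit 20495, nat_lit 16520, nat_lit 12324, nat_lit 8208, nat_lit 4097, nat_lit 430087,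 nat_lit 413700, nat_lit 405504, nat_lit 160256, nat_lit 148128, nat_lit 131632, nat_lit 45569, nat_lit 41472, nat_lit 32944, nat_lit 24624, nat_lit 8193, nat_lit 4097]⟩) ⟨(nat_lit 2), ⟨[nat_lit 54, nat_lit 55, nat_lit 52], [nat_lit 52, nat_lit 54, nat_lit 58], (nat_lit 123), (⟨[nat_lit 0x7b47eba38aa5d58608a40225f61c613b9da8, nat_lit 0x8eb48d91d48144a3bd8d00a5f49b08daadc0, nat_lit 0x2eeb2170e155912a320e56da62886efa3012, nat_lit 0x65ccf038937202abb142a1a2868c1f2731b3], [nat_lit 65536, nat_lit 69632, nat_lit 73728, nat_lit 77824, nat_lit 81920, nat_lit 94208, nat_lit 110592, nat_lit 178176, nat_lit 169984, nat_lit 164608, nat_lit 160256, nat_lit 155904, nat_lit 151616, nat_lit 147984, nat_lit 144432, nat_lit 141900, nat_lit 135604, nat_lit 133300, nat_lit 1178, nat_lit 4100, nat_lit 8704, nat_lit 13456, nat_lit 16896, nat_lit 21824, nat_lit 25728, nat_lit 30720, nat_lit 33792, nat_lit 39936, nat_lit 43008, nat_lit 45087, nat_lit 40985, nat_lit 37125, nat_lit 33484, nat_lit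 29004, nat_lit 24609, nat_lit 20566, nat_lit 16389, nat_lit 12292, nat_lit 8203, nat_lit 4100, nat_lit 2, nat_lit 438282, nat_lit 430088, nat_lit 421894, nat_lit 413700, nat_lit 405504, nat_lit 165376, nat_lit 160256, nat_lit 157312, nat_lit 152896, nat_lit 144576, nat_lit 134152, nat_lit 8193, nat_lit 4097, nat_lit 327680]⟩, ⟨[nat_lit 0x5af9fc829ee5de9230ecc9a441054ad41227, nat_lit 0x182b7eaa970404cf29ef1225c3b359298814, nat_lit 0xd4bd7e8a5e8359423d46b75e74610b20402d, nat_lit 0xeed1dd65e51b15a70d00f5107040a6672575], [nat_lit 77824, nat_lit 81920, nat_lit 86016, nat_lit 94208, nat_lit 98304, nat_lit 102400, nat_lit 106496, nat_lit 110592, nat_lit 178176, nat_lit 174080, nat_lit 170496, nat_lit 167168, nat_lit 163328, nat_lit 157632, nat_lit 154912, nat_lit 151184, nat_lit 145336, nat_lit 142948, nat_lit 136590, nat_lit 131608, nat_lit 128, nat_lit 4224, nat_lit 8320, nat_lit 14592, nat_lit 17600, nat_lit 21888, nat_lit 24704, nat_lit 28928, nat_lit 34304, nat_lit 37888,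 nat_lit 45121, nat_lit 41975, nat_lit 36978, nat_lit 33946, nat_lit 28764, nat_lit 24707, nat_lit 20738, nat_lit 16449, nat_lit 12310, nat_lit 8193, nat_lit 4097, nat_lit 2, nat_lit 438282, nat_lit 430088, nat_lit 421894, nat_lit 413700, nat_lit 405504, nat_lit 164864, nat_lit 160000, nat_lit 152320, nat_lit 148960, nat_lit 144128, nat_lit 134552, nat_lit 8193, nat_lit 4097]⟩)⟩, ⟨[nat_lit 47, nat_lit 38, nat_lit 47, nat_lit 47], [], (nat_lit 84), (⟨[nat_lit 0x7b844e1ce002d4975bdc8629a988a413d8d4, nat_lit 0xf6055cb428941e25201b564d6e7dcc118a4a, nat_lit 0x111d8850e2464af0089d659c13abca64268d, nat_lit 0xffc35a4a9a7122b0bac720b880351967c665], [nat_lit 81920, nat_lit 90112, nat_lit 98304, nat_lit 102400, nat_lit 106496, nat_lit 171008, nat_lit 164608, nat_lit 161664, nat_lit 155776, nat_lit 155200, nat_lit 147760, nat_lit 145352, nat_lit 142780, nat_lit 135204, nat_lit 134649, nat_lit 986, nat_lit 4100, nat_lit 9160, nat_lit 13264, nat_lit 16480, nat_lit 23616, nat_lit 24960,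 nat_lit 32000, nat_lit 34304, nat_lit 46552, nat_lit 41247, nat_lit 37152, nat_lit 33377, nat_lit 28797, nat_lit 24758, nat_lit 20496, nat_lit 16420, nat_lit 12293, nat_lit 8202, nat_lit 4100, nat_lit 438282, nat_lit 430088, nat_lit 421894, nat_lit 413700, nat_lit 405504, nat_lit 174080, nat_lit 168960, nat_lit 165376, nat_lit 160256, nat_lit 158720, nat_lit 154944, nat_lit 148032, nat_lit 146144, nat_lit 131624, nat_lit 8193, nat_lit 4097]⟩, ⟨[nat_lit 0x65c300850015a256a94d1bb5d37a864124ec, nat_lit 0xcf3a0c0228d80c450aaac8dcd63ae69911cf, nat_lit 0x78eb183c184952cf98c2e2a057a81465a5b1, nat_lit 0xedb1840ca112512e2d94fbaccd3b11504c62], [nat_lit 65536, nat_lit 69632, nat_lit 73728, nat_lit 81920, nat_lit 86016, nat_lit 90112, nat_lit 94208, nat_lit 98304, nat_lit 102400, nat_lit 106496, nat_lit 110592, nat_lit 173056, nat_lit 170496, nat_lit 166912, nat_lit 163200, nat_lit 157632, nat_lit 154240, nat_lit 148144, nat_lit 144168, nat_lit 142404, nat_lit 136780, nat_lit 131282,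 nat_lit 4018, nat_lit 4100, nat_lit 12136, nat_lit 12400, nat_lit 20384, nat_lit 21824, nat_lit 26112, nat_lit 30720, nat_lit 34816, nat_lit 38912, nat_lit 46751, nat_lit 41865, nat_lit 37940, nat_lit 33395, nat_lit 28703, nat_lit 24630, nat_lit 20489, nat_lit 16398, nat_lit 12306, nat_lit 8203, nat_lit 4100, nat_lit 438282, nat_lit 430088, nat_lit 421894, nat_lit 413700, nat_lit 405504, nat_lit 167424, nat_lit 162560, nat_lit 152256, nat_lit 151072, nat_lit 146288, nat_lit 134152, nat_lit 8193, nat_lit 4097]⟩)⟩⟩]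

theorem dcGr61 : D2.Rng dxG 61 63 := D2.Rng.of (l := dcGc61) (by decide +kernel)

def dcGc63 : List (D2.Cert (El × El)) := [.edge (⟨[nat_lit 0xa3cf0519a6d95a2a7518858057224f5804af, nat_lit 0xb71d4143a2149555232ed34e16a00e35c84f, nat_lit 0x12eb4d5a6e57b2875026e13511812d208cd5, nat_lit 0x48dee4b324aaae0d4468e384604de6f21845], [nat_lit 81920, nat_lit 86016, nat_lit 90112, nat_lit 94208, nat_lit 98304, nat_lit 102400, nat_lit 178176, nat_lit 173056, nat_lit 167680, nat_lit 160000, nat_lit 155712, nat_lit 151872, nat_lit 150944, nat_lit 145656, nat_lit 141280, nat_lit 137086, nat_lit 132655, nat_lit 2056, nat_lit 6152, nat_lit 10248, nat_lit 13280, nat_lit 19744, nat_lit 23744, nat_lit 27136, nat_lit 30464, nat_lit 35840, nat_lit 39936, nat_lit 43008, nat_lit 45971, nat_lit 41614, nat_lit 36909, nat_lit 32909, nat_lit 29029, nat_lit 24735, nat_lit 20491, nat_lit 16457, nat_lit 12310, nat_lit 8193, nat_lit 4097, nat_lit 438282, nat_lit 430088, nat_lit 421894, nat_lit 413700,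 nat_lit 405504, nat_lit 164352, nat_lit 160000, nat_lit 156160, nat_lit 153024, nat_lit 150624, nat_lit 145136, nat_lit 131168, nat_lit 8193, nat_lit 4097, nat_lit 327680]⟩, ⟨[nat_lit 0xe2ebbd5c2ef432d1284406d53319887a29d2, nat_lit 0xf0553651ee8190352d1cd942c6031319ade2, nat_lit 0xbde1d71342032a1678dcc2cea922e913dd12, nat_lit 0x9f5ac54ee88d8853052da0e4013d67831d5], [nat_lit 65536, nat_lit 69632, nat_lit 73728, nat_lit 86016, nat_lit 94208, nat_lit 98304, nat_lit 102400, nat_lit 110592, nat_lit 173056, nat_lit 171520, nat_lit 167168, nat_lit 160128, nat_lit 159552, nat_lit 154272, nat_lit 150640, nat_lit 146392, nat_lit 140900, nat_lit 135324, nat_lit 132311, nat_lit 3856, nat_lit 7952, nat_lit 12048, nat_lit 15936, nat_lit 17152, nat_lit 21824, nat_lit 27008, nat_lit 35328, nat_lit 37888, nat_lit 43008, nat_lit 46115, nat_lit 41875, nat_lit 37923, nat_lit 32784, nat_lit 29259, nat_lit 24759, nat_lit 20621, nat_lit 12359, nat_lit 8193, nat_lit 4097, nat_lit 2, nat_lit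 438282, nat_lit 430088, nat_lit 421894, nat_lit 413700, nat_lit 405504, nat_lit 165376, nat_lit 160000, nat_lit 158464, nat_lit 152384, nat_lit 149472, nat_lit 145056, nat_lit 132784, nat_lit 8193, nat_lit 4097, nat_lit 327680]⟩) ⟨(nat_lit 1), ⟨[], [], (nat_lit 103), (⟨[nat_lit 0x447d17a4ccf50d2b644b6712b06cae708900, nat_lit 0x99ca3ab564d885c01a28724caf8314b124d7, nat_lit 0x93fa06bbc8800a2349ecd3514c9c032754ab, nat_lit 0x69ac594064a80daea3ce91567662cb701891], [nat_lit 65536, nat_lit 69632, nat_lit 73728, nat_lit 77824, nat_lit 81920, nat_lit 86016, nat_lit 94208, nat_lit 98304, nat_lit 102400, nat_lit 174080, nat_lit 164352, nat_lit 162816, nat_lit 157568, nat_lit 151648, nat_lit 148624, nat_lit 146304, nat_lit 142940, nat_lit 135390, nat_lit 131710, nat_lit 1136, nat_lit 5232, nat_lit 9328, nat_lit 13424, nat_lit 19552, nat_lit 20544, nat_lit 27648, nat_lit 30720, nat_lit 35328, nat_lit 39936, nat_lit 43008, nat_lit 46501, nat_lit 41886, nat_lit 38070, nat_lit 33286,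 nat_lit 29704, nat_lit 24589, nat_lit 20757, nat_lit 16389, nat_lit 12293, nat_lit 8193, nat_lit 4097, nat_lit 438282, nat_lit 430088, nat_lit 421894, nat_lit 413700, nat_lit 405504, nat_lit 174080, nat_lit 168960, nat_lit 167424, nat_lit 162304, nat_lit 158080, nat_lit 152768, nat_lit 147840, nat_lit 144400, nat_lit 132024, nat_lit 8193, nat_lit 4097]⟩, ⟨[nat_lit 0x14878203a82285527da11492635dd88336a7, nat_lit 0xed1bbd548b79c1a249a9162d013900f1d5d6, nat_lit 0x95693601d0e35e64186915caaa2bc496c2cc, nat_lit 0x3c5a85e21a090ab0087335722cd89ab86f], [nat_lit 65536, nat_lit 69632, nat_lit 73728, nat_lit 81920, nat_lit 86016, nat_lit 94208, nat_lit 98304, nat_lit 106496, nat_lit 174080, nat_lit 168960, nat_lit 165120, nat_lit 160768, nat_lit 159232, nat_lit 152704, nat_lit 148752, nat_lit 144456, nat_lit 141120, nat_lit 137780, nat_lit 133151, nat_lit 2080, nat_lit 6176, nat_lit 10272, nat_lit 14608, nat_lit 16736, nat_lit 21824, nat_lit 24832, nat_lit 32512, nat_lit 35328,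 nat_lit 39936, nat_lit 45070, nat_lit 41475, nat_lit 36966, nat_lit 32940, nat_lit 28778, nat_lit 24742, nat_lit 20630, nat_lit 16426, nat_lit 12320, nat_lit 8193, nat_lit 4097, nat_lit 438282, nat_lit 430088, nat_lit 421894, nat_lit 413700, nat_lit 405504, nat_lit 171008, nat_lit 164864, nat_lit 162816, nat_lit 156544, nat_lit 154880, nat_lit 151232, nat_lit 146096, nat_lit 134392, nat_lit 8193, nat_lit 4097, nat_lit 327680]⟩)⟩, ⟨[nat_lit 16, nat_lit 15, nat_lit 11, nat_lit 12, nat_lit 11], [], (nat_lit 102), (⟨[nat_lit 0x63c6ac951978840f3d5425d8c374ca44c1a8, nat_lit 0x284bbb6c2537458f4181522e8312ae509ec9, nat_lit 0xcca5552ad470344c7b82331128b52538c2f5], [nat_lit 65536, nat_lit 69632, nat_lit 73728, nat_lit 86016, nat_lit 98304, nat_lit 102400, nat_lit 110592, nat_lit 174080, nat_lit 168448, nat_lit 164352, nat_lit 161280, nat_lit 156800, nat_lit 153472, nat_lit 147504, nat_lit 145704, nat_lit 141840, nat_lit 137350, nat_lit 132983, nat_lit 684, nat_lit 4780, nat_lit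 10088, nat_lit 12960, nat_lit 19136, nat_lit 22400, nat_lit 25856, nat_lit 31744, nat_lit 36352, nat_lit 38912, nat_lit 46706, nat_lit 43647, nat_lit 37374, nat_lit 32871, nat_lit 28710, nat_lit 24583, nat_lit 20627, nat_lit 16390, nat_lit 12295, nat_lit 8202, nat_lit 4097, nat_lit 2, nat_lit 430088, nat_lit 417797, nat_lit 405504, nat_lit 156416, nat_lit 151808, nat_lit 131944, nat_lit 45065, nat_lit 40961, nat_lit 28673, nat_lit 16385, nat_lit 8193, nat_lit 4097, nat_lit 327680]⟩, ⟨[nat_lit 0xcaaf094b6b3929d4b4588080a27dd7031067, nat_lit 0xb2b4e18c1323bee25a15370684330166d4a3, nat_lit 0xc9a9c302647bd2ce0c5651a09032853ab1af], [nat_lit 65536, nat_lit 69632, nat_lit 73728, nat_lit 77824, nat_lit 86016, nat_lit 94208, nat_lit 98304, nat_lit 102400, nat_lit 174080, nat_lit 169984, nat_lit 166912, nat_lit 161920, nat_lit 155904, nat_lit 152512, nat_lit 147504, nat_lit 147376, nat_lit 140028, nat_lit 138040, nat_lit 131083, nat_lit 838, nat_lit 4100, nat_lit 9024, nat_lit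 13840, nat_lit 19264, nat_lit 21056, nat_lit 27520, nat_lit 29696, nat_lit 35328, nat_lit 39936, nat_lit 43008, nat_lit 46775, nat_lit 41945, nat_lit 36980, nat_lit 32862, nat_lit 29807, nat_lit 24579, nat_lit 20632, nat_lit 16527, nat_lit 12306, nat_lit 8195, nat_lit 4100, nat_lit 434184, nat_lit 421893, nat_lit 409600, nat_lit 161024, nat_lit 152576, nat_lit 147744, nat_lit 132384, nat_lit 45057, nat_lit 24577, nat_lit 12289, nat_lit 8193, nat_lit 4097, nat_lit 327680]⟩)⟩⟩,
  .edge (⟨[nat_lit 0x639395a84572c492b500384ce64bd887296d, nat_lit 0xca366565dae7d2b6928c04442448a6759603, nat_lit 0x5ff59563eab1a817258c971c500b4b144e54], [nat_lit 65536, nat_lit 69632, nat_lit 73728, nat_lit 77824, nat_lit 94208, nat_lit 98304, nat_lit 110592, nat_lit 171008, nat_lit 165632, nat_lit 159872, nat_lit 156288, nat_lit 153152, nat_lit 148480, nat_lit 143480, nat_lit 139432, nat_lit 135292, nat_lit 132494, nat_lit 3554, nat_lit 4100, nat_lit 8696, nat_lit 13360, nat_lit 16416, nat_lit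 24000, nat_lit 25344, nat_lit 30208, nat_lit 37888, nat_lit 47086, nat_lit 41800, nat_lit 37982, nat_lit 33380, nat_lit 28786, nat_lit 24762, nat_lit 20496, nat_lit 16431, nat_lit 12307, nat_lit 8203, nat_lit 4100, nat_lit 430087, nat_lit 413700, nat_lit 405504, nat_lit 152064, nat_lit 143888, nat_lit 131640, nat_lit 45073, nat_lit 41649, nat_lit 32784, nat_lit 24577, nat_lit 8193, nat_lit 4097, nat_lit 327680]⟩, ⟨[nat_lit 0x84b71b726632bd9542ac7a08048b42b81af2, nat_lit 0xca05cf2ac86882ec74ec380aad3a9099068f, nat_lit 0x93c65c981245c02610dd442aafbc5b261ec5], [nat_lit 81920, nat_lit 90112, nat_lit 98304, nat_lit 106496, nat_lit 110592, nat_lit 173056, nat_lit 164352, nat_lit 163072, nat_lit 157568, nat_lit 155136, nat_lit 151248, nat_lit 145168, nat_lit 142360, nat_lit 135272, nat_lit 134291, nat_lit 3484, nat_lit 7580, nat_lit 11512, nat_lit 15760, nat_lit 19680, nat_lit 23104, nat_lit 27776, nat_lit 34304, nat_lit 43008, nat_lit 45973, nat_lit 41146, nat_lit 37090,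 nat_lit 32852, nat_lit 28742, nat_lit 24592, nat_lit 20994, nat_lit 16389, nat_lit 12295, nat_lit 8202, nat_lit 4097, nat_lit 430087, nat_lit 413700, nat_lit 405504, nat_lit 152192, nat_lit 148096, nat_lit 131232, nat_lit 45089, nat_lit 41145, nat_lit 32792, nat_lit 24608, nat_lit 8193, nat_lit 4097]⟩) ⟨(nat_lit 2), ⟨[nat_lit 56, nat_lit 59, nat_lit 60, nat_lit 52], [], (nat_lit 124), (⟨[nat_lit 0xb747770c580399b37d257120b68396a48c95, nat_lit 0xa9965aa5ec90c0cfaa90b8b08298cad03a47, nat_lit 0x44d72e614029c0ceb0628bc86951dab23e95], [nat_lit 65536, nat_lit 69632, nat_lit 73728, nat_lit 77824, nat_lit 94208, nat_lit 98304, nat_lit 106496, nat_lit 178176, nat_lit 175104, nat_lit 169472, nat_lit 167168, nat_lit 161536, nat_lit 155776, nat_lit 153888, nat_lit 148976, nat_lit 143544, nat_lit 142952, nat_lit 137052, nat_lit 132931, nat_lit 3588, nat_lit 7684, nat_lit 9392, nat_lit 14672, nat_lit 18528, nat_lit 24000, nat_lit 24704, nat_lit 31744, nat_lit 34816, nat_lit 37888,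 nat_lit 43008, nat_lit 46933, nat_lit 43433, nat_lit 36990, nat_lit 32841, nat_lit 29737, nat_lit 24765, nat_lit 20574, nat_lit 16419, nat_lit 12354, nat_lit 8208, nat_lit 4097, nat_lit 425991, nat_lit 413700, nat_lit 405504, nat_lit 151936, nat_lit 147872, nat_lit 143376, nat_lit 131224, nat_lit 45185, nat_lit 41008, nat_lit 37273, nat_lit 24577, nat_lit 8193, nat_lit 4097, nat_lit 327680]⟩, ⟨[nat_lit 0x11d1dd709e32921239a33a2aa8ba5760342c, nat_lit 0xbd227259dd3819aa2c50c106c0bd2a323e49, nat_lit 0xc665991da6e0be5405d9129964136b041d49], [nat_lit 65536, nat_lit 69632, nat_lit 73728, nat_lit 77824, nat_lit 81920, nat_lit 94208, nat_lit 98304, nat_lit 178176, nat_lit 174080, nat_lit 171520, nat_lit 164096, nat_lit 160128, nat_lit 158016, nat_lit 155456, nat_lit 149968, nat_lit 146712, nat_lit 142792, nat_lit 138210, nat_lit 134143, nat_lit 1280, nat_lit 5376, nat_lit 9472, nat_lit 13200, nat_lit 17248, nat_lit 20928, nat_lit 28032, nat_lit 30976, nat_lit 39936, nat_lit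 43008, nat_lit 46831, nat_lit 41295, nat_lit 39296, nat_lit 32853, nat_lit 28691, nat_lit 24623, nat_lit 20506, nat_lit 16422, nat_lit 12307, nat_lit 8193, nat_lit 4097, nat_lit 421894, nat_lit 413700, nat_lit 405504, nat_lit 155776, nat_lit 151680, nat_lit 147584, nat_lit 143488, nat_lit 131192, nat_lit 45065, nat_lit 41152, nat_lit 37081, nat_lit 32769, nat_lit 8193, nat_lit 4097, nat_lit 327680]⟩)⟩, ⟨[nat_lit 50, nat_lit 47, nat_lit 47], [], (nat_lit 122), (⟨[nat_lit 0x5ac5a6ad8a721a975b5c9431ea8847300a50, nat_lit 0x9f3f997582028e092518614d67521f79562d, nat_lit 0x771be77916760101818779393389456536b4, nat_lit 0x60a9058b0b66de471a969a3cd3a91d010101], [nat_lit 65536, nat_lit 69632, nat_lit 73728, nat_lit 77824, nat_lit 90112, nat_lit 98304, nat_lit 106496, nat_lit 178176, nat_lit 175104, nat_lit 169984, nat_lit 165888, nat_lit 161664, nat_lit 155968, nat_lit 153120, nat_lit 149872, nat_lit 144448, nat_lit 140560, nat_lit 135240, nat_lit 131125, nat_lit 3944, nat_lit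 8040, nat_lit 12136, nat_lit 12864, nat_lit 18752, nat_lit 22912, nat_lit 25472, nat_lit 34304, nat_lit 39936, nat_lit 43008, nat_lit 45786, nat_lit 41355, nat_lit 36995, nat_lit 32917, nat_lit 29051, nat_lit 24712, nat_lit 20496, nat_lit 16397, nat_lit 12290, nat_lit 8193, nat_lit 4097, nat_lit 438282, nat_lit 430088, nat_lit 421894, nat_lit 413700, nat_lit 405504, nat_lit 174080, nat_lit 166400, nat_lit 161024, nat_lit 155904, nat_lit 155584, nat_lit 150176, nat_lit 144432, nat_lit 134392, nat_lit 8193, nat_lit 4097]⟩, ⟨[nat_lit 0xaaf90c7ce249504ab26032b82061ef542ccd, nat_lit 0x4e42dba928d82416714233ad4f61a3298917, nat_lit 0x5ccf0525636a3c2801a628158e5dc6d51e49, nat_lit 0xede4bd5d4932d13191957701acb1d101bc41], [nat_lit 65536, nat_lit 69632, nat_lit 73728, nat_lit 81920, nat_lit 86016, nat_lit 90112, nat_lit 98304, nat_lit 106496, nat_lit 178176, nat_lit 173056, nat_lit 169472, nat_lit 164096, nat_lit 162176, nat_lit 155776, nat_lit 153472, nat_lit 149104, nat_lit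 144168, nat_lit 142684, nat_lit 137972, nat_lit 131779, nat_lit 2070, nat_lit 4100, nat_lit 10256, nat_lit 14400, nat_lit 18496, nat_lit 24000, nat_lit 25472, nat_lit 32512, nat_lit 34816, nat_lit 39936, nat_lit 47038, nat_lit 41845, nat_lit 37031, nat_lit 34007, nat_lit 28754, nat_lit 24734, nat_lit 20738, nat_lit 16399, nat_lit 12304, nat_lit 8195, nat_lit 4100, nat_lit 2, nat_lit 438282, nat_lit 430088, nat_lit 421894, nat_lit 413700, nat_lit 405504, nat_lit 169984, nat_lit 166912, nat_lit 160256, nat_lit 157568, nat_lit 154880, nat_lit 147968, nat_lit 144160, nat_lit 132456, nat_lit 8193, nat_lit 4097, nat_lit 327680]⟩)⟩⟩]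

theorem dcGr63 : D2.Rng dxG 63 65 := D2.Rng.of (l := dcGc63) (by decide +kernel)

def dcGc65 : List (D2.Cert (El × El)) := [.edge (⟨[nat_lit 0x3c56f05ed4724f269a2808ea26155023d73, nat_lit 0xb82ee420e0ebd116149e5aad493866c68226, nat_lit 0x4d112861c0a356047ba7490476688abba131], [nat_lit 102400, nat_lit 106496, nat_lit 110592, nat_lit 178176, nat_lit 173056, nat_lit 166656, nat_lit 160128, nat_lit 157888, nat_lit 155040, nat_lit 151168, nat_lit 143728, nat_lit 141496, nat_lit 137886, nat_lit 134000, nat_lit 2368, nat_lit 6464, nat_lit 10560, nat_lit 13168, nat_lit 17792, nat_lit 22400, nat_lit 28544, nat_lit 31488, nat_lit 34304, nat_lit 39936, nat_lit 45090, nat_lit 41332, nat_lit 37187, nat_lit 33301, nat_lit 28752, nat_lit 24753, nat_lit 20505, nat_lit 16394, nat_lit 12291, nat_lit 8193, nat_lit 4097, nat_lit 434183, nat_lit 417796, nat_lit 405504, nat_lit 160768, nat_lit 148544, nat_lit 144592, nat_lit 132288, nat_lit 45073, nat_lit 36880, nat_lit 32985, nat_lit 20481,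 nat_lit 8193, nat_lit 4097]⟩, ⟨[nat_lit 0x63a03f2b2c8251ab106203d5ea7193794c70, nat_lit 0x2284789c64f550824d4c13d8081aee58398d, nat_lit 0xdd121b8aee7920944d8d32c1556b9e060c41], [nat_lit 77824, nat_lit 90112, nat_lit 98304, nat_lit 110592, nat_lit 178176, nat_lit 165632, nat_lit 160128, nat_lit 158528, nat_lit 152160, nat_lit 150672, nat_lit 145080, nat_lit 141688, nat_lit 136628, nat_lit 131124, nat_lit 428, nat_lit 4524, nat_lit 10752, nat_lit 15904, nat_lit 19744, nat_lit 23232, nat_lit 25984, nat_lit 36352, nat_lit 39936, nat_lit 43008, nat_lit 46829, nat_lit 41634, nat_lit 37268, nat_lit 32950, nat_lit 29031, nat_lit 24589, nat_lit 20751, nat_lit 16420, nat_lit 12311, nat_lit 8208, nat_lit 4097, nat_lit 2, nat_lit 430087, nat_lit 417797, nat_lit 405504, nat_lit 160256, nat_lit 155776, nat_lit 152192, nat_lit 143968, nat_lit 131816, nat_lit 45121, nat_lit 41632, nat_lit 32832, nat_lit 16385, nat_lit 8193, nat_lit 4097, nat_lit 327680]⟩) ⟨(nat_lit 2), ⟨[nat_lit 53,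 nat_lit 55, nat_lit 55], [], (nat_lit 124), (⟨[nat_lit 0xb7edb164c2279cb230ec96c10b05c8a75235, nat_lit 0x74eddd258a74cd80905c8ad0d77ac5180daa, nat_lit 0xaf930985e271a26db002463a8678a492a975], [nat_lit 81920, nat_lit 94208, nat_lit 106496, nat_lit 110592, nat_lit 178176, nat_lit 169472, nat_lit 167168, nat_lit 160000, nat_lit 157184, nat_lit 154848, nat_lit 150032, nat_lit 145560, nat_lit 142336, nat_lit 138820, nat_lit 132473, nat_lit 582, nat_lit 4100, nat_lit 8768, nat_lit 13680, nat_lit 16672, nat_lit 22592, nat_lit 26240, nat_lit 29952, nat_lit 33280, nat_lit 43008, nat_lit 46601, nat_lit 43832, nat_lit 37134, nat_lit 33425, nat_lit 28799, nat_lit 20628, nat_lit 16387, nat_lit 12326, nat_lit 8195, nat_lit 4100, nat_lit 2, nat_lit 425991, nat_lit 417797, nat_lit 405504, nat_lit 160000, nat_lit 155904, nat_lit 151616, nat_lit 143840, nat_lit 131264, nat_lit 45057, nat_lit 41409, nat_lit 37033, nat_lit 8193, nat_lit 4097]⟩, ⟨[nat_lit 0xd82dd8534713b9954a2842841712e0f958d3,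 nat_lit 0x4e8e8e2ad48bb03239889051f1141d6acda3, nat_lit 0x530cc4bd0022a750c1b195d663b8a21b296], [nat_lit 65536, nat_lit 69632, nat_lit 73728, nat_lit 81920, nat_lit 86016, nat_lit 94208, nat_lit 98304, nat_lit 102400, nat_lit 106496, nat_lit 110592, nat_lit 175104, nat_lit 169472, nat_lit 165632, nat_lit 160128, nat_lit 158208, nat_lit 154144, nat_lit 151184, nat_lit 144712, nat_lit 142308, nat_lit 137052, nat_lit 134991, nat_lit 1320, nat_lit 5416, nat_lit 9512, nat_lit 15744, nat_lit 19872, nat_lit 21504, nat_lit 25216, nat_lit 30208, nat_lit 33280, nat_lit 39936, nat_lit 47100, nat_lit 41277, nat_lit 36969, nat_lit 33983, nat_lit 28762, nat_lit 24755, nat_lit 16395, nat_lit 12308, nat_lit 8193, nat_lit 4097, nat_lit 421894, nat_lit 413700, nat_lit 405504, nat_lit 151744, nat_lit 143392, nat_lit 131320, nat_lit 45121, nat_lit 41024, nat_lit 37048, nat_lit 32936, nat_lit 8193, nat_lit 4097]⟩)⟩, ⟨[nat_lit 50, nat_lit 50, nat_lit 40, nat_lit 40], [], (nat_lit 84), (⟨[nat_lit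 0xdeeb2e49ccd282f025473a598a7ac2243a32, nat_lit 0xa06cf908177938644d9acacd117945039a8a, nat_lit 0x8177d863d245d8d592225b81d09868d19d42, nat_lit 0xb1e7ed29d92bc6cd5393022ea3a19009882f], [nat_lit 77824, nat_lit 86016, nat_lit 94208, nat_lit 102400, nat_lit 106496, nat_lit 175104, nat_lit 170496, nat_lit 167680, nat_lit 161152, nat_lit 157376, nat_lit 152288, nat_lit 149664, nat_lit 144576, nat_lit 143136, nat_lit 137188, nat_lit 134010, nat_lit 1760, nat_lit 5856, nat_lit 9952, nat_lit 12512, nat_lit 20064, nat_lit 21696, nat_lit 27904, nat_lit 29952, nat_lit 36352, nat_lit 37888, nat_lit 43008, nat_lit 45084, nat_lit 41368, nat_lit 36877, nat_lit 32893, nat_lit 29815, nat_lit 24735, nat_lit 20565, nat_lit 16456, nat_lit 12304, nat_lit 8193, nat_lit 4097, nat_lit 438282, nat_lit 430088, nat_lit 421894, nat_lit 413700, nat_lit 405504, nat_lit 174080, nat_lit 169984, nat_lit 165376, nat_lit 162560, nat_lit 157312, nat_lit 153920, nat_lit 151456, nat_lit 146384, nat_lit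 134552, nat_lit 8193, nat_lit 4097, nat_lit 327680]⟩, ⟨[nat_lit 0x4e42dbaa9e7102215b4941c272ba5c62a196, nat_lit 0xc5366a9b0c2716008de48a1d64b2461535f5, nat_lit 0x60f3cc04567ab296119107ddae98c8a2c921, nat_lit 0x50f59a0d6d30418fa2da63c4a375d2412152], [nat_lit 86016, nat_lit 90112, nat_lit 165120, nat_lit 163200, nat_lit 155712, nat_lit 152352, nat_lit 147824, nat_lit 145296, nat_lit 140972, nat_lit 135964, nat_lit 132277, nat_lit 2112, nat_lit 6208, nat_lit 10304, nat_lit 15088, nat_lit 17440, nat_lit 21248, nat_lit 25984, nat_lit 32000, nat_lit 39936, nat_lit 43008, nat_lit 45431, nat_lit 41238, nat_lit 37003, nat_lit 32771, nat_lit 28790, nat_lit 24595, nat_lit 20613, nat_lit 16425, nat_lit 12305, nat_lit 8193, nat_lit 4097, nat_lit 438282, nat_lit 430088, nat_lit 421894, nat_lit 413700, nat_lit 405504, nat_lit 174080, nat_lit 169984, nat_lit 166912, nat_lit 162560, nat_lit 156800, nat_lit 154368, nat_lit 149472, nat_lit 143968, nat_lit 134392, nat_lit 8193, nat_lit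 4097]⟩)⟩⟩,
  .edge (⟨[nat_lit 0xe24e8bac1e9a454c00c46204a7921d6bcd6d, nat_lit 0xffaa39424722ae8ebd8319b44f628d580087, nat_lit 0x1e74e46ac523d67128c36825c032a8865c8f, nat_lit 0x44d72eb28830ba22921eb019379d2ac69607], [nat_lit 65536, nat_lit 69632, nat_lit 73728, nat_lit 77824, nat_lit 81920, nat_lit 86016, nat_lit 90112, nat_lit 94208, nat_lit 98304, nat_lit 102400, nat_lit 106496, nat_lit 178176, nat_lit 174080, nat_lit 171008, nat_lit 167168, nat_lit 163456, nat_lit 156736, nat_lit 153344, nat_lit 149136, nat_lit 144776, nat_lit 139356, nat_lit 136246, nat_lit 133616, nat_lit 3950, nat_lit 4100, nat_lit 12136, nat_lit 15520, nat_lit 20384, nat_lit 23488, nat_lit 28288, nat_lit 32256, nat_lit 36352, nat_lit 39936, nat_lit 43008, nat_lit 45084, nat_lit 41240, nat_lit 37304, nat_lit 33300, nat_lit 29042, nat_lit 24746, nat_lit 20510, nat_lit 16399, nat_lit 12310, nat_lit 8195, nat_lit 4100, nat_lit 438282, nat_lit 430088, nat_lit 421894, nat_lit 413700, nat_lit 405504,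 nat_lit 165376, nat_lit 160256, nat_lit 157312, nat_lit 152896, nat_lit 144576, nat_lit 134152, nat_lit 8193, nat_lit 4097]⟩, ⟨[nat_lit 0xcfa39f2b249b568100ae39b4cb8bd0474147, nat_lit 0x59f0c6b1c41526e580d0f70173231b58c8d4, nat_lit 0xaf5fa382684b9e6a746417a1626d6c02986c, nat_lit 0x184d1298284b2eef4460c699453d64170923], [nat_lit 65536, nat_lit 69632, nat_lit 73728, nat_lit 81920, nat_lit 86016, nat_lit 178176, nat_lit 174080, nat_lit 168960, nat_lit 164352, nat_lit 163328, nat_lit 158656, nat_lit 151616, nat_lit 148688, nat_lit 147080, nat_lit 141272, nat_lit 138676, nat_lit 131994, nat_lit 2560, nat_lit 6656, nat_lit 10752, nat_lit 14912, nat_lit 18848, nat_lit 23744, nat_lit 25728, nat_lit 30720, nat_lit 34816, nat_lit 43008, nat_lit 45179, nat_lit 41844, nat_lit 37305, nat_lit 33491, nat_lit 29295, nat_lit 24761, nat_lit 20544, nat_lit 16518, nat_lit 12295, nat_lit 8193, nat_lit 4097, nat_lit 2, nat_lit 438282, nat_lit 430088, nat_lit 421894, nat_lit 413700, nat_lit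 405504, nat_lit 164864, nat_lit 160000, nat_lit 152320, nat_lit 148960, nat_lit 144128, nat_lit 134552, nat_lit 8193, nat_lit 4097]⟩) ⟨(nat_lit 2), ⟨[nat_lit 53, nat_lit 52, nat_lit 53, nat_lit 57], [], (nat_lit 130), (⟨[nat_lit 0x4118e259d447d2ad659d7415261c66090a01, nat_lit 0xe4878d3c46d5d0a6102c9ab94c85d130bc92, nat_lit 0x3fc5fc15a6021ab1795439368c5b8e145e09, nat_lit 0x22e21419aa1029d363cf44444d958902ad37], [nat_lit 86016, nat_lit 94208, nat_lit 102400, nat_lit 173056, nat_lit 169472, nat_lit 167424, nat_lit 161280, nat_lit 158080, nat_lit 152800, nat_lit 148736, nat_lit 143496, nat_lit 142676, nat_lit 135950, nat_lit 133501, nat_lit 3036, nat_lit 7132, nat_lit 9112, nat_lit 15312, nat_lit 18816, nat_lit 23168, nat_lit 27136, nat_lit 29696, nat_lit 38912, nat_lit 46996, nat_lit 41035, nat_lit 37247, nat_lit 32905, nat_lit 28721, nat_lit 24623, nat_lit 20482, nat_lit 16393, nat_lit 12294, nat_lit 8203, nat_lit 4097, nat_lit 2, nat_lit 438282, nat_lit 430088, nat_lit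 421894, nat_lit 413700, nat_lit 405504, nat_lit 169984, nat_lit 165888, nat_lit 162304, nat_lit 159616, nat_lit 153984, nat_lit 150464, nat_lit 147296, nat_lit 133616, nat_lit 8193, nat_lit 4097]⟩, ⟨[nat_lit 0x53fca0021d049a8a916371adf3b31a70d444, nat_lit 0x6f65a07c50c506635c2d792485151a7055c6, nat_lit 0x90aac941e04098a68ef6a922b09dc62a693, nat_lit 0x906aaf2c24b5180360a917a1a7ab8334dae4], [nat_lit 77824, nat_lit 81920, nat_lit 94208, nat_lit 178176, nat_lit 173056, nat_lit 169472, nat_lit 165120, nat_lit 162816, nat_lit 158144, nat_lit 154912, nat_lit 151232, nat_lit 145656, nat_lit 139576, nat_lit 136556, nat_lit 131815, nat_lit 988, nat_lit 5084, nat_lit 12248, nat_lit 13264, nat_lit 17952, nat_lit 21760, nat_lit 26368, nat_lit 32000, nat_lit 34816, nat_lit 43008, nat_lit 45333, nat_lit 41920, nat_lit 37325, nat_lit 32899, nat_lit 28973, nat_lit 24634, nat_lit 20574, nat_lit 16396, nat_lit 12293, nat_lit 8200, nat_lit 4097, nat_lit 2, nat_lit 438282, nat_lit 430088,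 nat_lit 421894, nat_lit 413700, nat_lit 405504, nat_lit 174080, nat_lit 165888, nat_lit 161536, nat_lit 156416, nat_lit 153088, nat_lit 149856, nat_lit 144896, nat_lit 132896, nat_lit 8193, nat_lit 4097]⟩)⟩, ⟨[nat_lit 40, nat_lit 48, nat_lit 47], [], (nat_lit 82), (⟨[nat_lit 0x8d711db8296a8c413b93269a28640aa7ac93, nat_lit 0xee48b1bc653430c20a8ee011a9a5a15195eb, nat_lit 0xa06cf982144b258134c4302db771e2f95685], [nat_lit 65536, nat_lit 69632, nat_lit 73728, nat_lit 77824, nat_lit 98304, nat_lit 106496, nat_lit 178176, nat_lit 173056, nat_lit 170496, nat_lit 165888, nat_lit 159872, nat_lit 158528, nat_lit 153888, nat_lit 149248, nat_lit 145264, nat_lit 141504, nat_lit 138044, nat_lit 132208, nat_lit 26, nat_lit 4100, nat_lit 9072, nat_lit 12304, nat_lit 20320, nat_lit 21120, nat_lit 28032, nat_lit 35328, nat_lit 43008, nat_lit 47094, nat_lit 43711, nat_lit 39315, nat_lit 33859, nat_lit 28780, nat_lit 24597, nat_lit 20488, nat_lit 16391, nat_lit 12295, nat_lit 8200, nat_lit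 4100, nat_lit 2, nat_lit 425991, nat_lit 417796, nat_lit 405504, nat_lit 156032, nat_lit 147520, nat_lit 143744, nat_lit 131328, nat_lit 45313, nat_lit 41216, nat_lit 36936, nat_lit 20481, nat_lit 8193, nat_lit 4097]⟩, ⟨[nat_lit 0x96a3563a513559c3a016d8198f2cab708a24, nat_lit 0x355ff93d60b0806d2aa37131cf924d424ec8, nat_lit 0x60c0998d06c836c1a96e87adc4008ca3ca69], [nat_lit 65536, nat_lit 69632, nat_lit 73728, nat_lit 110592, nat_lit 174080, nat_lit 168448, nat_lit 163200, nat_lit 158464, nat_lit 154912, nat_lit 148384, nat_lit 146528, nat_lit 141652, nat_lit 135720, nat_lit 134881, nat_lit 3034, nat_lit 4100, nat_lit 10240, nat_lit 15312, nat_lit 16928, nat_lit 22272, nat_lit 24960, nat_lit 29696, nat_lit 34816, nat_lit 38912, nat_lit 43008, nat_lit 46897, nat_lit 43305, nat_lit 36876, nat_lit 34874, nat_lit 28700, nat_lit 24638, nat_lit 20558, nat_lit 16396, nat_lit 12295, nat_lit 8200, nat_lit 4100, nat_lit 2, nat_lit 425991, nat_lit 417797, nat_lit 405504, nat_lit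 156032, nat_lit 152000, nat_lit 131176, nat_lit 45352, nat_lit 41056, nat_lit 37216, nat_lit 16385, nat_lit 8193, nat_lit 4097]⟩)⟩⟩]

theorem dcGr65 : D2.Rng dxG 65 67 := D2.Rng.of (l := dcGc65) (by decide +kernel)

def dcGc67 : List (D2.Cert (El × El)) := [.stab (nat_lit 122) (idE, idE) ⟨(nat_lit 0), ⟨[nat_lit 46, nat_lit 46, nat_lit 37, nat_lit 48, nat_lit 48, nat_lit 40, nat_lit 38], [], (nat_lit 122), (⟨[nat_lit 0xcafa30492a65045462df68a2170164e69c73, nat_lit 0x7bb8eb7044901a3745a8d61564541f3a8cf2, nat_lit 0x8b2177b48ed1d514010cb826612b2375384f, nat_lit 0x41e8ed690758aed7049422d02e49a67831e8], [nat_lit 86016, nat_lit 110592, nat_lit 175104, nat_lit 168960, nat_lit 164608, nat_lit 163200, nat_lit 159296, nat_lit 155232, nat_lit 148256, nat_lit 144608, nat_lit 141008, nat_lit 138414, nat_lit 133424, nat_lit 588, nat_lit 4684, nat_lit 10312, nat_lit 15856, nat_lit 20384, nat_lit 22976, nat_lit 26496, nat_lit 32512, nat_lit 39936, nat_lit 43008, nat_lit 45385, nat_lit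 41719, nat_lit 38352, nat_lit 32877, nat_lit 29811, nat_lit 24887, nat_lit 20746, nat_lit 16398, nat_lit 12291, nat_lit 8211, nat_lit 4097, nat_lit 2, nat_lit 438282, nat_lit 430088, nat_lit 421894, nat_lit 413700, nat_lit 405504, nat_lit 174080, nat_lit 164352, nat_lit 162816, nat_lit 157056, nat_lit 151616, nat_lit 148608, nat_lit 143808, nat_lit 132784, nat_lit 8193, nat_lit 4097, nat_lit 327680]⟩, ⟨[nat_lit 0xa365c321eb26de0e8d92a79848982812ad83, nat_lit 0x424beea06577c5801c0e55a4535588d71aa8, nat_lit 0x828e1285c4db2cf420c299c8aa73d06a822c, nat_lit 0x306fca52e6c10dd2058c8385358d2ed83c85], [nat_lit 102400, nat_lit 106496, nat_lit 171520, nat_lit 166912, nat_lit 163712, nat_lit 156672, nat_lit 152320, nat_lit 149792, nat_lit 144024, nat_lit 141592, nat_lit 138556, nat_lit 133160, nat_lit 2536, nat_lit 6632, nat_lit 10728, nat_lit 15312, nat_lit 18400, nat_lit 24256, nat_lit 26624, nat_lit 31744, nat_lit 35840, nat_lit 43008, nat_lit 46237, nat_lit 41111, nat_lit 37199,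 nat_lit 33018, nat_lit 28961, nat_lit 24721, nat_lit 20749, nat_lit 16397, nat_lit 12290, nat_lit 8193, nat_lit 4097, nat_lit 2, nat_lit 438282, nat_lit 430088, nat_lit 421894, nat_lit 413700, nat_lit 405504, nat_lit 174080, nat_lit 169984, nat_lit 165376, nat_lit 161280, nat_lit 159616, nat_lit 153408, nat_lit 149184, nat_lit 144448, nat_lit 133848, nat_lit 8193, nat_lit 4097, nat_lit 327680]⟩)⟩, ⟨[], [], nat_lit 0, (idE, idE)⟩⟩,
  .prod [] [nat_lit 55, nat_lit 67, nat_lit 53, nat_lit 54],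
  .prod [] [nat_lit 54, nat_lit 68, nat_lit 52, nat_lit 52],
  .prod [] [nat_lit 67, nat_lit 53, nat_lit 54, nat_lit 67],
  .prod [] [nat_lit 54, nat_lit 70, nat_lit 52, nat_lit 53],
  .prod [] [nat_lit 52, nat_lit 53, nat_lit 53, nat_lit 55]]

theorem dcGr67 : D2.Rng dxG 67 73 := D2.Rng.of (l := dcGc67) (by decide +kernel)

def dcGc73 : List (D2.Cert (El × El)) := [.edge (idE, idE) ⟨(nat_lit 0), ⟨[], [], (nat_lit 21), (idE, idE)⟩, ⟨[], [], nat_lit 0, (idE, idE)⟩⟩,
  .prod [] [nat_lit 3, nat_lit 2, nat_lit 2, nat_lit 8, nat_lit 8],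
  .prod [] [nat_lit 4, nat_lit 4, nat_lit 1, nat_lit 3, nat_lit 2],
  .prod [] [nat_lit 9, nat_lit 2, nat_lit 7, nat_lit 8, nat_lit 7],
  .prod [] [nat_lit 3, nat_lit 7, nat_lit 8, nat_lit 0, nat_lit 8],
  .prod [] [nat_lit 0, nat_lit 1, nat_lit 5, nat_lit 1, nat_lit 3],
  .prod [] [nat_lit 19, nat_lit 13, nat_lit 16, nat_lit 14, nat_lit 16]]

theorem dcGr73 : D2.Rng dxG 73 80 := D2.Rng.of (l := dcGc73) (by decide +kernel)

def dcGc80 : List (D2.Cert (El × El)) := [.prod [] [nat_lit 12, nat_lit 11, nat_lit 18, nat_lit 11, nat_lit 19],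
  .prod [] [nat_lit 18, nat_lit 12, nat_lit 11, nat_lit 17, nat_lit 19],
  .prod [] [nat_lit 11, nat_lit 17, nat_lit 20, nat_lit 11, nat_lit 15],
  .prod [] [nat_lit 17, nat_lit 13, nat_lit 17, nat_lit 11, nat_lit 19],
  .prod [] [nat_lit 27, nat_lit 34, nat_lit 25, nat_lit 24, nat_lit 29],
  .prod [] [nat_lit 31, nat_lit 26, nat_lit 25, nat_lit 25, nat_lit 25],
  .prod [] [nat_lit 31, nat_lit 30, nat_lit 33, nat_lit 32, nat_lit 30],
  .prod [] [nat_lit 31, nat_lit 34, nat_lit 27, nat_lit 32, nat_lit 25]]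

theorem dcGr80 : D2.Rng dxG 80 88 := D2.Rng.of (l := dcGc80) (by decide +kernel)

def dcGc88 : List (D2.Cert (El × El)) := [.prod [] [nat_lit 24, nat_lit 30, nat_lit 34, nat_lit 34, nat_lit 26],
  .prod [] [nat_lit 46, nat_lit 49, nat_lit 37, nat_lit 50, nat_lit 37],
  .prod [] [nat_lit 39, nat_lit 48, nat_lit 49, nat_lit 45, nat_lit 50],
  .prod [] [nat_lit 46, nat_lit 49, nat_lit 47, nat_lit 37, nat_lit 46],
  .prod [] [nat_lit 39, nat_lit 37, nat_lit 46, nat_lit 38, nat_lit 46],
  .prod [] [nat_lit 40, nat_lit 40, nat_lit 45, nat_lit 39, nat_lit 48],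
  .prod [] [nat_lit 69, nat_lit 72, nat_lit 71, nat_lit 70, nat_lit 71],
  .prod [] [nat_lit 52, nat_lit 72, nat_lit 53, nat_lit 67, nat_lit 52]]

theorem dcGr88 : D2.Rng dxG 88 96 := D2.Rng.of (l := dcGc88) (by decide +kernel)

def dcGc96 : List (D2.Cert (El × El)) := [.prod [] [nat_lit 52, nat_lit 53, nat_lit 70, nat_lit 53, nat_lit 52],
  .prod [] [nat_lit 68, nat_lit 72, nat_lit 67, nat_lit 68, nat_lit 52],
  .prod [] [nat_lit 69, nat_lit 67, nat_lit 55, nat_lit 70, nat_lit 70]]

theorem dcGr96 : D2.Rng dxG 96 99 := D2.Rng.of (l := dcGc96) (by decide +kernel)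

theorem dcGR0 : D2.Rng dxG 0 99 := (dcGr0.trans (dcGr13.trans (dcGr19.trans (dcGr24.trans (dcGr28.trans (dcGr33.trans (dcGr38.trans (dcGr41.trans (dcGr43.trans (dcGr46.trans (dcGr52.trans (dcGr55.trans (dcGr61.trans (dcGr63.trans (dcGr65.trans (dcGr67.trans (dcGr73.trans (dcGr80.trans (dcGr88.trans dcGr96)))))))))))))))))))

end

end CF.Mon
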