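import Cfsg.Agent.Mon.DcLE0

set_option autoImplicit false
set_option maxRecDepth 100000

namespace CF.Mon

open CF.Comp

noncomputable section

def dcLE : BT El := (BT.node (nat_lit 48) (BT.node (nat_lit 24) (BT.node (nat_lit 8) dcLE0 (BT.node (nat_lit 16) dcLE1 dcLE2)) (BT.node (nat_lit 32) dcLE3 (BT.node (nat_lit 40) dcLE4 dcLE5))) (BT.node (nat_lit 72) (BT.node (nat_lit 56) dcLE6 (BT.node (nat_lit 64) dcLE7 dcLE8)) (BT.node (nat_lit 80) dcLE9 (BT.node (nat_lit 88) dcLE10 dcLE11))))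

theorem dcLE_ok : dcLE.all (elB (nat_lit 87960930234368)) = true := (BT.all_node (BT.all_node (BT.all_node dcLE0_ok (BT.all_node dcLE1_ok dcLE2_ok)) (BT.all_node dcLE3_ok (BT.all_node dcLE4_ok dcLE5_ok))) (BT.all_node (BT.all_node dcLE6_ok (BT.all_node dcLE7_ok dcLE8_ok)) (BT.all_node dcLE9_ok (BT.all_node dcLE10_ok dcLE11_ok))))

def dcLF : BT Fact := (.node (nat_lit 41) (.node (nat_lit 20) (.node (nat_lit 10) (.node (nat_lit 5) (.node (nat_lit 2) (.node (nat_lit 1) (.leaf ⟨(nat_lit 0), (nat_lit 0), (nat_lit 1), (nat_lit 0), (nat_lit 0)⟩)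
 (.leaf ⟨(nat_lit 0), (nat_lit 0), (nat_lit 2), (nat_lit 0), (nat_lit 0)⟩))
 (.node (nat_lit 3) (.leaf ⟨(nat_lit 0), (nat_lit 0), (nat_lit 3), (nat_lit 0), (nat_lit 0)⟩)
 (.node (nat_lit 4) (.leaf ⟨(nat_lit 0), (nat_lit 0), (nat_lit 4), (nat_lit 0), (nat_lit 0)⟩)
 (.leaf ⟨(nat_lit 0), (nat_lit 0), (nat_lit 5), (nat_lit 0), (nat_lit 0)⟩))))
 (.node (nat_lit 7) (.node (nat_lit 6) (.leaf ⟨(nat_lit 0), (nat_lit 0), (nat_lit 6), (nat_lit 0), (nat_lit 0)⟩)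
 (.leaf ⟨(nat_lit 0), (nat_lit 0), (nat_lit 7), (nat_lit 0), (nat_lit 0)⟩))
 (.node (nat_lit 8) (.leaf ⟨(nat_lit 0), (nat_lit 0), (nat_lit 8), (nat_lit 0), (nat_lit 0)⟩)
 (.node (nat_lit 9) (.leaf ⟨(nat_lit 1), (nat_lit 0), (nat_lit 9), (nat_lit 1), (nat_lit 0)⟩)
 (.leaf ⟨(nat_lit 0), (nat_lit 1), (nat_lit 10), (nat_lit 0), (nat_lit 0)⟩)))))
 (.node (nat_lit 15) (.node (nat_lit 12) (.node (nat_lit 11) (.leaf ⟨(nat_lit 0), (nat_lit 1), (nat_lit 11), (nat_lit 0), (nat_lit 0)⟩)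
 (.leaf ⟨(nat_lit 0), (nat_lit 1), (nat_lit 12), (nat_lit 0), (nat_lit 0)⟩))
 (.node (nat_lit 13) (.leaf ⟨(nat_lit 0), (nat_lit 1), (nat_lit 13), (nat_lit 0), (nat_lit 0)⟩)
 (.node (nat_lit 14) (.leaf ⟨(nat_lit 0), (nat_lit 1), (nat_lit 14), (nat_lit 0), (nat_lit 0)⟩)
 (.leaf ⟨(nat_lit 0), (nat_lit 1), (nat_lit 15), (nat_lit 0), (nat_lit 0)⟩))))
 (.node (nat_lit 17) (.node (nat_lit 16) (.leaf ⟨(nat_lit 0), (nat_lit 1), (nat_lit 16), (nat_lit 0), (nat_lit 0)⟩)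
 (.leaf ⟨(nat_lit 0), (nat_lit 1), (nat_lit 17), (nat_lit 0), (nat_lit 0)⟩))
 (.node (nat_lit 18) (.leaf ⟨(nat_lit 1), (nat_lit 1), (nat_lit 18), (nat_lit 1), (nat_lit 19)⟩)
 (.node (nat_lit 19) (.leaf ⟨(nat_lit 1), (nat_lit 1), (nat_lit 20), (nat_lit 1), (nat_lit 21)⟩)
 (.leaf ⟨(nat_lit 1), (nat_lit 1), (nat_lit 22), (nat_lit 2), (nat_lit 0)⟩))))))
 (.node (nat_lit 30) (.node (nat_lit 25) (.node (nat_lit 22) (.node (nat_lit 21) (.leaf ⟨(nat_lit 0), (nat_lit 2), (nat_lit 23), (nat_lit 0), (nat_lit 0)⟩)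
 (.leaf ⟨(nat_lit 0), (nat_lit 2), (nat_lit 24), (nat_lit 0), (nat_lit 0)⟩))
 (.node (nat_lit 23) (.leaf ⟨(nat_lit 0), (nat_lit 2), (nat_lit 25), (nat_lit 0), (nat_lit 0)⟩)
 (.node (nat_lit 24) (.leaf ⟨(nat_lit 0), (nat_lit 2), (nat_lit 26), (nat_lit 0), (nat_lit 0)⟩)
 (.leaf ⟨(nat_lit 1), (nat_lit 2), (nat_lit 27), (nat_lit 2), (nat_lit 28)⟩))))
 (.node (nat_lit 27) (.node (nat_lit 26) (.leaf ⟨(nat_lit 1), (nat_lit 2), (nat_lit 29), (nat_lit 1), (nat_lit 30)⟩)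
 (.leaf ⟨(nat_lit 0), (nat_lit 2), (nat_lit 31), (nat_lit 0), (nat_lit 0)⟩))
 (.node (nat_lit 28) (.leaf ⟨(nat_lit 0), (nat_lit 2), (nat_lit 32), (nat_lit 0), (nat_lit 0)⟩)
 (.node (nat_lit 29) (.leaf ⟨(nat_lit 0), (nat_lit 2), (nat_lit 33), (nat_lit 0), (nat_lit 0)⟩)
 (.leaf ⟨(nat_lit 0), (nat_lit 2), (nat_lit 34), (nat_lit 0), (nat_lit 0)⟩)))))
 (.node (nat_lit 35) (.node (nat_lit 32) (.node (nat_lit 31) (.leaf ⟨(nat_lit 1), (nat_lit 1), (nat_lit 35), (nat_lit 3), (nat_lit 0)⟩)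
 (.leaf ⟨(nat_lit 0), (nat_lit 3), (nat_lit 36), (nat_lit 0), (nat_lit 0)⟩))
 (.node (nat_lit 33) (.leaf ⟨(nat_lit 0), (nat_lit 3), (nat_lit 37), (nat_lit 0), (nat_lit 0)⟩)
 (.node (nat_lit 34) (.leaf ⟨(nat_lit 0), (nat_lit 3), (nat_lit 38), (nat_lit 0), (nat_lit 0)⟩)
 (.leaf ⟨(nat_lit 0), (nat_lit 3), (nat_lit 39), (nat_lit 0), (nat_lit 0)⟩))))
 (.node (nat_lit 38) (.node (nat_lit 36) (.leaf ⟨(nat_lit 0), (nat_lit 3), (nat_lit 40), (nat_lit 0), (nat_lit 0)⟩)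
 (.node (nat_lit 37) (.leaf ⟨(nat_lit 0), (nat_lit 3), (nat_lit 41), (nat_lit 0), (nat_lit 0)⟩)
 (.leaf ⟨(nat_lit 0), (nat_lit 3), (nat_lit 42), (nat_lit 0), (nat_lit 0)⟩)))
 (.node (nat_lit 39) (.leaf ⟨(nat_lit 0), (nat_lit 3), (nat_lit 43), (nat_lit 0), (nat_lit 0)⟩)
 (.node (nat_lit 40) (.leaf ⟨(nat_lit 1), (nat_lit 2), (nat_lit 44), (nat_lit 3), (nat_lit 45)⟩)
 (.leaf ⟨(nat_lit 1), (nat_lit 3), (nat_lit 46), (nat_lit 3), (nat_lit 47)⟩)))))))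
 (.node (nat_lit 61) (.node (nat_lit 51) (.node (nat_lit 46) (.node (nat_lit 43) (.node (nat_lit 42) (.leaf ⟨(nat_lit 1), (nat_lit 3), (nat_lit 48), (nat_lit 3), (nat_lit 49)⟩)
 (.leaf ⟨(nat_lit 1), (nat_lit 3), (nat_lit 50), (nat_lit 3), (nat_lit 51)⟩))
 (.node (nat_lit 44) (.leaf ⟨(nat_lit 1), (nat_lit 3), (nat_lit 52), (nat_lit 4), (nat_lit 0)⟩)
 (.node (nat_lit 45) (.leaf ⟨(nat_lit 0), (nat_lit 4), (nat_lit 53), (nat_lit 0), (nat_lit 0)⟩)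
 (.leaf ⟨(nat_lit 0), (nat_lit 4), (nat_lit 54), (nat_lit 0), (nat_lit 0)⟩))))
 (.node (nat_lit 48) (.node (nat_lit 47) (.leaf ⟨(nat_lit 0), (nat_lit 4), (nat_lit 55), (nat_lit 0), (nat_lit 0)⟩)
 (.leaf ⟨(nat_lit 0), (nat_lit 4), (nat_lit 56), (nat_lit 0), (nat_lit 0)⟩))
 (.node (nat_lit 49) (.leaf ⟨(nat_lit 1), (nat_lit 4), (nat_lit 57), (nat_lit 3), (nat_lit 58)⟩)
 (.node (nat_lit 50) (.leaf ⟨(nat_lit 1), (nat_lit 4), (nat_lit 59), (nat_lit 4), (nat_lit 60)⟩)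
 (.leaf ⟨(nat_lit 0), (nat_lit 4), (nat_lit 61), (nat_lit 0), (nat_lit 0)⟩)))))
 (.node (nat_lit 56) (.node (nat_lit 53) (.node (nat_lit 52) (.leaf ⟨(nat_lit 0), (nat_lit 4), (nat_lit 62), (nat_lit 0), (nat_lit 0)⟩)
 (.leaf ⟨(nat_lit 0), (nat_lit 4), (nat_lit 63), (nat_lit 0), (nat_lit 0)⟩))
 (.node (nat_lit 54) (.leaf ⟨(nat_lit 0), (nat_lit 4), (nat_lit 64), (nat_lit 0), (nat_lit 0)⟩)
 (.node (nat_lit 55) (.leaf ⟨(nat_lit 1), (nat_lit 1), (nat_lit 65), (nat_lit 0), (nat_lit 66)⟩)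
 (.leaf ⟨(nat_lit 1), (nat_lit 3), (nat_lit 67), (nat_lit 1), (nat_lit 68)⟩))))
 (.node (nat_lit 58) (.node (nat_lit 57) (.leaf ⟨(nat_lit 1), (nat_lit 3), (nat_lit 69), (nat_lit 2), (nat_lit 70)⟩)
 (.leaf ⟨(nat_lit 0), (nat_lit 0), (nat_lit 71), (nat_lit 0), (nat_lit 0)⟩))
 (.node (nat_lit 59) (.leaf ⟨(nat_lit 0), (nat_lit 0), (nat_lit 72), (nat_lit 0), (nat_lit 0)⟩)
 (.node (nat_lit 60) (.leaf ⟨(nat_lit 0), (nat_lit 0), (nat_lit 73), (nat_lit 0), (nat_lit 0)⟩)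
 (.leaf ⟨(nat_lit 0), (nat_lit 0), (nat_lit 74), (nat_lit 0), (nat_lit 0)⟩))))))
 (.node (nat_lit 71) (.node (nat_lit 66) (.node (nat_lit 63) (.node (nat_lit 62) (.leaf ⟨(nat_lit 0), (nat_lit 0), (nat_lit 75), (nat_lit 0), (nat_lit 0)⟩)
 (.leaf ⟨(nat_lit 0), (nat_lit 1), (nat_lit 76), (nat_lit 0), (nat_lit 0)⟩))
 (.node (nat_lit 64) (.leaf ⟨(nat_lit 0), (nat_lit 1), (nat_lit 77), (nat_lit 0), (nat_lit 0)⟩)
 (.node (nat_lit 65) (.leaf ⟨(nat_lit 0), (nat_lit 1), (nat_lit 78), (nat_lit 0), (nat_lit 0)⟩)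
 (.leaf ⟨(nat_lit 0), (nat_lit 1), (nat_lit 79), (nat_lit 0), (nat_lit 0)⟩))))
 (.node (nat_lit 68) (.node (nat_lit 67) (.leaf ⟨(nat_lit 0), (nat_lit 1), (nat_lit 80), (nat_lit 0), (nat_lit 0)⟩)
 (.leaf ⟨(nat_lit 0), (nat_lit 2), (nat_lit 81), (nat_lit 0), (nat_lit 0)⟩))
 (.node (nat_lit 69) (.leaf ⟨(nat_lit 0), (nat_lit 2), (nat_lit 82), (nat_lit 0), (nat_lit 0)⟩)
 (.node (nat_lit 70) (.leaf ⟨(nat_lit 0), (nat_lit 2), (nat_lit 83), (nat_lit 0), (nat_lit 0)⟩)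
 (.leaf ⟨(nat_lit 0), (nat_lit 2), (nat_lit 84), (nat_lit 0), (nat_lit 0)⟩)))))
 (.node (nat_lit 76) (.node (nat_lit 73) (.node (nat_lit 72) (.leaf ⟨(nat_lit 0), (nat_lit 2), (nat_lit 85), (nat_lit 0), (nat_lit 0)⟩)
 (.leaf ⟨(nat_lit 0), (nat_lit 3), (nat_lit 86), (nat_lit 0), (nat_lit 0)⟩))
 (.node (nat_lit 74) (.leaf ⟨(nat_lit 0), (nat_lit 3), (nat_lit 87), (nat_lit 0), (nat_lit 0)⟩)
 (.node (nat_lit 75) (.leaf ⟨(nat_lit 0), (nat_lit 3), (nat_lit 88), (nat_lit 0), (nat_lit 0)⟩)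
 (.leaf ⟨(nat_lit 0), (nat_lit 3), (nat_lit 89), (nat_lit 0), (nat_lit 0)⟩))))
 (.node (nat_lit 79) (.node (nat_lit 77) (.leaf ⟨(nat_lit 0), (nat_lit 3), (nat_lit 90), (nat_lit 0), (nat_lit 0)⟩)
 (.node (nat_lit 78) (.leaf ⟨(nat_lit 0), (nat_lit 4), (nat_lit 91), (nat_lit 0), (nat_lit 0)⟩)
 (.leaf ⟨(nat_lit 0), (nat_lit 4), (nat_lit 92), (nat_lit 0), (nat_lit 0)⟩)))
 (.node (nat_lit 80) (.leaf ⟨(nat_lit 0), (nat_lit 4), (nat_lit 93), (nat_lit 0), (nat_lit 0)⟩)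
 (.node (nat_lit 81) (.leaf ⟨(nat_lit 0), (nat_lit 4), (nat_lit 94), (nat_lit 0), (nat_lit 0)⟩)
 (.leaf ⟨(nat_lit 0), (nat_lit 4), (nat_lit 95), (nat_lit 0), (nat_lit 0)⟩))))))))

def dcL : Ctx := ⟨dcLE, dcLF, [(nat_lit 0, nat_lit 0), (nat_lit 0, nat_lit 9), (nat_lit 1, nat_lit 22), (nat_lit 1, nat_lit 35), (nat_lit 3, nat_lit 52)], nat_lit 87960930234368, false⟩

def dcLgi : List (List ℕ) := [[nat_lit 57, nat_lit 58, nat_lit 59, nat_lit 60, nat_lit 61],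
  [nat_lit 62, nat_lit 63, nat_lit 64, nat_lit 65, nat_lit 66],
  [nat_lit 67, nat_lit 68, nat_lit 69, nat_lit 70, nat_lit 71],
  [nat_lit 72, nat_lit 73, nat_lit 74, nat_lit 75, nat_lit 76],
  [nat_lit 77, nat_lit 78, nat_lit 79, nat_lit 80, nat_lit 81]]

def dcLri : List (List ℕ) := [[nat_lit 8],
  [nat_lit 54, nat_lit 17, nat_lit 30, nat_lit 19, nat_lit 18],
  [nat_lit 24, nat_lit 25, nat_lit 39],
  [nat_lit 55, nat_lit 42, nat_lit 43, nat_lit 41, nat_lit 56, nat_lit 40],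
  [nat_lit 48, nat_lit 49]]

theorem dcL_out : allFrom (outB dcL (nat_lit 82) gensL repsL dcLgi dcLri) 0 5 = true := by
  decide +kernel

end

end CF.Mon
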