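import Cfsg.Agent.Mon.Dc
import Cfsg.Agent.Mon.NdL

set_option autoImplicit false
set_option maxRecDepth 100000

namespace CF.Mon

open CF.Comp

noncomputable section

def dcLE0 : BT El := (.node (nat_lit 4) (.node (nat_lit 2) (.node (nat_lit 1) (.leaf ⟨[], []⟩)
 (.leaf ⟨[nat_lit 0xb7de1b75aa9a0e269dc81849e81014c29dab, nat_lit 0xe227172b6c8929208bc6ea2c8c11cd3bc2a1, nat_lit 0x1871488b20aad1e9299a895c64158f370560, nat_lit 0x9fc0991b9249805454175784c889cb7b324d], [nat_lit 65536, nat_lit 69632, nat_lit 73728, nat_lit 77824, nat_lit 86016, nat_lit 94208, nat_lit 98304, nat_lit 102400, nat_lit 106496, nat_lit 110592, nat_lit 164608, nat_lit 160000, nat_lit 156160, nat_lit 153056, nat_lit 150624, nat_lit 145136, nat_lit 141384, nat_lit 139078, nat_lit 132974, nat_lit 22, nat_lit 4100, nat_lit 8208, nat_lit 14352, nat_lit 17440, nat_lit 21568, nat_lit 24832, nat_lit 31232, nat_lit 33280, nat_lit 38912, nat_lit 45879, nat_lit 41575, nat_lit 38359, nat_lit 32837, nat_lit 29237, nat_lit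 24855, nat_lit 20504, nat_lit 16431, nat_lit 12327, nat_lit 8195, nat_lit 4100, nat_lit 438282, nat_lit 430088, nat_lit 421894, nat_lit 413700, nat_lit 405504, nat_lit 169984, nat_lit 166400, nat_lit 160512, nat_lit 155904, nat_lit 154688, nat_lit 150944, nat_lit 144160, nat_lit 133848, nat_lit 8193, nat_lit 4097, nat_lit 327680]⟩))
 (.node (nat_lit 3) (.leaf ⟨[nat_lit 0x95663992801a08ae8a0c45be6db1d83826f5, nat_lit 0x784ed138dea3340871561a5ed184eb213124, nat_lit 0xddd141aa64d11af63bc0c844a3a3a6a09168], [nat_lit 98304, nat_lit 102400, nat_lit 110592, nat_lit 178176, nat_lit 169472, nat_lit 167680, nat_lit 162304, nat_lit 158720, nat_lit 153792, nat_lit 151120, nat_lit 147032, nat_lit 139600, nat_lit 137272, nat_lit 132650, nat_lit 1636, nat_lit 5732, nat_lit 15104, nat_lit 18656, nat_lit 22080, nat_lit 24832, nat_lit 31744, nat_lit 34816, nat_lit 43008, nat_lit 46917, nat_lit 43143, nat_lit 37110, nat_lit 33902, nat_lit 29047, nat_lit 24723, nat_lit 20504, nat_lit 16429,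 nat_lit 12321, nat_lit 8208, nat_lit 4097, nat_lit 425991, nat_lit 417797, nat_lit 405504, nat_lit 155776, nat_lit 151872, nat_lit 143552, nat_lit 131528, nat_lit 45057, nat_lit 41408, nat_lit 37032, nat_lit 16385, nat_lit 8193, nat_lit 4097]⟩)
 (.leaf ⟨[nat_lit 0xb44e4d58029810d373eb491cb11a90265aed, nat_lit 0xd22e4e51626b3807431b008973a91e3bc934, nat_lit 0x53cff574c2a89e574508b695967c12230ea0, nat_lit 0x777d7468ce9604a89989555e4ba3dd0b4440], [nat_lit 65536, nat_lit 69632, nat_lit 73728, nat_lit 77824, nat_lit 81920, nat_lit 86016, nat_lit 98304, nat_lit 102400, nat_lit 110592, nat_lit 178176, nat_lit 164096, nat_lit 163584, nat_lit 159680, nat_lit 155040, nat_lit 147696, nat_lit 144616, nat_lit 141628, nat_lit 135706, nat_lit 133086, nat_lit 2566, nat_lit 4100, nat_lit 10752, nat_lit 15312, nat_lit 17536, nat_lit 23296, nat_lit 25088, nat_lit 28928, nat_lit 39936, nat_lit 45651, nat_lit 41599, nat_lit 38074, nat_lit 32822, nat_lit 28783, nat_lit 24637, nat_lit 20561, nat_lit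 16454, nat_lit 12291, nat_lit 8195, nat_lit 4100, nat_lit 2, nat_lit 438282, nat_lit 430088, nat_lit 421894, nat_lit 413700, nat_lit 405504, nat_lit 164352, nat_lit 154048, nat_lit 150464, nat_lit 146336, nat_lit 132024, nat_lit 8193, nat_lit 4097, nat_lit 327680]⟩)))
 (.node (nat_lit 6) (.node (nat_lit 5) (.leaf ⟨[nat_lit 0x444ebd0b849436967aa131d4f2046e659584, nat_lit 0xaf0595b14e4356f46c143481937224113d71, nat_lit 0xb1db487cca34baac0b4d000956222875ca37], [nat_lit 65536, nat_lit 69632, nat_lit 73728, nat_lit 77824, nat_lit 81920, nat_lit 98304, nat_lit 178176, nat_lit 175104, nat_lit 169984, nat_lit 167680, nat_lit 163328, nat_lit 154880, nat_lit 150816, nat_lit 145336, nat_lit 142772, nat_lit 138718, nat_lit 133450, nat_lit 2164, nat_lit 6260, nat_lit 10728, nat_lit 13344, nat_lit 19232, nat_lit 24384, nat_lit 25600, nat_lit 32000, nat_lit 34304, nat_lit 39936, nat_lit 45248, nat_lit 41039, nat_lit 37213, nat_lit 32925, nat_lit 28993, nat_lit 24734, nat_lit 20484, nat_lit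 12417, nat_lit 8200, nat_lit 4097, nat_lit 434182, nat_lit 413700, nat_lit 405504, nat_lit 156672, nat_lit 152576, nat_lit 143456, nat_lit 131096, nat_lit 45112, nat_lit 36921, nat_lit 32769, nat_lit 28729, nat_lit 8193, nat_lit 4097]⟩)
 (.leaf ⟨[nat_lit 0x60cf6910e12239e53998dbad1504433a2556, nat_lit 0x47d1e43aee3810cf132214aa4dad1d3b2005, nat_lit 0xbddd724c42c202a3a2166b3cee549a281677, nat_lit 0x888d8403c94899276b912a88acbd97354023], [nat_lit 65536, nat_lit 69632, nat_lit 73728, nat_lit 77824, nat_lit 81920, nat_lit 90112, nat_lit 98304, nat_lit 106496, nat_lit 110592, nat_lit 178176, nat_lit 173056, nat_lit 166656, nat_lit 160640, nat_lit 156480, nat_lit 154688, nat_lit 150960, nat_lit 145760, nat_lit 142164, nat_lit 138550, nat_lit 132855, nat_lit 1760, nat_lit 5856, nat_lit 9952, nat_lit 14400, nat_lit 20352, nat_lit 24192, nat_lit 27008, nat_lit 33280, nat_lit 45226, nat_lit 41426, nat_lit 37219, nat_lit 33434, nat_lit 28934, nat_lit 24712, nat_lit 20509, nat_lit 16421,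 nat_lit 12304, nat_lit 8193, nat_lit 4097, nat_lit 2, nat_lit 438282, nat_lit 430088, nat_lit 421894, nat_lit 413700, nat_lit 405504, nat_lit 174080, nat_lit 168960, nat_lit 165376, nat_lit 160256, nat_lit 157440, nat_lit 155456, nat_lit 146608, nat_lit 131624, nat_lit 8193, nat_lit 4097]⟩))
 (.node (nat_lit 7) (.leaf ⟨[nat_lit 0x8b8b4e14401430b684a63bb9266ac943beaa, nat_lit 0xe174e4bad28048cf71e0160c93895a255ab4], [nat_lit 81920, nat_lit 86016, nat_lit 178176, nat_lit 174080, nat_lit 169984, nat_lit 164352, nat_lit 162432, nat_lit 157568, nat_lit 152768, nat_lit 149120, nat_lit 146048, nat_lit 141596, nat_lit 138620, nat_lit 134424, nat_lit 2134, nat_lit 4100, nat_lit 10320, nat_lit 15824, nat_lit 20288, nat_lit 21440, nat_lit 26368, nat_lit 32512, nat_lit 34304, nat_lit 37888, nat_lit 43008, nat_lit 46865, nat_lit 41776, nat_lit 37231, nat_lit 33349, nat_lit 28681, nat_lit 24625, nat_lit 20484, nat_lit 16455, nat_lit 12423, nat_lit 8195, nat_lit 4100, nat_lit 417796, nat_lit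 405504, nat_lit 143440, nat_lit 131144, nat_lit 41049, nat_lit 36953, nat_lit 28736, nat_lit 20488, nat_lit 8193, nat_lit 4097, nat_lit 327680]⟩)
 (.leaf ⟨[nat_lit 0x3a935c7aee590e7108810a2587455c4b29a6, nat_lit 0x4dee287594da99048c2e900e8b2cd81788f2, nat_lit 0x9003331cda90320a354e4449e272c31bda85, nat_lit 0xd7b4443a87030629292cd7d6535b114b81c2], [nat_lit 77824, nat_lit 86016, nat_lit 90112, nat_lit 98304, nat_lit 102400, nat_lit 106496, nat_lit 178176, nat_lit 174080, nat_lit 171520, nat_lit 164096, nat_lit 160000, nat_lit 157248, nat_lit 152608, nat_lit 149472, nat_lit 146304, nat_lit 142636, nat_lit 135688, nat_lit 132061, nat_lit 2636, nat_lit 6732, nat_lit 8448, nat_lit 13808, nat_lit 20384, nat_lit 22144, nat_lit 27392, nat_lit 31232, nat_lit 43008, nat_lit 46238, nat_lit 41862, nat_lit 37324, nat_lit 32782, nat_lit 28734, nat_lit 25134, nat_lit 20559, nat_lit 16396, nat_lit 12310, nat_lit 8209, nat_lit 4097, nat_lit 2, nat_lit 438282, nat_lit 430088, nat_lit 421894,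 nat_lit 413700, nat_lit 405504, nat_lit 174080, nat_lit 164864, nat_lit 162560, nat_lit 157568, nat_lit 153856, nat_lit 150944, nat_lit 144432, nat_lit 134392, nat_lit 8193, nat_lit 4097]⟩))))

theorem dcLE0_ok : dcLE0.all (elB (nat_lit 87960930234368)) = true := by decide +kernel

def dcLE1 : BT El := (.node (nat_lit 12) (.node (nat_lit 10) (.node (nat_lit 9) (.leaf ⟨[nat_lit 0xe818247123303ca1bac503312a95468a36c7, nat_lit 0x2e4e171d2c43ac299b15545dd0882453344f, nat_lit 0x59aaf03de2a601286984478e96596b094dc1, nat_lit 0x553aa904d6aad050b95c9b30c8244670c9ed], [nat_lit 77824, nat_lit 86016, nat_lit 90112, nat_lit 98304, nat_lit 102400, nat_lit 110592, nat_lit 173056, nat_lit 167680, nat_lit 161024, nat_lit 155712, nat_lit 151872, nat_lit 147744, nat_lit 144488, nat_lit 139428, nat_lit 135474, nat_lit 132030, nat_lit 1896, nat_lit 5992, nat_lit 10088, nat_lit 13456, nat_lit 19840, nat_lit 22016, nat_lit 27648, nat_lit 30464, nat_lit 34304, nat_lit 47098, nat_lit 41096, nat_lit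 37222, nat_lit 33335, nat_lit 29808, nat_lit 24765, nat_lit 20498, nat_lit 16430, nat_lit 12295, nat_lit 8193, nat_lit 4097, nat_lit 2, nat_lit 438282, nat_lit 430088, nat_lit 421894, nat_lit 413700, nat_lit 405504, nat_lit 171008, nat_lit 165888, nat_lit 161280, nat_lit 156672, nat_lit 154496, nat_lit 151360, nat_lit 143808, nat_lit 131328, nat_lit 8193, nat_lit 4097]⟩)
 (.leaf ndLr0_0))
 (.node (nat_lit 11) (.leaf ⟨[nat_lit 0x99f990b1132a1a682ae178d4ea6b98378820], [nat_lit 81920, nat_lit 98304, nat_lit 102400, nat_lit 106496, nat_lit 169472, nat_lit 164096, nat_lit 160640, nat_lit 157888, nat_lit 155104, nat_lit 150048, nat_lit 143624, nat_lit 142568, nat_lit 138692, nat_lit 133689, nat_lit 1024, nat_lit 5120, nat_lit 9216, nat_lit 13152, nat_lit 18720, nat_lit 21312, nat_lit 27648, nat_lit 29184, nat_lit 35840, nat_lit 39936, nat_lit 43008, nat_lit 41108, nat_lit 36975, nat_lit 32883, nat_lit 29738, nat_lit 24883, nat_lit 20638, nat_lit 16518]⟩)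
 (.leaf ⟨[nat_lit 0x41dbb840d69bb264750b2a9df1b1a0d50820], [nat_lit 77824, nat_lit 86016, nat_lit 102400, nat_lit 106496, nat_lit 178176, nat_lit 168448, nat_lit 165120, nat_lit 162432, nat_lit 156928, nat_lit 153888, nat_lit 147648, nat_lit 146496, nat_lit 141488, nat_lit 138744, nat_lit 133857, nat_lit 318, nat_lit 4100, nat_lit 8504, nat_lit 15904, nat_lit 18624, nat_lit 24128, nat_lit 27264, nat_lit 32512, nat_lit 34304, nat_lit 43008, nat_lit 41818, nat_lit 36907, nat_lit 32858, nat_lit 28698, nat_lit 24848, nat_lit 21011, nat_lit 16389, nat_lit 12295, nat_lit 8194, nat_lit 4100]⟩)))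
 (.node (nat_lit 14) (.node (nat_lit 13) (.leaf ⟨[nat_lit 0x4b8d1762ae4ab4a9844723aece7a28698820], [nat_lit 86016, nat_lit 90112, nat_lit 94208, nat_lit 98304, nat_lit 178176, nat_lit 169984, nat_lit 167168, nat_lit 161280, nat_lit 157696, nat_lit 152544, nat_lit 150960, nat_lit 144688, nat_lit 142632, nat_lit 138508, nat_lit 131737, nat_lit 2, nat_lit 4100, nat_lit 10728, nat_lit 14912, nat_lit 19456, nat_lit 22400, nat_lit 24960, nat_lit 31488, nat_lit 33280, nat_lit 43008, nat_lit 41771, nat_lit 38016, nat_lit 33436, nat_lit 28683, nat_lit 24617, nat_lit 20507, nat_lit 16416, nat_lit 12294, nat_lit 8195, nat_lit 4100, nat_lit 2]⟩)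
 (.leaf ⟨[nat_lit 0xf963c0b3a6b7aab128cc4626906dd1238820], [nat_lit 81920, nat_lit 86016, nat_lit 90112, nat_lit 94208, nat_lit 102400, nat_lit 171008, nat_lit 166912, nat_lit 161920, nat_lit 154720, nat_lit 150528, nat_lit 145816, nat_lit 140136, nat_lit 135764, nat_lit 135140, nat_lit 2, nat_lit 5904, nat_lit 10000, nat_lit 13456, nat_lit 18176, nat_lit 22912, nat_lit 25088, nat_lit 28928, nat_lit 34304, nat_lit 38912, nat_lit 43008, nat_lit 41958, nat_lit 37232, nat_lit 33313, nat_lit 29815, nat_lit 24832, nat_lit 21019, nat_lit 16385, nat_lit 12292, nat_lit 8193, nat_lit 4097, nat_lit 2]⟩))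
 (.node (nat_lit 15) (.leaf ⟨[nat_lit 0x9533009a4b5342ca6386fba0f28ac9468820], [nat_lit 65536, nat_lit 69632, nat_lit 73728, nat_lit 81920, nat_lit 90112, nat_lit 94208, nat_lit 102400, nat_lit 178176, nat_lit 169984, nat_lit 164864, nat_lit 163712, nat_lit 157312, nat_lit 152000, nat_lit 150752, nat_lit 143592, nat_lit 143284, nat_lit 137952, nat_lit 133793, nat_lit 2112, nat_lit 6208, nat_lit 10304, nat_lit 14752, nat_lit 20256, nat_lit 22144, nat_lit 28288, nat_lit 28928, nat_lit 36352, nat_lit 37888, nat_lit 43008, nat_lit 41690, nat_lit 38243, nat_lit 32960, nat_lit 28976, nat_lit 24627, nat_lit 20483, nat_lit 16451, nat_lit 12293]⟩)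
 (.leaf ⟨[nat_lit 0xcfac9064aab8dd2e6c156194e49d1e830820], [nat_lit 65536, nat_lit 69632, nat_lit 73728, nat_lit 86016, nat_lit 90112, nat_lit 98304, nat_lit 102400, nat_lit 106496, nat_lit 169472, nat_lit 165888, nat_lit 161152, nat_lit 157952, nat_lit 151872, nat_lit 150096, nat_lit 147288, nat_lit 142496, nat_lit 138972, nat_lit 134539, nat_lit 2, nat_lit 4100, nat_lit 11376, nat_lit 15264, nat_lit 17760, nat_lit 20800, nat_lit 27264, nat_lit 32000, nat_lit 35840, nat_lit 39936, nat_lit 43008, nat_lit 41971, nat_lit 36945, nat_lit 32803, nat_lit 29736, nat_lit 24599, nat_lit 20766, nat_lit 16387, nat_lit 12326, nat_lit 8195, nat_lit 4100, nat_lit 2, nat_lit 327680]⟩))))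

theorem dcLE1_ok : dcLE1.all (elB (nat_lit 87960930234368)) = true := by decide +kernel

def dcLE2 : BT El := (.node (nat_lit 20) (.node (nat_lit 18) (.node (nat_lit 17) (.leaf ⟨[nat_lit 0x9ca03fb56f4290c7735ec9c6124a96818820], [nat_lit 65536, nat_lit 69632, nat_lit 73728, nat_lit 77824, nat_lit 86016, nat_lit 90112, nat_lit 98304, nat_lit 102400, nat_lit 106496, nat_lit 167680, nat_lit 163456, nat_lit 158848, nat_lit 152160, nat_lit 151472, nat_lit 145936, nat_lit 140212, nat_lit 138320, nat_lit 133798, nat_lit 16, nat_lit 4112, nat_lit 8208, nat_lit 12304, nat_lit 16640, nat_lit 20736, nat_lit 28416, nat_lit 31744, nat_lit 34816, nat_lit 41731, nat_lit 37907, nat_lit 32784, nat_lit 28746, nat_lit 24709, nat_lit 20496]⟩)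
 (.leaf ⟨[nat_lit 0xcc99f0926cf722b0198e58d16dbb26a20820], [nat_lit 90112, nat_lit 94208, nat_lit 98304, nat_lit 175104, nat_lit 169984, nat_lit 165888, nat_lit 161152, nat_lit 158784, nat_lit 151968, nat_lit 150512, nat_lit 146784, nat_lit 140400, nat_lit 137360, nat_lit 134773, nat_lit 2304, nat_lit 6400, nat_lit 10496, nat_lit 14192, nat_lit 17920, nat_lit 21504, nat_lit 26880, nat_lit 32256, nat_lit 36352, nat_lit 43008, nat_lit 41550, nat_lit 38061, nat_lit 32925, nat_lit 28962, nat_lit 20615, nat_lit 16387, nat_lit 12320]⟩))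
 (.node (nat_lit 19) (.leaf ndLr1_1)
 (.leaf ⟨[nat_lit 0x9095505a548bda9594670314877358f18820], [nat_lit 86016, nat_lit 98304, nat_lit 102400, nat_lit 106496, nat_lit 110592, nat_lit 178176, nat_lit 173056, nat_lit 168960, nat_lit 164864, nat_lit 160896, nat_lit 157568, nat_lit 153888, nat_lit 149280, nat_lit 145584, nat_lit 141452, nat_lit 138354, nat_lit 134719, nat_lit 2, nat_lit 4100, nat_lit 8200, nat_lit 12976, nat_lit 17600, nat_lit 24384, nat_lit 24960, nat_lit 31232, nat_lit 34304, nat_lit 38912, nat_lit 43008, nat_lit 41132, nat_lit 37335, nat_lit 33333, nat_lit 28733, nat_lit 24884, nat_lit 20503, nat_lit 16424, nat_lit 12295, nat_lit 8200, nat_lit 4100, nat_lit 2, nat_lit 327680]⟩)))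
 (.node (nat_lit 22) (.node (nat_lit 21) (.leaf ndLr1_4)
 (.leaf ⟨[nat_lit 0x9f3f99b1dd31040b1a928bc1e5332b2a45a4, nat_lit 0xe881b7a5ed57358f21ca652d2808c4084e51], [nat_lit 65536, nat_lit 69632, nat_lit 73728, nat_lit 77824, nat_lit 102400, nat_lit 106496, nat_lit 168448, nat_lit 164864, nat_lit 162816, nat_lit 155904, nat_lit 152576, nat_lit 150944, nat_lit 146848, nat_lit 140644, nat_lit 135970, nat_lit 134303, nat_lit 1030, nat_lit 4100, nat_lit 9216, nat_lit 13760, nat_lit 18240, nat_lit 23744, nat_lit 25856, nat_lit 34816, nat_lit 37888, nat_lit 46175, nat_lit 43952, nat_lit 37933, nat_lit 33346, nat_lit 29008, nat_lit 24730, nat_lit 20497, nat_lit 16422, nat_lit 12352, nat_lit 8195, nat_lit 4100, nat_lit 425989, nat_lit 409600, nat_lit 131360, nat_lit 40976, nat_lit 28688, nat_lit 12289, nat_lit 8193, nat_lit 4097]⟩))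
 (.node (nat_lit 23) (.leaf ndLr1_3)
 (.leaf ⟨[nat_lit 0xa95500425432522d3da6e95586796f058820], [nat_lit 65536, nat_lit 69632, nat_lit 73728, nat_lit 81920, nat_lit 90112, nat_lit 102400, nat_lit 178176, nat_lit 174080, nat_lit 171008, nat_lit 167424, nat_lit 163712, nat_lit 155904, nat_lit 152896, nat_lit 148208, nat_lit 145848, nat_lit 143000, nat_lit 137534, nat_lit 134424, nat_lit 32, nat_lit 4128, nat_lit 8224, nat_lit 13264, nat_lit 17280, nat_lit 20544, nat_lit 28160, nat_lit 30976, nat_lit 33792, nat_lit 39936, nat_lit 43008, nat_lit 41952, nat_lit 38272, nat_lit 33920, nat_lit 28757, nat_lit 24712, nat_lit 20504, nat_lit 16424, nat_lit 12290, nat_lit 327680]⟩))))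

theorem dcLE2_ok : dcLE2.all (elB (nat_lit 87960930234368)) = true := by decide +kernel

def dcLE3 : BT El := (.node (nat_lit 28) (.node (nat_lit 26) (.node (nat_lit 25) (.leaf ⟨[nat_lit 0x609a50a30f058d487cac4345d7a966d48820], [nat_lit 65536, nat_lit 69632, nat_lit 73728, nat_lit 77824, nat_lit 81920, nat_lit 86016, nat_lit 94208, nat_lit 98304, nat_lit 102400, nat_lit 178176, nat_lit 173056, nat_lit 168448, nat_lit 167424, nat_lit 160128, nat_lit 157184, nat_lit 153088, nat_lit 148320, nat_lit 144784, nat_lit 142312, nat_lit 136514, nat_lit 134788, nat_lit 8, nat_lit 4104, nat_lit 8200, nat_lit 13760, nat_lit 18496, nat_lit 23616, nat_lit 25728, nat_lit 30464, nat_lit 36352, nat_lit 43008, nat_lit 41672, nat_lit 37275, nat_lit 33318, nat_lit 28687, nat_lit 24584, nat_lit 20757, nat_lit 16648, nat_lit 12294, nat_lit 327680]⟩)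
 (.leaf ⟨[nat_lit 0x187e47b0eb4815eb3c90d9a88c8a5c6b8820], [nat_lit 65536, nat_lit 69632, nat_lit 73728, nat_lit 77824, nat_lit 86016, nat_lit 94208, nat_lit 98304, nat_lit 178176, nat_lit 175104, nat_lit 170496, nat_lit 167168, nat_lit 163072, nat_lit 158848, nat_lit 152320, nat_lit 148160, nat_lit 145752, nat_lit 142888, nat_lit 139098, nat_lit 133113, nat_lit 2176, nat_lit 6272, nat_lit 10368, nat_lit 16160, nat_lit 16480, nat_lit 22656, nat_lit 27392, nat_lit 29696, nat_lit 35840, nat_lit 38912, nat_lit 43008, nat_lit 41542, nat_lit 37320, nat_lit 32894, nat_lit 28756, nat_lit 24718, nat_lit 16458, nat_lit 12359, nat_lit 327680]⟩))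
 (.node (nat_lit 27) (.leaf ⟨[nat_lit 0x606aa0491f23414da8e972c50c3ae6eb0820], [nat_lit 65536, nat_lit 69632, nat_lit 73728, nat_lit 77824, nat_lit 90112, nat_lit 94208, nat_lit 98304, nat_lit 102400, nat_lit 106496, nat_lit 178176, nat_lit 173056, nat_lit 164864, nat_lit 160256, nat_lit 157760, nat_lit 152576, nat_lit 147728, nat_lit 143520, nat_lit 140244, nat_lit 136726, nat_lit 132562, nat_lit 64, nat_lit 4160, nat_lit 8256, nat_lit 12976, nat_lit 18336, nat_lit 21696, nat_lit 31744, nat_lit 36352, nat_lit 41898, nat_lit 38297, nat_lit 32974, nat_lit 28945, nat_lit 24637, nat_lit 20573, nat_lit 16388, nat_lit 12289, nat_lit 327680]⟩)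
 (.leaf ndLr2_0)))
 (.node (nat_lit 30) (.node (nat_lit 29) (.leaf ⟨[nat_lit 0x5303a05b0d2154207c547241c84966d1d2d7, nat_lit 0x96637b58ebd2d5004625a548314879ca11], [nat_lit 65536, nat_lit 69632, nat_lit 73728, nat_lit 81920, nat_lit 86016, nat_lit 94208, nat_lit 98304, nat_lit 110592, nat_lit 173056, nat_lit 164864, nat_lit 161408, nat_lit 155712, nat_lit 152256, nat_lit 149360, nat_lit 144776, nat_lit 140336, nat_lit 135956, nat_lit 134985, nat_lit 2746, nat_lit 4100, nat_lit 11352, nat_lit 15024, nat_lit 20320, nat_lit 20672, nat_lit 29952, nat_lit 39936, nat_lit 43008, nat_lit 45068, nat_lit 41075, nat_lit 37002, nat_lit 32939, nat_lit 28950, nat_lit 25651, nat_lit 20623, nat_lit 16392, nat_lit 12294, nat_lit 8201, nat_lit 4100, nat_lit 2, nat_lit 425989, nat_lit 409600, nat_lit 151808, nat_lit 147744, nat_lit 131088, nat_lit 40976, nat_lit 28688, nat_lit 12289, nat_lit 8193, nat_lit 4097, nat_lit 327680]⟩)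
 (.leaf ndLr2_1))
 (.node (nat_lit 31) (.leaf ⟨[nat_lit 0x9a99367c4b499acc83497581487564710d21, nat_lit 0xa506fcab224740b608c09919b44096a9dcef, nat_lit 0x9065a092a2b4c268a06a305857399ec2b9a4], [nat_lit 65536, nat_lit 69632, nat_lit 73728, nat_lit 77824, nat_lit 81920, nat_lit 90112, nat_lit 98304, nat_lit 106496, nat_lit 178176, nat_lit 173056, nat_lit 171520, nat_lit 164608, nat_lit 160256, nat_lit 156864, nat_lit 153088, nat_lit 148000, nat_lit 144400, nat_lit 140504, nat_lit 135410, nat_lit 134086, nat_lit 3322, nat_lit 4100, nat_lit 9664, nat_lit 15312, nat_lit 16672, nat_lit 23232, nat_lit 28160, nat_lit 29440, nat_lit 33792, nat_lit 43008, nat_lit 45079, nat_lit 41249, nat_lit 36902, nat_lit 34024, nat_lit 28794, nat_lit 24616, nat_lit 16518, nat_lit 12309, nat_lit 8211, nat_lit 4100, nat_lit 430088, nat_lit 417797, nat_lit 409600, nat_lit 156160, nat_lit 147968, nat_lit 131440, nat_lit 45073, nat_lit 40976, nat_lit 28688, nat_lit 12289, nat_lit 8193, nat_lit 4097]⟩)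
 (.leaf ⟨[nat_lit 0x7224dbabd5183134194c4ba1b25cece38801, nat_lit 0xdb8e24546ed21847b25d065173aa24f28c20], [nat_lit 65536, nat_lit 69632, nat_lit 73728, nat_lit 77824, nat_lit 106496, nat_lit 110592, nat_lit 175104, nat_lit 171520, nat_lit 166400, nat_lit 163200, nat_lit 158592, nat_lit 155392, nat_lit 150864, nat_lit 147296, nat_lit 141748, nat_lit 138974, nat_lit 131551, nat_lit 1000, nat_lit 5096, nat_lit 9192, nat_lit 15856, nat_lit 20352, nat_lit 20544, nat_lit 25856, nat_lit 29184, nat_lit 34304, nat_lit 37888, nat_lit 45864, nat_lit 40976, nat_lit 37166, nat_lit 32934, nat_lit 29027, nat_lit 24760, nat_lit 20557, nat_lit 16419, nat_lit 12355, nat_lit 8193, nat_lit 4097, nat_lit 2, nat_lit 434183, nat_lit 409600, nat_lit 160768, nat_lit 148608, nat_lit 132096, nat_lit 36865, nat_lit 32896, nat_lit 20496, nat_lit 8193, nat_lit 4097]⟩))))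

theorem dcLE3_ok : dcLE3.all (elB (nat_lit 87960930234368)) = true := by decide +kernel

def dcLE4 : BT El := (.node (nat_lit 36) (.node (nat_lit 34) (.node (nat_lit 33) (.leaf ⟨[nat_lit 0x2d748742d49735ec8ce50b5697398a418820], [nat_lit 65536, nat_lit 69632, nat_lit 73728, nat_lit 77824, nat_lit 90112, nat_lit 94208, nat_lit 102400, nat_lit 174080, nat_lit 168960, nat_lit 167424, nat_lit 160640, nat_lit 156608, nat_lit 155392, nat_lit 149616, nat_lit 146560, nat_lit 140868, nat_lit 137072, nat_lit 134568, nat_lit 2, nat_lit 4100, nat_lit 8680, nat_lit 12304, nat_lit 17856, nat_lit 22976, nat_lit 30720, nat_lit 33792, nat_lit 37888, nat_lit 43008, nat_lit 41467, nat_lit 36995, nat_lit 32904, nat_lit 29043, nat_lit 24746, nat_lit 20505, nat_lit 16418, nat_lit 12304, nat_lit 8195, nat_lit 4100, nat_lit 2]⟩)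
 (.leaf ⟨[nat_lit 0xa03630812a83263778d8d2aa543cd7670820], [nat_lit 65536, nat_lit 69632, nat_lit 73728, nat_lit 81920, nat_lit 86016, nat_lit 90112, nat_lit 98304, nat_lit 102400, nat_lit 106496, nat_lit 178176, nat_lit 173056, nat_lit 169472, nat_lit 167680, nat_lit 161792, nat_lit 157888, nat_lit 153184, nat_lit 147872, nat_lit 145008, nat_lit 140860, nat_lit 135316, nat_lit 133129, nat_lit 1478, nat_lit 4100, nat_lit 9664, nat_lit 15616, nat_lit 18336, nat_lit 21888, nat_lit 25216, nat_lit 29696, nat_lit 33280, nat_lit 37888, nat_lit 43008, nat_lit 41931, nat_lit 37186, nat_lit 33440, nat_lit 28958, nat_lit 24745, nat_lit 20638, nat_lit 16393, nat_lit 12311, nat_lit 8194, nat_lit 4100]⟩))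
 (.node (nat_lit 35) (.leaf ⟨[nat_lit 0xddd1beac54f3840220ca69add68268c921b7, nat_lit 0xdd2e4100e2272ea5a198a4d9a7ba1e40ca13], [nat_lit 81920, nat_lit 106496, nat_lit 178176, nat_lit 174080, nat_lit 171520, nat_lit 166656, nat_lit 161024, nat_lit 156608, nat_lit 153344, nat_lit 147648, nat_lit 146144, nat_lit 139688, nat_lit 136000, nat_lit 131265, nat_lit 2590, nat_lit 4100, nat_lit 10776, nat_lit 13968, nat_lit 20032, nat_lit 23040, nat_lit 27008, nat_lit 29952, nat_lit 33792, nat_lit 37888, nat_lit 43008, nat_lit 46600, nat_lit 41394, nat_lit 39176, nat_lit 33386, nat_lit 28775, nat_lit 24741, nat_lit 20503, nat_lit 16389, nat_lit 12549, nat_lit 8195, nat_lit 4100, nat_lit 2, nat_lit 421892, nat_lit 405504, nat_lit 147584, nat_lit 143488, nat_lit 131088, nat_lit 37017, nat_lit 32784, nat_lit 24592, nat_lit 20488, nat_lit 8193, nat_lit 4097, nat_lit 327680]⟩)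
 (.leaf ndLr1_2)))
 (.node (nat_lit 38) (.node (nat_lit 37) (.leaf ⟨[nat_lit 0xff03b2142d66d959e440d6a8bae648820], [nat_lit 65536, nat_lit 69632, nat_lit 73728, nat_lit 81920, nat_lit 86016, nat_lit 90112, nat_lit 98304, nat_lit 106496, nat_lit 178176, nat_lit 173056, nat_lit 166912, nat_lit 159872, nat_lit 158784, nat_lit 154816, nat_lit 149392, nat_lit 146960, nat_lit 141660, nat_lit 138984, nat_lit 133863, nat_lit 2, nat_lit 5856, nat_lit 9952, nat_lit 13344, nat_lit 16480, nat_lit 21952, nat_lit 26240, nat_lit 30208, nat_lit 36352, nat_lit 38912, nat_lit 43008, nat_lit 41813, nat_lit 37292, nat_lit 32912, nat_lit 28966, nat_lit 24622, nat_lit 20559, nat_lit 16519, nat_lit 12353, nat_lit 8193, nat_lit 4097, nat_lit 2]⟩)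
 (.leaf ⟨[nat_lit 0x93afc02c9ca8ac8da8ef69a0cf81d2ca0820], [nat_lit 81920, nat_lit 86016, nat_lit 90112, nat_lit 94208, nat_lit 102400, nat_lit 170496, nat_lit 165376, nat_lit 161408, nat_lit 156096, nat_lit 152256, nat_lit 150976, nat_lit 146224, nat_lit 140420, nat_lit 138500, nat_lit 132513, nat_lit 986, nat_lit 4100, nat_lit 8224, nat_lit 13264, nat_lit 19936, nat_lit 21760, nat_lit 25216, nat_lit 29696, nat_lit 33792, nat_lit 43008, nat_lit 41419, nat_lit 37214, nat_lit 33448, nat_lit 28954, nat_lit 24637, nat_lit 20554, nat_lit 16419, nat_lit 12294, nat_lit 8200, nat_lit 4100]⟩))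
 (.node (nat_lit 39) (.leaf ⟨[nat_lit 0x4b7de745e4d290669add67c5558268c38820], [nat_lit 65536, nat_lit 69632, nat_lit 73728, nat_lit 77824, nat_lit 90112, nat_lit 98304, nat_lit 102400, nat_lit 175104, nat_lit 169472, nat_lit 165376, nat_lit 159872, nat_lit 159680, nat_lit 153824, nat_lit 148576, nat_lit 146992, nat_lit 139752, nat_lit 137380, nat_lit 134109, nat_lit 2064, nat_lit 6160, nat_lit 10256, nat_lit 15504, nat_lit 19872, nat_lit 23872, nat_lit 27776, nat_lit 29952, nat_lit 35328, nat_lit 38912, nat_lit 43008, nat_lit 41782, nat_lit 37256, nat_lit 33371, nat_lit 28688, nat_lit 24624, nat_lit 20493, nat_lit 16398, nat_lit 12295]⟩)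
 (.leaf ⟨[nat_lit 0x7188d775a672c1f7332b28d1a440d2a58820], [nat_lit 65536, nat_lit 69632, nat_lit 73728, nat_lit 81920, nat_lit 86016, nat_lit 94208, nat_lit 102400, nat_lit 106496, nat_lit 174080, nat_lit 170496, nat_lit 167680, nat_lit 163328, nat_lit 158144, nat_lit 152832, nat_lit 148528, nat_lit 144584, nat_lit 142756, nat_lit 138986, nat_lit 131220, nat_lit 2112, nat_lit 6208, nat_lit 10304, nat_lit 15312, nat_lit 20288, nat_lit 23552, nat_lit 28416, nat_lit 29952, nat_lit 36352, nat_lit 38912, nat_lit 43008, nat_lit 41688, nat_lit 37048, nat_lit 32784, nat_lit 28678, nat_lit 24629, nat_lit 20570, nat_lit 16387, nat_lit 12290, nat_lit 327680]⟩))))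

theorem dcLE4_ok : dcLE4.all (elB (nat_lit 87960930234368)) = true := by decide +kernel

def dcLE5 : BT El := (.node (nat_lit 44) (.node (nat_lit 42) (.node (nat_lit 41) (.leaf ⟨[nat_lit 0xb48218bdab484653635cf52d0931c8518820], [nat_lit 77824, nat_lit 86016, nat_lit 90112, nat_lit 94208, nat_lit 102400, nat_lit 106496, nat_lit 178176, nat_lit 173056, nat_lit 164352, nat_lit 162816, nat_lit 156352, nat_lit 153984, nat_lit 150864, nat_lit 147440, nat_lit 142800, nat_lit 139078, nat_lit 133273, nat_lit 2560, nat_lit 6656, nat_lit 10752, nat_lit 12800, nat_lit 18560, nat_lit 20992, nat_lit 29184, nat_lit 35840, nat_lit 38912, nat_lit 41503, nat_lit 32966, nat_lit 28688, nat_lit 24591, nat_lit 16512, nat_lit 327680]⟩)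
 (.leaf ⟨[nat_lit 0x530caf8b11682df731c834ceada29d228820], [nat_lit 65536, nat_lit 69632, nat_lit 73728, nat_lit 90112, nat_lit 94208, nat_lit 98304, nat_lit 178176, nat_lit 170496, nat_lit 165888, nat_lit 161280, nat_lit 155712, nat_lit 151776, nat_lit 149920, nat_lit 145920, nat_lit 140096, nat_lit 136900, nat_lit 133283, nat_lit 3034, nat_lit 4100, nat_lit 8320, nat_lit 15312, nat_lit 19552, nat_lit 22848, nat_lit 25344, nat_lit 30720, nat_lit 33792, nat_lit 37888, nat_lit 41655, nat_lit 37206, nat_lit 32989, nat_lit 28762, nat_lit 24719, nat_lit 20489, nat_lit 16459, nat_lit 12294, nat_lit 8200, nat_lit 4100, nat_lit 327680]⟩))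
 (.node (nat_lit 43) (.leaf ⟨[nat_lit 0xebbbd834e8f2da2c5a543a91d06de4740820], [nat_lit 77824, nat_lit 102400, nat_lit 178176, nat_lit 169472, nat_lit 164608, nat_lit 162048, nat_lit 156544, nat_lit 152864, nat_lit 148240, nat_lit 146312, nat_lit 141652, nat_lit 139234, nat_lit 132032, nat_lit 2, nat_lit 4100, nat_lit 10496, nat_lit 12976, nat_lit 17120, nat_lit 24064, nat_lit 25472, nat_lit 31488, nat_lit 34816, nat_lit 38912, nat_lit 43008, nat_lit 41116, nat_lit 37135, nat_lit 32975, nat_lit 28992, nat_lit 24842, nat_lit 20503, nat_lit 16421, nat_lit 12295, nat_lit 8200, nat_lit 4100, nat_lit 2, nat_lit 327680]⟩)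
 (.leaf ⟨[nat_lit 0xff0f0f44ae732a162d53363dc35923468820], [nat_lit 77824, nat_lit 98304, nat_lit 102400, nat_lit 178176, nat_lit 173056, nat_lit 168960, nat_lit 164864, nat_lit 161664, nat_lit 157696, nat_lit 151840, nat_lit 147632, nat_lit 144888, nat_lit 141228, nat_lit 137912, nat_lit 134387, nat_lit 2, nat_lit 5904, nat_lit 10000, nat_lit 14064, nat_lit 20256, nat_lit 21056, nat_lit 25600, nat_lit 30464, nat_lit 35328, nat_lit 38912, nat_lit 41217, nat_lit 36913, nat_lit 33960, nat_lit 29016, nat_lit 24586, nat_lit 20492, nat_lit 16385, nat_lit 12294, nat_lit 8193, nat_lit 4097, nat_lit 2]⟩)))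
 (.node (nat_lit 46) (.node (nat_lit 45) (.leaf ndLr2_2)
 (.leaf ⟨[nat_lit 0xac95c3a5ed521ca67358f008234a16a84e51, nat_lit 0x6a5a63a1a2c6925550c40b4caf83ae70a169], [nat_lit 77824, nat_lit 102400, nat_lit 168448, nat_lit 167168, nat_lit 162944, nat_lit 157952, nat_lit 153504, nat_lit 149088, nat_lit 145192, nat_lit 141712, nat_lit 137096, nat_lit 135026, nat_lit 202, nat_lit 4100, nat_lit 10272, nat_lit 13008, nat_lit 19136, nat_lit 21248, nat_lit 26752, nat_lit 30720, nat_lit 34816, nat_lit 39936, nat_lit 46949, nat_lit 41406, nat_lit 37365, nat_lit 32812, nat_lit 28754, nat_lit 24606, nat_lit 20490, nat_lit 16453, nat_lit 12291, nat_lit 8257, nat_lit 4100, nat_lit 2, nat_lit 417797, nat_lit 405504, nat_lit 151616, nat_lit 131080, nat_lit 40992, nat_lit 36969, nat_lit 32800, nat_lit 28736, nat_lit 8193, nat_lit 4097]⟩))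
 (.node (nat_lit 47) (.leaf ndLr3_5)
 (.leaf ⟨[nat_lit 0x5ca69984a71218e54292b6b1cfade9608c02, nat_lit 0x630a0684e32ad2f621ca663dcd4296908c02], [nat_lit 77824, nat_lit 86016, nat_lit 90112, nat_lit 94208, nat_lit 98304, nat_lit 106496, nat_lit 110592, nat_lit 173056, nat_lit 168960, nat_lit 164096, nat_lit 160768, nat_lit 156288, nat_lit 153856, nat_lit 148976, nat_lit 147024, nat_lit 143052, nat_lit 135284, nat_lit 131113, nat_lit 32, nat_lit 4128, nat_lit 8224, nat_lit 12320, nat_lit 17728, nat_lit 22912, nat_lit 26624, nat_lit 29184, nat_lit 35328, nat_lit 38912, nat_lit 45071, nat_lit 41098, nat_lit 36943, nat_lit 32949, nat_lit 28972, nat_lit 25088, nat_lit 20502, nat_lit 16427, nat_lit 12289, nat_lit 8193, nat_lit 4097, nat_lit 425989, nat_lit 409600, nat_lit 151808, nat_lit 147744, nat_lit 131088, nat_lit 40976, nat_lit 28688, nat_lit 12289, nat_lit 8193, nat_lit 4097, nat_lit 327680]⟩))))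

theorem dcLE5_ok : dcLE5.all (elB (nat_lit 87960930234368)) = true := by decide +kernel

def dcLE6 : BT El := (.node (nat_lit 52) (.node (nat_lit 50) (.node (nat_lit 49) (.leaf ndLr3_3)
 (.leaf ⟨[nat_lit 0xdb81d48964621e70526f41858e1340f5d915, nat_lit 0xd1d78421cca42d257cec1830151ca8e136f1, nat_lit 0x218dbd7ae6d61ec3891060c940a09c54de15], [nat_lit 81920, nat_lit 90112, nat_lit 106496, nat_lit 110592, nat_lit 178176, nat_lit 175104, nat_lit 170496, nat_lit 166656, nat_lit 163200, nat_lit 159168, nat_lit 153536, nat_lit 148944, nat_lit 146808, nat_lit 141936, nat_lit 137196, nat_lit 132929, nat_lit 2492, nat_lit 6588, nat_lit 11912, nat_lit 12896, nat_lit 17536, nat_lit 22080, nat_lit 26496, nat_lit 31744, nat_lit 33280, nat_lit 43008, nat_lit 46461, nat_lit 44030, nat_lit 36904, nat_lit 34976, nat_lit 28793, nat_lit 24720, nat_lit 20544, nat_lit 16521, nat_lit 12322, nat_lit 8448, nat_lit 4097, nat_lit 430087, nat_lit 413700, nat_lit 405504, nat_lit 160256, nat_lit 152192,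 nat_lit 147488, nat_lit 144016, nat_lit 131592, nat_lit 45569, nat_lit 41625, nat_lit 32904, nat_lit 24632, nat_lit 8193, nat_lit 4097, nat_lit 327680]⟩))
 (.node (nat_lit 51) (.leaf ndLr3_1)
 (.leaf ⟨[nat_lit 0x7188d741db2325d1611532be0b1d6d4b8820], [nat_lit 65536, nat_lit 69632, nat_lit 73728, nat_lit 77824, nat_lit 81920, nat_lit 90112, nat_lit 94208, nat_lit 102400, nat_lit 106496, nat_lit 110592, nat_lit 173056, nat_lit 168448, nat_lit 165632, nat_lit 161152, nat_lit 158208, nat_lit 155072, nat_lit 151440, nat_lit 144968, nat_lit 142836, nat_lit 137732, nat_lit 132037, nat_lit 3526, nat_lit 4100, nat_lit 11712, nat_lit 15104, nat_lit 19520, nat_lit 28544, nat_lit 32256, nat_lit 34816, nat_lit 39936, nat_lit 43008, nat_lit 41767, nat_lit 38225, nat_lit 33979, nat_lit 29029, nat_lit 24578, nat_lit 20635, nat_lit 16523, nat_lit 12420, nat_lit 8194, nat_lit 4100]⟩)))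
 (.node (nat_lit 54) (.node (nat_lit 53) (.leaf ndLr3_2)
 (.leaf ⟨[nat_lit 0x63a03f3ddb2812ae9bcd45a5432c6cc40820], [nat_lit 81920, nat_lit 94208, nat_lit 98304, nat_lit 106496, nat_lit 168448, nat_lit 164352, nat_lit 160640, nat_lit 157952, nat_lit 154720, nat_lit 149824, nat_lit 147072, nat_lit 142252, nat_lit 137610, nat_lit 134068, nat_lit 2064, nat_lit 6160, nat_lit 10256, nat_lit 12336, nat_lit 18688, nat_lit 22400, nat_lit 26880, nat_lit 29184, nat_lit 33792, nat_lit 43008, nat_lit 41744, nat_lit 37987, nat_lit 32936, nat_lit 28681, nat_lit 25095, nat_lit 20548, nat_lit 16398, nat_lit 12310, nat_lit 327680]⟩))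
 (.node (nat_lit 55) (.leaf ⟨[nat_lit 0x935fcf4c88f541a68958872e67a56e3b0820], [nat_lit 65536, nat_lit 69632, nat_lit 73728, nat_lit 94208, nat_lit 102400, nat_lit 178176, nat_lit 175104, nat_lit 169984, nat_lit 165120, nat_lit 162688, nat_lit 157312, nat_lit 152416, nat_lit 148848, nat_lit 145784, nat_lit 140912, nat_lit 137478, nat_lit 133121, nat_lit 2112, nat_lit 6208, nat_lit 10304, nat_lit 12976, nat_lit 17120, nat_lit 24384, nat_lit 27648, nat_lit 31232, nat_lit 33792, nat_lit 39936, nat_lit 43008, nat_lit 41955, nat_lit 38238, nat_lit 32879, nat_lit 28757, nat_lit 20504, nat_lit 16392, nat_lit 12289]⟩)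
 (.leaf ⟨[nat_lit 0x48b7782b53332d92a5ae351e2f821c4a8820], [nat_lit 77824, nat_lit 81920, nat_lit 86016, nat_lit 98304, nat_lit 102400, nat_lit 106496, nat_lit 173056, nat_lit 171008, nat_lit 166912, nat_lit 160384, nat_lit 158912, nat_lit 152448, nat_lit 150576, nat_lit 144520, nat_lit 141072, nat_lit 135826, nat_lit 133259, nat_lit 986, nat_lit 4100, nat_lit 11576, nat_lit 13264, nat_lit 18144, nat_lit 22336, nat_lit 24704, nat_lit 30976, nat_lit 33280, nat_lit 37888, nat_lit 43008, nat_lit 41894, nat_lit 38314, nat_lit 32894, nat_lit 28762, nat_lit 24764, nat_lit 20507, nat_lit 16390, nat_lit 12295, nat_lit 8201, nat_lit 4100, nat_lit 327680]⟩))))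

theorem dcLE6_ok : dcLE6.all (elB (nat_lit 87960930234368)) = true := by decide +kernel

def dcLE7 : BT El := (.node (nat_lit 60) (.node (nat_lit 58) (.node (nat_lit 57) (.leaf ⟨[nat_lit 0xebb428749455922d7991361d30adc76a0820], [nat_lit 65536, nat_lit 69632, nat_lit 73728, nat_lit 81920, nat_lit 86016, nat_lit 98304, nat_lit 174080, nat_lit 171008, nat_lit 167424, nat_lit 160256, nat_lit 157504, nat_lit 155200, nat_lit 147872, nat_lit 147088, nat_lit 139296, nat_lit 135706, nat_lit 133779, nat_lit 16, nat_lit 4112, nat_lit 8208, nat_lit 14976, nat_lit 18464, nat_lit 22656, nat_lit 27392, nat_lit 30976, nat_lit 43008, nat_lit 41701, nat_lit 37296, nat_lit 33344, nat_lit 29000, nat_lit 24605, nat_lit 20496, nat_lit 16393, nat_lit 12305, nat_lit 327680]⟩)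
 (.leaf ndLr4_0))
 (.node (nat_lit 59) (.leaf ⟨[nat_lit 0x9c63650894c5d2cf945a905e6471d0680cb5, nat_lit 0x303a0c09c12a12b383dc6ba1a28a56562ac3, nat_lit 0xf35c0c682b309449b5d471d1f163964940c8, nat_lit 0xf33a5346a5389899ddae23c6ab2172a0410], [nat_lit 65536, nat_lit 69632, nat_lit 73728, nat_lit 77824, nat_lit 81920, nat_lit 86016, nat_lit 90112, nat_lit 102400, nat_lit 106496, nat_lit 171008, nat_lit 164608, nat_lit 163712, nat_lit 158976, nat_lit 155584, nat_lit 148208, nat_lit 145720, nat_lit 141788, nat_lit 138526, nat_lit 134451, nat_lit 1472, nat_lit 5568, nat_lit 9664, nat_lit 15808, nat_lit 18848, nat_lit 22976, nat_lit 25984, nat_lit 29184, nat_lit 35328, nat_lit 38912, nat_lit 46371, nat_lit 41667, nat_lit 38211, nat_lit 33315, nat_lit 29030, nat_lit 24709, nat_lit 20483, nat_lit 16387, nat_lit 8193, nat_lit 4097, nat_lit 2, nat_lit 438282, nat_lit 430088, nat_lit 421894, nat_lit 413700, nat_lit 405504, nat_lit 164864, nat_lit 162560, nat_lit 151680, nat_lit 149088,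 nat_lit 143488, nat_lit 132896, nat_lit 8193, nat_lit 4097]⟩)
 (.leaf ndLr4_1)))
 (.node (nat_lit 62) (.node (nat_lit 61) (.leaf ⟨[nat_lit 0x6065af355922c1f774ec748d0a6d22458820], [nat_lit 65536, nat_lit 69632, nat_lit 73728, nat_lit 77824, nat_lit 81920, nat_lit 86016, nat_lit 90112, nat_lit 102400, nat_lit 110592, nat_lit 174080, nat_lit 171008, nat_lit 165120, nat_lit 161280, nat_lit 156096, nat_lit 154528, nat_lit 149008, nat_lit 147368, nat_lit 142832, nat_lit 138536, nat_lit 134279, nat_lit 2112, nat_lit 6208, nat_lit 10304, nat_lit 13264, nat_lit 16448, nat_lit 21504, nat_lit 31232, nat_lit 36352, nat_lit 38912, nat_lit 41056, nat_lit 37048, nat_lit 32787, nat_lit 29304, nat_lit 24629, nat_lit 20565, nat_lit 12290]⟩)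
 (.leaf ⟨[nat_lit 0x3cc3c9bc4c944095a164a708206346fb2cf3, nat_lit 0x1b2db4bb8e18cd523586d016ac251e282d09], [nat_lit 77824, nat_lit 81920, nat_lit 102400, nat_lit 110592, nat_lit 169984, nat_lit 165120, nat_lit 162560, nat_lit 157376, nat_lit 152832, nat_lit 150416, nat_lit 144240, nat_lit 140132, nat_lit 137754, nat_lit 132006, nat_lit 3838, nat_lit 4100, nat_lit 12024, nat_lit 13408, nat_lit 16640, nat_lit 22656, nat_lit 26368, nat_lit 29440, nat_lit 33792, nat_lit 39936, nat_lit 45621, nat_lit 41757, nat_lit 36919, nat_lit 32949, nat_lit 28765, nat_lit 24629, nat_lit 20562, nat_lit 16459, nat_lit 12307, nat_lit 8195, nat_lit 4100, nat_lit 434183, nat_lit 409600, nat_lit 160768, nat_lit 148608, nat_lit 132096, nat_lit 36865, nat_lit 32896, nat_lit 20496, nat_lit 8193, nat_lit 4097]⟩))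
 (.node (nat_lit 63) (.leaf ⟨[nat_lit 0x636c95440955cec77b5830b802950aa4c6e6, nat_lit 0x8eb48d015b2bd57470e6783024788d1b2548], [nat_lit 65536, nat_lit 69632, nat_lit 73728, nat_lit 77824, nat_lit 81920, nat_lit 86016, nat_lit 90112, nat_lit 106496, nat_lit 173056, nat_lit 169984, nat_lit 166912, nat_lit 160384, nat_lit 157632, nat_lit 154912, nat_lit 148048, nat_lit 144240, nat_lit 140448, nat_lit 136216, nat_lit 132565, nat_lit 1944, nat_lit 6040, nat_lit 10136, nat_lit 15456, nat_lit 16448, nat_lit 22656, nat_lit 24832, nat_lit 31488, nat_lit 35840, nat_lit 39936, nat_lit 43008, nat_lit 45683, nat_lit 41230, nat_lit 39029, nat_lit 33011, nat_lit 28968, nat_lit 20502, nat_lit 16393, nat_lit 12305, nat_lit 8193, nat_lit 4097, nat_lit 434183, nat_lit 409600, nat_lit 131216, nat_lit 36865, nat_lit 32896, nat_lit 20496, nat_lit 8193, nat_lit 4097]⟩)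
 (.leaf ⟨[nat_lit 0x874e2e3a6147b46e92cd50b0029dc8a896c8, nat_lit 0x7e44723404c5a937ada88885e47141369e43, nat_lit 0xb821eb90c41519f7ab8e9a21842b6cb04271], [nat_lit 65536, nat_lit 69632, nat_lit 73728, nat_lit 90112, nat_lit 98304, nat_lit 102400, nat_lit 175104, nat_lit 170496, nat_lit 160640, nat_lit 155968, nat_lit 152320, nat_lit 151472, nat_lit 147384, nat_lit 139936, nat_lit 135618, nat_lit 132799, nat_lit 2484, nat_lit 6580, nat_lit 11536, nat_lit 12480, nat_lit 17504, nat_lit 22912, nat_lit 28032, nat_lit 32512, nat_lit 36352, nat_lit 38912, nat_lit 46469, nat_lit 43104, nat_lit 37173, nat_lit 33518, nat_lit 28950, nat_lit 24603, nat_lit 20487, nat_lit 16457, nat_lit 12356, nat_lit 8202, nat_lit 4097, nat_lit 2, nat_lit 430087, nat_lit 413700, nat_lit 405504, nat_lit 147616, nat_lit 143408, nat_lit 131232, nat_lit 45569, nat_lit 40961, nat_lit 32944, nat_lit 24624, nat_lit 8193, nat_lit 4097]⟩))))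

theorem dcLE7_ok : dcLE7.all (elB (nat_lit 87960930234368)) = true := by decide +kernel

def dcLE8 : BT El := (.node (nat_lit 68) (.node (nat_lit 66) (.node (nat_lit 65) (.leaf ⟨[nat_lit 0xf6c9f6352519b96043e03ab1a40d847496ea, nat_lit 0x3a935cb29c0a0dab60935812727a03789cc5, nat_lit 0x281e7d148cf5ced02c5a0aa087a3989b846a], [nat_lit 65536, nat_lit 69632, nat_lit 73728, nat_lit 90112, nat_lit 94208, nat_lit 98304, nat_lit 102400, nat_lit 110592, nat_lit 162176, nat_lit 158528, nat_lit 153536, nat_lit 149024, nat_lit 144624, nat_lit 139884, nat_lit 139136, nat_lit 132919, nat_lit 1070, nat_lit 4100, nat_lit 9256, nat_lit 14624, nat_lit 19808, nat_lit 22016, nat_lit 26624, nat_lit 30208, nat_lit 33280, nat_lit 39936, nat_lit 46295, nat_lit 41482, nat_lit 37192, nat_lit 33458, nat_lit 28744, nat_lit 24578, nat_lit 20504, nat_lit 16430, nat_lit 12290, nat_lit 8195, nat_lit 4100, nat_lit 421894, nat_lit 413700, nat_lit 405504, nat_lit 155776, nat_lit 151680, nat_lit 147584, nat_lit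 143392, nat_lit 131320, nat_lit 45073, nat_lit 41056, nat_lit 36953, nat_lit 32825, nat_lit 8193, nat_lit 4097, nat_lit 327680]⟩)
 (.leaf ndLr1_0))
 (.node (nat_lit 67) (.leaf ⟨[], [nat_lit 110592]⟩)
 (.leaf ndLr3_0)))
 (.node (nat_lit 70) (.node (nat_lit 69) (.leaf ⟨[nat_lit 0xde7d4d304176d5e4a1d4b2da7280d0c4ba22, nat_lit 0xd8b4b47b0ab120c30b635a5d27748169920a, nat_lit 0xc3aa55aa48395e8f6003152dd06cce6158a8, nat_lit 0xeb888d65ece7d68d3a9641c6608083231528], [nat_lit 65536, nat_lit 69632, nat_lit 73728, nat_lit 81920, nat_lit 86016, nat_lit 94208, nat_lit 98304, nat_lit 102400, nat_lit 106496, nat_lit 110592, nat_lit 173056, nat_lit 168448, nat_lit 164352, nat_lit 160384, nat_lit 156160, nat_lit 152128, nat_lit 147520, nat_lit 143976, nat_lit 140104, nat_lit 137664, nat_lit 133572, nat_lit 586, nat_lit 4100, nat_lit 8704, nat_lit 12864, nat_lit 17856, nat_lit 23104, nat_lit 28544, nat_lit 31232, nat_lit 33792, nat_lit 37888, nat_lit 46246, nat_lit 41239, nat_lit 37145, nat_lit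 32994, nat_lit 28677, nat_lit 24616, nat_lit 20563, nat_lit 16428, nat_lit 12294, nat_lit 8201, nat_lit 4100, nat_lit 2, nat_lit 438282, nat_lit 430088, nat_lit 421894, nat_lit 413700, nat_lit 405504, nat_lit 165376, nat_lit 160256, nat_lit 157056, nat_lit 153408, nat_lit 148032, nat_lit 144016, nat_lit 134152, nat_lit 8193, nat_lit 4097]⟩)
 (.leaf ndLr3_4))
 (.node (nat_lit 71) (.leaf ⟨[nat_lit 0xd7bbb40d892bb68a781225ce2c7150719a15, nat_lit 0x781be8b38a3baa55484107b62821a6b61e82, nat_lit 0xc9fcfa240e2ba1856be600a972a5623758c9, nat_lit 0x2e27742a4c7132b11bed2802eda38335208b], [nat_lit 65536, nat_lit 69632, nat_lit 73728, nat_lit 81920, nat_lit 86016, nat_lit 94208, nat_lit 98304, nat_lit 102400, nat_lit 106496, nat_lit 110592, nat_lit 173056, nat_lit 168448, nat_lit 164352, nat_lit 160384, nat_lit 156160, nat_lit 152128, nat_lit 147520, nat_lit 143976, nat_lit 140104, nat_lit 137664, nat_lit 133572, nat_lit 586, nat_lit 4100, nat_lit 8704, nat_lit 12864, nat_lit 17856,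 nat_lit 23104, nat_lit 28544, nat_lit 31232, nat_lit 33792, nat_lit 37888, nat_lit 46246, nat_lit 41239, nat_lit 37145, nat_lit 32994, nat_lit 28677, nat_lit 24616, nat_lit 20563, nat_lit 16428, nat_lit 12294, nat_lit 8201, nat_lit 4100, nat_lit 2, nat_lit 438282, nat_lit 430088, nat_lit 421894, nat_lit 413700, nat_lit 405504, nat_lit 165376, nat_lit 160256, nat_lit 157056, nat_lit 153408, nat_lit 148032, nat_lit 144016, nat_lit 134152, nat_lit 8193, nat_lit 4097]⟩)
 (.leaf ndLg0_0))))

theorem dcLE8_ok : dcLE8.all (elB (nat_lit 87960930234368)) = true := by decide +kernel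

def dcLE9 : BT El := (.node (nat_lit 76) (.node (nat_lit 74) (.node (nat_lit 73) (.leaf ndLg0_1)
 (.leaf ndLg0_2))
 (.node (nat_lit 75) (.leaf ndLg0_3)
 (.leaf ndLg0_4)))
 (.node (nat_lit 78) (.node (nat_lit 77) (.leaf ndLg1_0)
 (.leaf ndLg1_1))
 (.node (nat_lit 79) (.leaf ndLg1_2)
 (.leaf ndLg1_3))))

theorem dcLE9_ok : dcLE9.all (elB (nat_lit 87960930234368)) = true := by decide +kernel

def dcLE10 : BT El := (.node (nat_lit 84) (.node (nat_lit 82) (.node (nat_lit 81) (.leaf ndLg1_4)
 (.leaf ndLg2_0))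
 (.node (nat_lit 83) (.leaf ndLg2_1)
 (.leaf ndLg2_2)))
 (.node (nat_lit 86) (.node (nat_lit 85) (.leaf ndLg2_3)
 (.leaf ndLg2_4))
 (.node (nat_lit 87) (.leaf ndLg3_0)
 (.leaf ndLg3_1))))

theorem dcLE10_ok : dcLE10.all (elB (nat_lit 87960930234368)) = true := by decide +kernel

def dcLE11 : BT El := (.node (nat_lit 92) (.node (nat_lit 90) (.node (nat_lit 89) (.leaf ndLg3_2)
 (.leaf ndLg3_3))
 (.node (nat_lit 91) (.leaf ndLg3_4)
 (.leaf ndLg4_0)))
 (.node (nat_lit 94) (.node (nat_lit 93) (.leaf ndLg4_1)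
 (.leaf ndLg4_2))
 (.node (nat_lit 95) (.leaf ndLg4_3)
 (.leaf ndLg4_4))))

theorem dcLE11_ok : dcLE11.all (elB (nat_lit 87960930234368)) = true := by decide +kernel


end

end CF.Mon
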