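import Cfsg.Agent.Mon.DcLC

set_option autoImplicit false
set_option maxRecDepth 100000

namespace CF.Mon

open CF.Comp

noncomputable section

def dcLc0 : List Cert := [.init,
  .init,
  .init,
  .init,
  .init,
  .init,
  .init,
  .init,
  .defn,
  .stab (nat_lit 16) tw0 ⟨(nat_lit 0), ⟨[nat_lit 2, nat_lit 1, nat_lit 5, nat_lit 1, nat_lit 7, nat_lit 0, nat_lit 0], [], (nat_lit 16), ⟨[nat_lit 84, nat_lit 65], [nat_lit 7, nat_lit 62], ⟨[nat_lit 0xb1132a1a682ae178d4ea6b98378820], [nat_lit 175104, nat_lit 168448, nat_lit 164864, nat_lit 160512, nat_lit 157376, nat_lit 152256, nat_lit 147504, nat_lit 143752, nat_lit 139632, nat_lit 135436, nat_lit 131594, nat_lit 1024, nat_lit 5120, nat_lit 9216, nat_lit 13152, nat_lit 16672, nat_lit 21312, nat_lit 25600, nat_lit 29184, nat_lit 33792, nat_lit 37888, nat_lit 41108, nat_lit 36975, nat_lit 32883, nat_lit 29738, nat_lit 24883, nat_lit 20638, nat_lit 16518]⟩⟩⟩, ap0⟩,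
  .stab (nat_lit 16) tw0 ⟨(nat_lit 0), ⟨[nat_lit 1, nat_lit 1, nat_lit 3, nat_lit 5, nat_lit 5, nat_lit 7], [], (nat_lit 16), ⟨[nat_lit 0, nat_lit 26, nat_lit 63], [nat_lit 42, nat_lit 62], ⟨[nat_lit 0x40d69bb264750b2a9df1b1a0d50820], [nat_lit 173056, nat_lit 166400, nat_lit 159872, nat_lit 156928, nat_lit 154688, nat_lit 150208, nat_lit 145528, nat_lit 143084, nat_lit 138250, nat_lit 131141, nat_lit 318, nat_lit 4100, nat_lit 8504, nat_lit 13856, nat_lit 16576, nat_lit 22080, nat_lit 25216, nat_lit 30464, nat_lit 34304, nat_lit 41818, nat_lit 36907, nat_lit 32858, nat_lit 28698, nat_lit 24848, nat_lit 21011, nat_lit 16389, nat_lit 12295, nat_lit 8194, nat_lit 4100]⟩⟩⟩, ap0⟩]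

theorem dcLr0 : Rng dcL 0 11 := Rng.of (l := dcLc0) (by decide +kernel)

def dcLc11 : List Cert := [.stab (nat_lit 16) tw0 ⟨(nat_lit 0), ⟨[nat_lit 4, nat_lit 5, nat_lit 5, nat_lit 0, nat_lit 0, nat_lit 3, nat_lit 2], [], (nat_lit 16), ⟨[nat_lit 8, nat_lit 70], [nat_lit 0, nat_lit 76, nat_lit 61], ⟨[nat_lit 0x62ae4ab4a9844723aece7a28698820], [nat_lit 173056, nat_lit 168960, nat_lit 166400, nat_lit 163200, nat_lit 157888, nat_lit 154272, nat_lit 148032, nat_lit 146032, nat_lit 142276, nat_lit 136828, nat_lit 135159, nat_lit 2, nat_lit 4100, nat_lit 8680, nat_lit 12864, nat_lit 17408, nat_lit 22400, nat_lit 24960, nat_lit 29440, nat_lit 33280, nat_lit 41771, nat_lit 38016, nat_lit 33436, nat_lit 28683, nat_lit 24617, nat_lit 20507, nat_lit 16416, nat_lit 12294, nat_lit 8195, nat_lit 4100, nat_lit 2]⟩⟩⟩, ap0⟩,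
  .stab (nat_lit 16) tw0 ⟨(nat_lit 0), ⟨[nat_lit 6, nat_lit 6, nat_lit 0, nat_lit 7, nat_lit 7, nat_lit 5], [], (nat_lit 16), ⟨[nat_lit 0, nat_lit 64], [nat_lit 0, nat_lit 26], ⟨[nat_lit 0xb3a6b7aab128cc4626906dd1238820], [nat_lit 174080, nat_lit 171008, nat_lit 167680, nat_lit 161536, nat_lit 156416, nat_lit 152480, nat_lit 151200, nat_lit 144432, nat_lit 140044, nat_lit 138176, nat_lit 133771, nat_lit 2, nat_lit 5904, nat_lit 10000, nat_lit 13456, nat_lit 18176, nat_lit 20864, nat_lit 25088, nat_lit 28928, nat_lit 34304, nat_lit 41958, nat_lit 37232, nat_lit 33313, nat_lit 29815, nat_lit 24832, nat_lit 21019, nat_lit 16385, nat_lit 12292, nat_lit 8193, nat_lit 4097, nat_lit 2]⟩⟩⟩, ap0⟩,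
  .prod [] [nat_lit 10, nat_lit 11, nat_lit 11, nat_lit 9],
  .prod [] [nat_lit 12, nat_lit 9, nat_lit 12, nat_lit 10],
  .prod [] [nat_lit 14, nat_lit 11, nat_lit 14, nat_lit 9]]

theorem dcLr11 : Rng dcL 11 16 := Rng.of (l := dcLc11) (by decide +kernel)

def dcLc16 : List Cert := [.prod [] [nat_lit 13, nat_lit 10, nat_lit 11, nat_lit 11],
  .edge tw0 ⟨(nat_lit 1), ⟨[], [], (nat_lit 17), tw0⟩, ⟨[nat_lit 6, nat_lit 5, nat_lit 4, nat_lit 4, nat_lit 0], [], (nat_lit 16), ⟨[nat_lit 0, nat_lit 14, nat_lit 67], [nat_lit 26, nat_lit 57], ⟨[nat_lit 0x5a548bda9594670314877358f18820], [nat_lit 170496, nat_lit 164096, nat_lit 162304, nat_lit 156352, nat_lit 155520, nat_lit 149600, nat_lit 145776, nat_lit 140792, nat_lit 135990, nat_lit 133965, nat_lit 2, nat_lit 4100, nat_lit 8200, nat_lit 12976, nat_lit 17600, nat_lit 22336, nat_lit 24960, nat_lit 29184, nat_lit 34304, nat_lit 41132, nat_lit 37335, nat_lit 33333, nat_lit 28733,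 nat_lit 24884, nat_lit 20503, nat_lit 16424, nat_lit 12295, nat_lit 8200, nat_lit 4100, nat_lit 2]⟩⟩⟩⟩,
  .edge ⟨[nat_lit 78, nat_lit 56], [nat_lit 76, nat_lit 49], ⟨[nat_lit 0x29cc4639ed9c2514a16aa5eb618820], [nat_lit 174080, nat_lit 171008, nat_lit 166400, nat_lit 161920, nat_lit 156928, nat_lit 154880, nat_lit 150016, nat_lit 144056, nat_lit 142768, nat_lit 136906, nat_lit 131307, nat_lit 1972, nat_lit 6068, nat_lit 8200, nat_lit 13568, nat_lit 18336, nat_lit 21120, nat_lit 25344, nat_lit 29696, nat_lit 34304, nat_lit 41949, nat_lit 37108, nat_lit 32815, nat_lit 29195, nat_lit 24613, nat_lit 20492, nat_lit 16393, nat_lit 12309, nat_lit 8200]⟩⟩ ⟨(nat_lit 2), ⟨[], [], (nat_lit 17), ⟨[nat_lit 0, nat_lit 76, nat_lit 89], [nat_lit 0, nat_lit 76, nat_lit 50], ⟨[nat_lit 0x7aaa79ca0375d26620b622db488820], [nat_lit 168448, nat_lit 164096, nat_lit 160384, nat_lit 155776, nat_lit 152096, nat_lit 145016, nat_lit 140220, nat_lit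 136664, nat_lit 131573, nat_lit 13968, nat_lit 18080, nat_lit 20992, nat_lit 25472, nat_lit 28928, nat_lit 41930, nat_lit 37056, nat_lit 34019, nat_lit 29213, nat_lit 24741, nat_lit 20567, nat_lit 16456, nat_lit 12327]⟩⟩⟩, ⟨[nat_lit 6, nat_lit 2, nat_lit 7, nat_lit 1], [], (nat_lit 16), ⟨[nat_lit 78, nat_lit 50], [nat_lit 32, nat_lit 59], ⟨[nat_lit 0x6c494332b24246abc0af74cf658820], [nat_lit 173056, nat_lit 168960, nat_lit 166400, nat_lit 160000, nat_lit 156928, nat_lit 155488, nat_lit 150096, nat_lit 145752, nat_lit 142920, nat_lit 139158, nat_lit 132047, nat_lit 318, nat_lit 4100, nat_lit 8504, nat_lit 13264, nat_lit 18208, nat_lit 25216, nat_lit 29952, nat_lit 33792, nat_lit 41915, nat_lit 38324, nat_lit 33865, nat_lit 28747, nat_lit 24618, nat_lit 20544, nat_lit 16651, nat_lit 12292, nat_lit 8194, nat_lit 4100]⟩⟩⟩⟩,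
  .defn]

theorem dcLr16 : Rng dcL 16 20 := Rng.of (l := dcLc16) (by decide +kernel)

def dcLc20 : List Cert := [.stab (nat_lit 38) tw0 ⟨(nat_lit 0), ⟨[nat_lit 12, nat_lit 12, nat_lit 13, nat_lit 13, nat_lit 11, nat_lit 15, nat_lit 11], [], (nat_lit 38), ⟨[nat_lit 0, nat_lit 21, nat_lit 53], [nat_lit 0, nat_lit 21, nat_lit 56], ⟨[nat_lit 0x425432522d3da6e95586796f058820], [nat_lit 173056, nat_lit 165376, nat_lit 161152, nat_lit 157248, nat_lit 155488, nat_lit 147680, nat_lit 144104, nat_lit 139460, nat_lit 135374, nat_lit 133053, nat_lit 32, nat_lit 4128, nat_lit 8224, nat_lit 13264, nat_lit 17280, nat_lit 20544, nat_lit 26112, nat_lit 28928, nat_lit 33792, nat_lit 37888, nat_lit 41952, nat_lit 38272, nat_lit 33920, nat_lit 28757, nat_lit 24712, nat_lit 20504, nat_lit 16424, nat_lit 12290]⟩⟩⟩, ap0⟩,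
  .stab (nat_lit 38) tw0 ⟨(nat_lit 0), ⟨[nat_lit 9, nat_lit 9, nat_lit 10, nat_lit 13, nat_lit 11, nat_lit 10], [], (nat_lit 38), ⟨[nat_lit 0, nat_lit 42, nat_lit 49], [nat_lit 0, nat_lit 32, nat_lit 63], ⟨[nat_lit 0xa30f058d487cac4345d7a966d48820], [nat_lit 173056, nat_lit 168448, nat_lit 165632, nat_lit 160640, nat_lit 155840, nat_lit 153088, nat_lit 147808, nat_lit 147120, nat_lit 139280, nat_lit 135392, nat_lit 132086, nat_lit 8, nat_lit 4104, nat_lit 8200, nat_lit 13760, nat_lit 16448, nat_lit 21568, nat_lit 25728, nat_lit 30464, nat_lit 34304, nat_lit 41672, nat_lit 37275, nat_lit 33318, nat_lit 28687, nat_lit 24584, nat_lit 20757, nat_lit 16648, nat_lit 12294]⟩⟩⟩, ap0⟩,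
  .stab (nat_lit 38) tw0 ⟨(nat_lit 0), ⟨[nat_lit 15, nat_lit 11, nat_lit 12, nat_lit 9, nat_lit 14, nat_lit 10, nat_lit 10], [], (nat_lit 38), ⟨[nat_lit 0, nat_lit 14, nat_lit 62], [nat_lit 84, nat_lit 48], ⟨[nat_lit 0xb0eb4815eb3c90d9a88c8a5c6b8820], [nat_lit 173056, nat_lit 168960, nat_lit 165632, nat_lit 162048, nat_lit 156288, nat_lit 152288, nat_lit 148928, nat_lit 144120, nat_lit 139336, nat_lit 137152, nat_lit 131913, nat_lit 128, nat_lit 4224, nat_lit 8320, nat_lit 14112, nat_lit 16480, nat_lit 20608, nat_lit 25344, nat_lit 29696, nat_lit 33792, nat_lit 41542, nat_lit 37320, nat_lit 32894, nat_lit 28756, nat_lit 24718, nat_lit 16458, nat_lit 12359]⟩⟩⟩, ap0⟩]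

theorem dcLr20 : Rng dcL 20 23 := Rng.of (l := dcLc20) (by decide +kernel)

def dcLc23 : List Cert := [.stab (nat_lit 38) tw0 ⟨(nat_lit 0), ⟨[nat_lit 9, nat_lit 13, nat_lit 16, nat_lit 12, nat_lit 11], [], (nat_lit 38), ⟨[nat_lit 0, nat_lit 32, nat_lit 91], [nat_lit 32, nat_lit 64], ⟨[nat_lit 0x491f23414da8e972c50c3ae6eb0820], [nat_lit 169472, nat_lit 164352, nat_lit 161408, nat_lit 158976, nat_lit 152384, nat_lit 148880, nat_lit 143640, nat_lit 140548, nat_lit 135366, nat_lit 131842, nat_lit 64, nat_lit 4160, nat_lit 8256, nat_lit 12976, nat_lit 18336, nat_lit 21696, nat_lit 29696, nat_lit 34304, nat_lit 41898, nat_lit 38297, nat_lit 32974, nat_lit 28945, nat_lit 24637, nat_lit 20573, nat_lit 16388, nat_lit 12289]⟩⟩⟩, ap0⟩,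
  .edge ⟨[nat_lit 0, nat_lit 26, nat_lit 60], [nat_lit 0, nat_lit 13, nat_lit 66], ⟨[nat_lit 0x7b1ae390a69c251a56f64ad0a18820], [nat_lit 164096, nat_lit 161536, nat_lit 151584, nat_lit 150032, nat_lit 145264, nat_lit 140604, nat_lit 136108, nat_lit 132867, nat_lit 16, nat_lit 4112, nat_lit 8208, nat_lit 12304, nat_lit 16544, nat_lit 21376, nat_lit 25728, nat_lit 28928, nat_lit 41802, nat_lit 37040, nat_lit 32809, nat_lit 29184, nat_lit 25658, nat_lit 20548, nat_lit 16423]⟩⟩ ⟨(nat_lit 2), ⟨[], [], (nat_lit 39), ⟨[nat_lit 78, nat_lit 49], [nat_lit 21, nat_lit 64], ⟨[nat_lit 0x816eb4da4444cd4a9e2a68dcc78820], [nat_lit 173056, nat_lit 169984, nat_lit 164352, nat_lit 161920, nat_lit 157440, nat_lit 153600, nat_lit 150576, nat_lit 146016, nat_lit 140196, nat_lit 135784, nat_lit 135012, nat_lit 2, nat_lit 4100, nat_lit 10088, nat_lit 12976, nat_lit 17984, nat_lit 20800, nat_lit 25984, nat_lit 34304, nat_lit 41519, nat_lit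 38328, nat_lit 32838, nat_lit 28731, nat_lit 24583, nat_lit 20481, nat_lit 16397, nat_lit 12295, nat_lit 8200, nat_lit 4100, nat_lit 2]⟩⟩⟩, ⟨[nat_lit 14, nat_lit 9, nat_lit 11, nat_lit 10], [], (nat_lit 38), ⟨[nat_lit 0, nat_lit 78, nat_lit 49], [nat_lit 22, nat_lit 92], ⟨[nat_lit 0xbd0764966d931663c54f8110ea8820], [nat_lit 173056, nat_lit 168448, nat_lit 163328, nat_lit 155904, nat_lit 152256, nat_lit 148944, nat_lit 143680, nat_lit 139520, nat_lit 137140, nat_lit 131239, nat_lit 128, nat_lit 4224, nat_lit 8320, nat_lit 13520, nat_lit 18336, nat_lit 22080, nat_lit 25856, nat_lit 28928, nat_lit 33792, nat_lit 41072, nat_lit 36991, nat_lit 32920, nat_lit 25122, nat_lit 20489, nat_lit 16388, nat_lit 12322]⟩⟩⟩⟩,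
  .edge ⟨[nat_lit 8, nat_lit 66], [nat_lit 26, nat_lit 54], ⟨[nat_lit 0x52169218a77b9acade9684a3318820], [nat_lit 174080, nat_lit 168448, nat_lit 165120, nat_lit 160384, nat_lit 156800, nat_lit 152576, nat_lit 147984, nat_lit 143440, nat_lit 140808, nat_lit 136558, nat_lit 132462, nat_lit 1024, nat_lit 5120, nat_lit 9216, nat_lit 13312, nat_lit 18112, nat_lit 20864, nat_lit 26112, nat_lit 28928, nat_lit 33280, nat_lit 37888, nat_lit 37248, nat_lit 33401, nat_lit 29049, nat_lit 24607, nat_lit 20767, nat_lit 16448]⟩⟩ ⟨(nat_lit 2), ⟨[], [], (nat_lit 39), ⟨[nat_lit 0, nat_lit 13, nat_lit 69], [nat_lit 57], ⟨[nat_lit 0x615167a8f5942635b684ba4ce88820], [nat_lit 175104, nat_lit 171520, nat_lit 166144, nat_lit 161280, nat_lit 157120, nat_lit 153280, nat_lit 149744, nat_lit 143816, nat_lit 140220, nat_lit 138728, nat_lit 133538, nat_lit 2, nat_lit 5904, nat_lit 10000, nat_lit 14240, nat_lit 18336, nat_lit 21120, nat_lit 26112,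 nat_lit 29184, nat_lit 34304, nat_lit 37888, nat_lit 41463, nat_lit 37020, nat_lit 32769, nat_lit 29229, nat_lit 24592, nat_lit 20506, nat_lit 16389, nat_lit 12323, nat_lit 8193, nat_lit 4097, nat_lit 2]⟩⟩⟩, ⟨[nat_lit 10, nat_lit 15, nat_lit 9], [], (nat_lit 36), ⟨[nat_lit 8, nat_lit 49], [nat_lit 32, nat_lit 70], ⟨[nat_lit 0x65c8a80e51b2dc72a6ad7991498820], [nat_lit 173056, nat_lit 168960, nat_lit 159872, nat_lit 155904, nat_lit 152064, nat_lit 147472, nat_lit 147448, nat_lit 140044, nat_lit 135764, nat_lit 131787, nat_lit 8, nat_lit 4104, nat_lit 8200, nat_lit 12864, nat_lit 18208, nat_lit 21056, nat_lit 33280, nat_lit 41544, nat_lit 36936, nat_lit 32933, nat_lit 29037, nat_lit 24584, nat_lit 20507, nat_lit 16419, nat_lit 12295]⟩⟩⟩⟩]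

theorem dcLr23 : Rng dcL 23 26 := Rng.of (l := dcLc23) (by decide +kernel)

def dcLc26 : List Cert := [.stab (nat_lit 51) tw0 ⟨(nat_lit 0), ⟨[nat_lit 15, nat_lit 12, nat_lit 10, nat_lit 13, nat_lit 14, nat_lit 9], [], (nat_lit 38), ⟨[nat_lit 38, nat_lit 59], [nat_lit 21, nat_lit 55], ⟨[nat_lit 0x31065bb5125cece6269053eb138820], [nat_lit 173056, nat_lit 166144, nat_lit 162688, nat_lit 159680, nat_lit 154208, nat_lit 146368, nat_lit 141772, nat_lit 137068, nat_lit 134442, nat_lit 2, nat_lit 4100, nat_lit 8680, nat_lit 13456, nat_lit 18272, nat_lit 22080, nat_lit 29184, nat_lit 41091, nat_lit 37147, nat_lit 33344, nat_lit 28730, nat_lit 24832, nat_lit 20609, nat_lit 16395, nat_lit 12294, nat_lit 8195, nat_lit 4100, nat_lit 2]⟩⟩⟩, ap0⟩,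
  .prod [] [nat_lit 21, nat_lit 21, nat_lit 20, nat_lit 22],
  .prod [] [nat_lit 22, nat_lit 20, nat_lit 22, nat_lit 20],
  .prod [] [nat_lit 28, nat_lit 27, nat_lit 23, nat_lit 26],
  .defn,
  .stab (nat_lit 60) tw0 ⟨(nat_lit 0), ⟨[nat_lit 14, nat_lit 15, nat_lit 14, nat_lit 13, nat_lit 12, nat_lit 10], [], (nat_lit 60), ⟨[nat_lit 0, nat_lit 54], [nat_lit 0, nat_lit 14, nat_lit 92], ⟨[nat_lit 0x3b2142d66d959e440d6a8bae648820], [nat_lit 174080, nat_lit 169984, nat_lit 165376, nat_lit 162944, nat_lit 158656, nat_lit 155392, nat_lit 147584, nat_lit 144832, nat_lit 139932, nat_lit 137762, nat_lit 133504, nat_lit 2, nat_lit 5856, nat_lit 9952, nat_lit 13344, nat_lit 16480, nat_lit 21952, nat_lit 26240, nat_lit 30208, nat_lit 34304, nat_lit 41813, nat_lit 37292, nat_lit 32912, nat_lit 28966, nat_lit 24622, nat_lit 20559, nat_lit 16519, nat_lit 12353, nat_lit 8193, nat_lit 4097, nat_lit 2]⟩⟩⟩, ap0⟩]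

theorem dcLr26 : Rng dcL 26 32 := Rng.of (l := dcLc26) (by decide +kernel)

def dcLc32 : List Cert := [.stab (nat_lit 60) tw0 ⟨(nat_lit 0), ⟨[nat_lit 9, nat_lit 10, nat_lit 15, nat_lit 14, nat_lit 15], [], (nat_lit 60), ⟨[nat_lit 8, nat_lit 57], [nat_lit 32, nat_lit 59], ⟨[nat_lit 0x2c9ca8ac8da8ef69a0cf81d2ca0820], [nat_lit 171520, nat_lit 167424, nat_lit 163200, nat_lit 159616, nat_lit 153312, nat_lit 150064, nat_lit 146280, nat_lit 141256, nat_lit 137764, nat_lit 132889, nat_lit 986, nat_lit 4100, nat_lit 8224, nat_lit 13264, nat_lit 17888, nat_lit 21760, nat_lit 25216, nat_lit 29696, nat_lit 33792, nat_lit 41419, nat_lit 37214, nat_lit 33448, nat_lit 28954, nat_lit 24637, nat_lit 20554, nat_lit 16419, nat_lit 12294, nat_lit 8200, nat_lit 4100]⟩⟩⟩, ap0⟩,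
  .stab (nat_lit 60) tw0 ⟨(nat_lit 0), ⟨[nat_lit 12, nat_lit 14, nat_lit 10, nat_lit 15, nat_lit 14, nat_lit 9], [], (nat_lit 60), ⟨[nat_lit 0, nat_lit 78, nat_lit 52], [nat_lit 0, nat_lit 26, nat_lit 91], ⟨[nat_lit 0x45e4d290669add67c5558268c38820], [nat_lit 173056, nat_lit 168448, nat_lit 164096, nat_lit 161152, nat_lit 156672, nat_lit 151584, nat_lit 151248, nat_lit 143408, nat_lit 141292, nat_lit 135256, nat_lit 132083, nat_lit 16, nat_lit 4112, nat_lit 8208, nat_lit 13456, nat_lit 17824, nat_lit 21824, nat_lit 25728, nat_lit 29952, nat_lit 33280, nat_lit 41782, nat_lit 37256, nat_lit 33371, nat_lit 28688, nat_lit 24624, nat_lit 20493, nat_lit 16398, nat_lit 12295]⟩⟩⟩, ap0⟩,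
  .stab (nat_lit 60) tw0 ⟨(nat_lit 0), ⟨[nat_lit 11, nat_lit 15, nat_lit 15, nat_lit 16, nat_lit 13, nat_lit 16], [], (nat_lit 60), ⟨[nat_lit 0, nat_lit 21, nat_lit 57], [nat_lit 0, nat_lit 26, nat_lit 92], ⟨[nat_lit 0x75a672c1f7332b28d1a440d2a58820], [nat_lit 168960, nat_lit 159680, nat_lit 152512, nat_lit 147808, nat_lit 143528, nat_lit 141060, nat_lit 137002, nat_lit 133019, nat_lit 64, nat_lit 4160, nat_lit 8256, nat_lit 13264, nat_lit 18240, nat_lit 21504, nat_lit 26368, nat_lit 29952, nat_lit 34304, nat_lit 41688, nat_lit 37048, nat_lit 32784, nat_lit 28678, nat_lit 24629, nat_lit 20570, nat_lit 16387, nat_lit 12290]⟩⟩⟩, ap0⟩,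
  .prod [] [nat_lit 32, nat_lit 33, nat_lit 33, nat_lit 32]]

theorem dcLr32 : Rng dcL 32 36 := Rng.of (l := dcLc32) (by decide +kernel)

def dcLc36 : List Cert := [.prod [] [nat_lit 33, nat_lit 33, nat_lit 34, nat_lit 32],
  .prod [] [nat_lit 35, nat_lit 32, nat_lit 32, nat_lit 32],
  .prod [] [nat_lit 32, nat_lit 31, nat_lit 35, nat_lit 33],
  .edge ⟨[nat_lit 0, nat_lit 32, nat_lit 69], [nat_lit 0, nat_lit 78, nat_lit 66], ⟨[nat_lit 0x9592482ee573583544f53229378820], [nat_lit 173056, nat_lit 170496, nat_lit 165888, nat_lit 163456, nat_lit 158528, nat_lit 152288, nat_lit 149584, nat_lit 147312, nat_lit 139732, nat_lit 138194, nat_lit 131910, nat_lit 986, nat_lit 4100, nat_lit 10088, nat_lit 13264, nat_lit 16768, nat_lit 21632, nat_lit 25216, nat_lit 29952, nat_lit 41398, nat_lit 36941, nat_lit 32863, nat_lit 29728, nat_lit 24873, nat_lit 20486, nat_lit 16395, nat_lit 12294, nat_lit 8200, nat_lit 4100]⟩⟩ ⟨(nat_lit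 2), ⟨[nat_lit 29, nat_lit 22, nat_lit 22], [], (nat_lit 50), ⟨[nat_lit 51], [nat_lit 13, nat_lit 92], ⟨[nat_lit 0x3c91755a06251712d5337306f68820], [nat_lit 173056, nat_lit 171520, nat_lit 165120, nat_lit 163328, nat_lit 156352, nat_lit 154432, nat_lit 151088, nat_lit 146416, nat_lit 140748, nat_lit 136908, nat_lit 134643, nat_lit 2, nat_lit 4100, nat_lit 8680, nat_lit 12976, nat_lit 16832, nat_lit 22272, nat_lit 30208, nat_lit 34304, nat_lit 41757, nat_lit 38346, nat_lit 33839, nat_lit 28783, nat_lit 24760, nat_lit 20484, nat_lit 16456, nat_lit 12292, nat_lit 8203, nat_lit 4100, nat_lit 2]⟩⟩⟩, ⟨[nat_lit 9, nat_lit 14, nat_lit 16, nat_lit 9], [], (nat_lit 60), ⟨[nat_lit 0, nat_lit 62], [nat_lit 26, nat_lit 67], ⟨[nat_lit 0x5a548b5eb48ca1321cc57b1ae18820], [nat_lit 175104, nat_lit 168960, nat_lit 165632, nat_lit 161152, nat_lit 157952, nat_lit 154496, nat_lit 150096, nat_lit 145296, nat_lit 143108, nat_lit 135232, nat_lit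 133174, nat_lit 2, nat_lit 4100, nat_lit 9328, nat_lit 13424, nat_lit 18336, nat_lit 20736, nat_lit 25216, nat_lit 29440, nat_lit 34304, nat_lit 37888, nat_lit 41881, nat_lit 38315, nat_lit 33866, nat_lit 28987, nat_lit 24627, nat_lit 20544, nat_lit 16391, nat_lit 12291, nat_lit 8195, nat_lit 4100, nat_lit 2]⟩⟩⟩⟩]

theorem dcLr36 : Rng dcL 36 40 := Rng.of (l := dcLc36) (by decide +kernel)

def dcLc40 : List Cert := [.edge tw0 ⟨(nat_lit 1), ⟨[nat_lit 33, nat_lit 32], [nat_lit 33, nat_lit 31], (nat_lit 79), ⟨[nat_lit 0, nat_lit 38, nat_lit 49], [nat_lit 13, nat_lit 56], ⟨[nat_lit 0x554f16b1c3596f04da449d10678820], [nat_lit 166656, nat_lit 160128, nat_lit 154272, nat_lit 151536, nat_lit 146304, nat_lit 142348, nat_lit 139160, nat_lit 131073, nat_lit 318, nat_lit 4100, nat_lit 8504, nat_lit 13152, nat_lit 17984, nat_lit 20800, nat_lit 25600, nat_lit 29952, nat_lit 33280, nat_lit 37888, nat_lit 41850, nat_lit 37302, nat_lit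 33532, nat_lit 29228, nat_lit 24888, nat_lit 20552, nat_lit 16394, nat_lit 12304, nat_lit 8194, nat_lit 4100]⟩⟩⟩, ⟨[nat_lit 27, nat_lit 27], [], (nat_lit 78), ⟨[nat_lit 0, nat_lit 76, nat_lit 47], [nat_lit 88, nat_lit 52], ⟨[nat_lit 0x554f16b1c3596f04da449d10678820], [nat_lit 166656, nat_lit 160128, nat_lit 154240, nat_lit 151520, nat_lit 146312, nat_lit 142344, nat_lit 139162, nat_lit 318, nat_lit 4100, nat_lit 8504, nat_lit 13152, nat_lit 17984, nat_lit 20800, nat_lit 25600, nat_lit 29952, nat_lit 33280, nat_lit 37888, nat_lit 41850, nat_lit 37302, nat_lit 33532, nat_lit 29228, nat_lit 24888, nat_lit 20552, nat_lit 16394, nat_lit 12304, nat_lit 8194, nat_lit 4100]⟩⟩⟩⟩,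
  .edge ⟨[nat_lit 0, nat_lit 21, nat_lit 59], [nat_lit 0, nat_lit 88, nat_lit 67], ⟨[nat_lit 0x612f32c9d448d683c5f53361650820], [nat_lit 168448, nat_lit 165120, nat_lit 160000, nat_lit 155840, nat_lit 152032, nat_lit 149184, nat_lit 143488, nat_lit 140476, nat_lit 136966, nat_lit 131090, nat_lit 13728, nat_lit 18176, nat_lit 22464, nat_lit 26496, nat_lit 30464, nat_lit 37888, nat_lit 41165, nat_lit 37364, nat_lit 32803, nat_lit 28736, nat_lit 24608, nat_lit 20495, nat_lit 16393, nat_lit 12306]⟩⟩ ⟨(nat_lit 2), ⟨[nat_lit 31, nat_lit 37], [nat_lit 33, nat_lit 31], (nat_lit 79), ⟨[nat_lit 32, nat_lit 53], [nat_lit 26, nat_lit 61], ⟨[nat_lit 0x62cd26a6654120e8bd47a5ec3a8820], [nat_lit 174080, nat_lit 168448, nat_lit 166144, nat_lit 163712, nat_lit 158848, nat_lit 151680, nat_lit 147952, nat_lit 143728, nat_lit 141668, nat_lit 137250, nat_lit 131924, nat_lit 1478, nat_lit 4100, nat_lit 9664, nat_lit 14048, nat_lit 18272,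 nat_lit 22208, nat_lit 25856, nat_lit 33792, nat_lit 41941, nat_lit 37227, nat_lit 32795, nat_lit 28793, nat_lit 24578, nat_lit 20635, nat_lit 16515, nat_lit 12309, nat_lit 8194, nat_lit 4100]⟩⟩⟩, ⟨[nat_lit 20, nat_lit 23, nat_lit 22, nat_lit 22], [], (nat_lit 78), ⟨[nat_lit 7, nat_lit 63], [nat_lit 14, nat_lit 50], ⟨[nat_lit 0x19ca4aae4c745377d268541b630820], [nat_lit 173056, nat_lit 169984, nat_lit 166656, nat_lit 162048, nat_lit 158336, nat_lit 151712, nat_lit 149696, nat_lit 146440, nat_lit 140024, nat_lit 137294, nat_lit 131978, nat_lit 986, nat_lit 4100, nat_lit 9216, nat_lit 13264, nat_lit 17760, nat_lit 20800, nat_lit 25728, nat_lit 30464, nat_lit 33792, nat_lit 37888, nat_lit 41934, nat_lit 38336, nat_lit 32782, nat_lit 28765, nat_lit 24761, nat_lit 20510, nat_lit 16423, nat_lit 12294, nat_lit 8200, nat_lit 4100]⟩⟩⟩⟩]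

theorem dcLr40 : Rng dcL 40 42 := Rng.of (l := dcLc40) (by decide +kernel)

def dcLc42 : List Cert := [.edge tw0 ⟨(nat_lit 1), ⟨[], [], (nat_lit 61), tw0⟩, ⟨[nat_lit 10, nat_lit 9, nat_lit 15, nat_lit 10], [], (nat_lit 60), ⟨[nat_lit 7, nat_lit 50], [nat_lit 38, nat_lit 63], ⟨[nat_lit 0x41db2325d1611532be0b1d6d4b8820], [nat_lit 174080, nat_lit 169472, nat_lit 167680, nat_lit 163328, nat_lit 159040, nat_lit 152512, nat_lit 148000, nat_lit 143880, nat_lit 141756, nat_lit 137542, nat_lit 131156, nat_lit 1478, nat_lit 4100, nat_lit 9664, nat_lit 13056, nat_lit 17472, nat_lit 26496, nat_lit 30208, nat_lit 37888, nat_lit 41767, nat_lit 38225, nat_lit 33979, nat_lit 29029, nat_lit 24578, nat_lit 20635, nat_lit 16523, nat_lit 12420, nat_lit 8194, nat_lit 4100]⟩⟩⟩⟩,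
  .defn,
  .stab (nat_lit 86) tw0 ⟨(nat_lit 0), ⟨[nat_lit 34, nat_lit 38, nat_lit 33, nat_lit 32, nat_lit 32, nat_lit 32, nat_lit 32], [], (nat_lit 86), ⟨[nat_lit 84, nat_lit 70], [nat_lit 0, nat_lit 32, nat_lit 63], ⟨[nat_lit 0x3ddb2812ae9bcd45a5432c6cc40820], [nat_lit 173056, nat_lit 165120, nat_lit 160128, nat_lit 155712, nat_lit 152352, nat_lit 149760, nat_lit 145056, nat_lit 140016, nat_lit 136216, nat_lit 131129, nat_lit 16, nat_lit 4112, nat_lit 8208, nat_lit 12336, nat_lit 16640, nat_lit 22400, nat_lit 24832, nat_lit 29184, nat_lit 33792, nat_lit 41744, nat_lit 37987, nat_lit 32936, nat_lit 28681, nat_lit 25095, nat_lit 20548, nat_lit 16398, nat_lit 12310]⟩⟩⟩, ap0⟩]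

theorem dcLr42 : Rng dcL 42 45 := Rng.of (l := dcLc42) (by decide +kernel)

def dcLc45 : List Cert := [.stab (nat_lit 86) tw0 ⟨(nat_lit 0), ⟨[nat_lit 35, nat_lit 38, nat_lit 35, nat_lit 32, nat_lit 31, nat_lit 31], [], (nat_lit 86), ⟨[nat_lit 0, nat_lit 37, nat_lit 52], [nat_lit 64], ⟨[nat_lit 0x4c88f541a68958872e67a56e3b0820], [nat_lit 168960, nat_lit 164608, nat_lit 160640, nat_lit 158336, nat_lit 153120, nat_lit 149280, nat_lit 143432, nat_lit 140092, nat_lit 137000, nat_lit 131942, nat_lit 64, nat_lit 4160, nat_lit 8256, nat_lit 12976, nat_lit 17120, nat_lit 22336, nat_lit 25600, nat_lit 29184, nat_lit 33792, nat_lit 37888, nat_lit 41955, nat_lit 38238, nat_lit 32879, nat_lit 28757, nat_lit 20504, nat_lit 16392, nat_lit 12289]⟩⟩⟩, ap0⟩,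
  .stab (nat_lit 86) tw0 ⟨(nat_lit 0), ⟨[nat_lit 33, nat_lit 37, nat_lit 34, nat_lit 38, nat_lit 32, nat_lit 33, nat_lit 32], [], (nat_lit 86), ⟨[nat_lit 22, nat_lit 65], [], ⟨[nat_lit 0x2b53332d92a5ae351e2f821c4a8820], [nat_lit 169984, nat_lit 166912, nat_lit 163328, nat_lit 157824, nat_lit 150384, nat_lit 147088, nat_lit 139680, nat_lit 137452, nat_lit 132974, nat_lit 986, nat_lit 4100, nat_lit 9528, nat_lit 13264, nat_lit 18144, nat_lit 22336, nat_lit 24704, nat_lit 28928, nat_lit 33280, nat_lit 37888, nat_lit 41894, nat_lit 38314, nat_lit 32894, nat_lit 28762, nat_lit 24764, nat_lit 20507, nat_lit 16390, nat_lit 12295, nat_lit 8201, nat_lit 4100]⟩⟩⟩, ap0⟩,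
  .stab (nat_lit 86) tw0 ⟨(nat_lit 0), ⟨[nat_lit 31, nat_lit 34, nat_lit 35, nat_lit 37, nat_lit 32, nat_lit 31, nat_lit 34], [], (nat_lit 86), ⟨[nat_lit 26, nat_lit 70], [nat_lit 0, nat_lit 32, nat_lit 63], ⟨[nat_lit 0x749455922d7991361d30adc76a0820], [nat_lit 168448, nat_lit 164608, nat_lit 160640, nat_lit 153440, nat_lit 151104, nat_lit 144656, nat_lit 139436, nat_lit 131773, nat_lit 16, nat_lit 4112, nat_lit 8208, nat_lit 12928, nat_lit 16416, nat_lit 20608, nat_lit 25344, nat_lit 28928, nat_lit 41701, nat_lit 37296, nat_lit 33344, nat_lit 29000, nat_lit 24605, nat_lit 20496, nat_lit 16393, nat_lit 12305]⟩⟩⟩, ap0⟩]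

theorem dcLr45 : Rng dcL 45 48 := Rng.of (l := dcLc45) (by decide +kernel)

def dcLc48 : List Cert := [.edge ⟨[nat_lit 22, nat_lit 56], [nat_lit 0, nat_lit 38, nat_lit 55], ⟨[nat_lit 0x21ca6735ecbda959c2515a54818820], [nat_lit 173056, nat_lit 168448, nat_lit 165888, nat_lit 163584, nat_lit 159616, nat_lit 155200, nat_lit 147984, nat_lit 146248, nat_lit 143144, nat_lit 135572, nat_lit 133762, nat_lit 2, nat_lit 4100, nat_lit 8680, nat_lit 12544, nat_lit 16672, nat_lit 21696, nat_lit 25472, nat_lit 29440, nat_lit 33280, nat_lit 37888, nat_lit 41577, nat_lit 37251, nat_lit 33448, nat_lit 29273, nat_lit 24747, nat_lit 20491, nat_lit 16458, nat_lit 12304, nat_lit 8195, nat_lit 4100, nat_lit 2]⟩⟩ ⟨(nat_lit 2), ⟨[], [], (nat_lit 87), ⟨[nat_lit 0, nat_lit 14, nat_lit 53], [nat_lit 0, nat_lit 37, nat_lit 50], ⟨[nat_lit 0x3a9f59c0726928bbb8c96151688820], [nat_lit 169472, nat_lit 164096, nat_lit 160384, nat_lit 157888, nat_lit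 144520, nat_lit 141224, nat_lit 135854, nat_lit 131527, nat_lit 64, nat_lit 4160, nat_lit 8256, nat_lit 12528, nat_lit 17120, nat_lit 22144, nat_lit 29696, nat_lit 41152, nat_lit 36952, nat_lit 32902, nat_lit 28998, nat_lit 20483, nat_lit 16897, nat_lit 12305]⟩⟩⟩, ⟨[nat_lit 33, nat_lit 36], [], (nat_lit 82), ⟨[nat_lit 32, nat_lit 57], [nat_lit 13, nat_lit 67], ⟨[nat_lit 0x7b06d950aa3ae76a920835e2970820], [nat_lit 164864, nat_lit 160256, nat_lit 155712, nat_lit 155552, nat_lit 147808, nat_lit 143400, nat_lit 141024, nat_lit 135820, nat_lit 131636, nat_lit 32, nat_lit 4128, nat_lit 8224, nat_lit 13936, nat_lit 16960, nat_lit 21952, nat_lit 26368, nat_lit 33280, nat_lit 41493, nat_lit 36960, nat_lit 32992, nat_lit 28768, nat_lit 24723, nat_lit 20509, nat_lit 16427, nat_lit 12321]⟩⟩⟩⟩,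
  .edge tw0 ⟨(nat_lit 1), ⟨[], [], (nat_lit 87), tw0⟩, ⟨[nat_lit 31, nat_lit 35, nat_lit 35], [], (nat_lit 86), ⟨[nat_lit 37, nat_lit 54], [nat_lit 26, nat_lit 56], ⟨[nat_lit 0x355922c1f774ec748d0a6d22458820], [nat_lit 173056, nat_lit 169472, nat_lit 159872, nat_lit 159552, nat_lit 153344, nat_lit 147776, nat_lit 144464, nat_lit 141160, nat_lit 136306, nat_lit 132204, nat_lit 64, nat_lit 4160, nat_lit 8256, nat_lit 13264, nat_lit 16448, nat_lit 21504, nat_lit 29184, nat_lit 34304, nat_lit 41056, nat_lit 37048, nat_lit 32787, nat_lit 29304, nat_lit 24629, nat_lit 20565, nat_lit 12290]⟩⟩⟩⟩,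
  .stab (nat_lit 97) tw0 ⟨(nat_lit 0), ⟨[nat_lit 32, nat_lit 36, nat_lit 34, nat_lit 34, nat_lit 36, nat_lit 36], [], (nat_lit 86), ⟨[nat_lit 21, nat_lit 67], [nat_lit 0, nat_lit 7, nat_lit 64], ⟨[nat_lit 0x99ecbba4d1822a492a856bc6c70820], [nat_lit 175104, nat_lit 168960, nat_lit 166656, nat_lit 161920, nat_lit 159680, nat_lit 152352, nat_lit 148800, nat_lit 144304, nat_lit 141796, nat_lit 137342, nat_lit 1478, nat_lit 4100, nat_lit 9664, nat_lit 13120, nat_lit 18336, nat_lit 22272, nat_lit 26496, nat_lit 30208, nat_lit 33792, nat_lit 37888, nat_lit 41322, nat_lit 36930, nat_lit 33960, nat_lit 28682, nat_lit 24578, nat_lit 20508, nat_lit 16392, nat_lit 12310, nat_lit 8194, nat_lit 4100]⟩⟩⟩, ap0⟩]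

theorem dcLr48 : Rng dcL 48 51 := Rng.of (l := dcLc48) (by decide +kernel)

def dcLc51 : List Cert := [.prod [] [nat_lit 47, nat_lit 47, nat_lit 47, nat_lit 50],
  .prod [] [nat_lit 50, nat_lit 51, nat_lit 44, nat_lit 46],
  .prod [] [nat_lit 50, nat_lit 52, nat_lit 51, nat_lit 52],
  .edge tw0 ⟨(nat_lit 0), ⟨[], [], (nat_lit 17), tw0⟩, ap0⟩,
  .edge tw0 ⟨(nat_lit 0), ⟨[], [], (nat_lit 61), tw0⟩, ap0⟩,
  .edge tw0 ⟨(nat_lit 0), ⟨[nat_lit 33, nat_lit 31], [nat_lit 33, nat_lit 31], (nat_lit 79), tw0⟩, ap0⟩]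

theorem dcLr51 : Rng dcL 51 57 := Rng.of (l := dcLc51) (by decide +kernel)

def dcLc57 : List Cert := [.prod [] [nat_lit 1, nat_lit 2, nat_lit 2, nat_lit 5, nat_lit 3],
  .prod [] [nat_lit 6, nat_lit 5, nat_lit 6, nat_lit 6, nat_lit 3],
  .prod [] [nat_lit 6, nat_lit 3, nat_lit 2, nat_lit 7, nat_lit 1],
  .prod [] [nat_lit 5, nat_lit 2, nat_lit 3, nat_lit 2, nat_lit 1],
  .prod [] [nat_lit 4, nat_lit 5, nat_lit 1, nat_lit 4, nat_lit 5],
  .prod [] [nat_lit 13, nat_lit 16, nat_lit 16, nat_lit 12, nat_lit 14],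
  .prod [] [nat_lit 14, nat_lit 14, nat_lit 9, nat_lit 9, nat_lit 15],
  .prod [] [nat_lit 10, nat_lit 9, nat_lit 9, nat_lit 12, nat_lit 9]]

theorem dcLr57 : Rng dcL 57 65 := Rng.of (l := dcLc57) (by decide +kernel)

def dcLc65 : List Cert := [.prod [] [nat_lit 9, nat_lit 12, nat_lit 11, nat_lit 10, nat_lit 15],
  .prod [] [nat_lit 11, nat_lit 9, nat_lit 14, nat_lit 16, nat_lit 16],
  .prod [] [nat_lit 28, nat_lit 21, nat_lit 29, nat_lit 22, nat_lit 29],
  .prod [] [nat_lit 23, nat_lit 23, nat_lit 21, nat_lit 26, nat_lit 20],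
  .prod [] [nat_lit 28, nat_lit 23, nat_lit 20, nat_lit 28, nat_lit 29],
  .prod [] [nat_lit 20, nat_lit 26, nat_lit 23, nat_lit 28, nat_lit 22],
  .prod [] [nat_lit 20, nat_lit 20, nat_lit 29, nat_lit 27, nat_lit 29],
  .prod [] [nat_lit 31, nat_lit 31, nat_lit 38, nat_lit 31, nat_lit 38]]

theorem dcLr65 : Rng dcL 65 73 := Rng.of (l := dcLc65) (by decide +kernel)

def dcLc73 : List Cert := [.prod [] [nat_lit 33, nat_lit 32, nat_lit 38, nat_lit 31, nat_lit 31],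
  .prod [] [nat_lit 35, nat_lit 35, nat_lit 33, nat_lit 34, nat_lit 36],
  .prod [] [nat_lit 31, nat_lit 36, nat_lit 31, nat_lit 34, nat_lit 34],
  .prod [] [nat_lit 32, nat_lit 36, nat_lit 38, nat_lit 32, nat_lit 34],
  .prod [] [nat_lit 45, nat_lit 44, nat_lit 53, nat_lit 44, nat_lit 53],
  .prod [] [nat_lit 45, nat_lit 44, nat_lit 44, nat_lit 52, nat_lit 46],
  .prod [] [nat_lit 44, nat_lit 44, nat_lit 45, nat_lit 47, nat_lit 46],
  .prod [] [nat_lit 51, nat_lit 47, nat_lit 45, nat_lit 53, nat_lit 50]]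

theorem dcLr73 : Rng dcL 73 81 := Rng.of (l := dcLc73) (by decide +kernel)

def dcLc81 : List Cert := [.prod [] [nat_lit 53, nat_lit 47, nat_lit 46, nat_lit 52, nat_lit 45]]

theorem dcLr81 : Rng dcL 81 82 := Rng.of (l := dcLc81) (by decide +kernel)

theorem dcLR0 : Rng dcL 0 82 := (dcLr0.trans (dcLr11.trans (dcLr16.trans (dcLr20.trans (dcLr23.trans (dcLr26.trans (dcLr32.trans (dcLr36.trans (dcLr40.trans (dcLr42.trans (dcLr45.trans (dcLr48.trans (dcLr51.trans (dcLr57.trans (dcLr65.trans (dcLr73.trans dcLr81))))))))))))))))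

end

end CF.Mon
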