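import Cfsg.Agent.Mon.Dc
import Cfsg.Agent.Mon.NdM

set_option autoImplicit false
set_option maxRecDepth 100000

namespace CF.Mon

open CF.Comp

noncomputable section

def dcME25 : BT El := (.node (nat_lit 204) (.node (nat_lit 202) (.node (nat_lit 201) (.leaf ⟨[nat_lit 0x18bde21bec9651005542d39646bb96284e24, nat_lit 0x1b4b27ac18508c4a245d679a576d26758109, nat_lit 0xebbb27354961c032b9cb4429ae8881362d2f], [nat_lit 65536, nat_lit 69632, nat_lit 81920, nat_lit 86016, nat_lit 90112, nat_lit 178176, nat_lit 167168, nat_lit 160000, nat_lit 159360, nat_lit 153760, nat_lit 148016, nat_lit 145800, nat_lit 143344, nat_lit 136456, nat_lit 132608, nat_lit 2508, nat_lit 6940, nat_lit 12008, nat_lit 15680, nat_lit 18624, nat_lit 20800, nat_lit 25344, nat_lit 36352, nat_lit 43008, nat_lit 45495, nat_lit 41488, nat_lit 38119, nat_lit 32900, nat_lit 28791, nat_lit 24743, nat_lit 20608, nat_lit 16399, nat_lit 12311, nat_lit 8208, nat_lit 4100, nat_lit 425989, nat_lit 409602, nat_lit 397312, nat_lit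 139568, nat_lit 45072, nat_lit 40976, nat_lit 36880, nat_lit 28688, nat_lit 12295, nat_lit 327680]⟩)
 (.leaf ndMr6_16))
 (.node (nat_lit 203) (.leaf ⟨[nat_lit 0x8187285aad4681c32ce470b04fadd0934490, nat_lit 0x8bd1877c0720a58b05ecd32234110ae54ea7, nat_lit 0x7e22e12a4069548e81eed40e3363d41a5962], [nat_lit 73728, nat_lit 77824, nat_lit 81920, nat_lit 106496, nat_lit 175104, nat_lit 171008, nat_lit 167424, nat_lit 161664, nat_lit 156992, nat_lit 152288, nat_lit 148640, nat_lit 146816, nat_lit 139332, nat_lit 137452, nat_lit 134145, nat_lit 1462, nat_lit 5516, nat_lit 11464, nat_lit 15264, nat_lit 20288, nat_lit 22336, nat_lit 27264, nat_lit 28928, nat_lit 34304, nat_lit 37888, nat_lit 43008, nat_lit 45632, nat_lit 41706, nat_lit 37100, nat_lit 32848, nat_lit 29240, nat_lit 24724, nat_lit 20508, nat_lit 16390, nat_lit 12327, nat_lit 8194, nat_lit 4097, nat_lit 430087, nat_lit 417797, nat_lit 409602, nat_lit 397312, nat_lit 155776, nat_lit 152128, nat_lit 148128, nat_lit 139360, nat_lit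 135892, nat_lit 131792, nat_lit 45203, nat_lit 41158, nat_lit 32882, nat_lit 12292]⟩)
 (.leaf ndMr6_45)))
 (.node (nat_lit 206) (.node (nat_lit 205) (.leaf ⟨[nat_lit 0xb7dee4a5462994d2bd80143d4e89e045a58d, nat_lit 0xaf93f694ea3636e1350450257681d4f74504, nat_lit 0x4b4142436438282eb1eb44cde20458b25ca6, nat_lit 0xc6030aac0ea1cdf2bae253100c1250db3834], [nat_lit 65536, nat_lit 69632, nat_lit 73728, nat_lit 77824, nat_lit 86016, nat_lit 94208, nat_lit 106496, nat_lit 175104, nat_lit 168960, nat_lit 165376, nat_lit 161920, nat_lit 159104, nat_lit 154272, nat_lit 147472, nat_lit 143400, nat_lit 141900, nat_lit 136302, nat_lit 131492, nat_lit 3970, nat_lit 7736, nat_lit 9320, nat_lit 16336, nat_lit 18912, nat_lit 20672, nat_lit 26752, nat_lit 33792, nat_lit 39936, nat_lit 43008, nat_lit 45276, nat_lit 41754, nat_lit 38143, nat_lit 33333, nat_lit 28735, nat_lit 24599, nat_lit 20618, nat_lit 16416, nat_lit 12423, nat_lit 8209, nat_lit 4160, nat_lit 438282, nat_lit 425991, nat_lit 417797,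 nat_lit 409603, nat_lit 397312, nat_lit 160768, nat_lit 151744, nat_lit 148576, nat_lit 144432, nat_lit 135560, nat_lit 132528, nat_lit 36866, nat_lit 8194, nat_lit 327680]⟩)
 (.leaf ndMr6_58))
 (.node (nat_lit 207) (.leaf ⟨[nat_lit 0x7d2b249581150aeb7a2670b9b52506533130, nat_lit 0xd42412aded47b9ac18041942335216931ca4], [nat_lit 65536, nat_lit 69632, nat_lit 77824, nat_lit 86016, nat_lit 94208, nat_lit 98304, nat_lit 102400, nat_lit 106496, nat_lit 178176, nat_lit 174080, nat_lit 168960, nat_lit 166144, nat_lit 160128, nat_lit 159552, nat_lit 151936, nat_lit 149568, nat_lit 143472, nat_lit 142036, nat_lit 138692, nat_lit 131523, nat_lit 3776, nat_lit 5444, nat_lit 9088, nat_lit 12304, nat_lit 16512, nat_lit 22656, nat_lit 27648, nat_lit 29440, nat_lit 33280, nat_lit 45096, nat_lit 41970, nat_lit 38273, nat_lit 33814, nat_lit 28983, nat_lit 24752, nat_lit 20499, nat_lit 16388, nat_lit 14336, nat_lit 8208, nat_lit 4129, nat_lit 32, nat_lit 425989, nat_lit 409600, nat_lit 131360,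 nat_lit 40976, nat_lit 28688, nat_lit 12289, nat_lit 8193, nat_lit 4097]⟩)
 (.leaf ndMr6_35))))

theorem dcME25_ok : dcME25.all (elB (nat_lit 0)) = true := by decide +kernel

def dcME26 : BT El := (.node (nat_lit 212) (.node (nat_lit 210) (.node (nat_lit 209) (.leaf ⟨[nat_lit 0x4b7d1810d800b5ee8aa869a2a722ed0ba4b2, nat_lit 0x1174149c6150b5443a5c01998b43c45a4af6, nat_lit 0xeeb8be824ae1d8015be262351391d8a152f5], [nat_lit 73728, nat_lit 77824, nat_lit 90112, nat_lit 102400, nat_lit 110592, nat_lit 171520, nat_lit 161664, nat_lit 157184, nat_lit 152480, nat_lit 150352, nat_lit 145920, nat_lit 141676, nat_lit 138398, nat_lit 134875, nat_lit 842, nat_lit 5992, nat_lit 9024, nat_lit 12912, nat_lit 17952, nat_lit 22144, nat_lit 28288, nat_lit 29696, nat_lit 35328, nat_lit 43008, nat_lit 47084, nat_lit 41106, nat_lit 37004, nat_lit 34907, nat_lit 28779, nat_lit 24636, nat_lit 20489, nat_lit 16396, nat_lit 12294, nat_lit 8201, nat_lit 4, nat_lit 434184, nat_lit 421893, nat_lit 409600, nat_lit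 160768, nat_lit 152576, nat_lit 147616, nat_lit 132528, nat_lit 45057, nat_lit 36865, nat_lit 8193, nat_lit 327680]⟩)
 (.leaf ndMr6_57))
 (.node (nat_lit 211) (.leaf ⟨[nat_lit 0x8b2e87ada974a90b94e11310e500462639ed, nat_lit 0x33c3c621ca69423373d8da56f65a12a08803], [nat_lit 73728, nat_lit 86016, nat_lit 90112, nat_lit 94208, nat_lit 98304, nat_lit 102400, nat_lit 106496, nat_lit 110592, nat_lit 178176, nat_lit 175104, nat_lit 168960, nat_lit 167168, nat_lit 160512, nat_lit 157952, nat_lit 154720, nat_lit 148128, nat_lit 146280, nat_lit 139780, nat_lit 136706, nat_lit 132753, nat_lit 428, nat_lit 5768, nat_lit 10224, nat_lit 16160, nat_lit 20192, nat_lit 21760, nat_lit 26240, nat_lit 31744, nat_lit 34304, nat_lit 38912, nat_lit 43008, nat_lit 45067, nat_lit 41979, nat_lit 37954, nat_lit 33518, nat_lit 28683, nat_lit 24583, nat_lit 20484, nat_lit 16649, nat_lit 12294, nat_lit 8203, nat_lit 4104, nat_lit 4, nat_lit 425989, nat_lit 409600, nat_lit 151808, nat_lit 147744, nat_lit 131088,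 nat_lit 40976, nat_lit 28688, nat_lit 12289, nat_lit 8193, nat_lit 4097]⟩)
 (.leaf ndMr6_23)))
 (.node (nat_lit 214) (.node (nat_lit 213) (.leaf ⟨[nat_lit 0x93faf9709072bc0968c8b8527233141adaf1, nat_lit 0x8bde889864c22e36114efbd46da1a0a72120, nat_lit 0x4b82e7aa06d5966a304513cad4811ec025d7], [nat_lit 65536, nat_lit 77824, nat_lit 81920, nat_lit 98304, nat_lit 102400, nat_lit 106496, nat_lit 171008, nat_lit 166656, nat_lit 162304, nat_lit 156800, nat_lit 153984, nat_lit 147968, nat_lit 145760, nat_lit 140508, nat_lit 136780, nat_lit 133118, nat_lit 2780, nat_lit 7620, nat_lit 10336, nat_lit 13216, nat_lit 16576, nat_lit 23424, nat_lit 27008, nat_lit 32000, nat_lit 34816, nat_lit 37888, nat_lit 43008, nat_lit 46268, nat_lit 41187, nat_lit 36884, nat_lit 32867, nat_lit 29768, nat_lit 24867, nat_lit 20497, nat_lit 16426, nat_lit 12304, nat_lit 8704, nat_lit 4097, nat_lit 2, nat_lit 425990, nat_lit 413700, nat_lit 405506, nat_lit 397312, nat_lit 143472, nat_lit 139592, nat_lit 135532,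 nat_lit 131352, nat_lit 45090, nat_lit 41046, nat_lit 36879, nat_lit 28688]⟩)
 (.leaf ndMr6_49))
 (.node (nat_lit 215) (.leaf ⟨[nat_lit 0xc333c6b19f048697010a889ead1b94c98972, nat_lit 0xa0c6c0ac0e878297315c35092d64641b4c8b, nat_lit 0xacf3502dd7181d5533080125a894de3a05d6, nat_lit 0xa9aa00820e95ddc104864aa9a2a46c534dec], [nat_lit 73728, nat_lit 77824, nat_lit 86016, nat_lit 102400, nat_lit 110592, nat_lit 168960, nat_lit 164864, nat_lit 160128, nat_lit 158464, nat_lit 154784, nat_lit 147728, nat_lit 146048, nat_lit 140284, nat_lit 138456, nat_lit 134754, nat_lit 3262, nat_lit 7736, nat_lit 11744, nat_lit 14656, nat_lit 16416, nat_lit 21312, nat_lit 28544, nat_lit 30464, nat_lit 34816, nat_lit 39936, nat_lit 46861, nat_lit 41701, nat_lit 37343, nat_lit 33426, nat_lit 28783, nat_lit 24636, nat_lit 20544, nat_lit 16416, nat_lit 12304, nat_lit 8193, nat_lit 4225, nat_lit 430088, nat_lit 421894, nat_lit 413700, nat_lit 405506, nat_lit 397312, nat_lit 160000, nat_lit 156032, nat_lit 151936,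 nat_lit 147488, nat_lit 144352, nat_lit 140016, nat_lit 135644, nat_lit 131384, nat_lit 45320, nat_lit 41955, nat_lit 327680]⟩)
 (.leaf ndMr6_21))))

theorem dcME26_ok : dcME26.all (elB (nat_lit 0)) = true := by decide +kernel

def dcME27 : BT El := (.node (nat_lit 220) (.node (nat_lit 218) (.node (nat_lit 217) (.leaf ⟨[nat_lit 0x3c5a58c253a9cf6d85235d356027482091, nat_lit 0x118b1431dc16dae35204c2d133041f259235, nat_lit 0x418171228b33d44e1c9218a2f633680831eb, nat_lit 0x63395312c697bad7910d152020651b53c265], [nat_lit 65536, nat_lit 73728, nat_lit 81920, nat_lit 86016, nat_lit 94208, nat_lit 106496, nat_lit 175104, nat_lit 168448, nat_lit 164864, nat_lit 161664, nat_lit 158592, nat_lit 154912, nat_lit 149856, nat_lit 145632, nat_lit 141052, nat_lit 139104, nat_lit 133478, nat_lit 870, nat_lit 8008, nat_lit 11272, nat_lit 13536, nat_lit 19264, nat_lit 20672, nat_lit 27520, nat_lit 31744, nat_lit 33280, nat_lit 39936, nat_lit 43008, nat_lit 45881, nat_lit 41590, nat_lit 38289, nat_lit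 33298, nat_lit 28969, nat_lit 24758, nat_lit 20551, nat_lit 16397, nat_lit 12306, nat_lit 8194, nat_lit 4097, nat_lit 2, nat_lit 430088, nat_lit 421894, nat_lit 413700, nat_lit 405506, nat_lit 397312, nat_lit 160512, nat_lit 156416, nat_lit 151872, nat_lit 148128, nat_lit 144064, nat_lit 140160, nat_lit 135348, nat_lit 131214, nat_lit 45411, nat_lit 41510, nat_lit 327680]⟩)
 (.leaf ndMr6_48))
 (.node (nat_lit 219) (.leaf ⟨[nat_lit 0x55060c7ac220161762a968ba48a9073399a9, nat_lit 0x7d24d432df2ba0091d5ae62a272903484c56, nat_lit 0xdd47dd524f47444b280757a0329c2e4619b6, nat_lit 0xbd2d8248254ac4481b4c15118b75ae79c1e5], [nat_lit 65536, nat_lit 69632, nat_lit 73728, nat_lit 81920, nat_lit 86016, nat_lit 90112, nat_lit 98304, nat_lit 174080, nat_lit 169984, nat_lit 166912, nat_lit 162304, nat_lit 157696, nat_lit 152416, nat_lit 148304, nat_lit 146720, nat_lit 142812, nat_lit 139180, nat_lit 134043, nat_lit 492, nat_lit 6888, nat_lit 9368, nat_lit 15440, nat_lit 18336, nat_lit 22272, nat_lit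 26752, nat_lit 30464, nat_lit 35328, nat_lit 39936, nat_lit 46982, nat_lit 43604, nat_lit 37177, nat_lit 33441, nat_lit 28957, nat_lit 25603, nat_lit 20488, nat_lit 16394, nat_lit 12304, nat_lit 8321, nat_lit 4104, nat_lit 64, nat_lit 434185, nat_lit 425990, nat_lit 413700, nat_lit 405506, nat_lit 397312, nat_lit 168960, nat_lit 165376, nat_lit 156160, nat_lit 153408, nat_lit 147744, nat_lit 145248, nat_lit 141064, nat_lit 136304, nat_lit 132400, nat_lit 45135, nat_lit 28790]⟩)
 (.leaf ndMr6_30)))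
 (.node (nat_lit 222) (.node (nat_lit 221) (.leaf ⟨[nat_lit 0x59995a82a4f40980badd428636698893d663, nat_lit 0x4d4b1e0956085c4fb2895721a689e4964e83, nat_lit 0xcc59f726cc2a2e6508153862f191b2a2e70, nat_lit 0x4278bb2bd883aab60d20e30d6204db791131], [nat_lit 102400, nat_lit 106496, nat_lit 178176, nat_lit 173056, nat_lit 170496, nat_lit 166656, nat_lit 160384, nat_lit 159616, nat_lit 153952, nat_lit 150384, nat_lit 147200, nat_lit 139932, nat_lit 136890, nat_lit 132450, nat_lit 2894, nat_lit 5192, nat_lit 9472, nat_lit 15936, nat_lit 16736, nat_lit 22144, nat_lit 30464, nat_lit 36352, nat_lit 38912, nat_lit 43008, nat_lit 46746, nat_lit 41239, nat_lit 38994, nat_lit 33884, nat_lit 28721, nat_lit 24881, nat_lit 20557, nat_lit 16399, nat_lit 12307, nat_lit 8193, nat_lit 4097, nat_lit 438282, nat_lit 430088, nat_lit 421894, nat_lit 413700, nat_lit 405506, nat_lit 397312, nat_lit 174080, nat_lit 165376, nat_lit 160768, nat_lit 156288, nat_lit 151872, nat_lit 149728, nat_lit 146096, nat_lit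 143072, nat_lit 137076, nat_lit 132462]⟩)
 (.leaf ndMr6_6))
 (.node (nat_lit 223) (.leaf ⟨[nat_lit 0x33f0933844c2ce4f4c014419ca25aadbae23, nat_lit 0x6ca0306a2aab38c4140e96502093e375cca3, nat_lit 0x9cfaf624cd263c6073422a22c9aa97789e05], [nat_lit 77824, nat_lit 81920, nat_lit 178176, nat_lit 173056, nat_lit 171008, nat_lit 165888, nat_lit 161280, nat_lit 156416, nat_lit 152768, nat_lit 147520, nat_lit 147448, nat_lit 140664, nat_lit 135204, nat_lit 132118, nat_lit 300, nat_lit 5696, nat_lit 10456, nat_lit 15328, nat_lit 17504, nat_lit 21568, nat_lit 28032, nat_lit 29440, nat_lit 37888, nat_lit 46088, nat_lit 43331, nat_lit 37347, nat_lit 33412, nat_lit 28730, nat_lit 24587, nat_lit 20496, nat_lit 16428, nat_lit 12304, nat_lit 8201, nat_lit 4160, nat_lit 425991, nat_lit 417797, nat_lit 409602, nat_lit 397312, nat_lit 155904, nat_lit 151616, nat_lit 147520, nat_lit 139616, nat_lit 135552, nat_lit 131410, nat_lit 45061, nat_lit 41093, nat_lit 37014, nat_lit 12295]⟩)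
 (.leaf ndMr2_6))))

theorem dcME27_ok : dcME27.all (elB (nat_lit 0)) = true := by decide +kernel

def dcME28 : BT El := (.node (nat_lit 228) (.node (nat_lit 226) (.node (nat_lit 225) (.leaf ⟨[nat_lit 0x6a66c6ba9d429da8246a05c9f0b1a620a583], [nat_lit 90112, nat_lit 98304, nat_lit 106496, nat_lit 178176, nat_lit 175104, nat_lit 170496, nat_lit 165632, nat_lit 161408, nat_lit 155776, nat_lit 151872, nat_lit 147984, nat_lit 144400, nat_lit 139276, nat_lit 135218, nat_lit 132026, nat_lit 1174, nat_lit 6452, nat_lit 11712, nat_lit 13552, nat_lit 18720, nat_lit 24000, nat_lit 27776, nat_lit 32512, nat_lit 36352, nat_lit 37888, nat_lit 41817, nat_lit 36998, nat_lit 33984, nat_lit 28969, nat_lit 24601, nat_lit 20505, nat_lit 16397, nat_lit 12295, nat_lit 8200, nat_lit 4097, nat_lit 327680]⟩)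
 (.leaf ⟨[nat_lit 0x1bbb28346b3a28e8058825b070696ee0bd32], [nat_lit 65536, nat_lit 73728, nat_lit 77824, nat_lit 90112, nat_lit 94208, nat_lit 98304, nat_lit 175104, nat_lit 169984, nat_lit 164864, nat_lit 161920, nat_lit 158592, nat_lit 154304, nat_lit 150352, nat_lit 144840, nat_lit 142560, nat_lit 139144, nat_lit 131564, nat_lit 1810, nat_lit 5572, nat_lit 10920, nat_lit 14176, nat_lit 19040, nat_lit 21248, nat_lit 24832, nat_lit 32000, nat_lit 34816, nat_lit 41345, nat_lit 36900, nat_lit 32833, nat_lit 28706, nat_lit 24832, nat_lit 20630, nat_lit 16397, nat_lit 12295, nat_lit 8202, nat_lit 4097]⟩))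
 (.node (nat_lit 227) (.leaf ⟨[nat_lit 0x99aca928ea6ba42b229f141dd014e92032cd], [nat_lit 65536, nat_lit 77824, nat_lit 81920, nat_lit 90112, nat_lit 98304, nat_lit 178176, nat_lit 173056, nat_lit 168960, nat_lit 165120, nat_lit 161536, nat_lit 155968, nat_lit 153760, nat_lit 151344, nat_lit 147000, nat_lit 140008, nat_lit 137026, nat_lit 133516, nat_lit 3114, nat_lit 7824, nat_lit 9488, nat_lit 13552, nat_lit 16800, nat_lit 21504, nat_lit 28160, nat_lit 30720, nat_lit 33792, nat_lit 39936, nat_lit 43008, nat_lit 41107, nat_lit 37236, nat_lit 33394, nat_lit 29813, nat_lit 24604, nat_lit 20608, nat_lit 16458, nat_lit 12293, nat_lit 8201, nat_lit 4113]⟩)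
 (.leaf ⟨[nat_lit 0x63365ca01e59a650b1da14454b1dcce20995], [nat_lit 69632, nat_lit 73728, nat_lit 90112, nat_lit 94208, nat_lit 102400, nat_lit 178176, nat_lit 174080, nat_lit 165120, nat_lit 161280, nat_lit 156736, nat_lit 155424, nat_lit 151536, nat_lit 143792, nat_lit 142996, nat_lit 136978, nat_lit 133661, nat_lit 804, nat_lit 6456, nat_lit 8208, nat_lit 13552, nat_lit 18336, nat_lit 24320, nat_lit 26752, nat_lit 29696, nat_lit 34816, nat_lit 39936, nat_lit 43008, nat_lit 41935, nat_lit 38257, nat_lit 32988, nat_lit 28734, nat_lit 24638, nat_lit 20510, nat_lit 16394, nat_lit 12294, nat_lit 8200, nat_lit 4100, nat_lit 327680]⟩)))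
 (.node (nat_lit 230) (.node (nat_lit 229) (.leaf ⟨[nat_lit 0xd844bb344932c8f015aa05bda81d2e17312a], [nat_lit 77824, nat_lit 81920, nat_lit 86016, nat_lit 174080, nat_lit 167168, nat_lit 161536, nat_lit 158144, nat_lit 153952, nat_lit 150704, nat_lit 145824, nat_lit 141876, nat_lit 137392, nat_lit 131853, nat_lit 3858, nat_lit 7620, nat_lit 9032, nat_lit 15600, nat_lit 19040, nat_lit 23616, nat_lit 29184, nat_lit 38912, nat_lit 43008, nat_lit 41056, nat_lit 37061, nat_lit 28771, nat_lit 20501, nat_lit 16398, nat_lit 12292, nat_lit 8202]⟩)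
 (.leaf ⟨[nat_lit 0x11ded29b09431c4b6a5e14023095caeb5543], [nat_lit 65536, nat_lit 69632, nat_lit 73728, nat_lit 81920, nat_lit 86016, nat_lit 90112, nat_lit 98304, nat_lit 106496, nat_lit 178176, nat_lit 175104, nat_lit 170496, nat_lit 166144, nat_lit 159232, nat_lit 155392, nat_lit 149184, nat_lit 143536, nat_lit 140464, nat_lit 135348, nat_lit 131780, nat_lit 1174, nat_lit 7592, nat_lit 8824, nat_lit 12752, nat_lit 17440, nat_lit 23104, nat_lit 28032, nat_lit 29696, nat_lit 35840, nat_lit 43008, nat_lit 41154, nat_lit 37333, nat_lit 33452, nat_lit 29292, nat_lit 24619, nat_lit 20562, nat_lit 16428, nat_lit 12327, nat_lit 4104]⟩))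
 (.node (nat_lit 231) (.leaf ⟨[nat_lit 0x82424730a53bb228029275d9f0ad0a32382d], [nat_lit 73728, nat_lit 86016, nat_lit 94208, nat_lit 106496, nat_lit 168960, nat_lit 165120, nat_lit 161152, nat_lit 159680, nat_lit 153728, nat_lit 147872, nat_lit 143472, nat_lit 143300, nat_lit 138942, nat_lit 134656, nat_lit 2258, nat_lit 6068, nat_lit 10552, nat_lit 13968, nat_lit 17696, nat_lit 21120, nat_lit 24832, nat_lit 28928, nat_lit 34304, nat_lit 37888, nat_lit 43008, nat_lit 41754, nat_lit 38304, nat_lit 33018, nat_lit 28992, nat_lit 24832, nat_lit 20549, nat_lit 16429, nat_lit 12290, nat_lit 8194, nat_lit 4100, nat_lit 327680]⟩)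
 (.leaf ⟨[nat_lit 0x7bde7829133a562b0c943839a87dcc2030f6], [nat_lit 69632, nat_lit 90112, nat_lit 98304, nat_lit 178176, nat_lit 175104, nat_lit 169472, nat_lit 166912, nat_lit 161536, nat_lit 157120, nat_lit 155072, nat_lit 149728, nat_lit 144776, nat_lit 142784, nat_lit 137330, nat_lit 132886, nat_lit 902, nat_lit 5668, nat_lit 8824, nat_lit 15024, nat_lit 17312, nat_lit 23872, nat_lit 28416, nat_lit 29440, nat_lit 35840, nat_lit 37888, nat_lit 41746, nat_lit 37101, nat_lit 33005, nat_lit 28781, nat_lit 24619, nat_lit 20500, nat_lit 16421, nat_lit 12294, nat_lit 8195, nat_lit 4101, nat_lit 4, nat_lit 327680]⟩))))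

theorem dcME28_ok : dcME28.all (elB (nat_lit 0)) = true := by decide +kernel

def dcME29 : BT El := (.node (nat_lit 236) (.node (nat_lit 234) (.node (nat_lit 233) (.leaf ⟨[nat_lit 0xe2d718bbc14992cb60651854e8714c36a922], [nat_lit 65536, nat_lit 73728, nat_lit 90112, nat_lit 98304, nat_lit 102400, nat_lit 178176, nat_lit 173056, nat_lit 168960, nat_lit 164608, nat_lit 160640, nat_lit 159296, nat_lit 152352, nat_lit 148144, nat_lit 146872, nat_lit 140808, nat_lit 138250, nat_lit 134065, nat_lit 1814, nat_lit 5588, nat_lit 8208, nat_lit 15136, nat_lit 17184, nat_lit 24064, nat_lit 29696, nat_lit 34304, nat_lit 38912, nat_lit 41904, nat_lit 38139, nat_lit 33403, nat_lit 29696, nat_lit 25125, nat_lit 20574, nat_lit 16392, nat_lit 12295, nat_lit 8193, nat_lit 4, nat_lit 327680]⟩)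
 (.leaf ⟨[nat_lit 0x8b84be309e5a28f08b6404306b4de64a86ce], [nat_lit 77824, nat_lit 81920, nat_lit 86016, nat_lit 90112, nat_lit 94208, nat_lit 178176, nat_lit 173056, nat_lit 169472, nat_lit 166400, nat_lit 161536, nat_lit 155968, nat_lit 155072, nat_lit 149952, nat_lit 146104, nat_lit 143092, nat_lit 138576, nat_lit 133177, nat_lit 166, nat_lit 7592, nat_lit 8728, nat_lit 13376, nat_lit 18912, nat_lit 20800, nat_lit 26752, nat_lit 30464, nat_lit 34304, nat_lit 37888, nat_lit 43008, nat_lit 41462, nat_lit 37172, nat_lit 32831, nat_lit 28740, nat_lit 24621, nat_lit 20493, nat_lit 16397, nat_lit 12309, nat_lit 8195, nat_lit 327680]⟩))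
 (.node (nat_lit 235) (.leaf ⟨[nat_lit 0xa59f6f33073a35c823c125c6b0516e74d822], [nat_lit 65536, nat_lit 69632, nat_lit 77824, nat_lit 81920, nat_lit 94208, nat_lit 102400, nat_lit 178176, nat_lit 173056, nat_lit 169472, nat_lit 164608, nat_lit 162048, nat_lit 159232, nat_lit 151680, nat_lit 148336, nat_lit 144560, nat_lit 140660, nat_lit 138678, nat_lit 131185, nat_lit 488, nat_lit 4100, nat_lit 9040, nat_lit 13056, nat_lit 18112, nat_lit 24064, nat_lit 25728, nat_lit 29696, nat_lit 37888, nat_lit 41237, nat_lit 37361, nat_lit 32853, nat_lit 28760, nat_lit 24717, nat_lit 20502, nat_lit 16416, nat_lit 12423, nat_lit 4097]⟩)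
 (.leaf ⟨[nat_lit 0x5ca699a29a5bb8e81c9ec5a43001a64ac6c2], [nat_lit 65536, nat_lit 81920, nat_lit 90112, nat_lit 98304, nat_lit 102400, nat_lit 178176, nat_lit 174080, nat_lit 168960, nat_lit 166656, nat_lit 161536, nat_lit 158976, nat_lit 152832, nat_lit 148016, nat_lit 147008, nat_lit 142436, nat_lit 137136, nat_lit 131361, nat_lit 2748, nat_lit 7256, nat_lit 11696, nat_lit 12560, nat_lit 18944, nat_lit 22272, nat_lit 24832, nat_lit 31232, nat_lit 33280, nat_lit 41476, nat_lit 38251, nat_lit 32836, nat_lit 28735, nat_lit 24832, nat_lit 20635, nat_lit 16388, nat_lit 12420, nat_lit 4104, nat_lit 2]⟩)))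
 (.node (nat_lit 238) (.node (nat_lit 237) (.leaf ndMr7_0)
 (.leaf ⟨[nat_lit 0xe7e82423ab285da7446635d2c27854c024a6, nat_lit 0x72db245a50a08860b5e959461363dae290e6], [nat_lit 65536, nat_lit 77824, nat_lit 86016, nat_lit 94208, nat_lit 178176, nat_lit 174080, nat_lit 170496, nat_lit 165888, nat_lit 163456, nat_lit 159296, nat_lit 155232, nat_lit 147520, nat_lit 145248, nat_lit 142984, nat_lit 135886, nat_lit 133355, nat_lit 3808, nat_lit 5992, nat_lit 9904, nat_lit 14816, nat_lit 18912, nat_lit 21888, nat_lit 25856, nat_lit 29696, nat_lit 36352, nat_lit 43008, nat_lit 45823, nat_lit 41216, nat_lit 39039, nat_lit 33853, nat_lit 29288, nat_lit 24758, nat_lit 20632, nat_lit 16389, nat_lit 12359, nat_lit 8210, nat_lit 4, nat_lit 425989, nat_lit 409600, nat_lit 131360, nat_lit 40976, nat_lit 28688, nat_lit 12289, nat_lit 8193, nat_lit 4097, nat_lit 327680]⟩))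
 (.node (nat_lit 239) (.leaf ndMr3_15)
 (.leaf ⟨[nat_lit 0x36fcfa0a4808d46ca20b7534ee3417393c56, nat_lit 0xee74eb5d554618ae8c82304e024a2f623da7], [nat_lit 65536, nat_lit 94208, nat_lit 98304, nat_lit 110592, nat_lit 175104, nat_lit 169472, nat_lit 161536, nat_lit 158656, nat_lit 152608, nat_lit 149216, nat_lit 145200, nat_lit 141024, nat_lit 137592, nat_lit 131078, nat_lit 2332, nat_lit 8016, nat_lit 9568, nat_lit 13776, nat_lit 18944, nat_lit 24512, nat_lit 28288, nat_lit 31232, nat_lit 43008, nat_lit 45849, nat_lit 41035, nat_lit 37146, nat_lit 33347, nat_lit 28797, nat_lit 24740, nat_lit 20614, nat_lit 16416, nat_lit 12304, nat_lit 8320, nat_lit 4104, nat_lit 2, nat_lit 434184, nat_lit 409601, nat_lit 164864, nat_lit 148736, nat_lit 136464, nat_lit 28688, nat_lit 24578, nat_lit 20496, nat_lit 8194, nat_lit 327680]⟩))))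

theorem dcME29_ok : dcME29.all (elB (nat_lit 0)) = true := by decide +kernel

def dcME30 : BT El := (.node (nat_lit 244) (.node (nat_lit 242) (.node (nat_lit 241) (.leaf ndMr3_8)
 (.leaf ⟨[nat_lit 0x781be8642c801daebbe2b1ca654a881a0aa6, nat_lit 0x87d84d124c57cc975346e9402805a8b8b0f5], [nat_lit 65536, nat_lit 73728, nat_lit 77824, nat_lit 86016, nat_lit 94208, nat_lit 98304, nat_lit 106496, nat_lit 110592, nat_lit 174080, nat_lit 164864, nat_lit 162688, nat_lit 158464, nat_lit 153920, nat_lit 149232, nat_lit 144280, nat_lit 141196, nat_lit 137720, nat_lit 131865, nat_lit 3720, nat_lit 7484, nat_lit 11024, nat_lit 13040, nat_lit 20096, nat_lit 20992, nat_lit 26752, nat_lit 29696, nat_lit 34304, nat_lit 37888, nat_lit 43008, nat_lit 46963, nat_lit 43778, nat_lit 37287, nat_lit 33503, nat_lit 28738, nat_lit 24753, nat_lit 20553, nat_lit 16426, nat_lit 12292, nat_lit 8201, nat_lit 4097, nat_lit 2, nat_lit 409602, nat_lit 397312, nat_lit 131088, nat_lit 40961, nat_lit 36866, nat_lit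 32784, nat_lit 28673, nat_lit 24577, nat_lit 20482]⟩))
 (.node (nat_lit 243) (.leaf ndMr4_14)
 (.leaf ⟨[nat_lit 0x2b174728067088c49ba4d555347b2305dec8, nat_lit 0x5a95f94ca76b860b514b4dd1513d8121a30], [nat_lit 69632, nat_lit 77824, nat_lit 81920, nat_lit 86016, nat_lit 98304, nat_lit 178176, nat_lit 173056, nat_lit 168960, nat_lit 166656, nat_lit 162048, nat_lit 157248, nat_lit 151744, nat_lit 149888, nat_lit 147368, nat_lit 140916, nat_lit 136152, nat_lit 131857, nat_lit 3768, nat_lit 7532, nat_lit 10384, nat_lit 15520, nat_lit 17408, nat_lit 23360, nat_lit 26368, nat_lit 29696, nat_lit 35840, nat_lit 38912, nat_lit 43008, nat_lit 45786, nat_lit 41503, nat_lit 38050, nat_lit 32993, nat_lit 28954, nat_lit 24762, nat_lit 20635, nat_lit 16395, nat_lit 12305, nat_lit 8705, nat_lit 4104, nat_lit 16, nat_lit 425988, nat_lit 401408, nat_lit 147712, nat_lit 139520, nat_lit 36880, nat_lit 24592, nat_lit 20484, nat_lit 12292, nat_lit 4097]⟩)))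
 (.node (nat_lit 246) (.node (nat_lit 245) (.leaf ndMr5_12)
 (.leaf ⟨[nat_lit 0xc93fa0b968884ccb490011b235b0a4f71daa, nat_lit 0x1b777d5c0b468549909919dcc871c047daa3], [nat_lit 69632, nat_lit 73728, nat_lit 90112, nat_lit 98304, nat_lit 106496, nat_lit 110592, nat_lit 174080, nat_lit 171008, nat_lit 167680, nat_lit 163200, nat_lit 158976, nat_lit 152736, nat_lit 151136, nat_lit 144056, nat_lit 141248, nat_lit 136124, nat_lit 132898, nat_lit 3832, nat_lit 6424, nat_lit 11144, nat_lit 14320, nat_lit 18432, nat_lit 23168, nat_lit 25088, nat_lit 30976, nat_lit 33280, nat_lit 39936, nat_lit 46629, nat_lit 41433, nat_lit 39035, nat_lit 32771, nat_lit 28731, nat_lit 25093, nat_lit 20638, nat_lit 16458, nat_lit 12355, nat_lit 8193, nat_lit 4161, nat_lit 4, nat_lit 417796, nat_lit 405505, nat_lit 147520, nat_lit 135184, nat_lit 40976, nat_lit 36928, nat_lit 32832, nat_lit 20482, nat_lit 8194]⟩))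
 (.node (nat_lit 247) (.leaf ndMr6_59)
 (.leaf ⟨[nat_lit 0xdeeb2e354b375db1091881d2425bce0b412a, nat_lit 0xb2b41e008617b1ae846725a909b569731c85], [nat_lit 65536, nat_lit 69632, nat_lit 73728, nat_lit 77824, nat_lit 86016, nat_lit 94208, nat_lit 98304, nat_lit 102400, nat_lit 106496, nat_lit 178176, nat_lit 167680, nat_lit 162560, nat_lit 158976, nat_lit 152800, nat_lit 151392, nat_lit 145768, nat_lit 140472, nat_lit 135408, nat_lit 132810, nat_lit 3762, nat_lit 7344, nat_lit 11808, nat_lit 13664, nat_lit 16640, nat_lit 22720, nat_lit 24960, nat_lit 30720, nat_lit 35840, nat_lit 38912, nat_lit 47020, nat_lit 43136, nat_lit 38094, nat_lit 33389, nat_lit 29022, nat_lit 24705, nat_lit 20493, nat_lit 16463, nat_lit 12289, nat_lit 8208, nat_lit 425989, nat_lit 409600, nat_lit 131360, nat_lit 40976, nat_lit 28688, nat_lit 12289, nat_lit 8193, nat_lit 4097]⟩))))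

theorem dcME30_ok : dcME30.all (elB (nat_lit 0)) = true := by decide +kernel

def dcME31 : BT El := (.node (nat_lit 252) (.node (nat_lit 250) (.node (nat_lit 249) (.leaf ndMr6_55)
 (.leaf ⟨[nat_lit 0xbb7d177cc0592690091d13d4cbbb50c55862, nat_lit 0xfc6fa918022394c4a5ed55a928639af8c272], [nat_lit 65536, nat_lit 69632, nat_lit 73728, nat_lit 86016, nat_lit 94208, nat_lit 98304, nat_lit 102400, nat_lit 110592, nat_lit 169984, nat_lit 164864, nat_lit 162048, nat_lit 159424, nat_lit 153216, nat_lit 149712, nat_lit 143536, nat_lit 140484, nat_lit 139032, nat_lit 131100, nat_lit 2802, nat_lit 5508, nat_lit 9480, nat_lit 16160, nat_lit 19136, nat_lit 22528, nat_lit 34816, nat_lit 38912, nat_lit 43008, nat_lit 45090, nat_lit 41342, nat_lit 36953, nat_lit 32790, nat_lit 28752, nat_lit 24632, nat_lit 20487, nat_lit 16449, nat_lit 12307, nat_lit 8227, nat_lit 4104, nat_lit 16, nat_lit 425989, nat_lit 409600, nat_lit 151808, nat_lit 147744, nat_lit 131088, nat_lit 40976, nat_lit 28688, nat_lit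 12289, nat_lit 8193, nat_lit 4097, nat_lit 327680]⟩))
 (.node (nat_lit 251) (.leaf ndMr6_54)
 (.leaf ⟨[nat_lit 0xb2bb112a6b6045f772ced0d19251a7020903, nat_lit 0xeb8782bdab4310e55a928188206b9ec84e32], [nat_lit 65536, nat_lit 69632, nat_lit 81920, nat_lit 86016, nat_lit 90112, nat_lit 94208, nat_lit 98304, nat_lit 106496, nat_lit 173056, nat_lit 169472, nat_lit 164864, nat_lit 160896, nat_lit 158080, nat_lit 152320, nat_lit 150656, nat_lit 144488, nat_lit 140948, nat_lit 136244, nat_lit 131705, nat_lit 3156, nat_lit 4816, nat_lit 11856, nat_lit 14944, nat_lit 19456, nat_lit 23040, nat_lit 27520, nat_lit 30720, nat_lit 34816, nat_lit 43008, nat_lit 46892, nat_lit 43423, nat_lit 37912, nat_lit 32834, nat_lit 29206, nat_lit 24583, nat_lit 20491, nat_lit 16523, nat_lit 12322, nat_lit 8193, nat_lit 4112, nat_lit 4, nat_lit 425989, nat_lit 409600, nat_lit 131360, nat_lit 40976, nat_lit 28688, nat_lit 12289, nat_lit 8193, nat_lit 4097]⟩)))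
 (.node (nat_lit 254) (.node (nat_lit 253) (.leaf ndMr6_7)
 (.leaf ⟨[nat_lit 0x59a5007b5774d6131a281359459104c01dd1, nat_lit 0xe78eb74ba66b01ed1caf0a04a72299142c55, nat_lit 0x9635ca90da975984a180144de23dd4b8c2a5], [nat_lit 65536, nat_lit 73728, nat_lit 81920, nat_lit 86016, nat_lit 90112, nat_lit 98304, nat_lit 178176, nat_lit 174080, nat_lit 169472, nat_lit 167168, nat_lit 161408, nat_lit 156288, nat_lit 154656, nat_lit 149296, nat_lit 146536, nat_lit 143180, nat_lit 136998, nat_lit 134048, nat_lit 1678, nat_lit 4268, nat_lit 12048, nat_lit 16336, nat_lit 19712, nat_lit 21504, nat_lit 27136, nat_lit 32256, nat_lit 35840, nat_lit 39936, nat_lit 46840, nat_lit 43348, nat_lit 38062, nat_lit 33330, nat_lit 28780, nat_lit 24760, nat_lit 20509, nat_lit 16419, nat_lit 12306, nat_lit 8195, nat_lit 434184, nat_lit 413700, nat_lit 405506, nat_lit 397312, nat_lit 147744, nat_lit 143408, nat_lit 140344, nat_lit 135448, nat_lit 132148, nat_lit 45068, nat_lit 37161, nat_lit 28700, nat_lit 24579,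 nat_lit 327680]⟩))
 (.node (nat_lit 255) (.leaf ndMr7_1)
 (.leaf ⟨[nat_lit 0xc35aa54c84ca39e65442d24eb0b8ca0b1d0b, nat_lit 0xaf9c060dc0f7590a9468c2c04b98ce9254cd, nat_lit 0x956639b5e51219cfa4e15614ed5a8020a069], [nat_lit 65536, nat_lit 77824, nat_lit 81920, nat_lit 86016, nat_lit 90112, nat_lit 94208, nat_lit 102400, nat_lit 110592, nat_lit 178176, nat_lit 173056, nat_lit 166144, nat_lit 162048, nat_lit 158144, nat_lit 152608, nat_lit 148960, nat_lit 143544, nat_lit 141940, nat_lit 137432, nat_lit 131076, nat_lit 2272, nat_lit 4664, nat_lit 8640, nat_lit 12848, nat_lit 16608, nat_lit 24000, nat_lit 25088, nat_lit 29952, nat_lit 35328, nat_lit 38912, nat_lit 43008, nat_lit 46581, nat_lit 41824, nat_lit 37141, nat_lit 32827, nat_lit 30841, nat_lit 25638, nat_lit 20761, nat_lit 16391, nat_lit 8194, nat_lit 434182, nat_lit 413700, nat_lit 405506, nat_lit 397312, nat_lit 156672, nat_lit 140296, nat_lit 135228, nat_lit 45066, nat_lit 36938, nat_lit 32855, nat_lit 28698]⟩))))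

theorem dcME31_ok : dcME31.all (elB (nat_lit 0)) = true := by decide +kernel

def dcME32 : BT El := (.node (nat_lit 260) (.node (nat_lit 258) (.node (nat_lit 257) (.leaf ndMr7_2)
 (.leaf ⟨[nat_lit 0xf60a536d92859a031068eac593928a021eef, nat_lit 0x877d843824940e042c42b75ed46b2af32a62, nat_lit 0x5a5c358984eaaa50006e962db6a10a899c6f], [nat_lit 65536, nat_lit 69632, nat_lit 90112, nat_lit 94208, nat_lit 98304, nat_lit 110592, nat_lit 178176, nat_lit 174080, nat_lit 169984, nat_lit 165120, nat_lit 161280, nat_lit 159552, nat_lit 154688, nat_lit 149536, nat_lit 145720, nat_lit 143056, nat_lit 137216, nat_lit 135114, nat_lit 3810, nat_lit 8152, nat_lit 11104, nat_lit 20160, nat_lit 23808, nat_lit 25984, nat_lit 30720, nat_lit 34304, nat_lit 43008, nat_lit 46327, nat_lit 43284, nat_lit 36915, nat_lit 32851, nat_lit 28759, nat_lit 24735, nat_lit 21009, nat_lit 16396, nat_lit 12290, nat_lit 8210, nat_lit 417797, nat_lit 409603, nat_lit 397312, nat_lit 151616, nat_lit 147488, nat_lit 143440,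 nat_lit 135216, nat_lit 131112, nat_lit 45072, nat_lit 40976, nat_lit 36905, nat_lit 32810, nat_lit 28688, nat_lit 327680]⟩))
 (.node (nat_lit 259) (.leaf ndMr7_3)
 (.leaf ⟨[nat_lit 0x6c05f949c02642812a1ee349536d87122ef5, nat_lit 0x7ed2ee585a7649d400e15788c99dca4b4548, nat_lit 0x7b844e826ef0d0d65d66d1954889c527100c], [nat_lit 69632, nat_lit 73728, nat_lit 86016, nat_lit 90112, nat_lit 94208, nat_lit 98304, nat_lit 102400, nat_lit 175104, nat_lit 169984, nat_lit 165632, nat_lit 160384, nat_lit 157952, nat_lit 154400, nat_lit 148784, nat_lit 147104, nat_lit 141768, nat_lit 135612, nat_lit 135073, nat_lit 2476, nat_lit 5692, nat_lit 9936, nat_lit 14496, nat_lit 16992, nat_lit 22848, nat_lit 24704, nat_lit 31744, nat_lit 36352, nat_lit 39936, nat_lit 46828, nat_lit 43499, nat_lit 38276, nat_lit 33876, nat_lit 29223, nat_lit 24587, nat_lit 20483, nat_lit 16395, nat_lit 12311, nat_lit 8201, nat_lit 4113, nat_lit 425991, nat_lit 417796, nat_lit 405506, nat_lit 397312, nat_lit 155904,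 nat_lit 147520, nat_lit 143552, nat_lit 139672, nat_lit 135308, nat_lit 131334, nat_lit 45335, nat_lit 41306, nat_lit 36941, nat_lit 20488, nat_lit 327680]⟩)))
 (.node (nat_lit 262) (.node (nat_lit 261) (.leaf ⟨[nat_lit 0xb4d8d1229621de854323581c3203dc6b25b3, nat_lit 0x65c3008860f3098454ac5a4d674240d1d6ee, nat_lit 0x5050532acd52360204cef0a47744656651ca, nat_lit 0x5f63f62a8cb7ddb688662a399590e0021d28], [nat_lit 65536, nat_lit 73728, nat_lit 81920, nat_lit 90112, nat_lit 98304, nat_lit 175104, nat_lit 165376, nat_lit 159872, nat_lit 157312, nat_lit 154976, nat_lit 149040, nat_lit 143648, nat_lit 140140, nat_lit 136482, nat_lit 132936, nat_lit 2944, nat_lit 7940, nat_lit 10360, nat_lit 12944, nat_lit 18176, nat_lit 21440, nat_lit 25856, nat_lit 29696, nat_lit 37888, nat_lit 46492, nat_lit 41944, nat_lit 38112, nat_lit 32778, nat_lit 28765, nat_lit 24747, nat_lit 20551, nat_lit 16421, nat_lit 12294, nat_lit 8200, nat_lit 4097, nat_lit 438280, nat_lit 421894, nat_lit 413700, nat_lit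 405506, nat_lit 397312, nat_lit 165888, nat_lit 154048, nat_lit 149952, nat_lit 145728, nat_lit 141672, nat_lit 137508, nat_lit 131424, nat_lit 41061, nat_lit 37014]⟩)
 (.leaf ⟨[nat_lit 0xb71d4145c2405125aa867941f332c568b5cc, nat_lit 0x660960231109196e4d94111ee56bc758d013, nat_lit 0x124e7b99dc54983403472228554456c83ef6], [nat_lit 69632, nat_lit 73728, nat_lit 77824, nat_lit 81920, nat_lit 98304, nat_lit 178176, nat_lit 171008, nat_lit 165120, nat_lit 161408, nat_lit 157632, nat_lit 152576, nat_lit 150224, nat_lit 146232, nat_lit 141008, nat_lit 137148, nat_lit 133011, nat_lit 2102, nat_lit 5508, nat_lit 8704, nat_lit 15024, nat_lit 17344, nat_lit 24320, nat_lit 24960, nat_lit 29952, nat_lit 33792, nat_lit 37888, nat_lit 43008, nat_lit 46057, nat_lit 41805, nat_lit 36988, nat_lit 34026, nat_lit 28990, nat_lit 24632, nat_lit 20570, nat_lit 16386, nat_lit 12355, nat_lit 8193, nat_lit 4105, nat_lit 4, nat_lit 425991, nat_lit 413700, nat_lit 405506, nat_lit 397312, nat_lit 160000, nat_lit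 151808, nat_lit 147584, nat_lit 143744, nat_lit 139672, nat_lit 135560, nat_lit 131458, nat_lit 45365, nat_lit 41020, nat_lit 37049, nat_lit 24630, nat_lit 327680]⟩))
 (.node (nat_lit 263) (.leaf ndMr7_4)
 (.leaf ⟨[nat_lit 0xf5595f0c12b720f778e4c6d0aa88ab699804, nat_lit 0x8d81ed92ac08126e08d87bac516950979a95, nat_lit 0xaf63065918e55ae749422ab66034910a45e3, nat_lit 0xd7e182548953c536b9973605cf8151403462], [nat_lit 69632, nat_lit 73728, nat_lit 86016, nat_lit 90112, nat_lit 98304, nat_lit 106496, nat_lit 110592, nat_lit 178176, nat_lit 168960, nat_lit 167168, nat_lit 160640, nat_lit 156096, nat_lit 154528, nat_lit 151248, nat_lit 143936, nat_lit 140796, nat_lit 135422, nat_lit 134210, nat_lit 500, nat_lit 5840, nat_lit 8272, nat_lit 15200, nat_lit 19712, nat_lit 24128, nat_lit 25216, nat_lit 29184, nat_lit 33280, nat_lit 37888, nat_lit 43008, nat_lit 46884, nat_lit 43430, nat_lit 37121, nat_lit 32992, nat_lit 28976, nat_lit 24713, nat_lit 20492, nat_lit 16450, nat_lit 12305, nat_lit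 8194, nat_lit 16, nat_lit 434184, nat_lit 421894, nat_lit 413700, nat_lit 405506, nat_lit 397312, nat_lit 161024, nat_lit 156032, nat_lit 152960, nat_lit 148832, nat_lit 144640, nat_lit 140448, nat_lit 135504, nat_lit 132158, nat_lit 46080, nat_lit 36943]⟩))))

theorem dcME32_ok : dcME32.all (elB (nat_lit 0)) = true := by decide +kernel

def dcME33 : BT El := (.node (nat_lit 268) (.node (nat_lit 266) (.node (nat_lit 265) (.leaf ndMr7_5)
 (.leaf ⟨[nat_lit 0x48dee45c105b29c24d58093ced88c2435277], [nat_lit 65536, nat_lit 73728, nat_lit 86016, nat_lit 90112, nat_lit 110592, nat_lit 178176, nat_lit 174080, nat_lit 171520, nat_lit 166400, nat_lit 161920, nat_lit 156672, nat_lit 152736, nat_lit 151168, nat_lit 146144, nat_lit 140564, nat_lit 136034, nat_lit 132913, nat_lit 3156, nat_lit 5688, nat_lit 9560, nat_lit 12624, nat_lit 18464, nat_lit 22656, nat_lit 25472, nat_lit 29696, nat_lit 34304, nat_lit 43008, nat_lit 41695, nat_lit 38372, nat_lit 32846, nat_lit 28749, nat_lit 24742, nat_lit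 20487, nat_lit 16391, nat_lit 12356, nat_lit 8195, nat_lit 4101, nat_lit 4, nat_lit 327680]⟩))
 (.node (nat_lit 267) (.leaf ndMr7_6)
 (.leaf ⟨[nat_lit 0x636c6a0c2e58b26912c0f710cab22ada0e47, nat_lit 0x6fa533041613550751842ca775c46f49d15, nat_lit 0x48edb12510e58553bd8704d587049ed888a6], [nat_lit 65536, nat_lit 69632, nat_lit 77824, nat_lit 81920, nat_lit 178176, nat_lit 169984, nat_lit 166144, nat_lit 160128, nat_lit 155712, nat_lit 155520, nat_lit 148848, nat_lit 144640, nat_lit 140552, nat_lit 138114, nat_lit 134274, nat_lit 1036, nat_lit 5340, nat_lit 11720, nat_lit 14144, nat_lit 19616, nat_lit 21504, nat_lit 25984, nat_lit 28928, nat_lit 33280, nat_lit 38912, nat_lit 43008, nat_lit 45995, nat_lit 41701, nat_lit 36917, nat_lit 34922, nat_lit 28710, nat_lit 24615, nat_lit 20481, nat_lit 16906, nat_lit 12306, nat_lit 8195, nat_lit 4, nat_lit 430088, nat_lit 417796, nat_lit 405506, nat_lit 397312, nat_lit 164352, nat_lit 156160, nat_lit 147968, nat_lit 143424, nat_lit 139344, nat_lit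 135252, nat_lit 131334, nat_lit 45386, nat_lit 40971, nat_lit 28688, nat_lit 20503, nat_lit 327680]⟩)))
 (.node (nat_lit 270) (.node (nat_lit 269) (.leaf ndMr7_7)
 (.leaf ⟨[nat_lit 0x3a3fcb3069856e714c267d1008ad4523a4d, nat_lit 0x71d2e1491ecb1aab12867bc1c0985b4920b1, nat_lit 0xbb414d820773002c712d47a5455d6423c66d, nat_lit 0xfacfcc910f5835d7a00332ac6c13cc8b452a], [nat_lit 65536, nat_lit 69632, nat_lit 73728, nat_lit 77824, nat_lit 81920, nat_lit 90112, nat_lit 94208, nat_lit 98304, nat_lit 102400, nat_lit 106496, nat_lit 110592, nat_lit 167424, nat_lit 160768, nat_lit 156096, nat_lit 155424, nat_lit 151120, nat_lit 144456, nat_lit 142624, nat_lit 138146, nat_lit 132454, nat_lit 2566, nat_lit 5284, nat_lit 11360, nat_lit 16368, nat_lit 20128, nat_lit 20544, nat_lit 26624, nat_lit 35328, nat_lit 39936, nat_lit 43008, nat_lit 45426, nat_lit 41816, nat_lit 38116, nat_lit 32938, nat_lit 28673, nat_lit 25639, nat_lit 20555, nat_lit 16388, nat_lit 12289, nat_lit 8211, nat_lit 4097, nat_lit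 2, nat_lit 430088, nat_lit 421894, nat_lit 413700, nat_lit 405506, nat_lit 397312, nat_lit 164352, nat_lit 160512, nat_lit 156544, nat_lit 152448, nat_lit 147488, nat_lit 144352, nat_lit 139368, nat_lit 135804, nat_lit 131800, nat_lit 45682, nat_lit 41892]⟩))
 (.node (nat_lit 271) (.leaf ndMr7_8)
 (.leaf ⟨[nat_lit 0x7bed2d72a480c06d5d4e0a4596ba444315f3, nat_lit 0xc69a99136e523ac054a700d186a9c6f8a568], [nat_lit 65536, nat_lit 77824, nat_lit 86016, nat_lit 90112, nat_lit 98304, nat_lit 106496, nat_lit 110592, nat_lit 170496, nat_lit 167424, nat_lit 160384, nat_lit 159616, nat_lit 153632, nat_lit 151408, nat_lit 143584, nat_lit 139520, nat_lit 138030, nat_lit 131406, nat_lit 752, nat_lit 4924, nat_lit 9448, nat_lit 19904, nat_lit 23040, nat_lit 27904, nat_lit 30464, nat_lit 35840, nat_lit 37888, nat_lit 46955, nat_lit 41345, nat_lit 37150, nat_lit 32982, nat_lit 28675, nat_lit 24853, nat_lit 20485, nat_lit 16655, nat_lit 12304, nat_lit 8225, nat_lit 417797, nat_lit 405504, nat_lit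 151616, nat_lit 131080, nat_lit 40992, nat_lit 36969, nat_lit 32800, nat_lit 28736, nat_lit 8193, nat_lit 4097]⟩))))

theorem dcME33_ok : dcME33.all (elB (nat_lit 0)) = true := by decide +kernel

def dcME34 : BT El := (.node (nat_lit 276) (.node (nat_lit 274) (.node (nat_lit 273) (.leaf ndMr7_9)
 (.leaf ⟨[nat_lit 0xccaaa5681f1348455bae7512cc0c109a0e75, nat_lit 0xf905ac6bc2384cc57004c3ca24ad9495dd14], [nat_lit 65536, nat_lit 77824, nat_lit 90112, nat_lit 102400, nat_lit 110592, nat_lit 178176, nat_lit 173056, nat_lit 168960, nat_lit 164096, nat_lit 160256, nat_lit 156032, nat_lit 153088, nat_lit 147872, nat_lit 143584, nat_lit 143076, nat_lit 135782, nat_lit 131964, nat_lit 3282, nat_lit 5144, nat_lit 10480, nat_lit 14048, nat_lit 16544, nat_lit 24448, nat_lit 25984, nat_lit 29696, nat_lit 33280, nat_lit 38912, nat_lit 43008, nat_lit 45908, nat_lit 41387, nat_lit 37268, nat_lit 32846, nat_lit 29190, nat_lit 24623, nat_lit 20502, nat_lit 16419, nat_lit 12356, nat_lit 8210, nat_lit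 4097, nat_lit 2, nat_lit 417797, nat_lit 397312, nat_lit 151616, nat_lit 135232, nat_lit 131106, nat_lit 40961, nat_lit 36928, nat_lit 32832, nat_lit 28674, nat_lit 16386, nat_lit 12290, nat_lit 8193, nat_lit 327680]⟩))
 (.node (nat_lit 275) (.leaf ⟨[nat_lit 0xff3ca5481025046b6998479dc58cab4b4e17, nat_lit 0x2bd4e2316a36b0163a20e891ea14a740dd2b, nat_lit 0x66a3a671632a1df5618239d8495b54404117, nat_lit 0x3cc336438878c1eab9a60b48a11b56262695], [nat_lit 65536, nat_lit 77824, nat_lit 86016, nat_lit 102400, nat_lit 169984, nat_lit 161024, nat_lit 156352, nat_lit 155264, nat_lit 147552, nat_lit 143960, nat_lit 135712, nat_lit 131872, nat_lit 2458, nat_lit 4380, nat_lit 10936, nat_lit 13696, nat_lit 16896, nat_lit 21760, nat_lit 25856, nat_lit 30208, nat_lit 33792, nat_lit 37888, nat_lit 46254, nat_lit 41760, nat_lit 38056, nat_lit 32798, nat_lit 29293, nat_lit 24704, nat_lit 20552, nat_lit 16646, nat_lit 12307, nat_lit 8195, nat_lit 4, nat_lit 438280, nat_lit 421894, nat_lit 413700, nat_lit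 405506, nat_lit 397312, nat_lit 160000, nat_lit 157824, nat_lit 153984, nat_lit 147648, nat_lit 145712, nat_lit 139592, nat_lit 137620, nat_lit 131570, nat_lit 41308, nat_lit 37077]⟩)
 (.leaf ⟨[nat_lit 0x72e7810c10bbb92714dac05a54aa8cf88c85, nat_lit 0xdbb27eade4b4b22ea15a051a6410e08784f6, nat_lit 0x565a0f036d78a28699eaa238450ad8983c72], [nat_lit 65536, nat_lit 69632, nat_lit 73728, nat_lit 81920, nat_lit 86016, nat_lit 94208, nat_lit 98304, nat_lit 102400, nat_lit 178176, nat_lit 171520, nat_lit 165888, nat_lit 163712, nat_lit 158912, nat_lit 152416, nat_lit 150656, nat_lit 143896, nat_lit 139888, nat_lit 136572, nat_lit 132724, nat_lit 264, nat_lit 5072, nat_lit 10400, nat_lit 13264, nat_lit 17024, nat_lit 22720, nat_lit 25472, nat_lit 31232, nat_lit 33280, nat_lit 38912, nat_lit 45355, nat_lit 41781, nat_lit 37113, nat_lit 32962, nat_lit 29039, nat_lit 24619, nat_lit 20491, nat_lit 16904, nat_lit 12322, nat_lit 434183, nat_lit 417797, nat_lit 409602, nat_lit 397312, nat_lit 156800,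 nat_lit 151744, nat_lit 147488, nat_lit 139424, nat_lit 135252, nat_lit 132342, nat_lit 46096, nat_lit 37075, nat_lit 32823, nat_lit 12289]⟩)))
 (.node (nat_lit 278) (.node (nat_lit 277) (.leaf ndMr7_10)
 (.leaf ⟨[nat_lit 0xb8b78818a26a29800d50d74cefb16f04c88b, nat_lit 0x7218810948b99eed056ca1c1111392c7c8d4, nat_lit 0xb2b4e19bd6655069142d26c48875c2c380b5, nat_lit 0xe44b27a144f32a0788c29b5e486b973202ac], [nat_lit 73728, nat_lit 86016, nat_lit 102400, nat_lit 178176, nat_lit 173056, nat_lit 170496, nat_lit 166656, nat_lit 162048, nat_lit 155904, nat_lit 153440, nat_lit 149280, nat_lit 146336, nat_lit 139940, nat_lit 135946, nat_lit 132705, nat_lit 940, nat_lit 6596, nat_lit 9896, nat_lit 12352, nat_lit 18144, nat_lit 23296, nat_lit 26112, nat_lit 32000, nat_lit 36352, nat_lit 39936, nat_lit 45376, nat_lit 41582, nat_lit 38360, nat_lit 33460, nat_lit 28728, nat_lit 24615, nat_lit 20561, nat_lit 16425, nat_lit 12308, nat_lit 8208, nat_lit 4, nat_lit 430088, nat_lit 421894, nat_lit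 413700, nat_lit 405506, nat_lit 397312, nat_lit 160256, nat_lit 156544, nat_lit 148032, nat_lit 144064, nat_lit 140048, nat_lit 135808, nat_lit 131608, nat_lit 45692, nat_lit 41115]⟩))
 (.node (nat_lit 279) (.leaf ndMr7_11)
 (.leaf ⟨[nat_lit 0x74e22d4dd4d0a2668ba163c86b03c5421595, nat_lit 0x59f0c61216048c2abb99481cd1914936beb6], [nat_lit 69632, nat_lit 73728, nat_lit 81920, nat_lit 86016, nat_lit 94208, nat_lit 98304, nat_lit 173056, nat_lit 169472, nat_lit 165120, nat_lit 161920, nat_lit 156992, nat_lit 154880, nat_lit 150224, nat_lit 143544, nat_lit 139536, nat_lit 136492, nat_lit 131667, nat_lit 114, nat_lit 5544, nat_lit 9352, nat_lit 13392, nat_lit 20128, nat_lit 23040, nat_lit 24832, nat_lit 29952, nat_lit 33792, nat_lit 38912, nat_lit 46927, nat_lit 41214, nat_lit 39345, nat_lit 34816, nat_lit 28781, nat_lit 24762, nat_lit 20611, nat_lit 16458, nat_lit 12295, nat_lit 8201, nat_lit 4101, nat_lit 2, nat_lit 417796, nat_lit 401408, nat_lit 131092, nat_lit 41045, nat_lit 32784,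 nat_lit 28757, nat_lit 12292, nat_lit 4097, nat_lit 327680]⟩))))

theorem dcME34_ok : dcME34.all (elB (nat_lit 0)) = true := by decide +kernel

def dcME35 : BT El := (.node (nat_lit 284) (.node (nat_lit 282) (.node (nat_lit 281) (.leaf ndMr7_12)
 (.leaf ⟨[nat_lit 0xc3a60439469964f0413425aad1c57710587, nat_lit 0x21eb2ea3d8a106cb90cad8d609038f3322e4], [nat_lit 69632, nat_lit 94208, nat_lit 98304, nat_lit 106496, nat_lit 178176, nat_lit 173056, nat_lit 167680, nat_lit 162688, nat_lit 155968, nat_lit 153888, nat_lit 148544, nat_lit 147000, nat_lit 142644, nat_lit 137178, nat_lit 134943, nat_lit 3770, nat_lit 4344, nat_lit 8392, nat_lit 13088, nat_lit 20256, nat_lit 21312, nat_lit 26624, nat_lit 29696, nat_lit 33280, nat_lit 43008, nat_lit 45493, nat_lit 41675, nat_lit 37001, nat_lit 35019, nat_lit 29291, nat_lit 24599, nat_lit 20489, nat_lit 16461, nat_lit 12290, nat_lit 8258, nat_lit 4104, nat_lit 409602, nat_lit 397312, nat_lit 131088, nat_lit 40983, nat_lit 36866, nat_lit 32772,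 nat_lit 28673, nat_lit 24580, nat_lit 20484, nat_lit 12289]⟩))
 (.node (nat_lit 283) (.leaf ndMr7_13)
 (.leaf ⟨[nat_lit 0x441474badf550183215c89c1a9a444609ed2, nat_lit 0xdb17b7bac2e1554d910033c1097cd86a46c5, nat_lit 0x81b47d5526e3bc0c5a0244b6b219611b5cc2, nat_lit 0xcf06a99d12a392f030deb40985b041173655], [nat_lit 73728, nat_lit 86016, nat_lit 90112, nat_lit 102400, nat_lit 106496, nat_lit 110592, nat_lit 178176, nat_lit 173056, nat_lit 168960, nat_lit 165888, nat_lit 160896, nat_lit 156544, nat_lit 155040, nat_lit 147808, nat_lit 146872, nat_lit 139968, nat_lit 135980, nat_lit 133145, nat_lit 1336, nat_lit 6428, nat_lit 10936, nat_lit 14144, nat_lit 19744, nat_lit 22848, nat_lit 27264, nat_lit 32000, nat_lit 34816, nat_lit 43008, nat_lit 46861, nat_lit 43275, nat_lit 37053, nat_lit 32773, nat_lit 29309, nat_lit 24607, nat_lit 20992, nat_lit 16429, nat_lit 12325, nat_lit 8227, nat_lit 4100, nat_lit 32, nat_lit 438282, nat_lit 430088, nat_lit 421894, nat_lit 413700, nat_lit 405506,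 nat_lit 397312, nat_lit 174080, nat_lit 169984, nat_lit 167424, nat_lit 163328, nat_lit 157824, nat_lit 151744, nat_lit 149280, nat_lit 143664, nat_lit 139552, nat_lit 137416, nat_lit 132084]⟩)))
 (.node (nat_lit 286) (.node (nat_lit 285) (.leaf ndMr7_14)
 (.leaf ⟨[nat_lit 0xaf056abca08b19476b2895d443880ae79033, nat_lit 0xc656cc8cdcf388c352eb66c19200485bd109], [nat_lit 69632, nat_lit 77824, nat_lit 81920, nat_lit 86016, nat_lit 90112, nat_lit 94208, nat_lit 98304, nat_lit 174080, nat_lit 168448, nat_lit 165632, nat_lit 160640, nat_lit 158144, nat_lit 152256, nat_lit 150128, nat_lit 146872, nat_lit 140620, nat_lit 136674, nat_lit 131970, nat_lit 930, nat_lit 4760, nat_lit 10248, nat_lit 15808, nat_lit 17216, nat_lit 20864, nat_lit 25600, nat_lit 29184, nat_lit 38912, nat_lit 43008, nat_lit 46087, nat_lit 43853, nat_lit 38390, nat_lit 32835, nat_lit 29184, nat_lit 24639, nat_lit 20558, nat_lit 16428, nat_lit 12306, nat_lit 8195, nat_lit 4101, nat_lit 413700, nat_lit 401408, nat_lit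 139280, nat_lit 131076, nat_lit 36880, nat_lit 32821, nat_lit 28688, nat_lit 12292, nat_lit 4097, nat_lit 327680]⟩))
 (.node (nat_lit 287) (.leaf ndMr7_15)
 (.leaf ⟨[nat_lit 0x2d7b7798d093aace014d1bac8c909afac281, nat_lit 0x82d424139162ae0a7b0930d1a989ef500e46, nat_lit 0x87ebe709170482663c84a7b9b6652f51c505], [nat_lit 77824, nat_lit 81920, nat_lit 94208, nat_lit 98304, nat_lit 102400, nat_lit 178176, nat_lit 168448, nat_lit 166400, nat_lit 162688, nat_lit 158784, nat_lit 155552, nat_lit 147840, nat_lit 144600, nat_lit 139444, nat_lit 139082, nat_lit 132530, nat_lit 148, nat_lit 6456, nat_lit 9288, nat_lit 14992, nat_lit 16512, nat_lit 22720, nat_lit 25856, nat_lit 32000, nat_lit 34816, nat_lit 39936, nat_lit 43008, nat_lit 45440, nat_lit 41197, nat_lit 37198, nat_lit 32855, nat_lit 29773, nat_lit 24631, nat_lit 20482, nat_lit 16393, nat_lit 12309, nat_lit 8200, nat_lit 4097, nat_lit 2, nat_lit 425990, nat_lit 413700, nat_lit 405506, nat_lit 397312, nat_lit 147712, nat_lit 143440,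 nat_lit 139640, nat_lit 135240, nat_lit 131334, nat_lit 45401, nat_lit 41260, nat_lit 37213, nat_lit 28732, nat_lit 327680]⟩))))

theorem dcME35_ok : dcME35.all (elB (nat_lit 0)) = true := by decide +kernel

def dcME36 : BT El := (.node (nat_lit 292) (.node (nat_lit 290) (.node (nat_lit 289) (.leaf ⟨[nat_lit 0xdb4271326c3a45d56a17008a6c29df255c80, nat_lit 0xde8dbd71e56bd0090a0a4689ea5c6039d586, nat_lit 0x59cc9c10c206b1ee9467021cc5a5af55a50a], [nat_lit 106496, nat_lit 110592, nat_lit 171008, nat_lit 165888, nat_lit 160256, nat_lit 158784, nat_lit 155104, nat_lit 148512, nat_lit 146016, nat_lit 139308, nat_lit 136224, nat_lit 131615, nat_lit 2126, nat_lit 5304, nat_lit 10392, nat_lit 16080, nat_lit 17472, nat_lit 20672, nat_lit 25344, nat_lit 33280, nat_lit 38912, nat_lit 43008, nat_lit 46441, nat_lit 43657, nat_lit 38385, nat_lit 33818, nat_lit 28934, nat_lit 24757, nat_lit 20627, nat_lit 16526, nat_lit 12327, nat_lit 4113, nat_lit 425991, nat_lit 417797, nat_lit 409602, nat_lit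 397312, nat_lit 155904, nat_lit 151872, nat_lit 147808, nat_lit 139696, nat_lit 135328, nat_lit 131328, nat_lit 45059, nat_lit 41158, nat_lit 36928, nat_lit 12292, nat_lit 327680]⟩)
 (.leaf ⟨[nat_lit 0xa5f60cbcaa27cc0e61e8a6a6c61c10b2c424, nat_lit 0xcc96009928c2baf28c1006bc293acc2aaac3, nat_lit 0xd2472d4beb68490e14e872c6e050c2d3116c], [nat_lit 81920, nat_lit 86016, nat_lit 98304, nat_lit 102400, nat_lit 106496, nat_lit 173056, nat_lit 164096, nat_lit 162304, nat_lit 155776, nat_lit 152864, nat_lit 148736, nat_lit 146392, nat_lit 139444, nat_lit 138996, nat_lit 132406, nat_lit 2612, nat_lit 5864, nat_lit 8320, nat_lit 12496, nat_lit 18528, nat_lit 23296, nat_lit 28032, nat_lit 29952, nat_lit 33792, nat_lit 39936, nat_lit 46290, nat_lit 43503, nat_lit 36984, nat_lit 32836, nat_lit 28772, nat_lit 24755, nat_lit 20484, nat_lit 16454, nat_lit 12807, nat_lit 4097, nat_lit 2, nat_lit 425991, nat_lit 417797, nat_lit 405506, nat_lit 397312, nat_lit 155776, nat_lit 151616, nat_lit 143616,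 nat_lit 139560, nat_lit 135436, nat_lit 131310, nat_lit 45068, nat_lit 41100, nat_lit 37092, nat_lit 16385]⟩))
 (.node (nat_lit 291) (.leaf ndMr7_16)
 (.leaf ⟨[nat_lit 0x274bb434d444c58e0368580d0279ec1956eb, nat_lit 0x8de88e9d1a750823ab0b04016923ad193ee6, nat_lit 0x399596090e28a269656cd7ddd40146654970], [nat_lit 65536, nat_lit 69632, nat_lit 86016, nat_lit 90112, nat_lit 94208, nat_lit 98304, nat_lit 106496, nat_lit 110592, nat_lit 175104, nat_lit 171520, nat_lit 164608, nat_lit 161280, nat_lit 158912, nat_lit 152640, nat_lit 150688, nat_lit 145688, nat_lit 142968, nat_lit 138444, nat_lit 131153, nat_lit 1044, nat_lit 6908, nat_lit 8264, nat_lit 15360, nat_lit 17280, nat_lit 20544, nat_lit 27904, nat_lit 30464, nat_lit 35328, nat_lit 37888, nat_lit 46923, nat_lit 43696, nat_lit 37217, nat_lit 32905, nat_lit 28957, nat_lit 25130, nat_lit 21004, nat_lit 16517, nat_lit 12322, nat_lit 8203, nat_lit 4097, nat_lit 434184, nat_lit 421893, nat_lit 409600, nat_lit 152832, nat_lit 148736,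 nat_lit 131088, nat_lit 45057, nat_lit 24577, nat_lit 12289, nat_lit 4097]⟩)))
 (.node (nat_lit 294) (.node (nat_lit 293) (.leaf ndMr7_17)
 (.leaf ⟨[nat_lit 0xee2e22b556304d326c497328e20a1cc7c285, nat_lit 0x39cfa002d422b1a77988ebda51ad27042461], [nat_lit 65536, nat_lit 86016, nat_lit 94208, nat_lit 106496, nat_lit 178176, nat_lit 173056, nat_lit 171520, nat_lit 166144, nat_lit 160512, nat_lit 157824, nat_lit 155104, nat_lit 147744, nat_lit 145344, nat_lit 143056, nat_lit 135272, nat_lit 133816, nat_lit 1854, nat_lit 6076, nat_lit 10800, nat_lit 16080, nat_lit 16768, nat_lit 20608, nat_lit 24960, nat_lit 28928, nat_lit 35840, nat_lit 38912, nat_lit 43008, nat_lit 46424, nat_lit 43328, nat_lit 37335, nat_lit 32882, nat_lit 28763, nat_lit 24610, nat_lit 20504, nat_lit 16394, nat_lit 12311, nat_lit 8201, nat_lit 4112, nat_lit 417796, nat_lit 401408, nat_lit 131152, nat_lit 41045, nat_lit 32784, nat_lit 28688, nat_lit 20481, nat_lit 12292, nat_lit 4097]⟩))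
 (.node (nat_lit 295) (.leaf ndMr7_18)
 (.leaf ⟨[nat_lit 0x50c6cf7dc085c8c9244622b1b35582ea40f5, nat_lit 0x44d821098eaa2ee0b11f32d5b2609c88a603, nat_lit 0x188e4823951b82b4915abb0c229a58641e0f], [nat_lit 69632, nat_lit 73728, nat_lit 77824, nat_lit 86016, nat_lit 110592, nat_lit 173056, nat_lit 165120, nat_lit 161408, nat_lit 157376, nat_lit 155360, nat_lit 150544, nat_lit 145752, nat_lit 140580, nat_lit 136928, nat_lit 134086, nat_lit 426, nat_lit 5580, nat_lit 9136, nat_lit 14352, nat_lit 20384, nat_lit 22592, nat_lit 27264, nat_lit 29184, nat_lit 33792, nat_lit 39936, nat_lit 43008, nat_lit 46950, nat_lit 41330, nat_lit 39248, nat_lit 32971, nat_lit 28935, nat_lit 24617, nat_lit 20549, nat_lit 16900, nat_lit 12292, nat_lit 8194, nat_lit 4101, nat_lit 2, nat_lit 425990, nat_lit 413700, nat_lit 405506, nat_lit 397312, nat_lit 143728, nat_lit 139328, nat_lit 135424, nat_lit 131350, nat_lit 45312, nat_lit 41317, nat_lit 36879, nat_lit 28762]⟩))))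

theorem dcME36_ok : dcME36.all (elB (nat_lit 0)) = true := by decide +kernel

def dcME37 : BT El := (.node (nat_lit 300) (.node (nat_lit 298) (.node (nat_lit 297) (.leaf ⟨[nat_lit 0x553aa950ace91daf1849159510352f3482ac, nat_lit 0xdd7488206e92828875ab35c5ea918ec83462], [nat_lit 65536, nat_lit 69632, nat_lit 73728, nat_lit 77824, nat_lit 81920, nat_lit 94208, nat_lit 173056, nat_lit 168448, nat_lit 167680, nat_lit 160768, nat_lit 157952, nat_lit 154336, nat_lit 147920, nat_lit 143376, nat_lit 139272, nat_lit 138700, nat_lit 133747, nat_lit 804, nat_lit 7904, nat_lit 11624, nat_lit 15472, nat_lit 16896, nat_lit 24448, nat_lit 26880, nat_lit 31744, nat_lit 43008, nat_lit 46218, nat_lit 41888, nat_lit 38200, nat_lit 32778, nat_lit 29309, nat_lit 20494, nat_lit 12323, nat_lit 8194, nat_lit 421893, nat_lit 405506, nat_lit 139304, nat_lit 41088, nat_lit 37036, nat_lit 32800, nat_lit 24608, nat_lit 16388, nat_lit 327680]⟩)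
 (.leaf ⟨[nat_lit 0xb1bddb1564342ef0350b30b92763ed12280d, nat_lit 0x12418b6284f716f1224e39201033675a2ec1], [nat_lit 69632, nat_lit 77824, nat_lit 90112, nat_lit 94208, nat_lit 106496, nat_lit 174080, nat_lit 169984, nat_lit 164352, nat_lit 162560, nat_lit 157952, nat_lit 152384, nat_lit 151088, nat_lit 145736, nat_lit 142072, nat_lit 135934, nat_lit 134123, nat_lit 2614, nat_lit 6308, nat_lit 8536, nat_lit 13344, nat_lit 18752, nat_lit 24320, nat_lit 27520, nat_lit 29952, nat_lit 34304, nat_lit 46521, nat_lit 43904, nat_lit 38056, nat_lit 34834, nat_lit 28754, nat_lit 24735, nat_lit 20747, nat_lit 16388, nat_lit 12352, nat_lit 8203, nat_lit 4100, nat_lit 413698, nat_lit 397312, nat_lit 139296, nat_lit 131104, nat_lit 40992, nat_lit 36866, nat_lit 32807, nat_lit 28711, nat_lit 24615, nat_lit 16386, nat_lit 12290, nat_lit 327680]⟩))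
 (.node (nat_lit 299) (.leaf ⟨[nat_lit 0xe42db4a8c8060629689522cef0a216679dd6, nat_lit 0xaaa33a3a4a6802ed1562c7503342d441c9f6, nat_lit 0xbbe484a38643c94610133bc116696a162e2f], [nat_lit 73728, nat_lit 86016, nat_lit 90112, nat_lit 98304, nat_lit 110592, nat_lit 178176, nat_lit 173056, nat_lit 168448, nat_lit 164864, nat_lit 162816, nat_lit 158656, nat_lit 152640, nat_lit 149232, nat_lit 143584, nat_lit 140836, nat_lit 136726, nat_lit 131777, nat_lit 2668, nat_lit 5992, nat_lit 10160, nat_lit 12688, nat_lit 17664, nat_lit 20864, nat_lit 24960, nat_lit 29440, nat_lit 33280, nat_lit 45211, nat_lit 41682, nat_lit 37184, nat_lit 32960, nat_lit 28795, nat_lit 24582, nat_lit 20486, nat_lit 16386, nat_lit 12422, nat_lit 8195, nat_lit 4101, nat_lit 4, nat_lit 417797, nat_lit 405506, nat_lit 397312, nat_lit 143456, nat_lit 139296, nat_lit 135172, nat_lit 131108, nat_lit 45152, nat_lit 40992, nat_lit 36879, nat_lit 32832, nat_lit 28704, nat_lit 16389]⟩)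
 (.leaf ⟨[nat_lit 0x6c63950c5e705542b98a884d747313693464, nat_lit 0x2822d82dc51904957b14e5b528858c3a1c13, nat_lit 0x8d7eed5d2ac7ca680de04514ce1a5a201e36], [nat_lit 65536, nat_lit 77824, nat_lit 81920, nat_lit 86016, nat_lit 178176, nat_lit 171008, nat_lit 166400, nat_lit 162304, nat_lit 157568, nat_lit 154592, nat_lit 149968, nat_lit 144000, nat_lit 141548, nat_lit 135230, nat_lit 132119, nat_lit 6880, nat_lit 9448, nat_lit 13120, nat_lit 19488, nat_lit 20544, nat_lit 27648, nat_lit 31744, nat_lit 35840, nat_lit 39936, nat_lit 47101, nat_lit 41031, nat_lit 39297, nat_lit 21019, nat_lit 16907, nat_lit 12804, nat_lit 8195, nat_lit 4097, nat_lit 2, nat_lit 430085, nat_lit 405506, nat_lit 397312, nat_lit 152064, nat_lit 143392, nat_lit 139776, nat_lit 135200, nat_lit 45583, nat_lit 40992, nat_lit 32800, nat_lit 28704, nat_lit 24608, nat_lit 16389]⟩)))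
 (.node (nat_lit 302) (.node (nat_lit 301) (.leaf ⟨[nat_lit 0x303503ab00970aca3b64f4416518624b9a74, nat_lit 0x7b122d3b615bba4400c2bb3e26616934890a, nat_lit 0x884e216522f711632d8d30de403b4484d550], [nat_lit 65536, nat_lit 73728, nat_lit 81920, nat_lit 86016, nat_lit 90112, nat_lit 94208, nat_lit 102400, nat_lit 173056, nat_lit 168448, nat_lit 164096, nat_lit 159872, nat_lit 158016, nat_lit 154976, nat_lit 150976, nat_lit 144440, nat_lit 139420, nat_lit 135190, nat_lit 131495, nat_lit 800, nat_lit 7612, nat_lit 11648, nat_lit 15696, nat_lit 17984, nat_lit 20800, nat_lit 24704, nat_lit 32256, nat_lit 37888, nat_lit 43008, nat_lit 45491, nat_lit 41843, nat_lit 38182, nat_lit 33926, nat_lit 28755, nat_lit 24704, nat_lit 20757, nat_lit 16454, nat_lit 12294, nat_lit 8200, nat_lit 16, nat_lit 413700, nat_lit 405506, nat_lit 397312, nat_lit 139296, nat_lit 135176, nat_lit 131130, nat_lit 45077, nat_lit 40992, nat_lit 36879, nat_lit 32821, nat_lit 28725, nat_lit 24629, nat_lit 327680]⟩)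
 (.leaf ⟨[nat_lit 0x3f9fca2ce8671d2118ab2201aa442eb8b1f6, nat_lit 0x3505309258125cc71c16f2d2b6039136c44a, nat_lit 0xac3ffa4804a814916be9799cd20ad0375aac], [nat_lit 69632, nat_lit 73728, nat_lit 86016, nat_lit 90112, nat_lit 98304, nat_lit 106496, nat_lit 178176, nat_lit 171008, nat_lit 164096, nat_lit 160640, nat_lit 159616, nat_lit 155520, nat_lit 149312, nat_lit 146576, nat_lit 143272, nat_lit 138470, nat_lit 131395, nat_lit 256, nat_lit 8184, nat_lit 9000, nat_lit 13600, nat_lit 17760, nat_lit 21120, nat_lit 26880, nat_lit 30720, nat_lit 36352, nat_lit 38912, nat_lit 43008, nat_lit 45661, nat_lit 41087, nat_lit 37090, nat_lit 32991, nat_lit 28674, nat_lit 24637, nat_lit 20573, nat_lit 16459, nat_lit 12353, nat_lit 8202, nat_lit 4100, nat_lit 413700, nat_lit 405506, nat_lit 397312, nat_lit 139320, nat_lit 135196, nat_lit 131112, nat_lit 45077, nat_lit 40992, nat_lit 36890, nat_lit 32800, nat_lit 28725, nat_lit 24608]⟩))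
 (.node (nat_lit 303) (.leaf ⟨[nat_lit 0xd8781e4904f6c5d5530e38510b2cee6b0412, nat_lit 0x8224d42c1a62544b7525653228024f798de1], [nat_lit 65536, nat_lit 73728, nat_lit 77824, nat_lit 81920, nat_lit 94208, nat_lit 106496, nat_lit 163200, nat_lit 157312, nat_lit 154656, nat_lit 148096, nat_lit 144400, nat_lit 139392, nat_lit 138342, nat_lit 134911, nat_lit 3056, nat_lit 5964, nat_lit 10056, nat_lit 12864, nat_lit 19744, nat_lit 23424, nat_lit 25728, nat_lit 30464, nat_lit 34304, nat_lit 46942, nat_lit 41410, nat_lit 38999, nat_lit 33451, nat_lit 28755, nat_lit 24604, nat_lit 20489, nat_lit 16392, nat_lit 12311, nat_lit 8194, nat_lit 4097, nat_lit 2, nat_lit 413699, nat_lit 397312, nat_lit 143392, nat_lit 135208, nat_lit 131114, nat_lit 41003, nat_lit 36865, nat_lit 32811, nat_lit 28704, nat_lit 24619, nat_lit 8193]⟩)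
 (.leaf ⟨[nat_lit 0xedd7e88b4490aa4cba1653807623dd59c0d4, nat_lit 0xe24e8b326d3a12482d5500b062681ee5de27, nat_lit 0x471d4e5d0092498a705f53584599d0d80e37], [nat_lit 65536, nat_lit 81920, nat_lit 94208, nat_lit 106496, nat_lit 178176, nat_lit 168448, nat_lit 165888, nat_lit 161024, nat_lit 159232, nat_lit 154048, nat_lit 150864, nat_lit 146744, nat_lit 142180, nat_lit 137780, nat_lit 134260, nat_lit 1176, nat_lit 6148, nat_lit 9408, nat_lit 14432, nat_lit 18944, nat_lit 22656, nat_lit 25600, nat_lit 29696, nat_lit 33792, nat_lit 39936, nat_lit 46093, nat_lit 43149, nat_lit 28704, nat_lit 20608, nat_lit 16387, nat_lit 14342, nat_lit 4105, nat_lit 8, nat_lit 430085, nat_lit 405506, nat_lit 397312, nat_lit 152064, nat_lit 143392, nat_lit 139776, nat_lit 135200, nat_lit 45583, nat_lit 40992, nat_lit 32800, nat_lit 28704, nat_lit 24608, nat_lit 16389, nat_lit 327680]⟩))))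

theorem dcME37_ok : dcME37.all (elB (nat_lit 0)) = true := by decide +kernel

def dcME38 : BT El := (.node (nat_lit 308) (.node (nat_lit 306) (.node (nat_lit 305) (.leaf ndMr7_34)
 (.leaf ⟨[nat_lit 0xb7478829c445da2f93534acd4e85d0c30403, nat_lit 0x53fc5f954a081c56bd16d4b8869b22a78d01, nat_lit 0xf50c660ca91241c950eab31c569b4a8bbd80, nat_lit 0x448d1839120b32658be8680d125d457539a1], [nat_lit 65536, nat_lit 69632, nat_lit 73728, nat_lit 77824, nat_lit 106496, nat_lit 178176, nat_lit 174080, nat_lit 169984, nat_lit 166144, nat_lit 161920, nat_lit 158208, nat_lit 152064, nat_lit 150432, nat_lit 143976, nat_lit 140368, nat_lit 136970, nat_lit 135015, nat_lit 1422, nat_lit 4212, nat_lit 10512, nat_lit 13072, nat_lit 16448, nat_lit 21184, nat_lit 27648, nat_lit 30464, nat_lit 35328, nat_lit 38912, nat_lit 46912, nat_lit 43129, nat_lit 37956, nat_lit 33435, nat_lit 28736, nat_lit 24744, nat_lit 20546, nat_lit 16906, nat_lit 12324, nat_lit 8201, nat_lit 434185, nat_lit 421894, nat_lit 413700,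 nat_lit 405506, nat_lit 397312, nat_lit 156288, nat_lit 153216, nat_lit 148640, nat_lit 143552, nat_lit 139968, nat_lit 135800, nat_lit 131174, nat_lit 45062, nat_lit 33007]⟩))
 (.node (nat_lit 307) (.leaf ndMr3_11)
 (.leaf ⟨[nat_lit 0x7b7b4e5566e45d906a692b45eb3944418406], [nat_lit 69632, nat_lit 73728, nat_lit 81920, nat_lit 86016, nat_lit 94208, nat_lit 98304, nat_lit 102400, nat_lit 106496, nat_lit 171008, nat_lit 167680, nat_lit 160128, nat_lit 156736, nat_lit 152704, nat_lit 150448, nat_lit 143912, nat_lit 142096, nat_lit 136534, nat_lit 135144, nat_lit 116, nat_lit 4212, nat_lit 11376, nat_lit 15360, nat_lit 17408, nat_lit 23424, nat_lit 27648, nat_lit 31488, nat_lit 38912, nat_lit 43008, nat_lit 41857, nat_lit 38090, nat_lit 33428, nat_lit 28789, nat_lit 24577, nat_lit 20624, nat_lit 16385, nat_lit 12289, nat_lit 8195, nat_lit 4101]⟩)))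
 (.node (nat_lit 310) (.node (nat_lit 309) (.leaf ⟨[nat_lit 0x7187277a2655853671952a8a3038e84031b7], [nat_lit 65536, nat_lit 73728, nat_lit 77824, nat_lit 90112, nat_lit 106496, nat_lit 175104, nat_lit 169472, nat_lit 164608, nat_lit 160128, nat_lit 157376, nat_lit 154880, nat_lit 148400, nat_lit 145424, nat_lit 141096, nat_lit 137690, nat_lit 133509, nat_lit 3190, nat_lit 5512, nat_lit 10552, nat_lit 13632, nat_lit 16576, nat_lit 22336, nat_lit 26624, nat_lit 32512, nat_lit 34304, nat_lit 39936, nat_lit 41602, nat_lit 36924, nat_lit 32906, nat_lit 28714, nat_lit 24629, nat_lit 20575, nat_lit 16394, nat_lit 12293, nat_lit 4113]⟩)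
 (.leaf ⟨[nat_lit 0xbb28d16cd654287573e82802363dc24930c9], [nat_lit 86016, nat_lit 90112, nat_lit 94208, nat_lit 98304, nat_lit 106496, nat_lit 175104, nat_lit 168960, nat_lit 166400, nat_lit 161792, nat_lit 159488, nat_lit 153216, nat_lit 149056, nat_lit 143840, nat_lit 141616, nat_lit 138838, nat_lit 131519, nat_lit 2772, nat_lit 6596, nat_lit 8504, nat_lit 14576, nat_lit 19456, nat_lit 22848, nat_lit 28032, nat_lit 30720, nat_lit 35840, nat_lit 41570, nat_lit 38361, nat_lit 33389, nat_lit 29019, nat_lit 24870, nat_lit 20563, nat_lit 16387, nat_lit 12422, nat_lit 8320, nat_lit 4097]⟩))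
 (.node (nat_lit 311) (.leaf ⟨[nat_lit 0xd8d2d81da0d4192b05df2989d53a8a48b281], [nat_lit 69632, nat_lit 73728, nat_lit 86016, nat_lit 90112, nat_lit 94208, nat_lit 98304, nat_lit 106496, nat_lit 178176, nat_lit 173056, nat_lit 168960, nat_lit 167680, nat_lit 161152, nat_lit 156032, nat_lit 152448, nat_lit 150464, nat_lit 145944, nat_lit 141124, nat_lit 136394, nat_lit 134762, nat_lit 2542, nat_lit 4380, nat_lit 8504, nat_lit 14832, nat_lit 19456, nat_lit 21504, nat_lit 28032, nat_lit 29696, nat_lit 36352, nat_lit 43008, nat_lit 41541, nat_lit 37162, nat_lit 33311, nat_lit 25611, nat_lit 20487, nat_lit 12358, nat_lit 8225, nat_lit 4100, nat_lit 32]⟩)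
 (.leaf ⟨[nat_lit 0xdb18b80ae65849d51828c43d363dda4508d1], [nat_lit 65536, nat_lit 77824, nat_lit 81920, nat_lit 86016, nat_lit 102400, nat_lit 170496, nat_lit 167424, nat_lit 160128, nat_lit 158080, nat_lit 152768, nat_lit 150080, nat_lit 145776, nat_lit 139808, nat_lit 136944, nat_lit 133790, nat_lit 3346, nat_lit 4348, nat_lit 15248, nat_lit 18432, nat_lit 21312, nat_lit 28544, nat_lit 31744, nat_lit 36352, nat_lit 37888, nat_lit 41483, nat_lit 38271, nat_lit 33443, nat_lit 29012, nat_lit 24870, nat_lit 20561, nat_lit 13314, nat_lit 4225, nat_lit 8, nat_lit 327680]⟩))))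

theorem dcME38_ok : dcME38.all (elB (nat_lit 0)) = true := by decide +kernel

def dcME39 : BT El := (.node (nat_lit 316) (.node (nat_lit 314) (.node (nat_lit 313) (.leaf ⟨[nat_lit 0xebbb270d6c25c530182f49c9483b1a4718af], [nat_lit 69632, nat_lit 77824, nat_lit 81920, nat_lit 94208, nat_lit 106496, nat_lit 178176, nat_lit 174080, nat_lit 168960, nat_lit 167168, nat_lit 163200, nat_lit 156864, nat_lit 155008, nat_lit 151456, nat_lit 144304, nat_lit 140648, nat_lit 136356, nat_lit 134302, nat_lit 1668, nat_lit 5444, nat_lit 11184, nat_lit 13152, nat_lit 16896, nat_lit 23424, nat_lit 27136, nat_lit 29696, nat_lit 35328, nat_lit 39936, nat_lit 43008, nat_lit 41242, nat_lit 36994, nat_lit 29195, nat_lit 20500, nat_lit 12421, nat_lit 8200, nat_lit 4608, nat_lit 128, nat_lit 327680]⟩)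
 (.leaf ⟨[nat_lit 0xa09cf62c2cd45c3571a929c40b3a864131e9], [nat_lit 65536, nat_lit 73728, nat_lit 170496, nat_lit 166912, nat_lit 161536, nat_lit 156288, nat_lit 152160, nat_lit 149920, nat_lit 143496, nat_lit 141080, nat_lit 137858, nat_lit 132711, nat_lit 434, nat_lit 6828, nat_lit 9104, nat_lit 15600, nat_lit 17120, nat_lit 22848, nat_lit 25728, nat_lit 29952, nat_lit 34304, nat_lit 39936, nat_lit 43008, nat_lit 41306, nat_lit 37237, nat_lit 33512, nat_lit 28990, nat_lit 24586, nat_lit 20488, nat_lit 16646, nat_lit 12295, nat_lit 8202, nat_lit 4097]⟩))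
 (.node (nat_lit 315) (.leaf ⟨[nat_lit 0x4b4eb20d90e844d36a45458d9539644b814f], [nat_lit 65536, nat_lit 69632, nat_lit 77824, nat_lit 81920, nat_lit 94208, nat_lit 102400, nat_lit 178176, nat_lit 168448, nat_lit 166400, nat_lit 160384, nat_lit 159488, nat_lit 152384, nat_lit 149072, nat_lit 146904, nat_lit 142528, nat_lit 136190, nat_lit 132540, nat_lit 2170, nat_lit 7952, nat_lit 9328, nat_lit 13664, nat_lit 18944, nat_lit 20992, nat_lit 25600, nat_lit 32512, nat_lit 34304, nat_lit 39936, nat_lit 41856, nat_lit 33913, nat_lit 29049, nat_lit 24581, nat_lit 20765, nat_lit 12295, nat_lit 8200, nat_lit 4100, nat_lit 2, nat_lit 327680]⟩)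
 (.leaf ⟨[nat_lit 0xb42821142b4430d6785b25a8133c4642ddc9], [nat_lit 69632, nat_lit 73728, nat_lit 77824, nat_lit 86016, nat_lit 90112, nat_lit 98304, nat_lit 102400, nat_lit 106496, nat_lit 178176, nat_lit 169984, nat_lit 166912, nat_lit 161920, nat_lit 157312, nat_lit 153376, nat_lit 148848, nat_lit 144872, nat_lit 141392, nat_lit 138038, nat_lit 134785, nat_lit 2482, nat_lit 7816, nat_lit 9160, nat_lit 13552, nat_lit 16512, nat_lit 22656, nat_lit 24832, nat_lit 29952, nat_lit 33792, nat_lit 37888, nat_lit 41870, nat_lit 37888, nat_lit 32955, nat_lit 29005, nat_lit 24763, nat_lit 20494, nat_lit 16398, nat_lit 12294, nat_lit 8203, nat_lit 4]⟩)))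
 (.node (nat_lit 318) (.node (nat_lit 317) (.leaf ⟨[nat_lit 0x21ebd135600449b3a44a15baf63b14413d23], [nat_lit 81920, nat_lit 86016, nat_lit 90112, nat_lit 94208, nat_lit 98304, nat_lit 102400, nat_lit 106496, nat_lit 175104, nat_lit 170496, nat_lit 164352, nat_lit 160000, nat_lit 155776, nat_lit 154048, nat_lit 149040, nat_lit 145496, nat_lit 142300, nat_lit 136048, nat_lit 133771, nat_lit 2056, nat_lit 5572, nat_lit 10088, nat_lit 14176, nat_lit 18432, nat_lit 24384, nat_lit 27904, nat_lit 30464, nat_lit 36352, nat_lit 39936, nat_lit 41114, nat_lit 37293, nat_lit 33009, nat_lit 28791, nat_lit 24756, nat_lit 20489, nat_lit 12292, nat_lit 8200, nat_lit 32, nat_lit 327680]⟩)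
 (.leaf ⟨[nat_lit 0xdb71246c26f5a6f508cc5b2a88388046464e], [nat_lit 73728, nat_lit 77824, nat_lit 98304, nat_lit 102400, nat_lit 178176, nat_lit 173056, nat_lit 169472, nat_lit 167424, nat_lit 161280, nat_lit 157056, nat_lit 152448, nat_lit 150944, nat_lit 146520, nat_lit 140144, nat_lit 135288, nat_lit 134700, nat_lit 2390, nat_lit 5572, nat_lit 11696, nat_lit 13552, nat_lit 22016, nat_lit 26368, nat_lit 29696, nat_lit 34816, nat_lit 38912, nat_lit 43008, nat_lit 41910, nat_lit 36949, nat_lit 32770, nat_lit 28689, nat_lit 25106, nat_lit 21516, nat_lit 16386, nat_lit 8257, nat_lit 64]⟩))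
 (.node (nat_lit 319) (.leaf ⟨[nat_lit 0xafc690cd02ac956195d75b5903a624a00cf], [nat_lit 65536, nat_lit 69632, nat_lit 73728, nat_lit 94208, nat_lit 102400, nat_lit 173056, nat_lit 171008, nat_lit 164096, nat_lit 163328, nat_lit 159552, nat_lit 155360, nat_lit 149520, nat_lit 144656, nat_lit 141888, nat_lit 137130, nat_lit 134720, nat_lit 3944, nat_lit 5240, nat_lit 12136, nat_lit 14144, nat_lit 22528, nat_lit 28032, nat_lit 30464, nat_lit 39936, nat_lit 41814, nat_lit 38229, nat_lit 33942, nat_lit 28992, nat_lit 24593, nat_lit 20492, nat_lit 12324, nat_lit 8225, nat_lit 4609, nat_lit 4, nat_lit 327680]⟩)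
 (.leaf ndMr4_9))))

theorem dcME39_ok : dcME39.all (elB (nat_lit 0)) = true := by decide +kernel

def dcME40 : BT El := (.node (nat_lit 324) (.node (nat_lit 322) (.node (nat_lit 321) (.leaf ⟨[nat_lit 0x77d74d30da9050328ddec2a84e392b385968, nat_lit 0xb48d1781e26bb99412d0008d496bed5910b3], [nat_lit 73728, nat_lit 81920, nat_lit 86016, nat_lit 90112, nat_lit 106496, nat_lit 175104, nat_lit 171008, nat_lit 164096, nat_lit 161024, nat_lit 158592, nat_lit 155488, nat_lit 149568, nat_lit 145032, nat_lit 141396, nat_lit 139076, nat_lit 131523, nat_lit 3310, nat_lit 6448, nat_lit 9384, nat_lit 14624, nat_lit 16672, nat_lit 23168, nat_lit 25472, nat_lit 30464, nat_lit 33280, nat_lit 38912, nat_lit 43008, nat_lit 45925, nat_lit 41198, nat_lit 39341, nat_lit 32908, nat_lit 28766, nat_lit 24758, nat_lit 20573, nat_lit 16394, nat_lit 12304, nat_lit 4104, nat_lit 32, nat_lit 425988, nat_lit 397312, nat_lit 131346, nat_lit 28688, nat_lit 24592, nat_lit 20482, nat_lit 12289, nat_lit 8194, nat_lit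 327680]⟩)
 (.leaf ndMr6_18))
 (.node (nat_lit 323) (.leaf ⟨[nat_lit 0x4d11d7020f4349854cdab83ef51862eb088a, nat_lit 0x488bdd08c0294e1152d0931487ada97635cf], [nat_lit 65536, nat_lit 73728, nat_lit 77824, nat_lit 168960, nat_lit 165120, nat_lit 163456, nat_lit 158848, nat_lit 152320, nat_lit 150768, nat_lit 144888, nat_lit 142892, nat_lit 136534, nat_lit 131748, nat_lit 4016, nat_lit 7556, nat_lit 9752, nat_lit 15296, nat_lit 17248, nat_lit 23104, nat_lit 27776, nat_lit 29184, nat_lit 37888, nat_lit 43008, nat_lit 46746, nat_lit 43979, nat_lit 36992, nat_lit 33849, nat_lit 29227, nat_lit 24882, nat_lit 20482, nat_lit 16449, nat_lit 12311, nat_lit 8195, nat_lit 4097, nat_lit 425989, nat_lit 409600, nat_lit 131360, nat_lit 40976, nat_lit 28688, nat_lit 12289, nat_lit 8193, nat_lit 4097, nat_lit 327680]⟩)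
 (.leaf ndMr6_10)))
 (.node (nat_lit 326) (.node (nat_lit 325) (.leaf ⟨[nat_lit 0x6f9a5f258c59314298dcb6c429bd0f54020f, nat_lit 0x6c5fcf5de6ea0cf5605e645a4d2460251520, nat_lit 0xf99636c0405183628e88ab23724cef9256e], [nat_lit 73728, nat_lit 81920, nat_lit 90112, nat_lit 102400, nat_lit 110592, nat_lit 178176, nat_lit 175104, nat_lit 169472, nat_lit 164864, nat_lit 161664, nat_lit 156928, nat_lit 151808, nat_lit 149712, nat_lit 145168, nat_lit 140804, nat_lit 137132, nat_lit 131140, nat_lit 3890, nat_lit 5256, nat_lit 8368, nat_lit 15744, nat_lit 17728, nat_lit 23296, nat_lit 27520, nat_lit 30208, nat_lit 34816, nat_lit 46431, nat_lit 41557, nat_lit 37081, nat_lit 32985, nat_lit 29042, nat_lit 24851, nat_lit 20500, nat_lit 16395, nat_lit 12295, nat_lit 8202, nat_lit 4097, nat_lit 425991, nat_lit 413700, nat_lit 405506, nat_lit 397312, nat_lit 160000, nat_lit 151936, nat_lit 147488, nat_lit 143760, nat_lit 139304, nat_lit 135296, nat_lit 131516, nat_lit 45483, nat_lit 40991, nat_lit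 37133, nat_lit 24634, nat_lit 327680]⟩)
 (.leaf ndMr6_46))
 (.node (nat_lit 327) (.leaf ⟨[nat_lit 0xbd884baada470193b8e362c0c2a28ef0a648, nat_lit 0x533ffa32ad50dd91411cd826659500f188eb, nat_lit 0xbb8d18aba560442d31e6c83d091128b28d57, nat_lit 0xcaa0f9aa2c47c434930173354e5c26748ca2], [nat_lit 69632, nat_lit 77824, nat_lit 81920, nat_lit 90112, nat_lit 178176, nat_lit 175104, nat_lit 168960, nat_lit 166144, nat_lit 155968, nat_lit 152352, nat_lit 149856, nat_lit 145792, nat_lit 142080, nat_lit 137620, nat_lit 133079, nat_lit 3526, nat_lit 5856, nat_lit 8952, nat_lit 15552, nat_lit 17696, nat_lit 21888, nat_lit 25344, nat_lit 29440, nat_lit 35840, nat_lit 43008, nat_lit 46812, nat_lit 43198, nat_lit 37232, nat_lit 33023, nat_lit 28695, nat_lit 24857, nat_lit 20487, nat_lit 16520, nat_lit 12292, nat_lit 8194, nat_lit 4097, nat_lit 430088, nat_lit 421894, nat_lit 413700, nat_lit 405506, nat_lit 397312, nat_lit 156288, nat_lit 148064, nat_lit 143904, nat_lit 140008, nat_lit 135772, nat_lit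 131724, nat_lit 45928, nat_lit 41551]⟩)
 (.leaf ndMr6_5))))

theorem dcME40_ok : dcME40.all (elB (nat_lit 0)) = true := by decide +kernel

def dcME41 : BT El := (.node (nat_lit 332) (.node (nat_lit 330) (.node (nat_lit 329) (.leaf ⟨[nat_lit 0x2e288405c6e4552d794d4540e26467624961, nat_lit 0xc0903a4c2cd2bc4c53a375a0663ce41a9014, nat_lit 0xa00a956c50515d69906747b8765418621ea0, nat_lit 0x2ddebe3565608c90730f37a8146dd2244565], [nat_lit 69632, nat_lit 73728, nat_lit 77824, nat_lit 81920, nat_lit 90112, nat_lit 94208, nat_lit 102400, nat_lit 106496, nat_lit 110592, nat_lit 168960, nat_lit 160384, nat_lit 156224, nat_lit 152256, nat_lit 149824, nat_lit 144736, nat_lit 140304, nat_lit 135762, nat_lit 131491, nat_lit 674, nat_lit 4576, nat_lit 8440, nat_lit 14192, nat_lit 18944, nat_lit 22336, nat_lit 25216, nat_lit 31232, nat_lit 35840, nat_lit 43008, nat_lit 45826, nat_lit 41842, nat_lit 37115, nat_lit 32990, nat_lit 28984, nat_lit 24712, nat_lit 20492, nat_lit 16655, nat_lit 12325, nat_lit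 8225, nat_lit 4161, nat_lit 434185, nat_lit 425991, nat_lit 417797, nat_lit 405506, nat_lit 397312, nat_lit 164864, nat_lit 161024, nat_lit 156160, nat_lit 153152, nat_lit 143872, nat_lit 140896, nat_lit 135592, nat_lit 132802, nat_lit 45058]⟩)
 (.leaf ndMr6_42))
 (.node (nat_lit 331) (.leaf ⟨[nat_lit 0x66f69f32a61a806e6a2e92ae2223ec764292, nat_lit 0x742e78432e5981ed14087a0eb15c82a359c9, nat_lit 0x8ddb24a85afb246a3ba68b9804a0a126162b, nat_lit 0xa9a05b08266c00a3ca3445d647d5c562473], [nat_lit 69632, nat_lit 77824, nat_lit 86016, nat_lit 90112, nat_lit 106496, nat_lit 110592, nat_lit 178176, nat_lit 174080, nat_lit 171008, nat_lit 165632, nat_lit 162304, nat_lit 155968, nat_lit 153120, nat_lit 149552, nat_lit 145808, nat_lit 141704, nat_lit 138482, nat_lit 132763, nat_lit 3492, nat_lit 5856, nat_lit 9280, nat_lit 14816, nat_lit 16864, nat_lit 22080, nat_lit 26752, nat_lit 29952, nat_lit 33280, nat_lit 39936, nat_lit 43008, nat_lit 46303, nat_lit 43668, nat_lit 38230, nat_lit 32775,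 nat_lit 28725, nat_lit 24611, nat_lit 20483, nat_lit 16519, nat_lit 12800, nat_lit 8195, nat_lit 4097, nat_lit 2, nat_lit 438282, nat_lit 430088, nat_lit 421894, nat_lit 413700, nat_lit 405506, nat_lit 397312, nat_lit 174080, nat_lit 164864, nat_lit 160512, nat_lit 155904, nat_lit 153792, nat_lit 148384, nat_lit 143680, nat_lit 141056, nat_lit 139072, nat_lit 133112]⟩)
 (.leaf ndMr6_9)))
 (.node (nat_lit 334) (.node (nat_lit 333) (.leaf ⟨[nat_lit 0x9555935a4b42567130816bbd871a24e5402d, nat_lit 0x218dbd235720a2a92c5ca63c57b1cc098e90, nat_lit 0x72d4d47412c928a71207109aad9ae96011f7, nat_lit 0x9953a91850d54a0e982c43952c346a27dd74], [nat_lit 65536, nat_lit 69632, nat_lit 98304, nat_lit 102400, nat_lit 171520, nat_lit 167424, nat_lit 163200, nat_lit 157376, nat_lit 153312, nat_lit 147488, nat_lit 145744, nat_lit 142488, nat_lit 136246, nat_lit 134029, nat_lit 3776, nat_lit 8104, nat_lit 9920, nat_lit 15600, nat_lit 18784, nat_lit 21248, nat_lit 26624, nat_lit 29696, nat_lit 35840, nat_lit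 39936, nat_lit 47002, nat_lit 43522, nat_lit 39327, nat_lit 34012, nat_lit 28796, nat_lit 24718, nat_lit 20557, nat_lit 16385, nat_lit 8226, nat_lit 4128, nat_lit 438282, nat_lit 430088, nat_lit 421894, nat_lit 413700, nat_lit 405506, nat_lit 397312, nat_lit 169984, nat_lit 166400, nat_lit 161280, nat_lit 157056, nat_lit 155136, nat_lit 149888, nat_lit 146720, nat_lit 142584, nat_lit 137464, nat_lit 131484]⟩)
 (.leaf ndMr7_31))
 (.node (nat_lit 335) (.leaf ⟨[nat_lit 0x124e8460493aa0c5b4a2b80dc74b68f15d40, nat_lit 0x14777261684a880f4596d9ba57544e11c126, nat_lit 0xe78eb735e0192db171145a9c53b25f41b008], [nat_lit 69632, nat_lit 73728, nat_lit 77824, nat_lit 90112, nat_lit 98304, nat_lit 110592, nat_lit 174080, nat_lit 166144, nat_lit 162176, nat_lit 159424, nat_lit 154528, nat_lit 149120, nat_lit 145368, nat_lit 139744, nat_lit 137484, nat_lit 133900, nat_lit 2422, nat_lit 5120, nat_lit 12016, nat_lit 16160, nat_lit 16640, nat_lit 22400, nat_lit 27520, nat_lit 29440, nat_lit 33280,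 nat_lit 43008, nat_lit 45069, nat_lit 41357, nat_lit 36972, nat_lit 34024, nat_lit 29768, nat_lit 24638, nat_lit 20561, nat_lit 16386, nat_lit 12327, nat_lit 8227, nat_lit 32, nat_lit 421894, nat_lit 413700, nat_lit 405506, nat_lit 397312, nat_lit 151616, nat_lit 147648, nat_lit 143472, nat_lit 139432, nat_lit 135328, nat_lit 131310, nat_lit 45199, nat_lit 41103, nat_lit 36992, nat_lit 33004]⟩)
 (.leaf ndMr7_25))))

theorem dcME41_ok : dcME41.all (elB (nat_lit 0)) = true := by decide +kernel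

def dcME42 : BT El := (.node (nat_lit 340) (.node (nat_lit 338) (.node (nat_lit 337) (.leaf ⟨[nat_lit 0xbe718172055634b28d8f70049050e8f4ae66, nat_lit 0x9a5a930357441d3320451954b7b286e830cf, nat_lit 0xbee7e248d4c752e1ac9062da2b3904f83413], [nat_lit 65536, nat_lit 73728, nat_lit 77824, nat_lit 86016, nat_lit 90112, nat_lit 106496, nat_lit 110592, nat_lit 178176, nat_lit 170496, nat_lit 164096, nat_lit 163456, nat_lit 157504, nat_lit 154016, nat_lit 149184, nat_lit 145992, nat_lit 142648, nat_lit 135864, nat_lit 134008, nat_lit 1140, nat_lit 5400, nat_lit 9296, nat_lit 12512, nat_lit 16608, nat_lit 21952, nat_lit 27264, nat_lit 32512, nat_lit 35840, nat_lit 37888, nat_lit 46766, nat_lit 41680, nat_lit 38299, nat_lit 32890, nat_lit 28686, nat_lit 24842, nat_lit 20481, nat_lit 16393, nat_lit 12290, nat_lit 8320, nat_lit 4097, nat_lit 430088, nat_lit 417796, nat_lit 405506, nat_lit 397312, nat_lit 164352, nat_lit 147776, nat_lit 143616, nat_lit 139272, nat_lit 135424, nat_lit 131136,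 nat_lit 45643, nat_lit 41742, nat_lit 28674, nat_lit 20496]⟩)
 (.leaf ndMr7_21))
 (.node (nat_lit 339) (.leaf ⟨[nat_lit 0x2778e1052417dd9121eb385968335237144a, nat_lit 0xb24b1e626f6854e368161299c854a6fa4482, nat_lit 0xaaca5954410110a99dccf3d24d1a2b67056c, nat_lit 0xe478723a5845b611751159d8a010d4f306f2], [nat_lit 65536, nat_lit 73728, nat_lit 77824, nat_lit 94208, nat_lit 106496, nat_lit 110592, nat_lit 178176, nat_lit 174080, nat_lit 169472, nat_lit 165888, nat_lit 158016, nat_lit 153056, nat_lit 148944, nat_lit 144544, nat_lit 139584, nat_lit 135304, nat_lit 133876, nat_lit 1224, nat_lit 7720, nat_lit 9264, nat_lit 13264, nat_lit 20160, nat_lit 22976, nat_lit 28160, nat_lit 30720, nat_lit 35840, nat_lit 39936, nat_lit 43008, nat_lit 45828, nat_lit 41333, nat_lit 39068, nat_lit 33009, nat_lit 28937, nat_lit 24763, nat_lit 20627, nat_lit 16519, nat_lit 12290, nat_lit 8195, nat_lit 4097, nat_lit 434184, nat_lit 421894, nat_lit 413700, nat_lit 405506, nat_lit 397312, nat_lit 164864,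 nat_lit 160768, nat_lit 156672, nat_lit 152576, nat_lit 148544, nat_lit 143456, nat_lit 139752, nat_lit 136244, nat_lit 132416, nat_lit 46336, nat_lit 37300, nat_lit 327680]⟩)
 (.leaf ndMr8_0)))
 (.node (nat_lit 342) (.node (nat_lit 341) (.leaf ⟨[nat_lit 0xd722d85d8b153123b868e11c8f9b600322b2, nat_lit 0xee2edd14a1633e6b29ea0245a8706ec4d06a, nat_lit 0x963cf5d408250669dc318152c53a476bc56, nat_lit 0x8e448208202b19aa1ca71bbd65624f471115], [nat_lit 65536, nat_lit 69632, nat_lit 73728, nat_lit 90112, nat_lit 102400, nat_lit 106496, nat_lit 110592, nat_lit 178176, nat_lit 164352, nat_lit 160896, nat_lit 156416, nat_lit 152192, nat_lit 149088, nat_lit 146576, nat_lit 140072, nat_lit 135646, nat_lit 132730, nat_lit 4052, nat_lit 7944, nat_lit 8800, nat_lit 14000, nat_lit 19520, nat_lit 23232, nat_lit 27904, nat_lit 31488, nat_lit 33792, nat_lit 37888, nat_lit 43008, nat_lit 46511, nat_lit 43538, nat_lit 38030, nat_lit 32850, nat_lit 29779, nat_lit 24738, nat_lit 20509, nat_lit 16386, nat_lit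 12327, nat_lit 4104, nat_lit 438282, nat_lit 430088, nat_lit 421894, nat_lit 413700, nat_lit 405506, nat_lit 397312, nat_lit 171008, nat_lit 166400, nat_lit 162048, nat_lit 157440, nat_lit 154496, nat_lit 147520, nat_lit 145696, nat_lit 141616, nat_lit 137208, nat_lit 131142]⟩)
 (.leaf ndMr8_1))
 (.node (nat_lit 343) (.leaf ⟨[nat_lit 0xb17e815c52e7c0a6932f541016550e268e61, nat_lit 0xa9336c391e12c2a932ad31c64d5b100752e2, nat_lit 0xfa565f00462bda9584a7129c864a14b635cf], [nat_lit 65536, nat_lit 73728, nat_lit 90112, nat_lit 98304, nat_lit 102400, nat_lit 106496, nat_lit 110592, nat_lit 178176, nat_lit 174080, nat_lit 171008, nat_lit 167168, nat_lit 163456, nat_lit 156224, nat_lit 155328, nat_lit 147632, nat_lit 145424, nat_lit 142528, nat_lit 135734, nat_lit 135118, nat_lit 1052, nat_lit 6760, nat_lit 10144, nat_lit 14992, nat_lit 19648, nat_lit 21248, nat_lit 25728, nat_lit 30720, nat_lit 35840, nat_lit 39936, nat_lit 46712, nat_lit 43072, nat_lit 37091, nat_lit 32789, nat_lit 29278,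 nat_lit 25150, nat_lit 20617, nat_lit 16398, nat_lit 12305, nat_lit 8194, nat_lit 8, nat_lit 425990, nat_lit 413700, nat_lit 405506, nat_lit 397312, nat_lit 151808, nat_lit 147744, nat_lit 143728, nat_lit 139304, nat_lit 135544, nat_lit 131124, nat_lit 45071, nat_lit 40991, nat_lit 36928, nat_lit 28761, nat_lit 327680]⟩)
 (.leaf ndMr8_2))))

theorem dcME42_ok : dcME42.all (elB (nat_lit 0)) = true := by decide +kernel

def dcME43 : BT El := (.node (nat_lit 348) (.node (nat_lit 346) (.node (nat_lit 345) (.leaf ⟨[nat_lit 0x27871e0d6f06117402a4978e2e69516388d3, nat_lit 0xf0f00920713954262da0850cfb5d2171275, nat_lit 0xa900c66ae24050419bcc8624f05164eb0ef5, nat_lit 0x9500aa54dcd3acd0b906f020514ca950b0b6], [nat_lit 73728, nat_lit 77824, nat_lit 81920, nat_lit 86016, nat_lit 90112, nat_lit 178176, nat_lit 175104, nat_lit 169984, nat_lit 165120, nat_lit 161920, nat_lit 159424, nat_lit 152352, nat_lit 148544, nat_lit 144800, nat_lit 142672, nat_lit 136710, nat_lit 135143, nat_lit 4016, nat_lit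 5412, nat_lit 10544, nat_lit 14352, nat_lit 16640, nat_lit 24384, nat_lit 24832, nat_lit 32000, nat_lit 35328, nat_lit 39936, nat_lit 43008, nat_lit 46089, nat_lit 41578, nat_lit 38170, nat_lit 32899, nat_lit 28780, nat_lit 24607, nat_lit 20511, nat_lit 16397, nat_lit 12311, nat_lit 8211, nat_lit 4100, nat_lit 16, nat_lit 438280, nat_lit 421894, nat_lit 413700, nat_lit 405506, nat_lit 397312, nat_lit 165888, nat_lit 162048, nat_lit 158080, nat_lit 152000, nat_lit 149600, nat_lit 145616, nat_lit 139288, nat_lit 137428, nat_lit 131252, nat_lit 41422, nat_lit 37041]⟩)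
 (.leaf ndMr8_3))
 (.node (nat_lit 347) (.leaf ⟨[nat_lit 0xb1d447a41ca1308da84f6020c995deb2c473, nat_lit 0xf33590359d11a6b423e573814512dac98608, nat_lit 0x5c599961202aa653551cd416e7b006b33c31, nat_lit 0x78e417281a478d2b932013d51170ad73526a], [nat_lit 65536, nat_lit 73728, nat_lit 81920, nat_lit 90112, nat_lit 94208, nat_lit 106496, nat_lit 110592, nat_lit 178176, nat_lit 168448, nat_lit 164352, nat_lit 161536, nat_lit 156928, nat_lit 152480, nat_lit 148496, nat_lit 147376, nat_lit 136200, nat_lit 131872, nat_lit 2950, nat_lit 8100, nat_lit 10272, nat_lit 13152, nat_lit 17408, nat_lit 24064, nat_lit 25344, nat_lit 30720, nat_lit 36352, nat_lit 39936, nat_lit 45384, nat_lit 41512, nat_lit 37237, nat_lit 33361, nat_lit 28758, nat_lit 24615, nat_lit 20497, nat_lit 16426, nat_lit 12307, nat_lit 8194, nat_lit 4100, nat_lit 16, nat_lit 430088, nat_lit 421894, nat_lit 413700, nat_lit 405506, nat_lit 397312, nat_lit 160000, nat_lit 155776, nat_lit 152000, nat_lit 148160, nat_lit 143664,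 nat_lit 139840, nat_lit 135184, nat_lit 131658, nat_lit 45276, nat_lit 41910]⟩)
 (.leaf ndMr8_4)))
 (.node (nat_lit 350) (.node (nat_lit 349) (.leaf ⟨[nat_lit 0xc359019296135e68c80554d9549d6185d0e, nat_lit 0x84217801a4523935b86d361d14689f180d4b, nat_lit 0x9affa50a6ce3bd9132a4ba344880065a92f3, nat_lit 0x96f99f2a980389ab70d048d6727a426852f6], [nat_lit 65536, nat_lit 94208, nat_lit 106496, nat_lit 110592, nat_lit 178176, nat_lit 174080, nat_lit 169472, nat_lit 165120, nat_lit 160128, nat_lit 157568, nat_lit 152352, nat_lit 148336, nat_lit 145800, nat_lit 141184, nat_lit 136194, nat_lit 131089, nat_lit 1738, nat_lit 7536, nat_lit 8816, nat_lit 16160, nat_lit 18080, nat_lit 21440, nat_lit 27392, nat_lit 31744, nat_lit 33792, nat_lit 39936, nat_lit 46356, nat_lit 41926, nat_lit 38377, nat_lit 32922, nat_lit 28680, nat_lit 24622, nat_lit 20505, nat_lit 16393, nat_lit 12310, nat_lit 8202, nat_lit 4105, nat_lit 4, nat_lit 430088, nat_lit 421894, nat_lit 413700, nat_lit 405506, nat_lit 397312,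 nat_lit 160512, nat_lit 155904, nat_lit 151808, nat_lit 147968, nat_lit 144208, nat_lit 139728, nat_lit 136176, nat_lit 131432, nat_lit 45088, nat_lit 41699, nat_lit 327680]⟩)
 (.leaf ndMr8_5))
 (.node (nat_lit 351) (.leaf ⟨[nat_lit 0x7b8bbea4acd819c58ad2f38d1514d80b902a, nat_lit 0x6c05065ce462a58db92aaa381108ce87d850, nat_lit 0xee484e9b8aa659a1a447002577a90479190f, nat_lit 0x88d74d455a97d0a611e0ab8dc022e41b466c], [nat_lit 65536, nat_lit 86016, nat_lit 90112, nat_lit 102400, nat_lit 106496, nat_lit 173056, nat_lit 169472, nat_lit 164608, nat_lit 162432, nat_lit 158848, nat_lit 155072, nat_lit 150960, nat_lit 144040, nat_lit 141472, nat_lit 137706, nat_lit 133143, nat_lit 2208, nat_lit 7884, nat_lit 8200, nat_lit 15760, nat_lit 18016, nat_lit 24192, nat_lit 27904, nat_lit 32256, nat_lit 33280, nat_lit 39936, nat_lit 43008, nat_lit 45100, nat_lit 41954, nat_lit 38394, nat_lit 33818, nat_lit 29018, nat_lit 24891, nat_lit 20501, nat_lit 16386, nat_lit 12550, nat_lit 8201, nat_lit 4101,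 nat_lit 438280, nat_lit 421894, nat_lit 413700, nat_lit 405506, nat_lit 397312, nat_lit 162048, nat_lit 157952, nat_lit 153984, nat_lit 149920, nat_lit 145760, nat_lit 141792, nat_lit 135336, nat_lit 133404, nat_lit 41132, nat_lit 37091]⟩)
 (.leaf ndMr8_6))))

theorem dcME43_ok : dcME43.all (elB (nat_lit 0)) = true := by decide +kernel

def dcME44 : BT El := (.node (nat_lit 356) (.node (nat_lit 354) (.node (nat_lit 353) (.leaf ⟨[nat_lit 0x88ebe883c4695a6b0b091395541d5206dd0e, nat_lit 0xd14118b41d33dde59008a0991110ead5d189, nat_lit 0x55ca5910567542442a295bb071799a99b816], [nat_lit 65536, nat_lit 73728, nat_lit 81920, nat_lit 86016, nat_lit 102400, nat_lit 106496, nat_lit 110592, nat_lit 174080, nat_lit 168960, nat_lit 166400, nat_lit 161792, nat_lit 159360, nat_lit 154368, nat_lit 150800, nat_lit 146416, nat_lit 141356, nat_lit 136056, nat_lit 133263, nat_lit 336, nat_lit 6972, nat_lit 9448, nat_lit 14688, nat_lit 18848, nat_lit 22784, nat_lit 28032, nat_lit 28928, nat_lit 35840,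 nat_lit 43008, nat_lit 46456, nat_lit 41432, nat_lit 37034, nat_lit 34011, nat_lit 28720, nat_lit 25641, nat_lit 20559, nat_lit 16388, nat_lit 12320, nat_lit 4097, nat_lit 425991, nat_lit 417797, nat_lit 409602, nat_lit 397312, nat_lit 156032, nat_lit 151744, nat_lit 147904, nat_lit 139568, nat_lit 135268, nat_lit 131174, nat_lit 45540, nat_lit 40992, nat_lit 37092]⟩)
 (.leaf ndMr8_7))
 (.node (nat_lit 355) (.leaf ⟨[nat_lit 0x7e782871c0bbc5afaaa489d8414b0c329214, nat_lit 0x36c05f400b175e50a29eb089964ccc3ab487, nat_lit 0xeeed87a960f8a053b9a4cb0e8b6a9c039029], [nat_lit 69632, nat_lit 90112, nat_lit 102400, nat_lit 178176, nat_lit 174080, nat_lit 168960, nat_lit 166912, nat_lit 162944, nat_lit 157120, nat_lit 153152, nat_lit 148016, nat_lit 147296, nat_lit 142184, nat_lit 138364, nat_lit 132558, nat_lit 2810, nat_lit 4284, nat_lit 9192, nat_lit 12800, nat_lit 17856, nat_lit 22656, nat_lit 24832, nat_lit 32512, nat_lit 34816, nat_lit 39936, nat_lit 43008, nat_lit 45088, nat_lit 41816,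 nat_lit 36929, nat_lit 33000, nat_lit 28996, nat_lit 24833, nat_lit 20574, nat_lit 16386, nat_lit 12354, nat_lit 8226, nat_lit 4104, nat_lit 2, nat_lit 430087, nat_lit 417797, nat_lit 405506, nat_lit 397312, nat_lit 160256, nat_lit 156160, nat_lit 152064, nat_lit 143456, nat_lit 139360, nat_lit 135200, nat_lit 131170, nat_lit 45057, nat_lit 41132, nat_lit 32941, nat_lit 16387, nat_lit 327680]⟩)
 (.leaf ndMr8_8)))
 (.node (nat_lit 358) (.node (nat_lit 357) (.leaf ⟨[nat_lit 0xa0c6c0a3506a95e960dd3240e15a85205ed1, nat_lit 0xb7e2beaa8e8689308ccd4796cc08c9772c12, nat_lit 0x72d4d483896ab22502a72bd068785ab11d26], [nat_lit 65536, nat_lit 73728, nat_lit 77824, nat_lit 86016, nat_lit 90112, nat_lit 102400, nat_lit 106496, nat_lit 110592, nat_lit 178176, nat_lit 173056, nat_lit 170496, nat_lit 165632, nat_lit 160128, nat_lit 156864, nat_lit 154144, nat_lit 150560, nat_lit 143776, nat_lit 139268, nat_lit 136192, nat_lit 133950, nat_lit 956, nat_lit 8116, nat_lit 10272, nat_lit 13680, nat_lit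 19200, nat_lit 23872, nat_lit 25856, nat_lit 29184, nat_lit 33792, nat_lit 46585, nat_lit 43642, nat_lit 36898, nat_lit 32868, nat_lit 29768, nat_lit 24624, nat_lit 20487, nat_lit 12293, nat_lit 8195, nat_lit 430086, nat_lit 413700, nat_lit 405506, nat_lit 397312, nat_lit 156160, nat_lit 152128, nat_lit 148000, nat_lit 143888, nat_lit 139840, nat_lit 135176, nat_lit 131172, nat_lit 45061, nat_lit 41510, nat_lit 32789, nat_lit 28677]⟩)
 (.leaf ndMr8_9))
 (.node (nat_lit 359) (.leaf ⟨[nat_lit 0x9c39acbb28f14263b36ae04831511064aca7, nat_lit 0x4deed76ac568998e08cb23de144926a055e8, nat_lit 0x35a0f9515147817130ec113133ac890736e7, nat_lit 0xf06993acdf67454b3d04960201ba06669492], [nat_lit 77824, nat_lit 81920, nat_lit 86016, nat_lit 90112, nat_lit 102400, nat_lit 178176, nat_lit 169984, nat_lit 165376, nat_lit 161920, nat_lit 159680, nat_lit 153152, nat_lit 148352, nat_lit 145472, nat_lit 140044, nat_lit 138810, nat_lit 132629, nat_lit 582, nat_lit 7908, nat_lit 11088, nat_lit 13376, nat_lit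 16736, nat_lit 21568, nat_lit 26752, nat_lit 30720, nat_lit 34816, nat_lit 46266, nat_lit 41696, nat_lit 37169, nat_lit 33505, nat_lit 29047, nat_lit 24833, nat_lit 20489, nat_lit 16396, nat_lit 12308, nat_lit 8193, nat_lit 4, nat_lit 430088, nat_lit 421894, nat_lit 413700, nat_lit 405506, nat_lit 397312, nat_lit 164352, nat_lit 160000, nat_lit 151872, nat_lit 148448, nat_lit 143408, nat_lit 140056, nat_lit 135536, nat_lit 131350, nat_lit 45399, nat_lit 41667, nat_lit 327680]⟩)
 (.leaf ndMr8_10))))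

theorem dcME44_ok : dcME44.all (elB (nat_lit 0)) = true := by decide +kernel

def dcME45 : BT El := (.node (nat_lit 364) (.node (nat_lit 362) (.node (nat_lit 361) (.leaf ⟨[nat_lit 0x33cc3673d519012341e040d1a6b95829d6cb, nat_lit 0x27bb441b9afbcc8a59a554d0f08951660022, nat_lit 0x50c6cfadec1696089912e61a2a102833bd72], [nat_lit 65536, nat_lit 90112, nat_lit 94208, nat_lit 98304, nat_lit 178176, nat_lit 174080, nat_lit 170496, nat_lit 164352, nat_lit 158528, nat_lit 152128, nat_lit 148032, nat_lit 145848, nat_lit 140208, nat_lit 136474, nat_lit 134927, nat_lit 1544, nat_lit 4508, nat_lit 9544, nat_lit 13664, nat_lit 19712, nat_lit 22016, nat_lit 26880, nat_lit 32256, nat_lit 35840, nat_lit 39936, nat_lit 45902, nat_lit 41183, nat_lit 39259, nat_lit 34926, nat_lit 29786, nat_lit 25615, nat_lit 20497, nat_lit 16394, nat_lit 12295, nat_lit 8202, nat_lit 4105, nat_lit 438280, nat_lit 409602, nat_lit 397312, nat_lit 149504, nat_lit 139280, nat_lit 135184, nat_lit 131350, nat_lit 40976,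 nat_lit 36870, nat_lit 28688, nat_lit 24581, nat_lit 20496, nat_lit 12295, nat_lit 327680]⟩)
 (.leaf ndMr8_11))
 (.node (nat_lit 363) (.leaf ⟨[nat_lit 0x4dbb11320379b52a1c00cad1d212c963962f, nat_lit 0xfc09c52b562854c474e8f3a80c4dd111cac1, nat_lit 0x5ffa9a64064baa32435f53cdc1a192505962, nat_lit 0xffa5c94beb370d85904d122808bc1abb0a87], [nat_lit 65536, nat_lit 90112, nat_lit 98304, nat_lit 102400, nat_lit 106496, nat_lit 110592, nat_lit 178176, nat_lit 173056, nat_lit 171520, nat_lit 167680, nat_lit 163072, nat_lit 157312, nat_lit 153312, nat_lit 147504, nat_lit 145752, nat_lit 142488, nat_lit 136244, nat_lit 134028, nat_lit 3198, nat_lit 6076, nat_lit 8272, nat_lit 13264, nat_lit 20352, nat_lit 24128, nat_lit 25728, nat_lit 30976, nat_lit 33792, nat_lit 39936, nat_lit 43008, nat_lit 46858, nat_lit 41263, nat_lit 39399, nat_lit 34010, nat_lit 28796, nat_lit 24720, nat_lit 20507, nat_lit 16430, nat_lit 12290, nat_lit 8194, nat_lit 4097, nat_lit 438282, nat_lit 430088, nat_lit 421894,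 nat_lit 413700, nat_lit 405506, nat_lit 397312, nat_lit 168960, nat_lit 164864, nat_lit 156160, nat_lit 153088, nat_lit 148320, nat_lit 145584, nat_lit 140152, nat_lit 131316]⟩)
 (.leaf ⟨[nat_lit 0xa600c93b1658b91309a16a25f76880a1d644, nat_lit 0x78d8b2a99478d1134beee1586b0b6450408c, nat_lit 0xee21d23388a7804bab6c84c59395067804b7, nat_lit 0xcc555a209149306151c16894ce5a60fbb6b3], [nat_lit 69632, nat_lit 73728, nat_lit 77824, nat_lit 90112, nat_lit 98304, nat_lit 102400, nat_lit 178176, nat_lit 174080, nat_lit 171008, nat_lit 165888, nat_lit 162560, nat_lit 159104, nat_lit 155424, nat_lit 149472, nat_lit 146072, nat_lit 142424, nat_lit 138958, nat_lit 131073, nat_lit 2382, nat_lit 4608, nat_lit 10216, nat_lit 15952, nat_lit 19648, nat_lit 22528, nat_lit 24704, nat_lit 33280, nat_lit 38912, nat_lit 43008, nat_lit 46577, nat_lit 43249, nat_lit 37121, nat_lit 33313, nat_lit 30752, nat_lit 24733, nat_lit 20737, nat_lit 16391, nat_lit 12357, nat_lit 8210, nat_lit 438282, nat_lit 430088,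 nat_lit 421894, nat_lit 413700, nat_lit 405506, nat_lit 397312, nat_lit 169984, nat_lit 167424, nat_lit 160256, nat_lit 158336, nat_lit 152384, nat_lit 149088, nat_lit 145888, nat_lit 140104, nat_lit 136272, nat_lit 131114]⟩)))
 (.node (nat_lit 366) (.node (nat_lit 365) (.leaf ⟨[nat_lit 0x1b2db4029e228e7692190719644ddb43d621, nat_lit 0x95993905deb349281b1556c4ee81422a12d3, nat_lit 0x3c009321a21a0e775b8f59010a4d9a58304f, nat_lit 0xc55f09221caba452ad9a63c60f614035ce81], [nat_lit 65536, nat_lit 73728, nat_lit 77824, nat_lit 81920, nat_lit 98304, nat_lit 106496, nat_lit 110592, nat_lit 178176, nat_lit 174080, nat_lit 168960, nat_lit 165632, nat_lit 160384, nat_lit 159104, nat_lit 155456, nat_lit 149872, nat_lit 144840, nat_lit 143108, nat_lit 136278, nat_lit 133439, nat_lit 1564, nat_lit 5216, nat_lit 12048, nat_lit 12752, nat_lit 17568, nat_lit 22272, nat_lit 24832, nat_lit 32000, nat_lit 34304, nat_lit 39936, nat_lit 46962, nat_lit 43662, nat_lit 37276, nat_lit 32898, nat_lit 28965,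 nat_lit 24609, nat_lit 20498, nat_lit 16397, nat_lit 12291, nat_lit 8195, nat_lit 4097, nat_lit 438282, nat_lit 430088, nat_lit 421894, nat_lit 413700, nat_lit 405506, nat_lit 397312, nat_lit 174080, nat_lit 171008, nat_lit 164864, nat_lit 162304, nat_lit 158080, nat_lit 152768, nat_lit 149376, nat_lit 143424, nat_lit 139336, nat_lit 138380, nat_lit 133932, nat_lit 327680]⟩)
 (.leaf ndMr8_12))
 (.node (nat_lit 367) (.leaf ⟨[nat_lit 0x7be2dda21ec4d8038b4470c0ae25d469caab, nat_lit 0xb1818141e6a7dd62726c32498d004b0ad0d1, nat_lit 0x1d2717649ab79057855560d0ee2ccc98a003, nat_lit 0x4d112844d4349dd6b8292596ad11a040c5ec], [nat_lit 65536, nat_lit 73728, nat_lit 77824, nat_lit 86016, nat_lit 94208, nat_lit 102400, nat_lit 106496, nat_lit 171520, nat_lit 167680, nat_lit 159872, nat_lit 156864, nat_lit 153984, nat_lit 148608, nat_lit 144288, nat_lit 142684, nat_lit 138246, nat_lit 131749, nat_lit 2118, nat_lit 6532, nat_lit 8640, nat_lit 13920, nat_lit 18880, nat_lit 20736, nat_lit 26880, nat_lit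 30464, nat_lit 34304, nat_lit 38912, nat_lit 43008, nat_lit 45722, nat_lit 41796, nat_lit 37023, nat_lit 33922, nat_lit 29040, nat_lit 24580, nat_lit 20492, nat_lit 16519, nat_lit 12292, nat_lit 16, nat_lit 438282, nat_lit 430087, nat_lit 413700, nat_lit 405506, nat_lit 397312, nat_lit 174080, nat_lit 169984, nat_lit 161792, nat_lit 153216, nat_lit 149024, nat_lit 145920, nat_lit 141832, nat_lit 137360, nat_lit 134798, nat_lit 32770, nat_lit 24578, nat_lit 327680]⟩)
 (.leaf ndMr8_13))))

theorem dcME45_ok : dcME45.all (elB (nat_lit 0)) = true := by decide +kernel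

def dcME46 : BT El := (.node (nat_lit 372) (.node (nat_lit 370) (.node (nat_lit 369) (.leaf ⟨[nat_lit 0x3f9ca43da3909338d8aea2c373a806a9190, nat_lit 0x4e171d9ac0cbc0f2125f1a91cda0c2532156, nat_lit 0xc99a9648d47231e292eed459d3306302d2a0, nat_lit 0xd27b7705ed35928f918a160dd140930536a7], [nat_lit 65536, nat_lit 77824, nat_lit 81920, nat_lit 90112, nat_lit 94208, nat_lit 102400, nat_lit 106496, nat_lit 169472, nat_lit 164864, nat_lit 161152, nat_lit 156736, nat_lit 151584, nat_lit 151456, nat_lit 146600, nat_lit 142448, nat_lit 138656, nat_lit 133070, nat_lit 2786, nat_lit 7276, nat_lit 13248, nat_lit 16736, nat_lit 22784, nat_lit 25088, nat_lit 30464, nat_lit 33792, nat_lit 46936, nat_lit 43780, nat_lit 39051, nat_lit 32875, nat_lit 29278, nat_lit 24876, nat_lit 20745, nat_lit 16907, nat_lit 12291, nat_lit 8257, nat_lit 8, nat_lit 438282, nat_lit 430088, nat_lit 421894, nat_lit 413700, nat_lit 405506, nat_lit 397312, nat_lit 174080, nat_lit 171008, nat_lit 167424, nat_lit 163328,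 nat_lit 158592, nat_lit 153280, nat_lit 149984, nat_lit 145808, nat_lit 143072, nat_lit 138440, nat_lit 134166]⟩)
 (.leaf ⟨[nat_lit 0x27b4b43146e6a922b4c8ba5de0454f064432, nat_lit 0x9f55343dd02d02c58e603aa2435c4daa6d2], [nat_lit 77824, nat_lit 81920, nat_lit 90112, nat_lit 94208, nat_lit 98304, nat_lit 102400, nat_lit 110592, nat_lit 173056, nat_lit 168448, nat_lit 166144, nat_lit 155776, nat_lit 155296, nat_lit 150672, nat_lit 146232, nat_lit 142704, nat_lit 138942, nat_lit 132281, nat_lit 2286, nat_lit 6080, nat_lit 10384, nat_lit 14112, nat_lit 19200, nat_lit 23616, nat_lit 28416, nat_lit 31488, nat_lit 35840, nat_lit 37888, nat_lit 46988, nat_lit 41960, nat_lit 37930, nat_lit 32957, nat_lit 28968, nat_lit 24618, nat_lit 20575, nat_lit 12292, nat_lit 8200, nat_lit 4160, nat_lit 421892, nat_lit 401408, nat_lit 139408, nat_lit 131216, nat_lit 36992, nat_lit 32917, nat_lit 24592, nat_lit 20481]⟩))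
 (.node (nat_lit 371) (.leaf ⟨[nat_lit 0x71447d2a4438be8159e70538cd95c0c412b6, nat_lit 0xb12bb89b1ea6d4c24de561c501750e022cb0], [nat_lit 69632, nat_lit 94208, nat_lit 98304, nat_lit 110592, nat_lit 173056, nat_lit 171520, nat_lit 163328, nat_lit 156416, nat_lit 152416, nat_lit 148992, nat_lit 146672, nat_lit 140344, nat_lit 135216, nat_lit 134317, nat_lit 3062, nat_lit 4476, nat_lit 9096, nat_lit 14736, nat_lit 18912, nat_lit 23680, nat_lit 26624, nat_lit 29696, nat_lit 33792, nat_lit 39936, nat_lit 43008, nat_lit 45742, nat_lit 41860, nat_lit 37100, nat_lit 33882, nat_lit 28757, nat_lit 24758, nat_lit 20572, nat_lit 16428, nat_lit 12320, nat_lit 8, nat_lit 409602, nat_lit 397312, nat_lit 139280, nat_lit 135184, nat_lit 131094, nat_lit 36866, nat_lit 32784, nat_lit 28674, nat_lit 24592, nat_lit 20484, nat_lit 12290]⟩)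
 (.leaf ⟨[nat_lit 0xf5a9af3c2d3131515a0952b9f7350036c829, nat_lit 0xff5a369b1e6aa84d90c80b44b4bac2e44127], [nat_lit 65536, nat_lit 73728, nat_lit 81920, nat_lit 86016, nat_lit 90112, nat_lit 98304, nat_lit 102400, nat_lit 110592, nat_lit 178176, nat_lit 174080, nat_lit 168960, nat_lit 167680, nat_lit 162176, nat_lit 157632, nat_lit 155328, nat_lit 148048, nat_lit 143480, nat_lit 139404, nat_lit 137742, nat_lit 133414, nat_lit 2976, nat_lit 4972, nat_lit 8856, nat_lit 14304, nat_lit 19264, nat_lit 22912, nat_lit 25088, nat_lit 32512, nat_lit 35840, nat_lit 39936, nat_lit 43008, nat_lit 46313, nat_lit 41125, nat_lit 37174, nat_lit 33359, nat_lit 29740, nat_lit 24592, nat_lit 20752, nat_lit 16454, nat_lit 8210, nat_lit 4112, nat_lit 32, nat_lit 421892, nat_lit 401408, nat_lit 139408, nat_lit 131216, nat_lit 36992, nat_lit 32917, nat_lit 24592, nat_lit 20481]⟩)))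
 (.node (nat_lit 374) (.node (nat_lit 373) (.leaf ⟨[nat_lit 0xff00ff639a0105e3b9952442c724eab49634, nat_lit 0x4e81811ba37806af04d963a4a44196a6ca82, nat_lit 0x2bdb12810a15c4689da8233aea3bea963640], [nat_lit 81920, nat_lit 86016, nat_lit 90112, nat_lit 94208, nat_lit 98304, nat_lit 102400, nat_lit 110592, nat_lit 178176, nat_lit 173056, nat_lit 168448, nat_lit 165376, nat_lit 162176, nat_lit 156352, nat_lit 153312, nat_lit 148160, nat_lit 144992, nat_lit 140468, nat_lit 137712, nat_lit 134781, nat_lit 2464, nat_lit 5468, nat_lit 9512, nat_lit 15728, nat_lit 18240, nat_lit 23168, nat_lit 27264, nat_lit 29952, nat_lit 33792, nat_lit 38912, nat_lit 43008, nat_lit 46350, nat_lit 41965, nat_lit 38249, nat_lit 32832, nat_lit 29278, nat_lit 24761, nat_lit 20570, nat_lit 16388, nat_lit 12320, nat_lit 8193, nat_lit 4, nat_lit 413700, nat_lit 405506, nat_lit 397312, nat_lit 143376, nat_lit 139320, nat_lit 135212, nat_lit 131134, nat_lit 45091, nat_lit 41001, nat_lit 36879, nat_lit 32819, nat_lit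 28677, nat_lit 24592]⟩)
 (.leaf ⟨[nat_lit 0x6a00aa42e1561520a3a2d9d887b8c52504cf, nat_lit 0x9336539b4070c4cc90dc54d10bbaab678890, nat_lit 0x41e812821202b2abb0af320e47551c68b42f], [nat_lit 69632, nat_lit 81920, nat_lit 86016, nat_lit 94208, nat_lit 106496, nat_lit 178176, nat_lit 168448, nat_lit 164864, nat_lit 157632, nat_lit 151712, nat_lit 147952, nat_lit 144392, nat_lit 140028, nat_lit 138796, nat_lit 132146, nat_lit 64, nat_lit 6524, nat_lit 9928, nat_lit 14592, nat_lit 17920, nat_lit 24064, nat_lit 25088, nat_lit 31232, nat_lit 35328, nat_lit 43008, nat_lit 45620, nat_lit 41408, nat_lit 38983, nat_lit 32814, nat_lit 29773, nat_lit 25134, nat_lit 20757, nat_lit 16397, nat_lit 12292, nat_lit 8193, nat_lit 4129, nat_lit 413700, nat_lit 405506, nat_lit 397312, nat_lit 143408, nat_lit 139320, nat_lit 135180, nat_lit 131132, nat_lit 45091, nat_lit 41001, nat_lit 36879, nat_lit 32784, nat_lit 28710, nat_lit 24592, nat_lit 327680]⟩))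
 (.node (nat_lit 375) (.leaf ⟨[nat_lit 0xb4be42951265c0f5034619a2c42aaf1609ee, nat_lit 0x88be2e0c675811aab1467582e8919e975182], [nat_lit 69632, nat_lit 73728, nat_lit 81920, nat_lit 86016, nat_lit 102400, nat_lit 106496, nat_lit 175104, nat_lit 170496, nat_lit 166400, nat_lit 152704, nat_lit 147760, nat_lit 145680, nat_lit 141712, nat_lit 136374, nat_lit 131911, nat_lit 3814, nat_lit 7504, nat_lit 8296, nat_lit 14080, nat_lit 30976, nat_lit 34816, nat_lit 38912, nat_lit 45790, nat_lit 41373, nat_lit 39002, nat_lit 32887, nat_lit 28685, nat_lit 24615, nat_lit 16654, nat_lit 12289, nat_lit 8259, nat_lit 409602, nat_lit 397312, nat_lit 135172, nat_lit 36866, nat_lit 32784, nat_lit 28674, nat_lit 24592, nat_lit 20484, nat_lit 12290, nat_lit 327680]⟩)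
 (.leaf ⟨[nat_lit 0xe21b4d550d100d827b5c15c0964cae5a9e68, nat_lit 0x5600c63c1d79548d5a02961a917d8b31a840, nat_lit 0xbe8171abc670d0cc42571712c0116ed94153], [nat_lit 69632, nat_lit 77824, nat_lit 86016, nat_lit 178176, nat_lit 175104, nat_lit 171520, nat_lit 166400, nat_lit 163072, nat_lit 157888, nat_lit 155072, nat_lit 151392, nat_lit 145032, nat_lit 140556, nat_lit 137740, nat_lit 135105, nat_lit 3280, nat_lit 6312, nat_lit 8648, nat_lit 13040, nat_lit 16960, nat_lit 24064, nat_lit 26496, nat_lit 29184, nat_lit 36352, nat_lit 46929, nat_lit 40994, nat_lit 37087, nat_lit 34938, nat_lit 29218, nat_lit 24749, nat_lit 20621, nat_lit 16425, nat_lit 12291, nat_lit 8321, nat_lit 8, nat_lit 438276, nat_lit 405506, nat_lit 397312, nat_lit 149504, nat_lit 143376, nat_lit 139280, nat_lit 135176, nat_lit 131102, nat_lit 40970, nat_lit 36879, nat_lit 32784, nat_lit 28677, nat_lit 24592, nat_lit 20483, nat_lit 327680]⟩))))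

theorem dcME46_ok : dcME46.all (elB (nat_lit 0)) = true := by decide +kernel

def dcME47 : BT El := (.node (nat_lit 380) (.node (nat_lit 378) (.node (nat_lit 377) (.leaf ⟨[nat_lit 0xf50396ac2679286f045c9106e65a0966b285, nat_lit 0xc6f3fa48a2c298f5b12f47ac13438709054d, nat_lit 0x35c6952cdc77daf0512a268c126217135029], [nat_lit 81920, nat_lit 86016, nat_lit 94208, nat_lit 110592, nat_lit 178176, nat_lit 175104, nat_lit 170496, nat_lit 166912, nat_lit 162304, nat_lit 158720, nat_lit 155008, nat_lit 148928, nat_lit 145384, nat_lit 140604, nat_lit 135530, nat_lit 134641, nat_lit 414, nat_lit 5428, nat_lit 8888, nat_lit 15472, nat_lit 19872, nat_lit 20992, nat_lit 25600, nat_lit 32000, nat_lit 35328, nat_lit 37888, nat_lit 45488, nat_lit 41154, nat_lit 37104, nat_lit 35062, nat_lit 28739, nat_lit 24721, nat_lit 20496, nat_lit 16423, nat_lit 12291, nat_lit 8209, nat_lit 4100, nat_lit 417796, nat_lit 405506, nat_lit 397312, nat_lit 147520, nat_lit 143376, nat_lit 139280, nat_lit 131146,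 nat_lit 45136, nat_lit 41050, nat_lit 36879, nat_lit 32832, nat_lit 28757, nat_lit 20483, nat_lit 327680]⟩)
 (.leaf ndMr4_11))
 (.node (nat_lit 379) (.leaf ⟨[nat_lit 0xa65fa458e44bdb75500261a23acd70748a1, nat_lit 0x3af5cf71db48d893054464155783d235c981, nat_lit 0xe7e82460e977282901da48a0b53497683c53], [nat_lit 69632, nat_lit 86016, nat_lit 106496, nat_lit 110592, nat_lit 178176, nat_lit 175104, nat_lit 168960, nat_lit 165376, nat_lit 163072, nat_lit 159168, nat_lit 155008, nat_lit 151520, nat_lit 144936, nat_lit 140372, nat_lit 136866, nat_lit 134145, nat_lit 3318, nat_lit 6544, nat_lit 9664, nat_lit 15984, nat_lit 17824, nat_lit 21824, nat_lit 28032, nat_lit 29696, nat_lit 34304, nat_lit 39936, nat_lit 46964, nat_lit 43435, nat_lit 36910, nat_lit 35029, nat_lit 29049, nat_lit 24633, nat_lit 20569, nat_lit 16458, nat_lit 12291, nat_lit 8195, nat_lit 4097, nat_lit 2, nat_lit 438281, nat_lit 417797, nat_lit 409602, nat_lit 397312, nat_lit 169984, nat_lit 156160, nat_lit 154176, nat_lit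 150112, nat_lit 139824, nat_lit 137236, nat_lit 133696, nat_lit 41523, nat_lit 32800, nat_lit 28736, nat_lit 12289, nat_lit 327680]⟩)
 (.leaf ndMr6_22)))
 (.node (nat_lit 382) (.node (nat_lit 381) (.leaf ⟨[nat_lit 0xcaa00634c80b46a23a1d782d212a9b47b243, nat_lit 0xdb427104ccf20e4c450414d9ae8de0a3acb5, nat_lit 0xcca903d8a269a6873283506e9056125922f, nat_lit 0x6c0a096014ea1e6f82e21a893635db22a083], [nat_lit 77824, nat_lit 81920, nat_lit 98304, nat_lit 110592, nat_lit 178176, nat_lit 173056, nat_lit 169472, nat_lit 165888, nat_lit 162816, nat_lit 155712, nat_lit 151616, nat_lit 151440, nat_lit 146680, nat_lit 142452, nat_lit 137328, nat_lit 135054, nat_lit 3088, nat_lit 5444, nat_lit 11952, nat_lit 14448, nat_lit 18336, nat_lit 21120, nat_lit 25728, nat_lit 30976, nat_lit 39936, nat_lit 43008, nat_lit 45271, nat_lit 41804, nat_lit 38114, nat_lit 32875, nat_lit 29205, nat_lit 24892, nat_lit 20500, nat_lit 16386, nat_lit 12419, nat_lit 8193, nat_lit 4112, nat_lit 434184, nat_lit 421894,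 nat_lit 413700, nat_lit 405506, nat_lit 397312, nat_lit 164864, nat_lit 160768, nat_lit 157056, nat_lit 151744, nat_lit 147552, nat_lit 143376, nat_lit 140592, nat_lit 136244, nat_lit 131154, nat_lit 46088, nat_lit 37330]⟩)
 (.leaf ndMr6_41))
 (.node (nat_lit 383) (.leaf ⟨[nat_lit 0xb27744681251543335e078ba8c5906f45952, nat_lit 0x60cf9665cf46808350ab2899d0406d37952b, nat_lit 0xa00a95759324560f2306d0a8cb9c445052e7, nat_lit 0xaca9993d591b926f5da8028926920306b86a], [nat_lit 65536, nat_lit 77824, nat_lit 90112, nat_lit 94208, nat_lit 110592, nat_lit 178176, nat_lit 174080, nat_lit 168448, nat_lit 164608, nat_lit 161024, nat_lit 155712, nat_lit 154688, nat_lit 149920, nat_lit 144704, nat_lit 141664, nat_lit 137196, nat_lit 133537, nat_lit 3726, nat_lit 4624, nat_lit 11336, nat_lit 12400, nat_lit 19648, nat_lit 24064, nat_lit 28160, nat_lit 30464, nat_lit 33792, nat_lit 38912, nat_lit 45743, nat_lit 41749, nat_lit 36932, nat_lit 32991, nat_lit 29053, nat_lit 24871, nat_lit 20489, nat_lit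 16463, nat_lit 12322, nat_lit 8195, nat_lit 4101, nat_lit 4, nat_lit 438281, nat_lit 421894, nat_lit 413700, nat_lit 405506, nat_lit 397312, nat_lit 169984, nat_lit 162304, nat_lit 158208, nat_lit 152256, nat_lit 147968, nat_lit 143456, nat_lit 139376, nat_lit 135904, nat_lit 133318, nat_lit 41085, nat_lit 32776]⟩)
 (.leaf ndMr8_36))))

theorem dcME47_ok : dcME47.all (elB (nat_lit 0)) = true := by decide +kernel

def dcME48 : BT El := (.node (nat_lit 388) (.node (nat_lit 386) (.node (nat_lit 385) (.leaf ⟨[nat_lit 0x9aa5939450d3b8c928674bbeaa00d6c11216, nat_lit 0x8814e8092ec9880aac28b28df68b9a849e46, nat_lit 0xfac0c301cd65c88d80e937dd820a2a9895ca, nat_lit 0x9f955f2acd3191d6abc076c98985e880c44a], [nat_lit 77824, nat_lit 90112, nat_lit 94208, nat_lit 98304, nat_lit 102400, nat_lit 110592, nat_lit 175104, nat_lit 171520, nat_lit 164864, nat_lit 160256, nat_lit 156160, nat_lit 154400, nat_lit 150896, nat_lit 144984, nat_lit 139352, nat_lit 136820, nat_lit 134746, nat_lit 1340, nat_lit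 6880, nat_lit 8512, nat_lit 15872, nat_lit 19680, nat_lit 23552, nat_lit 28032, nat_lit 32256, nat_lit 36352, nat_lit 39936, nat_lit 43008, nat_lit 45924, nat_lit 41118, nat_lit 37124, nat_lit 33535, nat_lit 28936, nat_lit 24762, nat_lit 20485, nat_lit 16519, nat_lit 12353, nat_lit 8209, nat_lit 4224, nat_lit 2, nat_lit 438280, nat_lit 421894, nat_lit 413700, nat_lit 405506, nat_lit 397312, nat_lit 165888, nat_lit 161792, nat_lit 151936, nat_lit 149568, nat_lit 145808, nat_lit 141784, nat_lit 135216, nat_lit 133322, nat_lit 41414, nat_lit 36978, nat_lit 327680]⟩)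
 (.leaf ndMr8_34))
 (.node (nat_lit 387) (.leaf ⟨[nat_lit 0x8728bd51a6f2c90e5d123bc011a898d09c96, nat_lit 0x4b7de73b968ba60168c822b271b3cd404aaa, nat_lit 0xaa5c3a65e09b1ea3508cb791c06d1122c433, nat_lit 0x7741d17445663566a41e091533bd4e80906a], [nat_lit 65536, nat_lit 77824, nat_lit 81920, nat_lit 90112, nat_lit 94208, nat_lit 106496, nat_lit 110592, nat_lit 178176, nat_lit 175104, nat_lit 164608, nat_lit 160128, nat_lit 156800, nat_lit 154944, nat_lit 147616, nat_lit 144072, nat_lit 140572, nat_lit 136230, nat_lit 134383, nat_lit 718, nat_lit 7952, nat_lit 9192, nat_lit 14176, nat_lit 17984, nat_lit 23040, nat_lit 26368, nat_lit 29440, nat_lit 34304, nat_lit 38912, nat_lit 46310, nat_lit 41736, nat_lit 36992, nat_lit 34045, nat_lit 28934, nat_lit 24581, nat_lit 20625, nat_lit 16391, nat_lit 12294, nat_lit 8202, nat_lit 16, nat_lit 438280, nat_lit 421894, nat_lit 413700, nat_lit 405506, nat_lit 397312, nat_lit 165888, nat_lit 155776, nat_lit 153984, nat_lit 149792, nat_lit 145760,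 nat_lit 139272, nat_lit 137528, nat_lit 133616, nat_lit 41132, nat_lit 37282]⟩)
 (.leaf ndMr8_29)))
 (.node (nat_lit 390) (.node (nat_lit 389) (.leaf ⟨[nat_lit 0x12418b0d2e0598ea74db0a8c56414898b24f, nat_lit 0x2dedeb518ad3c835445907decb99280489c3, nat_lit 0x87d84d832e099d72b168aa8a2d199012392f, nat_lit 0xdd48d25c6cd3a8281d6e42cc104c9f470986], [nat_lit 65536, nat_lit 69632, nat_lit 73728, nat_lit 81920, nat_lit 90112, nat_lit 102400, nat_lit 110592, nat_lit 167424, nat_lit 160000, nat_lit 157312, nat_lit 153408, nat_lit 149840, nat_lit 144000, nat_lit 140016, nat_lit 136926, nat_lit 134922, nat_lit 632, nat_lit 8140, nat_lit 10976, nat_lit 12416, nat_lit 17248, nat_lit 22784, nat_lit 25344, nat_lit 30976, nat_lit 34816, nat_lit 39936, nat_lit 43008, nat_lit 46450, nat_lit 41760, nat_lit 37010, nat_lit 33848, nat_lit 29253, nat_lit 24714, nat_lit 20486, nat_lit 16460, nat_lit 12357, nat_lit 8193, nat_lit 4, nat_lit 438280, nat_lit 421894, nat_lit 413700, nat_lit 405506, nat_lit 397312,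 nat_lit 165888, nat_lit 161792, nat_lit 157824, nat_lit 153792, nat_lit 147584, nat_lit 145744, nat_lit 141536, nat_lit 135580, nat_lit 133328, nat_lit 41161, nat_lit 37339]⟩)
 (.leaf ndMr8_54))
 (.node (nat_lit 391) (.leaf ⟨[nat_lit 0x303a0cb8ccf50a418b589b4ea82b81459207, nat_lit 0x530cafa02e9509ed6566658e3041424b1dd2, nat_lit 0xa36acc52e1170580789a3a9cb73509692513], [nat_lit 65536, nat_lit 69632, nat_lit 73728, nat_lit 94208, nat_lit 98304, nat_lit 102400, nat_lit 178176, nat_lit 170496, nat_lit 165120, nat_lit 162048, nat_lit 158144, nat_lit 154336, nat_lit 149984, nat_lit 146160, nat_lit 142700, nat_lit 136350, nat_lit 134506, nat_lit 3448, nat_lit 5884, nat_lit 10240, nat_lit 14240, nat_lit 20672, nat_lit 27264, nat_lit 30720, nat_lit 36352, nat_lit 43008, nat_lit 46558, nat_lit 41960, nat_lit 37236, nat_lit 32956, nat_lit 28761, nat_lit 24722, nat_lit 20509, nat_lit 16396, nat_lit 12295, nat_lit 8195, nat_lit 4097, nat_lit 2, nat_lit 425991, nat_lit 417797, nat_lit 409602,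 nat_lit 397312, nat_lit 155904, nat_lit 151872, nat_lit 147744, nat_lit 139744, nat_lit 135200, nat_lit 131396, nat_lit 45062, nat_lit 40976, nat_lit 37077, nat_lit 12289, nat_lit 327680]⟩)
 (.leaf ndMr8_25))))

theorem dcME48_ok : dcME48.all (elB (nat_lit 0)) = true := by decide +kernel

def dcME49 : BT El := (.node (nat_lit 396) (.node (nat_lit 394) (.node (nat_lit 393) (.leaf ⟨[nat_lit 0xe842ed2b4f1932f64a9f31acd44101513830, nat_lit 0x9fa5c70082a2473bb4b661e5185428519eb, nat_lit 0x1ee2782bc0474c314ada3a5582820d63de4a, nat_lit 0x7e114b65416b91127254268cc559e340c26f], [nat_lit 73728, nat_lit 81920, nat_lit 86016, nat_lit 94208, nat_lit 106496, nat_lit 178176, nat_lit 174080, nat_lit 169984, nat_lit 166656, nat_lit 162176, nat_lit 158080, nat_lit 154432, nat_lit 150720, nat_lit 144504, nat_lit 142784, nat_lit 138916, nat_lit 133079, nat_lit 2190, nat_lit 5988, nat_lit 8288, nat_lit 14912, nat_lit 17824, nat_lit 21504, nat_lit 25344, nat_lit 31488, nat_lit 35328, nat_lit 43008,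 nat_lit 47035, nat_lit 41641, nat_lit 37059, nat_lit 34825, nat_lit 28980, nat_lit 25139, nat_lit 20573, nat_lit 16457, nat_lit 12304, nat_lit 8194, nat_lit 4101, nat_lit 2, nat_lit 438282, nat_lit 430088, nat_lit 421894, nat_lit 413700, nat_lit 405506, nat_lit 397312, nat_lit 168960, nat_lit 164352, nat_lit 156928, nat_lit 152064, nat_lit 149344, nat_lit 144560, nat_lit 143000, nat_lit 136108, nat_lit 132972, nat_lit 327680]⟩)
 (.leaf ndMr8_56))
 (.node (nat_lit 395) (.leaf ⟨[nat_lit 0x3a05c0301ed51c688c8454bad325c358328b, nat_lit 0x4482e86512441dd5bc4567cc2d2c0669016a, nat_lit 0xe1ed884c22f24c76532b495ce24002d2b966], [nat_lit 69632, nat_lit 98304, nat_lit 102400, nat_lit 110592, nat_lit 170496, nat_lit 166912, nat_lit 161280, nat_lit 159232, nat_lit 155104, nat_lit 150368, nat_lit 144152, nat_lit 143168, nat_lit 137536, nat_lit 134315, nat_lit 3188, nat_lit 6368, nat_lit 12216, nat_lit 15312, nat_lit 19488, nat_lit 22720, nat_lit 25856, nat_lit 30464, nat_lit 37888, nat_lit 46845,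 nat_lit 41842, nat_lit 37932, nat_lit 33286, nat_lit 30751, nat_lit 24736, nat_lit 20507, nat_lit 16418, nat_lit 12306, nat_lit 8195, nat_lit 425991, nat_lit 417797, nat_lit 409602, nat_lit 397312, nat_lit 160000, nat_lit 156032, nat_lit 151680, nat_lit 147680, nat_lit 139392, nat_lit 135552, nat_lit 131186, nat_lit 45076, nat_lit 41088, nat_lit 37120, nat_lit 12289, nat_lit 327680]⟩)
 (.leaf ndMr8_44)))
 (.node (nat_lit 398) (.node (nat_lit 397) (.leaf ⟨[nat_lit 0xb712b171e037b534b2e3202857414d598584, nat_lit 0x487b2d35173ad82d8c80e50d2f20987b9608, nat_lit 0xcf6f358b167b568023530415d3549e60dc43], [nat_lit 81920, nat_lit 90112, nat_lit 106496, nat_lit 110592, nat_lit 178176, nat_lit 174080, nat_lit 168960, nat_lit 164096, nat_lit 160384, nat_lit 158848, nat_lit 152160, nat_lit 148400, nat_lit 147424, nat_lit 142396, nat_lit 135632, nat_lit 134342, nat_lit 656, nat_lit 4896, nat_lit 8480, nat_lit 18208, nat_lit 21248, nat_lit 25344, nat_lit 30976, nat_lit 35328, nat_lit 39936, nat_lit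 46580, nat_lit 41032, nat_lit 36924, nat_lit 32861, nat_lit 30799, nat_lit 24843, nat_lit 20482, nat_lit 16461, nat_lit 12308, nat_lit 8195, nat_lit 4100, nat_lit 425991, nat_lit 417797, nat_lit 409602, nat_lit 397312, nat_lit 160000, nat_lit 155904, nat_lit 151808, nat_lit 147680, nat_lit 135520, nat_lit 131574, nat_lit 45126, nat_lit 41286, nat_lit 36867, nat_lit 12293]⟩)
 (.leaf ndMr8_60))
 (.node (nat_lit 399) (.leaf ⟨[nat_lit 0x5535a659a120b6f151403711889bc56ad0e9, nat_lit 0x1e21dda0071910b66ceaf3b9016184a4aef0, nat_lit 0x56aa002b5c2202f649943a2df38c02745592, nat_lit 0xfa0399b3431214c93a16aa406c78af3ac80e], [nat_lit 77824, nat_lit 86016, nat_lit 90112, nat_lit 94208, nat_lit 98304, nat_lit 102400, nat_lit 106496, nat_lit 178176, nat_lit 173056, nat_lit 168448, nat_lit 166912, nat_lit 160128, nat_lit 158080, nat_lit 155232, nat_lit 147952, nat_lit 146040, nat_lit 142036, nat_lit 139198, nat_lit 133757, nat_lit 3860, nat_lit 5652, nat_lit 12048, nat_lit 15888, nat_lit 17024,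 nat_lit 21952, nat_lit 27776, nat_lit 29696, nat_lit 33280, nat_lit 39936, nat_lit 43008, nat_lit 45948, nat_lit 40984, nat_lit 39412, nat_lit 35017, nat_lit 28740, nat_lit 24720, nat_lit 20764, nat_lit 16397, nat_lit 12289, nat_lit 8210, nat_lit 4, nat_lit 430088, nat_lit 421894, nat_lit 413700, nat_lit 405506, nat_lit 397312, nat_lit 164352, nat_lit 160512, nat_lit 151744, nat_lit 148224, nat_lit 144176, nat_lit 139776, nat_lit 135352, nat_lit 131460, nat_lit 45290, nat_lit 41085, nat_lit 327680]⟩)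
 (.leaf ndMr8_62))))

theorem dcME49_ok : dcME49.all (elB (nat_lit 0)) = true := by decide +kernel


end

end CF.Mon
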