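import Cfsg.Agent.Mon.Dc
import Cfsg.Agent.Mon.NdM

set_option autoImplicit false
set_option maxRecDepth 100000

namespace CF.Mon

open CF.Comp

noncomputable section

def dcME50 : BT El := (.node (nat_lit 404) (.node (nat_lit 402) (.node (nat_lit 401) (.leaf ⟨[nat_lit 0x7ebb8d99208188cabbc3259ed5715a90522c, nat_lit 0xe871b83d5c4988aa849b7584d1780764d188, nat_lit 0xb88422100614a16a9ca30adaf4390c573d8d], [nat_lit 73728, nat_lit 77824, nat_lit 90112, nat_lit 98304, nat_lit 102400, nat_lit 110592, nat_lit 171520, nat_lit 166144, nat_lit 160000, nat_lit 156544, nat_lit 154656, nat_lit 148544, nat_lit 143512, nat_lit 139668, nat_lit 138384, nat_lit 133953, nat_lit 528, nat_lit 7428, nat_lit 8744, nat_lit 15360, nat_lit 16960, nat_lit 21248, nat_lit 25344, nat_lit 30720, nat_lit 33280, nat_lit 39936, nat_lit 46880, nat_lit 43574, nat_lit 39265, nat_lit 33865, nat_lit 28788, nat_lit 24751, nat_lit 20489, nat_lit 16453, nat_lit 8194, nat_lit 4097, nat_lit 430088, nat_lit 421894, nat_lit 413700,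 nat_lit 401408, nat_lit 160512, nat_lit 156288, nat_lit 152064, nat_lit 147712, nat_lit 139584, nat_lit 131108, nat_lit 45200, nat_lit 41157, nat_lit 12292, nat_lit 4097]⟩)
 (.leaf ndMr8_48))
 (.node (nat_lit 403) (.leaf ⟨[nat_lit 0x7db2b791dd420cca0ad8dac5e512213b5d20, nat_lit 0x7111446ba08b984f0c943658e04cca4a2eb1, nat_lit 0xcc5a550cc8b2dced818099459678875a290e, nat_lit 0x28bb4b3102e9b452aae2778d28b955065814], [nat_lit 65536, nat_lit 73728, nat_lit 81920, nat_lit 86016, nat_lit 90112, nat_lit 106496, nat_lit 175104, nat_lit 170496, nat_lit 165120, nat_lit 160384, nat_lit 157248, nat_lit 152160, nat_lit 150800, nat_lit 144664, nat_lit 140852, nat_lit 137128, nat_lit 134780, nat_lit 116, nat_lit 5388, nat_lit 11184, nat_lit 14192, nat_lit 16416, nat_lit 22528, nat_lit 27776, nat_lit 32000, nat_lit 33280, nat_lit 38912, nat_lit 46647, nat_lit 41015, nat_lit 39159, nat_lit 32832, nat_lit 29299, nat_lit 24588, nat_lit 20613, nat_lit 16392, nat_lit 12308, nat_lit 8201, nat_lit 4097,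 nat_lit 2, nat_lit 438282, nat_lit 430088, nat_lit 421894, nat_lit 413700, nat_lit 405506, nat_lit 397312, nat_lit 167424, nat_lit 159616, nat_lit 154112, nat_lit 147904, nat_lit 146256, nat_lit 139824, nat_lit 139188, nat_lit 131450, nat_lit 327680]⟩)
 (.leaf ndMr8_50)))
 (.node (nat_lit 406) (.node (nat_lit 405) (.leaf ⟨[nat_lit 0xf905ac1a58f0591451c448dccd2ceae80572, nat_lit 0x2ebe183c94d29aa1a4220221931aee9b3dc2, nat_lit 0x274b4b0bea91b556a380b122ec91a7139205], [nat_lit 65536, nat_lit 81920, nat_lit 94208, nat_lit 106496, nat_lit 178176, nat_lit 164096, nat_lit 155136, nat_lit 150992, nat_lit 146056, nat_lit 140184, nat_lit 136972, nat_lit 134703, nat_lit 572, nat_lit 7732, nat_lit 9456, nat_lit 15344, nat_lit 20416, nat_lit 23424, nat_lit 25472, nat_lit 29952, nat_lit 35328, nat_lit 38912, nat_lit 46592, nat_lit 43624, nat_lit 39396, nat_lit 33404, nat_lit 28679, nat_lit 24627, nat_lit 20556, nat_lit 16427, nat_lit 12293, nat_lit 8193, nat_lit 4097, nat_lit 2, nat_lit 425991,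 nat_lit 417797, nat_lit 405506, nat_lit 397312, nat_lit 151808, nat_lit 143776, nat_lit 139432, nat_lit 135532, nat_lit 131118, nat_lit 45065, nat_lit 40973, nat_lit 37291, nat_lit 16386]⟩)
 (.leaf ndMr8_67))
 (.node (nat_lit 407) (.leaf ⟨[nat_lit 0xd84444b2e67708201b58f8a6e6a155225510], [nat_lit 65536, nat_lit 73728, nat_lit 77824, nat_lit 86016, nat_lit 94208, nat_lit 110592, nat_lit 173056, nat_lit 171520, nat_lit 164864, nat_lit 160384, nat_lit 156992, nat_lit 152096, nat_lit 149328, nat_lit 144664, nat_lit 143116, nat_lit 136978, nat_lit 132201, nat_lit 3746, nat_lit 8096, nat_lit 8256, nat_lit 12896, nat_lit 22912, nat_lit 24832, nat_lit 30720, nat_lit 33792, nat_lit 41412, nat_lit 37222, nat_lit 32836, nat_lit 29745, nat_lit 24583, nat_lit 20620, nat_lit 16429, nat_lit 12325, nat_lit 8193, nat_lit 4161, nat_lit 4]⟩)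
 (.leaf ndMr8_63))))

theorem dcME50_ok : dcME50.all (elB (nat_lit 0)) = true := by decide +kernel

def dcME51 : BT El := (.node (nat_lit 412) (.node (nat_lit 410) (.node (nat_lit 409) (.leaf ⟨[nat_lit 0xebdd4b35c4e4c420a4eca5c8a7a8d84441ed, nat_lit 0xf3ac032b82825a473340b14c777c194526b1, nat_lit 0xccaaa544ad16905079e6053a8c598b50a477], [nat_lit 65536, nat_lit 69632, nat_lit 73728, nat_lit 77824, nat_lit 98304, nat_lit 173056, nat_lit 171520, nat_lit 165632, nat_lit 163200, nat_lit 157696, nat_lit 154592, nat_lit 149920, nat_lit 146288, nat_lit 143244, nat_lit 139098, nat_lit 134365, nat_lit 3730, nat_lit 8088, nat_lit 9664, nat_lit 14304, nat_lit 16416, nat_lit 24512, nat_lit 26752, nat_lit 30464, nat_lit 39936, nat_lit 43008, nat_lit 46255, nat_lit 41678, nat_lit 37248, nat_lit 32771, nat_lit 29217, nat_lit 24616, nat_lit 20570, nat_lit 16416, nat_lit 12293, nat_lit 8202, nat_lit 425990, nat_lit 413700, nat_lit 405506, nat_lit 397312, nat_lit 155904, nat_lit 147520, nat_lit 139296,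 nat_lit 135216, nat_lit 131394, nat_lit 45366, nat_lit 36866, nat_lit 28699, nat_lit 327680]⟩)
 (.leaf ndMr3_9))
 (.node (nat_lit 411) (.leaf ⟨[nat_lit 0x88b121a5a6579a2cab9005aa476a6e311030], [nat_lit 69632, nat_lit 73728, nat_lit 77824, nat_lit 81920, nat_lit 90112, nat_lit 102400, nat_lit 171520, nat_lit 166400, nat_lit 160512, nat_lit 155904, nat_lit 153952, nat_lit 149200, nat_lit 145160, nat_lit 141904, nat_lit 138820, nat_lit 132903, nat_lit 1076, nat_lit 5120, nat_lit 8208, nat_lit 12304, nat_lit 17408, nat_lit 20864, nat_lit 26752, nat_lit 29696, nat_lit 35840, nat_lit 37888, nat_lit 41302, nat_lit 32827, nat_lit 28737, nat_lit 24767, nat_lit 20574, nat_lit 16392, nat_lit 12308, nat_lit 8200, nat_lit 128]⟩)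
 (.leaf ⟨[nat_lit 0x824d48126c439a0e7824152db3454a3a5e2c], [nat_lit 65536, nat_lit 69632, nat_lit 81920, nat_lit 98304, nat_lit 106496, nat_lit 178176, nat_lit 173056, nat_lit 169984, nat_lit 165376, nat_lit 163584, nat_lit 156416, nat_lit 154560, nat_lit 148128, nat_lit 146592, nat_lit 142864, nat_lit 137114, nat_lit 132857, nat_lit 1354, nat_lit 4924, nat_lit 9648, nat_lit 14368, nat_lit 18464, nat_lit 23552, nat_lit 27136, nat_lit 29696, nat_lit 37888, nat_lit 41865, nat_lit 36928, nat_lit 33820, nat_lit 25092, nat_lit 20496, nat_lit 16424, nat_lit 12304, nat_lit 8259, nat_lit 4101, nat_lit 4]⟩)))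
 (.node (nat_lit 414) (.node (nat_lit 413) (.leaf ⟨[nat_lit 0x42dd72121f74d5816b8d05a8f3b4a8519011], [nat_lit 65536, nat_lit 69632, nat_lit 73728, nat_lit 94208, nat_lit 102400, nat_lit 178176, nat_lit 173056, nat_lit 170496, nat_lit 167168, nat_lit 160768, nat_lit 159168, nat_lit 153728, nat_lit 150512, nat_lit 143688, nat_lit 141664, nat_lit 138470, nat_lit 133170, nat_lit 1250, nat_lit 7904, nat_lit 11872, nat_lit 12800, nat_lit 18560, nat_lit 22080, nat_lit 26240, nat_lit 31232, nat_lit 35840, nat_lit 37888, nat_lit 43008, nat_lit 41473, nat_lit 37375, nat_lit 33459, nat_lit 28769, nat_lit 24706, nat_lit 20565, nat_lit 16423, nat_lit 12289, nat_lit 8227]⟩)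
 (.leaf ⟨[nat_lit 0xfa039914925b4dd13051052df53b684b8c0c], [nat_lit 65536, nat_lit 81920, nat_lit 86016, nat_lit 102400, nat_lit 106496, nat_lit 178176, nat_lit 173056, nat_lit 170496, nat_lit 165120, nat_lit 161792, nat_lit 158656, nat_lit 152416, nat_lit 150752, nat_lit 144960, nat_lit 140708, nat_lit 138400, nat_lit 134676, nat_lit 2928, nat_lit 4684, nat_lit 9992, nat_lit 15216, nat_lit 16512, nat_lit 21312, nat_lit 24832, nat_lit 31232, nat_lit 33280, nat_lit 38912, nat_lit 43008, nat_lit 41382, nat_lit 36991, nat_lit 32996, nat_lit 28755, nat_lit 24736, nat_lit 20499, nat_lit 16416, nat_lit 12294, nat_lit 8201]⟩))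
 (.node (nat_lit 415) (.leaf ⟨[nat_lit 0x33006321cc594e307b1ae52d28b569710c20], [nat_lit 81920, nat_lit 98304, nat_lit 175104, nat_lit 166400, nat_lit 162816, nat_lit 156992, nat_lit 153216, nat_lit 145256, nat_lit 141092, nat_lit 135616, nat_lit 133032, nat_lit 2, nat_lit 6732, nat_lit 8768, nat_lit 12864, nat_lit 20000, nat_lit 20608, nat_lit 24704, nat_lit 30976, nat_lit 35328, nat_lit 38912, nat_lit 43008, nat_lit 41004, nat_lit 37325, nat_lit 33280, nat_lit 28960, nat_lit 24736, nat_lit 20608, nat_lit 16390, nat_lit 12289, nat_lit 8193, nat_lit 4097, nat_lit 2, nat_lit 327680]⟩)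
 (.leaf ⟨[nat_lit 0xc9f30a149b4b4d80ac1e15a9063a4a4b8e2e], [nat_lit 69632, nat_lit 90112, nat_lit 106496, nat_lit 175104, nat_lit 168448, nat_lit 166912, nat_lit 163456, nat_lit 156992, nat_lit 155520, nat_lit 151120, nat_lit 146888, nat_lit 139472, nat_lit 137510, nat_lit 132038, nat_lit 1530, nat_lit 5004, nat_lit 10168, nat_lit 14848, nat_lit 18944, nat_lit 23040, nat_lit 27008, nat_lit 31232, nat_lit 33280, nat_lit 41927, nat_lit 37055, nat_lit 33994, nat_lit 28685, nat_lit 24578, nat_lit 20493, nat_lit 16397, nat_lit 12294, nat_lit 8193, nat_lit 4105, nat_lit 327680]⟩))))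

theorem dcME51_ok : dcME51.all (elB (nat_lit 0)) = true := by decide +kernel

def dcME52 : BT El := (.node (nat_lit 420) (.node (nat_lit 418) (.node (nat_lit 417) (.leaf ⟨[nat_lit 0x9a0faa19e5743dcca80d152d2d9d844a1601], [nat_lit 65536, nat_lit 77824, nat_lit 81920, nat_lit 86016, nat_lit 94208, nat_lit 102400, nat_lit 106496, nat_lit 174080, nat_lit 168960, nat_lit 166656, nat_lit 163200, nat_lit 157184, nat_lit 151680, nat_lit 151344, nat_lit 144704, nat_lit 140540, nat_lit 135474, nat_lit 133432, nat_lit 3190, nat_lit 6208, nat_lit 10744, nat_lit 16192, nat_lit 18464, nat_lit 20544, nat_lit 26752, nat_lit 29696, nat_lit 35328, nat_lit 37888, nat_lit 41279, nat_lit 37348, nat_lit 33399, nat_lit 29031, nat_lit 24622, nat_lit 20491, nat_lit 16392, nat_lit 8258, nat_lit 4129, nat_lit 32]⟩)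
 (.leaf ⟨[nat_lit 0xe42db4a55a434a2c482d052cef9a2e228dc1], [nat_lit 69632, nat_lit 73728, nat_lit 77824, nat_lit 81920, nat_lit 86016, nat_lit 98304, nat_lit 102400, nat_lit 106496, nat_lit 171520, nat_lit 165632, nat_lit 161664, nat_lit 156800, nat_lit 153056, nat_lit 147856, nat_lit 146744, nat_lit 140040, nat_lit 139028, nat_lit 134303, nat_lit 3190, nat_lit 5768, nat_lit 8200, nat_lit 14464, nat_lit 16512, nat_lit 24320, nat_lit 26624, nat_lit 32256, nat_lit 36352, nat_lit 38912, nat_lit 43008, nat_lit 41728, nat_lit 34024, nat_lit 29027, nat_lit 24854, nat_lit 20558, nat_lit 16428, nat_lit 12308, nat_lit 8208, nat_lit 4160, nat_lit 128, nat_lit 327680]⟩))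
 (.node (nat_lit 419) (.leaf ⟨[nat_lit 0x699003ba6d479a013824e5aaa89b46520a2c], [nat_lit 69632, nat_lit 73728, nat_lit 77824, nat_lit 81920, nat_lit 86016, nat_lit 90112, nat_lit 94208, nat_lit 98304, nat_lit 102400, nat_lit 106496, nat_lit 167168, nat_lit 160000, nat_lit 158592, nat_lit 152448, nat_lit 147536, nat_lit 144600, nat_lit 139736, nat_lit 136514, nat_lit 133686, nat_lit 2258, nat_lit 4608, nat_lit 9216, nat_lit 12304, nat_lit 16512, nat_lit 21504, nat_lit 27136, nat_lit 29696, nat_lit 33792, nat_lit 39936, nat_lit 41775, nat_lit 36928, nat_lit 28696, nat_lit 25090, nat_lit 16520, nat_lit 12416, nat_lit 4160, nat_lit 1024]⟩)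
 (.leaf ⟨[nat_lit 0xac300aa58e56bc20445305aa72356e4189cc], [nat_lit 65536, nat_lit 69632, nat_lit 77824, nat_lit 86016, nat_lit 94208, nat_lit 98304, nat_lit 106496, nat_lit 178176, nat_lit 174080, nat_lit 166144, nat_lit 163456, nat_lit 158272, nat_lit 154208, nat_lit 148928, nat_lit 146664, nat_lit 141804, nat_lit 138924, nat_lit 133767, nat_lit 318, nat_lit 7816, nat_lit 12136, nat_lit 14352, nat_lit 16512, nat_lit 22336, nat_lit 26624, nat_lit 29440, nat_lit 33280, nat_lit 37888, nat_lit 41165, nat_lit 37282, nat_lit 32952, nat_lit 28995, nat_lit 24631, nat_lit 20504, nat_lit 16416, nat_lit 12304, nat_lit 4161, nat_lit 64]⟩)))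
 (.node (nat_lit 422) (.node (nat_lit 421) (.leaf ⟨[nat_lit 0xc05c901cd3491e2c442a152ccfb34b7111c0], [nat_lit 65536, nat_lit 102400, nat_lit 106496, nat_lit 175104, nat_lit 168448, nat_lit 161920, nat_lit 157312, nat_lit 152352, nat_lit 149920, nat_lit 145784, nat_lit 142968, nat_lit 138876, nat_lit 133731, nat_lit 1972, nat_lit 5276, nat_lit 10144, nat_lit 12480, nat_lit 19392, nat_lit 23488, nat_lit 28288, nat_lit 29952, nat_lit 33792, nat_lit 41870, nat_lit 37207, nat_lit 33512, nat_lit 28759, nat_lit 24738, nat_lit 20503, nat_lit 16390, nat_lit 12548, nat_lit 8195, nat_lit 4097, nat_lit 2, nat_lit 327680]⟩)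
 (.leaf ⟨[nat_lit 0x81dd1e249e33b6213326052ec84d6f41160e], [nat_lit 69632, nat_lit 73728, nat_lit 77824, nat_lit 90112, nat_lit 94208, nat_lit 102400, nat_lit 106496, nat_lit 175104, nat_lit 171520, nat_lit 166144, nat_lit 162688, nat_lit 158720, nat_lit 153664, nat_lit 148736, nat_lit 145088, nat_lit 143032, nat_lit 136210, nat_lit 133509, nat_lit 1624, nat_lit 4160, nat_lit 12080, nat_lit 14128, nat_lit 20224, nat_lit 20608, nat_lit 24704, nat_lit 29440, nat_lit 35328, nat_lit 43008, nat_lit 41166, nat_lit 37253, nat_lit 33280, nat_lit 28973, nat_lit 24583, nat_lit 20509, nat_lit 16424, nat_lit 12324, nat_lit 8193, nat_lit 4160]⟩))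
 (.node (nat_lit 423) (.leaf ndMr6_26)
 (.leaf ⟨[nat_lit 0x8b2177a3c4729a0a635114da759006b205d7, nat_lit 0xaf6cf624cd2b21347342203d83396305d6ea], [nat_lit 86016, nat_lit 90112, nat_lit 94208, nat_lit 106496, nat_lit 110592, nat_lit 175104, nat_lit 170496, nat_lit 164864, nat_lit 160000, nat_lit 156224, nat_lit 151648, nat_lit 149952, nat_lit 146016, nat_lit 139400, nat_lit 137386, nat_lit 133982, nat_lit 3976, nat_lit 7508, nat_lit 10272, nat_lit 14336, nat_lit 16512, nat_lit 22144, nat_lit 26752, nat_lit 31232, nat_lit 33280, nat_lit 37888, nat_lit 45999, nat_lit 41736, nat_lit 37004, nat_lit 32981, nat_lit 29050, nat_lit 24611, nat_lit 20547, nat_lit 16640, nat_lit 12421, nat_lit 434184, nat_lit 409601, nat_lit 164864, nat_lit 148736, nat_lit 136464, nat_lit 28688, nat_lit 24578, nat_lit 20496, nat_lit 8194]⟩))))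

theorem dcME52_ok : dcME52.all (elB (nat_lit 0)) = true := by decide +kernel

def dcME53 : BT El := (.node (nat_lit 428) (.node (nat_lit 426) (.node (nat_lit 425) (.leaf ndMr6_38)
 (.leaf ⟨[nat_lit 0x71d2e125e065bce34a2b17054565a6d90814, nat_lit 0x636c6a139900daf2a288d1a5112cc06abceb, nat_lit 0x2877e169603099f35dd8e10114228f64c6b2], [nat_lit 69632, nat_lit 86016, nat_lit 90112, nat_lit 110592, nat_lit 178176, nat_lit 173056, nat_lit 171520, nat_lit 164864, nat_lit 160384, nat_lit 157568, nat_lit 154112, nat_lit 147552, nat_lit 146456, nat_lit 139800, nat_lit 136836, nat_lit 132025, nat_lit 1228, nat_lit 5428, nat_lit 11736, nat_lit 16080, nat_lit 16512, nat_lit 21120, nat_lit 24704, nat_lit 33280, nat_lit 46272, nat_lit 41538, nat_lit 37051, nat_lit 32841, nat_lit 28676, nat_lit 24857, nat_lit 21017, nat_lit 16448, nat_lit 12550, nat_lit 8202, nat_lit 425991, nat_lit 417797, nat_lit 405506, nat_lit 397312, nat_lit 155776, nat_lit 151936, nat_lit 139488, nat_lit 135424, nat_lit 131278,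 nat_lit 45061, nat_lit 40973, nat_lit 37038, nat_lit 16386]⟩))
 (.node (nat_lit 427) (.leaf ndMr6_24)
 (.leaf ⟨[nat_lit 0xb821eb659b310292bc08659de30a9c544535, nat_lit 0x60aa3524c4a08357c24db5c038cd8e59d05], [nat_lit 65536, nat_lit 77824, nat_lit 81920, nat_lit 86016, nat_lit 94208, nat_lit 178176, nat_lit 173056, nat_lit 171008, nat_lit 164352, nat_lit 160640, nat_lit 156352, nat_lit 155232, nat_lit 148544, nat_lit 146288, nat_lit 139412, nat_lit 136006, nat_lit 134733, nat_lit 3170, nat_lit 8168, nat_lit 11360, nat_lit 15248, nat_lit 19424, nat_lit 21184, nat_lit 24832, nat_lit 30208, nat_lit 34304, nat_lit 39936, nat_lit 46207, nat_lit 43183, nat_lit 37374, nat_lit 32895, nat_lit 29249, nat_lit 24839, nat_lit 20563, nat_lit 16398, nat_lit 12307, nat_lit 8200, nat_lit 417796, nat_lit 397312, nat_lit 135184, nat_lit 131152, nat_lit 41043, nat_lit 28688, nat_lit 20481, nat_lit 12290, nat_lit 8193, nat_lit 327680]⟩)))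
 (.node (nat_lit 430) (.node (nat_lit 429) (.leaf ndMr7_27)
 (.leaf ⟨[nat_lit 0x22b72d4d676540c50b8971824b4322d38a8f, nat_lit 0x966ffca4ef0225471bd826b8012990b8d6d2], [nat_lit 65536, nat_lit 69632, nat_lit 73728, nat_lit 102400, nat_lit 106496, nat_lit 110592, nat_lit 174080, nat_lit 168448, nat_lit 164096, nat_lit 161536, nat_lit 159104, nat_lit 155264, nat_lit 150688, nat_lit 144720, nat_lit 139564, nat_lit 137560, nat_lit 134631, nat_lit 4078, nat_lit 5204, nat_lit 8424, nat_lit 14480, nat_lit 16512, nat_lit 23168, nat_lit 24832, nat_lit 31744, nat_lit 46421, nat_lit 41647, nat_lit 38148, nat_lit 33494, nat_lit 28774, nat_lit 24729, nat_lit 20554, nat_lit 16392, nat_lit 12309, nat_lit 8200, nat_lit 4161, nat_lit 425990, nat_lit 397312, nat_lit 155904, nat_lit 135488, nat_lit 131074, nat_lit 41024, nat_lit 20481, nat_lit 12289, nat_lit 8194, nat_lit 327680]⟩))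
 (.node (nat_lit 431) (.leaf ndMr7_24)
 (.leaf ⟨[nat_lit 0x9fa9fa51535692ec93c4b0ba2818287b4266, nat_lit 0x1724815088d954039ad362a02f75190898f7], [nat_lit 73728, nat_lit 77824, nat_lit 81920, nat_lit 86016, nat_lit 102400, nat_lit 110592, nat_lit 175104, nat_lit 168960, nat_lit 165888, nat_lit 163328, nat_lit 156544, nat_lit 154048, nat_lit 147648, nat_lit 147064, nat_lit 139936, nat_lit 135176, nat_lit 132926, nat_lit 2772, nat_lit 4328, nat_lit 10968, nat_lit 14848, nat_lit 20224, nat_lit 24384, nat_lit 24704, nat_lit 31488, nat_lit 33792, nat_lit 39936, nat_lit 43008, nat_lit 45446, nat_lit 41783, nat_lit 36981, nat_lit 34029, nat_lit 29042, nat_lit 24624, nat_lit 20493, nat_lit 16463, nat_lit 12294, nat_lit 8193, nat_lit 4105, nat_lit 417797, nat_lit 405505, nat_lit 151616, nat_lit 36928, nat_lit 32800, nat_lit 28704, nat_lit 16392, nat_lit 8194]⟩))))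

theorem dcME53_ok : dcME53.all (elB (nat_lit 0)) = true := by decide +kernel

def dcME54 : BT El := (.node (nat_lit 436) (.node (nat_lit 434) (.node (nat_lit 433) (.leaf ndMr8_45)
 (.leaf ⟨[nat_lit 0x71e14bab0e1bb8058a212525731be86209b6, nat_lit 0x3a5ff63396f3a2d41c9b58c0a950082606f3, nat_lit 0xd27b8869df1a21825ddc02a66a856c620643, nat_lit 0xa00a951d5d6790e032691ba8b21361358588], [nat_lit 65536, nat_lit 73728, nat_lit 86016, nat_lit 94208, nat_lit 106496, nat_lit 110592, nat_lit 178176, nat_lit 164864, nat_lit 157568, nat_lit 153408, nat_lit 148048, nat_lit 146632, nat_lit 139304, nat_lit 136284, nat_lit 131189, nat_lit 2478, nat_lit 6588, nat_lit 11944, nat_lit 15568, nat_lit 19136, nat_lit 24192, nat_lit 25856, nat_lit 31488, nat_lit 34816, nat_lit 43008, nat_lit 46983, nat_lit 41818, nat_lit 36981, nat_lit 33886, nat_lit 30803, nat_lit 24606, nat_lit 21023, nat_lit 16448, nat_lit 12292, nat_lit 8195, nat_lit 4101, nat_lit 438282, nat_lit 430088, nat_lit 421894, nat_lit 413700,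 nat_lit 405506, nat_lit 397312, nat_lit 171008, nat_lit 167424, nat_lit 162816, nat_lit 157440, nat_lit 154112, nat_lit 151296, nat_lit 146336, nat_lit 142344, nat_lit 135960, nat_lit 131866]⟩))
 (.node (nat_lit 435) (.leaf ndMr8_57)
 (.leaf ⟨[nat_lit 0xd4bd7e34097ac5099d9ac3ac6f2b941a0242, nat_lit 0xe4777d811e998e36a9c2565c0e45162329b2, nat_lit 0x12e4424556153cd06a492046f3114f41bacc], [nat_lit 65536, nat_lit 69632, nat_lit 77824, nat_lit 94208, nat_lit 98304, nat_lit 102400, nat_lit 106496, nat_lit 110592, nat_lit 178176, nat_lit 174080, nat_lit 170496, nat_lit 166656, nat_lit 161664, nat_lit 159552, nat_lit 152576, nat_lit 148384, nat_lit 146624, nat_lit 139736, nat_lit 139082, nat_lit 134446, nat_lit 2818, nat_lit 7716, nat_lit 8728, nat_lit 12448, nat_lit 17344, nat_lit 20544, nat_lit 24704, nat_lit 29440, nat_lit 34304, nat_lit 37888, nat_lit 45683, nat_lit 41661, nat_lit 38354, nat_lit 33408, nat_lit 28974, nat_lit 20759, nat_lit 16429, nat_lit 12326, nat_lit 8203, nat_lit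 4104, nat_lit 425991, nat_lit 417797, nat_lit 409603, nat_lit 397312, nat_lit 160000, nat_lit 151616, nat_lit 147744, nat_lit 143488, nat_lit 135472, nat_lit 131304, nat_lit 45435, nat_lit 41467, nat_lit 37011, nat_lit 8193, nat_lit 327680]⟩)))
 (.node (nat_lit 438) (.node (nat_lit 437) (.leaf ndMr8_31)
 (.leaf ⟨[nat_lit 0x22b822901ee235149d45752623098f061576, nat_lit 0x2e1b2eb08a79b4c80a9375c5e4942a0a306e, nat_lit 0xb1e81d61c550b4968a4a644c037add0baa92, nat_lit 0x822b243d9e51448b924660068d4299575e70], [nat_lit 69632, nat_lit 90112, nat_lit 94208, nat_lit 106496, nat_lit 178176, nat_lit 173056, nat_lit 169984, nat_lit 164096, nat_lit 160384, nat_lit 157504, nat_lit 151808, nat_lit 147504, nat_lit 143472, nat_lit 140660, nat_lit 137556, nat_lit 133047, nat_lit 3634, nat_lit 7216, nat_lit 9368, nat_lit 14672, nat_lit 16992, nat_lit 21504, nat_lit 27008, nat_lit 29952, nat_lit 43008, nat_lit 46721, nat_lit 43839, nat_lit 36874, nat_lit 32772, nat_lit 28798, nat_lit 24599, nat_lit 20621,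 nat_lit 16427, nat_lit 12293, nat_lit 8201, nat_lit 4128, nat_lit 438282, nat_lit 430088, nat_lit 421894, nat_lit 413700, nat_lit 405506, nat_lit 397312, nat_lit 174080, nat_lit 160768, nat_lit 157568, nat_lit 153920, nat_lit 151520, nat_lit 143392, nat_lit 140232, nat_lit 136196, nat_lit 132814, nat_lit 327680]⟩))
 (.node (nat_lit 439) (.leaf ndMr8_41)
 (.leaf ⟨[nat_lit 0x63639a94d8e250b71894b8b60f39ad500528, nat_lit 0x822bdbbb533880922da83305483898e5be15, nat_lit 0x606aa0010cab26e373c4b94501ab0f0a34b3, nat_lit 0x5aa3ca93ef58a1aa3ac3670262640c549074], [nat_lit 81920, nat_lit 98304, nat_lit 106496, nat_lit 110592, nat_lit 178176, nat_lit 173056, nat_lit 169472, nat_lit 164352, nat_lit 160256, nat_lit 156352, nat_lit 152352, nat_lit 148080, nat_lit 146688, nat_lit 140004, nat_lit 135674, nat_lit 134939, nat_lit 3108, nat_lit 6428, nat_lit 8976, nat_lit 14400, nat_lit 19392, nat_lit 24192, nat_lit 25344, nat_lit 31488, nat_lit 34304, nat_lit 38912, nat_lit 43008, nat_lit 47065, nat_lit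 41848, nat_lit 36921, nat_lit 32914, nat_lit 28766, nat_lit 24719, nat_lit 20505, nat_lit 16390, nat_lit 12293, nat_lit 8202, nat_lit 4100, nat_lit 438280, nat_lit 421894, nat_lit 413700, nat_lit 405506, nat_lit 397312, nat_lit 160000, nat_lit 155904, nat_lit 151680, nat_lit 147648, nat_lit 145712, nat_lit 141616, nat_lit 135244, nat_lit 131088, nat_lit 41024, nat_lit 37300, nat_lit 327680]⟩))))

theorem dcME54_ok : dcME54.all (elB (nat_lit 0)) = true := by decide +kernel

def dcME55 : BT El := (.node (nat_lit 444) (.node (nat_lit 442) (.node (nat_lit 441) (.leaf ndMr8_30)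
 (.leaf ⟨[nat_lit 0xbe4ddb619d21c4a148a8f536e099ed55c088, nat_lit 0x444e4288e640296743a557c2c909a972b582, nat_lit 0x6f65a09162e3beb452da485c08b0a691982c, nat_lit 0xd127747912c38c4a0ce8d44645356cb85dc0], [nat_lit 69632, nat_lit 73728, nat_lit 90112, nat_lit 94208, nat_lit 98304, nat_lit 178176, nat_lit 174080, nat_lit 169984, nat_lit 167424, nat_lit 161536, nat_lit 159424, nat_lit 153760, nat_lit 149056, nat_lit 146424, nat_lit 140920, nat_lit 137144, nat_lit 134969, nat_lit 2114, nat_lit 7416, nat_lit 10720, nat_lit 13152, nat_lit 20128, nat_lit 21440, nat_lit 26752, nat_lit 36352, nat_lit 39936, nat_lit 46799, nat_lit 41795, nat_lit 36978, nat_lit 34040, nat_lit 28995, nat_lit 24621, nat_lit 20565, nat_lit 16419, nat_lit 12294, nat_lit 8195, nat_lit 4, nat_lit 434185, nat_lit 421894, nat_lit 413700, nat_lit 405506, nat_lit 397312, nat_lit 168960, nat_lit 156800, nat_lit 153216, nat_lit 149088, nat_lit 144928, nat_lit 139496, nat_lit 135692, nat_lit 131616, nat_lit 45186, nat_lit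 33007]⟩))
 (.node (nat_lit 443) (.leaf ndMr8_39)
 (.leaf ⟨[nat_lit 0xbe422b4bd469120d030a140ad1ab8f71d26b, nat_lit 0x21bee8345aba1c6580657b31c2aa40a9a1e4, nat_lit 0x96cc08a48872c1663cb285ea63cc22551a3, nat_lit 0x14b4d75d5c8119332dde4a41b160ec104947], [nat_lit 65536, nat_lit 69632, nat_lit 73728, nat_lit 77824, nat_lit 86016, nat_lit 94208, nat_lit 102400, nat_lit 110592, nat_lit 178176, nat_lit 174080, nat_lit 168960, nat_lit 164864, nat_lit 160768, nat_lit 156224, nat_lit 153120, nat_lit 147504, nat_lit 143408, nat_lit 139324, nat_lit 132349, nat_lit 2892, nat_lit 6812, nat_lit 8576, nat_lit 15360, nat_lit 19200, nat_lit 23872, nat_lit 26624, nat_lit 29696, nat_lit 33280, nat_lit 37888, nat_lit 43008, nat_lit 46400, nat_lit 43431, nat_lit 37318, nat_lit 33293, nat_lit 28998, nat_lit 24838, nat_lit 21513, nat_lit 16398, nat_lit 8194, nat_lit 4101, nat_lit 438282, nat_lit 430088, nat_lit 421894, nat_lit 413700, nat_lit 405506, nat_lit 397312, nat_lit 168960, nat_lit 165376, nat_lit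 161536, nat_lit 158464, nat_lit 154432, nat_lit 149792, nat_lit 144400, nat_lit 139376, nat_lit 137268, nat_lit 134798]⟩)))
 (.node (nat_lit 446) (.node (nat_lit 445) (.leaf ndMr8_61)
 (.leaf ⟨[nat_lit 0x8d7eedb91b04014b7969108869a9dd2b30d3, nat_lit 0x8de77e324ac03d411d0903d45194dab45ece, nat_lit 0xf335a685e7532f0a16c09d50e499628c883], [nat_lit 65536, nat_lit 69632, nat_lit 73728, nat_lit 81920, nat_lit 86016, nat_lit 90112, nat_lit 98304, nat_lit 102400, nat_lit 178176, nat_lit 174080, nat_lit 170496, nat_lit 166656, nat_lit 161152, nat_lit 155840, nat_lit 153280, nat_lit 151152, nat_lit 145128, nat_lit 139848, nat_lit 138824, nat_lit 132271, nat_lit 396, nat_lit 5136, nat_lit 11352, nat_lit 15888, nat_lit 17184, nat_lit 22400, nat_lit 27136, nat_lit 30208, nat_lit 34816, nat_lit 37888, nat_lit 46290, nat_lit 41951, nat_lit 38043, nat_lit 32938, nat_lit 28949, nat_lit 24624, nat_lit 20571, nat_lit 16460, nat_lit 12291, nat_lit 8210, nat_lit 4097, nat_lit 2, nat_lit 430087, nat_lit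 417797, nat_lit 409602, nat_lit 397312, nat_lit 155776, nat_lit 148032, nat_lit 139984, nat_lit 135876, nat_lit 131698, nat_lit 45733, nat_lit 41605, nat_lit 32819, nat_lit 12292]⟩))
 (.node (nat_lit 447) (.leaf ndMr8_35)
 (.leaf ⟨[nat_lit 0x8e88d723e2e004b391af6689351ad94828e8, nat_lit 0xcf9035309a02c64f1ae770da0a42584752a7, nat_lit 0x2128747d54b8cdd6149253410160077391b4, nat_lit 0xb47de73dd236a972856cc9bc20215d130a88], [nat_lit 81920, nat_lit 86016, nat_lit 106496, nat_lit 178176, nat_lit 175104, nat_lit 170496, nat_lit 165376, nat_lit 162432, nat_lit 155776, nat_lit 155360, nat_lit 151248, nat_lit 144664, nat_lit 141740, nat_lit 136104, nat_lit 133615, nat_lit 3700, nat_lit 7888, nat_lit 8408, nat_lit 17600, nat_lit 23360, nat_lit 25216, nat_lit 30976, nat_lit 38912, nat_lit 43008, nat_lit 46636, nat_lit 41260, nat_lit 38920, nat_lit 32978, nat_lit 29003, nat_lit 24843, nat_lit 21007, nat_lit 16386, nat_lit 12320, nat_lit 8193, nat_lit 4105, nat_lit 4, nat_lit 430088, nat_lit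 421894, nat_lit 413700, nat_lit 405506, nat_lit 397312, nat_lit 155776, nat_lit 151680, nat_lit 144096, nat_lit 139944, nat_lit 135296, nat_lit 131334, nat_lit 45290, nat_lit 41510]⟩))))

theorem dcME55_ok : dcME55.all (elB (nat_lit 0)) = true := by decide +kernel

def dcME56 : BT El := (.node (nat_lit 452) (.node (nat_lit 450) (.node (nat_lit 449) (.leaf ndMr8_46)
 (.leaf ⟨[nat_lit 0x6059f5b12576d02a19e628bcce2a60b62015, nat_lit 0xcc5a550510e32930884e35b0572dab3691f2, nat_lit 0x841ddda4ec65b6a1b89ca2b22f4924801c70, nat_lit 0xa9a50fa0d50205e0bb6a674e2562ce814936], [nat_lit 69632, nat_lit 77824, nat_lit 81920, nat_lit 98304, nat_lit 110592, nat_lit 178176, nat_lit 173056, nat_lit 168960, nat_lit 164096, nat_lit 160384, nat_lit 155840, nat_lit 147520, nat_lit 144656, nat_lit 139676, nat_lit 136104, nat_lit 134234, nat_lit 2222, nat_lit 4548, nat_lit 12080, nat_lit 16192, nat_lit 20160, nat_lit 22336, nat_lit 27264, nat_lit 29952, nat_lit 33280, nat_lit 38912, nat_lit 46832, nat_lit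 41337, nat_lit 39196, nat_lit 33284, nat_lit 28985, nat_lit 24600, nat_lit 20744, nat_lit 16463, nat_lit 12289, nat_lit 8211, nat_lit 4097, nat_lit 438282, nat_lit 430088, nat_lit 421894, nat_lit 413700, nat_lit 405506, nat_lit 397312, nat_lit 167424, nat_lit 158592, nat_lit 154496, nat_lit 147968, nat_lit 143648, nat_lit 140336, nat_lit 138440, nat_lit 131408]⟩))
 (.node (nat_lit 451) (.leaf ndMr8_65)
 (.leaf ⟨[nat_lit 0xc659c3a354b11a48484b064677b01c3790f5, nat_lit 0x1eed77409c3bcc25aa9f45b487358128b130, nat_lit 0xcafa301d12fa92f2740ed114310598832e6a], [nat_lit 65536, nat_lit 73728, nat_lit 81920, nat_lit 86016, nat_lit 94208, nat_lit 102400, nat_lit 106496, nat_lit 178176, nat_lit 173056, nat_lit 168960, nat_lit 164096, nat_lit 161536, nat_lit 155776, nat_lit 151616, nat_lit 151296, nat_lit 145168, nat_lit 142000, nat_lit 138576, nat_lit 133263, nat_lit 2278, nat_lit 4564, nat_lit 12232, nat_lit 16000, nat_lit 17504, nat_lit 23680, nat_lit 26240, nat_lit 31744, nat_lit 35328,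 nat_lit 39936, nat_lit 43008, nat_lit 46467, nat_lit 43776, nat_lit 37106, nat_lit 32838, nat_lit 29222, nat_lit 24719, nat_lit 20490, nat_lit 16455, nat_lit 8211, nat_lit 4100, nat_lit 2, nat_lit 430088, nat_lit 413700, nat_lit 405506, nat_lit 397312, nat_lit 152064, nat_lit 144176, nat_lit 139544, nat_lit 135936, nat_lit 131120, nat_lit 45061, nat_lit 41497, nat_lit 28709, nat_lit 24586, nat_lit 327680]⟩)))
 (.node (nat_lit 454) (.node (nat_lit 453) (.leaf ndMr8_38)
 (.leaf ⟨[nat_lit 0x3fc50364126ab42e12d57b44127cce820cb4, nat_lit 0xa0fa9a52ea22c9e922191bb9a1358e304274, nat_lit 0x8b12dd7358f5a928390a68c27218440a5ab7], [nat_lit 65536, nat_lit 77824, nat_lit 81920, nat_lit 98304, nat_lit 110592, nat_lit 173056, nat_lit 169472, nat_lit 166144, nat_lit 161152, nat_lit 156288, nat_lit 154720, nat_lit 147872, nat_lit 145864, nat_lit 142480, nat_lit 138292, nat_lit 133121, nat_lit 3944, nat_lit 6740, nat_lit 12208, nat_lit 14512, nat_lit 18368, nat_lit 20864, nat_lit 24704, nat_lit 32256,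 nat_lit 33792, nat_lit 38912, nat_lit 43008, nat_lit 45609, nat_lit 41274, nat_lit 37213, nat_lit 33351, nat_lit 28797, nat_lit 24720, nat_lit 20507, nat_lit 16396, nat_lit 12309, nat_lit 8209, nat_lit 4, nat_lit 430088, nat_lit 421894, nat_lit 413700, nat_lit 397312, nat_lit 164352, nat_lit 160000, nat_lit 155904, nat_lit 152064, nat_lit 147840, nat_lit 135504, nat_lit 131234, nat_lit 45568, nat_lit 41600, nat_lit 12290, nat_lit 8193, nat_lit 327680]⟩))
 (.node (nat_lit 455) (.leaf ndMr8_37)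
 (.leaf ⟨[nat_lit 0xdebe171de80b06a23918d299cf92a688a60b, nat_lit 0x3a9cac11c6aa99769d1a175e007b12444a25, nat_lit 0x6360613630a26662591271ca17ac6a05eac, nat_lit 0x60f3cc428e96c055bc58031165951e170ed3], [nat_lit 65536, nat_lit 69632, nat_lit 73728, nat_lit 77824, nat_lit 86016, nat_lit 90112, nat_lit 102400, nat_lit 110592, nat_lit 173056, nat_lit 168448, nat_lit 165888, nat_lit 162176, nat_lit 159360, nat_lit 151872, nat_lit 147584, nat_lit 145912, nat_lit 140896, nat_lit 135762, nat_lit 132289, nat_lit 1004, nat_lit 6576, nat_lit 11608, nat_lit 13152, nat_lit 18688, nat_lit 20800, nat_lit 28544, nat_lit 32000, nat_lit 36352, nat_lit 38912, nat_lit 43008, nat_lit 46377, nat_lit 41539, nat_lit 38281, nat_lit 32888, nat_lit 28762, nat_lit 24612, nat_lit 20546, nat_lit 16395, nat_lit 12311, nat_lit 438282, nat_lit 421894, nat_lit 413700, nat_lit 405506, nat_lit 397312, nat_lit 161792, nat_lit 158720, nat_lit 153792, nat_lit 150624, nat_lit 144608, nat_lit 142376, nat_lit 137252, nat_lit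 133366, nat_lit 36880, nat_lit 32784]⟩))))

theorem dcME56_ok : dcME56.all (elB (nat_lit 0)) = true := by decide +kernel

def dcME57 : BT El := (.node (nat_lit 460) (.node (nat_lit 458) (.node (nat_lit 457) (.leaf ndMr8_23)
 (.leaf ⟨[nat_lit 0xc9fa983d44adae26c926444eea00232ae6c, nat_lit 0xf59afa541b31b120459f432cee886a495ca2, nat_lit 0x4d1e27b36e43a5e8a8e2b115c092a819c0cc, nat_lit 0x5af60c442b792c437d0070b4b63262473153], [nat_lit 65536, nat_lit 69632, nat_lit 73728, nat_lit 77824, nat_lit 81920, nat_lit 86016, nat_lit 94208, nat_lit 98304, nat_lit 102400, nat_lit 106496, nat_lit 110592, nat_lit 178176, nat_lit 171520, nat_lit 166912, nat_lit 160512, nat_lit 156480, nat_lit 153728, nat_lit 150896, nat_lit 147104, nat_lit 141060, nat_lit 135530, nat_lit 135021, nat_lit 2188, nat_lit 7324, nat_lit 11248, nat_lit 12352, nat_lit 16480, nat_lit 21568, nat_lit 25984, nat_lit 32512, nat_lit 35840, nat_lit 46998, nat_lit 41248, nat_lit 37369, nat_lit 32816, nat_lit 29257, nat_lit 25129,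 nat_lit 16449, nat_lit 12290, nat_lit 10242, nat_lit 4105, nat_lit 434184, nat_lit 421894, nat_lit 413700, nat_lit 405506, nat_lit 397312, nat_lit 160768, nat_lit 156800, nat_lit 152832, nat_lit 147520, nat_lit 143584, nat_lit 140432, nat_lit 135416, nat_lit 131480, nat_lit 45551, nat_lit 36919, nat_lit 327680]⟩))
 (.node (nat_lit 459) (.leaf ndMr8_27)
 (.leaf ⟨[nat_lit 0xf5039682e436d264758f1ba2a27a42c01945, nat_lit 0xc9c0a079e6c821265500eb9235148a11d96d, nat_lit 0xd212eb4c44b6a2e50326fac036a1dca19246, nat_lit 0xffc3a57de895b0a70da068ba6890ea46880a], [nat_lit 69632, nat_lit 94208, nat_lit 98304, nat_lit 102400, nat_lit 106496, nat_lit 178176, nat_lit 160640, nat_lit 156608, nat_lit 153568, nat_lit 147824, nat_lit 143520, nat_lit 139440, nat_lit 135338, nat_lit 135003, nat_lit 272, nat_lit 4168, nat_lit 10048, nat_lit 12608, nat_lit 18176, nat_lit 22272, nat_lit 28160, nat_lit 28928, nat_lit 35328, nat_lit 43008, nat_lit 47092, nat_lit 41716, nat_lit 38018, nat_lit 35036, nat_lit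 29748, nat_lit 24705, nat_lit 20736, nat_lit 16393, nat_lit 12293, nat_lit 8200, nat_lit 430088, nat_lit 421894, nat_lit 413700, nat_lit 405506, nat_lit 397312, nat_lit 156288, nat_lit 152384, nat_lit 148224, nat_lit 144256, nat_lit 139344, nat_lit 136140, nat_lit 131720, nat_lit 45089, nat_lit 41076, nat_lit 327680]⟩)))
 (.node (nat_lit 462) (.node (nat_lit 461) (.leaf ndMr8_33)
 (.leaf ⟨[nat_lit 0x4e24b79062e3dd537890b056cd60ca622690, nat_lit 0xc0c5fc51eb663ca81acc29113183a816de60, nat_lit 0xafc9c0b34c929221532874406b73e60b8ab2, nat_lit 0xfc605979e92ac4aeb99b3b1190521210086b], [nat_lit 69632, nat_lit 73728, nat_lit 77824, nat_lit 90112, nat_lit 98304, nat_lit 106496, nat_lit 174080, nat_lit 168960, nat_lit 164608, nat_lit 162176, nat_lit 159168, nat_lit 154400, nat_lit 151264, nat_lit 145912, nat_lit 142588, nat_lit 135212, nat_lit 132020, nat_lit 130, nat_lit 7872, nat_lit 9064, nat_lit 13392, nat_lit 18144, nat_lit 24256, nat_lit 24704, nat_lit 36352, nat_lit 43008, nat_lit 45205,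 nat_lit 41584, nat_lit 37115, nat_lit 32820, nat_lit 28733, nat_lit 25093, nat_lit 16398, nat_lit 12294, nat_lit 8193, nat_lit 4104, nat_lit 4, nat_lit 430088, nat_lit 421894, nat_lit 413700, nat_lit 405506, nat_lit 397312, nat_lit 160512, nat_lit 156544, nat_lit 151872, nat_lit 148352, nat_lit 144192, nat_lit 139512, nat_lit 135216, nat_lit 132010, nat_lit 45057, nat_lit 40961, nat_lit 327680]⟩))
 (.node (nat_lit 463) (.leaf ndMr8_55)
 (.leaf ⟨[nat_lit 0x7d8eed99a2b6407512825a01d26a1e4bd927, nat_lit 0x509309aa4ec888c5a11c87824d9856ab8ed0, nat_lit 0x4b27d1208ee0323268d68b24d0acd457d037, nat_lit 0x666ff36d6d07087362d520a0b7250097c4e6], [nat_lit 73728, nat_lit 77824, nat_lit 81920, nat_lit 86016, nat_lit 90112, nat_lit 94208, nat_lit 106496, nat_lit 110592, nat_lit 178176, nat_lit 174080, nat_lit 169472, nat_lit 165120, nat_lit 161024, nat_lit 157696, nat_lit 152512, nat_lit 147584, nat_lit 144736, nat_lit 142936, nat_lit 135336, nat_lit 134063, nat_lit 1944, nat_lit 6524, nat_lit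 10872, nat_lit 13040, nat_lit 19968, nat_lit 23936, nat_lit 25344, nat_lit 30976, nat_lit 33792, nat_lit 46673, nat_lit 44015, nat_lit 37166, nat_lit 33445, nat_lit 28937, nat_lit 24581, nat_lit 21006, nat_lit 17417, nat_lit 12294, nat_lit 8193, nat_lit 434184, nat_lit 421894, nat_lit 413700, nat_lit 405506, nat_lit 397312, nat_lit 160768, nat_lit 156928, nat_lit 153024, nat_lit 147808, nat_lit 143456, nat_lit 139352, nat_lit 135232, nat_lit 132436, nat_lit 45135, nat_lit 36872]⟩))))

theorem dcME57_ok : dcME57.all (elB (nat_lit 0)) = true := by decide +kernel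

def dcME58 : BT El := (.node (nat_lit 468) (.node (nat_lit 466) (.node (nat_lit 465) (.leaf ndMr8_32)
 (.leaf ⟨[nat_lit 0x955a63a4d46690053d511bd9c2805921ad2f, nat_lit 0xaacaa67424a40c2d2a58711ab120276bd1eb, nat_lit 0x2e8db255df39592c11d0b84406a86851b88d, nat_lit 0x484878559872bd1522eee6d1260482314e30], [nat_lit 69632, nat_lit 73728, nat_lit 81920, nat_lit 94208, nat_lit 106496, nat_lit 110592, nat_lit 178176, nat_lit 171520, nat_lit 164864, nat_lit 159872, nat_lit 157504, nat_lit 151808, nat_lit 150864, nat_lit 147072, nat_lit 141468, nat_lit 135348, nat_lit 133971, nat_lit 640, nat_lit 5984, nat_lit 8824, nat_lit 12432, nat_lit 16992, nat_lit 21312, nat_lit 26240, nat_lit 29696, nat_lit 33792, nat_lit 37888, nat_lit 46993, nat_lit 43564, nat_lit 38990, nat_lit 33495, nat_lit 28727, nat_lit 25104, nat_lit 20631, nat_lit 16393, nat_lit 12306, nat_lit 8257, nat_lit 4100, nat_lit 8, nat_lit 434185, nat_lit 425990, nat_lit 413700, nat_lit 405506, nat_lit 397312, nat_lit 168960, nat_lit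 165376, nat_lit 156672, nat_lit 152064, nat_lit 149248, nat_lit 144400, nat_lit 139600, nat_lit 135680, nat_lit 132650, nat_lit 45072]⟩))
 (.node (nat_lit 467) (.leaf ndMr8_28)
 (.leaf ⟨[nat_lit 0x41e812b01370ad8d2be3532883a38f282053, nat_lit 0xb441428bd0aaddb2326c22d1600b263740e4, nat_lit 0x2bb271349d5a22e1291209b0f67b56384542, nat_lit 0x7b8bbe98ace51af47910c855a39162901d61], [nat_lit 65536, nat_lit 81920, nat_lit 94208, nat_lit 98304, nat_lit 167168, nat_lit 160640, nat_lit 159616, nat_lit 154784, nat_lit 150496, nat_lit 144448, nat_lit 141708, nat_lit 136762, nat_lit 135105, nat_lit 344, nat_lit 4872, nat_lit 11992, nat_lit 14080, nat_lit 19424, nat_lit 23360, nat_lit 26112, nat_lit 29696, nat_lit 33280, nat_lit 37888, nat_lit 46039, nat_lit 41121, nat_lit 37360, nat_lit 32830, nat_lit 28733, nat_lit 25088, nat_lit 20544, nat_lit 16393, nat_lit 12310, nat_lit 8203, nat_lit 4105, nat_lit 8, nat_lit 438281, nat_lit 425991, nat_lit 417797, nat_lit 409602, nat_lit 397312, nat_lit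 169984, nat_lit 166400, nat_lit 160000, nat_lit 156160, nat_lit 154368, nat_lit 147840, nat_lit 142112, nat_lit 137364, nat_lit 131138, nat_lit 40961, nat_lit 12289, nat_lit 327680]⟩)))
 (.node (nat_lit 470) (.node (nat_lit 469) (.leaf ndMr8_40)
 (.leaf ⟨[nat_lit 0xa36acc28a56ac00768c2b510ccba1f472671, nat_lit 0xccc3c632085bb472a38518580f0b2b3524eb, nat_lit 0x635f3f3bd63ac52890814515c135c90b3593, nat_lit 0x18421d14570a164c7b543b243539900bcc8e], [nat_lit 69632, nat_lit 73728, nat_lit 77824, nat_lit 81920, nat_lit 98304, nat_lit 102400, nat_lit 106496, nat_lit 178176, nat_lit 174080, nat_lit 168960, nat_lit 166144, nat_lit 162176, nat_lit 156224, nat_lit 154784, nat_lit 150576, nat_lit 143848, nat_lit 139756, nat_lit 138558, nat_lit 134209, nat_lit 1500, nat_lit 5212, nat_lit 10112, nat_lit 13200, nat_lit 17504, nat_lit 20544, nat_lit 26880, nat_lit 30208, nat_lit 34304, nat_lit 38912, nat_lit 46146, nat_lit 43794, nat_lit 38027, nat_lit 33317, nat_lit 28984, nat_lit 24636, nat_lit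 20571, nat_lit 16390, nat_lit 12291, nat_lit 8208, nat_lit 8, nat_lit 430088, nat_lit 421894, nat_lit 413700, nat_lit 405506, nat_lit 397312, nat_lit 164352, nat_lit 152256, nat_lit 147808, nat_lit 143888, nat_lit 140240, nat_lit 135928, nat_lit 131346, nat_lit 45121, nat_lit 41833]⟩))
 (.node (nat_lit 471) (.leaf ndMr8_21)
 (.leaf ⟨[nat_lit 0xffaa39b341193aa19c0ab322f4488e3611ea, nat_lit 0xe1474e1464622563ac14e03da5a04f6bb113, nat_lit 0x47842230d4c99cb7b3dd010291ac90969161, nat_lit 0x2ed784bb8b4535072325300de6b057182455], [nat_lit 65536, nat_lit 73728, nat_lit 77824, nat_lit 81920, nat_lit 86016, nat_lit 94208, nat_lit 106496, nat_lit 110592, nat_lit 173056, nat_lit 169984, nat_lit 165120, nat_lit 162176, nat_lit 158400, nat_lit 154144, nat_lit 151184, nat_lit 145936, nat_lit 142276, nat_lit 138490, nat_lit 133773, nat_lit 1586, nat_lit 6024, nat_lit 11368, nat_lit 15456, nat_lit 17632, nat_lit 23616, nat_lit 27648, nat_lit 32512, nat_lit 46908, nat_lit 43209, nat_lit 37315, nat_lit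 33447, nat_lit 29249, nat_lit 24837, nat_lit 20563, nat_lit 16417, nat_lit 12291, nat_lit 8451, nat_lit 4, nat_lit 438282, nat_lit 430088, nat_lit 421894, nat_lit 413700, nat_lit 405506, nat_lit 397312, nat_lit 174080, nat_lit 168960, nat_lit 166912, nat_lit 163072, nat_lit 159360, nat_lit 152832, nat_lit 148512, nat_lit 145056, nat_lit 143232, nat_lit 138480, nat_lit 132628, nat_lit 327680]⟩))))

theorem dcME58_ok : dcME58.all (elB (nat_lit 0)) = true := by decide +kernel

def dcME59 : BT El := (.node (nat_lit 476) (.node (nat_lit 474) (.node (nat_lit 473) (.leaf ndMr8_52)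
 (.leaf ⟨[nat_lit 0x77ebe8706cc012865a2a384ae26ccaa3a5f1, nat_lit 0x21d78b9bca7bd9d0545a913241054cba1068, nat_lit 0xaa6a088dc74dca47cc46ab1aa84acb05028, nat_lit 0xc0f9599128f2acc16810e9aa2281d964dc75], [nat_lit 65536, nat_lit 73728, nat_lit 81920, nat_lit 178176, nat_lit 173056, nat_lit 168960, nat_lit 164096, nat_lit 163200, nat_lit 157632, nat_lit 155584, nat_lit 149680, nat_lit 145952, nat_lit 141604, nat_lit 136104, nat_lit 131950, nat_lit 1490, nat_lit 5488, nat_lit 10464, nat_lit 16272, nat_lit 18656, nat_lit 22720, nat_lit 29696, nat_lit 33280, nat_lit 37888, nat_lit 46341, nat_lit 43226, nat_lit 37248, nat_lit 33396, nat_lit 24607, nat_lit 20505, nat_lit 16418, nat_lit 12310, nat_lit 8201, nat_lit 4112, nat_lit 438282, nat_lit 430088, nat_lit 421894, nat_lit 413700, nat_lit 405506, nat_lit 397312, nat_lit 169984, nat_lit 160256, nat_lit 156416, nat_lit 152064, nat_lit 147968, nat_lit 144848, nat_lit 139760, nat_lit 136036, nat_lit 131296, nat_lit 327680]⟩))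
 (.node (nat_lit 475) (.leaf ndMr9_0)
 (.leaf ⟨[nat_lit 0x33cc36a3d63b40b59a4ca0a1b7380522322e, nat_lit 0xfc90568518f02ccd10ef38aaa92850e39256, nat_lit 0x4db4e1a18959c1cf524418b24d580682dec7], [nat_lit 73728, nat_lit 81920, nat_lit 86016, nat_lit 98304, nat_lit 106496, nat_lit 178176, nat_lit 173056, nat_lit 171520, nat_lit 166400, nat_lit 163456, nat_lit 155968, nat_lit 155584, nat_lit 149568, nat_lit 144904, nat_lit 141288, nat_lit 136260, nat_lit 132222, nat_lit 314, nat_lit 6860, nat_lit 10912, nat_lit 13440, nat_lit 18528, nat_lit 23808, nat_lit 26496, nat_lit 31488, nat_lit 33280, nat_lit 43008, nat_lit 46218, nat_lit 43414, nat_lit 36990, nat_lit 33935, nat_lit 28724, nat_lit 24630, nat_lit 20482, nat_lit 16452, nat_lit 8258, nat_lit 4113, nat_lit 421894, nat_lit 413700, nat_lit 405506, nat_lit 397312, nat_lit 155776, nat_lit 151616, nat_lit 147520, nat_lit 143504, nat_lit 139320, nat_lit 135392, nat_lit 131254, nat_lit 45062, nat_lit 41045, nat_lit 36934, nat_lit 32877]⟩)))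
 (.node (nat_lit 478) (.node (nat_lit 477) (.leaf ndMr9_1)
 (.leaf ⟨[nat_lit 0xaa9af5366e0b0b6340eb78c97120114cab4, nat_lit 0x787274a46cab9de39398831170155a598029, nat_lit 0xe2281834c62b258105d6d8b9e72d25582904, nat_lit 0x7b122d55c26ac59613e434266d8388559e80], [nat_lit 69632, nat_lit 73728, nat_lit 81920, nat_lit 86016, nat_lit 94208, nat_lit 106496, nat_lit 110592, nat_lit 174080, nat_lit 165120, nat_lit 162176, nat_lit 157568, nat_lit 152160, nat_lit 148768, nat_lit 145424, nat_lit 141520, nat_lit 137622, nat_lit 134935, nat_lit 3944, nat_lit 7324, nat_lit 11112, nat_lit 13152, nat_lit 20000, nat_lit 23680, nat_lit 28544, nat_lit 30976, nat_lit 35328, nat_lit 38912, nat_lit 43008, nat_lit 47049, nat_lit 43802, nat_lit 39335, nat_lit 32959, nat_lit 28701, nat_lit 25137, nat_lit 20767, nat_lit 16460, nat_lit 12292, nat_lit 8200, nat_lit 16, nat_lit 438282, nat_lit 430088, nat_lit 421894, nat_lit 413700, nat_lit 405506, nat_lit 397312, nat_lit 167424, nat_lit 158848, nat_lit 155008,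 nat_lit 148128, nat_lit 145008, nat_lit 139968, nat_lit 135420, nat_lit 132234]⟩))
 (.node (nat_lit 479) (.leaf ndMr9_2)
 (.leaf ⟨[nat_lit 0xfc359fadc4f3b4650b1095c68674c1281156, nat_lit 0x6f95af730140d8c46c5253cd4f40aeb1d612, nat_lit 0x33990f70865a1d96882ab3292d7ca04b8668, nat_lit 0x7281edbd5a50a2d02312a11c6fa017233a71], [nat_lit 69632, nat_lit 77824, nat_lit 86016, nat_lit 90112, nat_lit 106496, nat_lit 110592, nat_lit 178176, nat_lit 175104, nat_lit 168960, nat_lit 166656, nat_lit 163712, nat_lit 157312, nat_lit 155392, nat_lit 150848, nat_lit 144720, nat_lit 140488, nat_lit 138584, nat_lit 133676, nat_lit 2558, nat_lit 5016, nat_lit 9512, nat_lit 13648, nat_lit 19680, nat_lit 23872, nat_lit 25856, nat_lit 28928, nat_lit 34304, nat_lit 38912, nat_lit 45664, nat_lit 41895, nat_lit 37306, nat_lit 32992, nat_lit 28761, nat_lit 24712, nat_lit 20748, nat_lit 16451, nat_lit 12325, nat_lit 8194, nat_lit 4100, nat_lit 8, nat_lit 438282, nat_lit 425990, nat_lit 413700, nat_lit 405506,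 nat_lit 397312, nat_lit 166912, nat_lit 156672, nat_lit 154624, nat_lit 149792, nat_lit 145520, nat_lit 142448, nat_lit 138256, nat_lit 132218, nat_lit 37204, nat_lit 28729, nat_lit 327680]⟩))))

theorem dcME59_ok : dcME59.all (elB (nat_lit 0)) = true := by decide +kernel

def dcME60 : BT El := (.node (nat_lit 484) (.node (nat_lit 482) (.node (nat_lit 481) (.leaf ndMr9_3)
 (.leaf ⟨[nat_lit 0x7ed2ee19a07a4ec05442922df713592a950e, nat_lit 0x7eb48240492bcdf0019516d5691d1822bac7, nat_lit 0xf6c90963ef182ec89028168d261154ea9c93, nat_lit 0x9500aa0a4d42cdc75c58883ed700e4da888a], [nat_lit 73728, nat_lit 77824, nat_lit 81920, nat_lit 86016, nat_lit 90112, nat_lit 94208, nat_lit 98304, nat_lit 106496, nat_lit 178176, nat_lit 168448, nat_lit 166400, nat_lit 157504, nat_lit 152576, nat_lit 149376, nat_lit 145296, nat_lit 141148, nat_lit 136990, nat_lit 131233, nat_lit 1870, nat_lit 5756, nat_lit 10432, nat_lit 12384, nat_lit 18784, nat_lit 22784, nat_lit 26496, nat_lit 29440, nat_lit 35840, nat_lit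 37888, nat_lit 46868, nat_lit 41259, nat_lit 37262, nat_lit 32979, nat_lit 28680, nat_lit 24853, nat_lit 21509, nat_lit 16653, nat_lit 12307, nat_lit 8201, nat_lit 4113, nat_lit 434185, nat_lit 421894, nat_lit 413700, nat_lit 405506, nat_lit 397312, nat_lit 168960, nat_lit 161280, nat_lit 156800, nat_lit 148064, nat_lit 145056, nat_lit 139800, nat_lit 135720, nat_lit 132104, nat_lit 46193, nat_lit 32772, nat_lit 327680]⟩))
 (.node (nat_lit 483) (.leaf ndMr9_4)
 (.leaf ⟨[nat_lit 0x65005a00e2f4b95241057a36b33960c32c36, nat_lit 0x69aca610d52011b5798373a2254da149b98b, nat_lit 0x55a33aaa51273ed02dcf33306aa44400ada4, nat_lit 0xe148be78c36881669ba544b6aa3a050616e4], [nat_lit 65536, nat_lit 69632, nat_lit 73728, nat_lit 86016, nat_lit 90112, nat_lit 94208, nat_lit 98304, nat_lit 106496, nat_lit 171008, nat_lit 164352, nat_lit 158080, nat_lit 154016, nat_lit 150416, nat_lit 145896, nat_lit 143256, nat_lit 138270, nat_lit 134193, nat_lit 2654, nat_lit 7472, nat_lit 11472, nat_lit 12976, nat_lit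 17728, nat_lit 24256, nat_lit 25472, nat_lit 33280, nat_lit 39936, nat_lit 43008, nat_lit 46258, nat_lit 41405, nat_lit 37026, nat_lit 33987, nat_lit 29291, nat_lit 24761, nat_lit 16392, nat_lit 12304, nat_lit 8451, nat_lit 4353, nat_lit 430088, nat_lit 421894, nat_lit 413700, nat_lit 405506, nat_lit 397312, nat_lit 164352, nat_lit 156416, nat_lit 151872, nat_lit 147968, nat_lit 143968, nat_lit 139520, nat_lit 136016, nat_lit 131346, nat_lit 45541, nat_lit 41561]⟩)))
 (.node (nat_lit 486) (.node (nat_lit 485) (.leaf ndMr9_5)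
 (.leaf ⟨[nat_lit 0x81b47d412b331581b8a8d70e515c2c74a9e0, nat_lit 0x53cf0a6861375c1462c48544953a65630de5, nat_lit 0x742e8798223b31d76d5f40c8503ad442a4c8], [nat_lit 69632, nat_lit 73728, nat_lit 77824, nat_lit 86016, nat_lit 106496, nat_lit 175104, nat_lit 171008, nat_lit 167680, nat_lit 161536, nat_lit 159232, nat_lit 148816, nat_lit 146544, nat_lit 142852, nat_lit 137404, nat_lit 132430, nat_lit 1288, nat_lit 6516, nat_lit 10432, nat_lit 15792, nat_lit 18080, nat_lit 23040, nat_lit 28416, nat_lit 29184, nat_lit 36352, nat_lit 37888, nat_lit 43008, nat_lit 45195, nat_lit 41799, nat_lit 38100, nat_lit 32815, nat_lit 28695, nat_lit 24590, nat_lit 20498, nat_lit 16393, nat_lit 12294, nat_lit 4105, nat_lit 2, nat_lit 425991, nat_lit 417797, nat_lit 409602, nat_lit 397312, nat_lit 160000, nat_lit 156032, nat_lit 147712, nat_lit 139712, nat_lit 135204, nat_lit 131152, nat_lit 45206, nat_lit 40979, nat_lit 37014, nat_lit 12295]⟩))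
 (.node (nat_lit 487) (.leaf ndMr9_6)
 (.leaf ⟨[nat_lit 0x1e7beb5a2a67a830bb1a748a6eb163220e80, nat_lit 0xd2472d71a93385258824b792b055ec2621a3, nat_lit 0xded774b04098146e322a7bb16d9aa341124f, nat_lit 0x96c5c5ad062521cf4b1ab0dec081e242ca66], [nat_lit 73728, nat_lit 77824, nat_lit 81920, nat_lit 90112, nat_lit 98304, nat_lit 178176, nat_lit 175104, nat_lit 170496, nat_lit 164352, nat_lit 160896, nat_lit 157504, nat_lit 152384, nat_lit 150496, nat_lit 144240, nat_lit 141148, nat_lit 135254, nat_lit 134905, nat_lit 3302, nat_lit 6296, nat_lit 10944, nat_lit 14848, nat_lit 18880, nat_lit 21632, nat_lit 25216, nat_lit 32256, nat_lit 36352, nat_lit 37888, nat_lit 46382, nat_lit 43595, nat_lit 36895, nat_lit 32980, nat_lit 28968, nat_lit 24715, nat_lit 20510, nat_lit 16393, nat_lit 12310, nat_lit 8193, nat_lit 4105, nat_lit 438282, nat_lit 430088, nat_lit 421894, nat_lit 413700, nat_lit 405506, nat_lit 397312, nat_lit 174080, nat_lit 169984, nat_lit 164864, nat_lit 162048, nat_lit 157568,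 nat_lit 153600, nat_lit 147744, nat_lit 143792, nat_lit 141040, nat_lit 137300, nat_lit 133462, nat_lit 327680]⟩))))

theorem dcME60_ok : dcME60.all (elB (nat_lit 0)) = true := by decide +kernel

def dcME61 : BT El := (.node (nat_lit 492) (.node (nat_lit 490) (.node (nat_lit 489) (.leaf ndMr9_7)
 (.leaf ⟨[nat_lit 0x8db247336c0a9583446f49a5ee1283022cf2, nat_lit 0xb142dba493540a206ba6a3997025de3604b6, nat_lit 0xd84444b1a6ea9e4c6812f442212ac64a5c4a], [nat_lit 65536, nat_lit 69632, nat_lit 73728, nat_lit 77824, nat_lit 86016, nat_lit 110592, nat_lit 178176, nat_lit 174080, nat_lit 171520, nat_lit 164352, nat_lit 163712, nat_lit 155712, nat_lit 151776, nat_lit 150752, nat_lit 144016, nat_lit 140004, nat_lit 136946, nat_lit 133679, nat_lit 394, nat_lit 6824, nat_lit 10504, nat_lit 15888, nat_lit 16832, nat_lit 22528, nat_lit 27264, nat_lit 30208, nat_lit 33280, nat_lit 37888, nat_lit 43008, nat_lit 46760, nat_lit 43733, nat_lit 39226, nat_lit 32904, nat_lit 28967, nat_lit 24616, nat_lit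 20557, nat_lit 16904, nat_lit 12304, nat_lit 32, nat_lit 421894, nat_lit 413700, nat_lit 405506, nat_lit 397312, nat_lit 147616, nat_lit 143568, nat_lit 139472, nat_lit 135380, nat_lit 131134, nat_lit 45068, nat_lit 40973, nat_lit 36923, nat_lit 32786, nat_lit 327680]⟩))
 (.node (nat_lit 491) (.leaf ndMr9_8)
 (.leaf ⟨[nat_lit 0xfa95fabca144258d218025b94f284679d6d1, nat_lit 0x77e4e715d347b54065a249c9613a0c3a95d0, nat_lit 0x417e717447060909786b79a8b43aed2200cd], [nat_lit 65536, nat_lit 69632, nat_lit 73728, nat_lit 86016, nat_lit 98304, nat_lit 102400, nat_lit 106496, nat_lit 110592, nat_lit 178176, nat_lit 168448, nat_lit 167680, nat_lit 161792, nat_lit 157696, nat_lit 155072, nat_lit 150080, nat_lit 145384, nat_lit 141276, nat_lit 135276, nat_lit 134245, nat_lit 2226, nat_lit 7844, nat_lit 9376, nat_lit 15040, nat_lit 20128, nat_lit 22016, nat_lit 27904, nat_lit 29952, nat_lit 33280, nat_lit 38912, nat_lit 46981, nat_lit 43321, nat_lit 37218, nat_lit 33377, nat_lit 28741, nat_lit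 24742, nat_lit 20501, nat_lit 16422, nat_lit 12289, nat_lit 8193, nat_lit 4097, nat_lit 434182, nat_lit 413700, nat_lit 405506, nat_lit 397312, nat_lit 156672, nat_lit 152640, nat_lit 148512, nat_lit 144496, nat_lit 140408, nat_lit 135260, nat_lit 131110, nat_lit 45066, nat_lit 36928, nat_lit 32851, nat_lit 28761]⟩)))
 (.node (nat_lit 494) (.node (nat_lit 493) (.leaf ndMr9_9)
 (.leaf ⟨[nat_lit 0xf9a09a48da7046c25aa577520f0950c25666, nat_lit 0xbdbb1e1260c795b65dcca9d6441a1d1a04e0, nat_lit 0xed7d2e431623146f3a6d2702979b601a922a, nat_lit 0xb44eb220e77b0a47535ee34434854a062d09], [nat_lit 65536, nat_lit 73728, nat_lit 77824, nat_lit 86016, nat_lit 106496, nat_lit 178176, nat_lit 169984, nat_lit 167424, nat_lit 162432, nat_lit 159488, nat_lit 151776, nat_lit 151488, nat_lit 145992, nat_lit 141244, nat_lit 138648, nat_lit 133048, nat_lit 860, nat_lit 6112, nat_lit 8752, nat_lit 14448, nat_lit 19200, nat_lit 21696, nat_lit 27648, nat_lit 31232, nat_lit 43008, nat_lit 46732, nat_lit 43640,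 nat_lit 39421, nat_lit 32993, nat_lit 28939, nat_lit 24706, nat_lit 20552, nat_lit 16396, nat_lit 8211, nat_lit 4097, nat_lit 2, nat_lit 438282, nat_lit 430088, nat_lit 421894, nat_lit 413700, nat_lit 405506, nat_lit 397312, nat_lit 152832, nat_lit 149056, nat_lit 143872, nat_lit 140288, nat_lit 135956, nat_lit 131076]⟩))
 (.node (nat_lit 495) (.leaf ndMr9_10)
 (.leaf ⟨[nat_lit 0x8d81125b4c890a8a654f7891f3b2603285c0, nat_lit 0x65a56c29e93ab1b03382900a374106fb2a4b, nat_lit 0xded8840ae26ab8e42a853bc24db3c0362289, nat_lit 0x4edbb752c692b2d17121599a8f91db70a040], [nat_lit 69632, nat_lit 77824, nat_lit 81920, nat_lit 102400, nat_lit 106496, nat_lit 169472, nat_lit 164608, nat_lit 163584, nat_lit 158144, nat_lit 152672, nat_lit 148272, nat_lit 144952, nat_lit 139444, nat_lit 136056, nat_lit 133554, nat_lit 2428, nat_lit 6524, nat_lit 10328, nat_lit 13264, nat_lit 18496, nat_lit 22400, nat_lit 24832, nat_lit 30720, nat_lit 36352, nat_lit 37888, nat_lit 46350, nat_lit 41786, nat_lit 36987,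 nat_lit 32998, nat_lit 29001, nat_lit 24604, nat_lit 20638, nat_lit 16386, nat_lit 12359, nat_lit 8257, nat_lit 4097, nat_lit 2, nat_lit 438282, nat_lit 430087, nat_lit 417797, nat_lit 409603, nat_lit 401408, nat_lit 174080, nat_lit 171008, nat_lit 162816, nat_lit 159232, nat_lit 153152, nat_lit 150624, nat_lit 146976, nat_lit 139384, nat_lit 132752, nat_lit 33004, nat_lit 4097]⟩))))

theorem dcME61_ok : dcME61.all (elB (nat_lit 0)) = true := by decide +kernel

def dcME62 : BT El := (.node (nat_lit 500) (.node (nat_lit 498) (.node (nat_lit 497) (.leaf ndMr9_11)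
 (.leaf ⟨[nat_lit 0x650faa54177434040da63a49cf49982a9cb1, nat_lit 0x50363f55e6f0d4b459d02235c334011b3249, nat_lit 0x24e8b701e4bb34c4884a9a086f84eec43955, nat_lit 0xc5c66512a240153093e741b83642d95b98ed], [nat_lit 65536, nat_lit 69632, nat_lit 73728, nat_lit 81920, nat_lit 86016, nat_lit 106496, nat_lit 178176, nat_lit 173056, nat_lit 169472, nat_lit 165120, nat_lit 162176, nat_lit 158976, nat_lit 154336, nat_lit 148512, nat_lit 146736, nat_lit 139860, nat_lit 136126, nat_lit 133618, nat_lit 3368, nat_lit 6032, nat_lit 8832, nat_lit 14352, nat_lit 19456, nat_lit 22016, nat_lit 29184, nat_lit 35840, nat_lit 39936, nat_lit 46336, nat_lit 41456, nat_lit 36933, nat_lit 33908, nat_lit 28790, nat_lit 24759, nat_lit 20614, nat_lit 16397, nat_lit 12310, nat_lit 8193, nat_lit 4104, nat_lit 2, nat_lit 434184, nat_lit 421894, nat_lit 413700, nat_lit 405506, nat_lit 397312, nat_lit 155904, nat_lit 144640, nat_lit 139368, nat_lit 135612, nat_lit 131328, nat_lit 46303, nat_lit 36988]⟩))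
 (.node (nat_lit 499) (.leaf ndMr9_12)
 (.leaf ⟨[nat_lit 0xac653353d286ad8eb8e0589ac220275a1c32, nat_lit 0xcc69ffba2115d9eca082a226a6714129b467, nat_lit 0x3ff6565dcf335a29049901d5d4429e2090ad, nat_lit 0x5a95f4ae8e3895140cb2832d3782a169897], [nat_lit 77824, nat_lit 90112, nat_lit 94208, nat_lit 98304, nat_lit 106496, nat_lit 178176, nat_lit 174080, nat_lit 171520, nat_lit 167168, nat_lit 158272, nat_lit 153600, nat_lit 149184, nat_lit 146032, nat_lit 141048, nat_lit 135672, nat_lit 134124, nat_lit 492, nat_lit 6048, nat_lit 10448, nat_lit 14784, nat_lit 20672, nat_lit 25600, nat_lit 28928, nat_lit 34816, nat_lit 37888, nat_lit 46572, nat_lit 41414, nat_lit 36938, nat_lit 33945, nat_lit 24585, nat_lit 22532, nat_lit 12321, nat_lit 8451, nat_lit 4352, nat_lit 430088, nat_lit 421894, nat_lit 413700, nat_lit 405506, nat_lit 397312, nat_lit 155904, nat_lit 152256, nat_lit 147968, nat_lit 144208, nat_lit 139784, nat_lit 136020, nat_lit 131330, nat_lit 45753, nat_lit 41077]⟩)))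
 (.node (nat_lit 502) (.node (nat_lit 501) (.leaf ndMr9_13)
 (.leaf ⟨[nat_lit 0xbbe47b796d063522ad06b9062a220063ba77, nat_lit 0xff8d025054d0b3aeb230ea7a4439b512, nat_lit 0xf0f398116cc2c5a0502b956acae3225f4, nat_lit 0xc5f53090a0b64685025ae09c8a1a2f57da66], [nat_lit 65536, nat_lit 69632, nat_lit 86016, nat_lit 90112, nat_lit 94208, nat_lit 110592, nat_lit 178176, nat_lit 171008, nat_lit 166400, nat_lit 162944, nat_lit 159232, nat_lit 154496, nat_lit 149744, nat_lit 146968, nat_lit 143336, nat_lit 135252, nat_lit 133379, nat_lit 550, nat_lit 6596, nat_lit 9752, nat_lit 14672, nat_lit 19456, nat_lit 22592, nat_lit 24704, nat_lit 32512, nat_lit 37888, nat_lit 46389, nat_lit 43415, nat_lit 37030, nat_lit 34972, nat_lit 28969, nat_lit 24583, nat_lit 20740, nat_lit 18440, nat_lit 12304, nat_lit 8194, nat_lit 8, nat_lit 434184, nat_lit 421894, nat_lit 413700, nat_lit 405506, nat_lit 397312, nat_lit 164864, nat_lit 160768, nat_lit 151616, nat_lit 147904, nat_lit 144752, nat_lit 140360, nat_lit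 135528, nat_lit 132584, nat_lit 45136, nat_lit 36880, nat_lit 327680]⟩))
 (.node (nat_lit 503) (.leaf ndMr9_14)
 (.leaf ⟨[nat_lit 0x66353a8b8f792a617ada02246545456a3206, nat_lit 0x393f50b95476b914846ab33073249e015829, nat_lit 0xf9af957166ab302d4ac177a0d2a88e48c074], [nat_lit 69632, nat_lit 73728, nat_lit 77824, nat_lit 81920, nat_lit 90112, nat_lit 110592, nat_lit 175104, nat_lit 171008, nat_lit 166400, nat_lit 163328, nat_lit 158336, nat_lit 152256, nat_lit 150320, nat_lit 145200, nat_lit 140300, nat_lit 136334, nat_lit 131474, nat_lit 2972, nat_lit 6204, nat_lit 9112, nat_lit 14848, nat_lit 20288, nat_lit 20736, nat_lit 27264, nat_lit 29440, nat_lit 34816, nat_lit 43008, nat_lit 45741, nat_lit 41308, nat_lit 39023, nat_lit 33870, nat_lit 28794, nat_lit 24627, nat_lit 20559, nat_lit 16391, nat_lit 12295, nat_lit 8194, nat_lit 438280, nat_lit 421893, nat_lit 409602, nat_lit 397312, nat_lit 135552, nat_lit 133298, nat_lit 41377, nat_lit 36866, nat_lit 12292, nat_lit 327680]⟩))))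

theorem dcME62_ok : dcME62.all (elB (nat_lit 0)) = true := by decide +kernel

def dcME63 : BT El := (.node (nat_lit 508) (.node (nat_lit 506) (.node (nat_lit 505) (.leaf ndMr9_15)
 (.leaf ⟨[nat_lit 0x5ffa9a6aa163040292d95194e443e934ddd1, nat_lit 0xc009a93aa8c1ae08204b17826eacae2359a9, nat_lit 0xb2d272740a6ba8813a2a3608134bd71b3654, nat_lit 0x6390950c817d010331ab94d25746c2aa0f7], [nat_lit 65536, nat_lit 77824, nat_lit 81920, nat_lit 86016, nat_lit 90112, nat_lit 94208, nat_lit 106496, nat_lit 110592, nat_lit 178176, nat_lit 173056, nat_lit 171008, nat_lit 164608, nat_lit 159872, nat_lit 157312, nat_lit 151904, nat_lit 148080, nat_lit 146696, nat_lit 139940, nat_lit 137562, nat_lit 131999, nat_lit 2278, nat_lit 7492, nat_lit 8800, nat_lit 12752, nat_lit 18144, nat_lit 22016, nat_lit 26880, nat_lit 32000, nat_lit 35328, nat_lit 39936, nat_lit 46186, nat_lit 43712, nat_lit 37252, nat_lit 32810, nat_lit 29232, nat_lit 24587, nat_lit 20621, nat_lit 16419, nat_lit 12293, nat_lit 8195,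 nat_lit 4101, nat_lit 4, nat_lit 438282, nat_lit 430088, nat_lit 421894, nat_lit 413700, nat_lit 405506, nat_lit 397312, nat_lit 174080, nat_lit 168960, nat_lit 164352, nat_lit 160000, nat_lit 159232, nat_lit 152768, nat_lit 150784, nat_lit 146928, nat_lit 142112, nat_lit 139092, nat_lit 133162, nat_lit 327680]⟩))
 (.node (nat_lit 507) (.leaf ndMr9_16)
 (.leaf ⟨[nat_lit 0xa60f39410f472595804cd1ccaf028568ae57, nat_lit 0x41d448059f10ac662dd356114d91e68a41c2, nat_lit 0xfaf396511606493498e27ba1b0a96c17b8c2], [nat_lit 65536, nat_lit 69632, nat_lit 73728, nat_lit 90112, nat_lit 98304, nat_lit 102400, nat_lit 175104, nat_lit 168448, nat_lit 166144, nat_lit 162304, nat_lit 159040, nat_lit 151968, nat_lit 150448, nat_lit 143944, nat_lit 139848, nat_lit 137856, nat_lit 132396, nat_lit 4012, nat_lit 4792, nat_lit 8880, nat_lit 16336, nat_lit 16768, nat_lit 22528, nat_lit 28032, nat_lit 30976, nat_lit 34816, nat_lit 46890, nat_lit 43633, nat_lit 37211, nat_lit 33003, nat_lit 28673, nat_lit 24833,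 nat_lit 20559, nat_lit 16911, nat_lit 12295, nat_lit 4097, nat_lit 421894, nat_lit 413700, nat_lit 405506, nat_lit 397312, nat_lit 151616, nat_lit 143456, nat_lit 139392, nat_lit 135180, nat_lit 131118, nat_lit 45296, nat_lit 41166, nat_lit 36939]⟩)))
 (.node (nat_lit 510) (.node (nat_lit 509) (.leaf ndMr9_17)
 (.leaf ⟨[nat_lit 0x2d21417a66100cf72d90b611b4aca26809ca, nat_lit 0x2e277408ac66a8105a0977d5c560e6994687, nat_lit 0xf335901b9859a5f55de0d3063238a9652004, nat_lit 0x7dbdb8a59d19b487596e119aa95324883c02], [nat_lit 65536, nat_lit 98304, nat_lit 106496, nat_lit 173056, nat_lit 169984, nat_lit 165120, nat_lit 162432, nat_lit 156160, nat_lit 152672, nat_lit 150496, nat_lit 145112, nat_lit 140036, nat_lit 136884, nat_lit 133850, nat_lit 1634, nat_lit 7416, nat_lit 8608, nat_lit 13120, nat_lit 18464, nat_lit 21312, nat_lit 26752, nat_lit 31744, nat_lit 33280, nat_lit 38912, nat_lit 43008, nat_lit 45252, nat_lit 41476, nat_lit 36903, nat_lit 32840, nat_lit 28752, nat_lit 24744, nat_lit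 20491, nat_lit 16399, nat_lit 12305, nat_lit 8202, nat_lit 4097, nat_lit 2, nat_lit 438282, nat_lit 430087, nat_lit 417796, nat_lit 405506, nat_lit 397312, nat_lit 163328, nat_lit 158208, nat_lit 150528, nat_lit 144592, nat_lit 139456, nat_lit 135772, nat_lit 134222, nat_lit 32770, nat_lit 20510]⟩))
 (.node (nat_lit 511) (.leaf ndMr9_18)
 (.leaf ⟨[nat_lit 0x6a99c6bc8ce29c4b8266340695b3c9163540, nat_lit 0xbddd72151832d9c7bce0f249018980a6d52b, nat_lit 0x3f539f481030896a9c4c5bd5aeb328f91207], [nat_lit 65536, nat_lit 69632, nat_lit 77824, nat_lit 81920, nat_lit 90112, nat_lit 98304, nat_lit 178176, nat_lit 175104, nat_lit 167680, nat_lit 161920, nat_lit 156032, nat_lit 150848, nat_lit 144008, nat_lit 143356, nat_lit 138200, nat_lit 133992, nat_lit 364, nat_lit 5208, nat_lit 11832, nat_lit 16240, nat_lit 16608, nat_lit 23488, nat_lit 27520, nat_lit 31488, nat_lit 35840, nat_lit 38912, nat_lit 43008, nat_lit 46432, nat_lit 43618, nat_lit 37359, nat_lit 32932, nat_lit 28725, nat_lit 25142,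 nat_lit 20509, nat_lit 16420, nat_lit 12307, nat_lit 8194, nat_lit 4100, nat_lit 16, nat_lit 425990, nat_lit 413700, nat_lit 405506, nat_lit 397312, nat_lit 151616, nat_lit 147808, nat_lit 143696, nat_lit 139320, nat_lit 135432, nat_lit 131394, nat_lit 45088, nat_lit 40976, nat_lit 37210, nat_lit 28758, nat_lit 327680]⟩))))

theorem dcME63_ok : dcME63.all (elB (nat_lit 0)) = true := by decide +kernel

def dcME64 : BT El := (.node (nat_lit 516) (.node (nat_lit 514) (.node (nat_lit 513) (.leaf ndMr9_19)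
 (.leaf ⟨[nat_lit 0x241847604e33568f435258126e92ac012e37, nat_lit 0x35c99a459b0890526380759869a4d4fa84b7, nat_lit 0x1b44d7904778a2c933c4a5808e9b2ad2d0f0, nat_lit 0xf63906b25749b99031440935f155ea838c24], [nat_lit 69632, nat_lit 81920, nat_lit 90112, nat_lit 94208, nat_lit 110592, nat_lit 178176, nat_lit 173056, nat_lit 167424, nat_lit 158272, nat_lit 154592, nat_lit 150480, nat_lit 145176, nat_lit 142692, nat_lit 136360, nat_lit 134115, nat_lit 1994, nat_lit 5028, nat_lit 10248, nat_lit 15200, nat_lit 17184, nat_lit 21632, nat_lit 25600, nat_lit 30720, nat_lit 35840, nat_lit 39936, nat_lit 43008, nat_lit 45312, nat_lit 41698, nat_lit 38006, nat_lit 34890, nat_lit 28781, nat_lit 24755, nat_lit 20498, nat_lit 16395, nat_lit 12295, nat_lit 8194, nat_lit 4101, nat_lit 2, nat_lit 430088, nat_lit 421894, nat_lit 413700, nat_lit 405506, nat_lit 397312, nat_lit 164352, nat_lit 156032, nat_lit 152448, nat_lit 148032, nat_lit 143920, nat_lit 140152, nat_lit 135516, nat_lit 45066, nat_lit 41910,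 nat_lit 327680]⟩))
 (.node (nat_lit 515) (.leaf ndMr9_20)
 (.leaf ⟨[nat_lit 0x6a556c1060c75af29b50ba00e923cd150cb5, nat_lit 0xca6c53b54527c46cbb4c9394107128b54d01, nat_lit 0x95ff55310538daa07a4b76ba41a30eb82868, nat_lit 0x1de44d9c282258a1aa80b920ee899a978eec], [nat_lit 65536, nat_lit 77824, nat_lit 81920, nat_lit 86016, nat_lit 98304, nat_lit 110592, nat_lit 175104, nat_lit 169472, nat_lit 164096, nat_lit 160896, nat_lit 155968, nat_lit 153728, nat_lit 148576, nat_lit 143840, nat_lit 142668, nat_lit 138798, nat_lit 132391, nat_lit 1842, nat_lit 7804, nat_lit 11120, nat_lit 14272, nat_lit 18176, nat_lit 22656, nat_lit 27008, nat_lit 29184, nat_lit 35840, nat_lit 43008, nat_lit 45773, nat_lit 41639, nat_lit 37137, nat_lit 33457, nat_lit 28934, nat_lit 26637, nat_lit 20481, nat_lit 16395, nat_lit 12294, nat_lit 8195, nat_lit 4101, nat_lit 4, nat_lit 438282, nat_lit 430088, nat_lit 421894, nat_lit 413700, nat_lit 405506, nat_lit 397312, nat_lit 168960, nat_lit 167424, nat_lit 161536,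 nat_lit 154496, nat_lit 150848, nat_lit 146960, nat_lit 142752, nat_lit 137872, nat_lit 133054, nat_lit 327680]⟩)))
 (.node (nat_lit 518) (.node (nat_lit 517) (.leaf ndMr9_21)
 (.leaf ⟨[nat_lit 0x9599c623972545a515696b84609bce933208, nat_lit 0x47de145ce4eba2cd30234096151a84c224ef, nat_lit 0x99a3590b98b0460abbe6622445456c33d1b2, nat_lit 0x888d845017389c830b64fa0ab0bb8a9620d6], [nat_lit 69632, nat_lit 73728, nat_lit 81920, nat_lit 90112, nat_lit 94208, nat_lit 98304, nat_lit 102400, nat_lit 106496, nat_lit 178176, nat_lit 169472, nat_lit 164608, nat_lit 160896, nat_lit 159296, nat_lit 152608, nat_lit 148208, nat_lit 145480, nat_lit 142088, nat_lit 138012, nat_lit 133600, nat_lit 3544, nat_lit 5452, nat_lit 11976, nat_lit 14352, nat_lit 17664, nat_lit 22848, nat_lit 27520, nat_lit 32512, nat_lit 33792, nat_lit 39936, nat_lit 45869, nat_lit 41439, nat_lit 37201, nat_lit 32794, nat_lit 29724, nat_lit 24751, nat_lit 20550, nat_lit 16655, nat_lit 12323, nat_lit 8208, nat_lit 4129, nat_lit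 434185, nat_lit 421894, nat_lit 413700, nat_lit 405506, nat_lit 397312, nat_lit 153216, nat_lit 148576, nat_lit 143536, nat_lit 139808, nat_lit 135332, nat_lit 131314, nat_lit 45568, nat_lit 32986, nat_lit 327680]⟩))
 (.node (nat_lit 519) (.leaf ndMr9_22)
 (.leaf ⟨[nat_lit 0x399596b89079adeaac5d6815841d12668241, nat_lit 0xeb888d81193452202bd6a4caa235ecd3846e, nat_lit 0xb8b7881c0f51522493e6aba6cc299c86802b, nat_lit 0xd4b28eb1e81680af8554e9b11730a3259069], [nat_lit 65536, nat_lit 73728, nat_lit 77824, nat_lit 90112, nat_lit 94208, nat_lit 98304, nat_lit 102400, nat_lit 175104, nat_lit 164864, nat_lit 162944, nat_lit 158080, nat_lit 154720, nat_lit 150480, nat_lit 144112, nat_lit 139300, nat_lit 135808, nat_lit 134518, nat_lit 2916, nat_lit 4404, nat_lit 8448, nat_lit 14448, nat_lit 18016, nat_lit 24192, nat_lit 24960, nat_lit 31744, nat_lit 34816, nat_lit 39936, nat_lit 45447, nat_lit 41684, nat_lit 37237, nat_lit 33466, nat_lit 28682, nat_lit 24628, nat_lit 20570, nat_lit 16459, nat_lit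 12309, nat_lit 8208, nat_lit 438282, nat_lit 425991, nat_lit 413700, nat_lit 405506, nat_lit 397312, nat_lit 174080, nat_lit 160000, nat_lit 155008, nat_lit 150560, nat_lit 144400, nat_lit 139648, nat_lit 135588, nat_lit 134424, nat_lit 36868, nat_lit 24580, nat_lit 327680]⟩))))

theorem dcME64_ok : dcME64.all (elB (nat_lit 0)) = true := by decide +kernel

def dcME65 : BT El := (.node (nat_lit 524) (.node (nat_lit 522) (.node (nat_lit 521) (.leaf ndMr9_23)
 (.leaf ⟨[nat_lit 0x8db2b8bc608a044a38e6d25526b31eb71412, nat_lit 0xa6ffc908a64601572d2164a2276c8ce78eab, nat_lit 0xd21d1b9510105a0b18984696333a9e9bbaa6, nat_lit 0x90c096aa6c1380c81bdaa9168c5c222b926e], [nat_lit 90112, nat_lit 94208, nat_lit 174080, nat_lit 168448, nat_lit 166912, nat_lit 161280, nat_lit 156992, nat_lit 152736, nat_lit 148752, nat_lit 147064, nat_lit 141520, nat_lit 137468, nat_lit 133877, nat_lit 3608, nat_lit 7416, nat_lit 10208, nat_lit 12896, nat_lit 16704, nat_lit 21504, nat_lit 26240, nat_lit 28928, nat_lit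 35328, nat_lit 38912, nat_lit 43008, nat_lit 46209, nat_lit 44003, nat_lit 37087, nat_lit 32945, nat_lit 28741, nat_lit 24631, nat_lit 20495, nat_lit 16455, nat_lit 12289, nat_lit 8193, nat_lit 4097, nat_lit 438282, nat_lit 430088, nat_lit 421894, nat_lit 413700, nat_lit 405506, nat_lit 397312, nat_lit 168960, nat_lit 161024, nat_lit 159488, nat_lit 154944, nat_lit 148160, nat_lit 143472, nat_lit 140480, nat_lit 135616, nat_lit 131958]⟩))
 (.node (nat_lit 523) (.leaf ndMr9_24)
 (.leaf ⟨[nat_lit 0x7217717a8e385672131248daf40190d2b82b, nat_lit 0x30f956196304d5b23585720568780ec9b954, nat_lit 0xc03a03aae490a08d350f02bd42b026363a37, nat_lit 0xbb8d18a3d280307622e02696a69c6ee3a832], [nat_lit 69632, nat_lit 73728, nat_lit 86016, nat_lit 94208, nat_lit 106496, nat_lit 110592, nat_lit 178176, nat_lit 173056, nat_lit 169472, nat_lit 162816, nat_lit 158336, nat_lit 153664, nat_lit 150880, nat_lit 145496, nat_lit 141432, nat_lit 135588, nat_lit 133204, nat_lit 1740, nat_lit 7676, nat_lit 10952,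 nat_lit 14608, nat_lit 18368, nat_lit 23808, nat_lit 24704, nat_lit 30208, nat_lit 39936, nat_lit 43008, nat_lit 47003, nat_lit 43824, nat_lit 37016, nat_lit 35027, nat_lit 29244, nat_lit 24844, nat_lit 20500, nat_lit 16426, nat_lit 12304, nat_lit 4105, nat_lit 2, nat_lit 430088, nat_lit 421894, nat_lit 413700, nat_lit 405506, nat_lit 397312, nat_lit 164352, nat_lit 155904, nat_lit 152192, nat_lit 147616, nat_lit 144224, nat_lit 140168, nat_lit 135976, nat_lit 131124, nat_lit 45886, nat_lit 41558]⟩)))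
 (.node (nat_lit 526) (.node (nat_lit 525) (.leaf ndMr9_25)
 (.leaf ⟨[nat_lit 0xf3a3f36c8cabb00e811e91510b386a58d873, nat_lit 0xdb2b1259de3515c135e04aa51104a8263676, nat_lit 0xc9f562c2370490e30ac33ad5598589a3c8d], [nat_lit 65536, nat_lit 77824, nat_lit 81920, nat_lit 86016, nat_lit 90112, nat_lit 94208, nat_lit 98304, nat_lit 102400, nat_lit 110592, nat_lit 174080, nat_lit 168960, nat_lit 167424, nat_lit 155840, nat_lit 154560, nat_lit 150944, nat_lit 147064, nat_lit 140252, nat_lit 139170, nat_lit 132414, nat_lit 3292, nat_lit 7572, nat_lit 11256, nat_lit 13920, nat_lit 18400, nat_lit 21504, nat_lit 27520, nat_lit 31488, nat_lit 33792, nat_lit 45700, nat_lit 41942, nat_lit 37940, nat_lit 32823, nat_lit 29288, nat_lit 24578, nat_lit 20738, nat_lit 16431, nat_lit 8224, nat_lit 4113, nat_lit 2, nat_lit 425990, nat_lit 413700, nat_lit 405506, nat_lit 397312, nat_lit 151616, nat_lit 147520, nat_lit 143680, nat_lit 139368, nat_lit 135176, nat_lit 131344, nat_lit 45121, nat_lit 41235,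 nat_lit 37149, nat_lit 28741]⟩))
 (.node (nat_lit 527) (.leaf ndMr9_26)
 (.leaf ⟨[nat_lit 0xdbe84882acb6c9959847771448252267a407, nat_lit 0xaf9cf951c445c241b99b1716b3022967a46c, nat_lit 0x47842252dcd43d2c1543734cf021632b0c14], [nat_lit 65536, nat_lit 73728, nat_lit 102400, nat_lit 110592, nat_lit 178176, nat_lit 166144, nat_lit 160256, nat_lit 155904, nat_lit 153920, nat_lit 149424, nat_lit 145160, nat_lit 141032, nat_lit 139034, nat_lit 132221, nat_lit 90, nat_lit 6360, nat_lit 11288, nat_lit 13440, nat_lit 17792, nat_lit 22592, nat_lit 26752, nat_lit 28928, nat_lit 35328, nat_lit 38912, nat_lit 43008, nat_lit 46498, nat_lit 40969, nat_lit 36889, nat_lit 32957, nat_lit 28763, nat_lit 24705, nat_lit 20764, nat_lit 16457, nat_lit 12354, nat_lit 4112, nat_lit 2, nat_lit 430088, nat_lit 417797, nat_lit 409602, nat_lit 397312, nat_lit 164352, nat_lit 155904, nat_lit 151872, nat_lit 148256, nat_lit 139360, nat_lit 135984, nat_lit 131846, nat_lit 45062, nat_lit 41491, nat_lit 28694, nat_lit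 12289]⟩))))

theorem dcME65_ok : dcME65.all (elB (nat_lit 0)) = true := by decide +kernel

def dcME66 : BT El := (.node (nat_lit 532) (.node (nat_lit 530) (.node (nat_lit 529) (.leaf ndMr9_27)
 (.leaf ⟨[nat_lit 0x3aaff9804cf2cda360891a5d3652ea83824e, nat_lit 0x66cac5a48ec812cf41805baaa28cc697056d, nat_lit 0x55f6fc480ef121c5a18916d64c5c2ca08e77, nat_lit 0xa039628ccc9442e036b64d0909a8f75bd02], [nat_lit 65536, nat_lit 77824, nat_lit 86016, nat_lit 90112, nat_lit 94208, nat_lit 98304, nat_lit 178176, nat_lit 173056, nat_lit 168960, nat_lit 166400, nat_lit 159872, nat_lit 159104, nat_lit 152352, nat_lit 150304, nat_lit 145216, nat_lit 141708, nat_lit 135962, nat_lit 131989, nat_lit 2068, nat_lit 7860, nat_lit 11096, nat_lit 13808, nat_lit 20160, nat_lit 20544, nat_lit 24704, nat_lit 31744, nat_lit 34816, nat_lit 37888, nat_lit 46473, nat_lit 43475, nat_lit 36955, nat_lit 32776, nat_lit 28768, nat_lit 24763, nat_lit 20506, nat_lit 16426, nat_lit 12293, nat_lit 8201, nat_lit 438282, nat_lit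 430088, nat_lit 421894, nat_lit 413700, nat_lit 405506, nat_lit 397312, nat_lit 174080, nat_lit 169984, nat_lit 166400, nat_lit 160512, nat_lit 158080, nat_lit 153472, nat_lit 150624, nat_lit 146512, nat_lit 141136, nat_lit 137820, nat_lit 131936, nat_lit 327680]⟩))
 (.node (nat_lit 531) (.leaf ndMr9_28)
 (.leaf ⟨[nat_lit 0x595fa2d6c32204938671634067d20bbb952, nat_lit 0x447de84b6b7a1e215148c158d284d6f70d00, nat_lit 0x300959634933c948b9a16144a3582aea05e9, nat_lit 0xcfa39fa20ab02a2f106a76588d9c0d71c92e], [nat_lit 65536, nat_lit 69632, nat_lit 73728, nat_lit 86016, nat_lit 106496, nat_lit 110592, nat_lit 175104, nat_lit 171520, nat_lit 164096, nat_lit 161408, nat_lit 156736, nat_lit 154272, nat_lit 148992, nat_lit 145000, nat_lit 142968, nat_lit 136732, nat_lit 131427, nat_lit 3286, nat_lit 7676, nat_lit 11544, nat_lit 13072, nat_lit 17248, nat_lit 23232, nat_lit 26752, nat_lit 31232, nat_lit 34816, nat_lit 38912, nat_lit 43008, nat_lit 46437, nat_lit 43320, nat_lit 37128, nat_lit 33503,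 nat_lit 28729, nat_lit 24578, nat_lit 20507, nat_lit 16391, nat_lit 12290, nat_lit 8208, nat_lit 4097, nat_lit 434184, nat_lit 421894, nat_lit 413700, nat_lit 405506, nat_lit 397312, nat_lit 160000, nat_lit 151808, nat_lit 147904, nat_lit 143760, nat_lit 140440, nat_lit 136464, nat_lit 131380, nat_lit 45313, nat_lit 37120]⟩)))
 (.node (nat_lit 534) (.node (nat_lit 533) (.leaf ⟨[nat_lit 0x8e77d73025009dcfab6688d92cb88945a865, nat_lit 0xeb888d2a58675d169c9ab0814f8d44719214], [nat_lit 65536, nat_lit 86016, nat_lit 90112, nat_lit 94208, nat_lit 102400, nat_lit 106496, nat_lit 178176, nat_lit 175104, nat_lit 168960, nat_lit 164096, nat_lit 160768, nat_lit 157888, nat_lit 155328, nat_lit 149376, nat_lit 143376, nat_lit 140468, nat_lit 136290, nat_lit 133956, nat_lit 2048, nat_lit 6704, nat_lit 8368, nat_lit 16016, nat_lit 19552, nat_lit 20608, nat_lit 26624, nat_lit 29184, nat_lit 36352, nat_lit 37888, nat_lit 43008, nat_lit 46145, nat_lit 37374, nat_lit 33436, nat_lit 28792, nat_lit 20501,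 nat_lit 16417, nat_lit 12421, nat_lit 8201, nat_lit 425987, nat_lit 401409, nat_lit 143616, nat_lit 139272, nat_lit 135432, nat_lit 37134, nat_lit 28680, nat_lit 20484, nat_lit 16388]⟩)
 (.leaf ⟨[nat_lit 0xb71d4109dee436b391a0020af41a9654b236, nat_lit 0xfa9af553025142a36da6e39291bc90b499e0], [nat_lit 69632, nat_lit 81920, nat_lit 90112, nat_lit 94208, nat_lit 102400, nat_lit 178176, nat_lit 174080, nat_lit 167424, nat_lit 160896, nat_lit 158016, nat_lit 154752, nat_lit 150864, nat_lit 144712, nat_lit 140620, nat_lit 138860, nat_lit 133501, nat_lit 3812, nat_lit 4180, nat_lit 9648, nat_lit 16032, nat_lit 19840, nat_lit 21632, nat_lit 25984, nat_lit 32512, nat_lit 34816, nat_lit 37888, nat_lit 43008, nat_lit 46485, nat_lit 43206, nat_lit 37325, nat_lit 32956, nat_lit 28952, nat_lit 24586, nat_lit 20509, nat_lit 16388, nat_lit 12324, nat_lit 8193, nat_lit 4160, nat_lit 4, nat_lit 405506, nat_lit 397312, nat_lit 135172, nat_lit 131076, nat_lit 36879, nat_lit 28680, nat_lit 24577, nat_lit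 20484, nat_lit 16392]⟩))
 (.node (nat_lit 535) (.leaf ⟨[nat_lit 0x66a3a6a1e454180cab9f15aa764b4821de01], [nat_lit 65536, nat_lit 69632, nat_lit 73728, nat_lit 77824, nat_lit 86016, nat_lit 90112, nat_lit 106496, nat_lit 171008, nat_lit 165376, nat_lit 158208, nat_lit 155488, nat_lit 151072, nat_lit 147384, nat_lit 141588, nat_lit 139194, nat_lit 132971, nat_lit 3190, nat_lit 6208, nat_lit 10304, nat_lit 15360, nat_lit 17760, nat_lit 24000, nat_lit 25600, nat_lit 31744, nat_lit 33280, nat_lit 39936, nat_lit 41851, nat_lit 37143, nat_lit 33496, nat_lit 28720, nat_lit 24606, nat_lit 20624, nat_lit 16458, nat_lit 8211, nat_lit 4101, nat_lit 4, nat_lit 327680]⟩)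
 (.leaf ⟨[nat_lit 0xded8848caa152c743266f430f028ae4736c0, nat_lit 0x48edb12595043029a89f79c80e1b4a73468b], [nat_lit 69632, nat_lit 73728, nat_lit 110592, nat_lit 171520, nat_lit 164864, nat_lit 162048, nat_lit 158848, nat_lit 154016, nat_lit 148816, nat_lit 147328, nat_lit 142124, nat_lit 137332, nat_lit 131303, nat_lit 2258, nat_lit 6684, nat_lit 8464, nat_lit 14608, nat_lit 18336, nat_lit 21952, nat_lit 25600, nat_lit 30208, nat_lit 35328, nat_lit 37888, nat_lit 43008, nat_lit 47087, nat_lit 41765, nat_lit 37346, nat_lit 33311, nat_lit 28784, nat_lit 24722, nat_lit 20570, nat_lit 16395, nat_lit 12307, nat_lit 8451, nat_lit 4100, nat_lit 405506, nat_lit 397312, nat_lit 139272, nat_lit 135176, nat_lit 131082, nat_lit 36879, nat_lit 28680, nat_lit 24577, nat_lit 20484, nat_lit 16392]⟩))))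

theorem dcME66_ok : dcME66.all (elB (nat_lit 0)) = true := by decide +kernel

def dcME67 : BT El := (.node (nat_lit 540) (.node (nat_lit 538) (.node (nat_lit 537) (.leaf ⟨[nat_lit 0x9accf0685d552ee2946c03cde86412619285, nat_lit 0xcf3a0c1d9d26248da95578c0eb320020ce8f], [nat_lit 69632, nat_lit 73728, nat_lit 77824, nat_lit 81920, nat_lit 86016, nat_lit 90112, nat_lit 94208, nat_lit 98304, nat_lit 106496, nat_lit 110592, nat_lit 178176, nat_lit 174080, nat_lit 171008, nat_lit 165632, nat_lit 162560, nat_lit 157696, nat_lit 153216, nat_lit 148032, nat_lit 146248, nat_lit 141660, nat_lit 136938, nat_lit 134718, nat_lit 1478, nat_lit 4856, nat_lit 9792, nat_lit 12512, nat_lit 19424, nat_lit 21952, nat_lit 24960, nat_lit 33280, nat_lit 39936, nat_lit 43008, nat_lit 46584, nat_lit 41840, nat_lit 37368, nat_lit 32937, nat_lit 28977, nat_lit 25095, nat_lit 20495, nat_lit 16455, nat_lit 12304, nat_lit 8193, nat_lit 405506, nat_lit 397312, nat_lit 139272, nat_lit 135176, nat_lit 131082, nat_lit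 36879, nat_lit 28680, nat_lit 24577, nat_lit 20484, nat_lit 16392]⟩)
 (.leaf ⟨[nat_lit 0xc3690f55162b3c2c9d41033512194973c52e, nat_lit 0x41e7e2b8e460a9e29b930a596c434a4a9c11], [nat_lit 81920, nat_lit 86016, nat_lit 90112, nat_lit 94208, nat_lit 102400, nat_lit 173056, nat_lit 171520, nat_lit 166912, nat_lit 161792, nat_lit 157952, nat_lit 154688, nat_lit 147824, nat_lit 146928, nat_lit 139628, nat_lit 135914, nat_lit 134454, nat_lit 2050, nat_lit 7516, nat_lit 10992, nat_lit 13296, nat_lit 16960, nat_lit 20736, nat_lit 28416, nat_lit 31232, nat_lit 34816, nat_lit 39936, nat_lit 46067, nat_lit 41272, nat_lit 39274, nat_lit 33887, nat_lit 29186, nat_lit 24580, nat_lit 20504, nat_lit 16427, nat_lit 12322, nat_lit 8194, nat_lit 4100, nat_lit 405506, nat_lit 397312, nat_lit 135180, nat_lit 131074, nat_lit 40975, nat_lit 36879, nat_lit 32783, nat_lit 28676, nat_lit 24578, nat_lit 20484, nat_lit 16388]⟩))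
 (.node (nat_lit 539) (.leaf ⟨[nat_lit 0xb22282ad8208b5d259544a5c623250783e6c, nat_lit 0x2e27747d22b356e23c26173064281484b656], [nat_lit 65536, nat_lit 77824, nat_lit 81920, nat_lit 86016, nat_lit 102400, nat_lit 110592, nat_lit 175104, nat_lit 171520, nat_lit 166400, nat_lit 160128, nat_lit 158400, nat_lit 152096, nat_lit 149072, nat_lit 145360, nat_lit 140152, nat_lit 137028, nat_lit 134899, nat_lit 2822, nat_lit 4696, nat_lit 11800, nat_lit 15536, nat_lit 18848, nat_lit 23808, nat_lit 27136, nat_lit 31232, nat_lit 35328, nat_lit 37888, nat_lit 43008, nat_lit 45231, nat_lit 40985, nat_lit 37031, nat_lit 32770, nat_lit 28684, nat_lit 24624, nat_lit 20504, nat_lit 16395, nat_lit 12291, nat_lit 8320, nat_lit 4105, nat_lit 8, nat_lit 417795, nat_lit 401409, nat_lit 139336, nat_lit 135244, nat_lit 41024, nat_lit 32846, nat_lit 28680, nat_lit 20488, nat_lit 16392, nat_lit 327680]⟩)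
 (.leaf ndMr3_10)))
 (.node (nat_lit 542) (.node (nat_lit 541) (.leaf ⟨[nat_lit 0x1147418202f992575995519ec22b28e6a620, nat_lit 0xf05a39396a35c88c501340da716dc4f820ce, nat_lit 0xf3f93aa352b959f1654623826835c8e81541], [nat_lit 94208, nat_lit 98304, nat_lit 102400, nat_lit 178176, nat_lit 169984, nat_lit 164608, nat_lit 161280, nat_lit 157952, nat_lit 152704, nat_lit 148048, nat_lit 144568, nat_lit 142672, nat_lit 137594, nat_lit 134772, nat_lit 2390, nat_lit 7996, nat_lit 8416, nat_lit 12432, nat_lit 17440, nat_lit 22400, nat_lit 27008, nat_lit 30976, nat_lit 35328, nat_lit 38912, nat_lit 43008, nat_lit 45705, nat_lit 41248, nat_lit 37237, nat_lit 33436, nat_lit 28682, nat_lit 24878, nat_lit 20765, nat_lit 16390, nat_lit 12423, nat_lit 8195, nat_lit 4100, nat_lit 425990, nat_lit 413700, nat_lit 405506, nat_lit 397312, nat_lit 151616, nat_lit 147488, nat_lit 143648, nat_lit 139336, nat_lit 135520, nat_lit 131378, nat_lit 45090, nat_lit 37210, nat_lit 28729]⟩)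
 (.leaf ndMr4_13))
 (.node (nat_lit 543) (.leaf ⟨[nat_lit 0xeee277a586d91ea82dd3372960111e688590, nat_lit 0xccaaa55b0ee78a15a49a12595799511480c3], [nat_lit 65536, nat_lit 69632, nat_lit 81920, nat_lit 94208, nat_lit 110592, nat_lit 174080, nat_lit 169472, nat_lit 166400, nat_lit 160128, nat_lit 156096, nat_lit 153024, nat_lit 150640, nat_lit 143656, nat_lit 140188, nat_lit 136462, nat_lit 134774, nat_lit 2632, nat_lit 5896, nat_lit 12032, nat_lit 15616, nat_lit 20064, nat_lit 24384, nat_lit 27136, nat_lit 29952, nat_lit 34304, nat_lit 45340, nat_lit 40984, nat_lit 37091, nat_lit 34838, nat_lit 28711, nat_lit 24610, nat_lit 20559, nat_lit 17418, nat_lit 12291, nat_lit 8227, nat_lit 4100, nat_lit 8, nat_lit 413700, nat_lit 405505, nat_lit 147488, nat_lit 143392, nat_lit 135184, nat_lit 40962, nat_lit 36880, nat_lit 32826, nat_lit 28680, nat_lit 24634]⟩)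
 (.leaf ndMr5_8))))

theorem dcME67_ok : dcME67.all (elB (nat_lit 0)) = true := by decide +kernel

def dcME68 : BT El := (.node (nat_lit 548) (.node (nat_lit 546) (.node (nat_lit 545) (.leaf ⟨[nat_lit 0x14778d69c0c50965b410e4be551dc9498626, nat_lit 0xe2b17452e42335148dae02d52f21e0160dd3, nat_lit 0x33660f20cce9957615eac036303aa5443c29, nat_lit 0xeeed78622ed8848e4c254a996712876015f3], [nat_lit 65536, nat_lit 69632, nat_lit 73728, nat_lit 90112, nat_lit 94208, nat_lit 102400, nat_lit 173056, nat_lit 171520, nat_lit 164608, nat_lit 162816, nat_lit 154848, nat_lit 148032, nat_lit 146608, nat_lit 142164, nat_lit 138200, nat_lit 131984, nat_lit 3676, nat_lit 5204, nat_lit 11368, nat_lit 15344, nat_lit 17344, nat_lit 24512, nat_lit 27392, nat_lit 29440, nat_lit 39936, nat_lit 43008, nat_lit 47097, nat_lit 43919, nat_lit 38912, nat_lit 33493, nat_lit 29196, nat_lit 24597, nat_lit 20617, nat_lit 16393, nat_lit 12292, nat_lit 8193, nat_lit 438282, nat_lit 430088, nat_lit 421894, nat_lit 413700,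 nat_lit 405506, nat_lit 397312, nat_lit 174080, nat_lit 168960, nat_lit 165888, nat_lit 162304, nat_lit 156928, nat_lit 155008, nat_lit 149472, nat_lit 145328, nat_lit 142912, nat_lit 137516, nat_lit 132248]⟩)
 (.leaf ndMr5_11))
 (.node (nat_lit 547) (.leaf ⟨[nat_lit 0x5a3a59782d3335c9920f1188aabd164a860c, nat_lit 0xa05f536d831ab81241d6a49885a406cbbc53], [nat_lit 73728, nat_lit 86016, nat_lit 94208, nat_lit 98304, nat_lit 102400, nat_lit 164352, nat_lit 161792, nat_lit 156480, nat_lit 153600, nat_lit 147840, nat_lit 145392, nat_lit 141960, nat_lit 135506, nat_lit 131977, nat_lit 2280, nat_lit 8024, nat_lit 8744, nat_lit 15840, nat_lit 18272, nat_lit 20672, nat_lit 24704, nat_lit 30464, nat_lit 36352, nat_lit 39936, nat_lit 43008, nat_lit 46599, nat_lit 41302, nat_lit 37299, nat_lit 32793, nat_lit 29213, nat_lit 24586, nat_lit 20629, nat_lit 16428, nat_lit 12320, nat_lit 8211, nat_lit 4104, nat_lit 425987, nat_lit 397312, nat_lit 143616, nat_lit 135432, nat_lit 131080, nat_lit 40961,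 nat_lit 36866, nat_lit 28674, nat_lit 24577, nat_lit 20481, nat_lit 327680]⟩)
 (.leaf ndMr6_28)))
 (.node (nat_lit 550) (.node (nat_lit 549) (.leaf ⟨[nat_lit 0x8144727ca760b87465d2a6d48589c0812e06, nat_lit 0x14d2bb13172054c19a9c3b20e9bbc8d8c0b4, nat_lit 0x930a09a9a54406ee28c53691913ae09b014f], [nat_lit 73728, nat_lit 77824, nat_lit 86016, nat_lit 90112, nat_lit 106496, nat_lit 178176, nat_lit 173056, nat_lit 169984, nat_lit 167424, nat_lit 160128, nat_lit 156224, nat_lit 154560, nat_lit 151472, nat_lit 145208, nat_lit 140284, nat_lit 138994, nat_lit 132761, nat_lit 3870, nat_lit 7716, nat_lit 9296, nat_lit 14000, nat_lit 19872, nat_lit 24064, nat_lit 26368, nat_lit 29952, nat_lit 35328, nat_lit 43008, nat_lit 46904, nat_lit 43066, nat_lit 37938, nat_lit 32832, nat_lit 28683, nat_lit 24891, nat_lit 20546, nat_lit 16427, nat_lit 12325, nat_lit 8195, nat_lit 4, nat_lit 421894, nat_lit 413700, nat_lit 405506, nat_lit 397312, nat_lit 155776, nat_lit 151680, nat_lit 147616, nat_lit 139272,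 nat_lit 131266, nat_lit 45060, nat_lit 40980, nat_lit 36941, nat_lit 32958]⟩)
 (.leaf ndMr6_51))
 (.node (nat_lit 551) (.leaf ⟨[nat_lit 0x6a99c605e235c134ac8e663ad3684aa4104f, nat_lit 0x53fc3a26236a9043ca6c71ad5104afb8170, nat_lit 0x69f99f688880bcaa624c05b86795a30ad2f3, nat_lit 0x536ac3ad1c611c0d5b145ba0321d9312426f], [nat_lit 65536, nat_lit 90112, nat_lit 94208, nat_lit 106496, nat_lit 178176, nat_lit 169984, nat_lit 164096, nat_lit 162176, nat_lit 158144, nat_lit 152768, nat_lit 150896, nat_lit 146288, nat_lit 142740, nat_lit 137536, nat_lit 132991, nat_lit 116, nat_lit 6352, nat_lit 11160, nat_lit 12512, nat_lit 16704, nat_lit 23296, nat_lit 29696, nat_lit 34304, nat_lit 39936, nat_lit 43008, nat_lit 46653, nat_lit 41278, nat_lit 36942, nat_lit 32971, nat_lit 28965, nat_lit 24750, nat_lit 20483, nat_lit 17422, nat_lit 12419, nat_lit 8202, nat_lit 4097, nat_lit 2, nat_lit 434185, nat_lit 425991, nat_lit 417796, nat_lit 405506, nat_lit 397312, nat_lit 168960, nat_lit 164864, nat_lit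 161280, nat_lit 155904, nat_lit 149120, nat_lit 145152, nat_lit 139328, nat_lit 136836, nat_lit 132692, nat_lit 45576, nat_lit 20488]⟩)
 (.leaf ndMr6_32))))

theorem dcME68_ok : dcME68.all (elB (nat_lit 0)) = true := by decide +kernel

def dcME69 : BT El := (.node (nat_lit 556) (.node (nat_lit 554) (.node (nat_lit 553) (.leaf ⟨[nat_lit 0x2481d46440ebda63a15a938892abd060a970, nat_lit 0x35cfc90c0569e6e0a2afb123451a0b4dd82, nat_lit 0x2e2774640815d6f4b250a2c9a070e6713e26], [nat_lit 69632, nat_lit 81920, nat_lit 90112, nat_lit 94208, nat_lit 98304, nat_lit 102400, nat_lit 106496, nat_lit 110592, nat_lit 175104, nat_lit 171520, nat_lit 165888, nat_lit 160128, nat_lit 158720, nat_lit 153216, nat_lit 150576, nat_lit 144000, nat_lit 140364, nat_lit 136350, nat_lit 133136, nat_lit 1172, nat_lit 6852, nat_lit 10016, nat_lit 13504, nat_lit 18944, nat_lit 22784, nat_lit 26368, nat_lit 28928, nat_lit 35840, nat_lit 39936, nat_lit 43008, nat_lit 47007, nat_lit 41910, nat_lit 37899, nat_lit 33423,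 nat_lit 28708, nat_lit 24632, nat_lit 16399, nat_lit 12310, nat_lit 8211, nat_lit 4113, nat_lit 421894, nat_lit 413700, nat_lit 405506, nat_lit 397312, nat_lit 151744, nat_lit 139376, nat_lit 135340, nat_lit 131248, nat_lit 45177, nat_lit 41139, nat_lit 36928, nat_lit 32994]⟩)
 (.leaf ndMr6_12))
 (.node (nat_lit 555) (.leaf ⟨[nat_lit 0x1dbe7b285629aa263d2a87c0177112c6d872, nat_lit 0x77e4e77cc0b43a039342aa98a71452cb12f4, nat_lit 0x22482d8bd06ab1c0b254284874b84a724d6d, nat_lit 0x7218810cdb42ca28041d75d8d5508e3491ec], [nat_lit 65536, nat_lit 69632, nat_lit 81920, nat_lit 90112, nat_lit 102400, nat_lit 106496, nat_lit 110592, nat_lit 174080, nat_lit 169472, nat_lit 166400, nat_lit 161152, nat_lit 157504, nat_lit 153696, nat_lit 148016, nat_lit 145072, nat_lit 142220, nat_lit 135450, nat_lit 132566, nat_lit 1938, nat_lit 5768, nat_lit 11968, nat_lit 14016, nat_lit 18464, nat_lit 24384, nat_lit 27136, nat_lit 30464, nat_lit 35328, nat_lit 43008, nat_lit 45854, nat_lit 41539, nat_lit 37151,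 nat_lit 33317, nat_lit 28700, nat_lit 24635, nat_lit 20490, nat_lit 16454, nat_lit 12291, nat_lit 8194, nat_lit 8, nat_lit 434185, nat_lit 425991, nat_lit 417797, nat_lit 409603, nat_lit 401408, nat_lit 168960, nat_lit 165376, nat_lit 156928, nat_lit 153152, nat_lit 148736, nat_lit 143712, nat_lit 139568, nat_lit 133104, nat_lit 45548, nat_lit 4097]⟩)
 (.leaf ndMr6_11)))
 (.node (nat_lit 558) (.node (nat_lit 557) (.leaf ⟨[nat_lit 0x47211434e5528874035103b99655c8b0c52f, nat_lit 0xa3f33010b09dc75a1dcb43ec60b64c50931, nat_lit 0x6a5a9c9b13411548b981582ece89e436902f, nat_lit 0x33560014445ca685453009867a31f56ddd6], [nat_lit 65536, nat_lit 94208, nat_lit 173056, nat_lit 164864, nat_lit 157632, nat_lit 153440, nat_lit 148048, nat_lit 146624, nat_lit 139308, nat_lit 136284, nat_lit 131189, nat_lit 2478, nat_lit 6388, nat_lit 11432, nat_lit 12608, nat_lit 18112, nat_lit 22464, nat_lit 26880, nat_lit 32256, nat_lit 35840, nat_lit 37888, nat_lit 43008, nat_lit 45740, nat_lit 41050, nat_lit 39340,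 nat_lit 33315, nat_lit 30755, nat_lit 25608, nat_lit 20497, nat_lit 16388, nat_lit 12423, nat_lit 8210, nat_lit 4101, nat_lit 2, nat_lit 438282, nat_lit 430088, nat_lit 421894, nat_lit 413700, nat_lit 405506, nat_lit 397312, nat_lit 174080, nat_lit 166912, nat_lit 161024, nat_lit 156288, nat_lit 153024, nat_lit 149472, nat_lit 146608, nat_lit 139936, nat_lit 136456, nat_lit 133972, nat_lit 327680]⟩)
 (.leaf ndMr6_47))
 (.node (nat_lit 559) (.leaf ⟨[nat_lit 0xc5f530a322884c04adc65134ef0a566549d6, nat_lit 0x35af09750c9b5471bac8d931e20cca754100, nat_lit 0xf353fc0ba83020f162ae97ce5681962254ad], [nat_lit 65536, nat_lit 69632, nat_lit 77824, nat_lit 90112, nat_lit 94208, nat_lit 98304, nat_lit 110592, nat_lit 173056, nat_lit 168448, nat_lit 166400, nat_lit 161280, nat_lit 158720, nat_lit 151904, nat_lit 150944, nat_lit 146656, nat_lit 139868, nat_lit 136938, nat_lit 133639, nat_lit 578, nat_lit 4964, nat_lit 8512, nat_lit 12528, nat_lit 18592, nat_lit 24256, nat_lit 28288, nat_lit 32000,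 nat_lit 34816, nat_lit 38912, nat_lit 45928, nat_lit 41577, nat_lit 37091, nat_lit 32897, nat_lit 28779, nat_lit 24617, nat_lit 20548, nat_lit 16394, nat_lit 12292, nat_lit 8203, nat_lit 425990, nat_lit 413700, nat_lit 405506, nat_lit 397312, nat_lit 151808, nat_lit 147808, nat_lit 139384, nat_lit 135264, nat_lit 131162, nat_lit 45066, nat_lit 41045, nat_lit 36959, nat_lit 327680]⟩)
 (.leaf ndMr6_39))))

theorem dcME69_ok : dcME69.all (elB (nat_lit 0)) = true := by decide +kernel

def dcME70 : BT El := (.node (nat_lit 564) (.node (nat_lit 562) (.node (nat_lit 561) (.leaf ⟨[nat_lit 0x69600c8c10659c02aa4976154d0bad3a3e43, nat_lit 0x555c3a14608506f47ccb5300eb236561b989, nat_lit 0xe4788d284d24245051db563a2305a77a11eb, nat_lit 0xb142db731a990c96016340c2a67a968b9c53], [nat_lit 73728, nat_lit 86016, nat_lit 90112, nat_lit 94208, nat_lit 98304, nat_lit 106496, nat_lit 110592, nat_lit 178176, nat_lit 174080, nat_lit 169472, nat_lit 165376, nat_lit 163072, nat_lit 157312, nat_lit 154176, nat_lit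 151456, nat_lit 146824, nat_lit 139728, nat_lit 139072, nat_lit 134298, nat_lit 54, nat_lit 6160, nat_lit 12192, nat_lit 13056, nat_lit 16448, nat_lit 20672, nat_lit 24832, nat_lit 30976, nat_lit 34304, nat_lit 37888, nat_lit 43008, nat_lit 47095, nat_lit 43916, nat_lit 39282, nat_lit 35030, nat_lit 28758, nat_lit 24767, nat_lit 20493, nat_lit 16512, nat_lit 12290, nat_lit 8195, nat_lit 4, nat_lit 438282, nat_lit 430088, nat_lit 421894, nat_lit 413700, nat_lit 405506, nat_lit 397312, nat_lit 165376, nat_lit 162304, nat_lit 155904, nat_lit 154112, nat_lit 150144, nat_lit 146432, nat_lit 143032, nat_lit 135420, nat_lit 133782, nat_lit 327680]⟩)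
 (.leaf ndMr6_13))
 (.node (nat_lit 563) (.leaf ⟨[nat_lit 0x6aff55150f053cc59a1d2ac483485806decb, nat_lit 0xfaa6505b90051e553142d7ce03a5d828a6c4, nat_lit 0x12eb4d459470c56d7247391a17a00447d585, nat_lit 0x9caf308097569885886c90526a3bdcc1c917], [nat_lit 73728, nat_lit 77824, nat_lit 86016, nat_lit 90112, nat_lit 94208, nat_lit 110592, nat_lit 175104, nat_lit 169472, nat_lit 164096, nat_lit 160768, nat_lit 155968, nat_lit 153728, nat_lit 148576, nat_lit 143840, nat_lit 142668, nat_lit 138796, nat_lit 132391, nat_lit 414, nat_lit 5456, nat_lit 10552, nat_lit 13632, nat_lit 18688, nat_lit 22016, nat_lit 24704, nat_lit 30208, nat_lit 35328, nat_lit 46405, nat_lit 43739, nat_lit 37179, nat_lit 32778, nat_lit 28675, nat_lit 26637, nat_lit 20490, nat_lit 16905, nat_lit 12324, nat_lit 8200, nat_lit 4101, nat_lit 2, nat_lit 438282, nat_lit 430088, nat_lit 421894, nat_lit 413700, nat_lit 405506, nat_lit 397312, nat_lit 165888, nat_lit 162816, nat_lit 158848, nat_lit 153792, nat_lit 149088, nat_lit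 145136, nat_lit 139496, nat_lit 138992, nat_lit 131102, nat_lit 327680]⟩)
 (.leaf ndMr6_36)))
 (.node (nat_lit 566) (.node (nat_lit 565) (.leaf ⟨[nat_lit 0x188147a42a219e242a5d76c82f658c85aa60, nat_lit 0x14e1ee5aa360a1a7240d4acdcf15e4048d85, nat_lit 0xfca3fc99e32a2583b010f5d44d31205706ea, nat_lit 0xbe81716c4b512a96bcdc601c880adec4c870], [nat_lit 65536, nat_lit 73728, nat_lit 86016, nat_lit 94208, nat_lit 102400, nat_lit 106496, nat_lit 178176, nat_lit 174080, nat_lit 168960, nat_lit 162944, nat_lit 157824, nat_lit 153856, nat_lit 148960, nat_lit 145576, nat_lit 141892, nat_lit 136124, nat_lit 133702, nat_lit 1334, nat_lit 5832, nat_lit 10008, nat_lit 14816, nat_lit 18560, nat_lit 22720, nat_lit 27776, nat_lit 31232, nat_lit 35328, nat_lit 38912, nat_lit 46862, nat_lit 41807, nat_lit 37891, nat_lit 32949, nat_lit 28699, nat_lit 24611, nat_lit 20573, nat_lit 16419, nat_lit 12307, nat_lit 8193, nat_lit 4105, nat_lit 438281, nat_lit 421894, nat_lit 413700, nat_lit 405506, nat_lit 397312,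 nat_lit 158208, nat_lit 152256, nat_lit 147616, nat_lit 143440, nat_lit 139480, nat_lit 135268, nat_lit 131164, nat_lit 41558, nat_lit 32907, nat_lit 327680]⟩)
 (.leaf ndMr6_8))
 (.node (nat_lit 567) (.leaf ⟨[nat_lit 0x96ac59ac0343440568a4f558ee231774a263, nat_lit 0x8db2473bc97a384128152656336a2c91c0cb, nat_lit 0xa90fc9805eab9d8db16511901441aab4b853, nat_lit 0x7177d7aa9c82862938172b19a4a086f9de0c], [nat_lit 65536, nat_lit 69632, nat_lit 73728, nat_lit 77824, nat_lit 81920, nat_lit 86016, nat_lit 90112, nat_lit 98304, nat_lit 102400, nat_lit 106496, nat_lit 110592, nat_lit 174080, nat_lit 171520, nat_lit 167424, nat_lit 162048, nat_lit 158592, nat_lit 155232, nat_lit 147936, nat_lit 147080, nat_lit 141116, nat_lit 137690, nat_lit 134822, nat_lit 460, nat_lit 7452, nat_lit 10696, nat_lit 16048, nat_lit 16576, nat_lit 21504, nat_lit 25472, nat_lit 32256, nat_lit 36352, nat_lit 39936, nat_lit 43008, nat_lit 46417, nat_lit 41504, nat_lit 38142, nat_lit 34908, nat_lit 29299, nat_lit 24622,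 nat_lit 20493, nat_lit 16390, nat_lit 12293, nat_lit 8201, nat_lit 8, nat_lit 438282, nat_lit 430088, nat_lit 421894, nat_lit 413700, nat_lit 405506, nat_lit 397312, nat_lit 171008, nat_lit 167424, nat_lit 163072, nat_lit 157184, nat_lit 153472, nat_lit 150944, nat_lit 146096, nat_lit 140032, nat_lit 136276, nat_lit 133482, nat_lit 327680]⟩)
 (.leaf ndMr6_3))))

theorem dcME70_ok : dcME70.all (elB (nat_lit 0)) = true := by decide +kernel

def dcME71 : BT El := (.node (nat_lit 572) (.node (nat_lit 570) (.node (nat_lit 569) (.leaf ⟨[nat_lit 0x6635c5449a531077481560d27159df0732a2, nat_lit 0x1bb4d87ce27a05702a5aa256ec05a48309c3, nat_lit 0x53fc5f5b6f5282925382241d8625a237a613, nat_lit 0x88d74da064648c0db0a27791657551762a70], [nat_lit 65536, nat_lit 69632, nat_lit 73728, nat_lit 77824, nat_lit 81920, nat_lit 90112, nat_lit 94208, nat_lit 98304, nat_lit 178176, nat_lit 175104, nat_lit 168448, nat_lit 166400, nat_lit 161280, nat_lit 158976, nat_lit 152416, nat_lit 151472, nat_lit 144720,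 nat_lit 141944, nat_lit 135834, nat_lit 134302, nat_lit 1726, nat_lit 4448, nat_lit 10568, nat_lit 13664, nat_lit 19584, nat_lit 24064, nat_lit 27904, nat_lit 31232, nat_lit 35840, nat_lit 43008, nat_lit 46380, nat_lit 43903, nat_lit 37275, nat_lit 32795, nat_lit 28770, nat_lit 24740, nat_lit 20490, nat_lit 16641, nat_lit 12294, nat_lit 8202, nat_lit 4097, nat_lit 438282, nat_lit 430088, nat_lit 421894, nat_lit 413700, nat_lit 405506, nat_lit 397312, nat_lit 174080, nat_lit 169984, nat_lit 165376, nat_lit 162560, nat_lit 155776, nat_lit 155456, nat_lit 149920, nat_lit 146384, nat_lit 139360, nat_lit 139228, nat_lit 133206]⟩)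
 (.leaf ndMr6_50))
 (.node (nat_lit 571) (.leaf ⟨[nat_lit 0x8188d82a864031c8924337c6a66c2c758a97, nat_lit 0xf60aac2a1f782923958547548b9b580384d1, nat_lit 0x5f63098da13581a5a5e5511d8a71828225e3, nat_lit 0xf9faac20587bc8c97ac0874e0351634b36a2], [nat_lit 65536, nat_lit 69632, nat_lit 81920, nat_lit 86016, nat_lit 94208, nat_lit 98304, nat_lit 110592, nat_lit 173056, nat_lit 169984, nat_lit 166144, nat_lit 163456, nat_lit 157504, nat_lit 152800, nat_lit 148256, nat_lit 145536, nat_lit 139508, nat_lit 138868, nat_lit 133173, nat_lit 2700, nat_lit 4780, nat_lit 10768, nat_lit 16288, nat_lit 16640, nat_lit 21568, nat_lit 27776, nat_lit 30464, nat_lit 34304, nat_lit 37888, nat_lit 45183, nat_lit 41969, nat_lit 36875, nat_lit 33955, nat_lit 29718, nat_lit 24598, nat_lit 20611, nat_lit 16462, nat_lit 12310, nat_lit 8195, nat_lit 4, nat_lit 438282, nat_lit 425991, nat_lit 417797, nat_lit 405506, nat_lit 397312, nat_lit 166912, nat_lit 160768, nat_lit 157952, nat_lit 154880, nat_lit 143520,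 nat_lit 140360, nat_lit 136544, nat_lit 134496, nat_lit 37322, nat_lit 16386, nat_lit 327680]⟩)
 (.leaf ndMr6_43)))
 (.node (nat_lit 574) (.node (nat_lit 573) (.leaf ⟨[nat_lit 0x88284d53d9340e21b5d3282c8571c14a88cd, nat_lit 0xf50c995b6a07309351a29b21e2804e3b9654, nat_lit 0x17d4710a8ee1bcab23520b429532182bca71, nat_lit 0x96a3a971cb765420909667ced08a48353688], [nat_lit 65536, nat_lit 73728, nat_lit 86016, nat_lit 90112, nat_lit 98304, nat_lit 178176, nat_lit 175104, nat_lit 168960, nat_lit 166656, nat_lit 162304, nat_lit 159296, nat_lit 154016, nat_lit 149904, nat_lit 144936, nat_lit 143212, nat_lit 135386, nat_lit 133855, nat_lit 1430, nat_lit 7556, nat_lit 12208, nat_lit 15568, nat_lit 17952, nat_lit 22592, nat_lit 25088, nat_lit 29440, nat_lit 33792, nat_lit 43008, nat_lit 45081, nat_lit 41927, nat_lit 36930, nat_lit 34042, nat_lit 29782, nat_lit 24578, nat_lit 20498, nat_lit 12551, nat_lit 8449, nat_lit 4104, nat_lit 128, nat_lit 434184, nat_lit 421894, nat_lit 413700, nat_lit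 405506, nat_lit 397312, nat_lit 164864, nat_lit 160000, nat_lit 156672, nat_lit 152704, nat_lit 147616, nat_lit 144464, nat_lit 139336, nat_lit 136244, nat_lit 132460, nat_lit 46516, nat_lit 37357]⟩)
 (.leaf ndMr7_26))
 (.node (nat_lit 575) (.leaf ⟨[nat_lit 0x3f06a698e34624f272a056d5e05d848b9026, nat_lit 0xeee2774360f138d760c953c8abb4d540a411, nat_lit 0xc333396464a43ad404cb53bccb20e1768449, nat_lit 0x665ca615d135a9e7b412064646692950b865], [nat_lit 73728, nat_lit 86016, nat_lit 102400, nat_lit 106496, nat_lit 110592, nat_lit 178176, nat_lit 173056, nat_lit 169472, nat_lit 165120, nat_lit 162048, nat_lit 156736, nat_lit 153760, nat_lit 147632, nat_lit 146824, nat_lit 140544, nat_lit 135310, nat_lit 131951, nat_lit 4016, nat_lit 6872, nat_lit 10264, nat_lit 14304, nat_lit 18144, nat_lit 20608, nat_lit 27904, nat_lit 32000, nat_lit 34304, nat_lit 37888, nat_lit 46841, nat_lit 43435, nat_lit 37267, nat_lit 33376, nat_lit 28936, nat_lit 24706, nat_lit 20511, nat_lit 16430, nat_lit 12321,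 nat_lit 8194, nat_lit 434185, nat_lit 425990, nat_lit 413700, nat_lit 405506, nat_lit 397312, nat_lit 155904, nat_lit 153088, nat_lit 148512, nat_lit 144896, nat_lit 139776, nat_lit 136828, nat_lit 132368, nat_lit 46349, nat_lit 28711, nat_lit 327680]⟩)
 (.leaf ndMr7_30))))

theorem dcME71_ok : dcME71.all (elB (nat_lit 0)) = true := by decide +kernel

def dcME72 : BT El := (.node (nat_lit 580) (.node (nat_lit 578) (.node (nat_lit 577) (.leaf ⟨[nat_lit 0x6fcf6675a331153253eab32201391b41b017, nat_lit 0xa3fcaf98d478564f5809129997459c90d1a2, nat_lit 0x35af0904d87490b6a29ee408758982dbca0b], [nat_lit 73728, nat_lit 77824, nat_lit 81920, nat_lit 90112, nat_lit 94208, nat_lit 98304, nat_lit 102400, nat_lit 106496, nat_lit 174080, nat_lit 171520, nat_lit 166656, nat_lit 162432, nat_lit 158272, nat_lit 154688, nat_lit 151328, nat_lit 146616, nat_lit 139820, nat_lit 137216, nat_lit 131691, nat_lit 144, nat_lit 5736, nat_lit 9136, nat_lit 14784, nat_lit 18464, nat_lit 23296, nat_lit 27776, nat_lit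 31488, nat_lit 35840, nat_lit 38912, nat_lit 46976, nat_lit 41962, nat_lit 37240, nat_lit 32855, nat_lit 29793, nat_lit 24891, nat_lit 20556, nat_lit 16392, nat_lit 12289, nat_lit 4225, nat_lit 8, nat_lit 430087, nat_lit 417796, nat_lit 405506, nat_lit 397312, nat_lit 160256, nat_lit 156288, nat_lit 147584, nat_lit 143488, nat_lit 139800, nat_lit 135880, nat_lit 131220, nat_lit 45062, nat_lit 41478, nat_lit 32917]⟩)
 (.leaf ndMr7_23))
 (.node (nat_lit 579) (.leaf ⟨[nat_lit 0xa36acc89c2875003b95e6ab2124cc8252db6, nat_lit 0xcfa39f0b9f06ac9648953ac477a150c91c06, nat_lit 0x66099f12ac882dc533e291b2ed382840cab3], [nat_lit 65536, nat_lit 69632, nat_lit 73728, nat_lit 86016, nat_lit 94208, nat_lit 98304, nat_lit 102400, nat_lit 106496, nat_lit 110592, nat_lit 178176, nat_lit 168960, nat_lit 167424, nat_lit 163456, nat_lit 157504, nat_lit 152096, nat_lit 148784, nat_lit 146184, nat_lit 142216, nat_lit 136238, nat_lit 131969, nat_lit 294, nat_lit 5632, nat_lit 12224, nat_lit 13680, nat_lit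 17952, nat_lit 20992, nat_lit 26496, nat_lit 31232, nat_lit 35328, nat_lit 38912, nat_lit 43008, nat_lit 46665, nat_lit 43596, nat_lit 38987, nat_lit 32944, nat_lit 28733, nat_lit 26678, nat_lit 20554, nat_lit 16419, nat_lit 12359, nat_lit 8208, nat_lit 4101, nat_lit 425991, nat_lit 413700, nat_lit 405506, nat_lit 397312, nat_lit 151808, nat_lit 147616, nat_lit 143520, nat_lit 135608, nat_lit 131230, nat_lit 45088, nat_lit 41235, nat_lit 37255, nat_lit 24629, nat_lit 327680]⟩)
 (.leaf ndMr8_22)))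
 (.node (nat_lit 582) (.node (nat_lit 581) (.leaf ⟨[nat_lit 0x7872742a289abccd1add2200379b1428c0f6, nat_lit 0xa535a9b8ace58d2f8d5078059232a93034a4, nat_lit 0xa039c0041e1a11438a5a8ab27658ae571e46, nat_lit 0x4e1812b926ca9df10880a58d092ba54b19b0], [nat_lit 77824, nat_lit 81920, nat_lit 86016, nat_lit 90112, nat_lit 94208, nat_lit 106496, nat_lit 178176, nat_lit 174080, nat_lit 170496, nat_lit 166400, nat_lit 163584, nat_lit 156544, nat_lit 155392, nat_lit 151312, nat_lit 146000, nat_lit 139936, nat_lit 137560, nat_lit 132254, nat_lit 3296, nat_lit 4976, nat_lit 8456, nat_lit 12560, nat_lit 16416, nat_lit 23296, nat_lit 25600, nat_lit 31488, nat_lit 34816, nat_lit 37888, nat_lit 46283, nat_lit 43351, nat_lit 37297, nat_lit 29285, nat_lit 24733, nat_lit 21004, nat_lit 16395, nat_lit 12293, nat_lit 4112, nat_lit 2, nat_lit 434184, nat_lit 421894, nat_lit 413700, nat_lit 405506, nat_lit 397312, nat_lit 160768, nat_lit 152640, nat_lit 148480, nat_lit 143472, nat_lit 140560, nat_lit 136256,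 nat_lit 132372, nat_lit 45541, nat_lit 36935, nat_lit 327680]⟩)
 (.leaf ndMr8_59))
 (.node (nat_lit 583) (.leaf ⟨[nat_lit 0xde2784309edb0e84044b283917ab26a3ad21, nat_lit 0x9933f5c5a2359cc200341c14fba0a999eb2, nat_lit 0xdbe8b77910ba09301aa568b4d301c2c2d6ee, nat_lit 0x9a69c65be93aa192bd8046b8a20c4f032869], [nat_lit 77824, nat_lit 81920, nat_lit 90112, nat_lit 98304, nat_lit 106496, nat_lit 178176, nat_lit 175104, nat_lit 166400, nat_lit 161408, nat_lit 158976, nat_lit 152416, nat_lit 151456, nat_lit 144720, nat_lit 141948, nat_lit 135834, nat_lit 134302, nat_lit 3996, nat_lit 5884, nat_lit 11648, nat_lit 15168, nat_lit 18592, nat_lit 21248, nat_lit 27904, nat_lit 29184, nat_lit 34304, nat_lit 38912, nat_lit 46260, nat_lit 43632, nat_lit 38160, nat_lit 33352, nat_lit 28970, nat_lit 24631, nat_lit 20559, nat_lit 16426, nat_lit 12295, nat_lit 8203, nat_lit 4105, nat_lit 8, nat_lit 438282, nat_lit 430088, nat_lit 421894, nat_lit 413700, nat_lit 405506, nat_lit 397312, nat_lit 174080, nat_lit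 169984, nat_lit 163072, nat_lit 157440, nat_lit 154880, nat_lit 149792, nat_lit 146096, nat_lit 141728, nat_lit 139024, nat_lit 133310]⟩)
 (.leaf ndMr9_52))))

theorem dcME72_ok : dcME72.all (elB (nat_lit 0)) = true := by decide +kernel

def dcME73 : BT El := (.node (nat_lit 588) (.node (nat_lit 586) (.node (nat_lit 585) (.leaf ⟨[nat_lit 0xc90a6418246d207654b34b86f5dae292a20, nat_lit 0x5fc6c01a50f14db2a59800b88685d453aeb1, nat_lit 0x3f09a90bda7058b49a1d5bb20a12cc991223, nat_lit 0xc0f6563868cbcec822a259356eabc6614009], [nat_lit 73728, nat_lit 86016, nat_lit 94208, nat_lit 106496, nat_lit 110592, nat_lit 178176, nat_lit 169984, nat_lit 164864, nat_lit 162176, nat_lit 158400, nat_lit 154144, nat_lit 151184, nat_lit 145944, nat_lit 142276, nat_lit 138490, nat_lit 133773, nat_lit 3572, nat_lit 5048, nat_lit 11312, nat_lit 13552, nat_lit 17216, nat_lit 22976, nat_lit 26752, nat_lit 29696, nat_lit 43008, nat_lit 46912, nat_lit 43735, nat_lit 37335, nat_lit 32937, nat_lit 29041, nat_lit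 24711, nat_lit 20505, nat_lit 16429, nat_lit 12295, nat_lit 8200, nat_lit 4097, nat_lit 2, nat_lit 438282, nat_lit 430088, nat_lit 421894, nat_lit 413700, nat_lit 405506, nat_lit 397312, nat_lit 174080, nat_lit 169984, nat_lit 164352, nat_lit 160256, nat_lit 156288, nat_lit 153088, nat_lit 150336, nat_lit 146208, nat_lit 139712, nat_lit 136168, nat_lit 133182, nat_lit 327680]⟩)
 (.leaf ndMr9_81))
 (.node (nat_lit 587) (.leaf ⟨[nat_lit 0x5565f589f251535bb584050670a1d199a16, nat_lit 0xfc9f59339a23d0157de088aecc5152324833], [nat_lit 73728, nat_lit 81920, nat_lit 90112, nat_lit 94208, nat_lit 102400, nat_lit 178176, nat_lit 171008, nat_lit 160384, nat_lit 155712, nat_lit 152352, nat_lit 149792, nat_lit 145488, nat_lit 139700, nat_lit 135682, nat_lit 134764, nat_lit 944, nat_lit 4968, nat_lit 8336, nat_lit 14448, nat_lit 17760, nat_lit 24064, nat_lit 24960, nat_lit 31488, nat_lit 36352, nat_lit 37888, nat_lit 43008, nat_lit 45278, nat_lit 41252, nat_lit 37081, nat_lit 32883, nat_lit 29191,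 nat_lit 24760, nat_lit 20568, nat_lit 16393, nat_lit 12311, nat_lit 8193, nat_lit 4104, nat_lit 421891, nat_lit 397312, nat_lit 143488, nat_lit 135296, nat_lit 131082, nat_lit 40968, nat_lit 36866, nat_lit 32907, nat_lit 20482, nat_lit 16386, nat_lit 8193, nat_lit 327680]⟩)
 (.leaf ndMr9_77)))
 (.node (nat_lit 590) (.node (nat_lit 589) (.leaf ⟨[nat_lit 0x9cf5f93c4d2a06c27b14b2ce04425ae00ef5, nat_lit 0x99f66022555098546b2e5946c77826870e0b, nat_lit 0xde72421958904ae26a0277cdd5a1a04b454b], [nat_lit 73728, nat_lit 86016, nat_lit 90112, nat_lit 102400, nat_lit 106496, nat_lit 171008, nat_lit 166400, nat_lit 162176, nat_lit 156864, nat_lit 152288, nat_lit 151072, nat_lit 147160, nat_lit 140944, nat_lit 137506, nat_lit 133854, nat_lit 3686, nat_lit 6568, nat_lit 12264, nat_lit 16160, nat_lit 16864, nat_lit 21824, nat_lit 26240, nat_lit 29696, nat_lit 34816, nat_lit 45484, nat_lit 41187, nat_lit 36872, nat_lit 32969, nat_lit 28755, nat_lit 24752, nat_lit 20487, nat_lit 16517, nat_lit 8193,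 nat_lit 4113, nat_lit 430086, nat_lit 413700, nat_lit 405506, nat_lit 397312, nat_lit 156160, nat_lit 152128, nat_lit 147552, nat_lit 143456, nat_lit 139808, nat_lit 131174, nat_lit 45059, nat_lit 41503, nat_lit 32776, nat_lit 327680]⟩)
 (.leaf ndMr9_75))
 (.node (nat_lit 591) (.leaf ⟨[nat_lit 0x905905a162860eb723846b41279066d53c0b, nat_lit 0xf3f6ca01ccf2ceab4c684132d79402e68d48, nat_lit 0x56336c6a93474ab3658e6102ef0acb040e24], [nat_lit 65536, nat_lit 69632, nat_lit 73728, nat_lit 77824, nat_lit 81920, nat_lit 102400, nat_lit 175104, nat_lit 166400, nat_lit 163584, nat_lit 157888, nat_lit 153504, nat_lit 148048, nat_lit 146920, nat_lit 140588, nat_lit 135488, nat_lit 134363, nat_lit 2728, nat_lit 5124, nat_lit 10616, nat_lit 14608, nat_lit 20032, nat_lit 23168, nat_lit 27136, nat_lit 29184, nat_lit 43008, nat_lit 47027, nat_lit 41440, nat_lit 39293, nat_lit 32935, nat_lit 29050, nat_lit 24765, nat_lit 20554, nat_lit 16392, nat_lit 12289, nat_lit 8321, nat_lit 4129, nat_lit 2, nat_lit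 434184, nat_lit 413700, nat_lit 405506, nat_lit 397312, nat_lit 164864, nat_lit 152576, nat_lit 148736, nat_lit 143392, nat_lit 140304, nat_lit 136220, nat_lit 131360, nat_lit 46389, nat_lit 37133, nat_lit 28673, nat_lit 24594]⟩)
 (.leaf ndMr9_113))))

theorem dcME73_ok : dcME73.all (elB (nat_lit 0)) = true := by decide +kernel

def dcME74 : BT El := (.node (nat_lit 596) (.node (nat_lit 594) (.node (nat_lit 593) (.leaf ⟨[nat_lit 0x242bed3da538bc08331d54c1a118897a28ab, nat_lit 0x2d2eb145af000933a942d8bd6c71283918ea, nat_lit 0xbb27de1c410614ef3348e986424d2eb55915], [nat_lit 77824, nat_lit 94208, nat_lit 106496, nat_lit 178176, nat_lit 171520, nat_lit 165632, nat_lit 160000, nat_lit 158720, nat_lit 151744, nat_lit 148592, nat_lit 144472, nat_lit 143084, nat_lit 138572, nat_lit 134969, nat_lit 446, nat_lit 7264, nat_lit 9560, nat_lit 15072, nat_lit 17408, nat_lit 23552, nat_lit 25856, nat_lit 32000, nat_lit 34816, nat_lit 43008, nat_lit 46065, nat_lit 41470, nat_lit 39003, nat_lit 32835,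 nat_lit 28751, nat_lit 20496, nat_lit 12290, nat_lit 8193, nat_lit 425991, nat_lit 417797, nat_lit 409602, nat_lit 397312, nat_lit 160000, nat_lit 155776, nat_lit 151808, nat_lit 147488, nat_lit 139280, nat_lit 135664, nat_lit 131570, nat_lit 45061, nat_lit 41088, nat_lit 37011, nat_lit 12290]⟩)
 (.leaf ndMr9_69))
 (.node (nat_lit 595) (.leaf ⟨[nat_lit 0x3550096a90b98ea57a58e012f03da21a08d2, nat_lit 0xd418b754cae208f543e46a0e114dc0bb3581, nat_lit 0xee2eddb542b3bef26d2664c6021b10e20145, nat_lit 0x99a359946607a0f610e013397462aa5226ed], [nat_lit 73728, nat_lit 81920, nat_lit 86016, nat_lit 94208, nat_lit 98304, nat_lit 102400, nat_lit 106496, nat_lit 178176, nat_lit 173056, nat_lit 169472, nat_lit 163072, nat_lit 157568, nat_lit 155616, nat_lit 149664, nat_lit 145952, nat_lit 141600, nat_lit 136106, nat_lit 131950, nat_lit 2030, nat_lit 4692, nat_lit 11296, nat_lit 12832, nat_lit 19776, nat_lit 24320, nat_lit 25216, nat_lit 29184, nat_lit 33792, nat_lit 39936, nat_lit 43008, nat_lit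 46374, nat_lit 43536, nat_lit 38321, nat_lit 32968, nat_lit 28959, nat_lit 24741, nat_lit 20550, nat_lit 16424, nat_lit 12305, nat_lit 8193, nat_lit 4160, nat_lit 4, nat_lit 438282, nat_lit 430088, nat_lit 421894, nat_lit 413700, nat_lit 405506, nat_lit 397312, nat_lit 174080, nat_lit 168960, nat_lit 164864, nat_lit 158848, nat_lit 154496, nat_lit 151232, nat_lit 145920, nat_lit 142776, nat_lit 137804, nat_lit 134140, nat_lit 327680]⟩)
 (.leaf ndMr9_85)))
 (.node (nat_lit 598) (.node (nat_lit 597) (.leaf ⟨[nat_lit 0x7714e89b46511191784d0700f2ba6d44554b, nat_lit 0x595a00896141cdcab2507006a658992bbda4, nat_lit 0x639c65650c13bc7554a1323816bb4454ad11, nat_lit 0xd7ddd80c04c75e56a1d2044dab50ea53122f], [nat_lit 65536, nat_lit 77824, nat_lit 86016, nat_lit 98304, nat_lit 106496, nat_lit 178176, nat_lit 174080, nat_lit 166656, nat_lit 160000, nat_lit 158080, nat_lit 151744, nat_lit 149872, nat_lit 144648, nat_lit 141612, nat_lit 136126, nat_lit 132367, nat_lit 870, nat_lit 5856, nat_lit 10112,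 nat_lit 14144, nat_lit 19296, nat_lit 22784, nat_lit 32000, nat_lit 34816, nat_lit 43008, nat_lit 46992, nat_lit 41103, nat_lit 37346, nat_lit 33447, nat_lit 29266, nat_lit 24833, nat_lit 20622, nat_lit 16424, nat_lit 12327, nat_lit 8211, nat_lit 4113, nat_lit 2, nat_lit 430088, nat_lit 421894, nat_lit 413700, nat_lit 405506, nat_lit 397312, nat_lit 164352, nat_lit 160256, nat_lit 156288, nat_lit 152064, nat_lit 147616, nat_lit 143920, nat_lit 139880, nat_lit 131566, nat_lit 45375, nat_lit 41949, nat_lit 327680]⟩)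
 (.leaf ndMr9_86))
 (.node (nat_lit 599) (.leaf ⟨[nat_lit 0x727e120d4e0615d7252534a0d683563129f1, nat_lit 0x60cf96790a25da2735e69032b48486e0b50a, nat_lit 0xa3fcaf3340a2169319de865e4eac52b80ac1, nat_lit 0x3a053fb28e2285376be4e8cd9058cd520114], [nat_lit 65536, nat_lit 90112, nat_lit 98304, nat_lit 110592, nat_lit 178176, nat_lit 171008, nat_lit 165120, nat_lit 160896, nat_lit 159104, nat_lit 152544, nat_lit 150384, nat_lit 144208, nat_lit 143196, nat_lit 136274, nat_lit 134927, nat_lit 2712, nat_lit 7132, nat_lit 9136, nat_lit 15744, nat_lit 19168, nat_lit 27392, nat_lit 32256, nat_lit 38912, nat_lit 46497, nat_lit 41976, nat_lit 38213, nat_lit 33896, nat_lit 28777, nat_lit 24725, nat_lit 20497, nat_lit 16398, nat_lit 12304, nat_lit 8202, nat_lit 4105, nat_lit 438280, nat_lit 421894, nat_lit 413700, nat_lit 405506, nat_lit 397312, nat_lit 160000, nat_lit 157696, nat_lit 151680, nat_lit 147744, nat_lit 145504, nat_lit 141800, nat_lit 137632, nat_lit 131304, nat_lit 41375, nat_lit 37082]⟩)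
 (.leaf ndMr9_60))))

theorem dcME74_ok : dcME74.all (elB (nat_lit 0)) = true := by decide +kernel


end

end CF.Mon
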