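import Cfsg.Agent.Mon.Dc
import Cfsg.Agent.Mon.NdM

set_option autoImplicit false
set_option maxRecDepth 100000

namespace CF.Mon

open CF.Comp

noncomputable section

def dcME75 : BT El := (.node (nat_lit 604) (.node (nat_lit 602) (.node (nat_lit 601) (.leaf ⟨[nat_lit 0x359ca3a4033329923ae2fb1444aa1236ddc0, nat_lit 0xbbbeb231dab74e0a622f505a440bc492d223, nat_lit 0x41d448a0dcb029b6891ec818412a2493d677, nat_lit 0x666ff3554f01ca6fa3ac1bae251250d01186], [nat_lit 65536, nat_lit 69632, nat_lit 73728, nat_lit 81920, nat_lit 90112, nat_lit 178176, nat_lit 170496, nat_lit 164096, nat_lit 163200, nat_lit 157504, nat_lit 153024, nat_lit 149808, nat_lit 146808, nat_lit 143316, nat_lit 138200, nat_lit 1396, nat_lit 7616, nat_lit 9184, nat_lit 14848, nat_lit 17952, nat_lit 23104, nat_lit 27392, nat_lit 29184, nat_lit 43008, nat_lit 46146, nat_lit 41009, nat_lit 37271, nat_lit 32817, nat_lit 28710, nat_lit 26651, nat_lit 20633, nat_lit 16431, nat_lit 12320, nat_lit 8201, nat_lit 438282, nat_lit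 430088, nat_lit 421894, nat_lit 413700, nat_lit 405506, nat_lit 397312, nat_lit 174080, nat_lit 164864, nat_lit 160768, nat_lit 158464, nat_lit 153600, nat_lit 149088, nat_lit 146608, nat_lit 141088, nat_lit 138396, nat_lit 134930]⟩)
 (.leaf ndMr9_57))
 (.node (nat_lit 603) (.leaf ⟨[nat_lit 0xb7d1eb15944856ef348ac3a2805b6690c46e, nat_lit 0xf3ca6f95a67ab0ce8810f208770c1a9a156a, nat_lit 0x7b2e889ac5019527ad00a63501b91d17cac6, nat_lit 0x9af05512d100b5933822623d34716caadc72], [nat_lit 69632, nat_lit 77824, nat_lit 81920, nat_lit 86016, nat_lit 90112, nat_lit 94208, nat_lit 98304, nat_lit 106496, nat_lit 110592, nat_lit 178176, nat_lit 174080, nat_lit 171520, nat_lit 167680, nat_lit 162176, nat_lit 158592, nat_lit 155232, nat_lit 147936, nat_lit 147080, nat_lit 141116, nat_lit 137688, nat_lit 134823, nat_lit 3074, nat_lit 4148, nat_lit 9576, nat_lit 15824, nat_lit 16640, nat_lit 23168, nat_lit 25472, nat_lit 29696, nat_lit 33280, nat_lit 37888, nat_lit 43008, nat_lit 46883, nat_lit 43514,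 nat_lit 36887, nat_lit 34987, nat_lit 28941, nat_lit 25623, nat_lit 16906, nat_lit 12291, nat_lit 8193, nat_lit 4097, nat_lit 2, nat_lit 438282, nat_lit 430088, nat_lit 421894, nat_lit 413700, nat_lit 405506, nat_lit 397312, nat_lit 164352, nat_lit 161536, nat_lit 159360, nat_lit 154496, nat_lit 148928, nat_lit 146576, nat_lit 141560, nat_lit 136456, nat_lit 134108]⟩)
 (.leaf ndMr9_110)))
 (.node (nat_lit 606) (.node (nat_lit 605) (.leaf ⟨[nat_lit 0x8d8e1d209e6646010296e448f5b9669a586d, nat_lit 0xc6593c945091dc36335c7154149c14b79584], [nat_lit 65536, nat_lit 69632, nat_lit 73728, nat_lit 86016, nat_lit 90112, nat_lit 102400, nat_lit 106496, nat_lit 110592, nat_lit 175104, nat_lit 171520, nat_lit 165376, nat_lit 162304, nat_lit 157568, nat_lit 154368, nat_lit 150592, nat_lit 143960, nat_lit 142496, nat_lit 139256, nat_lit 133030, nat_lit 1098, nat_lit 5320, nat_lit 11376, nat_lit 15424, nat_lit 19104, nat_lit 24256, nat_lit 27008, nat_lit 37888, nat_lit 46796, nat_lit 41636, nat_lit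 38344, nat_lit 33008, nat_lit 29040, nat_lit 24616, nat_lit 20489, nat_lit 16642, nat_lit 12291, nat_lit 8195, nat_lit 4, nat_lit 430084, nat_lit 397312, nat_lit 135696, nat_lit 131584, nat_lit 41491, nat_lit 28688, nat_lit 20496, nat_lit 12290, nat_lit 8193, nat_lit 327680]⟩)
 (.leaf ndMr9_61))
 (.node (nat_lit 607) (.leaf ⟨[nat_lit 0x3af5cf6a8202de2311ad05ce4f71127452ac, nat_lit 0x18bd1db48022052f81cb540ccea4d8d55d71, nat_lit 0xa5a3ca510f06947612e41721f19dd34302ac, nat_lit 0x48124e026f32a96ea999408cef9448db2202], [nat_lit 65536, nat_lit 77824, nat_lit 90112, nat_lit 94208, nat_lit 98304, nat_lit 102400, nat_lit 110592, nat_lit 178176, nat_lit 175104, nat_lit 171520, nat_lit 167424, nat_lit 161664, nat_lit 156480, nat_lit 151584, nat_lit 151392, nat_lit 143368, nat_lit 140816, nat_lit 136274, nat_lit 133725, nat_lit 1598, nat_lit 7952, nat_lit 10640, nat_lit 13616, nat_lit 18208, nat_lit 23936, nat_lit 27776, nat_lit 32256, nat_lit 35328, nat_lit 39936, nat_lit 46925, nat_lit 43833,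 nat_lit 39157, nat_lit 32960, nat_lit 28761, nat_lit 24729, nat_lit 21017, nat_lit 16518, nat_lit 12308, nat_lit 8193, nat_lit 4, nat_lit 438282, nat_lit 430088, nat_lit 421894, nat_lit 413700, nat_lit 405506, nat_lit 397312, nat_lit 174080, nat_lit 169984, nat_lit 166400, nat_lit 161024, nat_lit 156416, nat_lit 152768, nat_lit 151392, nat_lit 144400, nat_lit 140200, nat_lit 138796, nat_lit 133218, nat_lit 327680]⟩)
 (.leaf ndMr9_96))))

theorem dcME75_ok : dcME75.all (elB (nat_lit 0)) = true := by decide +kernel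

def dcME76 : BT El := (.node (nat_lit 612) (.node (nat_lit 610) (.node (nat_lit 609) (.leaf ⟨[nat_lit 0x774e21a84c83d8092919310e2d7aa0b95dd4, nat_lit 0xcf90ca22d50ba00da8d2e63cb389ad491c41, nat_lit 0x5669a55222e034531dd6623cf0a5a4ca8525], [nat_lit 65536, nat_lit 69632, nat_lit 73728, nat_lit 77824, nat_lit 90112, nat_lit 94208, nat_lit 102400, nat_lit 106496, nat_lit 110592, nat_lit 168960, nat_lit 164864, nat_lit 161280, nat_lit 156800, nat_lit 152576, nat_lit 151200, nat_lit 146648, nat_lit 142340, nat_lit 135326, nat_lit 132493, nat_lit 90, nat_lit 6828, nat_lit 9984, nat_lit 13264, nat_lit 17952, nat_lit 24256, nat_lit 27392, nat_lit 30720, nat_lit 46690, nat_lit 43945, nat_lit 37250, nat_lit 32988, nat_lit 28710, nat_lit 24598, nat_lit 20621, nat_lit 16394, nat_lit 12310, nat_lit 8201, nat_lit 4, nat_lit 421894, nat_lit 413700, nat_lit 405506, nat_lit 397312, nat_lit 151680, nat_lit 147616, nat_lit 139328, nat_lit 135336, nat_lit 131192, nat_lit 45296, nat_lit 40968, nat_lit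 37051, nat_lit 32864, nat_lit 327680]⟩)
 (.leaf ndMr9_65))
 (.node (nat_lit 611) (.leaf ⟨[nat_lit 0xd11bd1bbcca98230904624d5c74508c69576, nat_lit 0x509cf95cc5183ae4304aaa9db24bc0cb5103, nat_lit 0xf5303ca9deab150c5d08d339370062294263, nat_lit 0x481dbe804d52c6805bd4891076b9c53625ae], [nat_lit 65536, nat_lit 69632, nat_lit 73728, nat_lit 77824, nat_lit 81920, nat_lit 86016, nat_lit 90112, nat_lit 94208, nat_lit 102400, nat_lit 110592, nat_lit 169984, nat_lit 165632, nat_lit 160256, nat_lit 159616, nat_lit 155456, nat_lit 150368, nat_lit 147216, nat_lit 139644, nat_lit 137810, nat_lit 134153, nat_lit 3768, nat_lit 5964, nat_lit 12136, nat_lit 14176, nat_lit 19872, nat_lit 22528, nat_lit 26880, nat_lit 29440, nat_lit 43008, nat_lit 46311, nat_lit 43736, nat_lit 38153, nat_lit 32827, nat_lit 30831, nat_lit 24629, nat_lit 20503, nat_lit 16420, nat_lit 12422, nat_lit 8201, nat_lit 4101, nat_lit 434185, nat_lit 425990, nat_lit 413700, nat_lit 405506, nat_lit 397312, nat_lit 156416, nat_lit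 152064, nat_lit 147520, nat_lit 144416, nat_lit 139328, nat_lit 135284, nat_lit 131912, nat_lit 46428, nat_lit 28790]⟩)
 (.leaf ndMr9_107)))
 (.node (nat_lit 614) (.node (nat_lit 613) (.leaf ⟨[nat_lit 0x33cc36baa51a18a900acb704f36a1f51c184, nat_lit 0x3f935aca090283714d8488da5759e83acd4, nat_lit 0x65f6512a6f741215dce8016c3ab1a694684, nat_lit 0xa00a6a2a567756cd410ca0443280e62a5d8f], [nat_lit 73728, nat_lit 77824, nat_lit 94208, nat_lit 98304, nat_lit 102400, nat_lit 110592, nat_lit 178176, nat_lit 173056, nat_lit 171520, nat_lit 164608, nat_lit 162944, nat_lit 155712, nat_lit 154848, nat_lit 148032, nat_lit 146608, nat_lit 142160, nat_lit 138200, nat_lit 131984, nat_lit 4018, nat_lit 6872, nat_lit 8344, nat_lit 14704, nat_lit 19744, nat_lit 22592, nat_lit 25344, nat_lit 29184, nat_lit 33792, nat_lit 38912, nat_lit 43008, nat_lit 46942, nat_lit 41458, nat_lit 39045, nat_lit 32822, nat_lit 29250, nat_lit 25131, nat_lit 20566, nat_lit 16451, nat_lit 12421, nat_lit 8203, nat_lit 4097,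 nat_lit 2, nat_lit 438282, nat_lit 430088, nat_lit 421894, nat_lit 413700, nat_lit 405506, nat_lit 397312, nat_lit 174080, nat_lit 168960, nat_lit 166400, nat_lit 163584, nat_lit 155776, nat_lit 150208, nat_lit 146336, nat_lit 142448, nat_lit 136280, nat_lit 133092, nat_lit 327680]⟩)
 (.leaf ndMr9_79))
 (.node (nat_lit 615) (.leaf ⟨[nat_lit 0x63395312ab45c26095d8731029896cd78dc8, nat_lit 0x22b8221d5160b1cba49a7b99f38c140490a2, nat_lit 0x5f93f92ae8030936238f0bb6b21866c7a151, nat_lit 0x9f3f993a27423c654ac0d65ec13455514a0e], [nat_lit 65536, nat_lit 69632, nat_lit 73728, nat_lit 77824, nat_lit 90112, nat_lit 94208, nat_lit 106496, nat_lit 110592, nat_lit 178176, nat_lit 173056, nat_lit 167168, nat_lit 161280, nat_lit 158208, nat_lit 151808, nat_lit 149984, nat_lit 144728, nat_lit 140716, nat_lit 138138, nat_lit 132439, nat_lit 978, nat_lit 6796, nat_lit 9128, nat_lit 14880, nat_lit 19488, nat_lit 23168, nat_lit 28032, nat_lit 29440, nat_lit 36352, nat_lit 38912, nat_lit 46243, nat_lit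 41888, nat_lit 37992, nat_lit 33460, nat_lit 29284, nat_lit 24608, nat_lit 20567, nat_lit 16416, nat_lit 12290, nat_lit 8209, nat_lit 438281, nat_lit 425990, nat_lit 413700, nat_lit 405506, nat_lit 397312, nat_lit 164352, nat_lit 158464, nat_lit 151872, nat_lit 147552, nat_lit 143888, nat_lit 139832, nat_lit 135264, nat_lit 131704, nat_lit 41320, nat_lit 28764, nat_lit 327680]⟩)
 (.leaf ndMr9_76))))

theorem dcME76_ok : dcME76.all (elB (nat_lit 0)) = true := by decide +kernel

def dcME77 : BT El := (.node (nat_lit 620) (.node (nat_lit 618) (.node (nat_lit 617) (.leaf ⟨[nat_lit 0xbb282e9d9495904d438672c2a6bb24f05221, nat_lit 0xb77b2d3b0c8900b4add6d83d3353841b0c91, nat_lit 0xaf5f5c54aa28c0ceb2261595e961e9720da0], [nat_lit 65536, nat_lit 73728, nat_lit 106496, nat_lit 110592, nat_lit 174080, nat_lit 168448, nat_lit 167680, nat_lit 162688, nat_lit 158848, nat_lit 152864, nat_lit 150656, nat_lit 145256, nat_lit 141240, nat_lit 138646, nat_lit 131745, nat_lit 2984, nat_lit 6596, nat_lit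 11528, nat_lit 13104, nat_lit 19584, nat_lit 22592, nat_lit 27392, nat_lit 31744, nat_lit 33792, nat_lit 43008, nat_lit 45311, nat_lit 41771, nat_lit 37044, nat_lit 33939, nat_lit 28945, nat_lit 26661, nat_lit 20485, nat_lit 16451, nat_lit 12305, nat_lit 8193, nat_lit 421894, nat_lit 413700, nat_lit 405506, nat_lit 397312, nat_lit 155776, nat_lit 147552, nat_lit 143600, nat_lit 139464, nat_lit 135392, nat_lit 131298, nat_lit 45299, nat_lit 41070, nat_lit 37021, nat_lit 33000, nat_lit 327680]⟩)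
 (.leaf ndMr9_116))
 (.node (nat_lit 619) (.leaf ⟨[nat_lit 0x99066f806ac6992e44a275929751462b01f3, nat_lit 0x6a96c99066375a8f229255a0e6636b714220], [nat_lit 69632, nat_lit 73728, nat_lit 81920, nat_lit 86016, nat_lit 90112, nat_lit 171008, nat_lit 165120, nat_lit 160512, nat_lit 155776, nat_lit 155328, nat_lit 147968, nat_lit 144824, nat_lit 142720, nat_lit 136392, nat_lit 132077, nat_lit 982, nat_lit 5228, nat_lit 11800, nat_lit 14192, nat_lit 16928, nat_lit 23232, nat_lit 26752, nat_lit 30976, nat_lit 35840, nat_lit 37888, nat_lit 43008, nat_lit 46361, nat_lit 41497, nat_lit 37988, nat_lit 34990, nat_lit 29020, nat_lit 24751, nat_lit 20499, nat_lit 16390, nat_lit 12417, nat_lit 8194, nat_lit 4100, nat_lit 32, nat_lit 425990, nat_lit 397312, nat_lit 131392, nat_lit 41024, nat_lit 20481, nat_lit 12289, nat_lit 8194]⟩)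
 (.leaf ndMr9_99)))
 (.node (nat_lit 622) (.node (nat_lit 621) (.leaf ⟨[nat_lit 0x3369ffb8e45434c4386905ce2f53ab660920, nat_lit 0xb71d415d4948a4b3832e175852180c879d4d, nat_lit 0x4b28de05a8579c2d85d8a325621c64475668], [nat_lit 73728, nat_lit 81920, nat_lit 86016, nat_lit 90112, nat_lit 94208, nat_lit 106496, nat_lit 110592, nat_lit 178176, nat_lit 174080, nat_lit 171008, nat_lit 160128, nat_lit 155840, nat_lit 154304, nat_lit 148864, nat_lit 146024, nat_lit 141624, nat_lit 136408, nat_lit 132549, nat_lit 3252, nat_lit 4896, nat_lit 8776, nat_lit 13712, nat_lit 17248, nat_lit 24064, nat_lit 26624, nat_lit 29696, nat_lit 34304, nat_lit 39936, nat_lit 46905, nat_lit 41728, nat_lit 37339, nat_lit 33496, nat_lit 29299, nat_lit 24617, nat_lit 20562, nat_lit 16431, nat_lit 12290, nat_lit 8208, nat_lit 425991, nat_lit 417796, nat_lit 405506, nat_lit 397312, nat_lit 147584, nat_lit 143696, nat_lit 139728, nat_lit 135384, nat_lit 131144, nat_lit 45274, nat_lit 41088, nat_lit 37120, nat_lit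 20496, nat_lit 327680]⟩)
 (.leaf ndMr9_82))
 (.node (nat_lit 623) (.leaf ⟨[nat_lit 0xdb42712dd33219e25a9c00c5901da8d922a7, nat_lit 0x12b17bb24c76514d8088ebae717c8a302035, nat_lit 0x900333bb28ba8490438023a5e59c54d1cac6], [nat_lit 65536, nat_lit 69632, nat_lit 73728, nat_lit 90112, nat_lit 102400, nat_lit 110592, nat_lit 174080, nat_lit 168960, nat_lit 167168, nat_lit 161408, nat_lit 158912, nat_lit 155168, nat_lit 150608, nat_lit 144784, nat_lit 141028, nat_lit 138654, nat_lit 134704, nat_lit 2246, nat_lit 6208, nat_lit 8888, nat_lit 12768, nat_lit 18240, nat_lit 22528, nat_lit 26752, nat_lit 32512, nat_lit 35328, nat_lit 39936, nat_lit 46936, nat_lit 41455, nat_lit 39200, nat_lit 32951, nat_lit 28981, nat_lit 24600, nat_lit 20489, nat_lit 16452, nat_lit 12304, nat_lit 8202, nat_lit 4100, nat_lit 32, nat_lit 430088, nat_lit 421893, nat_lit 409602, nat_lit 397312, nat_lit 160000, nat_lit 152448, nat_lit 147872, nat_lit 140032, nat_lit 135988, nat_lit 131328, nat_lit 45216, nat_lit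 41124, nat_lit 24627, nat_lit 327680]⟩)
 (.leaf ndMr9_51))))

theorem dcME77_ok : dcME77.all (elB (nat_lit 0)) = true := by decide +kernel

def dcME78 : BT El := (.node (nat_lit 628) (.node (nat_lit 626) (.node (nat_lit 625) (.leaf ⟨[nat_lit 0x2888e174a211b0a63aa77121eb24289b3415, nat_lit 0x7e7727658867028190945aade9bb6131c507, nat_lit 0x5f6cf93562f6200e834f6b8a8b4cc321a885], [nat_lit 86016, nat_lit 90112, nat_lit 94208, nat_lit 98304, nat_lit 106496, nat_lit 110592, nat_lit 178176, nat_lit 173056, nat_lit 169472, nat_lit 166912, nat_lit 161152, nat_lit 159232, nat_lit 154016, nat_lit 149792, nat_lit 143544, nat_lit 142868, nat_lit 138842, nat_lit 132996, nat_lit 1316, nat_lit 7208, nat_lit 10608, nat_lit 15088, nat_lit 18432, nat_lit 21184, nat_lit 29696, nat_lit 33792, nat_lit 37888, nat_lit 43008, nat_lit 45606, nat_lit 41016, nat_lit 37114, nat_lit 32939, nat_lit 28675, nat_lit 24632, nat_lit 20482, nat_lit 16392, nat_lit 12295, nat_lit 8201, nat_lit 8, nat_lit 425991, nat_lit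 417797, nat_lit 409603, nat_lit 397312, nat_lit 160000, nat_lit 156032, nat_lit 151936, nat_lit 143568, nat_lit 135664, nat_lit 131568, nat_lit 45059, nat_lit 41368, nat_lit 37091, nat_lit 8195, nat_lit 327680]⟩)
 (.leaf ndMr9_93))
 (.node (nat_lit 627) (.leaf ⟨[nat_lit 0x47b887b550f0096d2b1474c24e1ccd7a0491, nat_lit 0x699ff388ed5724d49098f40150bada439433, nat_lit 0x77d7b2102501c66129ed56b96935c94629e8], [nat_lit 65536, nat_lit 69632, nat_lit 81920, nat_lit 86016, nat_lit 98304, nat_lit 102400, nat_lit 178176, nat_lit 175104, nat_lit 168960, nat_lit 167424, nat_lit 162944, nat_lit 156160, nat_lit 154368, nat_lit 148112, nat_lit 144376, nat_lit 141204, nat_lit 135320, nat_lit 133281, nat_lit 2540, nat_lit 6324, nat_lit 10616, nat_lit 13280, nat_lit 18432, nat_lit 24256, nat_lit 24704, nat_lit 30720, nat_lit 33792, nat_lit 38912, nat_lit 47026, nat_lit 41900, nat_lit 36996, nat_lit 32965, nat_lit 28741, nat_lit 24724, nat_lit 21517, nat_lit 16457, nat_lit 12311, nat_lit 4104, nat_lit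 421894, nat_lit 413700, nat_lit 405506, nat_lit 397312, nat_lit 151744, nat_lit 147552, nat_lit 143472, nat_lit 135328, nat_lit 131076, nat_lit 45061, nat_lit 41158, nat_lit 37116, nat_lit 32814, nat_lit 327680]⟩)
 (.leaf ndMr9_73)))
 (.node (nat_lit 630) (.node (nat_lit 629) (.leaf ⟨[nat_lit 0xf5a6a04b4ea8966fa89105c87770480a32c6, nat_lit 0x63365c519cc11c28a2ea51c1f695da09a491, nat_lit 0x28222781a4253a352a501a5c80b2e6f1b1a7, nat_lit 0x6909901b43411d534c8c0646d045deb238b5], [nat_lit 69632, nat_lit 73728, nat_lit 77824, nat_lit 86016, nat_lit 94208, nat_lit 98304, nat_lit 102400, nat_lit 106496, nat_lit 173056, nat_lit 168448, nat_lit 166144, nat_lit 160128, nat_lit 158272, nat_lit 153408, nat_lit 151280, nat_lit 143368, nat_lit 140772, nat_lit 137670, nat_lit 134272, nat_lit 2116, nat_lit 4928, nat_lit 9616, nat_lit 15472, nat_lit 19072, nat_lit 22848, nat_lit 25216, nat_lit 29440, nat_lit 33280, nat_lit 38912, nat_lit 43008, nat_lit 46949, nat_lit 43750, nat_lit 37123, nat_lit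 32862, nat_lit 28738, nat_lit 24626, nat_lit 20552, nat_lit 16395, nat_lit 12294, nat_lit 4104, nat_lit 430088, nat_lit 421894, nat_lit 413700, nat_lit 405506, nat_lit 397312, nat_lit 160000, nat_lit 152000, nat_lit 147712, nat_lit 144064, nat_lit 140048, nat_lit 135956, nat_lit 131352, nat_lit 45061, nat_lit 40961]⟩)
 (.leaf ndMr9_90))
 (.node (nat_lit 631) (.leaf ⟨[nat_lit 0x33aab01070a4d5151449be51b946b6360e, nat_lit 0xa950a0c22c9a6e5029cb79882448f51d1b6, nat_lit 0xc05c6f6b14973d6814a2198c10a90b7a58c7], [nat_lit 65536, nat_lit 69632, nat_lit 73728, nat_lit 86016, nat_lit 90112, nat_lit 94208, nat_lit 98304, nat_lit 168960, nat_lit 166656, nat_lit 162816, nat_lit 155776, nat_lit 154080, nat_lit 150592, nat_lit 147136, nat_lit 140700, nat_lit 136642, nat_lit 132134, nat_lit 496, nat_lit 6880, nat_lit 10288, nat_lit 14752, nat_lit 17888, nat_lit 23424, nat_lit 27008, nat_lit 29184, nat_lit 39936, nat_lit 43008, nat_lit 46612, nat_lit 43015, nat_lit 37358, nat_lit 32790, nat_lit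 29310, nat_lit 24616, nat_lit 20511, nat_lit 16388, nat_lit 8210, nat_lit 4097, nat_lit 2, nat_lit 425991, nat_lit 417797, nat_lit 405506, nat_lit 397312, nat_lit 156032, nat_lit 151680, nat_lit 143552, nat_lit 139560, nat_lit 135268, nat_lit 131150, nat_lit 45294, nat_lit 41069, nat_lit 37038, nat_lit 16392, nat_lit 327680]⟩)
 (.leaf ndMr9_63))))

theorem dcME78_ok : dcME78.all (elB (nat_lit 0)) = true := by decide +kernel

def dcME79 : BT El := (.node (nat_lit 636) (.node (nat_lit 634) (.node (nat_lit 633) (.leaf ⟨[nat_lit 0xcf09a60b88568eb43c91685cca6256203e71, nat_lit 0xdbdb1d91ae860a71859472346503d2ba868e, nat_lit 0x90560a75c6750a0069ac1a557393d8822625], [nat_lit 73728, nat_lit 90112, nat_lit 98304, nat_lit 110592, nat_lit 178176, nat_lit 174080, nat_lit 169472, nat_lit 160512, nat_lit 157632, nat_lit 154112, nat_lit 150992, nat_lit 146400, nat_lit 139592, nat_lit 136442, nat_lit 132617, nat_lit 810, nat_lit 4400, nat_lit 8616, nat_lit 14032, nat_lit 18592, nat_lit 23104, nat_lit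 25600, nat_lit 30720, nat_lit 35840, nat_lit 38912, nat_lit 46958, nat_lit 41270, nat_lit 36888, nat_lit 33002, nat_lit 28980, nat_lit 24704, nat_lit 20760, nat_lit 16390, nat_lit 12292, nat_lit 4097, nat_lit 425991, nat_lit 413700, nat_lit 405506, nat_lit 397312, nat_lit 143632, nat_lit 139416, nat_lit 135588, nat_lit 131334, nat_lit 45065, nat_lit 41366, nat_lit 36875, nat_lit 24585, nat_lit 327680]⟩)
 (.leaf ndMr9_115))
 (.node (nat_lit 635) (.leaf ⟨[nat_lit 0xf0cca573cc0b4d2d80647a5ca322962622b1], [nat_lit 69632, nat_lit 77824, nat_lit 90112, nat_lit 110592, nat_lit 178176, nat_lit 175104, nat_lit 169472, nat_lit 162944, nat_lit 155968, nat_lit 152576, nat_lit 147680, nat_lit 145600, nat_lit 139744, nat_lit 137252, nat_lit 134145, nat_lit 2126, nat_lit 8080, nat_lit 10152, nat_lit 16032, nat_lit 16736, nat_lit 21440, nat_lit 27904, nat_lit 29952, nat_lit 34816, nat_lit 38912, nat_lit 43008, nat_lit 41620, nat_lit 37375, nat_lit 33430, nat_lit 29268, nat_lit 24594, nat_lit 20637,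 nat_lit 16427, nat_lit 12306, nat_lit 8202, nat_lit 4105, nat_lit 327680]⟩)
 (.leaf ndMr9_83)))
 (.node (nat_lit 638) (.node (nat_lit 637) (.leaf ⟨[nat_lit 0x48b888ac4456da8a84d0f498ec0dc9203963, nat_lit 0x8882747d4c2bd22b82460220f29b1aa285d6, nat_lit 0xb848778949451d816de0faa66b0487671902, nat_lit 0x7827b2b5092196204a0d3536e179d905d5c2], [nat_lit 73728, nat_lit 77824, nat_lit 106496, nat_lit 173056, nat_lit 168448, nat_lit 164864, nat_lit 159872, nat_lit 155968, nat_lit 151712, nat_lit 148464, nat_lit 144120, nat_lit 142532, nat_lit 135810, nat_lit 132562, nat_lit 1216, nat_lit 5448, nat_lit 10104, nat_lit 13008, nat_lit 18464, nat_lit 23232, nat_lit 25344, nat_lit 28928, nat_lit 34816, nat_lit 38912, nat_lit 46915, nat_lit 41229, nat_lit 36959, nat_lit 33937, nat_lit 29025, nat_lit 24608, nat_lit 20489, nat_lit 16512, nat_lit 12308, nat_lit 8209, nat_lit 4097, nat_lit 438281, nat_lit 421894, nat_lit 413700, nat_lit 405506, nat_lit 397312, nat_lit 160256, nat_lit 158208, nat_lit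 152064, nat_lit 147968, nat_lit 145472, nat_lit 141384, nat_lit 135876, nat_lit 131212, nat_lit 41070, nat_lit 32855]⟩)
 (.leaf ndMr9_80))
 (.node (nat_lit 639) (.leaf ⟨[nat_lit 0xe8d47175ea25854d03e7260c863da28824b4, nat_lit 0xdb2bed752054058f3ac8050e33b48cd126b7, nat_lit 0xee1d88228d10c8089b989a8caf5da9038aed], [nat_lit 69632, nat_lit 73728, nat_lit 81920, nat_lit 86016, nat_lit 90112, nat_lit 98304, nat_lit 106496, nat_lit 178176, nat_lit 174080, nat_lit 165632, nat_lit 161920, nat_lit 159488, nat_lit 155296, nat_lit 148544, nat_lit 145704, nat_lit 142984, nat_lit 138796, nat_lit 134049, nat_lit 3682, nat_lit 5460, nat_lit 9736, nat_lit 14880, nat_lit 19680, nat_lit 23488, nat_lit 25472, nat_lit 29696, nat_lit 36352, nat_lit 46983, nat_lit 41021, nat_lit 39264, nat_lit 32819, nat_lit 28702, nat_lit 25096, nat_lit 20511, nat_lit 16421, nat_lit 12295, nat_lit 8195, nat_lit 4097, nat_lit 430088, nat_lit 421892, nat_lit 405506, nat_lit 397312, nat_lit 164352, nat_lit 143872, nat_lit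 140032, nat_lit 135196, nat_lit 131082, nat_lit 45313, nat_lit 41751, nat_lit 24591, nat_lit 20496]⟩)
 (.leaf ndMr9_68))))

theorem dcME79_ok : dcME79.all (elB (nat_lit 0)) = true := by decide +kernel

def dcME80 : BT El := (.node (nat_lit 644) (.node (nat_lit 642) (.node (nat_lit 641) (.leaf ⟨[nat_lit 0xa5a3357d6472190254263a162eb06eb6240d, nat_lit 0x3a5ff64dc548b0969ae41740b538cc8501af, nat_lit 0xf3605673569252e629ed5984717a98890050], [nat_lit 81920, nat_lit 90112, nat_lit 98304, nat_lit 110592, nat_lit 174080, nat_lit 169984, nat_lit 164864, nat_lit 161408, nat_lit 159040, nat_lit 151936, nat_lit 150064, nat_lit 147024, nat_lit 140900, nat_lit 137122, nat_lit 131697, nat_lit 158, nat_lit 6084, nat_lit 10368, nat_lit 14064, nat_lit 16832, nat_lit 22848, nat_lit 25728, nat_lit 29440, nat_lit 36352, nat_lit 39936, nat_lit 45413, nat_lit 41604, nat_lit 37941, nat_lit 32872, nat_lit 28677, nat_lit 24856, nat_lit 20559, nat_lit 16398, nat_lit 12308, nat_lit 8194, nat_lit 32, nat_lit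 421894, nat_lit 413700, nat_lit 405506, nat_lit 397312, nat_lit 155776, nat_lit 151616, nat_lit 147616, nat_lit 143536, nat_lit 139320, nat_lit 135336, nat_lit 131132, nat_lit 45276, nat_lit 41205, nat_lit 36879, nat_lit 32817]⟩)
 (.leaf ndMr3_13))
 (.node (nat_lit 643) (.leaf ⟨[nat_lit 0xbbeb74bd55480da6648475d9287cca174404], [nat_lit 77824, nat_lit 102400, nat_lit 178176, nat_lit 175104, nat_lit 168448, nat_lit 165888, nat_lit 162048, nat_lit 157888, nat_lit 153920, nat_lit 147520, nat_lit 143728, nat_lit 141336, nat_lit 138340, nat_lit 133329, nat_lit 16, nat_lit 6160, nat_lit 11696, nat_lit 14848, nat_lit 18944, nat_lit 20992, nat_lit 25088, nat_lit 29184, nat_lit 33280, nat_lit 37888, nat_lit 41463, nat_lit 36933, nat_lit 32776, nat_lit 28680, nat_lit 25101, nat_lit 20488, nat_lit 16394, nat_lit 12292, nat_lit 8200, nat_lit 4113, nat_lit 2]⟩)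
 (.leaf ⟨[nat_lit 0x930af6bd514905c67c0074d96a644a36cc44], [nat_lit 65536, nat_lit 73728, nat_lit 77824, nat_lit 81920, nat_lit 86016, nat_lit 94208, nat_lit 98304, nat_lit 106496, nat_lit 173056, nat_lit 171520, nat_lit 163584, nat_lit 159104, nat_lit 153888, nat_lit 148672, nat_lit 145936, nat_lit 143092, nat_lit 136664, nat_lit 131773, nat_lit 2654, nat_lit 6148, nat_lit 10256, nat_lit 13216, nat_lit 19360, nat_lit 21504, nat_lit 24832, nat_lit 29696, nat_lit 34304, nat_lit 38912, nat_lit 43008, nat_lit 41910, nat_lit 38308, nat_lit 33003, nat_lit 29021, nat_lit 24861, nat_lit 20544, nat_lit 16398, nat_lit 12311, nat_lit 8195, nat_lit 4]⟩)))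
 (.node (nat_lit 646) (.node (nat_lit 645) (.leaf ⟨[nat_lit 0xd18242baeb48048c70e6752516680b23444f], [nat_lit 73728, nat_lit 81920, nat_lit 86016, nat_lit 102400, nat_lit 173056, nat_lit 171520, nat_lit 167168, nat_lit 161664, nat_lit 159616, nat_lit 154720, nat_lit 148672, nat_lit 143728, nat_lit 141896, nat_lit 136018, nat_lit 134246, nat_lit 1488, nat_lit 6148, nat_lit 10752, nat_lit 13616, nat_lit 16960, nat_lit 23040, nat_lit 26112, nat_lit 29184, nat_lit 35840, nat_lit 37888, nat_lit 41879, nat_lit 36950, nat_lit 33928, nat_lit 28678, nat_lit 25114, nat_lit 20486, nat_lit 16649, nat_lit 12354, nat_lit 8194, nat_lit 256]⟩)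
 (.leaf ⟨[nat_lit 0x28bbb4ba6b43019323e435d948140ae884ed], [nat_lit 81920, nat_lit 86016, nat_lit 90112, nat_lit 178176, nat_lit 175104, nat_lit 171520, nat_lit 165120, nat_lit 159872, nat_lit 156544, nat_lit 154944, nat_lit 148032, nat_lit 144304, nat_lit 139728, nat_lit 138764, nat_lit 132585, nat_lit 2542, nat_lit 5276, nat_lit 8680, nat_lit 15440, nat_lit 20320, nat_lit 20992, nat_lit 27008, nat_lit 31232, nat_lit 35328, nat_lit 39936, nat_lit 41939, nat_lit 37986, nat_lit 32787, nat_lit 28691, nat_lit 25633, nat_lit 20499, nat_lit 16399, nat_lit 12308, nat_lit 8193, nat_lit 4, nat_lit 327680]⟩))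
 (.node (nat_lit 647) (.leaf ⟨[nat_lit 0x690660a59378904c33c304297598cad71e40], [nat_lit 73728, nat_lit 77824, nat_lit 86016, nat_lit 94208, nat_lit 106496, nat_lit 173056, nat_lit 168448, nat_lit 165632, nat_lit 160768, nat_lit 158144, nat_lit 153280, nat_lit 150784, nat_lit 144736, nat_lit 139992, nat_lit 135694, nat_lit 131923, nat_lit 16, nat_lit 5260, nat_lit 10160, nat_lit 13888, nat_lit 24128, nat_lit 25472, nat_lit 30720, nat_lit 35328, nat_lit 38912, nat_lit 41944, nat_lit 36964, nat_lit 32927, nat_lit 28688, nat_lit 24610, nat_lit 20551, nat_lit 16397, nat_lit 12305, nat_lit 8203, nat_lit 4101, nat_lit 327680]⟩)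
 (.leaf ⟨[nat_lit 0x2877e1ba5547b402990f045576348b160c2e], [nat_lit 65536, nat_lit 69632, nat_lit 73728, nat_lit 77824, nat_lit 86016, nat_lit 98304, nat_lit 174080, nat_lit 170496, nat_lit 167168, nat_lit 161536, nat_lit 154880, nat_lit 150736, nat_lit 147192, nat_lit 142032, nat_lit 138398, nat_lit 132862, nat_lit 3672, nat_lit 8116, nat_lit 12216, nat_lit 15488, nat_lit 16672, nat_lit 23680, nat_lit 27136, nat_lit 31232, nat_lit 34304, nat_lit 38912, nat_lit 41613, nat_lit 38265, nat_lit 33304, nat_lit 29025, nat_lit 24893, nat_lit 20493, nat_lit 16460, nat_lit 12306, nat_lit 8193, nat_lit 4097]⟩))))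

theorem dcME80_ok : dcME80.all (elB (nat_lit 0)) = true := by decide +kernel

def dcME81 : BT El := (.node (nat_lit 652) (.node (nat_lit 650) (.node (nat_lit 649) (.leaf ⟨[nat_lit 0x21eb2eba55470d816bc405a2b6944a684ce4], [nat_lit 65536, nat_lit 69632, nat_lit 73728, nat_lit 81920, nat_lit 90112, nat_lit 94208, nat_lit 102400, nat_lit 174080, nat_lit 165888, nat_lit 161280, nat_lit 157184, nat_lit 154272, nat_lit 151136, nat_lit 145840, nat_lit 142988, nat_lit 136040, nat_lit 133260, nat_lit 3214, nat_lit 6160, nat_lit 10464, nat_lit 14400, nat_lit 17408, nat_lit 22592, nat_lit 27648, nat_lit 31744, nat_lit 33280, nat_lit 41544, nat_lit 37318, nat_lit 33353, nat_lit 28744, nat_lit 24602, nat_lit 20488, nat_lit 16450, nat_lit 8450, nat_lit 4161, nat_lit 2]⟩)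
 (.leaf ⟨[nat_lit 0xffffffbd9540c9a478e274d568600b070a66], [nat_lit 65536, nat_lit 102400, nat_lit 106496, nat_lit 168448, nat_lit 165120, nat_lit 160896, nat_lit 156480, nat_lit 152512, nat_lit 147696, nat_lit 144432, nat_lit 140692, nat_lit 132609, nat_lit 1614, nat_lit 5024, nat_lit 12880, nat_lit 16448, nat_lit 41983, nat_lit 38396, nat_lit 24592, nat_lit 16448, nat_lit 13315, nat_lit 4608, nat_lit 2, nat_lit 327680]⟩))
 (.node (nat_lit 651) (.leaf ⟨[nat_lit 0xb42821a25779c841339a4aa2ca3bcac1c600], [nat_lit 69632, nat_lit 77824, nat_lit 81920, nat_lit 86016, nat_lit 90112, nat_lit 98304, nat_lit 178176, nat_lit 173056, nat_lit 168448, nat_lit 164096, nat_lit 160768, nat_lit 157568, nat_lit 152352, nat_lit 151456, nat_lit 145152, nat_lit 140704, nat_lit 138036, nat_lit 132686, nat_lit 4476, nat_lit 11888, nat_lit 14336, nat_lit 16448, nat_lit 23552, nat_lit 26368, nat_lit 36352, nat_lit 38912, nat_lit 43008, nat_lit 41064, nat_lit 36916, nat_lit 32863, nat_lit 24849, nat_lit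 21009, nat_lit 16653, nat_lit 8225, nat_lit 4112]⟩)
 (.leaf ⟨[nat_lit 0x4b27d1ba5546bc403c264aa2cb348b11b1c1], [nat_lit 65536, nat_lit 69632, nat_lit 73728, nat_lit 77824, nat_lit 81920, nat_lit 86016, nat_lit 90112, nat_lit 94208, nat_lit 102400, nat_lit 174080, nat_lit 168448, nat_lit 164608, nat_lit 163328, nat_lit 157376, nat_lit 153248, nat_lit 150704, nat_lit 143688, nat_lit 141252, nat_lit 135942, nat_lit 134259, nat_lit 2, nat_lit 5768, nat_lit 8408, nat_lit 14848, nat_lit 18240, nat_lit 21632, nat_lit 27904, nat_lit 31232, nat_lit 33792, nat_lit 41704, nat_lit 38300, nat_lit 33422, nat_lit 28946, nat_lit 24611, nat_lit 20555, nat_lit 16642, nat_lit 12304, nat_lit 8194, nat_lit 4100, nat_lit 64, nat_lit 327680]⟩)))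
 (.node (nat_lit 654) (.node (nat_lit 653) (.leaf ⟨[nat_lit 0x2d1de4a2eb79b8e30b2044a916034b2345e2], [nat_lit 69632, nat_lit 73728, nat_lit 77824, nat_lit 81920, nat_lit 86016, nat_lit 94208, nat_lit 98304, nat_lit 178176, nat_lit 169984, nat_lit 167680, nat_lit 163712, nat_lit 156160, nat_lit 153088, nat_lit 148992, nat_lit 144408, nat_lit 140824, nat_lit 136140, nat_lit 132891, nat_lit 1136, nat_lit 6020, nat_lit 9648, nat_lit 15360, nat_lit 17824, nat_lit 23360, nat_lit 26240, nat_lit 29184, nat_lit 36352, nat_lit 38912, nat_lit 41961, nat_lit 36911, nat_lit 33956, nat_lit 28676, nat_lit 24833, nat_lit 21022, nat_lit 16421, nat_lit 12352, nat_lit 4609, nat_lit 32, nat_lit 327680]⟩)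
 (.leaf ⟨[nat_lit 0x9336acbd6d484a3300c414292b218a77358f], [nat_lit 69632, nat_lit 73728, nat_lit 81920, nat_lit 86016, nat_lit 94208, nat_lit 102400, nat_lit 178176, nat_lit 175104, nat_lit 165888, nat_lit 162816, nat_lit 158912, nat_lit 153824, nat_lit 149456, nat_lit 146432, nat_lit 142280, nat_lit 137002, nat_lit 134326, nat_lit 3716, nat_lit 4412, nat_lit 10456, nat_lit 14176, nat_lit 17536, nat_lit 22528, nat_lit 27136, nat_lit 30720, nat_lit 35328, nat_lit 38912, nat_lit 32990, nat_lit 24591, nat_lit 16399, nat_lit 12292, nat_lit 8201, nat_lit 4, nat_lit 327680]⟩))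
 (.node (nat_lit 655) (.leaf ndMr4_10)
 (.leaf ⟨[nat_lit 0xc9cf5079d6933441652e5991d21c6a8502d0, nat_lit 0xbd784448e373948e45a41331af9d5425c014], [nat_lit 65536, nat_lit 69632, nat_lit 77824, nat_lit 86016, nat_lit 98304, nat_lit 110592, nat_lit 178176, nat_lit 173056, nat_lit 171520, nat_lit 164864, nat_lit 159872, nat_lit 157056, nat_lit 151968, nat_lit 149472, nat_lit 145280, nat_lit 139904, nat_lit 136184, nat_lit 131783, nat_lit 1912, nat_lit 5592, nat_lit 8992, nat_lit 13312, nat_lit 17184, nat_lit 21504, nat_lit 26112, nat_lit 30208, nat_lit 37888, nat_lit 46411, nat_lit 43548, nat_lit 36872, nat_lit 33977, nat_lit 28799, nat_lit 24579, nat_lit 20509, nat_lit 16393, nat_lit 12305, nat_lit 4160, nat_lit 2, nat_lit 405506, nat_lit 397312, nat_lit 139272, nat_lit 135172, nat_lit 131084, nat_lit 40961, nat_lit 32783, nat_lit 28680, nat_lit 24591, nat_lit 20481, nat_lit 16386, nat_lit 327680]⟩))))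

theorem dcME81_ok : dcME81.all (elB (nat_lit 0)) = true := by decide +kernel

def dcME82 : BT El := (.node (nat_lit 660) (.node (nat_lit 658) (.node (nat_lit 657) (.leaf ndMr5_13)
 (.leaf ⟨[nat_lit 0xe2d8e8b968aacde1435c732651832c019162, nat_lit 0xd877117a9c7bd52608d65652609584d44490], [nat_lit 69632, nat_lit 73728, nat_lit 81920, nat_lit 90112, nat_lit 94208, nat_lit 98304, nat_lit 102400, nat_lit 106496, nat_lit 110592, nat_lit 173056, nat_lit 170496, nat_lit 166400, nat_lit 161536, nat_lit 155840, nat_lit 151712, nat_lit 149840, nat_lit 145032, nat_lit 139496, nat_lit 136650, nat_lit 134470, nat_lit 3988, nat_lit 5524, nat_lit 11432, nat_lit 14336, nat_lit 20096, nat_lit 21760, nat_lit 24704, nat_lit 29440, nat_lit 45138, nat_lit 41632, nat_lit 32833, nat_lit 29711, nat_lit 24854, nat_lit 20495, nat_lit 16463, nat_lit 409603, nat_lit 397312, nat_lit 135184, nat_lit 131098, nat_lit 36872, nat_lit 32795, nat_lit 28699, nat_lit 24578, nat_lit 20482, nat_lit 8193, nat_lit 327680]⟩))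
 (.node (nat_lit 659) (.leaf ndMr6_33)
 (.leaf ⟨[nat_lit 0x27ee824c946988e01d58883da4b056e2c697, nat_lit 0x7b122d0dc4022a6c2bd70499d1b5474934e8, nat_lit 0xf5a390260d35ca7ad89454d830bd1113a4b], [nat_lit 65536, nat_lit 77824, nat_lit 86016, nat_lit 90112, nat_lit 94208, nat_lit 98304, nat_lit 178176, nat_lit 173056, nat_lit 170496, nat_lit 166912, nat_lit 163712, nat_lit 157568, nat_lit 153472, nat_lit 150352, nat_lit 144760, nat_lit 142200, nat_lit 135734, nat_lit 134775, nat_lit 1694, nat_lit 6304, nat_lit 11896, nat_lit 13936, nat_lit 20192, nat_lit 21184, nat_lit 28544, nat_lit 30720, nat_lit 35328, nat_lit 43008, nat_lit 46651, nat_lit 43726, nat_lit 37141, nat_lit 33429, nat_lit 28731, nat_lit 25653, nat_lit 20481, nat_lit 16387, nat_lit 12292, nat_lit 8194, nat_lit 413700, nat_lit 405506, nat_lit 397312, nat_lit 147488, nat_lit 143376, nat_lit 139320, nat_lit 135220, nat_lit 131132, nat_lit 45071, nat_lit 40982, nat_lit 36879, nat_lit 32830, nat_lit 28700]⟩)))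
 (.node (nat_lit 662) (.node (nat_lit 661) (.leaf ndMr6_31)
 (.leaf ⟨[nat_lit 0xa0c63f13cd19b8e3425568308168245a2ef5, nat_lit 0x282dd7315173bc31502a29c28b726cc23643, nat_lit 0x4812b1509377d1a0921c41ce3582d8629ec1, nat_lit 0x4b41bdb5d07940ca9b034146ae4b5e459403], [nat_lit 69632, nat_lit 73728, nat_lit 77824, nat_lit 86016, nat_lit 94208, nat_lit 178176, nat_lit 173056, nat_lit 169472, nat_lit 157888, nat_lit 155616, nat_lit 150944, nat_lit 146856, nat_lit 142052, nat_lit 137380, nat_lit 132793, nat_lit 2208, nat_lit 6344, nat_lit 9320, nat_lit 12304, nat_lit 16416, nat_lit 24384, nat_lit 24960, nat_lit 31232, nat_lit 33280, nat_lit 38912, nat_lit 45356, nat_lit 41197, nat_lit 37130, nat_lit 33473, nat_lit 28995, nat_lit 24838, nat_lit 20503, nat_lit 16399, nat_lit 12295, nat_lit 8203, nat_lit 4097, nat_lit 2, nat_lit 438281, nat_lit 425991, nat_lit 413700, nat_lit 405506, nat_lit 397312, nat_lit 164352, nat_lit 152448, nat_lit 150016, nat_lit 143792, nat_lit 135600, nat_lit 131994,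 nat_lit 41755, nat_lit 24635]⟩))
 (.node (nat_lit 663) (.leaf ndMr6_29)
 (.leaf ⟨[nat_lit 0x30a36062ca91c556111c1a5cef8201534e4d, nat_lit 0xf36f594d8e5b8542ab56e04c8c30e4f85111, nat_lit 0xcf603a73651082b6399092a88b1d2e263e70], [nat_lit 73728, nat_lit 77824, nat_lit 90112, nat_lit 98304, nat_lit 102400, nat_lit 106496, nat_lit 178176, nat_lit 173056, nat_lit 171520, nat_lit 164352, nat_lit 161664, nat_lit 158272, nat_lit 154432, nat_lit 150400, nat_lit 144664, nat_lit 141940, nat_lit 137408, nat_lit 132389, nat_lit 930, nat_lit 8160, nat_lit 11184, nat_lit 15840, nat_lit 16800, nat_lit 23872, nat_lit 28416, nat_lit 30464, nat_lit 33280, nat_lit 37888, nat_lit 43008, nat_lit 45377, nat_lit 41899, nat_lit 37097, nat_lit 32833, nat_lit 29185, nat_lit 24733, nat_lit 20552, nat_lit 16428, nat_lit 8225, nat_lit 425991, nat_lit 417796, nat_lit 405506, nat_lit 397312, nat_lit 147648, nat_lit 143632, nat_lit 139536, nat_lit 135632, nat_lit 131084, nat_lit 45248, nat_lit 41055, nat_lit 37023,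 nat_lit 20482]⟩))))

theorem dcME82_ok : dcME82.all (elB (nat_lit 0)) = true := by decide +kernel

def dcME83 : BT El := (.node (nat_lit 668) (.node (nat_lit 666) (.node (nat_lit 665) (.leaf ndMr7_22)
 (.leaf ⟨[nat_lit 0xd878e1b56ea99da071472899814268b2404f, nat_lit 0x36c05f6582ea10c06cd45aad03142578a4ef, nat_lit 0x6cf5f65ccd503ca78322313909912ea0b6d4, nat_lit 0x7ebb7238ab2a5d4c6c66b2da007990470469], [nat_lit 69632, nat_lit 86016, nat_lit 94208, nat_lit 98304, nat_lit 106496, nat_lit 110592, nat_lit 175104, nat_lit 169472, nat_lit 165632, nat_lit 160000, nat_lit 157952, nat_lit 154272, nat_lit 150624, nat_lit 145840, nat_lit 140232, nat_lit 137446, nat_lit 132030, nat_lit 1842, nat_lit 6060, nat_lit 10376, nat_lit 15536, nat_lit 17632, nat_lit 20608, nat_lit 26240, nat_lit 28928, nat_lit 34816, nat_lit 37888, nat_lit 46939, nat_lit 43555, nat_lit 38923, nat_lit 33383, nat_lit 28695, nat_lit 25109, nat_lit 20498, nat_lit 16392, nat_lit 12305, nat_lit 8195, nat_lit 4101, nat_lit 438282,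 nat_lit 430088, nat_lit 421894, nat_lit 413700, nat_lit 405506, nat_lit 397312, nat_lit 174080, nat_lit 171008, nat_lit 167424, nat_lit 161536, nat_lit 158848, nat_lit 152704, nat_lit 150656, nat_lit 146448, nat_lit 141264, nat_lit 138940, nat_lit 134260]⟩))
 (.node (nat_lit 667) (.leaf ndMr7_32)
 (.leaf ⟨[nat_lit 0x8ee1b4244664c9622aaafb310703a0dbce81, nat_lit 0xe1474e03e4c49ead595d612a0819893b8691, nat_lit 0xd822d77ddd4b36ac4466911c818297200cc5], [nat_lit 65536, nat_lit 77824, nat_lit 81920, nat_lit 86016, nat_lit 90112, nat_lit 98304, nat_lit 110592, nat_lit 165376, nat_lit 162816, nat_lit 159104, nat_lit 152096, nat_lit 150480, nat_lit 143536, nat_lit 141932, nat_lit 138238, nat_lit 131397, nat_lit 256, nat_lit 6580, nat_lit 8744, nat_lit 13536, nat_lit 17152, nat_lit 22144, nat_lit 26880, nat_lit 28928, nat_lit 35328, nat_lit 39936, nat_lit 43008, nat_lit 46352, nat_lit 41734, nat_lit 37169, nat_lit 33018, nat_lit 29042, nat_lit 24589, nat_lit 20744, nat_lit 16423, nat_lit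 12352, nat_lit 8202, nat_lit 4100, nat_lit 434184, nat_lit 417797, nat_lit 409603, nat_lit 401408, nat_lit 156672, nat_lit 151808, nat_lit 148736, nat_lit 143696, nat_lit 140352, nat_lit 132192, nat_lit 45316, nat_lit 36972, nat_lit 28729, nat_lit 4097, nat_lit 327680]⟩)))
 (.node (nat_lit 670) (.node (nat_lit 669) (.leaf ndMr7_33)
 (.leaf ⟨[nat_lit 0x3f06a6684f52aa4643a6fb104c58c104d237, nat_lit 0x1e1d78a2c2313a069b005435f7224f695551, nat_lit 0x6960f36d2a81c8f6029812a4cf5c5d0992e2], [nat_lit 65536, nat_lit 69632, nat_lit 73728, nat_lit 81920, nat_lit 94208, nat_lit 102400, nat_lit 106496, nat_lit 110592, nat_lit 175104, nat_lit 168960, nat_lit 166656, nat_lit 158272, nat_lit 152128, nat_lit 147664, nat_lit 145632, nat_lit 140196, nat_lit 138208, nat_lit 131786, nat_lit 3818, nat_lit 7096, nat_lit 9768, nat_lit 14304, nat_lit 20064, nat_lit 20800, nat_lit 27392, nat_lit 30208, nat_lit 39936, nat_lit 43008, nat_lit 45686, nat_lit 41423, nat_lit 39183, nat_lit 32825, nat_lit 28770,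 nat_lit 24757, nat_lit 20485, nat_lit 16398, nat_lit 12304, nat_lit 8203, nat_lit 4105, nat_lit 2, nat_lit 430086, nat_lit 413700, nat_lit 405506, nat_lit 397312, nat_lit 156160, nat_lit 152064, nat_lit 148000, nat_lit 143920, nat_lit 139832, nat_lit 135800, nat_lit 131710, nat_lit 45122, nat_lit 41050, nat_lit 32831, nat_lit 28773]⟩))
 (.node (nat_lit 671) (.leaf ndMr7_28)
 (.leaf ⟨[nat_lit 0x6f9550052e73282b9c445191ac925d6abd10, nat_lit 0xa30c5f9d6ce2a28025d2139992834627c56a], [nat_lit 65536, nat_lit 69632, nat_lit 73728, nat_lit 77824, nat_lit 98304, nat_lit 102400, nat_lit 106496, nat_lit 173056, nat_lit 169984, nat_lit 167424, nat_lit 160896, nat_lit 158656, nat_lit 152352, nat_lit 151408, nat_lit 147432, nat_lit 139412, nat_lit 136002, nat_lit 132036, nat_lit 2532, nat_lit 4252, nat_lit 12080, nat_lit 14352, nat_lit 18400, nat_lit 23872, nat_lit 26752, nat_lit 28928, nat_lit 34304, nat_lit 37888, nat_lit 43008, nat_lit 45523, nat_lit 41043, nat_lit 37374, nat_lit 33384, nat_lit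 28736, nat_lit 24600, nat_lit 21002, nat_lit 16420, nat_lit 12292, nat_lit 8202, nat_lit 4101, nat_lit 430084, nat_lit 405506, nat_lit 147968, nat_lit 143888, nat_lit 40968, nat_lit 32772, nat_lit 28688, nat_lit 24592, nat_lit 20488, nat_lit 327680]⟩))))

theorem dcME83_ok : dcME83.all (elB (nat_lit 0)) = true := by decide +kernel

def dcME84 : BT El := (.node (nat_lit 676) (.node (nat_lit 674) (.node (nat_lit 673) (.leaf ndMr8_58)
 (.leaf ⟨[nat_lit 0x4b272e5242ebd06c59a562d51183c5321da0, nat_lit 0x59f039a1ccf8094565461201319ddb272176, nat_lit 0x305c9f214e65a548100616b1cf94670b5e95], [nat_lit 77824, nat_lit 94208, nat_lit 106496, nat_lit 175104, nat_lit 168448, nat_lit 164864, nat_lit 162048, nat_lit 156800, nat_lit 155520, nat_lit 151456, nat_lit 144760, nat_lit 139588, nat_lit 137000, nat_lit 132085, nat_lit 3272, nat_lit 4100, nat_lit 11608, nat_lit 13264, nat_lit 21760, nat_lit 26752, nat_lit 29696, nat_lit 36352, nat_lit 38912, nat_lit 46968, nat_lit 43466, nat_lit 37194, nat_lit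 32972, nat_lit 28773, nat_lit 24616, nat_lit 20509, nat_lit 16418, nat_lit 12295, nat_lit 8193, nat_lit 4104, nat_lit 425991, nat_lit 417797, nat_lit 409602, nat_lit 397312, nat_lit 155776, nat_lit 151936, nat_lit 147840, nat_lit 131270, nat_lit 45062, nat_lit 41152, nat_lit 37008, nat_lit 12289]⟩))
 (.node (nat_lit 675) (.leaf ndMr8_51)
 (.leaf ⟨[nat_lit 0x722424b3a4c552280dc5099ea67ac054906d, nat_lit 0x5c599953a243be08056f44cd869156db0861, nat_lit 0x424b110c6ec2ce091896735aaaa01f26a08e], [nat_lit 65536, nat_lit 69632, nat_lit 73728, nat_lit 81920, nat_lit 94208, nat_lit 102400, nat_lit 106496, nat_lit 110592, nat_lit 171520, nat_lit 166144, nat_lit 162176, nat_lit 157568, nat_lit 152736, nat_lit 150688, nat_lit 146944, nat_lit 142564, nat_lit 139146, nat_lit 132306, nat_lit 3966, nat_lit 6208, nat_lit 8712, nat_lit 16288, nat_lit 19072, nat_lit 20864, nat_lit 28160, nat_lit 32512, nat_lit 34304, nat_lit 38912, nat_lit 43008, nat_lit 47082, nat_lit 40997, nat_lit 36946, nat_lit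 32948, nat_lit 28761, nat_lit 24607, nat_lit 20744, nat_lit 16418, nat_lit 12311, nat_lit 8210, nat_lit 8, nat_lit 425988, nat_lit 405506, nat_lit 397312, nat_lit 147712, nat_lit 143616, nat_lit 139272, nat_lit 135436, nat_lit 131098, nat_lit 45065, nat_lit 40961, nat_lit 37140, nat_lit 28673, nat_lit 24605, nat_lit 20488]⟩)))
 (.node (nat_lit 678) (.node (nat_lit 677) (.leaf ndMr8_66)
 (.leaf ⟨[nat_lit 0xc5366ab847055a6b8bdd5430c04b48229e54, nat_lit 0xaf50ac819013b6849c6ceaa96f924a260c17, nat_lit 0xd481240b0b6ac934400515c0e654dae23ee3, nat_lit 0x5cfcc6a19479e22bc2495d88534dc302aa1], [nat_lit 73728, nat_lit 77824, nat_lit 86016, nat_lit 98304, nat_lit 168960, nat_lit 167168, nat_lit 160000, nat_lit 156480, nat_lit 153088, nat_lit 149216, nat_lit 144640, nat_lit 140816, nat_lit 135372, nat_lit 131317, nat_lit 2438, nat_lit 4956, nat_lit 8432, nat_lit 12688, nat_lit 20448, nat_lit 23680, nat_lit 26496, nat_lit 30720, nat_lit 35840, nat_lit 38912, nat_lit 43008, nat_lit 46956, nat_lit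 40962, nat_lit 39189, nat_lit 34918, nat_lit 28748, nat_lit 24719, nat_lit 21022, nat_lit 16911, nat_lit 8195, nat_lit 438282, nat_lit 430088, nat_lit 421894, nat_lit 413700, nat_lit 405506, nat_lit 397312, nat_lit 171008, nat_lit 164864, nat_lit 160256, nat_lit 157312, nat_lit 151680, nat_lit 150304, nat_lit 146432, nat_lit 141168, nat_lit 137260, nat_lit 131236, nat_lit 327680]⟩))
 (.node (nat_lit 679) (.leaf ndMr9_105)
 (.leaf ⟨[nat_lit 0x2bd41d3904f52583456468acb60d2ee03670, nat_lit 0x4e181268d8509d099514f1123335416bba0b, nat_lit 0x9fcf696add3115f451a072019595d1608e29, nat_lit 0x1e1288914504a0265b2342386f9a9b7a9c16], [nat_lit 65536, nat_lit 69632, nat_lit 77824, nat_lit 90112, nat_lit 98304, nat_lit 102400, nat_lit 106496, nat_lit 174080, nat_lit 168960, nat_lit 165632, nat_lit 160128, nat_lit 157952, nat_lit 154240, nat_lit 150640, nat_lit 145840, nat_lit 140232, nat_lit 137444, nat_lit 132030, nat_lit 3022, nat_lit 6332, nat_lit 8784, nat_lit 12736, nat_lit 18208, nat_lit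 22656, nat_lit 27392, nat_lit 28928, nat_lit 39936, nat_lit 46781, nat_lit 41102, nat_lit 39294, nat_lit 32882, nat_lit 28719, nat_lit 24882, nat_lit 20630, nat_lit 16428, nat_lit 12291, nat_lit 4105, nat_lit 438282, nat_lit 430088, nat_lit 421894, nat_lit 413700, nat_lit 405506, nat_lit 397312, nat_lit 168960, nat_lit 165888, nat_lit 161024, nat_lit 159488, nat_lit 152000, nat_lit 150496, nat_lit 147024, nat_lit 142728, nat_lit 136328, nat_lit 131714, nat_lit 327680]⟩))))

theorem dcME84_ok : dcME84.all (elB (nat_lit 0)) = true := by decide +kernel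

def dcME85 : BT El := (.node (nat_lit 684) (.node (nat_lit 682) (.node (nat_lit 681) (.leaf ndMr9_91)
 (.leaf ⟨[nat_lit 0x4b27d14468a5bca075992b84504b483a9e66, nat_lit 0x887d8b10216954a7329a11ad844de68a45ee, nat_lit 0xc3c336485408ced484ab77958671c8d1ac48], [nat_lit 73728, nat_lit 77824, nat_lit 86016, nat_lit 90112, nat_lit 94208, nat_lit 178176, nat_lit 173056, nat_lit 171520, nat_lit 164352, nat_lit 161920, nat_lit 159616, nat_lit 154784, nat_lit 151376, nat_lit 145592, nat_lit 141888, nat_lit 138650, nat_lit 134618, nat_lit 2910, nat_lit 4856, nat_lit 11448, nat_lit 16240, nat_lit 19328, nat_lit 23552, nat_lit 25600, nat_lit 30976, nat_lit 36352, nat_lit 39936, nat_lit 46165, nat_lit 41612, nat_lit 37127, nat_lit 33480, nat_lit 28762, nat_lit 24607, nat_lit 20510, nat_lit 12294, nat_lit 8195, nat_lit 4100, nat_lit 430087, nat_lit 417797, nat_lit 409602, nat_lit 397312, nat_lit 155776, nat_lit 151616, nat_lit 147968, nat_lit 140000, nat_lit 135172, nat_lit 131172, nat_lit 45715,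 nat_lit 41491, nat_lit 32935, nat_lit 12290, nat_lit 327680]⟩))
 (.node (nat_lit 683) (.leaf ndMr9_97)
 (.leaf ⟨[nat_lit 0x6a00aaa2ed28202061ae329d536a5f175482, nat_lit 0xb47de75a2c4881c9a9e1315c267c86a2d1ac, nat_lit 0xb18e8e349806dd4e78c932d0e8a8562b2611, nat_lit 0x6fa6052360193005acd5141a877bacbb8869], [nat_lit 65536, nat_lit 69632, nat_lit 73728, nat_lit 77824, nat_lit 81920, nat_lit 90112, nat_lit 94208, nat_lit 98304, nat_lit 102400, nat_lit 110592, nat_lit 178176, nat_lit 174080, nat_lit 169472, nat_lit 164352, nat_lit 161408, nat_lit 156992, nat_lit 153920, nat_lit 150528, nat_lit 145760, nat_lit 140052, nat_lit 137588, nat_lit 131667, nat_lit 682, nat_lit 7592, nat_lit 9776, nat_lit 13792, nat_lit 18848, nat_lit 21760, nat_lit 28032, nat_lit 31232, nat_lit 34304, nat_lit 39936, nat_lit 47001, nat_lit 43234, nat_lit 37041, nat_lit 32996, nat_lit 28745, nat_lit 24705, nat_lit 20750, nat_lit 16392, nat_lit 12290, nat_lit 8193, nat_lit 438282, nat_lit 430088, nat_lit 421894,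 nat_lit 413700, nat_lit 405506, nat_lit 397312, nat_lit 174080, nat_lit 169984, nat_lit 166912, nat_lit 161536, nat_lit 157568, nat_lit 154432, nat_lit 148256, nat_lit 144768, nat_lit 142376, nat_lit 136884, nat_lit 133574]⟩)))
 (.node (nat_lit 686) (.node (nat_lit 685) (.leaf ndMr9_67)
 (.leaf ⟨[nat_lit 0xb1b22b70648356970259368d508bc4b392c5, nat_lit 0x3c0f634d4a0a286723a466845362d108bef6, nat_lit 0x2e2884138d73c9651b09502431b4e8a7b510, nat_lit 0x2ee4d1389484d5b0052c47dd730998e90e25], [nat_lit 69632, nat_lit 81920, nat_lit 98304, nat_lit 102400, nat_lit 110592, nat_lit 178176, nat_lit 170496, nat_lit 166400, nat_lit 160000, nat_lit 159040, nat_lit 153440, nat_lit 151216, nat_lit 144848, nat_lit 143220, nat_lit 135662, nat_lit 133165, nat_lit 1820, nat_lit 7220, nat_lit 10720, nat_lit 13968, nat_lit 17152, nat_lit 23552, nat_lit 28416, nat_lit 28928, nat_lit 34304, nat_lit 39936, nat_lit 43008, nat_lit 45841, nat_lit 41602, nat_lit 38250, nat_lit 33467, nat_lit 29305, nat_lit 24851,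 nat_lit 21007, nat_lit 16393, nat_lit 12305, nat_lit 4097, nat_lit 430088, nat_lit 421894, nat_lit 413700, nat_lit 405506, nat_lit 397312, nat_lit 164352, nat_lit 160512, nat_lit 155904, nat_lit 151744, nat_lit 147808, nat_lit 143824, nat_lit 140240, nat_lit 135296, nat_lit 132014, nat_lit 45342, nat_lit 41667]⟩))
 (.node (nat_lit 687) (.leaf ndMr9_111)
 (.leaf ⟨[nat_lit 0xed822e40aa0838818d24938d93b95467b6cb, nat_lit 0x881b18acd0112ad2b817182474735e721586, nat_lit 0xa633632adc7802844466c6d5360a86f15cd2], [nat_lit 65536, nat_lit 86016, nat_lit 102400, nat_lit 106496, nat_lit 173056, nat_lit 168960, nat_lit 166912, nat_lit 161536, nat_lit 157312, nat_lit 155392, nat_lit 150848, nat_lit 143896, nat_lit 142928, nat_lit 138892, nat_lit 133633, nat_lit 1668, nat_lit 6548, nat_lit 8200, nat_lit 15088, nat_lit 17728, nat_lit 20608, nat_lit 28544, nat_lit 29184, nat_lit 39936, nat_lit 46723, nat_lit 41778, nat_lit 37363, nat_lit 32875, nat_lit 29249, nat_lit 24890, nat_lit 16397, nat_lit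 12309, nat_lit 4097, nat_lit 430088, nat_lit 409603, nat_lit 401408, nat_lit 164352, nat_lit 147712, nat_lit 139280, nat_lit 131332, nat_lit 45064, nat_lit 40989, nat_lit 20488, nat_lit 327680]⟩))))

theorem dcME85_ok : dcME85.all (elB (nat_lit 0)) = true := by decide +kernel

def dcME86 : BT El := (.node (nat_lit 692) (.node (nat_lit 690) (.node (nat_lit 689) (.leaf ndMr9_104)
 (.leaf ⟨[nat_lit 0x41e812241afb2dc1bc6855264604ce260d15, nat_lit 0x6a9636b3a062c9b4bac1560d4f0ce2839049, nat_lit 0x17172ba00ce54128ab4e28ae720d98478cb7], [nat_lit 73728, nat_lit 77824, nat_lit 81920, nat_lit 94208, nat_lit 102400, nat_lit 106496, nat_lit 110592, nat_lit 178176, nat_lit 175104, nat_lit 170496, nat_lit 164608, nat_lit 161792, nat_lit 159552, nat_lit 153248, nat_lit 150352, nat_lit 146496, nat_lit 139300, nat_lit 135706, nat_lit 134707, nat_lit 1012, nat_lit 4972, nat_lit 10872, nat_lit 15904, nat_lit 17536, nat_lit 20864, nat_lit 24960, nat_lit 32000, nat_lit 35840, nat_lit 38912, nat_lit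 46800, nat_lit 41377, nat_lit 39165, nat_lit 33812, nat_lit 28713, nat_lit 26672, nat_lit 20481, nat_lit 16648, nat_lit 12292, nat_lit 8194, nat_lit 16, nat_lit 430088, nat_lit 413700, nat_lit 405506, nat_lit 397312, nat_lit 164352, nat_lit 143408, nat_lit 139824, nat_lit 135964, nat_lit 131114, nat_lit 45370, nat_lit 41756, nat_lit 28680, nat_lit 24591, nat_lit 327680]⟩))
 (.node (nat_lit 691) (.leaf ndMr9_92)
 (.leaf ⟨[nat_lit 0x60f33380a754c88c70ecda016a43e25098f7, nat_lit 0xebb4281da7050577a1c069150c79229ab5c2, nat_lit 0x3caaaa759317b027a187585daa591002ca62, nat_lit 0xfc5c036200aba4f1909f00b6959d8cb20dc5], [nat_lit 77824, nat_lit 94208, nat_lit 98304, nat_lit 171520, nat_lit 165120, nat_lit 160640, nat_lit 155904, nat_lit 153728, nat_lit 150640, nat_lit 143440, nat_lit 143308, nat_lit 137990, nat_lit 133548, nat_lit 1732, nat_lit 5204, nat_lit 10928, nat_lit 14352, nat_lit 19136, nat_lit 22400, nat_lit 25472, nat_lit 29696, nat_lit 33792, nat_lit 38912, nat_lit 43008, nat_lit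 46416, nat_lit 43686, nat_lit 38142, nat_lit 32870, nat_lit 28787, nat_lit 24580, nat_lit 20503, nat_lit 16422, nat_lit 12807, nat_lit 8202, nat_lit 4105, nat_lit 434185, nat_lit 425991, nat_lit 417797, nat_lit 409603, nat_lit 401408, nat_lit 164352, nat_lit 160256, nat_lit 156032, nat_lit 152128, nat_lit 147712, nat_lit 145168, nat_lit 140976, nat_lit 131280, nat_lit 46865, nat_lit 4097, nat_lit 327680]⟩)))
 (.node (nat_lit 694) (.node (nat_lit 693) (.leaf ndMr9_94)
 (.leaf ⟨[nat_lit 0x60a9fa15e746a0950ad3229c11759467c06c, nat_lit 0x28e18290ae8a58af33271684e0491ca80eab, nat_lit 0x77e4e7795acbcc0831dc4824560ae3555072], [nat_lit 69632, nat_lit 73728, nat_lit 77824, nat_lit 81920, nat_lit 86016, nat_lit 90112, nat_lit 94208, nat_lit 98304, nat_lit 178176, nat_lit 174080, nat_lit 166912, nat_lit 157824, nat_lit 153312, nat_lit 148752, nat_lit 146256, nat_lit 140072, nat_lit 138830, nat_lit 131532, nat_lit 586, nat_lit 4696, nat_lit 9424, nat_lit 13600, nat_lit 18464, nat_lit 22208,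 nat_lit 24704, nat_lit 34816, nat_lit 37888, nat_lit 43008, nat_lit 46600, nat_lit 43127, nat_lit 37111, nat_lit 32994, nat_lit 28959, nat_lit 24732, nat_lit 20554, nat_lit 16516, nat_lit 12292, nat_lit 8195, nat_lit 4101, nat_lit 425991, nat_lit 417797, nat_lit 409603, nat_lit 401409, nat_lit 156032, nat_lit 151744, nat_lit 147616, nat_lit 143792, nat_lit 139424, nat_lit 135468, nat_lit 45128, nat_lit 41368, nat_lit 37210, nat_lit 327680]⟩))
 (.node (nat_lit 695) (.leaf ndMr9_74)
 (.leaf ⟨[nat_lit 0xaa9f9f1dcd1382559d0816bd2c5a9c82d850, nat_lit 0x3ac96a805e44d4e564446b39ab9cae81d00a, nat_lit 0x309c5ace257c1020494c3d823736e6a112b, nat_lit 0x55c5562a990938e97ac938990d10ea1a02f6], [nat_lit 65536, nat_lit 69632, nat_lit 73728, nat_lit 77824, nat_lit 81920, nat_lit 86016, nat_lit 90112, nat_lit 110592, nat_lit 178176, nat_lit 173056, nat_lit 170496, nat_lit 164352, nat_lit 159872, nat_lit 158976, nat_lit 155072, nat_lit 149008, nat_lit 146056, nat_lit 141308, nat_lit 138928, nat_lit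 132180, nat_lit 1118, nat_lit 7896, nat_lit 10064, nat_lit 15968, nat_lit 18848, nat_lit 21248, nat_lit 27264, nat_lit 31488, nat_lit 37888, nat_lit 46656, nat_lit 43449, nat_lit 38011, nat_lit 32808, nat_lit 29263, nat_lit 24706, nat_lit 20757, nat_lit 16421, nat_lit 12294, nat_lit 8200, nat_lit 434185, nat_lit 425990, nat_lit 413700, nat_lit 405506, nat_lit 397312, nat_lit 168960, nat_lit 152384, nat_lit 148320, nat_lit 145200, nat_lit 139328, nat_lit 136020, nat_lit 131894, nat_lit 46349, nat_lit 28729]⟩))))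

theorem dcME86_ok : dcME86.all (elB (nat_lit 0)) = true := by decide +kernel

def dcME87 : BT El := (.node (nat_lit 700) (.node (nat_lit 698) (.node (nat_lit 697) (.leaf ndMr10_0)
 (.leaf ⟨[nat_lit 0x5aacc5985438a18fbda0b3540e69c5491524, nat_lit 0x8b2e8745a024cc17332b48c88d72caa19c2f, nat_lit 0x95f6a0408a355870bc74144a974e565dd0d, nat_lit 0x60955f2020d285925a2ea4d6d499c4f744c3], [nat_lit 65536, nat_lit 69632, nat_lit 77824, nat_lit 90112, nat_lit 94208, nat_lit 102400, nat_lit 106496, nat_lit 175104, nat_lit 168960, nat_lit 165632, nat_lit 161280, nat_lit 156096, nat_lit 153440, nat_lit 151120, nat_lit 147152, nat_lit 143136, nat_lit 137908, nat_lit 131828, nat_lit 1426, nat_lit 5376, nat_lit 9408, nat_lit 14368, nat_lit 18432, nat_lit 22080, nat_lit 25344, nat_lit 31488, nat_lit 33792, nat_lit 37888, nat_lit 43008, nat_lit 45968, nat_lit 41473, nat_lit 38134, nat_lit 32919, nat_lit 28949, nat_lit 25111, nat_lit 20562, nat_lit 16416, nat_lit 12291, nat_lit 8194, nat_lit 4101, nat_lit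 430088, nat_lit 421894, nat_lit 413700, nat_lit 405506, nat_lit 397312, nat_lit 160512, nat_lit 156288, nat_lit 152192, nat_lit 147776, nat_lit 144160, nat_lit 139592, nat_lit 135216, nat_lit 131190, nat_lit 45104, nat_lit 41045]⟩))
 (.node (nat_lit 699) (.leaf ndMr10_1)
 (.leaf ⟨[nat_lit 0x993aca0bc72b8946414158258b3b624a3ad3, nat_lit 0x5969558993669481a3aa3bacf3509e883240, nat_lit 0xcf0959bc8ed40022a3cd34a86bb44ac255d0, nat_lit 0xc5c0c10d774d9cf22a8585512644e134c0d], [nat_lit 65536, nat_lit 69632, nat_lit 73728, nat_lit 81920, nat_lit 90112, nat_lit 94208, nat_lit 98304, nat_lit 110592, nat_lit 178176, nat_lit 175104, nat_lit 171008, nat_lit 166400, nat_lit 162304, nat_lit 158784, nat_lit 153248, nat_lit 148240, nat_lit 146720, nat_lit 142216, nat_lit 137944, nat_lit 134730, nat_lit 2368, nat_lit 6904, nat_lit 10088, nat_lit 12608, nat_lit 19616, nat_lit 23680, nat_lit 28416, nat_lit 32000, nat_lit 35328, nat_lit 38912, nat_lit 43008, nat_lit 46225, nat_lit 41814, nat_lit 36970,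 nat_lit 32918, nat_lit 28969, nat_lit 25139, nat_lit 20511, nat_lit 16385, nat_lit 8225, nat_lit 4100, nat_lit 430088, nat_lit 421894, nat_lit 413700, nat_lit 405506, nat_lit 397312, nat_lit 160512, nat_lit 155904, nat_lit 151744, nat_lit 147552, nat_lit 143952, nat_lit 139920, nat_lit 135412, nat_lit 131466, nat_lit 46004, nat_lit 40964]⟩)))
 (.node (nat_lit 702) (.node (nat_lit 701) (.leaf ndMr10_2)
 (.leaf ⟨[nat_lit 0x99ac566ac05bcab4b4233339013b04a48c8f, nat_lit 0x722bd4a9c611492e8d8b303570b910aa30cf, nat_lit 0x9aff5a5ba821c0c1b810c795b3954963c549, nat_lit 0x6c939a64ec4409cf280e9ad143bc1a694561], [nat_lit 69632, nat_lit 73728, nat_lit 81920, nat_lit 106496, nat_lit 175104, nat_lit 168448, nat_lit 165888, nat_lit 160256, nat_lit 157952, nat_lit 151776, nat_lit 150528, nat_lit 144016, nat_lit 139432, nat_lit 136402, nat_lit 132015, nat_lit 2002, nat_lit 6356, nat_lit 10256, nat_lit 15344, nat_lit 18432, nat_lit 21696, nat_lit 24832, nat_lit 32256, nat_lit 33280, nat_lit 46809,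 nat_lit 41787, nat_lit 37931, nat_lit 33452, nat_lit 28949, nat_lit 26681, nat_lit 20488, nat_lit 16385, nat_lit 12321, nat_lit 8194, nat_lit 430088, nat_lit 421894, nat_lit 413700, nat_lit 405506, nat_lit 397312, nat_lit 160256, nat_lit 156032, nat_lit 152192, nat_lit 147712, nat_lit 143760, nat_lit 139384, nat_lit 135960, nat_lit 131896, nat_lit 46009, nat_lit 41216, nat_lit 327680]⟩))
 (.node (nat_lit 703) (.leaf ⟨[nat_lit 0x3acf37c6c96ca8b4184a05ea598c90730e1, nat_lit 0x11b8be722c39a5477b4b1852e4ab02b11a40, nat_lit 0xc33cc974d9545d501bd25884540356431ed2, nat_lit 0xde8d42624706cc0a7ae412928674502b9eb6], [nat_lit 65536, nat_lit 77824, nat_lit 81920, nat_lit 86016, nat_lit 90112, nat_lit 98304, nat_lit 102400, nat_lit 110592, nat_lit 178176, nat_lit 175104, nat_lit 169984, nat_lit 166912, nat_lit 160128, nat_lit 159296, nat_lit 154016, nat_lit 149536, nat_lit 143896, nat_lit 142332, nat_lit 137180, nat_lit 132398, nat_lit 1162, nat_lit 7616, nat_lit 9496, nat_lit 13232, nat_lit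 17088, nat_lit 22912, nat_lit 24960, nat_lit 28928, nat_lit 33792, nat_lit 38912, nat_lit 43008, nat_lit 46244, nat_lit 41983, nat_lit 37254, nat_lit 33288, nat_lit 28712, nat_lit 25614, nat_lit 20559, nat_lit 16427, nat_lit 12292, nat_lit 8203, nat_lit 4100, nat_lit 2, nat_lit 430088, nat_lit 421894, nat_lit 413700, nat_lit 405506, nat_lit 397312, nat_lit 160000, nat_lit 155904, nat_lit 151744, nat_lit 148192, nat_lit 144304, nat_lit 140128, nat_lit 135664, nat_lit 132078, nat_lit 45817, nat_lit 41050]⟩)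
 (.leaf ⟨[nat_lit 0xc69569551376bc02ad90b810f38c8a670583, nat_lit 0xf36fa60d977895d454c70abe470352c40886, nat_lit 0xa0af5c1324089dc4a5a6d521f0b9523586a6, nat_lit 0x8e2de1399481b5e0ac6932912b95af01302e], [nat_lit 77824, nat_lit 81920, nat_lit 86016, nat_lit 94208, nat_lit 102400, nat_lit 178176, nat_lit 173056, nat_lit 165120, nat_lit 161920, nat_lit 155840, nat_lit 151808, nat_lit 148864, nat_lit 144216, nat_lit 139568, nat_lit 137160, nat_lit 132172, nat_lit 304, nat_lit 7756, nat_lit 10312, nat_lit 14256, nat_lit 19232, nat_lit 24448, nat_lit 25728, nat_lit 32256, nat_lit 34304, nat_lit 43008, nat_lit 47100, nat_lit 41203, nat_lit 39228, nat_lit 35050, nat_lit 28788, nat_lit 24614, nat_lit 20488, nat_lit 16522, nat_lit 12307, nat_lit 8195, nat_lit 4097, nat_lit 434185, nat_lit 425991, nat_lit 417797, nat_lit 409603, nat_lit 397312, nat_lit 168960, nat_lit 165376, nat_lit 160000, nat_lit 156544, nat_lit 151616, nat_lit 145344, nat_lit 135528, nat_lit 132232, nat_lit 45088, nat_lit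 327680]⟩))))

theorem dcME87_ok : dcME87.all (elB (nat_lit 0)) = true := by decide +kernel

def dcME88 : BT El := (.node (nat_lit 708) (.node (nat_lit 706) (.node (nat_lit 705) (.leaf ndMr10_3)
 (.leaf ⟨[nat_lit 0x4bd7de3c28f232564b86d0c573128c5ba015, nat_lit 0x7d7e1d136c9a390104467b9ab224d6a640af, nat_lit 0x50fa9504ecc75c7168a54ac02f5190b494e4], [nat_lit 69632, nat_lit 81920, nat_lit 94208, nat_lit 102400, nat_lit 106496, nat_lit 110592, nat_lit 169472, nat_lit 165632, nat_lit 163072, nat_lit 156544, nat_lit 155552, nat_lit 150496, nat_lit 143376, nat_lit 140236, nat_lit 138664, nat_lit 131120, nat_lit 3948, nat_lit 4412, nat_lit 11440, nat_lit 14064, nat_lit 18368, nat_lit 23872, nat_lit 27648, nat_lit 29952, nat_lit 33280, nat_lit 38912, nat_lit 43008, nat_lit 46319, nat_lit 41489, nat_lit 38274, nat_lit 33414, nat_lit 29271, nat_lit 24722, nat_lit 20496, nat_lit 16395, nat_lit 12293, nat_lit 8200, nat_lit 4097, nat_lit 425991, nat_lit 417797, nat_lit 409603, nat_lit 397312,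 nat_lit 155776, nat_lit 151616, nat_lit 147488, nat_lit 143600, nat_lit 135416, nat_lit 131560, nat_lit 45080, nat_lit 40986, nat_lit 36970, nat_lit 8193, nat_lit 327680]⟩))
 (.node (nat_lit 707) (.leaf ndMr10_4)
 (.leaf ⟨[nat_lit 0xf59a05928f7a09952140f0c66e819161a56d, nat_lit 0x4472185cc028bd2c2a09230eed3d9c1852aa, nat_lit 0x363fa039a5108ad45a98f725a8b8c159c0a4], [nat_lit 65536, nat_lit 69632, nat_lit 81920, nat_lit 86016, nat_lit 90112, nat_lit 110592, nat_lit 178176, nat_lit 174080, nat_lit 168448, nat_lit 165632, nat_lit 162176, nat_lit 156416, nat_lit 152768, nat_lit 150528, nat_lit 146152, nat_lit 140804, nat_lit 139238, nat_lit 133965, nat_lit 1848, nat_lit 7764, nat_lit 10368, nat_lit 16032, nat_lit 19392, nat_lit 22016, nat_lit 25984, nat_lit 29184, nat_lit 33792, nat_lit 43008, nat_lit 46233, nat_lit 41375, nat_lit 36915, nat_lit 32839, nat_lit 28703, nat_lit 24583, nat_lit 21003, nat_lit 16422, nat_lit 12293, nat_lit 8193, nat_lit 4, nat_lit 430088, nat_lit 421892, nat_lit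 405506, nat_lit 397312, nat_lit 147712, nat_lit 143504, nat_lit 140040, nat_lit 135176, nat_lit 131076, nat_lit 45599, nat_lit 41088, nat_lit 24592, nat_lit 20488, nat_lit 327680]⟩)))
 (.node (nat_lit 710) (.node (nat_lit 709) (.leaf ndMr10_5)
 (.leaf ⟨[nat_lit 0x936c9a2a68ab9a3260a68259cf19c155860d, nat_lit 0xac56994c696a8dc6440a76adf220aec00553], [nat_lit 73728, nat_lit 90112, nat_lit 98304, nat_lit 106496, nat_lit 110592, nat_lit 173056, nat_lit 167680, nat_lit 161152, nat_lit 158208, nat_lit 152000, nat_lit 150736, nat_lit 144744, nat_lit 141236, nat_lit 135356, nat_lit 133769, nat_lit 3768, nat_lit 7676, nat_lit 10816, nat_lit 15632, nat_lit 18784, nat_lit 21312, nat_lit 26112, nat_lit 30720, nat_lit 33280, nat_lit 39936, nat_lit 47037, nat_lit 41845, nat_lit 38284, nat_lit 33909, nat_lit 28778, nat_lit 24748, nat_lit 20628, nat_lit 16394, nat_lit 12305, nat_lit 8225, nat_lit 4100, nat_lit 2, nat_lit 413700, nat_lit 397312, nat_lit 147488, nat_lit 135200, nat_lit 131090, nat_lit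 36880, nat_lit 32769, nat_lit 28704, nat_lit 24627, nat_lit 327680]⟩))
 (.node (nat_lit 711) (.leaf ndMr10_6)
 (.leaf ⟨[nat_lit 0xb4d721225e12d4f08aaeb6ce8c1481640dc6, nat_lit 0xb812beb4e95124ef684cb1a88cbca30020ae, nat_lit 0x82242ba2e608285528d813a5a8b5de43464e], [nat_lit 65536, nat_lit 69632, nat_lit 86016, nat_lit 90112, nat_lit 94208, nat_lit 102400, nat_lit 178176, nat_lit 173056, nat_lit 168960, nat_lit 164608, nat_lit 162944, nat_lit 158976, nat_lit 153376, nat_lit 148528, nat_lit 143760, nat_lit 140744, nat_lit 136042, nat_lit 133545, nat_lit 4072, nat_lit 8112, nat_lit 10440, nat_lit 13216, nat_lit 17856, nat_lit 24320, nat_lit 25984, nat_lit 32256, nat_lit 34816, nat_lit 43008, nat_lit 45103, nat_lit 41950, nat_lit 37000, nat_lit 32991, nat_lit 29054, nat_lit 24626, nat_lit 20569, nat_lit 16394, nat_lit 12292, nat_lit 4112, nat_lit 425988, nat_lit 405506, nat_lit 397312, nat_lit 147712, nat_lit 143616, nat_lit 139288, nat_lit 135196, nat_lit 131096, nat_lit 45080, nat_lit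 40968, nat_lit 37149, nat_lit 28679, nat_lit 24584, nat_lit 20485, nat_lit 327680]⟩))))

theorem dcME88_ok : dcME88.all (elB (nat_lit 0)) = true := by decide +kernel

def dcME89 : BT El := (.node (nat_lit 716) (.node (nat_lit 714) (.node (nat_lit 713) (.leaf ndMr10_7)
 (.leaf ⟨[nat_lit 0xbe24b8250366de4a59c69638c0ac5e814e05, nat_lit 0x4db41ead10e21d2c016d3b864678c4a5b611, nat_lit 0xb2227d9b930434a4b328b35e437a8413d411, nat_lit 0x48d1eb19aed14c0b706c74c5ec8568a22245], [nat_lit 65536, nat_lit 86016, nat_lit 110592, nat_lit 178176, nat_lit 173056, nat_lit 168960, nat_lit 164096, nat_lit 160640, nat_lit 158720, nat_lit 151648, nat_lit 147664, nat_lit 145144, nat_lit 139672, nat_lit 135666, nat_lit 131279, nat_lit 1004, nat_lit 6984, nat_lit 9408, nat_lit 13872, nat_lit 17856, nat_lit 24448, nat_lit 28416, nat_lit 29184, nat_lit 33792, nat_lit 43008, nat_lit 46776, nat_lit 41421, nat_lit 39047, nat_lit 32834, nat_lit 29735, nat_lit 24723, nat_lit 20555, nat_lit 16397, nat_lit 12307,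 nat_lit 438282, nat_lit 430088, nat_lit 421894, nat_lit 413700, nat_lit 405506, nat_lit 397312, nat_lit 165888, nat_lit 162048, nat_lit 156160, nat_lit 152064, nat_lit 145584, nat_lit 140360, nat_lit 136492, nat_lit 131666]⟩))
 (.node (nat_lit 715) (.leaf ndMr10_8)
 (.leaf ⟨[nat_lit 0x9acc0f2b1690904ea3ee7b2a2340215999b2, nat_lit 0x4ee7121984c88154986c95950fbb8953c9b0, nat_lit 0x3f903a445674d46f559a1615d3140c095097], [nat_lit 77824, nat_lit 86016, nat_lit 90112, nat_lit 98304, nat_lit 102400, nat_lit 175104, nat_lit 170496, nat_lit 167424, nat_lit 162176, nat_lit 158912, nat_lit 155104, nat_lit 148352, nat_lit 144792, nat_lit 140328, nat_lit 136120, nat_lit 131382, nat_lit 1664, nat_lit 5900, nat_lit 11128, nat_lit 13392, nat_lit 19904, nat_lit 20608, nat_lit 27264, nat_lit 31744, nat_lit 37888, nat_lit 46403, nat_lit 43148, nat_lit 37361, nat_lit 33412, nat_lit 29311, nat_lit 24617, nat_lit 20488, nat_lit 16393, nat_lit 12290, nat_lit 8322, nat_lit 4097, nat_lit 2, nat_lit 425991,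 nat_lit 417796, nat_lit 405506, nat_lit 397312, nat_lit 155904, nat_lit 147648, nat_lit 143696, nat_lit 139480, nat_lit 135560, nat_lit 131334, nat_lit 45057, nat_lit 41102, nat_lit 37149, nat_lit 20482]⟩)))
 (.node (nat_lit 718) (.node (nat_lit 717) (.leaf ndMr10_9)
 (.leaf ⟨[nat_lit 0xfaa650006547b2f1715424b46699c958590b, nat_lit 0x5050ac055f432a5672d2168e71822e7610a2, nat_lit 0x24812b7b20059a8d42a4238cb14ddc4b5661], [nat_lit 65536, nat_lit 73728, nat_lit 77824, nat_lit 102400, nat_lit 178176, nat_lit 174080, nat_lit 169472, nat_lit 164096, nat_lit 158272, nat_lit 155360, nat_lit 150112, nat_lit 145192, nat_lit 142672, nat_lit 135578, nat_lit 133918, nat_lit 736, nat_lit 6308, nat_lit 11344, nat_lit 16288, nat_lit 16896, nat_lit 23296, nat_lit 26496, nat_lit 32512, nat_lit 34816, nat_lit 39936, nat_lit 43008, nat_lit 46717, nat_lit 43031, nat_lit 38199, nat_lit 32813, nat_lit 28712, nat_lit 25093, nat_lit 20637, nat_lit 16418, nat_lit 12295, nat_lit 8194, nat_lit 421894, nat_lit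 413700, nat_lit 405506, nat_lit 397312, nat_lit 155776, nat_lit 151744, nat_lit 147616, nat_lit 143392, nat_lit 139312, nat_lit 135196, nat_lit 131102, nat_lit 45248, nat_lit 41156, nat_lit 37064, nat_lit 33023, nat_lit 327680]⟩))
 (.node (nat_lit 719) (.leaf ndMr10_10)
 (.leaf ⟨[nat_lit 0xeb7882a55e23da69439430b65020185b9a2b, nat_lit 0xb2784b424276946c20a33bc1cb054d692a8f, nat_lit 0xe74ded93ca182a363b05300ea822e866a6ee], [nat_lit 69632, nat_lit 77824, nat_lit 81920, nat_lit 94208, nat_lit 110592, nat_lit 169472, nat_lit 165376, nat_lit 161280, nat_lit 159040, nat_lit 154848, nat_lit 148320, nat_lit 143960, nat_lit 141652, nat_lit 136704, nat_lit 132148, nat_lit 1184, nat_lit 5608, nat_lit 12176, nat_lit 13392, nat_lit 18784, nat_lit 22016, nat_lit 27904, nat_lit 30464, nat_lit 34816, nat_lit 38912, nat_lit 45911, nat_lit 41859, nat_lit 37360, nat_lit 33331, nat_lit 28679, nat_lit 24870, nat_lit 20570, nat_lit 16391, nat_lit 12324, nat_lit 8208, nat_lit 4097, nat_lit 2, nat_lit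 421894, nat_lit 413700, nat_lit 405506, nat_lit 397312, nat_lit 155776, nat_lit 147616, nat_lit 143552, nat_lit 139368, nat_lit 135176, nat_lit 131326, nat_lit 45122, nat_lit 41165, nat_lit 37114, nat_lit 32907, nat_lit 327680]⟩))))

theorem dcME89_ok : dcME89.all (elB (nat_lit 0)) = true := by decide +kernel

def dcME90 : BT El := (.node (nat_lit 724) (.node (nat_lit 722) (.node (nat_lit 721) (.leaf ndMr10_11)
 (.leaf ⟨[nat_lit 0x95c3f03203168c555b2899c2ce396ef02a44, nat_lit 0x93c65c726c4818e25811153cb4931a39dc35, nat_lit 0x7e4472b128f5dc132b9493c24c33462406b1, nat_lit 0xfa0c694a862bd671734a623cec852d208168], [nat_lit 65536, nat_lit 69632, nat_lit 73728, nat_lit 77824, nat_lit 81920, nat_lit 86016, nat_lit 90112, nat_lit 98304, nat_lit 102400, nat_lit 178176, nat_lit 174080, nat_lit 168448, nat_lit 165888, nat_lit 160768, nat_lit 156352, nat_lit 154368, nat_lit 151376, nat_lit 145768, nat_lit 140452, nat_lit 136916, nat_lit 132320, nat_lit 1822, nat_lit 6444, nat_lit 10184, nat_lit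 14096, nat_lit 20256, nat_lit 22464, nat_lit 24960, nat_lit 33792, nat_lit 37888, nat_lit 46569, nat_lit 43569, nat_lit 37185, nat_lit 32796, nat_lit 28673, nat_lit 24593, nat_lit 20502, nat_lit 12545, nat_lit 8193, nat_lit 4129, nat_lit 2, nat_lit 438282, nat_lit 430088, nat_lit 421894, nat_lit 413700, nat_lit 405506, nat_lit 397312, nat_lit 174080, nat_lit 171008, nat_lit 165888, nat_lit 161536, nat_lit 159104, nat_lit 153600, nat_lit 150496, nat_lit 145056, nat_lit 141936, nat_lit 137076, nat_lit 134704]⟩))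
 (.node (nat_lit 723) (.leaf ndMr10_12)
 (.leaf ⟨[nat_lit 0x33a555ba54c020f11d02e2d5a481962b4df2, nat_lit 0xa9a5f09160242426bb553b54e02386f8b174, nat_lit 0xbb28d11554869e09016e67ba830ca762322b, nat_lit 0xbd441e79d0d3006a985d592cb0b249760a34], [nat_lit 73728, nat_lit 77824, nat_lit 98304, nat_lit 102400, nat_lit 106496, nat_lit 110592, nat_lit 178176, nat_lit 170496, nat_lit 164096, nat_lit 163328, nat_lit 159232, nat_lit 153696, nat_lit 151200, nat_lit 146072, nat_lit 142824, nat_lit 137830, nat_lit 132932, nat_lit 3632, nat_lit 6132, nat_lit 11168, nat_lit 15312, nat_lit 17728, nat_lit 20672, nat_lit 25984, nat_lit 31232, nat_lit 33792, nat_lit 39936, nat_lit 43008, nat_lit 46087, nat_lit 41398, nat_lit 37170, nat_lit 33509, nat_lit 29020, nat_lit 24855, nat_lit 21016, nat_lit 16396, nat_lit 12307, nat_lit 8195, nat_lit 4101, nat_lit 434185, nat_lit 425990, nat_lit 413700, nat_lit 405506, nat_lit 397312, nat_lit 164864, nat_lit 153152, nat_lit 148224, nat_lit 144384, nat_lit 141168,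 nat_lit 135284, nat_lit 131376, nat_lit 45625, nat_lit 28736, nat_lit 327680]⟩)))
 (.node (nat_lit 726) (.node (nat_lit 725) (.leaf ndMr10_13)
 (.leaf ⟨[nat_lit 0x9a0f551ddd37914da9d7432650104a888196, nat_lit 0xf06663241c861972b50774cda53c5eaa8041, nat_lit 0x993aca8ae12011f533437a30a25213338ece], [nat_lit 69632, nat_lit 77824, nat_lit 81920, nat_lit 90112, nat_lit 94208, nat_lit 98304, nat_lit 102400, nat_lit 106496, nat_lit 110592, nat_lit 178176, nat_lit 173056, nat_lit 171008, nat_lit 165120, nat_lit 160000, nat_lit 158528, nat_lit 154240, nat_lit 148304, nat_lit 145232, nat_lit 139744, nat_lit 135248, nat_lit 132502, nat_lit 902, nat_lit 8064, nat_lit 10104, nat_lit 14048, nat_lit 19296, nat_lit 20800, nat_lit 28160, nat_lit 30976, nat_lit 36352, nat_lit 43008, nat_lit 46289, nat_lit 43735, nat_lit 38338, nat_lit 32957, nat_lit 28692, nat_lit 25144, nat_lit 20569, nat_lit 16451, nat_lit 12289, nat_lit 8208, nat_lit 4101, nat_lit 4, nat_lit 421893, nat_lit 409603, nat_lit 397312,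 nat_lit 143392, nat_lit 135176, nat_lit 131234, nat_lit 45218, nat_lit 41136, nat_lit 36865, nat_lit 32931, nat_lit 24586, nat_lit 8193, nat_lit 327680]⟩))
 (.node (nat_lit 727) (.leaf ndMr10_14)
 (.leaf ⟨[nat_lit 0xd4d4e2111439a0d03bd89b062e055b22ae97, nat_lit 0x655563a26163c4a8b99e1036a41a8529b16e, nat_lit 0x1d8d2e134f433aa05066391524b5e0b8b1e8, nat_lit 0xc60cfa7228c54ad130db3095f0b8162492a7], [nat_lit 65536, nat_lit 69632, nat_lit 73728, nat_lit 81920, nat_lit 90112, nat_lit 94208, nat_lit 102400, nat_lit 110592, nat_lit 173056, nat_lit 169472, nat_lit 164608, nat_lit 162176, nat_lit 156288, nat_lit 152608, nat_lit 149264, nat_lit 145152, nat_lit 140280, nat_lit 135672, nat_lit 132634, nat_lit 2852, nat_lit 4604, nat_lit 11952, nat_lit 13360, nat_lit 18464, nat_lit 20928, nat_lit 26752, nat_lit 33280, nat_lit 46675, nat_lit 41185, nat_lit 37216, nat_lit 33311, nat_lit 29800, nat_lit 24606, nat_lit 20738, nat_lit 16430, nat_lit 12289, nat_lit 8224, nat_lit 4097, nat_lit 430088,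 nat_lit 421894, nat_lit 413700, nat_lit 405506, nat_lit 397312, nat_lit 164352, nat_lit 160000, nat_lit 155904, nat_lit 152064, nat_lit 147936, nat_lit 143888, nat_lit 139520, nat_lit 135348, nat_lit 131124, nat_lit 45682, nat_lit 41561, nat_lit 327680]⟩))))

theorem dcME90_ok : dcME90.all (elB (nat_lit 0)) = true := by decide +kernel

def dcME91 : BT El := (.node (nat_lit 732) (.node (nat_lit 730) (.node (nat_lit 729) (.leaf ndMr10_15)
 (.leaf ⟨[nat_lit 0x59cc63886cb24d9269d0a15609798602baf4, nat_lit 0xa06c068cd9093dae3a85622014ba4251aea6, nat_lit 0xdb7ed4984a07448f958d741d50a2c6ca89a9], [nat_lit 65536, nat_lit 69632, nat_lit 77824, nat_lit 81920, nat_lit 178176, nat_lit 175104, nat_lit 169984, nat_lit 165888, nat_lit 163456, nat_lit 156608, nat_lit 153376, nat_lit 148032, nat_lit 145976, nat_lit 142196, nat_lit 137144, nat_lit 132830, nat_lit 1092, nat_lit 5136, nat_lit 9952, nat_lit 15760, nat_lit 20320, nat_lit 23360, nat_lit 28032, nat_lit 29952, nat_lit 34304, nat_lit 37888,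 nat_lit 46590, nat_lit 41705, nat_lit 38060, nat_lit 34821, nat_lit 29020, nat_lit 24847, nat_lit 20570, nat_lit 16451, nat_lit 12289, nat_lit 8194, nat_lit 4097, nat_lit 417796, nat_lit 405506, nat_lit 397312, nat_lit 147520, nat_lit 135192, nat_lit 131082, nat_lit 45064, nat_lit 41027, nat_lit 36893, nat_lit 28756, nat_lit 20502]⟩))
 (.node (nat_lit 731) (.leaf ndMr10_16)
 (.leaf ⟨[nat_lit 0xe411ee7cd2ba2866bb615b1428938e488980, nat_lit 0xd14ee89d5d1024f0b95a60b282248687aacb, nat_lit 0x788d8b7a250344740cc9759cad1300ab25d5], [nat_lit 65536, nat_lit 69632, nat_lit 73728, nat_lit 81920, nat_lit 86016, nat_lit 94208, nat_lit 98304, nat_lit 106496, nat_lit 110592, nat_lit 173056, nat_lit 169984, nat_lit 160128, nat_lit 156160, nat_lit 155072, nat_lit 148800, nat_lit 146264, nat_lit 142472, nat_lit 136630, nat_lit 133495, nat_lit 1622, nat_lit 6620, nat_lit 9440, nat_lit 15056, nat_lit 16416, nat_lit 22400, nat_lit 25600, nat_lit 32256, nat_lit 35840, nat_lit 38912, nat_lit 46629, nat_lit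 43440, nat_lit 37126, nat_lit 33533, nat_lit 28934, nat_lit 24711, nat_lit 20563, nat_lit 16457, nat_lit 12294, nat_lit 8200, nat_lit 4101, nat_lit 430087, nat_lit 417797, nat_lit 405506, nat_lit 397312, nat_lit 160256, nat_lit 152256, nat_lit 143872, nat_lit 139336, nat_lit 135328, nat_lit 131776, nat_lit 45065, nat_lit 40971, nat_lit 32867, nat_lit 16397, nat_lit 327680]⟩)))
 (.node (nat_lit 734) (.node (nat_lit 733) (.leaf ndMr10_17)
 (.leaf ⟨[nat_lit 0xbb27de2cda82260e03eec11ec60d23250eab, nat_lit 0xeb22b4a5cee089e45d473b492081991521a5, nat_lit 0x9c365c995c3abd2c049a7219768d15040837], [nat_lit 73728, nat_lit 77824, nat_lit 94208, nat_lit 102400, nat_lit 178176, nat_lit 173056, nat_lit 168448, nat_lit 166656, nat_lit 163456, nat_lit 159040, nat_lit 151616, nat_lit 151296, nat_lit 144136, nat_lit 141668, nat_lit 138068, nat_lit 131615, nat_lit 1386, nat_lit 6844, nat_lit 8856, nat_lit 15216, nat_lit 19488, nat_lit 23040, nat_lit 26240, nat_lit 32512, nat_lit 35840, nat_lit 39936,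 nat_lit 43008, nat_lit 45063, nat_lit 41089, nat_lit 37317, nat_lit 33349, nat_lit 28928, nat_lit 24582, nat_lit 20507, nat_lit 16429, nat_lit 8208, nat_lit 430087, nat_lit 417796, nat_lit 405506, nat_lit 397312, nat_lit 147968, nat_lit 143872, nat_lit 139928, nat_lit 135692, nat_lit 131610, nat_lit 45760, nat_lit 41103, nat_lit 32769, nat_lit 20484, nat_lit 327680]⟩))
 (.node (nat_lit 735) (.leaf ⟨[nat_lit 0x555c3a089567d18bacd12336002446e3dd25, nat_lit 0x3f0956ab8e99c01153cd7a3104b156d10c32, nat_lit 0xc35aa589240520267d570638e22d0769dd2d], [nat_lit 65536, nat_lit 69632, nat_lit 73728, nat_lit 94208, nat_lit 110592, nat_lit 164608, nat_lit 161536, nat_lit 155776, nat_lit 153056, nat_lit 148304, nat_lit 146016, nat_lit 139324, nat_lit 135704, nat_lit 135163, nat_lit 536, nat_lit 6392, nat_lit 11448, nat_lit 12496, nat_lit 19136, nat_lit 23872, nat_lit 24832, nat_lit 30720, nat_lit 35328, nat_lit 43008, nat_lit 46014, nat_lit 41008, nat_lit 38977, nat_lit 32843, nat_lit 28728, nat_lit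 24604, nat_lit 20493, nat_lit 16457, nat_lit 12324, nat_lit 8195, nat_lit 4100, nat_lit 425990, nat_lit 405506, nat_lit 397312, nat_lit 143680, nat_lit 139328, nat_lit 135232, nat_lit 131334, nat_lit 45320, nat_lit 41027, nat_lit 36872, nat_lit 28680, nat_lit 20488, nat_lit 16390, nat_lit 327680]⟩)
 (.leaf ⟨[nat_lit 0xbd78bba2d3798a4118211ad90a63ca7311ae], [nat_lit 65536, nat_lit 81920, nat_lit 86016, nat_lit 102400, nat_lit 173056, nat_lit 171008, nat_lit 164352, nat_lit 160384, nat_lit 156672, nat_lit 153952, nat_lit 143744, nat_lit 140412, nat_lit 135376, nat_lit 133603, nat_lit 1624, nat_lit 5488, nat_lit 10256, nat_lit 15920, nat_lit 18336, nat_lit 23424, nat_lit 26240, nat_lit 29696, nat_lit 35840, nat_lit 38912, nat_lit 43008, nat_lit 41932, nat_lit 38392, nat_lit 34035, nat_lit 28724, nat_lit 24614, nat_lit 20505, nat_lit 16387, nat_lit 12325, nat_lit 4112, nat_lit 2]⟩))))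

theorem dcME91_ok : dcME91.all (elB (nat_lit 0)) = true := by decide +kernel

def dcME92 : BT El := (.node (nat_lit 740) (.node (nat_lit 738) (.node (nat_lit 737) (.leaf ⟨[nat_lit 0x4e171d9d2a155caf441232480769acb8b04e, nat_lit 0xf636099c29195ab759c2f4984d61008195ca, nat_lit 0xc90c0aade5162dc9300675350f9c29628881], [nat_lit 94208, nat_lit 98304, nat_lit 175104, nat_lit 171008, nat_lit 166912, nat_lit 163072, nat_lit 156864, nat_lit 155520, nat_lit 149488, nat_lit 144456, nat_lit 141684, nat_lit 138690, nat_lit 133196, nat_lit 3832, nat_lit 5604, nat_lit 10024, nat_lit 13664, nat_lit 18848, nat_lit 20992, nat_lit 26112, nat_lit 31232, nat_lit 33792, nat_lit 38912, nat_lit 46549, nat_lit 43123, nat_lit 36954, nat_lit 32916, nat_lit 28680, nat_lit 25145, nat_lit 20488, nat_lit 16650, nat_lit 8208, nat_lit 4097, nat_lit 2, nat_lit 425988, nat_lit 405506, nat_lit 397312, nat_lit 143376, nat_lit 139520, nat_lit 135172, nat_lit 131332, nat_lit 45071, nat_lit 40976, nat_lit 36870, nat_lit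 28688, nat_lit 24581, nat_lit 20496]⟩)
 (.leaf ⟨[nat_lit 0xd7d2d7a553789da1301935a916838a21924f], [nat_lit 65536, nat_lit 77824, nat_lit 86016, nat_lit 94208, nat_lit 98304, nat_lit 106496, nat_lit 174080, nat_lit 168960, nat_lit 164608, nat_lit 161280, nat_lit 159040, nat_lit 154048, nat_lit 148464, nat_lit 144184, nat_lit 141176, nat_lit 136094, nat_lit 133607, nat_lit 1014, nat_lit 6016, nat_lit 8208, nat_lit 14352, nat_lit 24384, nat_lit 24832, nat_lit 30720, nat_lit 36352, nat_lit 38912, nat_lit 41949, nat_lit 37298, nat_lit 33014, nat_lit 28729, nat_lit 24845, nat_lit 20506, nat_lit 16423, nat_lit 12308, nat_lit 8208, nat_lit 4129]⟩))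
 (.node (nat_lit 739) (.leaf ⟨[nat_lit 0xb4d7212cdea3490e22d906c4e9b0860b86b4, nat_lit 0xed822e8914e052b77a2079a4cc158616ae45, nat_lit 0x7e87d7340e5a8d0e509f44b6e08925362c36], [nat_lit 69632, nat_lit 73728, nat_lit 81920, nat_lit 86016, nat_lit 94208, nat_lit 98304, nat_lit 178176, nat_lit 173056, nat_lit 171520, nat_lit 164864, nat_lit 163328, nat_lit 159616, nat_lit 152352, nat_lit 147632, nat_lit 147384, nat_lit 142888, nat_lit 135516, nat_lit 133286, nat_lit 3832, nat_lit 7652, nat_lit 10024, nat_lit 15712, nat_lit 18848, nat_lit 23040, nat_lit 26112, nat_lit 31232, nat_lit 33792, nat_lit 38912, nat_lit 46549, nat_lit 43123, nat_lit 36954, nat_lit 32916, nat_lit 28680, nat_lit 25145, nat_lit 20488, nat_lit 16650, nat_lit 8208, nat_lit 4097, nat_lit 2, nat_lit 425988, nat_lit 405506, nat_lit 397312, nat_lit 143376, nat_lit 139520, nat_lit 135172, nat_lit 131332, nat_lit 45071, nat_lit 40976, nat_lit 36870, nat_lit 28688, nat_lit 24581, nat_lit 20496]⟩)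
 (.leaf ⟨[nat_lit 0x6c50c03c0cc68a43510157a5132aec174697, nat_lit 0x111287926cf6d22b19ca610024532f375608, nat_lit 0x5ff5954148b3292798812bbdd5b31b408e30], [nat_lit 73728, nat_lit 77824, nat_lit 98304, nat_lit 106496, nat_lit 178176, nat_lit 173056, nat_lit 168960, nat_lit 166656, nat_lit 162176, nat_lit 155712, nat_lit 154208, nat_lit 150304, nat_lit 146192, nat_lit 142232, nat_lit 135260, nat_lit 131116, nat_lit 1294, nat_lit 7200, nat_lit 9424, nat_lit 12320, nat_lit 18336, nat_lit 24512, nat_lit 26752, nat_lit 32256, nat_lit 36352, nat_lit 46169, nat_lit 43874, nat_lit 38303, nat_lit 33863, nat_lit 28761, nat_lit 24612, nat_lit 20575, nat_lit 12294, nat_lit 8194, nat_lit 4101, nat_lit 2, nat_lit 417796, nat_lit 405506, nat_lit 397312, nat_lit 143440, nat_lit 139352, nat_lit 135240, nat_lit 131154, nat_lit 45141, nat_lit 41045, nat_lit 32787, nat_lit 28757]⟩)))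
 (.node (nat_lit 742) (.node (nat_lit 741) (.leaf ⟨[nat_lit 0x99099fa81a50a662a5e4b839eab306641c91, nat_lit 0xacc005884e97b99602e45412621a8d0ade8d, nat_lit 0x693ac5940d329227a058a0550dbb869b2c4f], [nat_lit 73728, nat_lit 77824, nat_lit 81920, nat_lit 86016, nat_lit 90112, nat_lit 94208, nat_lit 98304, nat_lit 106496, nat_lit 178176, nat_lit 173056, nat_lit 170496, nat_lit 165632, nat_lit 161024, nat_lit 155904, nat_lit 152480, nat_lit 149680, nat_lit 146208, nat_lit 140672, nat_lit 139004, nat_lit 134059, nat_lit 1596, nat_lit 4316, nat_lit 11152, nat_lit 14096, nat_lit 18112, nat_lit 23168, nat_lit 26752, nat_lit 32256, nat_lit 35328, nat_lit 39936, nat_lit 43008, nat_lit 45519, nat_lit 41785, nat_lit 37298, nat_lit 32817, nat_lit 28797, nat_lit 24617, nat_lit 20491, nat_lit 16386, nat_lit 12324, nat_lit 4097, nat_lit 417796, nat_lit 405506, nat_lit 397312, nat_lit 147520, nat_lit 143440, nat_lit 139344, nat_lit 135256, nat_lit 131090, nat_lit 45081, nat_lit 41045, nat_lit 36891,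 nat_lit 32833, nat_lit 28674, nat_lit 20507]⟩)
 (.leaf ndMr5_10))
 (.node (nat_lit 743) (.leaf ⟨[nat_lit 0xf099633883205d0da1ad17ccac726a38288b, nat_lit 0xc35a5a22d94b15a892809ac2e11c5ee998e2, nat_lit 0x5cf33b0e6d756025bcec02024496f43464a, nat_lit 0x63c6ac48a64794d73c4281b8148564cb356a], [nat_lit 65536, nat_lit 69632, nat_lit 86016, nat_lit 94208, nat_lit 98304, nat_lit 102400, nat_lit 110592, nat_lit 178176, nat_lit 173056, nat_lit 164096, nat_lit 160768, nat_lit 155840, nat_lit 152704, nat_lit 148496, nat_lit 144432, nat_lit 142916, nat_lit 135174, nat_lit 131408, nat_lit 2618, nat_lit 4824, nat_lit 10240, nat_lit 13136, nat_lit 18016, nat_lit 23552, nat_lit 25600, nat_lit 30208, nat_lit 46138, nat_lit 43743, nat_lit 36917, nat_lit 32817, nat_lit 28725, nat_lit 24581, nat_lit 20503, nat_lit 16416, nat_lit 12295, nat_lit 8195, nat_lit 4, nat_lit 438282, nat_lit 430088, nat_lit 421894, nat_lit 413700, nat_lit 405506, nat_lit 397312, nat_lit 168960, nat_lit 166912, nat_lit 162304,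 nat_lit 156032, nat_lit 154944, nat_lit 151456, nat_lit 146272, nat_lit 141112, nat_lit 138412, nat_lit 134268]⟩)
 (.leaf ndMr10_32))))

theorem dcME92_ok : dcME92.all (elB (nat_lit 0)) = true := by decide +kernel

def dcME93 : BT El := (.node (nat_lit 748) (.node (nat_lit 746) (.node (nat_lit 745) (.leaf ⟨[nat_lit 0x69ac599293125aa7b94d4634227b80342e70, nat_lit 0x9635359aab42586c6c9c9009703c5060bee5, nat_lit 0x560fc9a11216be6c2a01774232b1d6311955], [nat_lit 65536, nat_lit 69632, nat_lit 77824, nat_lit 86016, nat_lit 90112, nat_lit 106496, nat_lit 110592, nat_lit 175104, nat_lit 170496, nat_lit 165120, nat_lit 158848, nat_lit 152128, nat_lit 151376, nat_lit 144784, nat_lit 140896, nat_lit 136694, nat_lit 134051, nat_lit 2124, nat_lit 7256, nat_lit 8608, nat_lit 12960, nat_lit 19040, nat_lit 20928, nat_lit 27520, nat_lit 32512, nat_lit 35840, nat_lit 39936, nat_lit 46146, nat_lit 44007, nat_lit 37147, nat_lit 33510, nat_lit 28699, nat_lit 24597, nat_lit 20747, nat_lit 16424, nat_lit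 12310, nat_lit 4097, nat_lit 425990, nat_lit 413700, nat_lit 405506, nat_lit 397312, nat_lit 155904, nat_lit 147776, nat_lit 143456, nat_lit 139352, nat_lit 135476, nat_lit 131400, nat_lit 45399, nat_lit 41251, nat_lit 37144, nat_lit 28674, nat_lit 327680]⟩)
 (.leaf ndMr10_34))
 (.node (nat_lit 747) (.leaf ⟨[nat_lit 0xf0fff049d6f93a64802cabb0b44547133422, nat_lit 0x1dbe84b860e4a1676d0132a8c4a8e2f132d2], [nat_lit 65536, nat_lit 69632, nat_lit 73728, nat_lit 77824, nat_lit 86016, nat_lit 90112, nat_lit 98304, nat_lit 102400, nat_lit 106496, nat_lit 178176, nat_lit 174080, nat_lit 170496, nat_lit 167424, nat_lit 161408, nat_lit 155776, nat_lit 153792, nat_lit 149712, nat_lit 145200, nat_lit 141208, nat_lit 138908, nat_lit 133656, nat_lit 2550, nat_lit 5764, nat_lit 10336, nat_lit 15520, nat_lit 17920, nat_lit 24512, nat_lit 27264, nat_lit 30464, nat_lit 36352, nat_lit 46173, nat_lit 43906, nat_lit 37018, nat_lit 32807, nat_lit 29271, nat_lit 24634, nat_lit 20502, nat_lit 16392, nat_lit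 12304, nat_lit 8194, nat_lit 4100, nat_lit 128, nat_lit 405506, nat_lit 397312, nat_lit 139272, nat_lit 135176, nat_lit 131082, nat_lit 40968, nat_lit 32783, nat_lit 28673, nat_lit 24591, nat_lit 20484, nat_lit 16388]⟩)
 (.leaf ndMr10_35)))
 (.node (nat_lit 750) (.node (nat_lit 749) (.leaf ⟨[nat_lit 0xbebdd494526435c705a0c22c629d5e1a16ea, nat_lit 0x90a605406439acc7209946b9504de36796a0], [nat_lit 65536, nat_lit 73728, nat_lit 77824, nat_lit 86016, nat_lit 106496, nat_lit 178176, nat_lit 175104, nat_lit 171520, nat_lit 166656, nat_lit 161792, nat_lit 156736, nat_lit 153280, nat_lit 150304, nat_lit 145112, nat_lit 140580, nat_lit 135958, nat_lit 133424, nat_lit 2730, nat_lit 4296, nat_lit 8992, nat_lit 15216, nat_lit 18240, nat_lit 22208, nat_lit 27904, nat_lit 32512, nat_lit 33792, nat_lit 39936, nat_lit 46110, nat_lit 41502, nat_lit 37375, nat_lit 33494, nat_lit 28712, nat_lit 25148, nat_lit 20489, nat_lit 16398, nat_lit 12307, nat_lit 8200, nat_lit 405506, nat_lit 397312, nat_lit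 135172, nat_lit 131076, nat_lit 40962, nat_lit 36868, nat_lit 32783, nat_lit 28687, nat_lit 24580, nat_lit 20481, nat_lit 16386]⟩)
 (.leaf ndMr10_31))
 (.node (nat_lit 751) (.leaf ⟨[nat_lit 0xbee7e2a8912311e76b985bc163a44090aa76, nat_lit 0x42228d59a30389009d46c550962a5eebc82d, nat_lit 0x82e78e100b322d12ab42989ef41bd56641c6, nat_lit 0xbb72e76c44022e81b24e365eb0348af44dca], [nat_lit 65536, nat_lit 77824, nat_lit 86016, nat_lit 90112, nat_lit 98304, nat_lit 106496, nat_lit 168448, nat_lit 164096, nat_lit 160768, nat_lit 155776, nat_lit 152736, nat_lit 148496, nat_lit 144432, nat_lit 142916, nat_lit 135174, nat_lit 131409, nat_lit 1662, nat_lit 7504, nat_lit 8600, nat_lit 13952, nat_lit 18016, nat_lit 23552, nat_lit 27904, nat_lit 32512, nat_lit 34816, nat_lit 38912, nat_lit 46481, nat_lit 43093, nat_lit 37291, nat_lit 32843, nat_lit 28728, nat_lit 24588, nat_lit 20618, nat_lit 16426, nat_lit 12290, nat_lit 8259, nat_lit 4100, nat_lit 438282, nat_lit 430088, nat_lit 421894, nat_lit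 413700, nat_lit 405506, nat_lit 397312, nat_lit 171008, nat_lit 164352, nat_lit 160256, nat_lit 158336, nat_lit 152064, nat_lit 147968, nat_lit 145712, nat_lit 143032, nat_lit 138908, nat_lit 131782]⟩)
 (.leaf ndMr10_28))))

theorem dcME93_ok : dcME93.all (elB (nat_lit 0)) = true := by decide +kernel

def dcME94 : BT El := (.node (nat_lit 756) (.node (nat_lit 754) (.node (nat_lit 753) (.leaf ⟨[nat_lit 0x9c50cf43a1531ca364eea008246ae91926cf, nat_lit 0xd4e8b8b0cea049812c1a47c6974a1d35d4c2, nat_lit 0x3c33c6601011dcd02c6c29a64e790eb555b4, nat_lit 0x42d27d8340ab91684b263b0446a1e512beae], [nat_lit 65536, nat_lit 69632, nat_lit 94208, nat_lit 102400, nat_lit 110592, nat_lit 171008, nat_lit 167424, nat_lit 163328, nat_lit 157248, nat_lit 152960, nat_lit 150400, nat_lit 145840, nat_lit 140188, nat_lit 135236, nat_lit 133967, nat_lit 3660, nat_lit 7052, nat_lit 10224, nat_lit 13968, nat_lit 17120, nat_lit 22784, nat_lit 26496, nat_lit 34816, nat_lit 43008, nat_lit 46506, nat_lit 43538, nat_lit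 37123, nat_lit 32876, nat_lit 29723, nat_lit 24855, nat_lit 20547, nat_lit 16398, nat_lit 12310, nat_lit 8210, nat_lit 4097, nat_lit 2, nat_lit 438282, nat_lit 430088, nat_lit 421894, nat_lit 413700, nat_lit 405506, nat_lit 397312, nat_lit 168960, nat_lit 166912, nat_lit 162048, nat_lit 157056, nat_lit 152256, nat_lit 148320, nat_lit 146992, nat_lit 140344, nat_lit 136072, nat_lit 134066]⟩)
 (.leaf ndMr10_29))
 (.node (nat_lit 755) (.leaf ⟨[nat_lit 0x71b472458ec554af9d2e15c849839a01c486, nat_lit 0x1b22bb8b530590ecba9d690ea598a8643c01, nat_lit 0xf56af51de6c29d460d5b27d2024a16474416], [nat_lit 69632, nat_lit 73728, nat_lit 86016, nat_lit 102400, nat_lit 106496, nat_lit 110592, nat_lit 178176, nat_lit 173056, nat_lit 168960, nat_lit 165120, nat_lit 160000, nat_lit 156480, nat_lit 152384, nat_lit 147872, nat_lit 144912, nat_lit 142908, nat_lit 136798, nat_lit 132258, nat_lit 2970, nat_lit 6400, nat_lit 12264, nat_lit 15088, nat_lit 18336, nat_lit 22080, nat_lit 28544, nat_lit 32512,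 nat_lit 36352, nat_lit 38912, nat_lit 46856, nat_lit 43163, nat_lit 37288, nat_lit 33507, nat_lit 28755, nat_lit 24713, nat_lit 21009, nat_lit 16385, nat_lit 12292, nat_lit 8195, nat_lit 4097, nat_lit 2, nat_lit 421894, nat_lit 413700, nat_lit 405506, nat_lit 397312, nat_lit 155776, nat_lit 147616, nat_lit 143600, nat_lit 139408, nat_lit 135232, nat_lit 131122, nat_lit 45279, nat_lit 41104, nat_lit 36895, nat_lit 32997]⟩)
 (.leaf ndMr10_33)))
 (.node (nat_lit 758) (.node (nat_lit 757) (.leaf ⟨[nat_lit 0xf3acfc21d728a297508304b9f3301b61b0b5], [nat_lit 69632, nat_lit 90112, nat_lit 98304, nat_lit 102400, nat_lit 110592, nat_lit 174080, nat_lit 169472, nat_lit 167168, nat_lit 163456, nat_lit 156864, nat_lit 155008, nat_lit 151376, nat_lit 146304, nat_lit 141644, nat_lit 138692, nat_lit 133170, nat_lit 2018, nat_lit 6588, nat_lit 9312, nat_lit 14592, nat_lit 18208, nat_lit 21248, nat_lit 24704, nat_lit 28928, nat_lit 34816, nat_lit 38912, nat_lit 41247, nat_lit 36896, nat_lit 32845,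 nat_lit 28691, nat_lit 24870, nat_lit 20555, nat_lit 16516, nat_lit 8209, nat_lit 4100]⟩)
 (.leaf ndMr4_16))
 (.node (nat_lit 759) (.leaf ⟨[nat_lit 0x21be17356677940b68c898d10a73256106f0], [nat_lit 65536, nat_lit 69632, nat_lit 73728, nat_lit 98304, nat_lit 102400, nat_lit 173056, nat_lit 168448, nat_lit 164096, nat_lit 163456, nat_lit 159296, nat_lit 153760, nat_lit 148896, nat_lit 145536, nat_lit 139524, nat_lit 139180, nat_lit 133460, nat_lit 1076, nat_lit 4160, nat_lit 10304, nat_lit 16000, nat_lit 19776, nat_lit 24256, nat_lit 26752, nat_lit 35840, nat_lit 38912, nat_lit 41150, nat_lit 37365, nat_lit 32999, nat_lit 24602, nat_lit 20491, nat_lit 16455, nat_lit 12305, nat_lit 8202, nat_lit 4101, nat_lit 2, nat_lit 327680]⟩)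
 (.leaf ⟨[nat_lit 0xbb27de4148294d60785aaa19d11a6b6640f7], [nat_lit 73728, nat_lit 98304, nat_lit 178176, nat_lit 173056, nat_lit 171008, nat_lit 166400, nat_lit 160128, nat_lit 159168, nat_lit 155168, nat_lit 150000, nat_lit 144408, nat_lit 143128, nat_lit 137158, nat_lit 132179, nat_lit 3124, nat_lit 6376, nat_lit 10640, nat_lit 14160, nat_lit 20160, nat_lit 21184, nat_lit 25856, nat_lit 30720, nat_lit 34304, nat_lit 41085, nat_lit 36961, nat_lit 32851, nat_lit 28716, nat_lit 24869, nat_lit 20561, nat_lit 16398, nat_lit 12307, nat_lit 8202, nat_lit 4101, nat_lit 4, nat_lit 327680]⟩))))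

theorem dcME94_ok : dcME94.all (elB (nat_lit 0)) = true := by decide +kernel

def dcME95 : BT El := (.node (nat_lit 764) (.node (nat_lit 762) (.node (nat_lit 761) (.leaf ⟨[nat_lit 0xe28dd13d5a69142a98c8965d0b845f61028e], [nat_lit 65536, nat_lit 69632, nat_lit 73728, nat_lit 94208, nat_lit 102400, nat_lit 106496, nat_lit 178176, nat_lit 171008, nat_lit 167168, nat_lit 162304, nat_lit 159104, nat_lit 152928, nat_lit 147984, nat_lit 145256, nat_lit 142192, nat_lit 137384, nat_lit 134165, nat_lit 4020, nat_lit 6276, nat_lit 12080, nat_lit 13568, nat_lit 20384, nat_lit 21504, nat_lit 25088, nat_lit 29696, nat_lit 35328, nat_lit 38912, nat_lit 41600, nat_lit 37910, nat_lit 33006, nat_lit 28776, nat_lit 24715, nat_lit 20547, nat_lit 16397, nat_lit 12305, nat_lit 8193, nat_lit 4161, nat_lit 4, nat_lit 327680]⟩)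
 (.leaf ⟨[nat_lit 0x8242471cc899142a7c2d145d6c39aad03a82], [nat_lit 69632, nat_lit 77824, nat_lit 86016, nat_lit 90112, nat_lit 94208, nat_lit 102400, nat_lit 173056, nat_lit 164608, nat_lit 160384, nat_lit 156736, nat_lit 154528, nat_lit 149696, nat_lit 146528, nat_lit 139408, nat_lit 135756, nat_lit 134127, nat_lit 2052, nat_lit 7652, nat_lit 12080, nat_lit 16080, nat_lit 18336, nat_lit 22656, nat_lit 25984, nat_lit 29440, nat_lit 43008, nat_lit 41856, nat_lit 37366, nat_lit 32906, nat_lit 28675, nat_lit 24595, nat_lit 20482, nat_lit 16393, nat_lit 12308, nat_lit 4128, nat_lit 8, nat_lit 327680]⟩))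
 (.node (nat_lit 763) (.leaf ⟨[nat_lit 0xdeb1e7a5a572bd029c2b11b0cb0a88d381c9], [nat_lit 65536, nat_lit 73728, nat_lit 175104, nat_lit 168448, nat_lit 165888, nat_lit 161024, nat_lit 158208, nat_lit 152736, nat_lit 151296, nat_lit 144520, nat_lit 140580, nat_lit 138552, nat_lit 132603, nat_lit 1478, nat_lit 4720, nat_lit 8408, nat_lit 14992, nat_lit 18720, nat_lit 23232, nat_lit 28928, nat_lit 34304, nat_lit 38912, nat_lit 41637, nat_lit 38013, nat_lit 32962, nat_lit 29034, nat_lit 24854, nat_lit 20627, nat_lit 16387, nat_lit 12322, nat_lit 8195, nat_lit 4101, nat_lit 4]⟩)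
 (.leaf ⟨[nat_lit 0x87d8b2855b17d8c790ca95b9145066415d80], [nat_lit 65536, nat_lit 73728, nat_lit 77824, nat_lit 81920, nat_lit 94208, nat_lit 102400, nat_lit 106496, nat_lit 175104, nat_lit 169472, nat_lit 164096, nat_lit 160896, nat_lit 156352, nat_lit 154912, nat_lit 150880, nat_lit 144072, nat_lit 139780, nat_lit 137770, nat_lit 133277, nat_lit 2366, nat_lit 6456, nat_lit 11976, nat_lit 15024, nat_lit 18944, nat_lit 23616, nat_lit 27520, nat_lit 29184, nat_lit 34304, nat_lit 39936, nat_lit 41405, nat_lit 36919, nat_lit 32983, nat_lit 29009, nat_lit 24598, nat_lit 20503, nat_lit 16416, nat_lit 12291, nat_lit 4104, nat_lit 2, nat_lit 327680]⟩)))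
 (.node (nat_lit 766) (.node (nat_lit 765) (.leaf ⟨[nat_lit 0xb482e713668256f4925e38814e398b60b170], [nat_lit 73728, nat_lit 86016, nat_lit 94208, nat_lit 98304, nat_lit 106496, nat_lit 169472, nat_lit 167424, nat_lit 160768, nat_lit 158912, nat_lit 152800, nat_lit 151376, nat_lit 145504, nat_lit 139572, nat_lit 138410, nat_lit 131243, nat_lit 1698, nat_lit 5016, nat_lit 8928, nat_lit 15312, nat_lit 17088, nat_lit 22784, nat_lit 24832, nat_lit 28928, nat_lit 36352, nat_lit 39936, nat_lit 41793, nat_lit 38079, nat_lit 32981, nat_lit 28737, nat_lit 24609, nat_lit 20544, nat_lit 16647, nat_lit 12291, nat_lit 8195, nat_lit 4097, nat_lit 327680]⟩)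
 (.leaf ⟨[nat_lit 0xd14e17816d17c82aab88c11ae302db3a24e8], [nat_lit 65536, nat_lit 73728, nat_lit 77824, nat_lit 86016, nat_lit 90112, nat_lit 102400, nat_lit 106496, nat_lit 178176, nat_lit 174080, nat_lit 171008, nat_lit 166912, nat_lit 160128, nat_lit 157888, nat_lit 154432, nat_lit 149792, nat_lit 143944, nat_lit 142120, nat_lit 138466, nat_lit 132102, nat_lit 1438, nat_lit 5316, nat_lit 9096, nat_lit 13072, nat_lit 20416, nat_lit 23040, nat_lit 25984, nat_lit 28928, nat_lit 34816, nat_lit 38912, nat_lit 43008, nat_lit 41942, nat_lit 37022, nat_lit 32856, nat_lit 29233, nat_lit 24861, nat_lit 20623, nat_lit 16385, nat_lit 12423, nat_lit 8259, nat_lit 4101, nat_lit 2, nat_lit 327680]⟩))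
 (.node (nat_lit 767) (.leaf ⟨[nat_lit 0x1b4b27735ec290e69c6505250bbd2b610061], [nat_lit 65536, nat_lit 69632, nat_lit 77824, nat_lit 175104, nat_lit 168960, nat_lit 166912, nat_lit 163072, nat_lit 158016, nat_lit 152416, nat_lit 148368, nat_lit 145640, nat_lit 140464, nat_lit 138506, nat_lit 131887, nat_lit 2, nat_lit 4104, nat_lit 10248, nat_lit 14352, nat_lit 19328, nat_lit 21120, nat_lit 30464, nat_lit 36352, nat_lit 38912, nat_lit 43008, nat_lit 41776, nat_lit 38069, nat_lit 33351, nat_lit 28785, nat_lit 24737, nat_lit 20510, nat_lit 16429, nat_lit 12292, nat_lit 8203, nat_lit 4101, nat_lit 4]⟩)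
 (.leaf ⟨[nat_lit 0x500a9a1b4a979160b5e745184e84655430e1], [nat_lit 65536, nat_lit 73728, nat_lit 77824, nat_lit 81920, nat_lit 86016, nat_lit 178176, nat_lit 174080, nat_lit 169472, nat_lit 166656, nat_lit 161024, nat_lit 158592, nat_lit 152128, nat_lit 148384, nat_lit 144568, nat_lit 140316, nat_lit 137962, nat_lit 132839, nat_lit 3228, nat_lit 4112, nat_lit 8504, nat_lit 13792, nat_lit 19008, nat_lit 21632, nat_lit 25344, nat_lit 29696, nat_lit 34816, nat_lit 37888, nat_lit 41808, nat_lit 37370, nat_lit 32956, nat_lit 29036, nat_lit 24629, nat_lit 20555, nat_lit 16425, nat_lit 12326, nat_lit 8194, nat_lit 4097, nat_lit 2, nat_lit 327680]⟩))))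

theorem dcME95_ok : dcME95.all (elB (nat_lit 0)) = true := by decide +kernel

def dcME96 : BT El := (.node (nat_lit 772) (.node (nat_lit 770) (.node (nat_lit 769) (.leaf ⟨[nat_lit 0x6c60944aa223cc79aac15de03639a58a680], [nat_lit 73728, nat_lit 94208, nat_lit 98304, nat_lit 102400, nat_lit 171520, nat_lit 165376, nat_lit 162688, nat_lit 156224, nat_lit 152736, nat_lit 148480, nat_lit 146640, nat_lit 140104, nat_lit 137566, nat_lit 131374, nat_lit 1896, nat_lit 5604, nat_lit 8224, nat_lit 13664, nat_lit 18048, nat_lit 23040, nat_lit 28544, nat_lit 30208, nat_lit 34304, nat_lit 37888, nat_lit 43008, nat_lit 41244, nat_lit 36872, nat_lit 34044, nat_lit 28717, nat_lit 24891, nat_lit 20492, nat_lit 16451, nat_lit 8226, nat_lit 4100, nat_lit 327680]⟩)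
 (.leaf ⟨[nat_lit 0x603f99616ae6c902246d0380371a66f55166], [nat_lit 65536, nat_lit 81920, nat_lit 90112, nat_lit 102400, nat_lit 173056, nat_lit 165376, nat_lit 160128, nat_lit 156416, nat_lit 155392, nat_lit 147744, nat_lit 145904, nat_lit 141856, nat_lit 135556, nat_lit 131935, nat_lit 786, nat_lit 5080, nat_lit 10128, nat_lit 13152, nat_lit 19328, nat_lit 25600, nat_lit 29952, nat_lit 35840, nat_lit 43008, nat_lit 41966, nat_lit 38126, nat_lit 33359, nat_lit 28717, nat_lit 24859, nat_lit 20484, nat_lit 16460, nat_lit 12305, nat_lit 8224, nat_lit 8]⟩))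
 (.node (nat_lit 771) (.leaf ndMr11_0)
 (.leaf ⟨[nat_lit 0x81448d3ca66ad98e2c49050049a5ded40d61], [nat_lit 65536, nat_lit 69632, nat_lit 77824, nat_lit 86016, nat_lit 98304, nat_lit 102400, nat_lit 110592, nat_lit 178176, nat_lit 173056, nat_lit 168960, nat_lit 165632, nat_lit 162816, nat_lit 159488, nat_lit 153376, nat_lit 148672, nat_lit 146488, nat_lit 140172, nat_lit 138716, nat_lit 132364, nat_lit 2746, nat_lit 7120, nat_lit 10376, nat_lit 12544, nat_lit 19136, nat_lit 22720, nat_lit 26880, nat_lit 30464, nat_lit 35840, nat_lit 39936, nat_lit 41796, nat_lit 38385, nat_lit 32845, nat_lit 28731, nat_lit 24866, nat_lit 20572, nat_lit 16396, nat_lit 12311, nat_lit 8211, nat_lit 4100]⟩)))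
 (.node (nat_lit 774) (.node (nat_lit 773) (.leaf ndMr11_1)
 (.leaf ⟨[nat_lit 0x12d818509c568cc990680992a763e37b2170, nat_lit 0x7d24d4006648b8afa9e921d9a855c4c5c0c9, nat_lit 0x11b74e848c40d4763ccb15a18e4bdaa05e82], [nat_lit 73728, nat_lit 81920, nat_lit 86016, nat_lit 98304, nat_lit 102400, nat_lit 106496, nat_lit 110592, nat_lit 173056, nat_lit 164096, nat_lit 159872, nat_lit 159104, nat_lit 153728, nat_lit 150224, nat_lit 144440, nat_lit 140108, nat_lit 136258, nat_lit 133401, nat_lit 2322, nat_lit 5016, nat_lit 11976, nat_lit 14080, nat_lit 19616, nat_lit 21376, nat_lit 25600, nat_lit 32000, nat_lit 33280, nat_lit 38912, nat_lit 45284, nat_lit 41513, nat_lit 38175, nat_lit 32800, nat_lit 28731, nat_lit 26679, nat_lit 20626, nat_lit 16392, nat_lit 8705, nat_lit 4, nat_lit 430088, nat_lit 421893, nat_lit 409603, nat_lit 401408, nat_lit 160000, nat_lit 152448, nat_lit 143792, nat_lit 139400, nat_lit 131352, nat_lit 45576, nat_lit 41608, nat_lit 24580, nat_lit 327680]⟩))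
 (.node (nat_lit 775) (.leaf ndMr11_2)
 (.leaf ⟨[nat_lit 0xcac99a7b88881e2a30d216825464ec2aacb7, nat_lit 0x5669a56c248054d38d8824b2f429d6f53861, nat_lit 0x50fa6a30690b25f71b96294d8a6a0e42c415, nat_lit 0xaaca5935662012d12d0724392b09e177b58a], [nat_lit 65536, nat_lit 69632, nat_lit 81920, nat_lit 86016, nat_lit 102400, nat_lit 110592, nat_lit 178176, nat_lit 174080, nat_lit 168960, nat_lit 167424, nat_lit 162304, nat_lit 157760, nat_lit 155136, nat_lit 147760, nat_lit 145432, nat_lit 140564, nat_lit 136086, nat_lit 132277, nat_lit 1054, nat_lit 4152, nat_lit 12080, nat_lit 15808, nat_lit 19936, nat_lit 23744, nat_lit 26752, nat_lit 29696, nat_lit 33280, nat_lit 37888, nat_lit 43008, nat_lit 45672, nat_lit 41701, nat_lit 38359, nat_lit 33531, nat_lit 28677, nat_lit 24839, nat_lit 20494, nat_lit 16906, nat_lit 12306, nat_lit 8195, nat_lit 4, nat_lit 430088, nat_lit 421894, nat_lit 413700, nat_lit 405506, nat_lit 397312, nat_lit 160256, nat_lit 156416, nat_lit 152512, nat_lit 148096,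 nat_lit 143968, nat_lit 139424, nat_lit 135564, nat_lit 131076, nat_lit 45781, nat_lit 41410, nat_lit 327680]⟩))))

theorem dcME96_ok : dcME96.all (elB (nat_lit 0)) = true := by decide +kernel

def dcME97 : BT El := (.node (nat_lit 780) (.node (nat_lit 778) (.node (nat_lit 777) (.leaf ⟨[nat_lit 0xa5c945433618a47b4ee5c4178247415952, nat_lit 0x6fa6fa692b36396019cc92cacfa22e282831, nat_lit 0x4ee8e27919559936288147064a3ce3780da8, nat_lit 0x950fa56aaa5a58517b8101a26b09cd225d2c], [nat_lit 65536, nat_lit 69632, nat_lit 77824, nat_lit 81920, nat_lit 90112, nat_lit 94208, nat_lit 98304, nat_lit 102400, nat_lit 174080, nat_lit 169472, nat_lit 166400, nat_lit 161792, nat_lit 156480, nat_lit 152832, nat_lit 148752, nat_lit 144768, nat_lit 142648, nat_lit 137502, nat_lit 3826, nat_lit 5216, nat_lit 11640, nat_lit 15184, nat_lit 16416, nat_lit 21952, nat_lit 24960, nat_lit 28928, nat_lit 33280, nat_lit 37888, nat_lit 46521, nat_lit 41513, nat_lit 36908, nat_lit 32986, nat_lit 29022, nat_lit 24610,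 nat_lit 20492, nat_lit 16390, nat_lit 12326, nat_lit 8193, nat_lit 4, nat_lit 438282, nat_lit 425991, nat_lit 413700, nat_lit 405506, nat_lit 397312, nat_lit 165888, nat_lit 162048, nat_lit 154880, nat_lit 148608, nat_lit 145664, nat_lit 141712, nat_lit 135200, nat_lit 133294, nat_lit 36879]⟩)
 (.leaf ⟨[nat_lit 0xc35904da4513a71a868c4280d85d6431de3, nat_lit 0xd7ee728d20e101f665ce698d45249215b515, nat_lit 0xa35669128e3a4c2d920b14bc8c35576bb810, nat_lit 0x7be2dd2c2c09b62b0b923419e4a8a47a32ea], [nat_lit 69632, nat_lit 86016, nat_lit 106496, nat_lit 178176, nat_lit 175104, nat_lit 168448, nat_lit 165376, nat_lit 159872, nat_lit 155904, nat_lit 153344, nat_lit 149344, nat_lit 146600, nat_lit 143284, nat_lit 135810, nat_lit 134443, nat_lit 2452, nat_lit 7372, nat_lit 10176, nat_lit 14336, nat_lit 16736, nat_lit 23744, nat_lit 26624, nat_lit 30976, nat_lit 34304, nat_lit 39936, nat_lit 46560, nat_lit 43749, nat_lit 37154, nat_lit 33499, nat_lit 28720, nat_lit 24597, nat_lit 20496, nat_lit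 16396, nat_lit 12292, nat_lit 4608, nat_lit 438282, nat_lit 430088, nat_lit 421894, nat_lit 413700, nat_lit 405506, nat_lit 397312, nat_lit 171008, nat_lit 167424, nat_lit 160512, nat_lit 157824, nat_lit 153216, nat_lit 148544, nat_lit 146240, nat_lit 141104, nat_lit 137040, nat_lit 134234]⟩))
 (.node (nat_lit 779) (.leaf ndMr11_3)
 (.leaf ⟨[nat_lit 0xa590603d8b04c514585867ceee2346aac840, nat_lit 0xd8781e14c660a59671e2f2414805d6d2d692, nat_lit 0x696f03a092645ce32817673e4c84db1506a4, nat_lit 0xd481dbb4e0a0dd63435f4130f10389231535], [nat_lit 65536, nat_lit 69632, nat_lit 73728, nat_lit 77824, nat_lit 86016, nat_lit 98304, nat_lit 106496, nat_lit 110592, nat_lit 178176, nat_lit 175104, nat_lit 168448, nat_lit 166912, nat_lit 162944, nat_lit 157696, nat_lit 153536, nat_lit 148672, nat_lit 145256, nat_lit 140520, nat_lit 136276, nat_lit 131681, nat_lit 1318, nat_lit 5196, nat_lit 11720, nat_lit 14768, nat_lit 18112, nat_lit 21120, nat_lit 27392, nat_lit 28928, nat_lit 34816, nat_lit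 38912, nat_lit 43008, nat_lit 45916, nat_lit 41266, nat_lit 39126, nat_lit 33463, nat_lit 29205, nat_lit 26657, nat_lit 20497, nat_lit 16389, nat_lit 4225, nat_lit 16, nat_lit 430088, nat_lit 421894, nat_lit 413700, nat_lit 405506, nat_lit 397312, nat_lit 160256, nat_lit 147968, nat_lit 143888, nat_lit 140032, nat_lit 135916, nat_lit 131538, nat_lit 45216, nat_lit 41800, nat_lit 327680]⟩)))
 (.node (nat_lit 782) (.node (nat_lit 781) (.leaf ndMr11_4)
 (.leaf ⟨[nat_lit 0x722b2b058f36aaf55882e850667c91123125, nat_lit 0xf503695c0e30542da310a48a65311f775a51, nat_lit 0x6fa6052829799e225599048504199ee6caab], [nat_lit 65536, nat_lit 73728, nat_lit 77824, nat_lit 81920, nat_lit 90112, nat_lit 94208, nat_lit 98304, nat_lit 102400, nat_lit 178176, nat_lit 165888, nat_lit 159872, nat_lit 156288, nat_lit 152224, nat_lit 149968, nat_lit 146032, nat_lit 140804, nat_lit 138796, nat_lit 134038, nat_lit 194, nat_lit 6876, nat_lit 11896, nat_lit 15248, nat_lit 18432, nat_lit 24128, nat_lit 25600,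 nat_lit 30464, nat_lit 35840, nat_lit 38912, nat_lit 45272, nat_lit 41056, nat_lit 37249, nat_lit 33331, nat_lit 28935, nat_lit 25642, nat_lit 20628, nat_lit 16389, nat_lit 12352, nat_lit 8210, nat_lit 4097, nat_lit 2, nat_lit 430087, nat_lit 413700, nat_lit 405506, nat_lit 397312, nat_lit 160256, nat_lit 148000, nat_lit 143904, nat_lit 139928, nat_lit 135828, nat_lit 131640, nat_lit 45200, nat_lit 41104, nat_lit 32826, nat_lit 24591]⟩))
 (.node (nat_lit 783) (.leaf ndMr11_5)
 (.leaf ⟨[nat_lit 0x66f660720665de2a2052f816a7a366c102d2, nat_lit 0x2bdb12b9e126026b889e9b29060d0657548d, nat_lit 0x44d8deb566e39a4ca0105092e95be2a10db0, nat_lit 0xafc6cf650555b523440d6790a03dd5270633], [nat_lit 65536, nat_lit 69632, nat_lit 73728, nat_lit 77824, nat_lit 94208, nat_lit 98304, nat_lit 106496, nat_lit 110592, nat_lit 178176, nat_lit 168448, nat_lit 166144, nat_lit 162688, nat_lit 156224, nat_lit 155264, nat_lit 149504, nat_lit 145432, nat_lit 139704, nat_lit 136992, nat_lit 134910, nat_lit 1534,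 nat_lit 5284, nat_lit 11344, nat_lit 16160, nat_lit 17984, nat_lit 22528, nat_lit 27264, nat_lit 29184, nat_lit 35840, nat_lit 37888, nat_lit 46969, nat_lit 43165, nat_lit 36964, nat_lit 33879, nat_lit 29050, nat_lit 24716, nat_lit 20760, nat_lit 16388, nat_lit 12326, nat_lit 8202, nat_lit 4101, nat_lit 4, nat_lit 438282, nat_lit 430088, nat_lit 421894, nat_lit 413700, nat_lit 405506, nat_lit 397312, nat_lit 174080, nat_lit 171008, nat_lit 165888, nat_lit 163072, nat_lit 157568, nat_lit 152320, nat_lit 151168, nat_lit 146544, nat_lit 142792, nat_lit 137852, nat_lit 132840]⟩))))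

theorem dcME97_ok : dcME97.all (elB (nat_lit 0)) = true := by decide +kernel

def dcME98 : BT El := (.node (nat_lit 788) (.node (nat_lit 786) (.node (nat_lit 785) (.leaf ndMr11_6)
 (.leaf ⟨[nat_lit 0x7d17818cc0b1a8e47a44cb8515836c5a38d2, nat_lit 0x5a9f9048623a3c4539a0ab49177366ba8184, nat_lit 0x9533ff3d8ab792224d5cd05d039ca8a30590, nat_lit 0xb1b2d4bc6a962dd214d43a04ed34104015f6], [nat_lit 65536, nat_lit 77824, nat_lit 81920, nat_lit 86016, nat_lit 90112, nat_lit 94208, nat_lit 98304, nat_lit 171520, nat_lit 165376, nat_lit 163072, nat_lit 158720, nat_lit 154816, nat_lit 150944, nat_lit 146104, nat_lit 139328, nat_lit 139088, nat_lit 134882, nat_lit 2630, nat_lit 4856, nat_lit 11264, nat_lit 14496, nat_lit 18528, nat_lit 20800, nat_lit 25856, nat_lit 30720, nat_lit 33280, nat_lit 37888, nat_lit 46346, nat_lit 43974, nat_lit 38376, nat_lit 32789, nat_lit 28781, nat_lit 24631, nat_lit 20485, nat_lit 16451, nat_lit 12295, nat_lit 8193, nat_lit 4104, nat_lit 438282, nat_lit 430088,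 nat_lit 421894, nat_lit 413700, nat_lit 405506, nat_lit 397312, nat_lit 164352, nat_lit 157312, nat_lit 153792, nat_lit 150240, nat_lit 146368, nat_lit 140952, nat_lit 135808, nat_lit 133066]⟩))
 (.node (nat_lit 787) (.leaf ⟨[nat_lit 0xee741445de05c8c914483a56072cdac506ce, nat_lit 0xed8d21a85ae1949405a329a1e712eea83126, nat_lit 0x724248abd0d2406c99c2e2d0c98aaf202c56, nat_lit 0xf663306a977924670d5c2a45932bcd602204], [nat_lit 69632, nat_lit 77824, nat_lit 98304, nat_lit 110592, nat_lit 178176, nat_lit 175104, nat_lit 170496, nat_lit 167424, nat_lit 162048, nat_lit 159680, nat_lit 152384, nat_lit 149088, nat_lit 144712, nat_lit 140612, nat_lit 136530, nat_lit 132417, nat_lit 1488, nat_lit 4384, nat_lit 12216, nat_lit 15440, nat_lit 20416, nat_lit 23104, nat_lit 28544, nat_lit 29440, nat_lit 34304, nat_lit 43008, nat_lit 46976, nat_lit 41024, nat_lit 37088, nat_lit 32898, nat_lit 28722, nat_lit 25127, nat_lit 20637, nat_lit 16521, nat_lit 12305, nat_lit 8193, nat_lit 4105, nat_lit 2,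 nat_lit 434185, nat_lit 425991, nat_lit 413700, nat_lit 405506, nat_lit 397312, nat_lit 160768, nat_lit 152448, nat_lit 149248, nat_lit 144432, nat_lit 140432, nat_lit 136492, nat_lit 131224, nat_lit 45065, nat_lit 24577]⟩)
 (.leaf ⟨[nat_lit 0x7b74416ba2a59644ab067ba6d09a002a3cc1, nat_lit 0x9653a600a68b42e9784d46c5ca2164b1b0f5, nat_lit 0x355ff922ab70522e4b4ac32e530a0e37c056, nat_lit 0x747b41444adb892b7d9c3a80878198a0d272], [nat_lit 65536, nat_lit 69632, nat_lit 77824, nat_lit 81920, nat_lit 102400, nat_lit 173056, nat_lit 164864, nat_lit 160256, nat_lit 159616, nat_lit 155392, nat_lit 147520, nat_lit 145016, nat_lit 139928, nat_lit 135336, nat_lit 134234, nat_lit 2772, nat_lit 5436, nat_lit 10832, nat_lit 16352, nat_lit 19840, nat_lit 21440, nat_lit 27648, nat_lit 30464, nat_lit 33280, nat_lit 38912, nat_lit 43008, nat_lit 46600, nat_lit 43938, nat_lit 39300, nat_lit 32901, nat_lit 28765, nat_lit 24602, nat_lit 21507, nat_lit 16452, nat_lit 12291, nat_lit 8193, nat_lit 438282, nat_lit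 430088, nat_lit 421894, nat_lit 413700, nat_lit 405506, nat_lit 397312, nat_lit 174080, nat_lit 168960, nat_lit 166400, nat_lit 163584, nat_lit 158208, nat_lit 152320, nat_lit 148096, nat_lit 146896, nat_lit 142784, nat_lit 136692, nat_lit 131962, nat_lit 327680]⟩)))
 (.node (nat_lit 790) (.node (nat_lit 789) (.leaf ndMr11_7)
 (.leaf ⟨[nat_lit 0x72b2b84c2cbac422b96446a0c3732933814f, nat_lit 0xcf60c568c262298b48254ac5027c0b3bbac7, nat_lit 0x9599c6a8dee0de113364b9952c4504a392c0, nat_lit 0xfacfcc79a4b4dd003c58a6baa3a1481b4262], [nat_lit 90112, nat_lit 94208, nat_lit 98304, nat_lit 102400, nat_lit 110592, nat_lit 168448, nat_lit 164864, nat_lit 159872, nat_lit 155904, nat_lit 152768, nat_lit 147472, nat_lit 143848, nat_lit 140004, nat_lit 135368, nat_lit 134255, nat_lit 120, nat_lit 4228, nat_lit 8336, nat_lit 12352, nat_lit 17088, nat_lit 21824, nat_lit 24704, nat_lit 29952, nat_lit 33792, nat_lit 43008, nat_lit 46733, nat_lit 41405, nat_lit 39270, nat_lit 33012, nat_lit 29008, nat_lit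 24583, nat_lit 20486, nat_lit 16647, nat_lit 12805, nat_lit 8195, nat_lit 4, nat_lit 438282, nat_lit 430088, nat_lit 421894, nat_lit 413700, nat_lit 405506, nat_lit 397312, nat_lit 174080, nat_lit 168960, nat_lit 166400, nat_lit 162560, nat_lit 157824, nat_lit 152960, nat_lit 148832, nat_lit 144256, nat_lit 142072, nat_lit 138240, nat_lit 132462]⟩))
 (.node (nat_lit 791) (.leaf ⟨[nat_lit 0x5f36307a16c39020288c3ad2727352a846f6, nat_lit 0xc56ca3b382a854f49b0ad20c514997243ee0, nat_lit 0x7177d70dc1518ad4730e58cd0b4c950234cf], [nat_lit 94208, nat_lit 98304, nat_lit 102400, nat_lit 106496, nat_lit 110592, nat_lit 178176, nat_lit 173056, nat_lit 169984, nat_lit 167168, nat_lit 161664, nat_lit 159168, nat_lit 152480, nat_lit 149056, nat_lit 145624, nat_lit 140096, nat_lit 138958, nat_lit 134284, nat_lit 1206, nat_lit 4996, nat_lit 11984, nat_lit 12880, nat_lit 18528, nat_lit 24128, nat_lit 25856, nat_lit 32000, nat_lit 36352, nat_lit 45944, nat_lit 41812, nat_lit 38040, nat_lit 33449, nat_lit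 29216, nat_lit 24731, nat_lit 20485, nat_lit 16455, nat_lit 12420, nat_lit 8195, nat_lit 4097, nat_lit 430088, nat_lit 417797, nat_lit 409602, nat_lit 397312, nat_lit 164352, nat_lit 155904, nat_lit 152320, nat_lit 147744, nat_lit 136048, nat_lit 131366, nat_lit 45061, nat_lit 40976, nat_lit 28755, nat_lit 12290, nat_lit 327680]⟩)
 (.leaf ⟨[nat_lit 0x8eddeeab0ef0d0668dc93589d0b21459240d, nat_lit 0x95ccff312158a5172ac4d186d261c0a9ba8f, nat_lit 0xc35a5a291c2accea1be50b02ed352280b169, nat_lit 0xe48772202579a62d1856e80a86432d57a8e5], [nat_lit 69632, nat_lit 77824, nat_lit 81920, nat_lit 94208, nat_lit 102400, nat_lit 106496, nat_lit 178176, nat_lit 174080, nat_lit 168448, nat_lit 166144, nat_lit 161792, nat_lit 152704, nat_lit 149744, nat_lit 144400, nat_lit 143292, nat_lit 137270, nat_lit 132358, nat_lit 4060, nat_lit 6768, nat_lit 11224, nat_lit 14304, nat_lit 17152, nat_lit 21440, nat_lit 26368, nat_lit 30720, nat_lit 38912, nat_lit 43008, nat_lit 47098, nat_lit 41821, nat_lit 37375,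 nat_lit 33380, nat_lit 28797, nat_lit 24756, nat_lit 20489, nat_lit 16517, nat_lit 12311, nat_lit 8, nat_lit 430088, nat_lit 421894, nat_lit 413700, nat_lit 405506, nat_lit 397312, nat_lit 164352, nat_lit 160512, nat_lit 152256, nat_lit 147808, nat_lit 143728, nat_lit 140040, nat_lit 135924, nat_lit 131326, nat_lit 45549, nat_lit 41003]⟩))))

theorem dcME98_ok : dcME98.all (elB (nat_lit 0)) = true := by decide +kernel

def dcME99 : BT El := (.node (nat_lit 796) (.node (nat_lit 794) (.node (nat_lit 793) (.leaf ndMr11_8)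
 (.leaf ⟨[nat_lit 0x24db1d3b8419546905a6b3214ca12ef895b0, nat_lit 0x3f5c6f526d7114e17cd92a55687460d30c80], [nat_lit 65536, nat_lit 77824, nat_lit 81920, nat_lit 86016, nat_lit 90112, nat_lit 94208, nat_lit 98304, nat_lit 110592, nat_lit 178176, nat_lit 174080, nat_lit 169984, nat_lit 164352, nat_lit 161408, nat_lit 157504, nat_lit 151968, nat_lit 151344, nat_lit 146768, nat_lit 140148, nat_lit 137418, nat_lit 131662, nat_lit 3556, nat_lit 4916, nat_lit 8928, nat_lit 15808, nat_lit 19968, nat_lit 23104, nat_lit 27520, nat_lit 30208, nat_lit 36352, nat_lit 37888, nat_lit 46345, nat_lit 41722, nat_lit 36977, nat_lit 33017, nat_lit 28680, nat_lit 24880, nat_lit 20749, nat_lit 16416, nat_lit 12352, nat_lit 8208, nat_lit 5121, nat_lit 2, nat_lit 421893, nat_lit 409600, nat_lit 151680, nat_lit 147616, nat_lit 131200, nat_lit 41088, nat_lit 32945, nat_lit 24577, nat_lit 8193, nat_lit 327680]⟩))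
 (.node (nat_lit 795) (.leaf ndMr11_9)
 (.leaf ⟨[nat_lit 0xa0a053acdf6910ad8002ca244730d1752dd1, nat_lit 0x6ffccc24946082287c1a92d84cbd66b70cf4, nat_lit 0x8447140d412745b640de5ba5505898621e74, nat_lit 0xebddb4b38020ae67291b77c69090d064a995], [nat_lit 65536, nat_lit 69632, nat_lit 81920, nat_lit 106496, nat_lit 110592, nat_lit 173056, nat_lit 168960, nat_lit 161536, nat_lit 156352, nat_lit 151680, nat_lit 149296, nat_lit 144808, nat_lit 142532, nat_lit 136778, nat_lit 132681, nat_lit 24, nat_lit 7488, nat_lit 8792, nat_lit 16192, nat_lit 20192, nat_lit 23040, nat_lit 27264, nat_lit 31232, nat_lit 34816, nat_lit 37888, nat_lit 43008, nat_lit 46772, nat_lit 43559, nat_lit 39031, nat_lit 32962, nat_lit 28796, nat_lit 24710, nat_lit 20510, nat_lit 16426, nat_lit 12320, nat_lit 8193, nat_lit 4097, nat_lit 438282, nat_lit 430088, nat_lit 421894, nat_lit 413700, nat_lit 405506, nat_lit 397312, nat_lit 166912, nat_lit 163584, nat_lit 159616, nat_lit 154176, nat_lit 151104, nat_lit 143600,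 nat_lit 141656, nat_lit 139244, nat_lit 135022, nat_lit 327680]⟩)))
 (.node (nat_lit 798) (.node (nat_lit 797) (.leaf ⟨[nat_lit 0xaa060c3c26e6a8cbb5de56106114a884d620, nat_lit 0x3f9ca8a98b48cb612095a4eed349e70c00e, nat_lit 0x4472181b9ea59ca1a09156cee4830d68c920, nat_lit 0xb2bbee1b1257cdd5b454b09da810257a40c4], [nat_lit 69632, nat_lit 73728, nat_lit 77824, nat_lit 81920, nat_lit 94208, nat_lit 98304, nat_lit 106496, nat_lit 175104, nat_lit 171008, nat_lit 167680, nat_lit 162688, nat_lit 158720, nat_lit 155328, nat_lit 147472, nat_lit 142276, nat_lit 133860, nat_lit 1980, nat_lit 7400, nat_lit 10776, nat_lit 12304, nat_lit 18688, nat_lit 21248, nat_lit 24832, nat_lit 28928, nat_lit 36352, nat_lit 46581, nat_lit 41542, nat_lit 38281, nat_lit 33506, nat_lit 29186, nat_lit 24585, nat_lit 20742, nat_lit 18443, nat_lit 12295, nat_lit 8202, nat_lit 4, nat_lit 438282, nat_lit 430088, nat_lit 421894, nat_lit 413700, nat_lit 405506, nat_lit 397312, nat_lit 174080, nat_lit 171008, nat_lit 164864,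 nat_lit 160256, nat_lit 156544, nat_lit 154048, nat_lit 150080, nat_lit 145024, nat_lit 140016, nat_lit 138420, nat_lit 131288, nat_lit 327680]⟩)
 (.leaf ⟨[nat_lit 0xed82d16d1e3724f00dd6820ac69c41554985, nat_lit 0x222e4141aaca42c2745e01a55228493baced, nat_lit 0xb427d158645ace0ea3c86136c34c407532e8, nat_lit 0x3a50f9b8491908b5352635bd49431cd382d0], [nat_lit 65536, nat_lit 69632, nat_lit 77824, nat_lit 86016, nat_lit 94208, nat_lit 98304, nat_lit 102400, nat_lit 110592, nat_lit 175104, nat_lit 170496, nat_lit 166912, nat_lit 157248, nat_lit 152864, nat_lit 149904, nat_lit 145224, nat_lit 141796, nat_lit 136950, nat_lit 134684, nat_lit 430, nat_lit 7892, nat_lit 8288, nat_lit 14736, nat_lit 17312, nat_lit 20864, nat_lit 28416, nat_lit 30720, nat_lit 33280, nat_lit 45662, nat_lit 41313, nat_lit 36957, nat_lit 34014, nat_lit 28706, nat_lit 25134, nat_lit 20490, nat_lit 16449, nat_lit 12326, nat_lit 8201, nat_lit 4097, nat_lit 2, nat_lit 430088, nat_lit 421894, nat_lit 413700, nat_lit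 405506, nat_lit 397312, nat_lit 160512, nat_lit 156160, nat_lit 152512, nat_lit 147648, nat_lit 144112, nat_lit 140032, nat_lit 135324, nat_lit 131566, nat_lit 45215, nat_lit 40976, nat_lit 327680]⟩))
 (.node (nat_lit 799) (.leaf ndMr11_10)
 (.leaf ⟨[nat_lit 0x59aaf0729077c22411981b26635d412a5cad, nat_lit 0xcf603a82060306ecada2a9bd6ea144d39132, nat_lit 0x99066f1903042e25638f36dd225500f958d5, nat_lit 0x505fa3901c4b4153608f1aa4c5a3da858477], [nat_lit 69632, nat_lit 81920, nat_lit 94208, nat_lit 106496, nat_lit 178176, nat_lit 173056, nat_lit 168448, nat_lit 164864, nat_lit 162560, nat_lit 152704, nat_lit 149088, nat_lit 143680, nat_lit 141036, nat_lit 138298, nat_lit 134645, nat_lit 696, nat_lit 4232, nat_lit 8224, nat_lit 13232, nat_lit 18560, nat_lit 21440, nat_lit 26880, nat_lit 29952, nat_lit 34304, nat_lit 37888, nat_lit 46767, nat_lit 43985, nat_lit 39163, nat_lit 32840, nat_lit 28742, nat_lit 24747, nat_lit 20566, nat_lit 16392, nat_lit 12311, nat_lit 438282, nat_lit 430088,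 nat_lit 421894, nat_lit 413700, nat_lit 405506, nat_lit 397312, nat_lit 174080, nat_lit 169984, nat_lit 164864, nat_lit 163328, nat_lit 159488, nat_lit 153088, nat_lit 151520, nat_lit 145104, nat_lit 142272, nat_lit 138088, nat_lit 131334, nat_lit 327680]⟩))))

theorem dcME99_ok : dcME99.all (elB (nat_lit 0)) = true := by decide +kernel


end

end CF.Mon
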