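import Cfsg.Agent.Mon.Dc
import Cfsg.Agent.Mon.NdM

set_option autoImplicit false
set_option maxRecDepth 100000

namespace CF.Mon

open CF.Comp

noncomputable section

def dcME100 : BT El := (.node (nat_lit 804) (.node (nat_lit 802) (.node (nat_lit 801) (.leaf ⟨[nat_lit 0x33aa5a2d073b35378ba0a354525802c220ef, nat_lit 0x9569c94d436018e8991d7951857b5431422b, nat_lit 0x6fcf99a8457a02c32163284ce6729ab4bd0c], [nat_lit 69632, nat_lit 73728, nat_lit 77824, nat_lit 90112, nat_lit 102400, nat_lit 110592, nat_lit 175104, nat_lit 165632, nat_lit 160000, nat_lit 158720, nat_lit 152544, nat_lit 151248, nat_lit 146264, nat_lit 143008, nat_lit 135618, nat_lit 134398, nat_lit 1760, nat_lit 4388, nat_lit 12264, nat_lit 14448, nat_lit 19648, nat_lit 21760, nat_lit 28032, nat_lit 30208, nat_lit 36352, nat_lit 46583, nat_lit 41428, nat_lit 37076, nat_lit 32900, nat_lit 28719, nat_lit 25135, nat_lit 20511, nat_lit 16386, nat_lit 12325, nat_lit 8194, nat_lit 4100, nat_lit 430088, nat_lit 413700, nat_lit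 405506, nat_lit 397312, nat_lit 152320, nat_lit 148256, nat_lit 143392, nat_lit 139576, nat_lit 135228, nat_lit 131376, nat_lit 45071, nat_lit 40981, nat_lit 28700, nat_lit 24591, nat_lit 327680]⟩)
 (.leaf ⟨[nat_lit 0x6003c39d4e9531612dd128440ea09f620da6, nat_lit 0xa996a5b920f7240c0a253156ca6963432c67, nat_lit 0xe7d48191df763868a8576a1a6d8a602010aa, nat_lit 0x2d7b77615430c05534ee78aec94008e7d1b2], [nat_lit 69632, nat_lit 73728, nat_lit 77824, nat_lit 81920, nat_lit 94208, nat_lit 178176, nat_lit 174080, nat_lit 168448, nat_lit 164864, nat_lit 161664, nat_lit 156800, nat_lit 152992, nat_lit 149824, nat_lit 146288, nat_lit 140688, nat_lit 136288, nat_lit 133804, nat_lit 148, nat_lit 4608, nat_lit 8336, nat_lit 15568, nat_lit 19776, nat_lit 25600, nat_lit 30976, nat_lit 34816, nat_lit 37888, nat_lit 47023, nat_lit 43522, nat_lit 32797, nat_lit 28796, nat_lit 24599, nat_lit 20493, nat_lit 16462, nat_lit 12307, nat_lit 8226, nat_lit 4097, nat_lit 2, nat_lit 438282, nat_lit 430088, nat_lit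 421894, nat_lit 413700, nat_lit 405506, nat_lit 397312, nat_lit 174080, nat_lit 168960, nat_lit 166400, nat_lit 160512, nat_lit 155904, nat_lit 151936, nat_lit 149504, nat_lit 144688, nat_lit 140080, nat_lit 137448, nat_lit 132272]⟩))
 (.node (nat_lit 803) (.leaf ndMr11_11)
 (.leaf ⟨[nat_lit 0x87b12e9a5d445e2f9355531ca11804462e16, nat_lit 0x3f3afc7c04c2a5b692900bce838902672cf5, nat_lit 0x47de14094e29326f180866ba30452abba936], [nat_lit 69632, nat_lit 73728, nat_lit 77824, nat_lit 81920, nat_lit 94208, nat_lit 102400, nat_lit 106496, nat_lit 110592, nat_lit 171008, nat_lit 164608, nat_lit 160640, nat_lit 155712, nat_lit 155552, nat_lit 151216, nat_lit 145608, nat_lit 141536, nat_lit 138276, nat_lit 132180, nat_lit 3100, nat_lit 7560, nat_lit 10456, nat_lit 14000, nat_lit 18784, nat_lit 23488, nat_lit 28032, nat_lit 32000, nat_lit 33792, nat_lit 39936, nat_lit 45515, nat_lit 41662, nat_lit 37337, nat_lit 32837, nat_lit 29229, nat_lit 24586, nat_lit 20611, nat_lit 16431, nat_lit 12311,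 nat_lit 8195, nat_lit 4100, nat_lit 430088, nat_lit 413700, nat_lit 405506, nat_lit 397312, nat_lit 164352, nat_lit 152064, nat_lit 147488, nat_lit 143664, nat_lit 139784, nat_lit 135716, nat_lit 131598, nat_lit 45074, nat_lit 40968, nat_lit 28691, nat_lit 24594, nat_lit 327680]⟩)))
 (.node (nat_lit 806) (.node (nat_lit 805) (.leaf ⟨[nat_lit 0xb88b2d1a90b249f6746e681e8c080492cdb5, nat_lit 0xd4e7486c24498e8b8d848adcee2b0017992a], [nat_lit 65536, nat_lit 69632, nat_lit 90112, nat_lit 110592, nat_lit 178176, nat_lit 173056, nat_lit 169472, nat_lit 164352, nat_lit 162432, nat_lit 159232, nat_lit 155552, nat_lit 147600, nat_lit 145480, nat_lit 141564, nat_lit 136462, nat_lit 131746, nat_lit 2364, nat_lit 5504, nat_lit 10784, nat_lit 15104, nat_lit 18944, nat_lit 24448, nat_lit 28544, nat_lit 30976, nat_lit 35840, nat_lit 37888, nat_lit 45149, nat_lit 41620, nat_lit 38313, nat_lit 33449, nat_lit 28706, nat_lit 24611, nat_lit 20486, nat_lit 16648, nat_lit 12304, nat_lit 8201, nat_lit 4097,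 nat_lit 2, nat_lit 430083, nat_lit 401408, nat_lit 143872, nat_lit 131588, nat_lit 40968, nat_lit 32776, nat_lit 24577, nat_lit 20484, nat_lit 4097]⟩)
 (.leaf ⟨[nat_lit 0x3a399a0b66a256307ae4041ae9732c5a0ce2], [nat_lit 77824, nat_lit 86016, nat_lit 94208, nat_lit 102400, nat_lit 175104, nat_lit 166144, nat_lit 160640, nat_lit 156160, nat_lit 152480, nat_lit 148224, nat_lit 146584, nat_lit 141480, nat_lit 138128, nat_lit 133486, nat_lit 1766, nat_lit 7716, nat_lit 8200, nat_lit 14368, nat_lit 18752, nat_lit 20608, nat_lit 26752, nat_lit 29440, nat_lit 33280, nat_lit 43008, nat_lit 41943, nat_lit 37293, nat_lit 32847, nat_lit 28726, nat_lit 24621, nat_lit 20496, nat_lit 16429, nat_lit 12293, nat_lit 8193, nat_lit 4224]⟩))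
 (.node (nat_lit 807) (.leaf ⟨[nat_lit 0x665ca619e21524d0b16b3039146bc92bac4c, nat_lit 0xaf5053590d6714737a5950a2e2900ed54690], [nat_lit 65536, nat_lit 69632, nat_lit 77824, nat_lit 81920, nat_lit 90112, nat_lit 110592, nat_lit 175104, nat_lit 170496, nat_lit 166144, nat_lit 163200, nat_lit 157568, nat_lit 153792, nat_lit 150880, nat_lit 145688, nat_lit 141824, nat_lit 137284, nat_lit 134426, nat_lit 1820, nat_lit 5876, nat_lit 12024, nat_lit 16080, nat_lit 19552, nat_lit 20608, nat_lit 26752, nat_lit 30464, nat_lit 36352, nat_lit 38912, nat_lit 46265, nat_lit 41866, nat_lit 37289, nat_lit 32895, nat_lit 29297, nat_lit 24619, nat_lit 20504, nat_lit 16386, nat_lit 12322, nat_lit 8450, nat_lit 4097, nat_lit 409603, nat_lit 397312, nat_lit 131098, nat_lit 40987, nat_lit 36891, nat_lit 32795, nat_lit 24577, nat_lit 20482, nat_lit 8193, nat_lit 327680]⟩)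
 (.leaf ⟨[nat_lit 0x74471b08e8e7ca7641e20216ad12e06ba989, nat_lit 0x60f3335c94811a8d096ec702a7b106f84d31, nat_lit 0xf939098d832a81ae11e866126b426e3828af], [nat_lit 65536, nat_lit 73728, nat_lit 77824, nat_lit 86016, nat_lit 94208, nat_lit 102400, nat_lit 164608, nat_lit 161920, nat_lit 159168, nat_lit 148800, nat_lit 145872, nat_lit 141456, nat_lit 139252, nat_lit 132103, nat_lit 1178, nat_lit 6272, nat_lit 12208, nat_lit 13664, nat_lit 18592, nat_lit 22656, nat_lit 30464, nat_lit 33792, nat_lit 45302, nat_lit 41837, nat_lit 37327, nat_lit 33358, nat_lit 28998, nat_lit 24728, nat_lit 20490, nat_lit 16455, nat_lit 12290, nat_lit 417797, nat_lit 405506, nat_lit 397312, nat_lit 151616, nat_lit 143392, nat_lit 135200, nat_lit 131074, nat_lit 45158, nat_lit 41034, nat_lit 36905, nat_lit 32779, nat_lit 327680]⟩))))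

theorem dcME100_ok : dcME100.all (elB (nat_lit 0)) = true := by decide +kernel

def dcME101 : BT El := (.node (nat_lit 812) (.node (nat_lit 810) (.node (nat_lit 809) (.leaf ⟨[nat_lit 0xca93acbd048ab49372c0c959e51a4e682a21, nat_lit 0x9f30968a968b1da1051e51b8d79c93013095, nat_lit 0x3fc5fc5da8f2d603338e86ca29980971302a], [nat_lit 69632, nat_lit 86016, nat_lit 94208, nat_lit 102400, nat_lit 110592, nat_lit 175104, nat_lit 170496, nat_lit 165376, nat_lit 162560, nat_lit 155776, nat_lit 152096, nat_lit 151296, nat_lit 144096, nat_lit 142984, nat_lit 139056, nat_lit 134361, nat_lit 1370, nat_lit 6436, nat_lit 8576, nat_lit 12672, nat_lit 20352, nat_lit 20928, nat_lit 24704, nat_lit 33280, nat_lit 43008, nat_lit 46407, nat_lit 43525, nat_lit 38140, nat_lit 32902, nat_lit 28984, nat_lit 25647, nat_lit 20497, nat_lit 12294, nat_lit 8194, nat_lit 4101, nat_lit 2, nat_lit 413700, nat_lit 405506, nat_lit 397312, nat_lit 147488, nat_lit 143408, nat_lit 139304, nat_lit 135224, nat_lit 131110, nat_lit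 45072, nat_lit 41020, nat_lit 36905, nat_lit 32779, nat_lit 24630, nat_lit 327680]⟩)
 (.leaf ⟨[nat_lit 0x5c0ca0292af94ecd3a430544c3132805a1d7, nat_lit 0x9a69c61caacbcc2d88acf21567702903250a], [nat_lit 65536, nat_lit 77824, nat_lit 81920, nat_lit 86016, nat_lit 90112, nat_lit 102400, nat_lit 110592, nat_lit 175104, nat_lit 171520, nat_lit 165888, nat_lit 160000, nat_lit 158784, nat_lit 153248, nat_lit 148704, nat_lit 143400, nat_lit 140364, nat_lit 135880, nat_lit 134029, nat_lit 2488, nat_lit 6824, nat_lit 12032, nat_lit 13312, nat_lit 20288, nat_lit 22400, nat_lit 26368, nat_lit 29696, nat_lit 46603, nat_lit 41907, nat_lit 38073, nat_lit 32985, nat_lit 28681, nat_lit 24609, nat_lit 20490, nat_lit 16389, nat_lit 12295, nat_lit 8200, nat_lit 4097, nat_lit 421893, nat_lit 405504, nat_lit 151680, nat_lit 143488, nat_lit 131080, nat_lit 41129, nat_lit 37033, nat_lit 32776, nat_lit 24608, nat_lit 8193, nat_lit 4097, nat_lit 327680]⟩))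
 (.node (nat_lit 811) (.leaf ⟨[nat_lit 0xb88422b566fb8cc82b4928b94b0b200150e9, nat_lit 0xca63a39b2c8ab531791c259940386f481472], [nat_lit 65536, nat_lit 81920, nat_lit 90112, nat_lit 94208, nat_lit 98304, nat_lit 110592, nat_lit 173056, nat_lit 165632, nat_lit 161792, nat_lit 156096, nat_lit 154720, nat_lit 148784, nat_lit 145016, nat_lit 141912, nat_lit 139154, nat_lit 131842, nat_lit 2698, nat_lit 7628, nat_lit 10584, nat_lit 13072, nat_lit 18208, nat_lit 22784, nat_lit 28544, nat_lit 29952, nat_lit 33792, nat_lit 46123, nat_lit 40986, nat_lit 37246, nat_lit 33014, nat_lit 28962, nat_lit 24711, nat_lit 20482, nat_lit 16398, nat_lit 12309, nat_lit 8195, nat_lit 4097, nat_lit 409602, nat_lit 397312, nat_lit 139280, nat_lit 135172, nat_lit 131088, nat_lit 40962, nat_lit 36887, nat_lit 32770, nat_lit 28688, nat_lit 24577, nat_lit 20503, nat_lit 12289]⟩)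
 (.leaf ⟨[nat_lit 0xbb4ebda5c698ac10ac88f39848996cd629c1, nat_lit 0xfcf93545470059516918f909773b8a648693, nat_lit 0xb7de1bb15e8312003a995152f288dcd48573], [nat_lit 69632, nat_lit 77824, nat_lit 81920, nat_lit 86016, nat_lit 94208, nat_lit 98304, nat_lit 102400, nat_lit 110592, nat_lit 178176, nat_lit 173056, nat_lit 170496, nat_lit 164096, nat_lit 160512, nat_lit 158400, nat_lit 154848, nat_lit 149040, nat_lit 145440, nat_lit 139896, nat_lit 138052, nat_lit 133624, nat_lit 3058, nat_lit 6748, nat_lit 8288, nat_lit 13424, nat_lit 16800, nat_lit 20544, nat_lit 25728, nat_lit 30976, nat_lit 34816, nat_lit 37888, nat_lit 43008, nat_lit 45717, nat_lit 41546, nat_lit 37178, nat_lit 33502, nat_lit 28979, nat_lit 24611, nat_lit 20501, nat_lit 16426, nat_lit 12310, nat_lit 8193, nat_lit 417797, nat_lit 405506, nat_lit 397312, nat_lit 143456, nat_lit 139296, nat_lit 135272, nat_lit 131104, nat_lit 45158, nat_lit 41004, nat_lit 36943, nat_lit 32779]⟩)))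
 (.node (nat_lit 814) (.node (nat_lit 813) (.leaf ndMr0_1)
 (.leaf ⟨[nat_lit 0xc9a6cc08a2f61890196896ced7a9d405c90e], [nat_lit 73728, nat_lit 77824, nat_lit 98304, nat_lit 106496, nat_lit 178176, nat_lit 174080, nat_lit 164352, nat_lit 160640, nat_lit 155776, nat_lit 155360, nat_lit 150256, nat_lit 146896, nat_lit 143164, nat_lit 137748, nat_lit 132853, nat_lit 1972, nat_lit 6872, nat_lit 12208, nat_lit 13920, nat_lit 18432, nat_lit 21120, nat_lit 27648, nat_lit 32256, nat_lit 33792, nat_lit 38912, nat_lit 43008, nat_lit 41843, nat_lit 38243, nat_lit 32961, nat_lit 29038, nat_lit 20615, nat_lit 16901, nat_lit 12322, nat_lit 8209, nat_lit 4104, nat_lit 16, nat_lit 327680]⟩))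
 (.node (nat_lit 815) (.leaf ndMr1_3)
 (.leaf ⟨[nat_lit 0x3fca0c522b27ddb1581c7b0a61a40a433123, nat_lit 0x6500a524ac0489e1455978395369967a1623, nat_lit 0xe871b863a5032c889b62f106f61d6803a545], [nat_lit 65536, nat_lit 73728, nat_lit 77824, nat_lit 81920, nat_lit 86016, nat_lit 90112, nat_lit 102400, nat_lit 106496, nat_lit 175104, nat_lit 164864, nat_lit 162944, nat_lit 156288, nat_lit 152032, nat_lit 147680, nat_lit 146968, nat_lit 136456, nat_lit 133264, nat_lit 3406, nat_lit 5288, nat_lit 8920, nat_lit 15376, nat_lit 18560, nat_lit 22272, nat_lit 26240, nat_lit 29696, nat_lit 35328, nat_lit 46984, nat_lit 41112, nat_lit 39117, nat_lit 33349, nat_lit 29821, nat_lit 24632, nat_lit 20555, nat_lit 16397, nat_lit 12309, nat_lit 8211, nat_lit 4101, nat_lit 2, nat_lit 430088, nat_lit 421893, nat_lit 409602, nat_lit 397312, nat_lit 164352, nat_lit 160000, nat_lit 151808, nat_lit 148128, nat_lit 139408, nat_lit 135856, nat_lit 131744, nat_lit 45062, nat_lit 41605, nat_lit 12289]⟩))))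

theorem dcME101_ok : dcME101.all (elB (nat_lit 0)) = true := by decide +kernel

def dcME102 : BT El := (.node (nat_lit 820) (.node (nat_lit 818) (.node (nat_lit 817) (.leaf ndMr2_0)
 (.leaf ⟨[nat_lit 0xfc90a91b2b14169715a4f8197351dae01029, nat_lit 0x3605921981acd054cae750dab758147c222, nat_lit 0xa0c9cf0c1d4b1d557b0a830c4b0367724649, nat_lit 0xfff0f0a1c29718b3141808b6b793d0a20ecb], [nat_lit 65536, nat_lit 73728, nat_lit 90112, nat_lit 102400, nat_lit 106496, nat_lit 174080, nat_lit 171520, nat_lit 167424, nat_lit 162304, nat_lit 158848, nat_lit 155360, nat_lit 150448, nat_lit 137712, nat_lit 1402, nat_lit 4160, nat_lit 11480, nat_lit 13520, nat_lit 19040, nat_lit 20992, nat_lit 32000, nat_lit 38912, nat_lit 45787, nat_lit 41185, nat_lit 37299, nat_lit 33478, nat_lit 28689, nat_lit 24869, nat_lit 20485, nat_lit 16391, nat_lit 14343, nat_lit 8195, nat_lit 4097, nat_lit 2, nat_lit 438282, nat_lit 430088, nat_lit 421894, nat_lit 413700, nat_lit 405506, nat_lit 397312, nat_lit 174080,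 nat_lit 166912, nat_lit 162816, nat_lit 157312, nat_lit 154880, nat_lit 148672, nat_lit 144864, nat_lit 142752, nat_lit 136288, nat_lit 134316]⟩))
 (.node (nat_lit 819) (.leaf ndMr2_9)
 (.leaf ⟨[nat_lit 0x84b8eb72ee498a113b156900232d50fa34c9, nat_lit 0x6056fa735ec314e4104035a5489c251bd696], [nat_lit 73728, nat_lit 90112, nat_lit 102400, nat_lit 175104, nat_lit 171008, nat_lit 165632, nat_lit 160512, nat_lit 158592, nat_lit 152352, nat_lit 149472, nat_lit 146040, nat_lit 139848, nat_lit 136776, nat_lit 135160, nat_lit 3672, nat_lit 5228, nat_lit 12192, nat_lit 15760, nat_lit 17536, nat_lit 23168, nat_lit 28032, nat_lit 33792, nat_lit 39936, nat_lit 45071, nat_lit 41920, nat_lit 37952, nat_lit 33408, nat_lit 28772, nat_lit 24632, nat_lit 20547, nat_lit 16418, nat_lit 12293, nat_lit 8202, nat_lit 4100, nat_lit 2, nat_lit 425989, nat_lit 409600, nat_lit 151808, nat_lit 147744, nat_lit 131088, nat_lit 40976, nat_lit 28688, nat_lit 12289, nat_lit 8193, nat_lit 4097]⟩)))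
 (.node (nat_lit 822) (.node (nat_lit 821) (.leaf ndMr3_6)
 (.leaf ⟨[nat_lit 0xbe7e715a803340b2485027b2f5b35d4890f3, nat_lit 0x9339a35d08312ae59b65045406731f13a436, nat_lit 0x172b8e638ad0aad315648798e48a6805c2e3], [nat_lit 65536, nat_lit 77824, nat_lit 102400, nat_lit 178176, nat_lit 169472, nat_lit 166144, nat_lit 162048, nat_lit 158144, nat_lit 154592, nat_lit 147760, nat_lit 144448, nat_lit 141392, nat_lit 136458, nat_lit 134869, nat_lit 2540, nat_lit 6736, nat_lit 11808, nat_lit 13184, nat_lit 17248, nat_lit 22528, nat_lit 28544, nat_lit 29696, nat_lit 33792, nat_lit 38912, nat_lit 43008, nat_lit 46834, nat_lit 41878, nat_lit 38180, nat_lit 33970, nat_lit 28722, nat_lit 26646, nat_lit 20562, nat_lit 16423, nat_lit 12289, nat_lit 8225, nat_lit 4100, nat_lit 413700, nat_lit 405506, nat_lit 397312, nat_lit 143408, nat_lit 139296, nat_lit 135192, nat_lit 131098, nat_lit 45071, nat_lit 40985, nat_lit 36874, nat_lit 32800, nat_lit 28691, nat_lit 24579]⟩))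
 (.node (nat_lit 823) (.leaf ndMr3_7)
 (.leaf ⟨[nat_lit 0x6fa90a6b2d5bbdd49c528180a65c152208e1, nat_lit 0xf99cc0a8d0b9b4aa4c5e701894bc0520b1d6, nat_lit 0x3cf0638ce121840273d8d42d2a314e4a5ed5], [nat_lit 73728, nat_lit 81920, nat_lit 98304, nat_lit 102400, nat_lit 178176, nat_lit 169472, nat_lit 167424, nat_lit 162176, nat_lit 155712, nat_lit 155008, nat_lit 150720, nat_lit 143504, nat_lit 140296, nat_lit 138440, nat_lit 131578, nat_lit 3628, nat_lit 8016, nat_lit 9896, nat_lit 15824, nat_lit 20032, nat_lit 23680, nat_lit 26624, nat_lit 29696, nat_lit 34816, nat_lit 37888, nat_lit 47000, nat_lit 41792, nat_lit 38070, nat_lit 33449, nat_lit 28773, nat_lit 24765, nat_lit 20637, nat_lit 16417, nat_lit 12309, nat_lit 8193, nat_lit 4352, nat_lit 2, nat_lit 430088, nat_lit 421893, nat_lit 409603, nat_lit 397312, nat_lit 160000, nat_lit 152320, nat_lit 147616, nat_lit 144272, nat_lit 135448, nat_lit 45065, nat_lit 41097, nat_lit 24585, nat_lit 8194]⟩))))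

theorem dcME102_ok : dcME102.all (elB (nat_lit 0)) = true := by decide +kernel

def dcME103 : BT El := (.node (nat_lit 828) (.node (nat_lit 826) (.node (nat_lit 825) (.leaf ndMr3_12)
 (.leaf ⟨[nat_lit 0xbbd72e29c86184404a9687b1aeade968ce12, nat_lit 0xfa59af9c61210c20310a763dcdad2d74a968], [nat_lit 81920, nat_lit 94208, nat_lit 106496, nat_lit 178176, nat_lit 175104, nat_lit 165888, nat_lit 161536, nat_lit 159552, nat_lit 155136, nat_lit 149808, nat_lit 147136, nat_lit 139984, nat_lit 138620, nat_lit 133196, nat_lit 3008, nat_lit 7764, nat_lit 10456, nat_lit 15760, nat_lit 19776, nat_lit 23168, nat_lit 27392, nat_lit 32256, nat_lit 35840, nat_lit 37888, nat_lit 43008, nat_lit 45067, nat_lit 41600, nat_lit 38347, nat_lit 33314, nat_lit 29776, nat_lit 24720, nat_lit 20499, nat_lit 16421, nat_lit 12289, nat_lit 8194, nat_lit 4100, nat_lit 425989, nat_lit 409600, nat_lit 151808, nat_lit 147744, nat_lit 131088, nat_lit 40976, nat_lit 28688, nat_lit 12289, nat_lit 8193, nat_lit 4097]⟩))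
 (.node (nat_lit 827) (.leaf ndMr3_17)
 (.leaf ⟨[nat_lit 0x24b27e8a13565a6d04a82704aa59c6fbc086, nat_lit 0x3a3965394c4bdab45216900823731af9c232], [nat_lit 77824, nat_lit 81920, nat_lit 90112, nat_lit 98304, nat_lit 102400, nat_lit 106496, nat_lit 178176, nat_lit 175104, nat_lit 170496, nat_lit 164096, nat_lit 161280, nat_lit 156032, nat_lit 152608, nat_lit 149152, nat_lit 146608, nat_lit 139524, nat_lit 137784, nat_lit 131844, nat_lit 2412, nat_lit 4540, nat_lit 11088, nat_lit 12608, nat_lit 16576, nat_lit 21056, nat_lit 28544, nat_lit 31488, nat_lit 34816, nat_lit 45065, nat_lit 41696, nat_lit 38227, nat_lit 32932, nat_lit 28692, nat_lit 25619, nat_lit 20504, nat_lit 16388, nat_lit 12294, nat_lit 4097, nat_lit 425989, nat_lit 409600, nat_lit 151808, nat_lit 147744, nat_lit 131088, nat_lit 40976, nat_lit 28688, nat_lit 12289, nat_lit 8193, nat_lit 4097]⟩)))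
 (.node (nat_lit 830) (.node (nat_lit 829) (.leaf ndMr3_18)
 (.leaf ⟨[nat_lit 0x421127135815ce0854a29ad8873169700dee, nat_lit 0x1e8414810693c90033285b466faad4ebb422, nat_lit 0x414ddba940c8212b8aa53209f4386ee30db6, nat_lit 0x42ee272546042cd41364a0c589996f0b1dee], [nat_lit 65536, nat_lit 69632, nat_lit 81920, nat_lit 86016, nat_lit 90112, nat_lit 94208, nat_lit 102400, nat_lit 106496, nat_lit 178176, nat_lit 174080, nat_lit 171520, nat_lit 166400, nat_lit 161664, nat_lit 157888, nat_lit 155296, nat_lit 149360, nat_lit 146680, nat_lit 142524, nat_lit 139188, nat_lit 133990, nat_lit 2304, nat_lit 5368, nat_lit 8704, nat_lit 13040, nat_lit 17568, nat_lit 21952, nat_lit 27008, nat_lit 32000, nat_lit 39936, nat_lit 43008, nat_lit 45986, nat_lit 41570, nat_lit 36870, nat_lit 32884, nat_lit 30782, nat_lit 24872, nat_lit 20738, nat_lit 16390, nat_lit 12354, nat_lit 8200, nat_lit 4097, nat_lit 2, nat_lit 430088, nat_lit 421894, nat_lit 413700, nat_lit 405506, nat_lit 397312, nat_lit 164352,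 nat_lit 160256, nat_lit 156416, nat_lit 143744, nat_lit 139464, nat_lit 135528, nat_lit 131580, nat_lit 45565, nat_lit 41892, nat_lit 327680]⟩))
 (.node (nat_lit 831) (.leaf ndMr4_15)
 (.leaf ⟨[nat_lit 0x8bb7eb10c20394c48465352568ada977b58e, nat_lit 0x609a50314874a968bdab484a3373d8d10c20], [nat_lit 81920, nat_lit 86016, nat_lit 94208, nat_lit 98304, nat_lit 106496, nat_lit 178176, nat_lit 173056, nat_lit 168960, nat_lit 164864, nat_lit 160512, nat_lit 159424, nat_lit 152768, nat_lit 147520, nat_lit 147248, nat_lit 140588, nat_lit 135744, nat_lit 133116, nat_lit 484, nat_lit 5768, nat_lit 8408, nat_lit 13504, nat_lit 16608, nat_lit 24384, nat_lit 28416, nat_lit 30976, nat_lit 35328, nat_lit 37888, nat_lit 45091, nat_lit 41280, nat_lit 37329, nat_lit 32828, nat_lit 29201, nat_lit 24758, nat_lit 20507, nat_lit 16420, nat_lit 12306, nat_lit 8, nat_lit 425989, nat_lit 409600, nat_lit 151808, nat_lit 147744, nat_lit 131088, nat_lit 40976, nat_lit 28688, nat_lit 12289, nat_lit 8193, nat_lit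 4097]⟩))))

theorem dcME103_ok : dcME103.all (elB (nat_lit 0)) = true := by decide +kernel

def dcME104 : BT El := (.node (nat_lit 836) (.node (nat_lit 834) (.node (nat_lit 833) (.leaf ndMr5_7)
 (.leaf ⟨[nat_lit 0xbee81234ea5736374c156381eb18a5443081, nat_lit 0x330f938ca1308c025250bbd69663dae29887], [nat_lit 69632, nat_lit 81920, nat_lit 90112, nat_lit 98304, nat_lit 178176, nat_lit 173056, nat_lit 171520, nat_lit 167168, nat_lit 161152, nat_lit 158976, nat_lit 151936, nat_lit 150048, nat_lit 145776, nat_lit 140412, nat_lit 138924, nat_lit 134864, nat_lit 3204, nat_lit 6376, nat_lit 14336, nat_lit 18368, nat_lit 25472, nat_lit 30976, nat_lit 38912, nat_lit 43008, nat_lit 45100, nat_lit 41922, nat_lit 36934, nat_lit 32784, nat_lit 29713, nat_lit 24745, nat_lit 20490, nat_lit 16458, nat_lit 12326, nat_lit 8200, nat_lit 4128, nat_lit 128, nat_lit 425989, nat_lit 409600, nat_lit 151808, nat_lit 147744, nat_lit 131088, nat_lit 40976, nat_lit 28688, nat_lit 12289, nat_lit 8193, nat_lit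 4097]⟩))
 (.node (nat_lit 835) (.leaf ndMr6_0)
 (.leaf ⟨[nat_lit 0x77e41869a20452d778a45526ab712039b027, nat_lit 0xd811821c506281335dd4e68aa1941f425987, nat_lit 0x71bb7d2092740671858ceb82ab6d2457a86c, nat_lit 0xddb822a8a74b24ef0b99102e0a2c8c3411b7], [nat_lit 65536, nat_lit 90112, nat_lit 98304, nat_lit 106496, nat_lit 174080, nat_lit 171008, nat_lit 167424, nat_lit 162304, nat_lit 158912, nat_lit 155360, nat_lit 150432, nat_lit 137712, nat_lit 3850, nat_lit 6012, nat_lit 11976, nat_lit 13712, nat_lit 18112, nat_lit 22528, nat_lit 25856, nat_lit 32256, nat_lit 33280, nat_lit 39936, nat_lit 43008, nat_lit 46605, nat_lit 41430, nat_lit 38920, nat_lit 32837, nat_lit 29746, nat_lit 20611, nat_lit 17408, nat_lit 14342, nat_lit 4104, nat_lit 438282, nat_lit 430088, nat_lit 421894, nat_lit 413700, nat_lit 405506, nat_lit 397312, nat_lit 171008, nat_lit 166400, nat_lit 163328, nat_lit 156672, nat_lit 152384, nat_lit 149472, nat_lit 145824, nat_lit 141800, nat_lit 136248, nat_lit 132196]⟩)))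
 (.node (nat_lit 838) (.node (nat_lit 837) (.leaf ndMr6_1)
 (.leaf ⟨[nat_lit 0x4d227d82c606105609db58de892c8ca7cd0e, nat_lit 0x7de77105ccc0a0709d13524565749aab3ce2, nat_lit 0xc0903a41e8f2cc64056f04a8326b2223596e, nat_lit 0x7b2178501f3bc606730f4492a8905abb0865], [nat_lit 65536, nat_lit 69632, nat_lit 90112, nat_lit 94208, nat_lit 98304, nat_lit 168448, nat_lit 167168, nat_lit 160384, nat_lit 156864, nat_lit 153376, nat_lit 150128, nat_lit 145232, nat_lit 139520, nat_lit 137284, nat_lit 134415, nat_lit 778, nat_lit 6144, nat_lit 10128, nat_lit 14592, nat_lit 22528, nat_lit 24704, nat_lit 32256, nat_lit 35840, nat_lit 46312, nat_lit 41794, nat_lit 37979, nat_lit 33435, nat_lit 25619, nat_lit 20487, nat_lit 16395, nat_lit 12304, nat_lit 8225, nat_lit 434184, nat_lit 421894, nat_lit 413700, nat_lit 405506, nat_lit 397312, nat_lit 164864, nat_lit 160768, nat_lit 156928, nat_lit 152576, nat_lit 148512, nat_lit 144848, nat_lit 140304, nat_lit 135172, nat_lit 131152, nat_lit 45440, nat_lit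 37082]⟩))
 (.node (nat_lit 839) (.leaf ndMr6_2)
 (.leaf ⟨[nat_lit 0xf3f93a0c17260de9aba65389446dcd1a5808, nat_lit 0xf63609349546ac48606138a4b7782d570ce4, nat_lit 0xbe42d4344f34aef60b40cad10a240b2189cf], [nat_lit 73728, nat_lit 81920, nat_lit 86016, nat_lit 90112, nat_lit 98304, nat_lit 110592, nat_lit 175104, nat_lit 168960, nat_lit 160768, nat_lit 156608, nat_lit 151744, nat_lit 148128, nat_lit 144128, nat_lit 140348, nat_lit 136006, nat_lit 131976, nat_lit 3802, nat_lit 4740, nat_lit 10032, nat_lit 14640, nat_lit 18336, nat_lit 20672, nat_lit 26112, nat_lit 28928, nat_lit 35840, nat_lit 38912, nat_lit 46752, nat_lit 43629, nat_lit 38934, nat_lit 32834, nat_lit 29211, nat_lit 24635, nat_lit 20562, nat_lit 16395, nat_lit 12304, nat_lit 8193, nat_lit 4104, nat_lit 2, nat_lit 425991, nat_lit 417797, nat_lit 409602, nat_lit 397312, nat_lit 160000, nat_lit 155904, nat_lit 151872, nat_lit 147488, nat_lit 139488, nat_lit 135472, nat_lit 131346, nat_lit 45059, nat_lit 40976, nat_lit 37013,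 nat_lit 12292, nat_lit 327680]⟩))))

theorem dcME104_ok : dcME104.all (elB (nat_lit 0)) = true := by decide +kernel

def dcME105 : BT El := (.node (nat_lit 844) (.node (nat_lit 842) (.node (nat_lit 841) (.leaf ndMr6_4)
 (.leaf ⟨[nat_lit 0x21d78b6cdd51c05654a895b00435e25784e8, nat_lit 0x144427488a0a59667b9076cea160e578920a, nat_lit 0x66353a49e05629d2abc8112e636dc06b5111, nat_lit 0x30ca0340d456d66b8c8e2b18340118e4de0f], [nat_lit 69632, nat_lit 73728, nat_lit 77824, nat_lit 81920, nat_lit 94208, nat_lit 102400, nat_lit 106496, nat_lit 178176, nat_lit 173056, nat_lit 167680, nat_lit 163456, nat_lit 157888, nat_lit 155328, nat_lit 148512, nat_lit 144672, nat_lit 142312, nat_lit 139022, nat_lit 131118, nat_lit 3898, nat_lit 7028, nat_lit 10056, nat_lit 13152, nat_lit 17632, nat_lit 23936, nat_lit 28032, nat_lit 30208, nat_lit 33792, nat_lit 38912, nat_lit 45762, nat_lit 41392, nat_lit 37068, nat_lit 32901, nat_lit 28988, nat_lit 25115, nat_lit 20624, nat_lit 16461, nat_lit 8259, nat_lit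 4113, nat_lit 438281, nat_lit 421894, nat_lit 413700, nat_lit 405506, nat_lit 397312, nat_lit 169984, nat_lit 161792, nat_lit 155776, nat_lit 152192, nat_lit 147616, nat_lit 145568, nat_lit 141496, nat_lit 135176, nat_lit 131728, nat_lit 41158, nat_lit 32857]⟩))
 (.node (nat_lit 843) (.leaf ndMr6_14)
 (.leaf ⟨[nat_lit 0xf996382862382ee926d45b62f2d5819a0c4, nat_lit 0xb4be4224e49b510672de7bb6202a86180995, nat_lit 0xa0f56a72de2448314dae39968d22806640f5, nat_lit 0xc369f06bcf44b870aad444444c9cae605825], [nat_lit 65536, nat_lit 73728, nat_lit 77824, nat_lit 81920, nat_lit 90112, nat_lit 94208, nat_lit 98304, nat_lit 102400, nat_lit 106496, nat_lit 110592, nat_lit 178176, nat_lit 173056, nat_lit 171008, nat_lit 164096, nat_lit 160256, nat_lit 155776, nat_lit 152096, nat_lit 147536, nat_lit 146720, nat_lit 141432, nat_lit 137336, nat_lit 132175, nat_lit 84, nat_lit 7496, nat_lit 10424, nat_lit 13968, nat_lit 17216, nat_lit 24320, nat_lit 25600, nat_lit 30976, nat_lit 37888, nat_lit 46443,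 nat_lit 41010, nat_lit 36928, nat_lit 34818, nat_lit 28785, nat_lit 24731, nat_lit 20553, nat_lit 16395, nat_lit 12290, nat_lit 4105, nat_lit 2, nat_lit 438282, nat_lit 430088, nat_lit 421894, nat_lit 413700, nat_lit 405506, nat_lit 397312, nat_lit 174080, nat_lit 171008, nat_lit 164864, nat_lit 161280, nat_lit 158336, nat_lit 155072, nat_lit 150624, nat_lit 147152, nat_lit 142288, nat_lit 136304, nat_lit 134066]⟩)))
 (.node (nat_lit 846) (.node (nat_lit 845) (.leaf ndMr6_15)
 (.leaf ⟨[nat_lit 0xd4b28e34d8f200725ddc14260750aada16d1, nat_lit 0xc53965731eda56f65212b218a794e3000c22], [nat_lit 69632, nat_lit 73728, nat_lit 86016, nat_lit 94208, nat_lit 102400, nat_lit 106496, nat_lit 178176, nat_lit 174080, nat_lit 168448, nat_lit 166656, nat_lit 162176, nat_lit 155968, nat_lit 155488, nat_lit 149856, nat_lit 144080, nat_lit 142000, nat_lit 136000, nat_lit 131201, nat_lit 3000, nat_lit 5476, nat_lit 11384, nat_lit 12768, nat_lit 16416, nat_lit 20608, nat_lit 27520, nat_lit 28928, nat_lit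 35840, nat_lit 39936, nat_lit 45857, nat_lit 41617, nat_lit 37307, nat_lit 33334, nat_lit 28745, nat_lit 24736, nat_lit 20486, nat_lit 16905, nat_lit 12352, nat_lit 8226, nat_lit 4112, nat_lit 8, nat_lit 425989, nat_lit 409600, nat_lit 151808, nat_lit 147744, nat_lit 131088, nat_lit 40976, nat_lit 28688, nat_lit 12289, nat_lit 8193, nat_lit 4097]⟩))
 (.node (nat_lit 847) (.leaf ndMr6_17)
 (.leaf ⟨[nat_lit 0x9cc95c55e924c4c511d9540e600b6c47ae0e, nat_lit 0xb117e2256d13a55211a601aeed405f4638b0, nat_lit 0x448de7a18f183997595a3b04524566a481e4, nat_lit 0x390c05396b38d8616520d45e495088e301eb], [nat_lit 65536, nat_lit 69632, nat_lit 86016, nat_lit 90112, nat_lit 94208, nat_lit 102400, nat_lit 175104, nat_lit 171008, nat_lit 165632, nat_lit 160000, nat_lit 155968, nat_lit 153792, nat_lit 148512, nat_lit 146864, nat_lit 142192, nat_lit 137532, nat_lit 134684, nat_lit 142, nat_lit 4788, nat_lit 10408, nat_lit 15888, nat_lit 17088, nat_lit 21952, nat_lit 27904, nat_lit 28928, nat_lit 36352, nat_lit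 37888, nat_lit 46405, nat_lit 43301, nat_lit 37084, nat_lit 34968, nat_lit 29049, nat_lit 24591, nat_lit 20623, nat_lit 16645, nat_lit 12308, nat_lit 8200, nat_lit 4128, nat_lit 2, nat_lit 438282, nat_lit 430088, nat_lit 421894, nat_lit 413700, nat_lit 405506, nat_lit 397312, nat_lit 174080, nat_lit 169984, nat_lit 166912, nat_lit 161024, nat_lit 158080, nat_lit 154560, nat_lit 147840, nat_lit 146192, nat_lit 136296, nat_lit 132458]⟩))))

theorem dcME105_ok : dcME105.all (elB (nat_lit 0)) = true := by decide +kernel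

def dcME106 : BT El := (.node (nat_lit 852) (.node (nat_lit 850) (.node (nat_lit 849) (.leaf ndMr6_19)
 (.leaf ⟨[nat_lit 0x5699550d617988c7524122d90d611748b86f, nat_lit 0xf33a9f614548c17254d28099b7abc0475867, nat_lit 0x4874223d409a0d456364f404d69c60e5dc44], [nat_lit 69632, nat_lit 73728, nat_lit 77824, nat_lit 86016, nat_lit 90112, nat_lit 94208, nat_lit 98304, nat_lit 106496, nat_lit 174080, nat_lit 171520, nat_lit 165632, nat_lit 163456, nat_lit 159424, nat_lit 152288, nat_lit 147792, nat_lit 147424, nat_lit 143316, nat_lit 136198, nat_lit 132343, nat_lit 1268, nat_lit 7188, nat_lit 9688, nat_lit 13312, nat_lit 20352, nat_lit 22528, nat_lit 29696, nat_lit 35328, nat_lit 37888, nat_lit 45337, nat_lit 41545, nat_lit 38139, nat_lit 34956, nat_lit 28770, nat_lit 24610, nat_lit 20550, nat_lit 16389, nat_lit 12294, nat_lit 8193, nat_lit 4097, nat_lit 413700, nat_lit 405506, nat_lit 397312, nat_lit 143408, nat_lit 139304, nat_lit 135204, nat_lit 131098, nat_lit 45071, nat_lit 40976, nat_lit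 36874, nat_lit 32814, nat_lit 28688, nat_lit 24579]⟩))
 (.node (nat_lit 851) (.leaf ndMr6_20)
 (.leaf ⟨[nat_lit 0x82e87e11e85925a40ad15638768194f8dc13, nat_lit 0x8d7eed54a20bac5670d2f6d2072ceac0a086, nat_lit 0x2de21b2c1cf029b5bccf60d188248628a4cb, nat_lit 0x481dbe35169236ee91e154458153c7328056], [nat_lit 65536, nat_lit 73728, nat_lit 90112, nat_lit 102400, nat_lit 106496, nat_lit 110592, nat_lit 174080, nat_lit 169984, nat_lit 165888, nat_lit 162816, nat_lit 159424, nat_lit 153600, nat_lit 149136, nat_lit 145640, nat_lit 142192, nat_lit 135174, nat_lit 131332, nat_lit 3786, nat_lit 5688, nat_lit 10336, nat_lit 13312, nat_lit 16544, nat_lit 22784, nat_lit 27648, nat_lit 33792, nat_lit 43008, nat_lit 46824, nat_lit 43407, nat_lit 36968, nat_lit 32835, nat_lit 30728, nat_lit 24744, nat_lit 20611, nat_lit 16386, nat_lit 12358, nat_lit 8194, nat_lit 4097, nat_lit 2, nat_lit 434184, nat_lit 421894, nat_lit 413700, nat_lit 405506, nat_lit 397312, nat_lit 164864, nat_lit 160000, nat_lit 156800,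 nat_lit 151872, nat_lit 148960, nat_lit 143664, nat_lit 139728, nat_lit 135596, nat_lit 131330, nat_lit 45068, nat_lit 36935, nat_lit 327680]⟩)))
 (.node (nat_lit 854) (.node (nat_lit 853) (.leaf ndMr6_25)
 (.leaf ⟨[nat_lit 0xa9cc6c3982b7a5a21cd12816cc8d5c4a0157, nat_lit 0x82e87e95aa16c5c09890a80cc4a15897aee7, nat_lit 0x2788114c66800cc5208e1b558d8494bbd1ee], [nat_lit 65536, nat_lit 73728, nat_lit 86016, nat_lit 94208, nat_lit 102400, nat_lit 106496, nat_lit 178176, nat_lit 173056, nat_lit 169984, nat_lit 165376, nat_lit 160384, nat_lit 157888, nat_lit 152096, nat_lit 149328, nat_lit 143800, nat_lit 142792, nat_lit 138676, nat_lit 133253, nat_lit 882, nat_lit 6588, nat_lit 9664, nat_lit 15056, nat_lit 19296, nat_lit 23872, nat_lit 27264, nat_lit 30720, nat_lit 35328, nat_lit 43008, nat_lit 45563, nat_lit 41857, nat_lit 38037, nat_lit 32942, nat_lit 28986, nat_lit 24620, nat_lit 20548, nat_lit 16516, nat_lit 12295, nat_lit 8195, nat_lit 430088, nat_lit 417797, nat_lit 409603, nat_lit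 401408, nat_lit 164352, nat_lit 155904, nat_lit 152320, nat_lit 148320, nat_lit 143616, nat_lit 140032, nat_lit 131664, nat_lit 45068, nat_lit 41045, nat_lit 28688, nat_lit 4097]⟩))
 (.node (nat_lit 855) (.leaf ndMr6_27)
 (.leaf ⟨[nat_lit 0xd8ee826082e2a5647806dbc2d2ace913990a, nat_lit 0x6059f5ba4a3355618b8e47c10a0484ca4ecd, nat_lit 0x30603a8450f72887025a1b2d97a966291874, nat_lit 0xed82d1242f190d4c321353d820589d3a35e5], [nat_lit 65536, nat_lit 73728, nat_lit 81920, nat_lit 86016, nat_lit 90112, nat_lit 102400, nat_lit 110592, nat_lit 178176, nat_lit 169472, nat_lit 166912, nat_lit 156224, nat_lit 154048, nat_lit 150464, nat_lit 145888, nat_lit 141112, nat_lit 137082, nat_lit 133558, nat_lit 3858, nat_lit 4876, nat_lit 11568, nat_lit 13296, nat_lit 17824, nat_lit 21888, nat_lit 27136, nat_lit 29952, nat_lit 36352, nat_lit 39936, nat_lit 46280, nat_lit 41536, nat_lit 36928, nat_lit 32860, nat_lit 30830, nat_lit 24600, nat_lit 20631, nat_lit 16385, nat_lit 12353, nat_lit 8323, nat_lit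 438282, nat_lit 430088, nat_lit 421894, nat_lit 413700, nat_lit 405506, nat_lit 397312, nat_lit 174080, nat_lit 169984, nat_lit 166912, nat_lit 163328, nat_lit 159104, nat_lit 154496, nat_lit 147968, nat_lit 147152, nat_lit 143160, nat_lit 136200, nat_lit 134050, nat_lit 327680]⟩))))

theorem dcME106_ok : dcME106.all (elB (nat_lit 0)) = true := by decide +kernel

def dcME107 : BT El := (.node (nat_lit 860) (.node (nat_lit 858) (.node (nat_lit 857) (.leaf ndMr6_34)
 (.leaf ⟨[nat_lit 0xc6c050928c923db011c13bc6850d96e65468, nat_lit 0xb7b7879dcf101682612af1b5105482e5a4d6, nat_lit 0x1444d87a6c8aba506dce430a2a985651b014, nat_lit 0xaaf603038cb0a0ad9d2323a583bd61653c82], [nat_lit 65536, nat_lit 69632, nat_lit 86016, nat_lit 90112, nat_lit 94208, nat_lit 98304, nat_lit 106496, nat_lit 110592, nat_lit 178176, nat_lit 165376, nat_lit 160000, nat_lit 156544, nat_lit 153664, nat_lit 148656, nat_lit 144424, nat_lit 140352, nat_lit 135858, nat_lit 132085, nat_lit 566, nat_lit 5696, nat_lit 8208,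 nat_lit 12528, nat_lit 17888, nat_lit 21824, nat_lit 26496, nat_lit 30720, nat_lit 34816, nat_lit 39936, nat_lit 43008, nat_lit 46488, nat_lit 41097, nat_lit 36930, nat_lit 34875, nat_lit 28996, nat_lit 24717, nat_lit 20546, nat_lit 16390, nat_lit 12321, nat_lit 8209, nat_lit 4097, nat_lit 438282, nat_lit 430088, nat_lit 421894, nat_lit 413700, nat_lit 405506, nat_lit 397312, nat_lit 165376, nat_lit 161536, nat_lit 155904, nat_lit 154880, nat_lit 149440, nat_lit 144368, nat_lit 140904, nat_lit 135856, nat_lit 132924]⟩))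
 (.node (nat_lit 859) (.leaf ndMr6_37)
 (.leaf ⟨[nat_lit 0xe818dbabd531c0f2608cd491008aeceb8685, nat_lit 0x72d42b809720392d359f3a159109d4445477, nat_lit 0xe112774b9ab0cc71a94f6a12e65310f80a40], [nat_lit 69632, nat_lit 81920, nat_lit 94208, nat_lit 110592, nat_lit 175104, nat_lit 165120, nat_lit 161664, nat_lit 157760, nat_lit 152800, nat_lit 148448, nat_lit 146728, nat_lit 143228, nat_lit 136058, nat_lit 132074, nat_lit 526, nat_lit 7912, nat_lit 10896, nat_lit 16352, nat_lit 19872, nat_lit 24384, nat_lit 26752, nat_lit 30208, nat_lit 34816, nat_lit 38912, nat_lit 45812, nat_lit 41700, nat_lit 38229, nat_lit 33355, nat_lit 28989, nat_lit 24621, nat_lit 20575, nat_lit 16430, nat_lit 8209, nat_lit 4097, nat_lit 430088, nat_lit 421893, nat_lit 409603, nat_lit 397312, nat_lit 164352, nat_lit 160256, nat_lit 152320, nat_lit 148256, nat_lit 135568, nat_lit 131464, nat_lit 45066, nat_lit 41491, nat_lit 8193]⟩)))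
 (.node (nat_lit 862) (.node (nat_lit 861) (.leaf ndMr6_40)
 (.leaf ⟨[nat_lit 0xf5c033bb1c88b4249d60a1516038df2b1526, nat_lit 0x55acca22da104454396f362866859cf95528, nat_lit 0xc3006c412e32c8cd4cd6c13e207521609d55, nat_lit 0x14ee1e21410bd473b21e659e8e50a296b032], [nat_lit 81920, nat_lit 86016, nat_lit 90112, nat_lit 102400, nat_lit 110592, nat_lit 174080, nat_lit 165120, nat_lit 163712, nat_lit 156800, nat_lit 152704, nat_lit 148608, nat_lit 145064, nat_lit 141524, nat_lit 135590, nat_lit 131748, nat_lit 3758, nat_lit 5080, nat_lit 9216, nat_lit 13440, nat_lit 18368, nat_lit 20864, nat_lit 26240, nat_lit 29696, nat_lit 46833, nat_lit 41100, nat_lit 39251, nat_lit 33442, nat_lit 28698, nat_lit 26683, nat_lit 21001, nat_lit 16514, nat_lit 12306, nat_lit 9218, nat_lit 32, nat_lit 438282, nat_lit 430088, nat_lit 421894, nat_lit 413700, nat_lit 405506, nat_lit 397312, nat_lit 165888, nat_lit 160000, nat_lit 157440, nat_lit 152512, nat_lit 143744, nat_lit 140576, nat_lit 132712]⟩))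
 (.node (nat_lit 863) (.leaf ndMr6_44)
 (.leaf ⟨[nat_lit 0x35a0067b687aa88b91a77645021c1c90d8a0, nat_lit 0xe84d1d9b845926d13aaa46bd74ba02381980, nat_lit 0x4d2d72359907b9434545429d61bb66494520, nat_lit 0xff06d9d59c04332904a5d8f9022149cab], [nat_lit 65536, nat_lit 69632, nat_lit 73728, nat_lit 90112, nat_lit 98304, nat_lit 102400, nat_lit 178176, nat_lit 175104, nat_lit 170496, nat_lit 163328, nat_lit 159168, nat_lit 153920, nat_lit 147936, nat_lit 146336, nat_lit 142096, nat_lit 137724, nat_lit 134645, nat_lit 2766, nat_lit 8008, nat_lit 10424, nat_lit 13984, nat_lit 19520, nat_lit 20800, nat_lit 28160, nat_lit 29184, nat_lit 34304, nat_lit 45093, nat_lit 41552, nat_lit 38363, nat_lit 32977, nat_lit 29033, nat_lit 24889, nat_lit 16524, nat_lit 12291, nat_lit 8211, nat_lit 4100, nat_lit 430088, nat_lit 421894, nat_lit 413700, nat_lit 405506, nat_lit 397312, nat_lit 160512, nat_lit 156160, nat_lit 151936, nat_lit 147776, nat_lit 144368, nat_lit 140120, nat_lit 135732, nat_lit 131334,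 nat_lit 45328, nat_lit 41216]⟩))))

theorem dcME107_ok : dcME107.all (elB (nat_lit 0)) = true := by decide +kernel

def dcME108 : BT El := (.node (nat_lit 868) (.node (nat_lit 866) (.node (nat_lit 865) (.leaf ndMr6_52)
 (.leaf ⟨[nat_lit 0xe4b4275598f1502b416a78808d70e06bce49, nat_lit 0x4ebddb2c5699d4940c8076586a68917339f0, nat_lit 0x2722d7405eb21c0c540d5a0eed496d31464e, nat_lit 0x4deed7740c79adaa2592265e3493c01a9503], [nat_lit 65536, nat_lit 69632, nat_lit 73728, nat_lit 94208, nat_lit 98304, nat_lit 106496, nat_lit 178176, nat_lit 175104, nat_lit 171008, nat_lit 167680, nat_lit 162560, nat_lit 159104, nat_lit 155328, nat_lit 150464, nat_lit 133617, nat_lit 678, nat_lit 6152, nat_lit 11864, nat_lit 15872, nat_lit 18112, nat_lit 24384, nat_lit 28032, nat_lit 30464, nat_lit 34816, nat_lit 39936, nat_lit 43008, nat_lit 45214, nat_lit 41875, nat_lit 38352, nat_lit 32960, nat_lit 28707, nat_lit 24851, nat_lit 20484, nat_lit 14336, nat_lit 8202, nat_lit 4097, nat_lit 438282, nat_lit 430088,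 nat_lit 421894, nat_lit 413700, nat_lit 405506, nat_lit 397312, nat_lit 169984, nat_lit 165376, nat_lit 161024, nat_lit 157952, nat_lit 154560, nat_lit 147904, nat_lit 146960, nat_lit 140240, nat_lit 136632, nat_lit 131312]⟩))
 (.node (nat_lit 867) (.leaf ndMr6_60)
 (.leaf ⟨[nat_lit 0x12ebb279871bb1a902c36988ee951102d48a, nat_lit 0xe8172b54df14306172ed5042e6a48822a4ed, nat_lit 0x77d8bd591278c1ac29948b0474bd4029ba4f], [nat_lit 73728, nat_lit 77824, nat_lit 86016, nat_lit 90112, nat_lit 106496, nat_lit 178176, nat_lit 173056, nat_lit 168960, nat_lit 167168, nat_lit 161792, nat_lit 159360, nat_lit 153792, nat_lit 148976, nat_lit 145712, nat_lit 141552, nat_lit 135424, nat_lit 134648, nat_lit 206, nat_lit 5856, nat_lit 11840, nat_lit 15680, nat_lit 18912, nat_lit 20736, nat_lit 25728, nat_lit 29952, nat_lit 35840, nat_lit 39936, nat_lit 45256, nat_lit 41539, nat_lit 38251, nat_lit 32774, nat_lit 30816, nat_lit 25603, nat_lit 20632, nat_lit 16392, nat_lit 12304, nat_lit 8451, nat_lit 4353,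 nat_lit 434184, nat_lit 417797, nat_lit 409602, nat_lit 397312, nat_lit 151808, nat_lit 147808, nat_lit 140608, nat_lit 136500, nat_lit 131106, nat_lit 45061, nat_lit 36928, nat_lit 28693, nat_lit 12290]⟩)))
 (.node (nat_lit 870) (.node (nat_lit 869) (.leaf ndMr6_62)
 (.leaf ⟨[nat_lit 0xa36a333c225a5909089aebaaab03d8399892, nat_lit 0xffc35aac9039c5c4142eba1db64a9860bc05, nat_lit 0x9055c1a54191493bba8c4080b81cd16d5f6], [nat_lit 65536, nat_lit 69632, nat_lit 102400, nat_lit 168960, nat_lit 166144, nat_lit 160384, nat_lit 157120, nat_lit 154048, nat_lit 149968, nat_lit 147080, nat_lit 141624, nat_lit 137126, nat_lit 131274, nat_lit 1734, nat_lit 5688, nat_lit 9064, nat_lit 15776, nat_lit 18432, nat_lit 22528, nat_lit 25088, nat_lit 30720, nat_lit 35840, nat_lit 39936, nat_lit 46800, nat_lit 43712, nat_lit 39408, nat_lit 33520, nat_lit 29017, nat_lit 24891, nat_lit 20562, nat_lit 16429, nat_lit 12322, nat_lit 8209, nat_lit 4097, nat_lit 425990, nat_lit 413700, nat_lit 405506, nat_lit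 397312, nat_lit 155904, nat_lit 151808, nat_lit 147744, nat_lit 143408, nat_lit 139600, nat_lit 135200, nat_lit 131408, nat_lit 45071, nat_lit 41045, nat_lit 36879, nat_lit 28762]⟩))
 (.node (nat_lit 871) (.leaf ndMr7_19)
 (.leaf ⟨[nat_lit 0xdd482d72c22ba9b53cc16291891c286445f2, nat_lit 0x81114b49642099109c6ce6d0e460ee053d75, nat_lit 0x4d44eebce916296d725e8b42b2114e0204c3], [nat_lit 65536, nat_lit 81920, nat_lit 86016, nat_lit 90112, nat_lit 94208, nat_lit 102400, nat_lit 110592, nat_lit 174080, nat_lit 168960, nat_lit 166400, nat_lit 162176, nat_lit 156736, nat_lit 155520, nat_lit 149584, nat_lit 143464, nat_lit 140648, nat_lit 137360, nat_lit 132456, nat_lit 1766, nat_lit 5624, nat_lit 9424, nat_lit 13664, nat_lit 18272, nat_lit 20992, nat_lit 25600, nat_lit 31488, nat_lit 35328, nat_lit 39936, nat_lit 46832, nat_lit 43776, nat_lit 39320, nat_lit 32979, nat_lit 28787, nat_lit 24717, nat_lit 20491, nat_lit 16456, nat_lit 8211, nat_lit 4097, nat_lit 425991, nat_lit 417797, nat_lit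 409602, nat_lit 397312, nat_lit 155776, nat_lit 152000, nat_lit 147904, nat_lit 139280, nat_lit 135552, nat_lit 131410, nat_lit 45061, nat_lit 41093, nat_lit 12290]⟩))))

theorem dcME108_ok : dcME108.all (elB (nat_lit 0)) = true := by decide +kernel

def dcME109 : BT El := (.node (nat_lit 876) (.node (nat_lit 874) (.node (nat_lit 873) (.leaf ndMr7_20)
 (.leaf ⟨[nat_lit 0xf0aa36158a6a016943667611520bdd5b8e30, nat_lit 0xe8d4714088f354f26a8a1bc460a257065a6e, nat_lit 0xe7b2125d4b094c2e209a68dd47a0ecf62120, nat_lit 0x84b8eb28569b226fa360aa98773c4127104c], [nat_lit 69632, nat_lit 73728, nat_lit 81920, nat_lit 86016, nat_lit 94208, nat_lit 102400, nat_lit 106496, nat_lit 173056, nat_lit 162944, nat_lit 156992, nat_lit 151936, nat_lit 147904, nat_lit 143520, nat_lit 140084, nat_lit 131556, nat_lit 2, nat_lit 6204, nat_lit 8960, nat_lit 15616, nat_lit 20128, nat_lit 21504, nat_lit 24832, nat_lit 29952, nat_lit 33792, nat_lit 45064, nat_lit 40973, nat_lit 37092, nat_lit 32774, nat_lit 28737,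 nat_lit 24759, nat_lit 20562, nat_lit 16386, nat_lit 13319, nat_lit 8226, nat_lit 4097, nat_lit 438281, nat_lit 421894, nat_lit 413700, nat_lit 405506, nat_lit 397312, nat_lit 169984, nat_lit 161792, nat_lit 156160, nat_lit 152256, nat_lit 149664, nat_lit 145504, nat_lit 142064, nat_lit 135272, nat_lit 133694, nat_lit 40991, nat_lit 32857]⟩))
 (.node (nat_lit 875) (.leaf ndMr7_29)
 (.leaf ⟨[nat_lit 0x7ebb8d8d2c933aa3440e560897935eb04d41, nat_lit 0x9663b28e19988f4362b9300383a95496e2, nat_lit 0x9c50cf2154b74a2d39928058357cd9010ef4], [nat_lit 90112, nat_lit 94208, nat_lit 98304, nat_lit 106496, nat_lit 178176, nat_lit 175104, nat_lit 170496, nat_lit 167680, nat_lit 162176, nat_lit 159360, nat_lit 153760, nat_lit 148976, nat_lit 143872, nat_lit 142224, nat_lit 136508, nat_lit 133663, nat_lit 1610, nat_lit 6972, nat_lit 8552, nat_lit 14880, nat_lit 18816, nat_lit 22528, nat_lit 28032, nat_lit 30720, nat_lit 34816, nat_lit 37888, nat_lit 43008, nat_lit 47049, nat_lit 43777, nat_lit 37212,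 nat_lit 33502, nat_lit 29055, nat_lit 24617, nat_lit 20508, nat_lit 16389, nat_lit 12320, nat_lit 8194, nat_lit 4100, nat_lit 425990, nat_lit 413700, nat_lit 405506, nat_lit 397312, nat_lit 155904, nat_lit 151872, nat_lit 147808, nat_lit 143472, nat_lit 139288, nat_lit 135504, nat_lit 131432, nat_lit 45071, nat_lit 40976, nat_lit 36879, nat_lit 28764]⟩)))
 (.node (nat_lit 878) (.node (nat_lit 877) (.leaf ndMr8_14)
 (.leaf ⟨[nat_lit 0x6aa59cb8ccd71c36556909804b2a2448a58f, nat_lit 0x1b777d2c0c97c56e556764064269c17a1183, nat_lit 0xcfa39f8ba4c198a1a21565a6b7008e46c26f], [nat_lit 77824, nat_lit 81920, nat_lit 86016, nat_lit 90112, nat_lit 106496, nat_lit 110592, nat_lit 171520, nat_lit 165888, nat_lit 161280, nat_lit 156224, nat_lit 152672, nat_lit 149248, nat_lit 145848, nat_lit 141808, nat_lit 136296, nat_lit 3856, nat_lit 7808, nat_lit 9384, nat_lit 15440, nat_lit 18912, nat_lit 24256, nat_lit 26880, nat_lit 31232, nat_lit 35840, nat_lit 37888, nat_lit 43008, nat_lit 46792, nat_lit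 41232, nat_lit 39032, nat_lit 32950, nat_lit 28742, nat_lit 24606, nat_lit 20744, nat_lit 16392, nat_lit 12308, nat_lit 8200, nat_lit 4129, nat_lit 425991, nat_lit 417797, nat_lit 409603, nat_lit 397312, nat_lit 160000, nat_lit 155776, nat_lit 152000, nat_lit 147520, nat_lit 135192, nat_lit 131074, nat_lit 45065, nat_lit 41152, nat_lit 37008, nat_lit 8194]⟩))
 (.node (nat_lit 879) (.leaf ndMr8_15)
 (.leaf ⟨[nat_lit 0x8b744ea1dc37b53002221116ccaceeb510d2, nat_lit 0xf6f553a92d0bbd420c866a34098b8ac99d0b, nat_lit 0xf03c5518ab74cd51794ed5c910082963308e], [nat_lit 69632, nat_lit 77824, nat_lit 81920, nat_lit 86016, nat_lit 94208, nat_lit 98304, nat_lit 106496, nat_lit 110592, nat_lit 178176, nat_lit 168960, nat_lit 164864, nat_lit 160128, nat_lit 155712, nat_lit 153120, nat_lit 150336, nat_lit 144904, nat_lit 136202, nat_lit 132652, nat_lit 1618, nat_lit 6976, nat_lit 9104, nat_lit 14944, nat_lit 19104, nat_lit 23296, nat_lit 25088, nat_lit 29952, nat_lit 34816, nat_lit 43008, nat_lit 46256,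 nat_lit 43841, nat_lit 38214, nat_lit 32771, nat_lit 29311, nat_lit 24630, nat_lit 20544, nat_lit 16391, nat_lit 12418, nat_lit 8194, nat_lit 4100, nat_lit 430088, nat_lit 417797, nat_lit 409602, nat_lit 397312, nat_lit 164352, nat_lit 156416, nat_lit 152320, nat_lit 147808, nat_lit 139632, nat_lit 135492, nat_lit 131168, nat_lit 45061, nat_lit 41555, nat_lit 28688, nat_lit 12290, nat_lit 327680]⟩))))

theorem dcME109_ok : dcME109.all (elB (nat_lit 0)) = true := by decide +kernel

def dcME110 : BT El := (.node (nat_lit 884) (.node (nat_lit 882) (.node (nat_lit 881) (.leaf ndMr8_16)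
 (.leaf ⟨[nat_lit 0x78274d908b055db3382d55b291321211bdc4, nat_lit 0x182b7e1b8e58a6e415a8caa2060bd4b9b640, nat_lit 0x65a56c6b8e69c16a4ca28790aca0aa0b8476], [nat_lit 65536, nat_lit 69632, nat_lit 77824, nat_lit 98304, nat_lit 178176, nat_lit 169984, nat_lit 165120, nat_lit 161664, nat_lit 159680, nat_lit 152512, nat_lit 150432, nat_lit 143552, nat_lit 140172, nat_lit 138098, nat_lit 1696, nat_lit 7600, nat_lit 11872, nat_lit 14048, nat_lit 17856, nat_lit 22528, nat_lit 26496, nat_lit 31488, nat_lit 37888, nat_lit 45558, nat_lit 41042, nat_lit 36978, nat_lit 32878, nat_lit 30762, nat_lit 24604, nat_lit 16459, nat_lit 12354, nat_lit 8193, nat_lit 4104, nat_lit 4, nat_lit 425991, nat_lit 417797, nat_lit 409602, nat_lit 397312, nat_lit 155776, nat_lit 151936, nat_lit 147904, nat_lit 139360, nat_lit 135268, nat_lit 131094, nat_lit 45062, nat_lit 40976, nat_lit 37075, nat_lit 12289]⟩))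
 (.node (nat_lit 883) (.leaf ndMr8_17)
 (.leaf ⟨[nat_lit 0x2e14219b6e963847910115be15405461d2c5, nat_lit 0x6a0f5a324f7ab9ea2c1a00924c9c6cb12283, nat_lit 0x1184e46256e28824b4e9043daa38c068d657], [nat_lit 106496, nat_lit 110592, nat_lit 171520, nat_lit 166400, nat_lit 160512, nat_lit 156416, nat_lit 152704, nat_lit 149360, nat_lit 145320, nat_lit 139816, nat_lit 138048, nat_lit 134627, nat_lit 474, nat_lit 7736, nat_lit 11416, nat_lit 13360, nat_lit 19200, nat_lit 23488, nat_lit 27392, nat_lit 29696, nat_lit 34304, nat_lit 39936, nat_lit 43008, nat_lit 45625, nat_lit 41515, nat_lit 37153, nat_lit 33315, nat_lit 28713, nat_lit 24589, nat_lit 20481, nat_lit 18436, nat_lit 12310, nat_lit 8211, nat_lit 4101, nat_lit 425991, nat_lit 417797, nat_lit 409602, nat_lit 397312, nat_lit 151808, nat_lit 147744, nat_lit 139632, nat_lit 135552, nat_lit 131126, nat_lit 45061, nat_lit 41088, nat_lit 36869, nat_lit 12290]⟩)))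
 (.node (nat_lit 886) (.node (nat_lit 885) (.leaf ndMr8_18)
 (.leaf ⟨[nat_lit 0x69caca394741598e806f2554096ae269a08f, nat_lit 0xe184148562b7c880a21cdb0449ba8e561a63, nat_lit 0x5aac3a6aad72065440d825bca68b930acce0, nat_lit 0x8d1771998ea14920a2235b8cac790365c1ae], [nat_lit 65536, nat_lit 86016, nat_lit 106496, nat_lit 110592, nat_lit 175104, nat_lit 171520, nat_lit 167680, nat_lit 162688, nat_lit 159168, nat_lit 155360, nat_lit 150480, nat_lit 133617, nat_lit 3244, nat_lit 4436, nat_lit 11032, nat_lit 14928, nat_lit 19552, nat_lit 24384, nat_lit 25728, nat_lit 30208, nat_lit 36352, nat_lit 38912, nat_lit 46955, nat_lit 43583, nat_lit 39359, nat_lit 32934, nat_lit 29030, nat_lit 24725, nat_lit 20487, nat_lit 16387, nat_lit 14340, nat_lit 4097, nat_lit 438282, nat_lit 430088, nat_lit 421894, nat_lit 413700, nat_lit 405506, nat_lit 397312, nat_lit 166400, nat_lit 160000, nat_lit 158080, nat_lit 152320, nat_lit 147680, nat_lit 145824, nat_lit 142720, nat_lit 138440, nat_lit 133814]⟩))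
 (.node (nat_lit 887) (.leaf ndMr8_19)
 (.leaf ⟨[nat_lit 0x960990bb4660b8f602c53ac28a4c58f2c904, nat_lit 0xebbb274508359815742f629df38a9a90b052, nat_lit 0xd481db4950768c2c9cab78d2d03116a7080f], [nat_lit 69632, nat_lit 73728, nat_lit 86016, nat_lit 90112, nat_lit 102400, nat_lit 171520, nat_lit 164096, nat_lit 161280, nat_lit 156608, nat_lit 154624, nat_lit 150480, nat_lit 145608, nat_lit 140552, nat_lit 135424, nat_lit 134, nat_lit 7620, nat_lit 10088, nat_lit 14224, nat_lit 17536, nat_lit 20544, nat_lit 24704, nat_lit 32512, nat_lit 33792, nat_lit 39936, nat_lit 46872, nat_lit 41434, nat_lit 37128, nat_lit 33328, nat_lit 29818, nat_lit 24589, nat_lit 20631, nat_lit 16429, nat_lit 12310, nat_lit 8200, nat_lit 32, nat_lit 434184, nat_lit 417797, nat_lit 409603, nat_lit 397312, nat_lit 156672, nat_lit 152832, nat_lit 148800, nat_lit 143472, nat_lit 136296, nat_lit 131160, nat_lit 45065, nat_lit 36873, nat_lit 28697, nat_lit 8194]⟩))))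

theorem dcME110_ok : dcME110.all (elB (nat_lit 0)) = true := by decide +kernel

def dcME111 : BT El := (.node (nat_lit 892) (.node (nat_lit 890) (.node (nat_lit 889) (.leaf ndMr8_20)
 (.leaf ⟨[nat_lit 0xf669c32da2292158d9cc982e34524a3a5e1, nat_lit 0x9cfaf6646b2bb92b9a8a010ecfa11a63c028, nat_lit 0x47d11bbc1218966c20c4db3e869554043967, nat_lit 0x2822275d8432b4327b937a9947011908cd14], [nat_lit 65536, nat_lit 73728, nat_lit 77824, nat_lit 81920, nat_lit 86016, nat_lit 94208, nat_lit 102400, nat_lit 106496, nat_lit 110592, nat_lit 178176, nat_lit 168960, nat_lit 163200, nat_lit 156224, nat_lit 155264, nat_lit 148736, nat_lit 143976, nat_lit 140560, nat_lit 137640, nat_lit 133047, nat_lit 3946, nat_lit 7844, nat_lit 10520, nat_lit 14512, nat_lit 16416, nat_lit 22080, nat_lit 25600, nat_lit 28928, nat_lit 37888, nat_lit 46969, nat_lit 41952, nat_lit 37126, nat_lit 33394, nat_lit 28681, nat_lit 24582, nat_lit 20745, nat_lit 16388, nat_lit 12292, nat_lit 8193, nat_lit 4161, nat_lit 2, nat_lit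 430088, nat_lit 421894, nat_lit 413700, nat_lit 405506, nat_lit 397312, nat_lit 160512, nat_lit 156288, nat_lit 151680, nat_lit 148320, nat_lit 143456, nat_lit 140040, nat_lit 135704, nat_lit 131346, nat_lit 45853, nat_lit 41605]⟩))
 (.node (nat_lit 891) (.leaf ndMr8_24)
 (.leaf ⟨[nat_lit 0x6a5a9c594f5759a92324379a601502882a37, nat_lit 0xdeebd1044547bad060d46955093ccb75b481, nat_lit 0x141eee24d90881142ad4f3b82348ab26dec6, nat_lit 0xa3f3380c11238cd29d8f08a53b5548bd12b], [nat_lit 73728, nat_lit 86016, nat_lit 90112, nat_lit 98304, nat_lit 102400, nat_lit 106496, nat_lit 168448, nat_lit 160896, nat_lit 156864, nat_lit 152960, nat_lit 147984, nat_lit 144448, nat_lit 140140, nat_lit 135784, nat_lit 2390, nat_lit 4156, nat_lit 9752, nat_lit 13856, nat_lit 17504, nat_lit 23808, nat_lit 27520, nat_lit 30720, nat_lit 34816, nat_lit 38912, nat_lit 46792, nat_lit 43479, nat_lit 38111, nat_lit 32800, nat_lit 28746, nat_lit 24755, nat_lit 20506, nat_lit 16399, nat_lit 8193, nat_lit 434185, nat_lit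 421894, nat_lit 413700, nat_lit 405506, nat_lit 397312, nat_lit 168960, nat_lit 161280, nat_lit 156288, nat_lit 153088, nat_lit 148128, nat_lit 145088, nat_lit 139472, nat_lit 135200, nat_lit 131584, nat_lit 45267, nat_lit 32958, nat_lit 327680]⟩)))
 (.node (nat_lit 894) (.node (nat_lit 893) (.leaf ndMr8_26)
 (.leaf ⟨[nat_lit 0x172b8e3914c93668800d5b3aeb1892f0c4b4, nat_lit 0xc009a9550892d9cf649609de071c5a809aa2, nat_lit 0xaf39984e326b9ec5a12a218e510023b56f4], [nat_lit 65536, nat_lit 69632, nat_lit 77824, nat_lit 81920, nat_lit 86016, nat_lit 90112, nat_lit 174080, nat_lit 168960, nat_lit 167680, nat_lit 160512, nat_lit 157952, nat_lit 155072, nat_lit 148128, nat_lit 143456, nat_lit 142240, nat_lit 135676, nat_lit 134699, nat_lit 4060, nat_lit 4532, nat_lit 8824, nat_lit 15888, nat_lit 18176, nat_lit 24256, nat_lit 25088, nat_lit 30976, nat_lit 46619, nat_lit 41371, nat_lit 37157, nat_lit 32975, nat_lit 29022, nat_lit 24869, nat_lit 20497, nat_lit 16420, nat_lit 12359, nat_lit 8195,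 nat_lit 4097, nat_lit 425991, nat_lit 417797, nat_lit 409602, nat_lit 397312, nat_lit 160000, nat_lit 151808, nat_lit 147616, nat_lit 139280, nat_lit 135648, nat_lit 131378, nat_lit 45059, nat_lit 40979, nat_lit 37014, nat_lit 12292]⟩))
 (.node (nat_lit 895) (.leaf ndMr8_42)
 (.leaf ⟨[nat_lit 0x63c9a335eab69d0c7c45454a6448465041d6, nat_lit 0xde1bde4d677602860bac41446a6ae0f3c8a8, nat_lit 0xa506037d48a04d095d1a7198b10c9cc85857, nat_lit 0x5a909f019ab526352a1c1831f4bcc43258f2], [nat_lit 65536, nat_lit 69632, nat_lit 73728, nat_lit 77824, nat_lit 98304, nat_lit 106496, nat_lit 110592, nat_lit 178176, nat_lit 171008, nat_lit 161536, nat_lit 155776, nat_lit 152320, nat_lit 147568, nat_lit 145712, nat_lit 131329, nat_lit 3202, nat_lit 7764, nat_lit 9208, nat_lit 14736, nat_lit 18240, nat_lit 20544, nat_lit 27520, nat_lit 29184, nat_lit 36352, nat_lit 37888, nat_lit 45400, nat_lit 41440, nat_lit 37135, nat_lit 33433, nat_lit 28974, nat_lit 24592, nat_lit 20481, nat_lit 16393, nat_lit 12289,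 nat_lit 8448, nat_lit 4101, nat_lit 2, nat_lit 430088, nat_lit 421894, nat_lit 413700, nat_lit 405506, nat_lit 397312, nat_lit 160512, nat_lit 156032, nat_lit 152128, nat_lit 147776, nat_lit 143840, nat_lit 139920, nat_lit 135372, nat_lit 131600, nat_lit 45276, nat_lit 41876, nat_lit 327680]⟩))))

theorem dcME111_ok : dcME111.all (elB (nat_lit 0)) = true := by decide +kernel

def dcME112 : BT El := (.node (nat_lit 900) (.node (nat_lit 898) (.node (nat_lit 897) (.leaf ndMr8_43)
 (.leaf ⟨[nat_lit 0xcc5aaa02c3149e4578cd66414e251a2add13, nat_lit 0x9f9a502ceb72020360976924e8899ae0bd54, nat_lit 0x4beb847091702d948d8f5094737b60651249, nat_lit 0x184d124cc37321aa78c072c1915ca82abac4], [nat_lit 65536, nat_lit 69632, nat_lit 73728, nat_lit 86016, nat_lit 98304, nat_lit 102400, nat_lit 106496, nat_lit 178176, nat_lit 175104, nat_lit 168448, nat_lit 165120, nat_lit 163712, nat_lit 156864, nat_lit 152736, nat_lit 148608, nat_lit 145064, nat_lit 141524, nat_lit 135588, nat_lit 131749, nat_lit 4060,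 nat_lit 7552, nat_lit 10888, nat_lit 14368, nat_lit 18656, nat_lit 22016, nat_lit 28032, nat_lit 31488, nat_lit 33792, nat_lit 43008, nat_lit 46448, nat_lit 43221, nat_lit 36908, nat_lit 33971, nat_lit 29737, nat_lit 26649, nat_lit 20496, nat_lit 16421, nat_lit 12353, nat_lit 8193, nat_lit 438282, nat_lit 430088, nat_lit 421894, nat_lit 413700, nat_lit 405506, nat_lit 397312, nat_lit 174080, nat_lit 166912, nat_lit 163584, nat_lit 158848, nat_lit 152512, nat_lit 147840, nat_lit 143776, nat_lit 142304, nat_lit 139156, nat_lit 133066, nat_lit 327680]⟩))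
 (.node (nat_lit 899) (.leaf ndMr8_47)
 (.leaf ⟨[nat_lit 0xb117e25cce140e467c690b01c26dc8555589, nat_lit 0x9305f97b9178d2691c8eca91655580169850, nat_lit 0xd141e79c6d71818e2a8885a4c785692089af], [nat_lit 65536, nat_lit 69632, nat_lit 86016, nat_lit 90112, nat_lit 94208, nat_lit 170496, nat_lit 166400, nat_lit 163328, nat_lit 159680, nat_lit 151904, nat_lit 151104, nat_lit 147152, nat_lit 142488, nat_lit 136200, nat_lit 134392, nat_lit 3076, nat_lit 6596, nat_lit 8752, nat_lit 12608, nat_lit 19936, nat_lit 22400, nat_lit 27264, nat_lit 28928, nat_lit 33792, nat_lit 38912, nat_lit 47016, nat_lit 41216, nat_lit 37080, nat_lit 32944, nat_lit 29051, nat_lit 24731, nat_lit 20762, nat_lit 16449, nat_lit 12326, nat_lit 8195, nat_lit 4100, nat_lit 2, nat_lit 425991, nat_lit 413700, nat_lit 405506, nat_lit 397312, nat_lit 160000, nat_lit 151808, nat_lit 147616, nat_lit 143776, nat_lit 139448, nat_lit 135316, nat_lit 131480, nat_lit 45071, nat_lit 41103, nat_lit 36874, nat_lit 24585]⟩)))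
 (.node (nat_lit 902) (.node (nat_lit 901) (.leaf ndMr8_49)
 (.leaf ⟨[nat_lit 0x6fa6faada829388b6410679e6969551082e3, nat_lit 0x50a0a399990714409502a4bd075d623b11b7, nat_lit 0x88e41869ac598907032a352eef0a62474a14, nat_lit 0xacc0fa559c0aa582a346b7dd0129e2684c92], [nat_lit 65536, nat_lit 77824, nat_lit 81920, nat_lit 86016, nat_lit 90112, nat_lit 102400, nat_lit 106496, nat_lit 110592, nat_lit 178176, nat_lit 175104, nat_lit 171520, nat_lit 167168, nat_lit 160000, nat_lit 157504, nat_lit 153920, nat_lit 149872, nat_lit 144168, nat_lit 143196, nat_lit 137410, nat_lit 133990, nat_lit 1860, nat_lit 5312, nat_lit 10976, nat_lit 14928, nat_lit 18784, nat_lit 22080, nat_lit 28288, nat_lit 30976, nat_lit 34304, nat_lit 38912, nat_lit 43008, nat_lit 46148, nat_lit 43306, nat_lit 37066, nat_lit 32948, nat_lit 29022, nat_lit 24614, nat_lit 20566, nat_lit 16395, nat_lit 12311, nat_lit 8195, nat_lit 4101, nat_lit 4, nat_lit 430088, nat_lit 421894, nat_lit 413700, nat_lit 405506, nat_lit 397312,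 nat_lit 164352, nat_lit 155904, nat_lit 151936, nat_lit 147648, nat_lit 143568, nat_lit 139304, nat_lit 135864, nat_lit 131350, nat_lit 45399, nat_lit 41229, nat_lit 327680]⟩))
 (.node (nat_lit 903) (.leaf ndMr8_53)
 (.leaf ⟨[nat_lit 0xb41b743a912a3c2928e22b1a17ab80b69193, nat_lit 0x6f560a602b40a14d291e25da2783a43b9933, nat_lit 0x84d18850db263e8599ad172030ba4eb05482, nat_lit 0x81221e899e82dce112936a40725b664032ae], [nat_lit 65536, nat_lit 73728, nat_lit 77824, nat_lit 90112, nat_lit 102400, nat_lit 106496, nat_lit 110592, nat_lit 174080, nat_lit 171520, nat_lit 167680, nat_lit 162304, nat_lit 158848, nat_lit 155360, nat_lit 150448, nat_lit 137714, nat_lit 1354, nat_lit 4204, nat_lit 12024, nat_lit 15776, nat_lit 16448, nat_lit 22400, nat_lit 26880, nat_lit 28928, nat_lit 33280, nat_lit 37888, nat_lit 46587, nat_lit 41378, nat_lit 37104, nat_lit 33857, nat_lit 28736, nat_lit 24612, nat_lit 20546, nat_lit 16385, nat_lit 14336, nat_lit 8227, nat_lit 4097, nat_lit 2, nat_lit 438282, nat_lit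 430088, nat_lit 421894, nat_lit 413700, nat_lit 405506, nat_lit 397312, nat_lit 174080, nat_lit 168960, nat_lit 166912, nat_lit 162560, nat_lit 157696, nat_lit 153024, nat_lit 148832, nat_lit 146416, nat_lit 139296, nat_lit 138484, nat_lit 133566]⟩))))

theorem dcME112_ok : dcME112.all (elB (nat_lit 0)) = true := by decide +kernel

def dcME113 : BT El := (.node (nat_lit 908) (.node (nat_lit 906) (.node (nat_lit 905) (.leaf ndMr8_64)
 (.leaf ⟨[nat_lit 0x177e483454804881489f62c18dbadc3a9e93, nat_lit 0x3a3035a12a290c78ce5000c227358fbd6d4], [nat_lit 178176, nat_lit 175104, nat_lit 171520, nat_lit 166400, nat_lit 163712, nat_lit 159104, nat_lit 153088, nat_lit 147824, nat_lit 144040, nat_lit 143220, nat_lit 137068, nat_lit 134539, nat_lit 1794, nat_lit 5636, nat_lit 9280, nat_lit 14448, nat_lit 16640, nat_lit 23360, nat_lit 28416, nat_lit 29952, nat_lit 33792, nat_lit 39936, nat_lit 45585, nat_lit 41946, nat_lit 37255, nat_lit 33440, nat_lit 29258, nat_lit 24727, nat_lit 20736, nat_lit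 16456, nat_lit 12355, nat_lit 8227, nat_lit 4112, nat_lit 8, nat_lit 425989, nat_lit 409600, nat_lit 151808, nat_lit 147744, nat_lit 131088, nat_lit 40976, nat_lit 28688, nat_lit 12289, nat_lit 8193, nat_lit 4097]⟩))
 (.node (nat_lit 907) (.leaf ndMr9_29)
 (.leaf ⟨[nat_lit 0xd8d22763576309d14dc20a11051cde7942aa, nat_lit 0xa5a3350d1535b904b2411adcaf3886d64a06, nat_lit 0x30cafc6d2af8484104c715a8e4bd9cc4a0a6], [nat_lit 65536, nat_lit 69632, nat_lit 81920, nat_lit 86016, nat_lit 94208, nat_lit 98304, nat_lit 175104, nat_lit 167680, nat_lit 161152, nat_lit 156928, nat_lit 153920, nat_lit 150320, nat_lit 146416, nat_lit 143016, nat_lit 135684, nat_lit 131748, nat_lit 1372, nat_lit 7332, nat_lit 12008, nat_lit 14688, nat_lit 18912, nat_lit 20864, nat_lit 26368, nat_lit 31744, nat_lit 35328, nat_lit 37888, nat_lit 45244, nat_lit 41296, nat_lit 37084, nat_lit 32906, nat_lit 28774, nat_lit 24624, nat_lit 20556, nat_lit 16390, nat_lit 12289, nat_lit 8208, nat_lit 4100, nat_lit 425991, nat_lit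 417797, nat_lit 409603, nat_lit 401408, nat_lit 160000, nat_lit 155776, nat_lit 151872, nat_lit 147680, nat_lit 143616, nat_lit 139472, nat_lit 131348, nat_lit 45068, nat_lit 41157, nat_lit 36928, nat_lit 4097]⟩)))
 (.node (nat_lit 910) (.node (nat_lit 909) (.leaf ndMr9_30)
 (.leaf ⟨[nat_lit 0x422d7d1c1cf44d60a34e98d43729052b3146, nat_lit 0x5f05651a644bd1f50966a6b9963456241c10, nat_lit 0xdb81d4b99885508f8cc52724b680403ab4eb, nat_lit 0x48477740cf7594168cdb051035126867b24e], [nat_lit 69632, nat_lit 73728, nat_lit 77824, nat_lit 90112, nat_lit 98304, nat_lit 169472, nat_lit 165632, nat_lit 161024, nat_lit 156928, nat_lit 151936, nat_lit 147488, nat_lit 145128, nat_lit 139596, nat_lit 135240, nat_lit 2036, nat_lit 7920, nat_lit 10448, nat_lit 15008, nat_lit 17120, nat_lit 20992, nat_lit 25344, nat_lit 31744, nat_lit 33280, nat_lit 37888, nat_lit 43008, nat_lit 46568, nat_lit 43875, nat_lit 37214, nat_lit 33475, nat_lit 29043, nat_lit 24734, nat_lit 20482, nat_lit 16386, nat_lit 12418,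 nat_lit 8200, nat_lit 4112, nat_lit 256, nat_lit 434185, nat_lit 425991, nat_lit 417797, nat_lit 409603, nat_lit 397312, nat_lit 164864, nat_lit 160768, nat_lit 156672, nat_lit 153344, nat_lit 149120, nat_lit 136384, nat_lit 132304, nat_lit 45065, nat_lit 8193]⟩))
 (.node (nat_lit 911) (.leaf ndMr9_31)
 (.leaf ⟨[nat_lit 0x999f031accc13ca88ceb00a9a4b4a974b807, nat_lit 0x353995308aba91b04306f748f7a02c950633, nat_lit 0xf56af53388c052c19a93184968adc623b5e5], [nat_lit 73728, nat_lit 77824, nat_lit 94208, nat_lit 98304, nat_lit 106496, nat_lit 175104, nat_lit 168960, nat_lit 165632, nat_lit 162432, nat_lit 156800, nat_lit 155488, nat_lit 148064, nat_lit 147144, nat_lit 140416, nat_lit 136200, nat_lit 131680, nat_lit 3258, nat_lit 6940, nat_lit 10784, nat_lit 13968, nat_lit 18112, nat_lit 21632, nat_lit 26880, nat_lit 31744, nat_lit 35328, nat_lit 39936, nat_lit 45912, nat_lit 41357, nat_lit 39416, nat_lit 32992, nat_lit 28956, nat_lit 24578, nat_lit 20619, nat_lit 16417, nat_lit 12420,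 nat_lit 8210, nat_lit 32, nat_lit 434184, nat_lit 417797, nat_lit 409603, nat_lit 397312, nat_lit 164864, nat_lit 156672, nat_lit 152896, nat_lit 147520, nat_lit 144400, nat_lit 135520, nat_lit 132392, nat_lit 45065, nat_lit 28697, nat_lit 8194]⟩))))

theorem dcME113_ok : dcME113.all (elB (nat_lit 0)) = true := by decide +kernel

def dcME114 : BT El := (.node (nat_lit 916) (.node (nat_lit 914) (.node (nat_lit 913) (.leaf ndMr9_32)
 (.leaf ⟨[nat_lit 0x390cfa23ece585b064c4819c152a55434af1, nat_lit 0x3a3695950c7b0a21aa60b1b88a281887de6d, nat_lit 0x1e21dd3a54532d0415ae18bdb374a0c00e95], [nat_lit 69632, nat_lit 73728, nat_lit 90112, nat_lit 94208, nat_lit 98304, nat_lit 102400, nat_lit 106496, nat_lit 110592, nat_lit 178176, nat_lit 169984, nat_lit 167424, nat_lit 161664, nat_lit 157696, nat_lit 153408, nat_lit 148592, nat_lit 146984, nat_lit 139796, nat_lit 137488, nat_lit 132177, nat_lit 1278, nat_lit 6548, nat_lit 9144, nat_lit 13408, nat_lit 20384, nat_lit 22656, nat_lit 28160, nat_lit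 35840, nat_lit 37888, nat_lit 45554, nat_lit 41941, nat_lit 36881, nat_lit 33879, nat_lit 28721, nat_lit 24623, nat_lit 20563, nat_lit 16397, nat_lit 12308, nat_lit 8211, nat_lit 4097, nat_lit 425991, nat_lit 417797, nat_lit 409602, nat_lit 397312, nat_lit 155904, nat_lit 151936, nat_lit 147776, nat_lit 139536, nat_lit 135664, nat_lit 131104, nat_lit 45059, nat_lit 41091, nat_lit 37078, nat_lit 12292]⟩))
 (.node (nat_lit 915) (.leaf ndMr9_33)
 (.leaf ⟨[nat_lit 0x353995221cf844eab32620365448c26bd565, nat_lit 0x50c6cf95ec03a68e622a4984c57b4708894b, nat_lit 0xa9afa224a859ccaa02e1158759458f9b9b0], [nat_lit 65536, nat_lit 69632, nat_lit 77824, nat_lit 81920, nat_lit 90112, nat_lit 98304, nat_lit 178176, nat_lit 173056, nat_lit 170496, nat_lit 167680, nat_lit 162688, nat_lit 158208, nat_lit 154304, nat_lit 150304, nat_lit 143800, nat_lit 142868, nat_lit 137520, nat_lit 133606, nat_lit 3460, nat_lit 7560, nat_lit 9672, nat_lit 12528, nat_lit 19680, nat_lit 22720, nat_lit 27904, nat_lit 28928,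 nat_lit 34304, nat_lit 39936, nat_lit 43008, nat_lit 47060, nat_lit 41910, nat_lit 38196, nat_lit 33975, nat_lit 29190, nat_lit 26626, nat_lit 21523, nat_lit 16463, nat_lit 12290, nat_lit 8225, nat_lit 425990, nat_lit 413700, nat_lit 405506, nat_lit 397312, nat_lit 155904, nat_lit 151872, nat_lit 147808, nat_lit 143648, nat_lit 139608, nat_lit 135208, nat_lit 131150, nat_lit 45071, nat_lit 40988, nat_lit 36879, nat_lit 28694]⟩)))
 (.node (nat_lit 918) (.node (nat_lit 917) (.leaf ndMr9_34)
 (.leaf ⟨[nat_lit 0x9635ca286511b0ce024eb6d26883ecaa8897, nat_lit 0xaca669a45243bc062ae750c9d01a1aab5c4c, nat_lit 0x5955f0080c452251bb6af63ad419ca25a613], [nat_lit 65536, nat_lit 69632, nat_lit 77824, nat_lit 81920, nat_lit 86016, nat_lit 110592, nat_lit 178176, nat_lit 168448, nat_lit 167168, nat_lit 162688, nat_lit 156224, nat_lit 155584, nat_lit 143560, nat_lit 137224, nat_lit 134795, nat_lit 3632, nat_lit 7592, nat_lit 9920, nat_lit 13424, nat_lit 19488, nat_lit 22912, nat_lit 26624, nat_lit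 32512, nat_lit 35840, nat_lit 39936, nat_lit 43008, nat_lit 45474, nat_lit 41474, nat_lit 38394, nat_lit 32930, nat_lit 29018, nat_lit 24610, nat_lit 20501, nat_lit 16421, nat_lit 12419, nat_lit 8193, nat_lit 425991, nat_lit 417797, nat_lit 409603, nat_lit 401408, nat_lit 160000, nat_lit 155776, nat_lit 151872, nat_lit 147680, nat_lit 143680, nat_lit 139480, nat_lit 131352, nat_lit 45068, nat_lit 41100, nat_lit 36928, nat_lit 4097]⟩))
 (.node (nat_lit 919) (.leaf ndMr9_35)
 (.leaf ⟨[nat_lit 0x2dd1b1910a3741e2a581152433ab167bb506, nat_lit 0xb21e2758642a26f328ecd3c144019957ba28, nat_lit 0x6a6639004435a90973dac94613a5ab7398a4], [nat_lit 65536, nat_lit 69632, nat_lit 81920, nat_lit 98304, nat_lit 106496, nat_lit 110592, nat_lit 168960, nat_lit 164096, nat_lit 159872, nat_lit 158208, nat_lit 153568, nat_lit 151472, nat_lit 143496, nat_lit 141940, nat_lit 135372, nat_lit 134628, nat_lit 2476, nat_lit 8152, nat_lit 9640, nat_lit 14592, nat_lit 19648, nat_lit 21504, nat_lit 28160, nat_lit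 29952, nat_lit 33280, nat_lit 37888, nat_lit 43008, nat_lit 45400, nat_lit 41736, nat_lit 37950, nat_lit 33522, nat_lit 29021, nat_lit 24588, nat_lit 20485, nat_lit 16513, nat_lit 12305, nat_lit 8224, nat_lit 4609, nat_lit 430088, nat_lit 413700, nat_lit 405506, nat_lit 397312, nat_lit 164352, nat_lit 152320, nat_lit 147744, nat_lit 143376, nat_lit 139288, nat_lit 135440, nat_lit 131342, nat_lit 45071, nat_lit 41500, nat_lit 28703, nat_lit 24591, nat_lit 327680]⟩))))

theorem dcME114_ok : dcME114.all (elB (nat_lit 0)) = true := by decide +kernel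

def dcME115 : BT El := (.node (nat_lit 924) (.node (nat_lit 922) (.node (nat_lit 921) (.leaf ndMr9_36)
 (.leaf ⟨[nat_lit 0x4e4224a220f6cd56898726142e056e75a482, nat_lit 0x1227e720949a06a6040b19adb6ba24e3bd83, nat_lit 0x69ca35b3aec52c876beb498c119404149905], [nat_lit 65536, nat_lit 69632, nat_lit 81920, nat_lit 90112, nat_lit 110592, nat_lit 178176, nat_lit 168960, nat_lit 167680, nat_lit 163200, nat_lit 155904, nat_lit 153088, nat_lit 150432, nat_lit 144456, nat_lit 140808, nat_lit 138802, nat_lit 133250, nat_lit 1618, nat_lit 8016, nat_lit 9016, nat_lit 15264, nat_lit 18656, nat_lit 23104, nat_lit 26496, nat_lit 28928, nat_lit 33280, nat_lit 46472, nat_lit 43703, nat_lit 37362, nat_lit 33395, nat_lit 28929, nat_lit 25128, nat_lit 20498, nat_lit 16390, nat_lit 12294, nat_lit 8194, nat_lit 4097, nat_lit 2, nat_lit 434184, nat_lit 413700, nat_lit 405506, nat_lit 397312, nat_lit 164864, nat_lit 152832, nat_lit 143376, nat_lit 140304, nat_lit 135428, nat_lit 132370, nat_lit 45071, nat_lit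 36870, nat_lit 28688, nat_lit 24579]⟩))
 (.node (nat_lit 923) (.leaf ndMr9_37)
 (.leaf ⟨[nat_lit 0x993aca684522ac76ba00774c86ad20f64549, nat_lit 0xccaa19408906af326712398a3aed78504d, nat_lit 0x448217b3e8e98e41228a91460032ce8bd5ac], [nat_lit 77824, nat_lit 90112, nat_lit 98304, nat_lit 102400, nat_lit 178176, nat_lit 167680, nat_lit 160000, nat_lit 155904, nat_lit 154784, nat_lit 147536, nat_lit 145424, nat_lit 142004, nat_lit 138992, nat_lit 132471, nat_lit 1682, nat_lit 8172, nat_lit 11296, nat_lit 14464, nat_lit 20288, nat_lit 20928, nat_lit 26496, nat_lit 31232, nat_lit 36352, nat_lit 37888, nat_lit 43008, nat_lit 46968, nat_lit 41453, nat_lit 39305, nat_lit 32907, nat_lit 29004, nat_lit 24612, nat_lit 20549, nat_lit 16910, nat_lit 12290, nat_lit 8211, nat_lit 4104, nat_lit 16, nat_lit 425991, nat_lit 417797, nat_lit 409603, nat_lit 401408, nat_lit 155776, nat_lit 151936, nat_lit 147840, nat_lit 143472, nat_lit 131172, nat_lit 45068, nat_lit 40976, nat_lit 37017, nat_lit 4097]⟩)))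
 (.node (nat_lit 926) (.node (nat_lit 925) (.leaf ndMr9_38)
 (.leaf ⟨[nat_lit 0xe87eb71366775d2ca2823aca2b23e002d906, nat_lit 0xf05a397817113269ac244550a81d8c16bae7, nat_lit 0x390a9224ea32ca885e936802e8dab210d8f], [nat_lit 69632, nat_lit 73728, nat_lit 90112, nat_lit 94208, nat_lit 110592, nat_lit 169984, nat_lit 166400, nat_lit 161024, nat_lit 156672, nat_lit 154560, nat_lit 147920, nat_lit 145624, nat_lit 141128, nat_lit 137396, nat_lit 131733, nat_lit 812, nat_lit 5732, nat_lit 9936, nat_lit 13248, nat_lit 20288, nat_lit 21376, nat_lit 26112, nat_lit 30976, nat_lit 38912, nat_lit 46696, nat_lit 41435, nat_lit 39214, nat_lit 32890, nat_lit 28760, nat_lit 24731, nat_lit 20764, nat_lit 16525, nat_lit 12417, nat_lit 8211, nat_lit 4097, nat_lit 434184, nat_lit 421893, nat_lit 409603, nat_lit 401408, nat_lit 164864, nat_lit 151936, nat_lit 148480, nat_lit 144784, nat_lit 140600, nat_lit 131260, nat_lit 45068, nat_lit 37013, nat_lit 24588, nat_lit 4097]⟩))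
 (.node (nat_lit 927) (.leaf ndMr9_39)
 (.leaf ⟨[nat_lit 0x7b4714ad9edbb994844e642c029126550d21, nat_lit 0x42884b5b5eeb12016254811693b9c111d646, nat_lit 0x9c0509b36ec990d01894858029ad1cf2ca27], [nat_lit 65536, nat_lit 77824, nat_lit 81920, nat_lit 86016, nat_lit 90112, nat_lit 94208, nat_lit 106496, nat_lit 110592, nat_lit 178176, nat_lit 171008, nat_lit 167424, nat_lit 161792, nat_lit 158400, nat_lit 154688, nat_lit 150688, nat_lit 144408, nat_lit 139440, nat_lit 137968, nat_lit 131368, nat_lit 2018, nat_lit 6980, nat_lit 10568, nat_lit 12912, nat_lit 18624, nat_lit 21184, nat_lit 26624, nat_lit 29696, nat_lit 33280, nat_lit 39936, nat_lit 43008, nat_lit 46111, nat_lit 41792, nat_lit 36981, nat_lit 33984, nat_lit 28992, nat_lit 24611, nat_lit 20508, nat_lit 16390, nat_lit 12291, nat_lit 8210, nat_lit 4104, nat_lit 425988, nat_lit 405506, nat_lit 397312, nat_lit 143376, nat_lit 139528, nat_lit 135424, nat_lit 131086, nat_lit 45071, nat_lit 40976, nat_lit 36873, nat_lit 28703, nat_lit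 24586, nat_lit 20496]⟩))))

theorem dcME115_ok : dcME115.all (elB (nat_lit 0)) = true := by decide +kernel

def dcME116 : BT El := (.node (nat_lit 932) (.node (nat_lit 930) (.node (nat_lit 929) (.leaf ndMr9_40)
 (.leaf ⟨[nat_lit 0xca935338069b45a27dc3384904638cbad0aa, nat_lit 0x7d81e20ccababa50234f77d9288994265003, nat_lit 0x877274509638c1af00509a10b7ad8e693a6c], [nat_lit 65536, nat_lit 77824, nat_lit 86016, nat_lit 102400, nat_lit 106496, nat_lit 173056, nat_lit 169984, nat_lit 167168, nat_lit 159872, nat_lit 155904, nat_lit 155104, nat_lit 147520, nat_lit 145744, nat_lit 141076, nat_lit 137714, nat_lit 131748, nat_lit 3320, nat_lit 4384, nat_lit 10976, nat_lit 14480, nat_lit 16448, nat_lit 23040, nat_lit 27904, nat_lit 29952, nat_lit 33792, nat_lit 37888, nat_lit 46820, nat_lit 41408, nat_lit 39408, nat_lit 32896, nat_lit 28992, nat_lit 24704, nat_lit 20491, nat_lit 16388, nat_lit 12292, nat_lit 4129, nat_lit 32, nat_lit 434184, nat_lit 417797, nat_lit 409603, nat_lit 397312, nat_lit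 156672, nat_lit 152832, nat_lit 148736, nat_lit 143392, nat_lit 136288, nat_lit 131136, nat_lit 45066, nat_lit 36928, nat_lit 28755, nat_lit 8193, nat_lit 327680]⟩))
 (.node (nat_lit 931) (.leaf ndMr9_41)
 (.leaf ⟨[nat_lit 0xa950abaac704ead6396448825940c8a0df1, nat_lit 0x33ccc9bd943121ac5ce01490c0ac8ae89e8f, nat_lit 0xacf3c752ad2146154e49659f75c51001cc2], [nat_lit 69632, nat_lit 81920, nat_lit 86016, nat_lit 90112, nat_lit 98304, nat_lit 106496, nat_lit 110592, nat_lit 178176, nat_lit 168960, nat_lit 165120, nat_lit 161792, nat_lit 157760, nat_lit 152288, nat_lit 148448, nat_lit 146904, nat_lit 139488, nat_lit 137568, nat_lit 131551, nat_lit 2588, nat_lit 6192, nat_lit 8352, nat_lit 13728, nat_lit 16608, nat_lit 24064, nat_lit 28288, nat_lit 29184, nat_lit 36352, nat_lit 37888, nat_lit 45434, nat_lit 41920, nat_lit 37078, nat_lit 33942, nat_lit 28704, nat_lit 24620, nat_lit 20574, nat_lit 16398, nat_lit 12293, nat_lit 8194, nat_lit 4100, nat_lit 425991, nat_lit 413700, nat_lit 405506,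 nat_lit 397312, nat_lit 160000, nat_lit 151936, nat_lit 143536, nat_lit 139272, nat_lit 135428, nat_lit 131496, nat_lit 45071, nat_lit 40991, nat_lit 36876, nat_lit 24586]⟩)))
 (.node (nat_lit 934) (.node (nat_lit 933) (.leaf ndMr9_42)
 (.leaf ⟨[nat_lit 0xc39900b2688bd56a734413127289e0503c6c, nat_lit 0x2ddebe8a0d4215c2b3417aaa6790e0f62561, nat_lit 0x960990331e418272b2d353b4aebaa8880451], [nat_lit 94208, nat_lit 110592, nat_lit 178176, nat_lit 174080, nat_lit 171520, nat_lit 167424, nat_lit 160384, nat_lit 158912, nat_lit 153248, nat_lit 149952, nat_lit 145328, nat_lit 141624, nat_lit 137528, nat_lit 133416, nat_lit 3564, nat_lit 7916, nat_lit 11592, nat_lit 14544, nat_lit 18112, nat_lit 23104, nat_lit 25600, nat_lit 36352, nat_lit 43008, nat_lit 46615, nat_lit 43424, nat_lit 37079, nat_lit 32979, nat_lit 28973, nat_lit 24605, nat_lit 20637, nat_lit 16398, nat_lit 12308, nat_lit 8195, nat_lit 4101, nat_lit 425991, nat_lit 417797, nat_lit 409603, nat_lit 397312, nat_lit 160000, nat_lit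 155776, nat_lit 151808, nat_lit 147680, nat_lit 143744, nat_lit 135232, nat_lit 131328, nat_lit 45065, nat_lit 41050, nat_lit 36937, nat_lit 8194, nat_lit 327680]⟩))
 (.node (nat_lit 935) (.leaf ndMr9_43)
 (.leaf ⟨[nat_lit 0xd8ee823ba8f54c0c322cb4c1a309057944b5, nat_lit 0x6500a5b1a3273c97416ab150e14c1809b543, nat_lit 0xbdee2793d934deca00c86a21758b5d038825], [nat_lit 69632, nat_lit 73728, nat_lit 81920, nat_lit 86016, nat_lit 90112, nat_lit 98304, nat_lit 102400, nat_lit 178176, nat_lit 175104, nat_lit 169472, nat_lit 164864, nat_lit 162944, nat_lit 156928, nat_lit 152832, nat_lit 148512, nat_lit 145792, nat_lit 142280, nat_lit 136788, nat_lit 134296, nat_lit 1636, nat_lit 8036, nat_lit 8624, nat_lit 16224, nat_lit 19136, nat_lit 22656, nat_lit 27264, nat_lit 31232, nat_lit 33280, nat_lit 46889, nat_lit 43338, nat_lit 37066, nat_lit 34864, nat_lit 29184, nat_lit 24610, nat_lit 20495, nat_lit 16643, nat_lit 12289, nat_lit 8225, nat_lit 8, nat_lit 425990, nat_lit 413700, nat_lit 405506,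 nat_lit 397312, nat_lit 155904, nat_lit 151808, nat_lit 147808, nat_lit 143680, nat_lit 139592, nat_lit 135276, nat_lit 131188, nat_lit 45071, nat_lit 41045, nat_lit 28757]⟩))))

theorem dcME116_ok : dcME116.all (elB (nat_lit 0)) = true := by decide +kernel

def dcME117 : BT El := (.node (nat_lit 940) (.node (nat_lit 938) (.node (nat_lit 937) (.leaf ndMr9_44)
 (.leaf ⟨[nat_lit 0x112e222b616bd428489ec191478817333a54, nat_lit 0x7bde871c0297b24b8a8c7b140e6dc44aa293, nat_lit 0xed72de215496b2f594c6114011b39f45a0c7], [nat_lit 65536, nat_lit 77824, nat_lit 81920, nat_lit 86016, nat_lit 102400, nat_lit 106496, nat_lit 175104, nat_lit 168960, nat_lit 164096, nat_lit 158528, nat_lit 154656, nat_lit 148368, nat_lit 146752, nat_lit 142128, nat_lit 135320, nat_lit 132140, nat_lit 2108, nat_lit 7256, nat_lit 10144, nat_lit 15136, nat_lit 19008, nat_lit 24320, nat_lit 26624, nat_lit 30976, nat_lit 33280, nat_lit 46845, nat_lit 43281, nat_lit 37989, nat_lit 33442, nat_lit 29208, nat_lit 25628, nat_lit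 20484, nat_lit 16461, nat_lit 12293, nat_lit 8193, nat_lit 4353, nat_lit 4, nat_lit 425990, nat_lit 413700, nat_lit 405506, nat_lit 397312, nat_lit 155904, nat_lit 151808, nat_lit 147744, nat_lit 143632, nat_lit 139328, nat_lit 135464, nat_lit 131182, nat_lit 45071, nat_lit 41043, nat_lit 36943, nat_lit 28755]⟩))
 (.node (nat_lit 939) (.leaf ndMr9_45)
 (.leaf ⟨[nat_lit 0x5ffa65ab8a0452d349a44bb0e11456353e0d, nat_lit 0x2bbd810b12d28ce854a22742a6b817679293, nat_lit 0x8dd42b00d6abd5ec21e33340b2a39b608909], [nat_lit 65536, nat_lit 77824, nat_lit 86016, nat_lit 94208, nat_lit 98304, nat_lit 102400, nat_lit 106496, nat_lit 178176, nat_lit 173056, nat_lit 171520, nat_lit 164096, nat_lit 160768, nat_lit 157952, nat_lit 155616, nat_lit 150592, nat_lit 144616, nat_lit 139856, nat_lit 135778, nat_lit 133167, nat_lit 3742, nat_lit 7796, nat_lit 8840, nat_lit 13360, nat_lit 20256, nat_lit 21184, nat_lit 25216, nat_lit 30976, nat_lit 35328, nat_lit 37888, nat_lit 46401, nat_lit 41419, nat_lit 37075,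 nat_lit 33849, nat_lit 28731, nat_lit 24591, nat_lit 20629, nat_lit 16396, nat_lit 12295, nat_lit 8202, nat_lit 4097, nat_lit 425990, nat_lit 413700, nat_lit 405506, nat_lit 397312, nat_lit 155904, nat_lit 151872, nat_lit 147744, nat_lit 139584, nat_lit 135432, nat_lit 131090, nat_lit 45071, nat_lit 41043, nat_lit 36928, nat_lit 28764]⟩)))
 (.node (nat_lit 942) (.node (nat_lit 941) (.leaf ndMr9_46)
 (.leaf ⟨[nat_lit 0x127dd190666111aea2a0c38d0b05cb64beb1, nat_lit 0x55a3c50be2ba958d7224201ac39c0f4ba889, nat_lit 0xd8b44b6d268a8ae459c0970d867d9500c8b1, nat_lit 0xe184145207304af46062f34044a95ab71d36], [nat_lit 69632, nat_lit 77824, nat_lit 81920, nat_lit 86016, nat_lit 90112, nat_lit 98304, nat_lit 102400, nat_lit 106496, nat_lit 110592, nat_lit 178176, nat_lit 173056, nat_lit 170496, nat_lit 164096, nat_lit 163200, nat_lit 157504, nat_lit 153024, nat_lit 149808, nat_lit 146800, nat_lit 143316, nat_lit 138202, nat_lit 1180, nat_lit 6444, nat_lit 10552, nat_lit 14800, nat_lit 19648, nat_lit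 23360, nat_lit 25344, nat_lit 30464, nat_lit 36352, nat_lit 38912, nat_lit 47040, nat_lit 43365, nat_lit 36887, nat_lit 32802, nat_lit 29714, nat_lit 26631, nat_lit 20614, nat_lit 16427, nat_lit 12294, nat_lit 4097, nat_lit 2, nat_lit 438282, nat_lit 430088, nat_lit 421894, nat_lit 413700, nat_lit 405506, nat_lit 397312, nat_lit 174080, nat_lit 168960, nat_lit 165376, nat_lit 162560, nat_lit 158208, nat_lit 154496, nat_lit 147776, nat_lit 143424, nat_lit 142584, nat_lit 138328, nat_lit 134882]⟩))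
 (.node (nat_lit 943) (.leaf ndMr9_47)
 (.leaf ⟨[nat_lit 0xe842ed3568b20c0853985bc5e2686d349e12, nat_lit 0x599655bba70a3401629153bec54c86622c51, nat_lit 0xbd87bb55570396f1491c310293932cd099e8, nat_lit 0xccf06c0948074e2f451373086764a0db2aab], [nat_lit 65536, nat_lit 73728, nat_lit 77824, nat_lit 81920, nat_lit 90112, nat_lit 106496, nat_lit 174080, nat_lit 171008, nat_lit 167680, nat_lit 163072, nat_lit 158464, nat_lit 151840, nat_lit 150048, nat_lit 143816, nat_lit 139732, nat_lit 138098, nat_lit 134051, nat_lit 3188, nat_lit 7140, nat_lit 8440, nat_lit 13360, nat_lit 18304, nat_lit 21504, nat_lit 27520, nat_lit 30976, nat_lit 36352, nat_lit 38912, nat_lit 45993, nat_lit 41287, nat_lit 37334, nat_lit 33299, nat_lit 28931, nat_lit 24711, nat_lit 22549, nat_lit 16420, nat_lit 12307, nat_lit 4097, nat_lit 438282, nat_lit 430088, nat_lit 421894, nat_lit 413700, nat_lit 405506, nat_lit 397312, nat_lit 174080, nat_lit 171008, nat_lit 167424, nat_lit 156928, nat_lit 153344, nat_lit 149504,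 nat_lit 143680, nat_lit 139384, nat_lit 137852, nat_lit 133972, nat_lit 327680]⟩))))

theorem dcME117_ok : dcME117.all (elB (nat_lit 0)) = true := by decide +kernel

def dcME118 : BT El := (.node (nat_lit 948) (.node (nat_lit 946) (.node (nat_lit 945) (.leaf ndMr9_48)
 (.leaf ⟨[nat_lit 0x56ffc68c9a9399c828eb004c9713141b51eb, nat_lit 0xdd12e409dd6b986d63e29448855561402c53, nat_lit 0xfaf369535e041cc32d60e4d2e29857223236, nat_lit 0x84e2dd8398f1d946201372a2818cdb23aea2], [nat_lit 65536, nat_lit 77824, nat_lit 81920, nat_lit 86016, nat_lit 90112, nat_lit 110592, nat_lit 178176, nat_lit 175104, nat_lit 169472, nat_lit 165632, nat_lit 163200, nat_lit 157376, nat_lit 154208, nat_lit 151472, nat_lit 146824, nat_lit 139732, nat_lit 139074, nat_lit 134298, nat_lit 2766, nat_lit 8128, nat_lit 10584, nat_lit 15648, nat_lit 17504, nat_lit 24256, nat_lit 28416, nat_lit 31488, nat_lit 37888, nat_lit 46953, nat_lit 43916, nat_lit 37016, nat_lit 34969, nat_lit 29033, nat_lit 24579, nat_lit 20742, nat_lit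 16391, nat_lit 12291, nat_lit 8211, nat_lit 4097, nat_lit 2, nat_lit 438282, nat_lit 430088, nat_lit 421894, nat_lit 413700, nat_lit 405506, nat_lit 397312, nat_lit 174080, nat_lit 163328, nat_lit 158720, nat_lit 152384, nat_lit 151456, nat_lit 144144, nat_lit 141176, nat_lit 135704, nat_lit 133234]⟩))
 (.node (nat_lit 947) (.leaf ndMr9_49)
 (.leaf ⟨[nat_lit 0xd14ee8016216205624dee68d573ad32352b0, nat_lit 0x30603a40e078cdb713c3652e8c22412754c5, nat_lit 0xb1bddb7b54b2d8d704e41250f56390980a23], [nat_lit 69632, nat_lit 86016, nat_lit 98304, nat_lit 102400, nat_lit 106496, nat_lit 110592, nat_lit 175104, nat_lit 169472, nat_lit 164608, nat_lit 163072, nat_lit 156800, nat_lit 152640, nat_lit 149808, nat_lit 146616, nat_lit 142436, nat_lit 137774, nat_lit 133367, nat_lit 982, nat_lit 4128, nat_lit 9752, nat_lit 13760, nat_lit 20192, nat_lit 20608, nat_lit 27520, nat_lit 30464, nat_lit 36352, nat_lit 39936, nat_lit 45111, nat_lit 41869, nat_lit 38125, nat_lit 32817, nat_lit 29811, nat_lit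 24738, nat_lit 20624, nat_lit 16386, nat_lit 12327, nat_lit 4112, nat_lit 8, nat_lit 430088, nat_lit 417797, nat_lit 409603, nat_lit 397312, nat_lit 155904, nat_lit 152384, nat_lit 147744, nat_lit 143952, nat_lit 135784, nat_lit 131112, nat_lit 45066, nat_lit 41555, nat_lit 28688, nat_lit 8193]⟩)))
 (.node (nat_lit 950) (.node (nat_lit 949) (.leaf ndMr9_50)
 (.leaf ⟨[nat_lit 0x3c960f49d0684d8f2914bb8874ad8208ba4d, nat_lit 0x953c0fa2e402d5b77466622989b20301bc47, nat_lit 0xf9055325572a59c238d859dcca83e206a501, nat_lit 0x1b887d559308ddae5bce0a4843a966660504], [nat_lit 65536, nat_lit 81920, nat_lit 86016, nat_lit 90112, nat_lit 110592, nat_lit 178176, nat_lit 175104, nat_lit 169472, nat_lit 166400, nat_lit 163200, nat_lit 157568, nat_lit 153120, nat_lit 148448, nat_lit 143608, nat_lit 142632, nat_lit 135808, nat_lit 131254, nat_lit 1566, nat_lit 4736, nat_lit 10048, nat_lit 13648, nat_lit 16736, nat_lit 22720, nat_lit 25216, nat_lit 32256, nat_lit 35840, nat_lit 39936, nat_lit 43008,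 nat_lit 47066, nat_lit 41103, nat_lit 38962, nat_lit 33488, nat_lit 28681, nat_lit 24591, nat_lit 20743, nat_lit 16419, nat_lit 12292, nat_lit 8195, nat_lit 4101, nat_lit 4, nat_lit 438282, nat_lit 430088, nat_lit 421894, nat_lit 413700, nat_lit 405506, nat_lit 397312, nat_lit 174080, nat_lit 168960, nat_lit 164352, nat_lit 160512, nat_lit 159488, nat_lit 155456, nat_lit 148672, nat_lit 144864, nat_lit 142304, nat_lit 136924, nat_lit 131722, nat_lit 327680]⟩))
 (.node (nat_lit 951) (.leaf ndMr9_53)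
 (.leaf ⟨[nat_lit 0xaf93094846e33d04552ecb1410a9c528cdab, nat_lit 0xede4bd030a233a707d095b45015a9a748e57, nat_lit 0x27ee82a25f2192b78aecd3a14101613138cc, nat_lit 0xa5606f7d60772c4c40297090a935a2d90d53], [nat_lit 69632, nat_lit 73728, nat_lit 77824, nat_lit 81920, nat_lit 90112, nat_lit 94208, nat_lit 110592, nat_lit 173056, nat_lit 165120, nat_lit 161280, nat_lit 156288, nat_lit 152928, nat_lit 148736, nat_lit 144840, nat_lit 140988, nat_lit 136880, nat_lit 131138, nat_lit 1386, nat_lit 4544, nat_lit 11720, nat_lit 14496, nat_lit 17248, nat_lit 26112, nat_lit 29184, nat_lit 34304, nat_lit 38912, nat_lit 46894, nat_lit 41346, nat_lit 39012, nat_lit 32931, nat_lit 28752, nat_lit 24635, nat_lit 20549, nat_lit 16431, nat_lit 12324, nat_lit 4105, nat_lit 430088, nat_lit 421894, nat_lit 413700, nat_lit 405506, nat_lit 397312, nat_lit 156544, nat_lit 152384, nat_lit 148256, nat_lit 143376, nat_lit 139528, nat_lit 135280, nat_lit 132076, nat_lit 45568, nat_lit 41908]⟩))))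

theorem dcME118_ok : dcME118.all (elB (nat_lit 0)) = true := by decide +kernel

def dcME119 : BT El := (.node (nat_lit 956) (.node (nat_lit 954) (.node (nat_lit 953) (.leaf ndMr9_54)
 (.leaf ⟨[nat_lit 0x3333c992d50104e48a668a39f7180c5b36ac, nat_lit 0x1bee1118936a9488a2a1209a6c7add769e20, nat_lit 0x5c03506cd50a590f8d42431dcb1b009b9642, nat_lit 0x84b8eb2d9f2450576d66402d8e0c60a198e9], [nat_lit 65536, nat_lit 73728, nat_lit 77824, nat_lit 94208, nat_lit 110592, nat_lit 173056, nat_lit 169984, nat_lit 165632, nat_lit 160768, nat_lit 156608, nat_lit 152896, nat_lit 149120, nat_lit 143872, nat_lit 139776, nat_lit 137884, nat_lit 131602, nat_lit 242, nat_lit 5072, nat_lit 8664, nat_lit 15952, nat_lit 20224, nat_lit 21312, nat_lit 25600, nat_lit 31744, nat_lit 34304, nat_lit 39936, nat_lit 43008, nat_lit 47093, nat_lit 41845, nat_lit 38142, nat_lit 33480, nat_lit 29308, nat_lit 24614, nat_lit 20486, nat_lit 16391, nat_lit 12805, nat_lit 8193, nat_lit 4, nat_lit 430088, nat_lit 421894, nat_lit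 413700, nat_lit 405506, nat_lit 397312, nat_lit 164352, nat_lit 160256, nat_lit 156416, nat_lit 152384, nat_lit 147520, nat_lit 144224, nat_lit 140136, nat_lit 135336, nat_lit 131302, nat_lit 45438, nat_lit 41610, nat_lit 327680]⟩))
 (.node (nat_lit 955) (.leaf ndMr9_55)
 (.leaf ⟨[nat_lit 0xb2874b05c29145c6aaa505b596450a41be67, nat_lit 0x22deb115d690ce924362578dd6390153414c, nat_lit 0x11841b45d56aae890bdc02ce2460c4d39a50], [nat_lit 65536, nat_lit 77824, nat_lit 86016, nat_lit 94208, nat_lit 106496, nat_lit 178176, nat_lit 175104, nat_lit 168960, nat_lit 165888, nat_lit 162560, nat_lit 157056, nat_lit 152960, nat_lit 150832, nat_lit 146144, nat_lit 141868, nat_lit 137552, nat_lit 131860, nat_lit 1112, nat_lit 6772, nat_lit 8704, nat_lit 12496, nat_lit 19808, nat_lit 24192, nat_lit 27008, nat_lit 33792, nat_lit 38912, nat_lit 43008, nat_lit 46624, nat_lit 41300, nat_lit 37348, nat_lit 33280, nat_lit 28721, nat_lit 24852, nat_lit 20506, nat_lit 16431, nat_lit 12325, nat_lit 8194, nat_lit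 4100, nat_lit 434184, nat_lit 421893, nat_lit 409603, nat_lit 401408, nat_lit 152832, nat_lit 148864, nat_lit 143744, nat_lit 139416, nat_lit 131472, nat_lit 45068, nat_lit 37017, nat_lit 24588, nat_lit 4097]⟩)))
 (.node (nat_lit 958) (.node (nat_lit 957) (.leaf ndMr9_56)
 (.leaf ⟨[nat_lit 0x33aaa51dae6228094566f64974140b1705a7, nat_lit 0x27e172ada2024cc20b64e2a6ef3d18b4406a, nat_lit 0xac035f598aa49c886daef884531ca0063a95], [nat_lit 65536, nat_lit 73728, nat_lit 77824, nat_lit 81920, nat_lit 94208, nat_lit 106496, nat_lit 110592, nat_lit 178176, nat_lit 175104, nat_lit 169472, nat_lit 167680, nat_lit 162560, nat_lit 158208, nat_lit 154976, nat_lit 147488, nat_lit 146080, nat_lit 139756, nat_lit 137348, nat_lit 134316, nat_lit 2464, nat_lit 7536, nat_lit 9040, nat_lit 13920, nat_lit 18272, nat_lit 24384, nat_lit 25216, nat_lit 29696, nat_lit 35328, nat_lit 38912, nat_lit 46888, nat_lit 41152, nat_lit 39292, nat_lit 34900, nat_lit 29709, nat_lit 24714, nat_lit 20490, nat_lit 16651,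 nat_lit 8209, nat_lit 4101, nat_lit 425991, nat_lit 417797, nat_lit 409602, nat_lit 397312, nat_lit 155776, nat_lit 151808, nat_lit 147872, nat_lit 139424, nat_lit 135296, nat_lit 131296, nat_lit 45059, nat_lit 41088, nat_lit 37077, nat_lit 12292]⟩))
 (.node (nat_lit 959) (.leaf ndMr9_58)
 (.leaf ⟨[nat_lit 0x8814e84da71550012406f938a2435955dcc7, nat_lit 0x6af6a9594f2c221688eead0c05a0644dd93, nat_lit 0xc5fa3f3a6623024a41221a5aaf5c0a3639b7, nat_lit 0x693309806913a840dde7ad9725418d8a0c5], [nat_lit 65536, nat_lit 69632, nat_lit 77824, nat_lit 86016, nat_lit 94208, nat_lit 102400, nat_lit 173056, nat_lit 164352, nat_lit 160256, nat_lit 157120, nat_lit 152832, nat_lit 149264, nat_lit 144792, nat_lit 139596, nat_lit 131145, nat_lit 1794, nat_lit 4740, nat_lit 9992, nat_lit 12880, nat_lit 16448, nat_lit 20544, nat_lit 25216, nat_lit 31744, nat_lit 33280, nat_lit 38912, nat_lit 46296, nat_lit 43651, nat_lit 38307, nat_lit 33293, nat_lit 28999, nat_lit 24846, nat_lit 20546, nat_lit 16423, nat_lit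 12308, nat_lit 8211, nat_lit 4, nat_lit 434184, nat_lit 421894, nat_lit 413700, nat_lit 405506, nat_lit 397312, nat_lit 164864, nat_lit 160000, nat_lit 157056, nat_lit 153024, nat_lit 147872, nat_lit 143792, nat_lit 139616, nat_lit 135632, nat_lit 131420, nat_lit 46170, nat_lit 37017, nat_lit 327680]⟩))))

theorem dcME119_ok : dcME119.all (elB (nat_lit 0)) = true := by decide +kernel

def dcME120 : BT El := (.node (nat_lit 964) (.node (nat_lit 962) (.node (nat_lit 961) (.leaf ndMr9_59)
 (.leaf ⟨[nat_lit 0xbdee27125c7bb66cb12060d643a2e2a78105, nat_lit 0xf6993592e589980721f5684f34c2d210e8a, nat_lit 0x1e84eb215c278e505b029b01b79d547450d1, nat_lit 0x69600c84586515a89aea3bd1c74da401102f], [nat_lit 65536, nat_lit 73728, nat_lit 77824, nat_lit 81920, nat_lit 94208, nat_lit 102400, nat_lit 106496, nat_lit 178176, nat_lit 173056, nat_lit 162816, nat_lit 158912, nat_lit 152256, nat_lit 150432, nat_lit 146336, nat_lit 142240, nat_lit 138460, nat_lit 134050, nat_lit 804, nat_lit 7296, nat_lit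 11432, nat_lit 12688, nat_lit 20384, nat_lit 23104, nat_lit 26240, nat_lit 29184, nat_lit 37888, nat_lit 46544, nat_lit 43515, nat_lit 36876, nat_lit 35038, nat_lit 28686, nat_lit 24590, nat_lit 20482, nat_lit 18435, nat_lit 12294, nat_lit 8202, nat_lit 4104, nat_lit 16, nat_lit 438282, nat_lit 430088, nat_lit 421894, nat_lit 413700, nat_lit 405506, nat_lit 397312, nat_lit 169984, nat_lit 161024, nat_lit 157824, nat_lit 154496, nat_lit 148608, nat_lit 146880, nat_lit 140664, nat_lit 137280, nat_lit 131748]⟩))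
 (.node (nat_lit 963) (.leaf ndMr9_62)
 (.leaf ⟨[nat_lit 0xcf6ca504d44147605d67642727c5cd20935, nat_lit 0x2b81db546952381739a684be0c115b608d72, nat_lit 0x1b4bd804c5489ee52392382d5579828b49ac, nat_lit 0x9fa60a89a8c9548d796d35852810c0a83ae7], [nat_lit 69632, nat_lit 73728, nat_lit 81920, nat_lit 86016, nat_lit 90112, nat_lit 94208, nat_lit 102400, nat_lit 106496, nat_lit 110592, nat_lit 174080, nat_lit 171520, nat_lit 165120, nat_lit 160256, nat_lit 156288, nat_lit 153216, nat_lit 145120, nat_lit 140868, nat_lit 136040, nat_lit 132641, nat_lit 3610, nat_lit 7624, nat_lit 10760, nat_lit 13856, nat_lit 16448, nat_lit 28288, nat_lit 30208, nat_lit 33280, nat_lit 45512, nat_lit 41472, nat_lit 38098, nat_lit 32781, nat_lit 29267, nat_lit 25100, nat_lit 20490, nat_lit 16461, nat_lit 12323, nat_lit 4097, nat_lit 430088, nat_lit 421894, nat_lit 413700, nat_lit 405506, nat_lit 397312, nat_lit 164352, nat_lit 155904, nat_lit 151808, nat_lit 147904, nat_lit 143776, nat_lit 140168, nat_lit 135792,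 nat_lit 131226, nat_lit 45215, nat_lit 41551]⟩)))
 (.node (nat_lit 966) (.node (nat_lit 965) (.leaf ndMr9_64)
 (.leaf ⟨[nat_lit 0x4eb2d404486b958bacc563bd3442832741a3, nat_lit 0x8e88286a8130c96fb54f7292864c06c1450e, nat_lit 0xb74788158b035c714bd8d3caa052d0ea4c24], [nat_lit 65536, nat_lit 73728, nat_lit 81920, nat_lit 90112, nat_lit 94208, nat_lit 98304, nat_lit 102400, nat_lit 106496, nat_lit 110592, nat_lit 178176, nat_lit 174080, nat_lit 168448, nat_lit 159872, nat_lit 156608, nat_lit 153184, nat_lit 148272, nat_lit 143624, nat_lit 139936, nat_lit 136808, nat_lit 132998, nat_lit 2550, nat_lit 7556, nat_lit 9704, nat_lit 15344, nat_lit 16416, nat_lit 24512, nat_lit 30464, nat_lit 33280, nat_lit 38912, nat_lit 43008, nat_lit 45710, nat_lit 41811, nat_lit 37971, nat_lit 33501, nat_lit 28942, nat_lit 24766, nat_lit 20504, nat_lit 16421, nat_lit 12309, nat_lit 8210, nat_lit 4100, nat_lit 2, nat_lit 413700, nat_lit 405506, nat_lit 397312, nat_lit 143392, nat_lit 139288, nat_lit 135228,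 nat_lit 131110, nat_lit 45071, nat_lit 40976, nat_lit 36874, nat_lit 32801, nat_lit 28688, nat_lit 24588, nat_lit 327680]⟩))
 (.node (nat_lit 967) (.leaf ndMr9_66)
 (.leaf ⟨[nat_lit 0xff3355058646cc288d24564162ba4ca3d5cf, nat_lit 0x99aca9026eb0b6cc8507133d123d444538b3, nat_lit 0x41422bbd5cd52c41344b384887b3d944a003], [nat_lit 65536, nat_lit 69632, nat_lit 73728, nat_lit 81920, nat_lit 86016, nat_lit 90112, nat_lit 102400, nat_lit 106496, nat_lit 110592, nat_lit 178176, nat_lit 175104, nat_lit 169472, nat_lit 164864, nat_lit 163584, nat_lit 155840, nat_lit 155328, nat_lit 150048, nat_lit 146280, nat_lit 142476, nat_lit 137800, nat_lit 133792, nat_lit 3814, nat_lit 4932, nat_lit 11072, nat_lit 12400, nat_lit 17248, nat_lit 22592, nat_lit 26880, nat_lit 32256, nat_lit 33280, nat_lit 37888, nat_lit 43008, nat_lit 46562, nat_lit 43238, nat_lit 37252, nat_lit 32949, nat_lit 28710, nat_lit 24612, nat_lit 20511, nat_lit 16423, nat_lit 12289, nat_lit 8225, nat_lit 4097, nat_lit 425991, nat_lit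 413700, nat_lit 405506, nat_lit 397312, nat_lit 160000, nat_lit 151936, nat_lit 143392, nat_lit 139528, nat_lit 135296, nat_lit 131372, nat_lit 45071, nat_lit 41103, nat_lit 36869, nat_lit 24582]⟩))))

theorem dcME120_ok : dcME120.all (elB (nat_lit 0)) = true := by decide +kernel

def dcME121 : BT El := (.node (nat_lit 972) (.node (nat_lit 970) (.node (nat_lit 969) (.leaf ndMr9_70)
 (.leaf ⟨[nat_lit 0xfca3fcac98a418698596d2cc11785c438af4, nat_lit 0xff0004de2d3306f5a0a272a1694c04386b4, nat_lit 0xdeeb2e8cc8534a0710dac522f6781c1aa68b], [nat_lit 65536, nat_lit 69632, nat_lit 77824, nat_lit 86016, nat_lit 90112, nat_lit 98304, nat_lit 102400, nat_lit 178176, nat_lit 174080, nat_lit 168960, nat_lit 167424, nat_lit 162560, nat_lit 156992, nat_lit 153664, nat_lit 148320, nat_lit 147216, nat_lit 142392, nat_lit 138156, nat_lit 134515, nat_lit 128, nat_lit 5620, nat_lit 10040, nat_lit 12656, nat_lit 20320, nat_lit 22336, nat_lit 26112, nat_lit 35328, nat_lit 37888, nat_lit 45365, nat_lit 41909,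 nat_lit 36917, nat_lit 33918, nat_lit 28746, nat_lit 24764, nat_lit 20495, nat_lit 16450, nat_lit 12327, nat_lit 8211, nat_lit 4101, nat_lit 4, nat_lit 425990, nat_lit 413700, nat_lit 405506, nat_lit 397312, nat_lit 151808, nat_lit 147744, nat_lit 143392, nat_lit 139568, nat_lit 135280, nat_lit 131444, nat_lit 45071, nat_lit 40976, nat_lit 28755]⟩))
 (.node (nat_lit 971) (.leaf ndMr9_71)
 (.leaf ⟨[nat_lit 0xfa6afa3d854944264be75011481b0ae5c1b7, nat_lit 0x8b1d2d48c4432e32629e7a01d3ad9050ddb0, nat_lit 0x18e8db6d0eeb1271515175c82ca98404c1e3, nat_lit 0x1b7872389c591aebb30748062d4bd0054c95], [nat_lit 69632, nat_lit 73728, nat_lit 90112, nat_lit 98304, nat_lit 102400, nat_lit 106496, nat_lit 110592, nat_lit 178176, nat_lit 173056, nat_lit 168448, nat_lit 162944, nat_lit 158848, nat_lit 152288, nat_lit 150432, nat_lit 146336, nat_lit 142244, nat_lit 138462, nat_lit 134050, nat_lit 1608, nat_lit 4396, nat_lit 11048, nat_lit 13200, nat_lit 18784, nat_lit 23744, nat_lit 27008, nat_lit 31488,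 nat_lit 35840, nat_lit 43008, nat_lit 46321, nat_lit 41931, nat_lit 38156, nat_lit 32992, nat_lit 28747, nat_lit 24736, nat_lit 20544, nat_lit 18439, nat_lit 12323, nat_lit 8210, nat_lit 4113, nat_lit 2, nat_lit 438282, nat_lit 430088, nat_lit 421894, nat_lit 413700, nat_lit 405506, nat_lit 397312, nat_lit 174080, nat_lit 164352, nat_lit 162816, nat_lit 157696, nat_lit 152896, nat_lit 148736, nat_lit 146368, nat_lit 139880, nat_lit 136112, nat_lit 133644, nat_lit 327680]⟩)))
 (.node (nat_lit 974) (.node (nat_lit 973) (.leaf ndMr9_72)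
 (.leaf ⟨[nat_lit 0x5696a5791498dd61b50ae81a4da811361c43, nat_lit 0x881be735093bc42353405b492883eae61d62, nat_lit 0xe184eb91847aa1e471577b0691029338346c, nat_lit 0xfaf3966c58670976004f382905ad2444bee3], [nat_lit 65536, nat_lit 86016, nat_lit 94208, nat_lit 98304, nat_lit 106496, nat_lit 110592, nat_lit 178176, nat_lit 173056, nat_lit 169472, nat_lit 164608, nat_lit 160384, nat_lit 158656, nat_lit 152096, nat_lit 147984, nat_lit 147232, nat_lit 141176, nat_lit 139042, nat_lit 135037, nat_lit 1966, nat_lit 6968, nat_lit 9616, nat_lit 14656, nat_lit 16928, nat_lit 20928, nat_lit 26752, nat_lit 29696, nat_lit 33792, nat_lit 38912, nat_lit 43008, nat_lit 46805, nat_lit 43197, nat_lit 38222, nat_lit 33491, nat_lit 29053, nat_lit 24853, nat_lit 20486, nat_lit 16389, nat_lit 12291, nat_lit 8194, nat_lit 434184, nat_lit 421894, nat_lit 413700, nat_lit 405506, nat_lit 397312, nat_lit 164864, nat_lit 155904, nat_lit 151808, nat_lit 147552, nat_lit 144864, nat_lit 140352, nat_lit 135636, nat_lit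 131362, nat_lit 46535, nat_lit 37077]⟩))
 (.node (nat_lit 975) (.leaf ndMr9_78)
 (.leaf ⟨[nat_lit 0x8e447d6263601a5050d6573c279a1b5bd082, nat_lit 0x6a99c6435e68cd6401c6abb8502a6b40c996, nat_lit 0x6a5a637b4c75206094e97b46b00a5622158e], [nat_lit 69632, nat_lit 77824, nat_lit 81920, nat_lit 86016, nat_lit 94208, nat_lit 110592, nat_lit 178176, nat_lit 173056, nat_lit 168960, nat_lit 165120, nat_lit 163072, nat_lit 156096, nat_lit 154752, nat_lit 149424, nat_lit 145712, nat_lit 140896, nat_lit 135338, nat_lit 134731, nat_lit 3126, nat_lit 7752, nat_lit 9608, nat_lit 14144, nat_lit 18656, nat_lit 22976, nat_lit 24832, nat_lit 30208, nat_lit 34304, nat_lit 37888, nat_lit 43008, nat_lit 46983, nat_lit 41616, nat_lit 37069, nat_lit 32994, nat_lit 28744, nat_lit 24624, nat_lit 20497, nat_lit 16399, nat_lit 12295, nat_lit 8201, nat_lit 4100, nat_lit 430088, nat_lit 417797, nat_lit 409602, nat_lit 397312, nat_lit 156416, nat_lit 152320, nat_lit 147808, nat_lit 140032, nat_lit 135188, nat_lit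 131906, nat_lit 45059, nat_lit 41488, nat_lit 28755, nat_lit 12292]⟩))))

theorem dcME121_ok : dcME121.all (elB (nat_lit 0)) = true := by decide +kernel

def dcME122 : BT El := (.node (nat_lit 980) (.node (nat_lit 978) (.node (nat_lit 977) (.leaf ndMr9_84)
 (.leaf ⟨[nat_lit 0xbee8125aaaf1dc0c69287149250a0d09d9d1, nat_lit 0xd878e1a9cc02bd731c657a344e0a2c98118a, nat_lit 0x74de887b297419446d5d600651808733a565], [nat_lit 65536, nat_lit 77824, nat_lit 81920, nat_lit 86016, nat_lit 90112, nat_lit 106496, nat_lit 173056, nat_lit 168960, nat_lit 167424, nat_lit 160896, nat_lit 157632, nat_lit 152512, nat_lit 149312, nat_lit 143432, nat_lit 140348, nat_lit 138864, nat_lit 132464, nat_lit 2492, nat_lit 7008, nat_lit 11672, nat_lit 13232, nat_lit 18336, nat_lit 21248, nat_lit 28416, nat_lit 30464, nat_lit 33280, nat_lit 38912, nat_lit 43008, nat_lit 47026, nat_lit 43772, nat_lit 39364, nat_lit 32949, nat_lit 28781, nat_lit 24755, nat_lit 20620, nat_lit 16456, nat_lit 12294, nat_lit 8194, nat_lit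 32, nat_lit 430088, nat_lit 421893, nat_lit 409602, nat_lit 397312, nat_lit 164352, nat_lit 151936, nat_lit 147840, nat_lit 139776, nat_lit 136084, nat_lit 131460, nat_lit 45062, nat_lit 41603, nat_lit 24582, nat_lit 12289]⟩))
 (.node (nat_lit 979) (.leaf ndMr9_87)
 (.leaf ⟨[nat_lit 0xf0cca580192aba837890a215a14d8d199eeb, nat_lit 0x5f5f53416f2191a6881d05056c9d527a3ec2, nat_lit 0x7d71125a58fad88608e5004453b9cb4521ae], [nat_lit 69632, nat_lit 73728, nat_lit 98304, nat_lit 106496, nat_lit 178176, nat_lit 175104, nat_lit 169472, nat_lit 166912, nat_lit 162048, nat_lit 158720, nat_lit 154720, nat_lit 148336, nat_lit 144752, nat_lit 140660, nat_lit 137186, nat_lit 132080, nat_lit 846, nat_lit 4828, nat_lit 11056, nat_lit 12320, nat_lit 18656, nat_lit 21120, nat_lit 26752, nat_lit 32512, nat_lit 37888, nat_lit 43008, nat_lit 45089, nat_lit 41810, nat_lit 38305, nat_lit 32993, nat_lit 29026, nat_lit 24584, nat_lit 20749, nat_lit 16905, nat_lit 12295, nat_lit 8201, nat_lit 4100, nat_lit 430088,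 nat_lit 417797, nat_lit 409603, nat_lit 401408, nat_lit 164352, nat_lit 155904, nat_lit 152320, nat_lit 148256, nat_lit 144128, nat_lit 140040, nat_lit 131164, nat_lit 45068, nat_lit 41488, nat_lit 28752, nat_lit 4097]⟩)))
 (.node (nat_lit 982) (.node (nat_lit 981) (.leaf ndMr9_88)
 (.leaf ⟨[nat_lit 0x74eddd750a614504181f78365699d216554b, nat_lit 0xde8dbd3c1b1355f65b0890524a0b8a29dc68, nat_lit 0x9ff3cc2c8d0abd97b3a8d3cc911ad4040522], [nat_lit 65536, nat_lit 102400, nat_lit 110592, nat_lit 174080, nat_lit 169984, nat_lit 164096, nat_lit 163456, nat_lit 159104, nat_lit 152192, nat_lit 151392, nat_lit 144040, nat_lit 143176, nat_lit 137282, nat_lit 132021, nat_lit 1182, nat_lit 6284, nat_lit 10184, nat_lit 14384, nat_lit 22912, nat_lit 26368, nat_lit 29696, nat_lit 33792, nat_lit 37888, nat_lit 45648, nat_lit 40972, nat_lit 39292, nat_lit 33465, nat_lit 28965, nat_lit 24583, nat_lit 20622, nat_lit 8224, nat_lit 4097, nat_lit 425990, nat_lit 413700, nat_lit 405506, nat_lit 397312, nat_lit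 155904, nat_lit 151808, nat_lit 147808, nat_lit 143680, nat_lit 139600, nat_lit 135212, nat_lit 131116, nat_lit 45071, nat_lit 40979, nat_lit 28694]⟩))
 (.node (nat_lit 983) (.leaf ndMr9_89)
 (.leaf ⟨[nat_lit 0x8e2d1e05935bc5e5531c29c963a120d32027, nat_lit 0x121bbd25990a95d14a8280086b3be5435e6d, nat_lit 0xdbe7b881ee130a75b44045a5c86a9ec90e85], [nat_lit 65536, nat_lit 73728, nat_lit 77824, nat_lit 81920, nat_lit 178176, nat_lit 174080, nat_lit 169472, nat_lit 166144, nat_lit 162048, nat_lit 157120, nat_lit 154720, nat_lit 150944, nat_lit 147288, nat_lit 141604, nat_lit 139040, nat_lit 133737, nat_lit 2766, nat_lit 7640, nat_lit 9456, nat_lit 16048, nat_lit 19296, nat_lit 23872, nat_lit 27136, nat_lit 34816, nat_lit 38912, nat_lit 45427, nat_lit 41643, nat_lit 37890, nat_lit 32897, nat_lit 28673, nat_lit 26651, nat_lit 20573, nat_lit 16421, nat_lit 12353, nat_lit 5120, nat_lit 413700, nat_lit 405506, nat_lit 397312, nat_lit 139304, nat_lit 135212, nat_lit 131088, nat_lit 45071, nat_lit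 40976, nat_lit 36876, nat_lit 32784, nat_lit 28688, nat_lit 24582, nat_lit 327680]⟩))))

theorem dcME122_ok : dcME122.all (elB (nat_lit 0)) = true := by decide +kernel

def dcME123 : BT El := (.node (nat_lit 988) (.node (nat_lit 986) (.node (nat_lit 985) (.leaf ndMr9_95)
 (.leaf ⟨[nat_lit 0x444e4284e23b25e4bb4e808812654cba38aa, nat_lit 0x95f0a500c226b9ec8ca70390c542969bd696], [nat_lit 77824, nat_lit 86016, nat_lit 90112, nat_lit 94208, nat_lit 98304, nat_lit 102400, nat_lit 106496, nat_lit 178176, nat_lit 173056, nat_lit 168960, nat_lit 166400, nat_lit 160768, nat_lit 159360, nat_lit 152352, nat_lit 150960, nat_lit 143968, nat_lit 141064, nat_lit 137500, nat_lit 134157, nat_lit 2232, nat_lit 6836, nat_lit 10112, nat_lit 14848, nat_lit 19840, nat_lit 23104, nat_lit 27136, nat_lit 30464, nat_lit 34816, nat_lit 45067, nat_lit 41981, nat_lit 36883, nat_lit 33901, nat_lit 28676, nat_lit 24597, nat_lit 21522, nat_lit 16450, nat_lit 8208, nat_lit 4101, nat_lit 425989, nat_lit 409600, nat_lit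 151808, nat_lit 147744, nat_lit 131088, nat_lit 40976, nat_lit 28688, nat_lit 12289, nat_lit 8193, nat_lit 4097]⟩))
 (.node (nat_lit 987) (.leaf ndMr9_98)
 (.leaf ⟨[nat_lit 0xb42821a38739582f2c550619a83aeb748044, nat_lit 0x7b12d219a815ba02036497b0f5b9271428b6, nat_lit 0x2b7e246cd91741f2b213520865ba974080c7], [nat_lit 65536, nat_lit 73728, nat_lit 81920, nat_lit 86016, nat_lit 98304, nat_lit 102400, nat_lit 106496, nat_lit 110592, nat_lit 178176, nat_lit 175104, nat_lit 168448, nat_lit 164352, nat_lit 163584, nat_lit 158336, nat_lit 151840, nat_lit 149296, nat_lit 143640, nat_lit 139520, nat_lit 137140, nat_lit 132733, nat_lit 2138, nat_lit 5688, nat_lit 8960, nat_lit 14464, nat_lit 20416, nat_lit 21824, nat_lit 27904, nat_lit 31488, nat_lit 35328, nat_lit 39936, nat_lit 43008, nat_lit 46138, nat_lit 41722, nat_lit 37120, nat_lit 32863, nat_lit 29754, nat_lit 24755, nat_lit 20503, nat_lit 16425, nat_lit 12289, nat_lit 8194, nat_lit 4101, nat_lit 425991, nat_lit 417797, nat_lit 409602,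 nat_lit 397312, nat_lit 160000, nat_lit 156032, nat_lit 152000, nat_lit 147648, nat_lit 139488, nat_lit 135488, nat_lit 131504, nat_lit 45059, nat_lit 41091, nat_lit 37077, nat_lit 12292]⟩)))
 (.node (nat_lit 990) (.node (nat_lit 989) (.leaf ndMr9_100)
 (.leaf ⟨[nat_lit 0xa05f53652cf998b11a408bb5d5910f050562, nat_lit 0x5f93f9ab04fa1005b4a236cd460a13782cee, nat_lit 0x963cf6880373d81b2627aaa4441690b9973, nat_lit 0x6cc6a33822945d8a09572b09a383a75a3c86], [nat_lit 69632, nat_lit 77824, nat_lit 86016, nat_lit 90112, nat_lit 94208, nat_lit 102400, nat_lit 110592, nat_lit 178176, nat_lit 174080, nat_lit 169472, nat_lit 165120, nat_lit 162816, nat_lit 157248, nat_lit 152416, nat_lit 151072, nat_lit 147024, nat_lit 140444, nat_lit 136712, nat_lit 134358, nat_lit 4060, nat_lit 7036, nat_lit 9704, nat_lit 13408, nat_lit 17408, nat_lit 23040, nat_lit 26112, nat_lit 30976, nat_lit 36352, nat_lit 39936, nat_lit 43008, nat_lit 46464, nat_lit 41607, nat_lit 38300, nat_lit 33428, nat_lit 28729, nat_lit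 24577, nat_lit 20486, nat_lit 12419, nat_lit 4104, nat_lit 64, nat_lit 430088, nat_lit 421894, nat_lit 413700, nat_lit 405506, nat_lit 397312, nat_lit 164352, nat_lit 160000, nat_lit 156544, nat_lit 151936, nat_lit 143632, nat_lit 139872, nat_lit 136100, nat_lit 131782, nat_lit 45192, nat_lit 41111]⟩))
 (.node (nat_lit 991) (.leaf ndMr9_101)
 (.leaf ⟨[nat_lit 0x1dbe7b00697ad843835d393d91598ea29109, nat_lit 0x3c96f02982c2227553c09b1d701ba32bb682, nat_lit 0x44148b39802bbd9644171184a454e49755b4], [nat_lit 73728, nat_lit 77824, nat_lit 81920, nat_lit 94208, nat_lit 110592, nat_lit 178176, nat_lit 174080, nat_lit 165632, nat_lit 159872, nat_lit 159488, nat_lit 154688, nat_lit 150384, nat_lit 144200, nat_lit 141268, nat_lit 139072, nat_lit 134382, nat_lit 2926, nat_lit 6820, nat_lit 9648, nat_lit 16112, nat_lit 18400, nat_lit 24960, nat_lit 28928, nat_lit 33792, nat_lit 37888, nat_lit 43008, nat_lit 46592, nat_lit 41540, nat_lit 38230, nat_lit 32926, nat_lit 29022, nat_lit 24735, nat_lit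 20490, nat_lit 16459, nat_lit 12289, nat_lit 8211, nat_lit 4097, nat_lit 425991, nat_lit 417797, nat_lit 409603, nat_lit 397312, nat_lit 160000, nat_lit 155776, nat_lit 151872, nat_lit 147616, nat_lit 143696, nat_lit 135592, nat_lit 131194, nat_lit 45066, nat_lit 41155, nat_lit 36874, nat_lit 8193]⟩))))

theorem dcME123_ok : dcME123.all (elB (nat_lit 0)) = true := by decide +kernel

def dcME124 : BT El := (.node (nat_lit 996) (.node (nat_lit 994) (.node (nat_lit 993) (.leaf ndMr9_102)
 (.leaf ⟨[nat_lit 0xaff565752abb9c735198583511b10520242f, nat_lit 0xf56a0a03ad4ba64750daba966813e1109984, nat_lit 0xdd84871a6ab83944a304d8bce8304b79cac0, nat_lit 0x7e2d114b94d09c04846d762d0f94e9510ca6], [nat_lit 65536, nat_lit 69632, nat_lit 81920, nat_lit 110592, nat_lit 178176, nat_lit 175104, nat_lit 171520, nat_lit 167680, nat_lit 162688, nat_lit 159104, nat_lit 155328, nat_lit 150480, nat_lit 143368, nat_lit 139268, nat_lit 135170, nat_lit 133617, nat_lit 3468, nat_lit 7556, nat_lit 10872, nat_lit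 13248, nat_lit 19776, nat_lit 21504, nat_lit 24960, nat_lit 31744, nat_lit 35840, nat_lit 43008, nat_lit 46335, nat_lit 41761, nat_lit 38369, nat_lit 32800, nat_lit 28742, nat_lit 24711, nat_lit 20737, nat_lit 18446, nat_lit 14343, nat_lit 8323, nat_lit 438282, nat_lit 430088, nat_lit 421894, nat_lit 413700, nat_lit 405506, nat_lit 397312, nat_lit 174080, nat_lit 168960, nat_lit 161536, nat_lit 156928, nat_lit 152832, nat_lit 147520, nat_lit 143488, nat_lit 142456, nat_lit 137144, nat_lit 132356]⟩))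
 (.node (nat_lit 995) (.leaf ndMr9_103)
 (.leaf ⟨[nat_lit 0x3053904b9123b4d16041350ae47d6d0a0d65, nat_lit 0x2dd1b1a8946016e8945d05d8e3492816cdec, nat_lit 0x66535685144005e36898e4de672c91589976], [nat_lit 65536, nat_lit 102400, nat_lit 173056, nat_lit 168960, nat_lit 162816, nat_lit 157504, nat_lit 153952, nat_lit 148096, nat_lit 144496, nat_lit 142788, nat_lit 135528, nat_lit 132900, nat_lit 2476, nat_lit 7124, nat_lit 10184, nat_lit 12416, nat_lit 16992, nat_lit 24064, nat_lit 31232, nat_lit 34304, nat_lit 39936, nat_lit 43008, nat_lit 45744, nat_lit 41860, nat_lit 37012, nat_lit 33873, nat_lit 29018, nat_lit 24874, nat_lit 20490, nat_lit 16453, nat_lit 12305, nat_lit 8193, nat_lit 4097, nat_lit 413700, nat_lit 405506, nat_lit 397312, nat_lit 147488, nat_lit 143392, nat_lit 139312, nat_lit 135220, nat_lit 45071, nat_lit 40982, nat_lit 36879, nat_lit 32817, nat_lit 28691, nat_lit 24591]⟩)))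
 (.node (nat_lit 998) (.node (nat_lit 997) (.leaf ndMr9_106)
 (.leaf ⟨[nat_lit 0x2b71d49dce01852f2c682239065b250559b5, nat_lit 0xe84de2bc8a45d930886a23814f68cc89b994, nat_lit 0xffc3a5abe8dbb99680a4198e2021d4b414c9], [nat_lit 65536, nat_lit 81920, nat_lit 94208, nat_lit 98304, nat_lit 106496, nat_lit 110592, nat_lit 175104, nat_lit 171520, nat_lit 164352, nat_lit 160384, nat_lit 159488, nat_lit 155072, nat_lit 151120, nat_lit 143632, nat_lit 141616, nat_lit 137554, nat_lit 133616, nat_lit 3076, nat_lit 7880, nat_lit 8776, nat_lit 13312, nat_lit 19808, nat_lit 23552, nat_lit 27904, nat_lit 32512, nat_lit 36352, nat_lit 37888, nat_lit 45776, nat_lit 41692, nat_lit 38220, nat_lit 33324, nat_lit 28928, nat_lit 24638, nat_lit 20491, nat_lit 16462, nat_lit 12290, nat_lit 8258, nat_lit 4104, nat_lit 32, nat_lit 425990, nat_lit 413700, nat_lit 405506, nat_lit 397312, nat_lit 155904, nat_lit 151808, nat_lit 147808, nat_lit 143456, nat_lit 139368, nat_lit 135432, nat_lit 131346, nat_lit 45071,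 nat_lit 40979, nat_lit 28694]⟩))
 (.node (nat_lit 999) (.leaf ndMr9_108)
 (.leaf ⟨[nat_lit 0x30536f880644d58115de82ca96734d03cd6a, nat_lit 0xfafc99b25737a025511a2bc4c7a41cc00eb2, nat_lit 0xded87b2b54f4c667951837560022041b1977, nat_lit 0x472e1b134e455e26a48a9801f358d0e0d6cc], [nat_lit 65536, nat_lit 69632, nat_lit 81920, nat_lit 86016, nat_lit 94208, nat_lit 106496, nat_lit 178176, nat_lit 175104, nat_lit 171520, nat_lit 167424, nat_lit 162432, nat_lit 158912, nat_lit 155360, nat_lit 150448, nat_lit 137712, nat_lit 1290, nat_lit 6588, nat_lit 9416, nat_lit 14768, nat_lit 18496, nat_lit 21760, nat_lit 27904, nat_lit 29952, nat_lit 33280, nat_lit 38912, nat_lit 46472, nat_lit 41793, nat_lit 37313, nat_lit 33282, nat_lit 28962, nat_lit 24725, nat_lit 20549, nat_lit 16421, nat_lit 14336, nat_lit 8211, nat_lit 4, nat_lit 438282, nat_lit 430088, nat_lit 421894, nat_lit 413700, nat_lit 405506, nat_lit 397312, nat_lit 174080, nat_lit 169984, nat_lit 166912, nat_lit 161536, nat_lit 157440,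 nat_lit 153920, nat_lit 149792, nat_lit 145168, nat_lit 142544, nat_lit 136272, nat_lit 133446]⟩))))

theorem dcME124_ok : dcME124.all (elB (nat_lit 0)) = true := by decide +kernel


end

end CF.Mon
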