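import Cfsg.Agent.Mon.Dc
import Cfsg.Agent.Mon.NdM

set_option autoImplicit false
set_option maxRecDepth 100000

namespace CF.Mon

open CF.Comp

noncomputable section

def dcME125 : BT El := (.node (nat_lit 1004) (.node (nat_lit 1002) (.node (nat_lit 1001) (.leaf ndMr9_109)
 (.leaf ⟨[nat_lit 0x82bd470dc47ace069200d58d91a11cf2a936, nat_lit 0xaf9cf9ab6e0642229168b3d95370d090988f, nat_lit 0x41b2db4bed0bd0c193915890736b0a250167, nat_lit 0xb47de7034e2406f2b2623792702b14b71a95], [nat_lit 65536, nat_lit 73728, nat_lit 77824, nat_lit 175104, nat_lit 168960, nat_lit 165888, nat_lit 160128, nat_lit 158144, nat_lit 153120, nat_lit 147744, nat_lit 143688, nat_lit 142844, nat_lit 139210, nat_lit 131666, nat_lit 1186, nat_lit 5584, nat_lit 8232, nat_lit 15312, nat_lit 17568, nat_lit 24384, nat_lit 25728, nat_lit 34816, nat_lit 37888, nat_lit 46100, nat_lit 41600, nat_lit 37056, nat_lit 32844, nat_lit 29184, nat_lit 24750, nat_lit 20546, nat_lit 18440, nat_lit 12292, nat_lit 8202, nat_lit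 4101, nat_lit 438282, nat_lit 430088, nat_lit 421894, nat_lit 413700, nat_lit 405506, nat_lit 397312, nat_lit 169984, nat_lit 165888, nat_lit 160256, nat_lit 156416, nat_lit 155072, nat_lit 151456, nat_lit 147360, nat_lit 140696, nat_lit 138596, nat_lit 133568, nat_lit 327680]⟩))
 (.node (nat_lit 1003) (.leaf ndMr9_112)
 (.leaf ⟨[nat_lit 0x7b8b41809ab3da97925c0216a688dea64d01, nat_lit 0x2b427e19291142a7bccc14352ab16405b1cf, nat_lit 0x18e72bb99f21a82202d098d88e9d1a72b215], [nat_lit 86016, nat_lit 90112, nat_lit 102400, nat_lit 173056, nat_lit 171520, nat_lit 166400, nat_lit 161152, nat_lit 157952, nat_lit 154208, nat_lit 149824, nat_lit 144400, nat_lit 142612, nat_lit 138912, nat_lit 132970, nat_lit 1474, nat_lit 4404, nat_lit 10600, nat_lit 14192, nat_lit 17856, nat_lit 21952, nat_lit 25728, nat_lit 29696, nat_lit 39936, nat_lit 46396, nat_lit 43745, nat_lit 38319, nat_lit 34000, nat_lit 29726, nat_lit 24748, nat_lit 20497, nat_lit 16418, nat_lit 12290, nat_lit 4097,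 nat_lit 413700, nat_lit 405506, nat_lit 397312, nat_lit 147488, nat_lit 143376, nat_lit 139288, nat_lit 135212, nat_lit 131086, nat_lit 45071, nat_lit 40985, nat_lit 36879, nat_lit 32817, nat_lit 28691, nat_lit 24591]⟩)))
 (.node (nat_lit 1006) (.node (nat_lit 1005) (.leaf ndMr9_114)
 (.leaf ⟨[nat_lit 0xeb1e1188c463ba6fa298068515bc2c52264b, nat_lit 0x84b814bb540649c69d8f52847182c88a244f, nat_lit 0x12d8e7a3d8252ec1bcc704c9c6292a0444ed, nat_lit 0x1e7bebb3111004a239883a494ebc1eb6a675], [nat_lit 65536, nat_lit 94208, nat_lit 98304, nat_lit 102400, nat_lit 106496, nat_lit 174080, nat_lit 171008, nat_lit 167424, nat_lit 162304, nat_lit 158912, nat_lit 155360, nat_lit 150448, nat_lit 137714, nat_lit 2678, nat_lit 4608, nat_lit 9928, nat_lit 14720, nat_lit 16864, nat_lit 22464, nat_lit 25600, nat_lit 30464, nat_lit 33280, nat_lit 39936, nat_lit 43008, nat_lit 45807, nat_lit 41008, nat_lit 37123, nat_lit 33286, nat_lit 30843, nat_lit 24577, nat_lit 21525, nat_lit 16515, nat_lit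 14337, nat_lit 8194, nat_lit 4100, nat_lit 438282, nat_lit 430088, nat_lit 421894, nat_lit 413700, nat_lit 405506, nat_lit 397312, nat_lit 171008, nat_lit 162560, nat_lit 158464, nat_lit 152512, nat_lit 147520, nat_lit 144512, nat_lit 142896, nat_lit 139228, nat_lit 135082]⟩))
 (.node (nat_lit 1007) (.leaf ndMr9_117)
 (.leaf ⟨[nat_lit 0xff6693b183062ce51d4927d2e9009aa9a22e, nat_lit 0xa9995501c2b14ece43c8c80ead2c931bd146, nat_lit 0x24812b7b4e510eb7052c13398454d3182d12], [nat_lit 69632, nat_lit 73728, nat_lit 86016, nat_lit 90112, nat_lit 106496, nat_lit 110592, nat_lit 170496, nat_lit 164096, nat_lit 161664, nat_lit 157504, nat_lit 155360, nat_lit 151088, nat_lit 147288, nat_lit 141080, nat_lit 138690, nat_lit 131199, nat_lit 680, nat_lit 4740, nat_lit 10192, nat_lit 12624, nat_lit 18432, nat_lit 21120, nat_lit 27904, nat_lit 34304, nat_lit 38912, nat_lit 47026, nat_lit 43783, nat_lit 37348, nat_lit 33415, nat_lit 28731, nat_lit 24884, nat_lit 20483, nat_lit 16390, nat_lit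 12290, nat_lit 8209, nat_lit 4097, nat_lit 2, nat_lit 425990, nat_lit 413700, nat_lit 405506, nat_lit 397312, nat_lit 155904, nat_lit 151808, nat_lit 147808, nat_lit 143616, nat_lit 139296, nat_lit 135220, nat_lit 131396, nat_lit 45071, nat_lit 40982, nat_lit 36928, nat_lit 28693]⟩))))

theorem dcME125_ok : dcME125.all (elB (nat_lit 0)) = true := by decide +kernel

def dcME126 : BT El := (.node (nat_lit 1012) (.node (nat_lit 1010) (.node (nat_lit 1009) (.leaf ndMr10_18)
 (.leaf ⟨[nat_lit 0xb8d1e4922cb9ddae08290191ea48987a9626, nat_lit 0xe1e2780b6b051233ba0b67ca823392c58c07, nat_lit 0x96ca356c22e4aad74517529c4163e5300cc4], [nat_lit 65536, nat_lit 69632, nat_lit 73728, nat_lit 81920, nat_lit 86016, nat_lit 90112, nat_lit 94208, nat_lit 102400, nat_lit 174080, nat_lit 169984, nat_lit 166912, nat_lit 161024, nat_lit 158464, nat_lit 154400, nat_lit 150432, nat_lit 145728, nat_lit 139936, nat_lit 137078, nat_lit 134888, nat_lit 1490, nat_lit 7820, nat_lit 8920, nat_lit 12352,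 nat_lit 19616, nat_lit 24000, nat_lit 26624, nat_lit 29184, nat_lit 37888, nat_lit 43008, nat_lit 47047, nat_lit 41671, nat_lit 38219, nat_lit 32807, nat_lit 28689, nat_lit 24617, nat_lit 20491, nat_lit 16522, nat_lit 12307, nat_lit 8193, nat_lit 4097, nat_lit 430088, nat_lit 417797, nat_lit 409602, nat_lit 397312, nat_lit 164352, nat_lit 155904, nat_lit 152384, nat_lit 147808, nat_lit 140080, nat_lit 131366, nat_lit 45059, nat_lit 41046, nat_lit 28691, nat_lit 12292]⟩))
 (.node (nat_lit 1011) (.leaf ndMr10_19)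
 (.leaf ⟨[nat_lit 0x55060c22d0c2d1b6005e733a12a89519a477, nat_lit 0x8ee14b9aa854b10291d760bef53340474603, nat_lit 0xaf6c091900782132304a25cd51abacf6b297], [nat_lit 65536, nat_lit 69632, nat_lit 73728, nat_lit 81920, nat_lit 90112, nat_lit 98304, nat_lit 102400, nat_lit 106496, nat_lit 110592, nat_lit 178176, nat_lit 166656, nat_lit 160896, nat_lit 155904, nat_lit 151712, nat_lit 149360, nat_lit 145984, nat_lit 143016, nat_lit 138228, nat_lit 133344, nat_lit 2952, nat_lit 7272, nat_lit 10168, nat_lit 12304, nat_lit 19392, nat_lit 22784, nat_lit 27008, nat_lit 31744, nat_lit 36352, nat_lit 37888, nat_lit 45712, nat_lit 41372, nat_lit 39004, nat_lit 33971, nat_lit 29228, nat_lit 24718, nat_lit 20498, nat_lit 16417, nat_lit 12354, nat_lit 8194, nat_lit 4101, nat_lit 2, nat_lit 425990, nat_lit 413700, nat_lit 405506, nat_lit 397312, nat_lit 151872, nat_lit 147808, nat_lit 143680, nat_lit 139576, nat_lit 135424, nat_lit 131432, nat_lit 45071, nat_lit 40988, nat_lit 28697]⟩)))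
 (.node (nat_lit 1014) (.node (nat_lit 1013) (.leaf ndMr10_20)
 (.leaf ⟨[nat_lit 0x77eb17984e8500b024522a32f6abdae30e4b, nat_lit 0x99f66095a86a814f38622740adb8d6c41133, nat_lit 0x24428e910d01029762d0e99e257a9a9b0475], [nat_lit 65536, nat_lit 69632, nat_lit 86016, nat_lit 90112, nat_lit 94208, nat_lit 98304, nat_lit 110592, nat_lit 178176, nat_lit 168448, nat_lit 160000, nat_lit 157568, nat_lit 154496, nat_lit 149232, nat_lit 144936, nat_lit 140868, nat_lit 136002, nat_lit 133093, nat_lit 1024, nat_lit 6052, nat_lit 9928, nat_lit 12416, nat_lit 21056, nat_lit 24832, nat_lit 29696, nat_lit 36352, nat_lit 38912, nat_lit 46766, nat_lit 41970, nat_lit 37246, nat_lit 32894, nat_lit 29738, nat_lit 24759, nat_lit 20482, nat_lit 16388, nat_lit 12355, nat_lit 4129, nat_lit 2, nat_lit 425991, nat_lit 417797, nat_lit 409603, nat_lit 397312, nat_lit 160000, nat_lit 155776, nat_lit 151808, nat_lit 147680, nat_lit 143424, nat_lit 135464, nat_lit 131450, nat_lit 45065, nat_lit 40985,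 nat_lit 36937, nat_lit 8194]⟩))
 (.node (nat_lit 1015) (.leaf ndMr10_21)
 (.leaf ⟨[nat_lit 0xa996a58a2ec94cc20b88dad0a35d9f04a807, nat_lit 0x5c3ff55d9c5a5c31a9da9829020498f24cc3, nat_lit 0xf5fc699b2a27b546911300ba341a0075dae5, nat_lit 0x99c53520ee13aaa872c129d0d16a4502d9ec], [nat_lit 69632, nat_lit 94208, nat_lit 102400, nat_lit 178176, nat_lit 175104, nat_lit 171008, nat_lit 167424, nat_lit 162560, nat_lit 158144, nat_lit 152384, nat_lit 149472, nat_lit 143776, nat_lit 142376, nat_lit 135678, nat_lit 134245, nat_lit 3116, nat_lit 7408, nat_lit 10120, nat_lit 15264, nat_lit 19264, nat_lit 24128, nat_lit 25728, nat_lit 29440, nat_lit 33280, nat_lit 37888, nat_lit 43008, nat_lit 46797, nat_lit 43638, nat_lit 39176, nat_lit 33370, nat_lit 28961, nat_lit 24589, nat_lit 20627, nat_lit 16391, nat_lit 12321, nat_lit 8203, nat_lit 4100, nat_lit 438282, nat_lit 430088, nat_lit 421894, nat_lit 413700, nat_lit 405506, nat_lit 397312, nat_lit 174080, nat_lit 169984, nat_lit 165376,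 nat_lit 159232, nat_lit 154048, nat_lit 150656, nat_lit 145648, nat_lit 139320, nat_lit 137288, nat_lit 132742]⟩))))

theorem dcME126_ok : dcME126.all (elB (nat_lit 0)) = true := by decide +kernel

def dcME127 : BT El := (.node (nat_lit 1020) (.node (nat_lit 1018) (.node (nat_lit 1017) (.leaf ndMr10_22)
 (.leaf ⟨[nat_lit 0x184ded79c736aecc5425529288082e9309d1, nat_lit 0x284b446d9c490d89014575be01555068ce87, nat_lit 0x9f5ac18886080e592d31542686d2cf63ab7], [nat_lit 65536, nat_lit 73728, nat_lit 77824, nat_lit 81920, nat_lit 98304, nat_lit 102400, nat_lit 106496, nat_lit 174080, nat_lit 169472, nat_lit 165632, nat_lit 160384, nat_lit 159296, nat_lit 155232, nat_lit 148160, nat_lit 145984, nat_lit 139708, nat_lit 135440, nat_lit 133344, nat_lit 1496, nat_lit 6544, nat_lit 11704, nat_lit 15216, nat_lit 18176, nat_lit 24256, nat_lit 24960, nat_lit 35840, nat_lit 38912, nat_lit 46268, nat_lit 41408, nat_lit 37036, nat_lit 33916, nat_lit 28938, nat_lit 24586, nat_lit 20506,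 nat_lit 16428, nat_lit 12321, nat_lit 8193, nat_lit 4105, nat_lit 425991, nat_lit 417797, nat_lit 409603, nat_lit 401408, nat_lit 156032, nat_lit 151936, nat_lit 147840, nat_lit 143552, nat_lit 139656, nat_lit 131348, nat_lit 45068, nat_lit 41088, nat_lit 36940, nat_lit 4097]⟩))
 (.node (nat_lit 1019) (.leaf ndMr10_23)
 (.leaf ⟨[nat_lit 0x12144d7411593d361040431467bcd8aa2db1, nat_lit 0xe1d1d273c8355e6d30509b1ea08ae8c11650, nat_lit 0x55f9f3a257542af6689832c493081cf3ca06], [nat_lit 65536, nat_lit 69632, nat_lit 73728, nat_lit 81920, nat_lit 94208, nat_lit 106496, nat_lit 110592, nat_lit 178176, nat_lit 174080, nat_lit 169472, nat_lit 164864, nat_lit 160000, nat_lit 155968, nat_lit 152928, nat_lit 149376, nat_lit 143512, nat_lit 143280, nat_lit 139184, nat_lit 132825, nat_lit 3672, nat_lit 7204, nat_lit 10792, nat_lit 14192, nat_lit 19360, nat_lit 21696, nat_lit 25600, nat_lit 32000, nat_lit 35840, nat_lit 37888, nat_lit 46809, nat_lit 41881, nat_lit 37179, nat_lit 32963,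 nat_lit 29025, nat_lit 24836, nat_lit 20490, nat_lit 16907, nat_lit 12322, nat_lit 8257, nat_lit 425990, nat_lit 413700, nat_lit 405506, nat_lit 397312, nat_lit 155904, nat_lit 151872, nat_lit 147808, nat_lit 139552, nat_lit 135452, nat_lit 131118, nat_lit 45071, nat_lit 41045, nat_lit 36943, nat_lit 28703]⟩)))
 (.node (nat_lit 1022) (.node (nat_lit 1021) (.leaf ndMr10_24)
 (.leaf ⟨[nat_lit 0x1e8be44d5d67ca081c4d40dc933956d6004a, nat_lit 0xb812411398abbe255ca63aa6c03a0c1a120d, nat_lit 0x963ac5abd96490cb08270514e875e8d14643], [nat_lit 69632, nat_lit 73728, nat_lit 77824, nat_lit 81920, nat_lit 86016, nat_lit 94208, nat_lit 98304, nat_lit 102400, nat_lit 106496, nat_lit 110592, nat_lit 168448, nat_lit 166144, nat_lit 161152, nat_lit 158336, nat_lit 152832, nat_lit 147712, nat_lit 146592, nat_lit 140080, nat_lit 136472, nat_lit 131687, nat_lit 116, nat_lit 5608, nat_lit 11176, nat_lit 16032, nat_lit 19392, nat_lit 22336, nat_lit 27776, nat_lit 30720, nat_lit 35328, nat_lit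 37888, nat_lit 43008, nat_lit 46248, nat_lit 41832, nat_lit 37283, nat_lit 33311, nat_lit 28680, nat_lit 25637, nat_lit 20491, nat_lit 16644, nat_lit 12306, nat_lit 8256, nat_lit 4105, nat_lit 425990, nat_lit 413700, nat_lit 405506, nat_lit 397312, nat_lit 151808, nat_lit 147808, nat_lit 139384, nat_lit 135264, nat_lit 131086, nat_lit 45071, nat_lit 41045, nat_lit 36879, nat_lit 28757, nat_lit 327680]⟩))
 (.node (nat_lit 1023) (.leaf ndMr10_25)
 (.leaf ⟨[nat_lit 0x1282d14a0f501ac112a0da118e1bd712cef2, nat_lit 0x99cac5136e17ced152dd5299948246401e48, nat_lit 0x9663491567ba855b453a9e511dc060a20c, nat_lit 0x2dd1b1336727048262ca90560888ecaa3cf7], [nat_lit 69632, nat_lit 77824, nat_lit 81920, nat_lit 86016, nat_lit 94208, nat_lit 102400, nat_lit 106496, nat_lit 174080, nat_lit 157760, nat_lit 152832, nat_lit 149760, nat_lit 144392, nat_lit 142688, nat_lit 135220, nat_lit 133537, nat_lit 3012, nat_lit 6748, nat_lit 8200, nat_lit 15552, nat_lit 17472, nat_lit 22272, nat_lit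 29952, nat_lit 35328, nat_lit 38912, nat_lit 43008, nat_lit 46801, nat_lit 41889, nat_lit 38385, nat_lit 34020, nat_lit 29742, nat_lit 24611, nat_lit 20493, nat_lit 16396, nat_lit 12307, nat_lit 8202, nat_lit 4, nat_lit 430088, nat_lit 421894, nat_lit 413700, nat_lit 405506, nat_lit 397312, nat_lit 155904, nat_lit 152384, nat_lit 147936, nat_lit 143472, nat_lit 139920, nat_lit 135236, nat_lit 131110, nat_lit 45718, nat_lit 41045]⟩))))

theorem dcME127_ok : dcME127.all (elB (nat_lit 0)) = true := by decide +kernel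

def dcME128 : BT El := (.node (nat_lit 1028) (.node (nat_lit 1026) (.node (nat_lit 1025) (.leaf ndMr10_26)
 (.leaf ⟨[nat_lit 0xbe2bb7bd0f2aa982814239b4cf481d642c91, nat_lit 0x33c3c6484ad346c4bc9ee9805560ce85d20a, nat_lit 0x72e88e8b4a460c535a9d238115a3ef00d8c9, nat_lit 0xe2eb425c04a9d015ba586b20ae6c5e3248e1], [nat_lit 65536, nat_lit 73728, nat_lit 90112, nat_lit 94208, nat_lit 98304, nat_lit 102400, nat_lit 106496, nat_lit 174080, nat_lit 166912, nat_lit 163072, nat_lit 157312, nat_lit 155424, nat_lit 148528, nat_lit 144496, nat_lit 142240, nat_lit 137444, nat_lit 133987, nat_lit 1108, nat_lit 6972, nat_lit 11032, nat_lit 14368, nat_lit 17088, nat_lit 20736, nat_lit 28416, nat_lit 29696, nat_lit 35328, nat_lit 43008, nat_lit 45578, nat_lit 41115, nat_lit 39387, nat_lit 32808, nat_lit 29296, nat_lit 24589, nat_lit 20630, nat_lit 16430, nat_lit 12295, nat_lit 8201, nat_lit 4100, nat_lit 438282, nat_lit 430088, nat_lit 421894, nat_lit 413700, nat_lit 405506, nat_lit 397312,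 nat_lit 169984, nat_lit 166912, nat_lit 162048, nat_lit 158080, nat_lit 155392, nat_lit 149888, nat_lit 144272, nat_lit 142400, nat_lit 135704, nat_lit 131522]⟩))
 (.node (nat_lit 1027) (.leaf ndMr10_27)
 (.leaf ⟨[nat_lit 0xe174e43158eba516982026bc8790c3155175, nat_lit 0x4d77447d40539a6b4c6d78394d1c90165044, nat_lit 0xd48e2b818b199e44ad00118af6725eb5350c], [nat_lit 94208, nat_lit 98304, nat_lit 106496, nat_lit 171520, nat_lit 160256, nat_lit 159168, nat_lit 152128, nat_lit 148672, nat_lit 146488, nat_lit 141628, nat_lit 138414, nat_lit 134385, nat_lit 1242, nat_lit 7224, nat_lit 8256, nat_lit 13008, nat_lit 17088, nat_lit 21184, nat_lit 27136, nat_lit 32512, nat_lit 35840, nat_lit 38912, nat_lit 46976, nat_lit 43601, nat_lit 36938, nat_lit 32969, nat_lit 28741, nat_lit 24635, nat_lit 20561, nat_lit 16454, nat_lit 12310, nat_lit 8210, nat_lit 4100, nat_lit 2, nat_lit 430088, nat_lit 421893, nat_lit 409602, nat_lit 397312, nat_lit 152448, nat_lit 147840, nat_lit 139792,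 nat_lit 45061, nat_lit 40981, nat_lit 24581, nat_lit 12290]⟩)))
 (.node (nat_lit 1030) (.node (nat_lit 1029) (.leaf ndMr10_30)
 (.leaf ⟨[nat_lit 0xd84bb43404544829a916d7026c8dae3a3d47, nat_lit 0xed4174bd828119647a9c0a30f3836a588d32, nat_lit 0xff3ca521ca610c01adaf494233639af52568], [nat_lit 73728, nat_lit 77824, nat_lit 81920, nat_lit 90112, nat_lit 94208, nat_lit 98304, nat_lit 106496, nat_lit 110592, nat_lit 174080, nat_lit 169984, nat_lit 165120, nat_lit 162048, nat_lit 155968, nat_lit 154784, nat_lit 149408, nat_lit 146296, nat_lit 139936, nat_lit 137354, nat_lit 133209, nat_lit 1450, nat_lit 6140, nat_lit 10096, nat_lit 15456, nat_lit 18464, nat_lit 21120, nat_lit 28032, nat_lit 29696, nat_lit 34816, nat_lit 39936, nat_lit 43008, nat_lit 45972, nat_lit 41402, nat_lit 37358, nat_lit 32799, nat_lit 28685, nat_lit 25098, nat_lit 20573, nat_lit 16431, nat_lit 12294, nat_lit 8203, nat_lit 4, nat_lit 425990, nat_lit 413700, nat_lit 405506, nat_lit 397312, nat_lit 155904,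 nat_lit 151808, nat_lit 147808, nat_lit 143728, nat_lit 139608, nat_lit 135192, nat_lit 131170, nat_lit 45071, nat_lit 41046, nat_lit 28703]⟩))
 (.node (nat_lit 1031) (.leaf ndMg0_0)
 (.leaf ndMg0_1))))

theorem dcME128_ok : dcME128.all (elB (nat_lit 0)) = true := by decide +kernel

def dcME129 : BT El := (.node (nat_lit 1036) (.node (nat_lit 1034) (.node (nat_lit 1033) (.leaf ndMg0_2)
 (.leaf ndMg0_3))
 (.node (nat_lit 1035) (.leaf ndMg0_4)
 (.leaf ndMg1_0)))
 (.node (nat_lit 1038) (.node (nat_lit 1037) (.leaf ndMg1_1)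
 (.leaf ndMg1_2))
 (.node (nat_lit 1039) (.leaf ndMg1_3)
 (.leaf ndMg1_4))))

theorem dcME129_ok : dcME129.all (elB (nat_lit 0)) = true := by decide +kernel

def dcME130 : BT El := (.node (nat_lit 1044) (.node (nat_lit 1042) (.node (nat_lit 1041) (.leaf ndMg2_0)
 (.leaf ndMg2_1))
 (.node (nat_lit 1043) (.leaf ndMg2_2)
 (.leaf ndMg2_3)))
 (.node (nat_lit 1046) (.node (nat_lit 1045) (.leaf ndMg2_4)
 (.leaf ndMg3_0))
 (.node (nat_lit 1047) (.leaf ndMg3_1)
 (.leaf ndMg3_2))))

theorem dcME130_ok : dcME130.all (elB (nat_lit 0)) = true := by decide +kernel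

def dcME131 : BT El := (.node (nat_lit 1052) (.node (nat_lit 1050) (.node (nat_lit 1049) (.leaf ndMg3_3)
 (.leaf ndMg3_4))
 (.node (nat_lit 1051) (.leaf ndMg4_0)
 (.leaf ndMg4_1)))
 (.node (nat_lit 1054) (.node (nat_lit 1053) (.leaf ndMg4_2)
 (.leaf ndMg4_3))
 (.node (nat_lit 1055) (.leaf ndMg4_4)
 (.leaf ndMg5_0))))

theorem dcME131_ok : dcME131.all (elB (nat_lit 0)) = true := by decide +kernel

def dcME132 : BT El := (.node (nat_lit 1060) (.node (nat_lit 1058) (.node (nat_lit 1057) (.leaf ndMg5_1)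
 (.leaf ndMg5_2))
 (.node (nat_lit 1059) (.leaf ndMg5_3)
 (.leaf ndMg5_4)))
 (.node (nat_lit 1062) (.node (nat_lit 1061) (.leaf ndMg6_0)
 (.leaf ndMg6_1))
 (.node (nat_lit 1063) (.leaf ndMg6_2)
 (.leaf ndMg6_3))))

theorem dcME132_ok : dcME132.all (elB (nat_lit 0)) = true := by decide +kernel

def dcME133 : BT El := (.node (nat_lit 1068) (.node (nat_lit 1066) (.node (nat_lit 1065) (.leaf ndMg6_4)
 (.leaf ndMg7_0))
 (.node (nat_lit 1067) (.leaf ndMg7_1)
 (.leaf ndMg7_2)))
 (.node (nat_lit 1070) (.node (nat_lit 1069) (.leaf ndMg7_3)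
 (.leaf ndMg7_4))
 (.node (nat_lit 1071) (.leaf ndMg8_0)
 (.leaf ndMg8_1))))

theorem dcME133_ok : dcME133.all (elB (nat_lit 0)) = true := by decide +kernel

def dcME134 : BT El := (.node (nat_lit 1076) (.node (nat_lit 1074) (.node (nat_lit 1073) (.leaf ndMg8_2)
 (.leaf ndMg8_3))
 (.node (nat_lit 1075) (.leaf ndMg8_4)
 (.leaf ndMg9_0)))
 (.node (nat_lit 1078) (.node (nat_lit 1077) (.leaf ndMg9_1)
 (.leaf ndMg9_2))
 (.node (nat_lit 1079) (.leaf ndMg9_3)
 (.leaf ndMg9_4))))

theorem dcME134_ok : dcME134.all (elB (nat_lit 0)) = true := by decide +kernel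

def dcME135 : BT El := (.node (nat_lit 1084) (.node (nat_lit 1082) (.node (nat_lit 1081) (.leaf ndMg10_0)
 (.leaf ndMg10_1))
 (.node (nat_lit 1083) (.leaf ndMg10_2)
 (.leaf ndMg10_3)))
 (.node (nat_lit 1086) (.node (nat_lit 1085) (.leaf ndMg10_4)
 (.leaf ndMg11_0))
 (.node (nat_lit 1087) (.leaf ndMg11_1)
 (.leaf ndMg11_2))))

theorem dcME135_ok : dcME135.all (elB (nat_lit 0)) = true := by decide +kernel

def dcME136 : BT El := (.node (nat_lit 1089) (.leaf ndMg11_3)
 (.leaf ndMg11_4))

theorem dcME136_ok : dcME136.all (elB (nat_lit 0)) = true := by decide +kernel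


end

end CF.Mon
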