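import Cfsg.Agent.Mon.DcME0
import Cfsg.Agent.Mon.DcME1
import Cfsg.Agent.Mon.DcME2
import Cfsg.Agent.Mon.DcME3
import Cfsg.Agent.Mon.DcME4
import Cfsg.Agent.Mon.DcME5

set_option autoImplicit false
set_option maxRecDepth 100000

namespace CF.Mon

open CF.Comp

noncomputable section

def dcME : BT El := (BT.node (nat_lit 544) (BT.node (nat_lit 272) (BT.node (nat_lit 136) (BT.node (nat_lit 64) (BT.node (nat_lit 32) (BT.node (nat_lit 16) (BT.node (nat_lit 8) dcME0 dcME1) (BT.node (nat_lit 24) dcME2 dcME3)) (BT.node (nat_lit 48) (BT.node (nat_lit 40) dcME4 dcME5) (BT.node (nat_lit 56) dcME6 dcME7))) (BT.node (nat_lit 96) (BT.node (nat_lit 80) (BT.node (nat_lit 72) dcME8 dcME9) (BT.node (nat_lit 88) dcME10 dcME11)) (BT.node (nat_lit 112) (BT.node (nat_lit 104) dcME12 dcME13) (BT.node (nat_lit 120) dcME14 (BT.node (nat_lit 128) dcME15 dcME16)))))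 (BT.node (nat_lit 200) (BT.node (nat_lit 168) (BT.node (nat_lit 152) (BT.node (nat_lit 144) dcME17 dcME18) (BT.node (nat_lit 160) dcME19 dcME20)) (BT.node (nat_lit 184) (BT.node (nat_lit 176) dcME21 dcME22) (BT.node (nat_lit 192) dcME23 dcME24))) (BT.node (nat_lit 232) (BT.node (nat_lit 216) (BT.node (nat_lit 208) dcME25 dcME26) (BT.node (nat_lit 224) dcME27 dcME28)) (BT.node (nat_lit 248) (BT.node (nat_lit 240) dcME29 dcME30) (BT.node (nat_lit 256) dcME31 (BT.node (nat_lit 264) dcME32 dcME33)))))) (BT.node (nat_lit 408) (BT.node (nat_lit 336) (BT.node (nat_lit 304) (BT.node (nat_lit 288) (BT.node (nat_lit 280) dcME34 dcME35) (BT.node (nat_lit 296) dcME36 dcME37)) (BT.node (nat_lit 320) (BT.node (nat_lit 312) dcME38 dcME39) (BT.node (nat_lit 328) dcME40 dcME41))) (BT.node (nat_lit 368) (BT.node (nat_lit 352) (BT.node (nat_lit 344) dcME42 dcME43)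 (BT.node (nat_lit 360) dcME44 dcME45)) (BT.node (nat_lit 384) (BT.node (nat_lit 376) dcME46 dcME47) (BT.node (nat_lit 392) dcME48 (BT.node (nat_lit 400) dcME49 dcME50))))) (BT.node (nat_lit 472) (BT.node (nat_lit 440) (BT.node (nat_lit 424) (BT.node (nat_lit 416) dcME51 dcME52) (BT.node (nat_lit 432) dcME53 dcME54)) (BT.node (nat_lit 456) (BT.node (nat_lit 448) dcME55 dcME56) (BT.node (nat_lit 464) dcME57 dcME58))) (BT.node (nat_lit 504) (BT.node (nat_lit 488) (BT.node (nat_lit 480) dcME59 dcME60) (BT.node (nat_lit 496) dcME61 dcME62)) (BT.node (nat_lit 520) (BT.node (nat_lit 512) dcME63 dcME64) (BT.node (nat_lit 528) dcME65 (BT.node (nat_lit 536) dcME66 dcME67))))))) (BT.node (nat_lit 816) (BT.node (nat_lit 680) (BT.node (nat_lit 608) (BT.node (nat_lit 576) (BT.node (nat_lit 560) (BT.node (nat_lit 552) dcME68 dcME69) (BT.node (nat_lit 568)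 dcME70 dcME71)) (BT.node (nat_lit 592) (BT.node (nat_lit 584) dcME72 dcME73) (BT.node (nat_lit 600) dcME74 dcME75))) (BT.node (nat_lit 640) (BT.node (nat_lit 624) (BT.node (nat_lit 616) dcME76 dcME77) (BT.node (nat_lit 632) dcME78 dcME79)) (BT.node (nat_lit 656) (BT.node (nat_lit 648) dcME80 dcME81) (BT.node (nat_lit 664) dcME82 (BT.node (nat_lit 672) dcME83 dcME84))))) (BT.node (nat_lit 744) (BT.node (nat_lit 712) (BT.node (nat_lit 696) (BT.node (nat_lit 688) dcME85 dcME86) (BT.node (nat_lit 704) dcME87 dcME88)) (BT.node (nat_lit 728) (BT.node (nat_lit 720) dcME89 dcME90) (BT.node (nat_lit 736) dcME91 dcME92))) (BT.node (nat_lit 776) (BT.node (nat_lit 760) (BT.node (nat_lit 752) dcME93 dcME94) (BT.node (nat_lit 768) dcME95 dcME96)) (BT.node (nat_lit 792) (BT.node (nat_lit 784) dcME97 dcME98) (BT.node (nat_lit 800) dcME99 (BT.node (nat_lit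 808) dcME100 dcME101)))))) (BT.node (nat_lit 952) (BT.node (nat_lit 880) (BT.node (nat_lit 848) (BT.node (nat_lit 832) (BT.node (nat_lit 824) dcME102 dcME103) (BT.node (nat_lit 840) dcME104 dcME105)) (BT.node (nat_lit 864) (BT.node (nat_lit 856) dcME106 dcME107) (BT.node (nat_lit 872) dcME108 dcME109))) (BT.node (nat_lit 912) (BT.node (nat_lit 896) (BT.node (nat_lit 888) dcME110 dcME111) (BT.node (nat_lit 904) dcME112 dcME113)) (BT.node (nat_lit 928) (BT.node (nat_lit 920) dcME114 dcME115) (BT.node (nat_lit 936) dcME116 (BT.node (nat_lit 944) dcME117 dcME118))))) (BT.node (nat_lit 1024) (BT.node (nat_lit 984) (BT.node (nat_lit 968) (BT.node (nat_lit 960) dcME119 dcME120) (BT.node (nat_lit 976) dcME121 dcME122)) (BT.node (nat_lit 1000) (BT.node (nat_lit 992) dcME123 dcME124) (BT.node (nat_lit 1008) dcME125 (BT.node (nat_lit 1016) dcME126 dcME127))))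 (BT.node (nat_lit 1056) (BT.node (nat_lit 1040) (BT.node (nat_lit 1032) dcME128 dcME129) (BT.node (nat_lit 1048) dcME130 dcME131)) (BT.node (nat_lit 1072) (BT.node (nat_lit 1064) dcME132 dcME133) (BT.node (nat_lit 1080) dcME134 (BT.node (nat_lit 1088) dcME135 dcME136))))))))

theorem dcME_ok : dcME.all (elB (nat_lit 0)) = true := (BT.all_node (BT.all_node (BT.all_node (BT.all_node (BT.all_node (BT.all_node (BT.all_node dcME0_ok dcME1_ok) (BT.all_node dcME2_ok dcME3_ok)) (BT.all_node (BT.all_node dcME4_ok dcME5_ok) (BT.all_node dcME6_ok dcME7_ok))) (BT.all_node (BT.all_node (BT.all_node dcME8_ok dcME9_ok) (BT.all_node dcME10_ok dcME11_ok)) (BT.all_node (BT.all_node dcME12_ok dcME13_ok) (BT.all_node dcME14_ok (BT.all_node dcME15_ok dcME16_ok))))) (BT.all_node (BT.all_node (BT.all_node (BT.all_node dcME17_ok dcME18_ok) (BT.all_node dcME19_ok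 dcME20_ok)) (BT.all_node (BT.all_node dcME21_ok dcME22_ok) (BT.all_node dcME23_ok dcME24_ok))) (BT.all_node (BT.all_node (BT.all_node dcME25_ok dcME26_ok) (BT.all_node dcME27_ok dcME28_ok)) (BT.all_node (BT.all_node dcME29_ok dcME30_ok) (BT.all_node dcME31_ok (BT.all_node dcME32_ok dcME33_ok)))))) (BT.all_node (BT.all_node (BT.all_node (BT.all_node (BT.all_node dcME34_ok dcME35_ok) (BT.all_node dcME36_ok dcME37_ok)) (BT.all_node (BT.all_node dcME38_ok dcME39_ok) (BT.all_node dcME40_ok dcME41_ok))) (BT.all_node (BT.all_node (BT.all_node dcME42_ok dcME43_ok) (BT.all_node dcME44_ok dcME45_ok)) (BT.all_node (BT.all_node dcME46_ok dcME47_ok) (BT.all_node dcME48_ok (BT.all_node dcME49_ok dcME50_ok))))) (BT.all_node (BT.all_node (BT.all_node (BT.all_node dcME51_ok dcME52_ok) (BT.all_node dcME53_ok dcME54_ok)) (BT.all_node (BT.all_node dcME55_ok dcME56_ok)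 (BT.all_node dcME57_ok dcME58_ok))) (BT.all_node (BT.all_node (BT.all_node dcME59_ok dcME60_ok) (BT.all_node dcME61_ok dcME62_ok)) (BT.all_node (BT.all_node dcME63_ok dcME64_ok) (BT.all_node dcME65_ok (BT.all_node dcME66_ok dcME67_ok))))))) (BT.all_node (BT.all_node (BT.all_node (BT.all_node (BT.all_node (BT.all_node dcME68_ok dcME69_ok) (BT.all_node dcME70_ok dcME71_ok)) (BT.all_node (BT.all_node dcME72_ok dcME73_ok) (BT.all_node dcME74_ok dcME75_ok))) (BT.all_node (BT.all_node (BT.all_node dcME76_ok dcME77_ok) (BT.all_node dcME78_ok dcME79_ok)) (BT.all_node (BT.all_node dcME80_ok dcME81_ok) (BT.all_node dcME82_ok (BT.all_node dcME83_ok dcME84_ok))))) (BT.all_node (BT.all_node (BT.all_node (BT.all_node dcME85_ok dcME86_ok) (BT.all_node dcME87_ok dcME88_ok)) (BT.all_node (BT.all_node dcME89_ok dcME90_ok) (BT.all_node dcME91_ok dcME92_ok)))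 (BT.all_node (BT.all_node (BT.all_node dcME93_ok dcME94_ok) (BT.all_node dcME95_ok dcME96_ok)) (BT.all_node (BT.all_node dcME97_ok dcME98_ok) (BT.all_node dcME99_ok (BT.all_node dcME100_ok dcME101_ok)))))) (BT.all_node (BT.all_node (BT.all_node (BT.all_node (BT.all_node dcME102_ok dcME103_ok) (BT.all_node dcME104_ok dcME105_ok)) (BT.all_node (BT.all_node dcME106_ok dcME107_ok) (BT.all_node dcME108_ok dcME109_ok))) (BT.all_node (BT.all_node (BT.all_node dcME110_ok dcME111_ok) (BT.all_node dcME112_ok dcME113_ok)) (BT.all_node (BT.all_node dcME114_ok dcME115_ok) (BT.all_node dcME116_ok (BT.all_node dcME117_ok dcME118_ok))))) (BT.all_node (BT.all_node (BT.all_node (BT.all_node dcME119_ok dcME120_ok) (BT.all_node dcME121_ok dcME122_ok)) (BT.all_node (BT.all_node dcME123_ok dcME124_ok) (BT.all_node dcME125_ok (BT.all_node dcME126_ok dcME127_ok))))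 (BT.all_node (BT.all_node (BT.all_node dcME128_ok dcME129_ok) (BT.all_node dcME130_ok dcME131_ok)) (BT.all_node (BT.all_node dcME132_ok dcME133_ok) (BT.all_node dcME134_ok (BT.all_node dcME135_ok dcME136_ok))))))))

def dcMF : BT Fact := (.node (nat_lit 342) (.node (nat_lit 171) (.node (nat_lit 85) (.node (nat_lit 42) (.node (nat_lit 21) (.node (nat_lit 10) (.node (nat_lit 5) (.node (nat_lit 2) (.node (nat_lit 1) (.leaf ⟨(nat_lit 0), (nat_lit 0), (nat_lit 1), (nat_lit 0), (nat_lit 0)⟩)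
 (.leaf ⟨(nat_lit 0), (nat_lit 0), (nat_lit 2), (nat_lit 0), (nat_lit 0)⟩))
 (.node (nat_lit 3) (.leaf ⟨(nat_lit 0), (nat_lit 0), (nat_lit 3), (nat_lit 0), (nat_lit 0)⟩)
 (.node (nat_lit 4) (.leaf ⟨(nat_lit 0), (nat_lit 0), (nat_lit 4), (nat_lit 0), (nat_lit 0)⟩)
 (.leaf ⟨(nat_lit 0), (nat_lit 0), (nat_lit 5), (nat_lit 0), (nat_lit 0)⟩))))
 (.node (nat_lit 7) (.node (nat_lit 6) (.leaf ⟨(nat_lit 0), (nat_lit 0), (nat_lit 6), (nat_lit 0), (nat_lit 0)⟩)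
 (.leaf ⟨(nat_lit 0), (nat_lit 0), (nat_lit 7), (nat_lit 0), (nat_lit 0)⟩))
 (.node (nat_lit 8) (.leaf ⟨(nat_lit 0), (nat_lit 0), (nat_lit 8), (nat_lit 0), (nat_lit 0)⟩)
 (.node (nat_lit 9) (.leaf ⟨(nat_lit 0), (nat_lit 0), (nat_lit 9), (nat_lit 0), (nat_lit 0)⟩)
 (.leaf ⟨(nat_lit 0), (nat_lit 0), (nat_lit 10), (nat_lit 0), (nat_lit 0)⟩)))))
 (.node (nat_lit 15) (.node (nat_lit 12) (.node (nat_lit 11) (.leaf ⟨(nat_lit 0), (nat_lit 0), (nat_lit 11), (nat_lit 0), (nat_lit 0)⟩)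
 (.leaf ⟨(nat_lit 0), (nat_lit 0), (nat_lit 12), (nat_lit 0), (nat_lit 0)⟩))
 (.node (nat_lit 13) (.leaf ⟨(nat_lit 1), (nat_lit 0), (nat_lit 0), (nat_lit 0), (nat_lit 0)⟩)
 (.node (nat_lit 14) (.leaf ⟨(nat_lit 1), (nat_lit 0), (nat_lit 13), (nat_lit 1), (nat_lit 0)⟩)
 (.leaf ⟨(nat_lit 0), (nat_lit 1), (nat_lit 14), (nat_lit 0), (nat_lit 0)⟩))))
 (.node (nat_lit 18) (.node (nat_lit 16) (.leaf ⟨(nat_lit 0), (nat_lit 1), (nat_lit 15), (nat_lit 0), (nat_lit 0)⟩)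
 (.node (nat_lit 17) (.leaf ⟨(nat_lit 0), (nat_lit 1), (nat_lit 16), (nat_lit 0), (nat_lit 0)⟩)
 (.leaf ⟨(nat_lit 0), (nat_lit 1), (nat_lit 17), (nat_lit 0), (nat_lit 0)⟩)))
 (.node (nat_lit 19) (.leaf ⟨(nat_lit 1), (nat_lit 1), (nat_lit 18), (nat_lit 1), (nat_lit 19)⟩)
 (.node (nat_lit 20) (.leaf ⟨(nat_lit 1), (nat_lit 1), (nat_lit 20), (nat_lit 1), (nat_lit 21)⟩)
 (.leaf ⟨(nat_lit 1), (nat_lit 0), (nat_lit 22), (nat_lit 2), (nat_lit 0)⟩))))))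
 (.node (nat_lit 31) (.node (nat_lit 26) (.node (nat_lit 23) (.node (nat_lit 22) (.leaf ⟨(nat_lit 0), (nat_lit 2), (nat_lit 23), (nat_lit 0), (nat_lit 0)⟩)
 (.leaf ⟨(nat_lit 0), (nat_lit 2), (nat_lit 24), (nat_lit 0), (nat_lit 0)⟩))
 (.node (nat_lit 24) (.leaf ⟨(nat_lit 0), (nat_lit 2), (nat_lit 25), (nat_lit 0), (nat_lit 0)⟩)
 (.node (nat_lit 25) (.leaf ⟨(nat_lit 0), (nat_lit 2), (nat_lit 26), (nat_lit 0), (nat_lit 0)⟩)
 (.leaf ⟨(nat_lit 0), (nat_lit 2), (nat_lit 27), (nat_lit 0), (nat_lit 0)⟩))))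
 (.node (nat_lit 28) (.node (nat_lit 27) (.leaf ⟨(nat_lit 0), (nat_lit 2), (nat_lit 28), (nat_lit 0), (nat_lit 0)⟩)
 (.leaf ⟨(nat_lit 0), (nat_lit 2), (nat_lit 29), (nat_lit 0), (nat_lit 0)⟩))
 (.node (nat_lit 29) (.leaf ⟨(nat_lit 0), (nat_lit 2), (nat_lit 30), (nat_lit 0), (nat_lit 0)⟩)
 (.node (nat_lit 30) (.leaf ⟨(nat_lit 0), (nat_lit 2), (nat_lit 31), (nat_lit 0), (nat_lit 0)⟩)
 (.leaf ⟨(nat_lit 0), (nat_lit 2), (nat_lit 32), (nat_lit 0), (nat_lit 0)⟩)))))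
 (.node (nat_lit 36) (.node (nat_lit 33) (.node (nat_lit 32) (.leaf ⟨(nat_lit 0), (nat_lit 2), (nat_lit 33), (nat_lit 0), (nat_lit 0)⟩)
 (.leaf ⟨(nat_lit 0), (nat_lit 2), (nat_lit 34), (nat_lit 0), (nat_lit 0)⟩))
 (.node (nat_lit 34) (.leaf ⟨(nat_lit 1), (nat_lit 2), (nat_lit 35), (nat_lit 2), (nat_lit 36)⟩)
 (.node (nat_lit 35) (.leaf ⟨(nat_lit 1), (nat_lit 2), (nat_lit 37), (nat_lit 2), (nat_lit 38)⟩)
 (.leaf ⟨(nat_lit 1), (nat_lit 1), (nat_lit 39), (nat_lit 2), (nat_lit 40)⟩))))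
 (.node (nat_lit 39) (.node (nat_lit 37) (.leaf ⟨(nat_lit 0), (nat_lit 1), (nat_lit 41), (nat_lit 0), (nat_lit 0)⟩)
 (.node (nat_lit 38) (.leaf ⟨(nat_lit 0), (nat_lit 1), (nat_lit 42), (nat_lit 0), (nat_lit 0)⟩)
 (.leaf ⟨(nat_lit 0), (nat_lit 1), (nat_lit 43), (nat_lit 0), (nat_lit 0)⟩)))
 (.node (nat_lit 40) (.leaf ⟨(nat_lit 0), (nat_lit 1), (nat_lit 44), (nat_lit 0), (nat_lit 0)⟩)
 (.node (nat_lit 41) (.leaf ⟨(nat_lit 0), (nat_lit 1), (nat_lit 45), (nat_lit 0), (nat_lit 0)⟩)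
 (.leaf ⟨(nat_lit 0), (nat_lit 1), (nat_lit 46), (nat_lit 0), (nat_lit 0)⟩)))))))
 (.node (nat_lit 63) (.node (nat_lit 52) (.node (nat_lit 47) (.node (nat_lit 44) (.node (nat_lit 43) (.leaf ⟨(nat_lit 0), (nat_lit 1), (nat_lit 47), (nat_lit 0), (nat_lit 0)⟩)
 (.leaf ⟨(nat_lit 0), (nat_lit 1), (nat_lit 48), (nat_lit 0), (nat_lit 0)⟩))
 (.node (nat_lit 45) (.leaf ⟨(nat_lit 1), (nat_lit 2), (nat_lit 49), (nat_lit 2), (nat_lit 50)⟩)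
 (.node (nat_lit 46) (.leaf ⟨(nat_lit 1), (nat_lit 1), (nat_lit 51), (nat_lit 3), (nat_lit 0)⟩)
 (.leaf ⟨(nat_lit 0), (nat_lit 3), (nat_lit 52), (nat_lit 0), (nat_lit 0)⟩))))
 (.node (nat_lit 49) (.node (nat_lit 48) (.leaf ⟨(nat_lit 0), (nat_lit 3), (nat_lit 53), (nat_lit 0), (nat_lit 0)⟩)
 (.leaf ⟨(nat_lit 0), (nat_lit 3), (nat_lit 54), (nat_lit 0), (nat_lit 0)⟩))
 (.node (nat_lit 50) (.leaf ⟨(nat_lit 0), (nat_lit 3), (nat_lit 55), (nat_lit 0), (nat_lit 0)⟩)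
 (.node (nat_lit 51) (.leaf ⟨(nat_lit 0), (nat_lit 3), (nat_lit 56), (nat_lit 0), (nat_lit 0)⟩)
 (.leaf ⟨(nat_lit 0), (nat_lit 3), (nat_lit 57), (nat_lit 0), (nat_lit 0)⟩)))))
 (.node (nat_lit 57) (.node (nat_lit 54) (.node (nat_lit 53) (.leaf ⟨(nat_lit 0), (nat_lit 3), (nat_lit 58), (nat_lit 0), (nat_lit 0)⟩)
 (.leaf ⟨(nat_lit 0), (nat_lit 3), (nat_lit 59), (nat_lit 0), (nat_lit 0)⟩))
 (.node (nat_lit 55) (.leaf ⟨(nat_lit 0), (nat_lit 3), (nat_lit 60), (nat_lit 0), (nat_lit 0)⟩)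
 (.node (nat_lit 56) (.leaf ⟨(nat_lit 0), (nat_lit 3), (nat_lit 61), (nat_lit 0), (nat_lit 0)⟩)
 (.leaf ⟨(nat_lit 0), (nat_lit 3), (nat_lit 62), (nat_lit 0), (nat_lit 0)⟩))))
 (.node (nat_lit 60) (.node (nat_lit 58) (.leaf ⟨(nat_lit 0), (nat_lit 3), (nat_lit 63), (nat_lit 0), (nat_lit 0)⟩)
 (.node (nat_lit 59) (.leaf ⟨(nat_lit 1), (nat_lit 2), (nat_lit 64), (nat_lit 3), (nat_lit 65)⟩)
 (.leaf ⟨(nat_lit 1), (nat_lit 2), (nat_lit 66), (nat_lit 3), (nat_lit 67)⟩)))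
 (.node (nat_lit 61) (.leaf ⟨(nat_lit 1), (nat_lit 3), (nat_lit 68), (nat_lit 3), (nat_lit 69)⟩)
 (.node (nat_lit 62) (.leaf ⟨(nat_lit 1), (nat_lit 3), (nat_lit 70), (nat_lit 1), (nat_lit 71)⟩)
 (.leaf ⟨(nat_lit 1), (nat_lit 3), (nat_lit 72), (nat_lit 3), (nat_lit 73)⟩))))))
 (.node (nat_lit 74) (.node (nat_lit 68) (.node (nat_lit 65) (.node (nat_lit 64) (.leaf ⟨(nat_lit 1), (nat_lit 3), (nat_lit 74), (nat_lit 3), (nat_lit 75)⟩)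
 (.leaf ⟨(nat_lit 1), (nat_lit 3), (nat_lit 76), (nat_lit 3), (nat_lit 77)⟩))
 (.node (nat_lit 66) (.leaf ⟨(nat_lit 1), (nat_lit 3), (nat_lit 78), (nat_lit 3), (nat_lit 79)⟩)
 (.node (nat_lit 67) (.leaf ⟨(nat_lit 0), (nat_lit 3), (nat_lit 80), (nat_lit 0), (nat_lit 0)⟩)
 (.leaf ⟨(nat_lit 0), (nat_lit 3), (nat_lit 81), (nat_lit 0), (nat_lit 0)⟩))))
 (.node (nat_lit 71) (.node (nat_lit 69) (.leaf ⟨(nat_lit 0), (nat_lit 3), (nat_lit 82), (nat_lit 0), (nat_lit 0)⟩)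
 (.node (nat_lit 70) (.leaf ⟨(nat_lit 0), (nat_lit 3), (nat_lit 83), (nat_lit 0), (nat_lit 0)⟩)
 (.leaf ⟨(nat_lit 0), (nat_lit 3), (nat_lit 84), (nat_lit 0), (nat_lit 0)⟩)))
 (.node (nat_lit 72) (.leaf ⟨(nat_lit 0), (nat_lit 3), (nat_lit 85), (nat_lit 0), (nat_lit 0)⟩)
 (.node (nat_lit 73) (.leaf ⟨(nat_lit 0), (nat_lit 3), (nat_lit 86), (nat_lit 0), (nat_lit 0)⟩)
 (.leaf ⟨(nat_lit 0), (nat_lit 3), (nat_lit 87), (nat_lit 0), (nat_lit 0)⟩)))))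
 (.node (nat_lit 79) (.node (nat_lit 76) (.node (nat_lit 75) (.leaf ⟨(nat_lit 1), (nat_lit 3), (nat_lit 88), (nat_lit 3), (nat_lit 89)⟩)
 (.leaf ⟨(nat_lit 1), (nat_lit 1), (nat_lit 90), (nat_lit 4), (nat_lit 0)⟩))
 (.node (nat_lit 77) (.leaf ⟨(nat_lit 0), (nat_lit 4), (nat_lit 91), (nat_lit 0), (nat_lit 0)⟩)
 (.node (nat_lit 78) (.leaf ⟨(nat_lit 0), (nat_lit 4), (nat_lit 92), (nat_lit 0), (nat_lit 0)⟩)
 (.leaf ⟨(nat_lit 0), (nat_lit 4), (nat_lit 93), (nat_lit 0), (nat_lit 0)⟩))))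
 (.node (nat_lit 82) (.node (nat_lit 80) (.leaf ⟨(nat_lit 0), (nat_lit 4), (nat_lit 94), (nat_lit 0), (nat_lit 0)⟩)
 (.node (nat_lit 81) (.leaf ⟨(nat_lit 0), (nat_lit 4), (nat_lit 95), (nat_lit 0), (nat_lit 0)⟩)
 (.leaf ⟨(nat_lit 0), (nat_lit 4), (nat_lit 96), (nat_lit 0), (nat_lit 0)⟩)))
 (.node (nat_lit 83) (.leaf ⟨(nat_lit 0), (nat_lit 4), (nat_lit 97), (nat_lit 0), (nat_lit 0)⟩)
 (.node (nat_lit 84) (.leaf ⟨(nat_lit 0), (nat_lit 4), (nat_lit 98), (nat_lit 0), (nat_lit 0)⟩)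
 (.leaf ⟨(nat_lit 0), (nat_lit 4), (nat_lit 99), (nat_lit 0), (nat_lit 0)⟩))))))))
 (.node (nat_lit 128) (.node (nat_lit 106) (.node (nat_lit 95) (.node (nat_lit 90) (.node (nat_lit 87) (.node (nat_lit 86) (.leaf ⟨(nat_lit 0), (nat_lit 4), (nat_lit 100), (nat_lit 0), (nat_lit 0)⟩)
 (.leaf ⟨(nat_lit 0), (nat_lit 4), (nat_lit 101), (nat_lit 0), (nat_lit 0)⟩))
 (.node (nat_lit 88) (.leaf ⟨(nat_lit 0), (nat_lit 4), (nat_lit 102), (nat_lit 0), (nat_lit 0)⟩)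
 (.node (nat_lit 89) (.leaf ⟨(nat_lit 1), (nat_lit 2), (nat_lit 103), (nat_lit 4), (nat_lit 104)⟩)
 (.leaf ⟨(nat_lit 1), (nat_lit 3), (nat_lit 105), (nat_lit 4), (nat_lit 106)⟩))))
 (.node (nat_lit 92) (.node (nat_lit 91) (.leaf ⟨(nat_lit 1), (nat_lit 4), (nat_lit 107), (nat_lit 3), (nat_lit 108)⟩)
 (.leaf ⟨(nat_lit 1), (nat_lit 4), (nat_lit 109), (nat_lit 3), (nat_lit 110)⟩))
 (.node (nat_lit 93) (.leaf ⟨(nat_lit 1), (nat_lit 4), (nat_lit 111), (nat_lit 4), (nat_lit 112)⟩)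
 (.node (nat_lit 94) (.leaf ⟨(nat_lit 1), (nat_lit 4), (nat_lit 113), (nat_lit 3), (nat_lit 114)⟩)
 (.leaf ⟨(nat_lit 1), (nat_lit 4), (nat_lit 115), (nat_lit 4), (nat_lit 116)⟩)))))
 (.node (nat_lit 100) (.node (nat_lit 97) (.node (nat_lit 96) (.leaf ⟨(nat_lit 1), (nat_lit 4), (nat_lit 117), (nat_lit 2), (nat_lit 118)⟩)
 (.leaf ⟨(nat_lit 1), (nat_lit 4), (nat_lit 119), (nat_lit 4), (nat_lit 120)⟩))
 (.node (nat_lit 98) (.leaf ⟨(nat_lit 1), (nat_lit 4), (nat_lit 121), (nat_lit 4), (nat_lit 122)⟩)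
 (.node (nat_lit 99) (.leaf ⟨(nat_lit 1), (nat_lit 4), (nat_lit 123), (nat_lit 1), (nat_lit 124)⟩)
 (.leaf ⟨(nat_lit 1), (nat_lit 4), (nat_lit 125), (nat_lit 4), (nat_lit 126)⟩))))
 (.node (nat_lit 103) (.node (nat_lit 101) (.leaf ⟨(nat_lit 0), (nat_lit 4), (nat_lit 127), (nat_lit 0), (nat_lit 0)⟩)
 (.node (nat_lit 102) (.leaf ⟨(nat_lit 0), (nat_lit 4), (nat_lit 128), (nat_lit 0), (nat_lit 0)⟩)
 (.leaf ⟨(nat_lit 0), (nat_lit 4), (nat_lit 129), (nat_lit 0), (nat_lit 0)⟩)))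
 (.node (nat_lit 104) (.leaf ⟨(nat_lit 0), (nat_lit 4), (nat_lit 130), (nat_lit 0), (nat_lit 0)⟩)
 (.node (nat_lit 105) (.leaf ⟨(nat_lit 0), (nat_lit 4), (nat_lit 131), (nat_lit 0), (nat_lit 0)⟩)
 (.leaf ⟨(nat_lit 0), (nat_lit 4), (nat_lit 132), (nat_lit 0), (nat_lit 0)⟩))))))
 (.node (nat_lit 117) (.node (nat_lit 111) (.node (nat_lit 108) (.node (nat_lit 107) (.leaf ⟨(nat_lit 0), (nat_lit 4), (nat_lit 133), (nat_lit 0), (nat_lit 0)⟩)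
 (.leaf ⟨(nat_lit 0), (nat_lit 4), (nat_lit 134), (nat_lit 0), (nat_lit 0)⟩))
 (.node (nat_lit 109) (.leaf ⟨(nat_lit 1), (nat_lit 2), (nat_lit 135), (nat_lit 5), (nat_lit 0)⟩)
 (.node (nat_lit 110) (.leaf ⟨(nat_lit 0), (nat_lit 5), (nat_lit 136), (nat_lit 0), (nat_lit 0)⟩)
 (.leaf ⟨(nat_lit 0), (nat_lit 5), (nat_lit 137), (nat_lit 0), (nat_lit 0)⟩))))
 (.node (nat_lit 114) (.node (nat_lit 112) (.leaf ⟨(nat_lit 0), (nat_lit 5), (nat_lit 138), (nat_lit 0), (nat_lit 0)⟩)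
 (.node (nat_lit 113) (.leaf ⟨(nat_lit 0), (nat_lit 5), (nat_lit 139), (nat_lit 0), (nat_lit 0)⟩)
 (.leaf ⟨(nat_lit 0), (nat_lit 5), (nat_lit 140), (nat_lit 0), (nat_lit 0)⟩)))
 (.node (nat_lit 115) (.leaf ⟨(nat_lit 0), (nat_lit 5), (nat_lit 141), (nat_lit 0), (nat_lit 0)⟩)
 (.node (nat_lit 116) (.leaf ⟨(nat_lit 0), (nat_lit 5), (nat_lit 142), (nat_lit 0), (nat_lit 0)⟩)
 (.leaf ⟨(nat_lit 0), (nat_lit 5), (nat_lit 143), (nat_lit 0), (nat_lit 0)⟩)))))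
 (.node (nat_lit 122) (.node (nat_lit 119) (.node (nat_lit 118) (.leaf ⟨(nat_lit 0), (nat_lit 5), (nat_lit 144), (nat_lit 0), (nat_lit 0)⟩)
 (.leaf ⟨(nat_lit 0), (nat_lit 5), (nat_lit 145), (nat_lit 0), (nat_lit 0)⟩))
 (.node (nat_lit 120) (.leaf ⟨(nat_lit 0), (nat_lit 5), (nat_lit 146), (nat_lit 0), (nat_lit 0)⟩)
 (.node (nat_lit 121) (.leaf ⟨(nat_lit 0), (nat_lit 5), (nat_lit 147), (nat_lit 0), (nat_lit 0)⟩)
 (.leaf ⟨(nat_lit 1), (nat_lit 3), (nat_lit 148), (nat_lit 5), (nat_lit 149)⟩))))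
 (.node (nat_lit 125) (.node (nat_lit 123) (.leaf ⟨(nat_lit 1), (nat_lit 3), (nat_lit 150), (nat_lit 5), (nat_lit 151)⟩)
 (.node (nat_lit 124) (.leaf ⟨(nat_lit 1), (nat_lit 5), (nat_lit 152), (nat_lit 2), (nat_lit 153)⟩)
 (.leaf ⟨(nat_lit 1), (nat_lit 5), (nat_lit 154), (nat_lit 5), (nat_lit 155)⟩)))
 (.node (nat_lit 126) (.leaf ⟨(nat_lit 1), (nat_lit 5), (nat_lit 156), (nat_lit 3), (nat_lit 157)⟩)
 (.node (nat_lit 127) (.leaf ⟨(nat_lit 1), (nat_lit 5), (nat_lit 158), (nat_lit 3), (nat_lit 159)⟩)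
 (.leaf ⟨(nat_lit 1), (nat_lit 5), (nat_lit 160), (nat_lit 5), (nat_lit 161)⟩)))))))
 (.node (nat_lit 149) (.node (nat_lit 138) (.node (nat_lit 133) (.node (nat_lit 130) (.node (nat_lit 129) (.leaf ⟨(nat_lit 1), (nat_lit 5), (nat_lit 162), (nat_lit 3), (nat_lit 163)⟩)
 (.leaf ⟨(nat_lit 1), (nat_lit 5), (nat_lit 164), (nat_lit 5), (nat_lit 165)⟩))
 (.node (nat_lit 131) (.leaf ⟨(nat_lit 0), (nat_lit 5), (nat_lit 166), (nat_lit 0), (nat_lit 0)⟩)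
 (.node (nat_lit 132) (.leaf ⟨(nat_lit 0), (nat_lit 5), (nat_lit 167), (nat_lit 0), (nat_lit 0)⟩)
 (.leaf ⟨(nat_lit 0), (nat_lit 5), (nat_lit 168), (nat_lit 0), (nat_lit 0)⟩))))
 (.node (nat_lit 135) (.node (nat_lit 134) (.leaf ⟨(nat_lit 0), (nat_lit 5), (nat_lit 169), (nat_lit 0), (nat_lit 0)⟩)
 (.leaf ⟨(nat_lit 0), (nat_lit 5), (nat_lit 170), (nat_lit 0), (nat_lit 0)⟩))
 (.node (nat_lit 136) (.leaf ⟨(nat_lit 0), (nat_lit 5), (nat_lit 171), (nat_lit 0), (nat_lit 0)⟩)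
 (.node (nat_lit 137) (.leaf ⟨(nat_lit 0), (nat_lit 5), (nat_lit 172), (nat_lit 0), (nat_lit 0)⟩)
 (.leaf ⟨(nat_lit 0), (nat_lit 5), (nat_lit 173), (nat_lit 0), (nat_lit 0)⟩)))))
 (.node (nat_lit 143) (.node (nat_lit 140) (.node (nat_lit 139) (.leaf ⟨(nat_lit 1), (nat_lit 2), (nat_lit 174), (nat_lit 6), (nat_lit 0)⟩)
 (.leaf ⟨(nat_lit 0), (nat_lit 6), (nat_lit 175), (nat_lit 0), (nat_lit 0)⟩))
 (.node (nat_lit 141) (.leaf ⟨(nat_lit 0), (nat_lit 6), (nat_lit 176), (nat_lit 0), (nat_lit 0)⟩)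
 (.node (nat_lit 142) (.leaf ⟨(nat_lit 0), (nat_lit 6), (nat_lit 177), (nat_lit 0), (nat_lit 0)⟩)
 (.leaf ⟨(nat_lit 0), (nat_lit 6), (nat_lit 178), (nat_lit 0), (nat_lit 0)⟩))))
 (.node (nat_lit 146) (.node (nat_lit 144) (.leaf ⟨(nat_lit 0), (nat_lit 6), (nat_lit 179), (nat_lit 0), (nat_lit 0)⟩)
 (.node (nat_lit 145) (.leaf ⟨(nat_lit 0), (nat_lit 6), (nat_lit 180), (nat_lit 0), (nat_lit 0)⟩)
 (.leaf ⟨(nat_lit 0), (nat_lit 6), (nat_lit 181), (nat_lit 0), (nat_lit 0)⟩)))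
 (.node (nat_lit 147) (.leaf ⟨(nat_lit 0), (nat_lit 6), (nat_lit 182), (nat_lit 0), (nat_lit 0)⟩)
 (.node (nat_lit 148) (.leaf ⟨(nat_lit 0), (nat_lit 6), (nat_lit 183), (nat_lit 0), (nat_lit 0)⟩)
 (.leaf ⟨(nat_lit 0), (nat_lit 6), (nat_lit 184), (nat_lit 0), (nat_lit 0)⟩))))))
 (.node (nat_lit 160) (.node (nat_lit 154) (.node (nat_lit 151) (.node (nat_lit 150) (.leaf ⟨(nat_lit 0), (nat_lit 6), (nat_lit 185), (nat_lit 0), (nat_lit 0)⟩)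
 (.leaf ⟨(nat_lit 0), (nat_lit 6), (nat_lit 186), (nat_lit 0), (nat_lit 0)⟩))
 (.node (nat_lit 152) (.leaf ⟨(nat_lit 1), (nat_lit 6), (nat_lit 187), (nat_lit 6), (nat_lit 188)⟩)
 (.node (nat_lit 153) (.leaf ⟨(nat_lit 1), (nat_lit 6), (nat_lit 189), (nat_lit 6), (nat_lit 190)⟩)
 (.leaf ⟨(nat_lit 1), (nat_lit 6), (nat_lit 191), (nat_lit 3), (nat_lit 192)⟩))))
 (.node (nat_lit 157) (.node (nat_lit 155) (.leaf ⟨(nat_lit 1), (nat_lit 4), (nat_lit 193), (nat_lit 6), (nat_lit 194)⟩)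
 (.node (nat_lit 156) (.leaf ⟨(nat_lit 1), (nat_lit 5), (nat_lit 195), (nat_lit 6), (nat_lit 196)⟩)
 (.leaf ⟨(nat_lit 1), (nat_lit 5), (nat_lit 197), (nat_lit 6), (nat_lit 198)⟩)))
 (.node (nat_lit 158) (.leaf ⟨(nat_lit 1), (nat_lit 6), (nat_lit 199), (nat_lit 6), (nat_lit 200)⟩)
 (.node (nat_lit 159) (.leaf ⟨(nat_lit 1), (nat_lit 6), (nat_lit 201), (nat_lit 6), (nat_lit 202)⟩)
 (.leaf ⟨(nat_lit 1), (nat_lit 6), (nat_lit 203), (nat_lit 6), (nat_lit 204)⟩)))))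
 (.node (nat_lit 165) (.node (nat_lit 162) (.node (nat_lit 161) (.leaf ⟨(nat_lit 1), (nat_lit 6), (nat_lit 205), (nat_lit 6), (nat_lit 206)⟩)
 (.leaf ⟨(nat_lit 1), (nat_lit 6), (nat_lit 207), (nat_lit 6), (nat_lit 208)⟩))
 (.node (nat_lit 163) (.leaf ⟨(nat_lit 1), (nat_lit 6), (nat_lit 209), (nat_lit 6), (nat_lit 210)⟩)
 (.node (nat_lit 164) (.leaf ⟨(nat_lit 1), (nat_lit 6), (nat_lit 211), (nat_lit 6), (nat_lit 212)⟩)
 (.leaf ⟨(nat_lit 1), (nat_lit 6), (nat_lit 213), (nat_lit 6), (nat_lit 214)⟩))))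
 (.node (nat_lit 168) (.node (nat_lit 166) (.leaf ⟨(nat_lit 1), (nat_lit 6), (nat_lit 215), (nat_lit 6), (nat_lit 216)⟩)
 (.node (nat_lit 167) (.leaf ⟨(nat_lit 1), (nat_lit 6), (nat_lit 217), (nat_lit 6), (nat_lit 218)⟩)
 (.leaf ⟨(nat_lit 1), (nat_lit 6), (nat_lit 219), (nat_lit 6), (nat_lit 220)⟩)))
 (.node (nat_lit 169) (.leaf ⟨(nat_lit 1), (nat_lit 6), (nat_lit 221), (nat_lit 6), (nat_lit 222)⟩)
 (.node (nat_lit 170) (.leaf ⟨(nat_lit 1), (nat_lit 2), (nat_lit 223), (nat_lit 7), (nat_lit 0)⟩)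
 (.leaf ⟨(nat_lit 0), (nat_lit 7), (nat_lit 224), (nat_lit 0), (nat_lit 0)⟩)))))))))
 (.node (nat_lit 256) (.node (nat_lit 213) (.node (nat_lit 192) (.node (nat_lit 181) (.node (nat_lit 176) (.node (nat_lit 173) (.node (nat_lit 172) (.leaf ⟨(nat_lit 0), (nat_lit 7), (nat_lit 225), (nat_lit 0), (nat_lit 0)⟩)
 (.leaf ⟨(nat_lit 0), (nat_lit 7), (nat_lit 226), (nat_lit 0), (nat_lit 0)⟩))
 (.node (nat_lit 174) (.leaf ⟨(nat_lit 0), (nat_lit 7), (nat_lit 227), (nat_lit 0), (nat_lit 0)⟩)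
 (.node (nat_lit 175) (.leaf ⟨(nat_lit 0), (nat_lit 7), (nat_lit 228), (nat_lit 0), (nat_lit 0)⟩)
 (.leaf ⟨(nat_lit 0), (nat_lit 7), (nat_lit 229), (nat_lit 0), (nat_lit 0)⟩))))
 (.node (nat_lit 178) (.node (nat_lit 177) (.leaf ⟨(nat_lit 0), (nat_lit 7), (nat_lit 230), (nat_lit 0), (nat_lit 0)⟩)
 (.leaf ⟨(nat_lit 0), (nat_lit 7), (nat_lit 231), (nat_lit 0), (nat_lit 0)⟩))
 (.node (nat_lit 179) (.leaf ⟨(nat_lit 0), (nat_lit 7), (nat_lit 232), (nat_lit 0), (nat_lit 0)⟩)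
 (.node (nat_lit 180) (.leaf ⟨(nat_lit 0), (nat_lit 7), (nat_lit 233), (nat_lit 0), (nat_lit 0)⟩)
 (.leaf ⟨(nat_lit 0), (nat_lit 7), (nat_lit 234), (nat_lit 0), (nat_lit 0)⟩)))))
 (.node (nat_lit 186) (.node (nat_lit 183) (.node (nat_lit 182) (.leaf ⟨(nat_lit 0), (nat_lit 7), (nat_lit 235), (nat_lit 0), (nat_lit 0)⟩)
 (.leaf ⟨(nat_lit 1), (nat_lit 7), (nat_lit 236), (nat_lit 5), (nat_lit 237)⟩))
 (.node (nat_lit 184) (.leaf ⟨(nat_lit 1), (nat_lit 3), (nat_lit 238), (nat_lit 7), (nat_lit 239)⟩)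
 (.node (nat_lit 185) (.leaf ⟨(nat_lit 1), (nat_lit 3), (nat_lit 240), (nat_lit 7), (nat_lit 241)⟩)
 (.leaf ⟨(nat_lit 1), (nat_lit 4), (nat_lit 242), (nat_lit 7), (nat_lit 243)⟩))))
 (.node (nat_lit 189) (.node (nat_lit 187) (.leaf ⟨(nat_lit 1), (nat_lit 5), (nat_lit 244), (nat_lit 7), (nat_lit 245)⟩)
 (.node (nat_lit 188) (.leaf ⟨(nat_lit 1), (nat_lit 6), (nat_lit 246), (nat_lit 7), (nat_lit 247)⟩)
 (.leaf ⟨(nat_lit 1), (nat_lit 6), (nat_lit 248), (nat_lit 7), (nat_lit 249)⟩)))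
 (.node (nat_lit 190) (.leaf ⟨(nat_lit 1), (nat_lit 6), (nat_lit 250), (nat_lit 7), (nat_lit 251)⟩)
 (.node (nat_lit 191) (.leaf ⟨(nat_lit 1), (nat_lit 6), (nat_lit 252), (nat_lit 7), (nat_lit 253)⟩)
 (.leaf ⟨(nat_lit 1), (nat_lit 7), (nat_lit 254), (nat_lit 4), (nat_lit 255)⟩))))))
 (.node (nat_lit 202) (.node (nat_lit 197) (.node (nat_lit 194) (.node (nat_lit 193) (.leaf ⟨(nat_lit 1), (nat_lit 7), (nat_lit 256), (nat_lit 6), (nat_lit 257)⟩)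
 (.leaf ⟨(nat_lit 1), (nat_lit 7), (nat_lit 258), (nat_lit 6), (nat_lit 259)⟩))
 (.node (nat_lit 195) (.leaf ⟨(nat_lit 1), (nat_lit 7), (nat_lit 260), (nat_lit 6), (nat_lit 261)⟩)
 (.node (nat_lit 196) (.leaf ⟨(nat_lit 1), (nat_lit 7), (nat_lit 262), (nat_lit 2), (nat_lit 263)⟩)
 (.leaf ⟨(nat_lit 1), (nat_lit 7), (nat_lit 264), (nat_lit 7), (nat_lit 265)⟩))))
 (.node (nat_lit 199) (.node (nat_lit 198) (.leaf ⟨(nat_lit 1), (nat_lit 7), (nat_lit 266), (nat_lit 6), (nat_lit 267)⟩)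
 (.leaf ⟨(nat_lit 1), (nat_lit 7), (nat_lit 268), (nat_lit 3), (nat_lit 269)⟩))
 (.node (nat_lit 200) (.leaf ⟨(nat_lit 1), (nat_lit 7), (nat_lit 270), (nat_lit 5), (nat_lit 271)⟩)
 (.node (nat_lit 201) (.leaf ⟨(nat_lit 1), (nat_lit 7), (nat_lit 272), (nat_lit 7), (nat_lit 273)⟩)
 (.leaf ⟨(nat_lit 1), (nat_lit 7), (nat_lit 274), (nat_lit 6), (nat_lit 275)⟩)))))
 (.node (nat_lit 207) (.node (nat_lit 204) (.node (nat_lit 203) (.leaf ⟨(nat_lit 1), (nat_lit 7), (nat_lit 276), (nat_lit 7), (nat_lit 277)⟩)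
 (.leaf ⟨(nat_lit 1), (nat_lit 7), (nat_lit 278), (nat_lit 6), (nat_lit 279)⟩))
 (.node (nat_lit 205) (.leaf ⟨(nat_lit 1), (nat_lit 7), (nat_lit 280), (nat_lit 6), (nat_lit 281)⟩)
 (.node (nat_lit 206) (.leaf ⟨(nat_lit 1), (nat_lit 7), (nat_lit 282), (nat_lit 7), (nat_lit 283)⟩)
 (.leaf ⟨(nat_lit 1), (nat_lit 7), (nat_lit 284), (nat_lit 7), (nat_lit 285)⟩))))
 (.node (nat_lit 210) (.node (nat_lit 208) (.leaf ⟨(nat_lit 1), (nat_lit 7), (nat_lit 286), (nat_lit 7), (nat_lit 287)⟩)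
 (.node (nat_lit 209) (.leaf ⟨(nat_lit 1), (nat_lit 7), (nat_lit 288), (nat_lit 7), (nat_lit 289)⟩)
 (.leaf ⟨(nat_lit 1), (nat_lit 7), (nat_lit 290), (nat_lit 7), (nat_lit 291)⟩)))
 (.node (nat_lit 211) (.leaf ⟨(nat_lit 1), (nat_lit 7), (nat_lit 292), (nat_lit 6), (nat_lit 293)⟩)
 (.node (nat_lit 212) (.leaf ⟨(nat_lit 1), (nat_lit 7), (nat_lit 294), (nat_lit 3), (nat_lit 295)⟩)
 (.leaf ⟨(nat_lit 0), (nat_lit 7), (nat_lit 296), (nat_lit 0), (nat_lit 0)⟩)))))))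
 (.node (nat_lit 234) (.node (nat_lit 223) (.node (nat_lit 218) (.node (nat_lit 215) (.node (nat_lit 214) (.leaf ⟨(nat_lit 0), (nat_lit 7), (nat_lit 297), (nat_lit 0), (nat_lit 0)⟩)
 (.leaf ⟨(nat_lit 0), (nat_lit 7), (nat_lit 298), (nat_lit 0), (nat_lit 0)⟩))
 (.node (nat_lit 216) (.leaf ⟨(nat_lit 0), (nat_lit 7), (nat_lit 299), (nat_lit 0), (nat_lit 0)⟩)
 (.node (nat_lit 217) (.leaf ⟨(nat_lit 0), (nat_lit 7), (nat_lit 300), (nat_lit 0), (nat_lit 0)⟩)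
 (.leaf ⟨(nat_lit 0), (nat_lit 7), (nat_lit 301), (nat_lit 0), (nat_lit 0)⟩))))
 (.node (nat_lit 220) (.node (nat_lit 219) (.leaf ⟨(nat_lit 0), (nat_lit 7), (nat_lit 302), (nat_lit 0), (nat_lit 0)⟩)
 (.leaf ⟨(nat_lit 0), (nat_lit 7), (nat_lit 303), (nat_lit 0), (nat_lit 0)⟩))
 (.node (nat_lit 221) (.leaf ⟨(nat_lit 1), (nat_lit 7), (nat_lit 304), (nat_lit 7), (nat_lit 305)⟩)
 (.node (nat_lit 222) (.leaf ⟨(nat_lit 1), (nat_lit 3), (nat_lit 306), (nat_lit 8), (nat_lit 0)⟩)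
 (.leaf ⟨(nat_lit 0), (nat_lit 8), (nat_lit 307), (nat_lit 0), (nat_lit 0)⟩)))))
 (.node (nat_lit 228) (.node (nat_lit 225) (.node (nat_lit 224) (.leaf ⟨(nat_lit 0), (nat_lit 8), (nat_lit 308), (nat_lit 0), (nat_lit 0)⟩)
 (.leaf ⟨(nat_lit 0), (nat_lit 8), (nat_lit 309), (nat_lit 0), (nat_lit 0)⟩))
 (.node (nat_lit 226) (.leaf ⟨(nat_lit 0), (nat_lit 8), (nat_lit 310), (nat_lit 0), (nat_lit 0)⟩)
 (.node (nat_lit 227) (.leaf ⟨(nat_lit 0), (nat_lit 8), (nat_lit 311), (nat_lit 0), (nat_lit 0)⟩)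
 (.leaf ⟨(nat_lit 0), (nat_lit 8), (nat_lit 312), (nat_lit 0), (nat_lit 0)⟩))))
 (.node (nat_lit 231) (.node (nat_lit 229) (.leaf ⟨(nat_lit 0), (nat_lit 8), (nat_lit 313), (nat_lit 0), (nat_lit 0)⟩)
 (.node (nat_lit 230) (.leaf ⟨(nat_lit 0), (nat_lit 8), (nat_lit 314), (nat_lit 0), (nat_lit 0)⟩)
 (.leaf ⟨(nat_lit 0), (nat_lit 8), (nat_lit 315), (nat_lit 0), (nat_lit 0)⟩)))
 (.node (nat_lit 232) (.leaf ⟨(nat_lit 0), (nat_lit 8), (nat_lit 316), (nat_lit 0), (nat_lit 0)⟩)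
 (.node (nat_lit 233) (.leaf ⟨(nat_lit 0), (nat_lit 8), (nat_lit 317), (nat_lit 0), (nat_lit 0)⟩)
 (.leaf ⟨(nat_lit 0), (nat_lit 8), (nat_lit 318), (nat_lit 0), (nat_lit 0)⟩))))))
 (.node (nat_lit 245) (.node (nat_lit 239) (.node (nat_lit 236) (.node (nat_lit 235) (.leaf ⟨(nat_lit 1), (nat_lit 4), (nat_lit 319), (nat_lit 8), (nat_lit 320)⟩)
 (.leaf ⟨(nat_lit 1), (nat_lit 6), (nat_lit 321), (nat_lit 8), (nat_lit 322)⟩))
 (.node (nat_lit 237) (.leaf ⟨(nat_lit 1), (nat_lit 6), (nat_lit 323), (nat_lit 8), (nat_lit 324)⟩)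
 (.node (nat_lit 238) (.leaf ⟨(nat_lit 1), (nat_lit 6), (nat_lit 325), (nat_lit 8), (nat_lit 326)⟩)
 (.leaf ⟨(nat_lit 1), (nat_lit 6), (nat_lit 327), (nat_lit 8), (nat_lit 328)⟩))))
 (.node (nat_lit 242) (.node (nat_lit 240) (.leaf ⟨(nat_lit 1), (nat_lit 6), (nat_lit 329), (nat_lit 8), (nat_lit 330)⟩)
 (.node (nat_lit 241) (.leaf ⟨(nat_lit 1), (nat_lit 6), (nat_lit 331), (nat_lit 8), (nat_lit 332)⟩)
 (.leaf ⟨(nat_lit 1), (nat_lit 7), (nat_lit 333), (nat_lit 8), (nat_lit 334)⟩)))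
 (.node (nat_lit 243) (.leaf ⟨(nat_lit 1), (nat_lit 7), (nat_lit 335), (nat_lit 8), (nat_lit 336)⟩)
 (.node (nat_lit 244) (.leaf ⟨(nat_lit 1), (nat_lit 7), (nat_lit 337), (nat_lit 8), (nat_lit 338)⟩)
 (.leaf ⟨(nat_lit 1), (nat_lit 8), (nat_lit 339), (nat_lit 6), (nat_lit 340)⟩)))))
 (.node (nat_lit 250) (.node (nat_lit 247) (.node (nat_lit 246) (.leaf ⟨(nat_lit 1), (nat_lit 8), (nat_lit 341), (nat_lit 6), (nat_lit 342)⟩)
 (.leaf ⟨(nat_lit 1), (nat_lit 8), (nat_lit 343), (nat_lit 8), (nat_lit 344)⟩))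
 (.node (nat_lit 248) (.leaf ⟨(nat_lit 1), (nat_lit 8), (nat_lit 345), (nat_lit 3), (nat_lit 346)⟩)
 (.node (nat_lit 249) (.leaf ⟨(nat_lit 1), (nat_lit 8), (nat_lit 347), (nat_lit 8), (nat_lit 348)⟩)
 (.leaf ⟨(nat_lit 1), (nat_lit 8), (nat_lit 349), (nat_lit 6), (nat_lit 350)⟩))))
 (.node (nat_lit 253) (.node (nat_lit 251) (.leaf ⟨(nat_lit 1), (nat_lit 8), (nat_lit 351), (nat_lit 8), (nat_lit 352)⟩)
 (.node (nat_lit 252) (.leaf ⟨(nat_lit 1), (nat_lit 8), (nat_lit 353), (nat_lit 8), (nat_lit 354)⟩)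
 (.leaf ⟨(nat_lit 1), (nat_lit 8), (nat_lit 355), (nat_lit 6), (nat_lit 356)⟩)))
 (.node (nat_lit 254) (.leaf ⟨(nat_lit 1), (nat_lit 8), (nat_lit 357), (nat_lit 8), (nat_lit 358)⟩)
 (.node (nat_lit 255) (.leaf ⟨(nat_lit 1), (nat_lit 8), (nat_lit 359), (nat_lit 8), (nat_lit 360)⟩)
 (.leaf ⟨(nat_lit 1), (nat_lit 8), (nat_lit 361), (nat_lit 8), (nat_lit 362)⟩))))))))
 (.node (nat_lit 299) (.node (nat_lit 277) (.node (nat_lit 266) (.node (nat_lit 261) (.node (nat_lit 258) (.node (nat_lit 257) (.leaf ⟨(nat_lit 1), (nat_lit 8), (nat_lit 363), (nat_lit 8), (nat_lit 364)⟩)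
 (.leaf ⟨(nat_lit 1), (nat_lit 8), (nat_lit 365), (nat_lit 6), (nat_lit 366)⟩))
 (.node (nat_lit 259) (.leaf ⟨(nat_lit 1), (nat_lit 8), (nat_lit 367), (nat_lit 8), (nat_lit 368)⟩)
 (.node (nat_lit 260) (.leaf ⟨(nat_lit 0), (nat_lit 8), (nat_lit 369), (nat_lit 0), (nat_lit 0)⟩)
 (.leaf ⟨(nat_lit 0), (nat_lit 8), (nat_lit 370), (nat_lit 0), (nat_lit 0)⟩))))
 (.node (nat_lit 263) (.node (nat_lit 262) (.leaf ⟨(nat_lit 0), (nat_lit 8), (nat_lit 371), (nat_lit 0), (nat_lit 0)⟩)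
 (.leaf ⟨(nat_lit 0), (nat_lit 8), (nat_lit 372), (nat_lit 0), (nat_lit 0)⟩))
 (.node (nat_lit 264) (.leaf ⟨(nat_lit 0), (nat_lit 8), (nat_lit 373), (nat_lit 0), (nat_lit 0)⟩)
 (.node (nat_lit 265) (.leaf ⟨(nat_lit 0), (nat_lit 8), (nat_lit 374), (nat_lit 0), (nat_lit 0)⟩)
 (.leaf ⟨(nat_lit 0), (nat_lit 8), (nat_lit 375), (nat_lit 0), (nat_lit 0)⟩)))))
 (.node (nat_lit 271) (.node (nat_lit 268) (.node (nat_lit 267) (.leaf ⟨(nat_lit 0), (nat_lit 8), (nat_lit 376), (nat_lit 0), (nat_lit 0)⟩)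
 (.leaf ⟨(nat_lit 1), (nat_lit 4), (nat_lit 377), (nat_lit 8), (nat_lit 378)⟩))
 (.node (nat_lit 269) (.leaf ⟨(nat_lit 1), (nat_lit 6), (nat_lit 379), (nat_lit 8), (nat_lit 380)⟩)
 (.node (nat_lit 270) (.leaf ⟨(nat_lit 1), (nat_lit 6), (nat_lit 381), (nat_lit 8), (nat_lit 382)⟩)
 (.leaf ⟨(nat_lit 1), (nat_lit 8), (nat_lit 383), (nat_lit 8), (nat_lit 384)⟩))))
 (.node (nat_lit 274) (.node (nat_lit 272) (.leaf ⟨(nat_lit 1), (nat_lit 8), (nat_lit 385), (nat_lit 8), (nat_lit 386)⟩)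
 (.node (nat_lit 273) (.leaf ⟨(nat_lit 1), (nat_lit 8), (nat_lit 387), (nat_lit 8), (nat_lit 388)⟩)
 (.leaf ⟨(nat_lit 1), (nat_lit 8), (nat_lit 389), (nat_lit 8), (nat_lit 390)⟩)))
 (.node (nat_lit 275) (.leaf ⟨(nat_lit 1), (nat_lit 8), (nat_lit 391), (nat_lit 8), (nat_lit 392)⟩)
 (.node (nat_lit 276) (.leaf ⟨(nat_lit 1), (nat_lit 8), (nat_lit 393), (nat_lit 8), (nat_lit 394)⟩)
 (.leaf ⟨(nat_lit 1), (nat_lit 8), (nat_lit 395), (nat_lit 8), (nat_lit 396)⟩))))))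
 (.node (nat_lit 288) (.node (nat_lit 282) (.node (nat_lit 279) (.node (nat_lit 278) (.leaf ⟨(nat_lit 1), (nat_lit 8), (nat_lit 397), (nat_lit 8), (nat_lit 398)⟩)
 (.leaf ⟨(nat_lit 1), (nat_lit 8), (nat_lit 399), (nat_lit 8), (nat_lit 400)⟩))
 (.node (nat_lit 280) (.leaf ⟨(nat_lit 1), (nat_lit 8), (nat_lit 401), (nat_lit 8), (nat_lit 402)⟩)
 (.node (nat_lit 281) (.leaf ⟨(nat_lit 1), (nat_lit 8), (nat_lit 403), (nat_lit 8), (nat_lit 404)⟩)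
 (.leaf ⟨(nat_lit 1), (nat_lit 8), (nat_lit 405), (nat_lit 8), (nat_lit 406)⟩))))
 (.node (nat_lit 285) (.node (nat_lit 283) (.leaf ⟨(nat_lit 1), (nat_lit 8), (nat_lit 407), (nat_lit 8), (nat_lit 408)⟩)
 (.node (nat_lit 284) (.leaf ⟨(nat_lit 1), (nat_lit 3), (nat_lit 409), (nat_lit 9), (nat_lit 0)⟩)
 (.leaf ⟨(nat_lit 0), (nat_lit 9), (nat_lit 410), (nat_lit 0), (nat_lit 0)⟩)))
 (.node (nat_lit 286) (.leaf ⟨(nat_lit 0), (nat_lit 9), (nat_lit 411), (nat_lit 0), (nat_lit 0)⟩)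
 (.node (nat_lit 287) (.leaf ⟨(nat_lit 0), (nat_lit 9), (nat_lit 412), (nat_lit 0), (nat_lit 0)⟩)
 (.leaf ⟨(nat_lit 0), (nat_lit 9), (nat_lit 413), (nat_lit 0), (nat_lit 0)⟩)))))
 (.node (nat_lit 293) (.node (nat_lit 290) (.node (nat_lit 289) (.leaf ⟨(nat_lit 0), (nat_lit 9), (nat_lit 414), (nat_lit 0), (nat_lit 0)⟩)
 (.leaf ⟨(nat_lit 0), (nat_lit 9), (nat_lit 415), (nat_lit 0), (nat_lit 0)⟩))
 (.node (nat_lit 291) (.leaf ⟨(nat_lit 0), (nat_lit 9), (nat_lit 416), (nat_lit 0), (nat_lit 0)⟩)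
 (.node (nat_lit 292) (.leaf ⟨(nat_lit 0), (nat_lit 9), (nat_lit 417), (nat_lit 0), (nat_lit 0)⟩)
 (.leaf ⟨(nat_lit 0), (nat_lit 9), (nat_lit 418), (nat_lit 0), (nat_lit 0)⟩))))
 (.node (nat_lit 296) (.node (nat_lit 294) (.leaf ⟨(nat_lit 0), (nat_lit 9), (nat_lit 419), (nat_lit 0), (nat_lit 0)⟩)
 (.node (nat_lit 295) (.leaf ⟨(nat_lit 0), (nat_lit 9), (nat_lit 420), (nat_lit 0), (nat_lit 0)⟩)
 (.leaf ⟨(nat_lit 0), (nat_lit 9), (nat_lit 421), (nat_lit 0), (nat_lit 0)⟩)))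
 (.node (nat_lit 297) (.leaf ⟨(nat_lit 1), (nat_lit 6), (nat_lit 422), (nat_lit 9), (nat_lit 423)⟩)
 (.node (nat_lit 298) (.leaf ⟨(nat_lit 1), (nat_lit 6), (nat_lit 424), (nat_lit 9), (nat_lit 425)⟩)
 (.leaf ⟨(nat_lit 1), (nat_lit 6), (nat_lit 426), (nat_lit 9), (nat_lit 427)⟩)))))))
 (.node (nat_lit 320) (.node (nat_lit 309) (.node (nat_lit 304) (.node (nat_lit 301) (.node (nat_lit 300) (.leaf ⟨(nat_lit 1), (nat_lit 7), (nat_lit 428), (nat_lit 9), (nat_lit 429)⟩)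
 (.leaf ⟨(nat_lit 1), (nat_lit 7), (nat_lit 430), (nat_lit 9), (nat_lit 431)⟩))
 (.node (nat_lit 302) (.leaf ⟨(nat_lit 1), (nat_lit 8), (nat_lit 432), (nat_lit 9), (nat_lit 433)⟩)
 (.node (nat_lit 303) (.leaf ⟨(nat_lit 1), (nat_lit 8), (nat_lit 434), (nat_lit 9), (nat_lit 435)⟩)
 (.leaf ⟨(nat_lit 1), (nat_lit 8), (nat_lit 436), (nat_lit 9), (nat_lit 437)⟩))))
 (.node (nat_lit 306) (.node (nat_lit 305) (.leaf ⟨(nat_lit 1), (nat_lit 8), (nat_lit 438), (nat_lit 9), (nat_lit 439)⟩)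
 (.leaf ⟨(nat_lit 1), (nat_lit 8), (nat_lit 440), (nat_lit 9), (nat_lit 441)⟩))
 (.node (nat_lit 307) (.leaf ⟨(nat_lit 1), (nat_lit 8), (nat_lit 442), (nat_lit 9), (nat_lit 443)⟩)
 (.node (nat_lit 308) (.leaf ⟨(nat_lit 1), (nat_lit 8), (nat_lit 444), (nat_lit 9), (nat_lit 445)⟩)
 (.leaf ⟨(nat_lit 1), (nat_lit 8), (nat_lit 446), (nat_lit 9), (nat_lit 447)⟩)))))
 (.node (nat_lit 314) (.node (nat_lit 311) (.node (nat_lit 310) (.leaf ⟨(nat_lit 1), (nat_lit 8), (nat_lit 448), (nat_lit 9), (nat_lit 449)⟩)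
 (.leaf ⟨(nat_lit 1), (nat_lit 8), (nat_lit 450), (nat_lit 9), (nat_lit 451)⟩))
 (.node (nat_lit 312) (.leaf ⟨(nat_lit 1), (nat_lit 8), (nat_lit 452), (nat_lit 9), (nat_lit 453)⟩)
 (.node (nat_lit 313) (.leaf ⟨(nat_lit 1), (nat_lit 8), (nat_lit 454), (nat_lit 9), (nat_lit 455)⟩)
 (.leaf ⟨(nat_lit 1), (nat_lit 8), (nat_lit 456), (nat_lit 9), (nat_lit 457)⟩))))
 (.node (nat_lit 317) (.node (nat_lit 315) (.leaf ⟨(nat_lit 1), (nat_lit 8), (nat_lit 458), (nat_lit 9), (nat_lit 459)⟩)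
 (.node (nat_lit 316) (.leaf ⟨(nat_lit 1), (nat_lit 8), (nat_lit 460), (nat_lit 9), (nat_lit 461)⟩)
 (.leaf ⟨(nat_lit 1), (nat_lit 8), (nat_lit 462), (nat_lit 9), (nat_lit 463)⟩)))
 (.node (nat_lit 318) (.leaf ⟨(nat_lit 1), (nat_lit 8), (nat_lit 464), (nat_lit 9), (nat_lit 465)⟩)
 (.node (nat_lit 319) (.leaf ⟨(nat_lit 1), (nat_lit 8), (nat_lit 466), (nat_lit 9), (nat_lit 467)⟩)
 (.leaf ⟨(nat_lit 1), (nat_lit 8), (nat_lit 468), (nat_lit 9), (nat_lit 469)⟩))))))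
 (.node (nat_lit 331) (.node (nat_lit 325) (.node (nat_lit 322) (.node (nat_lit 321) (.leaf ⟨(nat_lit 1), (nat_lit 8), (nat_lit 470), (nat_lit 9), (nat_lit 471)⟩)
 (.leaf ⟨(nat_lit 1), (nat_lit 8), (nat_lit 472), (nat_lit 9), (nat_lit 473)⟩))
 (.node (nat_lit 323) (.leaf ⟨(nat_lit 1), (nat_lit 9), (nat_lit 474), (nat_lit 6), (nat_lit 475)⟩)
 (.node (nat_lit 324) (.leaf ⟨(nat_lit 1), (nat_lit 9), (nat_lit 476), (nat_lit 9), (nat_lit 477)⟩)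
 (.leaf ⟨(nat_lit 1), (nat_lit 9), (nat_lit 478), (nat_lit 8), (nat_lit 479)⟩))))
 (.node (nat_lit 328) (.node (nat_lit 326) (.leaf ⟨(nat_lit 1), (nat_lit 9), (nat_lit 480), (nat_lit 9), (nat_lit 481)⟩)
 (.node (nat_lit 327) (.leaf ⟨(nat_lit 1), (nat_lit 9), (nat_lit 482), (nat_lit 9), (nat_lit 483)⟩)
 (.leaf ⟨(nat_lit 1), (nat_lit 9), (nat_lit 484), (nat_lit 6), (nat_lit 485)⟩)))
 (.node (nat_lit 329) (.leaf ⟨(nat_lit 1), (nat_lit 9), (nat_lit 486), (nat_lit 8), (nat_lit 487)⟩)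
 (.node (nat_lit 330) (.leaf ⟨(nat_lit 1), (nat_lit 9), (nat_lit 488), (nat_lit 6), (nat_lit 489)⟩)
 (.leaf ⟨(nat_lit 1), (nat_lit 9), (nat_lit 490), (nat_lit 6), (nat_lit 491)⟩)))))
 (.node (nat_lit 336) (.node (nat_lit 333) (.node (nat_lit 332) (.leaf ⟨(nat_lit 1), (nat_lit 9), (nat_lit 492), (nat_lit 9), (nat_lit 493)⟩)
 (.leaf ⟨(nat_lit 1), (nat_lit 9), (nat_lit 494), (nat_lit 9), (nat_lit 495)⟩))
 (.node (nat_lit 334) (.leaf ⟨(nat_lit 1), (nat_lit 9), (nat_lit 496), (nat_lit 9), (nat_lit 497)⟩)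
 (.node (nat_lit 335) (.leaf ⟨(nat_lit 1), (nat_lit 9), (nat_lit 498), (nat_lit 9), (nat_lit 499)⟩)
 (.leaf ⟨(nat_lit 1), (nat_lit 9), (nat_lit 500), (nat_lit 9), (nat_lit 501)⟩))))
 (.node (nat_lit 339) (.node (nat_lit 337) (.leaf ⟨(nat_lit 1), (nat_lit 9), (nat_lit 502), (nat_lit 9), (nat_lit 503)⟩)
 (.node (nat_lit 338) (.leaf ⟨(nat_lit 1), (nat_lit 9), (nat_lit 504), (nat_lit 9), (nat_lit 505)⟩)
 (.leaf ⟨(nat_lit 1), (nat_lit 9), (nat_lit 506), (nat_lit 9), (nat_lit 507)⟩)))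
 (.node (nat_lit 340) (.leaf ⟨(nat_lit 1), (nat_lit 9), (nat_lit 508), (nat_lit 7), (nat_lit 509)⟩)
 (.node (nat_lit 341) (.leaf ⟨(nat_lit 1), (nat_lit 9), (nat_lit 510), (nat_lit 8), (nat_lit 511)⟩)
 (.leaf ⟨(nat_lit 1), (nat_lit 9), (nat_lit 512), (nat_lit 8), (nat_lit 513)⟩))))))))))
 (.node (nat_lit 513) (.node (nat_lit 427) (.node (nat_lit 384) (.node (nat_lit 363) (.node (nat_lit 352) (.node (nat_lit 347) (.node (nat_lit 344) (.node (nat_lit 343) (.leaf ⟨(nat_lit 1), (nat_lit 9), (nat_lit 514), (nat_lit 9), (nat_lit 515)⟩)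
 (.leaf ⟨(nat_lit 1), (nat_lit 9), (nat_lit 516), (nat_lit 8), (nat_lit 517)⟩))
 (.node (nat_lit 345) (.leaf ⟨(nat_lit 1), (nat_lit 9), (nat_lit 518), (nat_lit 9), (nat_lit 519)⟩)
 (.node (nat_lit 346) (.leaf ⟨(nat_lit 1), (nat_lit 9), (nat_lit 520), (nat_lit 6), (nat_lit 521)⟩)
 (.leaf ⟨(nat_lit 1), (nat_lit 9), (nat_lit 522), (nat_lit 7), (nat_lit 523)⟩))))
 (.node (nat_lit 349) (.node (nat_lit 348) (.leaf ⟨(nat_lit 1), (nat_lit 9), (nat_lit 524), (nat_lit 8), (nat_lit 525)⟩)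
 (.leaf ⟨(nat_lit 1), (nat_lit 9), (nat_lit 526), (nat_lit 6), (nat_lit 527)⟩))
 (.node (nat_lit 350) (.leaf ⟨(nat_lit 1), (nat_lit 9), (nat_lit 528), (nat_lit 8), (nat_lit 529)⟩)
 (.node (nat_lit 351) (.leaf ⟨(nat_lit 1), (nat_lit 9), (nat_lit 530), (nat_lit 8), (nat_lit 531)⟩)
 (.leaf ⟨(nat_lit 0), (nat_lit 9), (nat_lit 532), (nat_lit 0), (nat_lit 0)⟩)))))
 (.node (nat_lit 357) (.node (nat_lit 354) (.node (nat_lit 353) (.leaf ⟨(nat_lit 0), (nat_lit 9), (nat_lit 533), (nat_lit 0), (nat_lit 0)⟩)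
 (.leaf ⟨(nat_lit 0), (nat_lit 9), (nat_lit 534), (nat_lit 0), (nat_lit 0)⟩))
 (.node (nat_lit 355) (.leaf ⟨(nat_lit 0), (nat_lit 9), (nat_lit 535), (nat_lit 0), (nat_lit 0)⟩)
 (.node (nat_lit 356) (.leaf ⟨(nat_lit 0), (nat_lit 9), (nat_lit 536), (nat_lit 0), (nat_lit 0)⟩)
 (.leaf ⟨(nat_lit 0), (nat_lit 9), (nat_lit 537), (nat_lit 0), (nat_lit 0)⟩))))
 (.node (nat_lit 360) (.node (nat_lit 358) (.leaf ⟨(nat_lit 0), (nat_lit 9), (nat_lit 538), (nat_lit 0), (nat_lit 0)⟩)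
 (.node (nat_lit 359) (.leaf ⟨(nat_lit 1), (nat_lit 3), (nat_lit 539), (nat_lit 9), (nat_lit 540)⟩)
 (.leaf ⟨(nat_lit 1), (nat_lit 4), (nat_lit 541), (nat_lit 9), (nat_lit 542)⟩)))
 (.node (nat_lit 361) (.leaf ⟨(nat_lit 1), (nat_lit 5), (nat_lit 543), (nat_lit 9), (nat_lit 544)⟩)
 (.node (nat_lit 362) (.leaf ⟨(nat_lit 1), (nat_lit 5), (nat_lit 545), (nat_lit 9), (nat_lit 546)⟩)
 (.leaf ⟨(nat_lit 1), (nat_lit 6), (nat_lit 547), (nat_lit 9), (nat_lit 548)⟩))))))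
 (.node (nat_lit 373) (.node (nat_lit 368) (.node (nat_lit 365) (.node (nat_lit 364) (.leaf ⟨(nat_lit 1), (nat_lit 6), (nat_lit 549), (nat_lit 9), (nat_lit 550)⟩)
 (.leaf ⟨(nat_lit 1), (nat_lit 6), (nat_lit 551), (nat_lit 9), (nat_lit 552)⟩))
 (.node (nat_lit 366) (.leaf ⟨(nat_lit 1), (nat_lit 6), (nat_lit 553), (nat_lit 9), (nat_lit 554)⟩)
 (.node (nat_lit 367) (.leaf ⟨(nat_lit 1), (nat_lit 6), (nat_lit 555), (nat_lit 9), (nat_lit 556)⟩)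
 (.leaf ⟨(nat_lit 1), (nat_lit 6), (nat_lit 557), (nat_lit 9), (nat_lit 558)⟩))))
 (.node (nat_lit 370) (.node (nat_lit 369) (.leaf ⟨(nat_lit 1), (nat_lit 6), (nat_lit 559), (nat_lit 9), (nat_lit 560)⟩)
 (.leaf ⟨(nat_lit 1), (nat_lit 6), (nat_lit 561), (nat_lit 9), (nat_lit 562)⟩))
 (.node (nat_lit 371) (.leaf ⟨(nat_lit 1), (nat_lit 6), (nat_lit 563), (nat_lit 9), (nat_lit 564)⟩)
 (.node (nat_lit 372) (.leaf ⟨(nat_lit 1), (nat_lit 6), (nat_lit 565), (nat_lit 9), (nat_lit 566)⟩)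
 (.leaf ⟨(nat_lit 1), (nat_lit 6), (nat_lit 567), (nat_lit 9), (nat_lit 568)⟩)))))
 (.node (nat_lit 378) (.node (nat_lit 375) (.node (nat_lit 374) (.leaf ⟨(nat_lit 1), (nat_lit 6), (nat_lit 569), (nat_lit 9), (nat_lit 570)⟩)
 (.leaf ⟨(nat_lit 1), (nat_lit 6), (nat_lit 571), (nat_lit 9), (nat_lit 572)⟩))
 (.node (nat_lit 376) (.leaf ⟨(nat_lit 1), (nat_lit 7), (nat_lit 573), (nat_lit 9), (nat_lit 574)⟩)
 (.node (nat_lit 377) (.leaf ⟨(nat_lit 1), (nat_lit 7), (nat_lit 575), (nat_lit 9), (nat_lit 576)⟩)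
 (.leaf ⟨(nat_lit 1), (nat_lit 7), (nat_lit 577), (nat_lit 9), (nat_lit 578)⟩))))
 (.node (nat_lit 381) (.node (nat_lit 379) (.leaf ⟨(nat_lit 1), (nat_lit 8), (nat_lit 579), (nat_lit 9), (nat_lit 580)⟩)
 (.node (nat_lit 380) (.leaf ⟨(nat_lit 1), (nat_lit 8), (nat_lit 581), (nat_lit 9), (nat_lit 582)⟩)
 (.leaf ⟨(nat_lit 1), (nat_lit 9), (nat_lit 583), (nat_lit 9), (nat_lit 584)⟩)))
 (.node (nat_lit 382) (.leaf ⟨(nat_lit 1), (nat_lit 9), (nat_lit 585), (nat_lit 9), (nat_lit 586)⟩)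
 (.node (nat_lit 383) (.leaf ⟨(nat_lit 1), (nat_lit 9), (nat_lit 587), (nat_lit 9), (nat_lit 588)⟩)
 (.leaf ⟨(nat_lit 1), (nat_lit 9), (nat_lit 589), (nat_lit 9), (nat_lit 590)⟩)))))))
 (.node (nat_lit 405) (.node (nat_lit 394) (.node (nat_lit 389) (.node (nat_lit 386) (.node (nat_lit 385) (.leaf ⟨(nat_lit 1), (nat_lit 9), (nat_lit 591), (nat_lit 9), (nat_lit 592)⟩)
 (.leaf ⟨(nat_lit 1), (nat_lit 9), (nat_lit 593), (nat_lit 9), (nat_lit 594)⟩))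
 (.node (nat_lit 387) (.leaf ⟨(nat_lit 1), (nat_lit 9), (nat_lit 595), (nat_lit 9), (nat_lit 596)⟩)
 (.node (nat_lit 388) (.leaf ⟨(nat_lit 1), (nat_lit 9), (nat_lit 597), (nat_lit 9), (nat_lit 598)⟩)
 (.leaf ⟨(nat_lit 1), (nat_lit 9), (nat_lit 599), (nat_lit 9), (nat_lit 600)⟩))))
 (.node (nat_lit 391) (.node (nat_lit 390) (.leaf ⟨(nat_lit 1), (nat_lit 9), (nat_lit 601), (nat_lit 9), (nat_lit 602)⟩)
 (.leaf ⟨(nat_lit 1), (nat_lit 9), (nat_lit 603), (nat_lit 9), (nat_lit 604)⟩))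
 (.node (nat_lit 392) (.leaf ⟨(nat_lit 1), (nat_lit 9), (nat_lit 605), (nat_lit 9), (nat_lit 606)⟩)
 (.node (nat_lit 393) (.leaf ⟨(nat_lit 1), (nat_lit 9), (nat_lit 607), (nat_lit 9), (nat_lit 608)⟩)
 (.leaf ⟨(nat_lit 1), (nat_lit 9), (nat_lit 609), (nat_lit 9), (nat_lit 610)⟩)))))
 (.node (nat_lit 399) (.node (nat_lit 396) (.node (nat_lit 395) (.leaf ⟨(nat_lit 1), (nat_lit 9), (nat_lit 611), (nat_lit 9), (nat_lit 612)⟩)
 (.leaf ⟨(nat_lit 1), (nat_lit 9), (nat_lit 613), (nat_lit 9), (nat_lit 614)⟩))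
 (.node (nat_lit 397) (.leaf ⟨(nat_lit 1), (nat_lit 9), (nat_lit 615), (nat_lit 9), (nat_lit 616)⟩)
 (.node (nat_lit 398) (.leaf ⟨(nat_lit 1), (nat_lit 9), (nat_lit 617), (nat_lit 9), (nat_lit 618)⟩)
 (.leaf ⟨(nat_lit 1), (nat_lit 9), (nat_lit 619), (nat_lit 9), (nat_lit 620)⟩))))
 (.node (nat_lit 402) (.node (nat_lit 400) (.leaf ⟨(nat_lit 1), (nat_lit 9), (nat_lit 621), (nat_lit 9), (nat_lit 622)⟩)
 (.node (nat_lit 401) (.leaf ⟨(nat_lit 1), (nat_lit 9), (nat_lit 623), (nat_lit 9), (nat_lit 624)⟩)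
 (.leaf ⟨(nat_lit 1), (nat_lit 9), (nat_lit 625), (nat_lit 9), (nat_lit 626)⟩)))
 (.node (nat_lit 403) (.leaf ⟨(nat_lit 1), (nat_lit 9), (nat_lit 627), (nat_lit 9), (nat_lit 628)⟩)
 (.node (nat_lit 404) (.leaf ⟨(nat_lit 1), (nat_lit 9), (nat_lit 629), (nat_lit 9), (nat_lit 630)⟩)
 (.leaf ⟨(nat_lit 1), (nat_lit 9), (nat_lit 631), (nat_lit 9), (nat_lit 632)⟩))))))
 (.node (nat_lit 416) (.node (nat_lit 410) (.node (nat_lit 407) (.node (nat_lit 406) (.leaf ⟨(nat_lit 1), (nat_lit 9), (nat_lit 633), (nat_lit 9), (nat_lit 634)⟩)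
 (.leaf ⟨(nat_lit 1), (nat_lit 9), (nat_lit 635), (nat_lit 9), (nat_lit 636)⟩))
 (.node (nat_lit 408) (.leaf ⟨(nat_lit 1), (nat_lit 9), (nat_lit 637), (nat_lit 9), (nat_lit 638)⟩)
 (.node (nat_lit 409) (.leaf ⟨(nat_lit 1), (nat_lit 9), (nat_lit 639), (nat_lit 9), (nat_lit 640)⟩)
 (.leaf ⟨(nat_lit 1), (nat_lit 3), (nat_lit 641), (nat_lit 10), (nat_lit 0)⟩))))
 (.node (nat_lit 413) (.node (nat_lit 411) (.leaf ⟨(nat_lit 0), (nat_lit 10), (nat_lit 642), (nat_lit 0), (nat_lit 0)⟩)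
 (.node (nat_lit 412) (.leaf ⟨(nat_lit 0), (nat_lit 10), (nat_lit 643), (nat_lit 0), (nat_lit 0)⟩)
 (.leaf ⟨(nat_lit 0), (nat_lit 10), (nat_lit 644), (nat_lit 0), (nat_lit 0)⟩)))
 (.node (nat_lit 414) (.leaf ⟨(nat_lit 0), (nat_lit 10), (nat_lit 645), (nat_lit 0), (nat_lit 0)⟩)
 (.node (nat_lit 415) (.leaf ⟨(nat_lit 0), (nat_lit 10), (nat_lit 646), (nat_lit 0), (nat_lit 0)⟩)
 (.leaf ⟨(nat_lit 0), (nat_lit 10), (nat_lit 647), (nat_lit 0), (nat_lit 0)⟩)))))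
 (.node (nat_lit 421) (.node (nat_lit 418) (.node (nat_lit 417) (.leaf ⟨(nat_lit 0), (nat_lit 10), (nat_lit 648), (nat_lit 0), (nat_lit 0)⟩)
 (.leaf ⟨(nat_lit 0), (nat_lit 10), (nat_lit 649), (nat_lit 0), (nat_lit 0)⟩))
 (.node (nat_lit 419) (.leaf ⟨(nat_lit 0), (nat_lit 10), (nat_lit 650), (nat_lit 0), (nat_lit 0)⟩)
 (.node (nat_lit 420) (.leaf ⟨(nat_lit 0), (nat_lit 10), (nat_lit 651), (nat_lit 0), (nat_lit 0)⟩)
 (.leaf ⟨(nat_lit 0), (nat_lit 10), (nat_lit 652), (nat_lit 0), (nat_lit 0)⟩))))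
 (.node (nat_lit 424) (.node (nat_lit 422) (.leaf ⟨(nat_lit 0), (nat_lit 10), (nat_lit 653), (nat_lit 0), (nat_lit 0)⟩)
 (.node (nat_lit 423) (.leaf ⟨(nat_lit 1), (nat_lit 4), (nat_lit 654), (nat_lit 10), (nat_lit 655)⟩)
 (.leaf ⟨(nat_lit 1), (nat_lit 5), (nat_lit 656), (nat_lit 10), (nat_lit 657)⟩)))
 (.node (nat_lit 425) (.leaf ⟨(nat_lit 1), (nat_lit 6), (nat_lit 658), (nat_lit 10), (nat_lit 659)⟩)
 (.node (nat_lit 426) (.leaf ⟨(nat_lit 1), (nat_lit 6), (nat_lit 660), (nat_lit 10), (nat_lit 661)⟩)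
 (.leaf ⟨(nat_lit 1), (nat_lit 6), (nat_lit 662), (nat_lit 10), (nat_lit 663)⟩))))))))
 (.node (nat_lit 470) (.node (nat_lit 448) (.node (nat_lit 437) (.node (nat_lit 432) (.node (nat_lit 429) (.node (nat_lit 428) (.leaf ⟨(nat_lit 1), (nat_lit 7), (nat_lit 664), (nat_lit 10), (nat_lit 665)⟩)
 (.leaf ⟨(nat_lit 1), (nat_lit 7), (nat_lit 666), (nat_lit 10), (nat_lit 667)⟩))
 (.node (nat_lit 430) (.leaf ⟨(nat_lit 1), (nat_lit 7), (nat_lit 668), (nat_lit 10), (nat_lit 669)⟩)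
 (.node (nat_lit 431) (.leaf ⟨(nat_lit 1), (nat_lit 7), (nat_lit 670), (nat_lit 10), (nat_lit 671)⟩)
 (.leaf ⟨(nat_lit 1), (nat_lit 8), (nat_lit 672), (nat_lit 10), (nat_lit 673)⟩))))
 (.node (nat_lit 434) (.node (nat_lit 433) (.leaf ⟨(nat_lit 1), (nat_lit 8), (nat_lit 674), (nat_lit 10), (nat_lit 675)⟩)
 (.leaf ⟨(nat_lit 1), (nat_lit 8), (nat_lit 676), (nat_lit 10), (nat_lit 677)⟩))
 (.node (nat_lit 435) (.leaf ⟨(nat_lit 1), (nat_lit 9), (nat_lit 678), (nat_lit 10), (nat_lit 679)⟩)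
 (.node (nat_lit 436) (.leaf ⟨(nat_lit 1), (nat_lit 9), (nat_lit 680), (nat_lit 10), (nat_lit 681)⟩)
 (.leaf ⟨(nat_lit 1), (nat_lit 9), (nat_lit 682), (nat_lit 10), (nat_lit 683)⟩)))))
 (.node (nat_lit 442) (.node (nat_lit 439) (.node (nat_lit 438) (.leaf ⟨(nat_lit 1), (nat_lit 9), (nat_lit 684), (nat_lit 10), (nat_lit 685)⟩)
 (.leaf ⟨(nat_lit 1), (nat_lit 9), (nat_lit 686), (nat_lit 10), (nat_lit 687)⟩))
 (.node (nat_lit 440) (.leaf ⟨(nat_lit 1), (nat_lit 9), (nat_lit 688), (nat_lit 10), (nat_lit 689)⟩)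
 (.node (nat_lit 441) (.leaf ⟨(nat_lit 1), (nat_lit 9), (nat_lit 690), (nat_lit 10), (nat_lit 691)⟩)
 (.leaf ⟨(nat_lit 1), (nat_lit 9), (nat_lit 692), (nat_lit 10), (nat_lit 693)⟩))))
 (.node (nat_lit 445) (.node (nat_lit 443) (.leaf ⟨(nat_lit 1), (nat_lit 9), (nat_lit 694), (nat_lit 10), (nat_lit 695)⟩)
 (.node (nat_lit 444) (.leaf ⟨(nat_lit 1), (nat_lit 10), (nat_lit 696), (nat_lit 9), (nat_lit 697)⟩)
 (.leaf ⟨(nat_lit 1), (nat_lit 10), (nat_lit 698), (nat_lit 9), (nat_lit 699)⟩)))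
 (.node (nat_lit 446) (.leaf ⟨(nat_lit 1), (nat_lit 10), (nat_lit 700), (nat_lit 6), (nat_lit 701)⟩)
 (.node (nat_lit 447) (.leaf ⟨(nat_lit 1), (nat_lit 10), (nat_lit 702), (nat_lit 9), (nat_lit 703)⟩)
 (.leaf ⟨(nat_lit 1), (nat_lit 10), (nat_lit 704), (nat_lit 6), (nat_lit 705)⟩))))))
 (.node (nat_lit 459) (.node (nat_lit 453) (.node (nat_lit 450) (.node (nat_lit 449) (.leaf ⟨(nat_lit 1), (nat_lit 10), (nat_lit 706), (nat_lit 8), (nat_lit 707)⟩)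
 (.leaf ⟨(nat_lit 1), (nat_lit 10), (nat_lit 708), (nat_lit 8), (nat_lit 709)⟩))
 (.node (nat_lit 451) (.leaf ⟨(nat_lit 1), (nat_lit 10), (nat_lit 710), (nat_lit 6), (nat_lit 711)⟩)
 (.node (nat_lit 452) (.leaf ⟨(nat_lit 1), (nat_lit 10), (nat_lit 712), (nat_lit 8), (nat_lit 713)⟩)
 (.leaf ⟨(nat_lit 1), (nat_lit 10), (nat_lit 714), (nat_lit 7), (nat_lit 715)⟩))))
 (.node (nat_lit 456) (.node (nat_lit 454) (.leaf ⟨(nat_lit 1), (nat_lit 10), (nat_lit 716), (nat_lit 8), (nat_lit 717)⟩)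
 (.node (nat_lit 455) (.leaf ⟨(nat_lit 1), (nat_lit 10), (nat_lit 718), (nat_lit 9), (nat_lit 719)⟩)
 (.leaf ⟨(nat_lit 1), (nat_lit 10), (nat_lit 720), (nat_lit 10), (nat_lit 721)⟩)))
 (.node (nat_lit 457) (.leaf ⟨(nat_lit 1), (nat_lit 10), (nat_lit 722), (nat_lit 9), (nat_lit 723)⟩)
 (.node (nat_lit 458) (.leaf ⟨(nat_lit 1), (nat_lit 10), (nat_lit 724), (nat_lit 6), (nat_lit 725)⟩)
 (.leaf ⟨(nat_lit 1), (nat_lit 10), (nat_lit 726), (nat_lit 9), (nat_lit 727)⟩)))))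
 (.node (nat_lit 464) (.node (nat_lit 461) (.node (nat_lit 460) (.leaf ⟨(nat_lit 1), (nat_lit 10), (nat_lit 728), (nat_lit 6), (nat_lit 729)⟩)
 (.leaf ⟨(nat_lit 1), (nat_lit 10), (nat_lit 730), (nat_lit 6), (nat_lit 731)⟩))
 (.node (nat_lit 462) (.leaf ⟨(nat_lit 1), (nat_lit 10), (nat_lit 732), (nat_lit 9), (nat_lit 733)⟩)
 (.node (nat_lit 463) (.leaf ⟨(nat_lit 0), (nat_lit 10), (nat_lit 734), (nat_lit 0), (nat_lit 0)⟩)
 (.leaf ⟨(nat_lit 0), (nat_lit 10), (nat_lit 735), (nat_lit 0), (nat_lit 0)⟩))))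
 (.node (nat_lit 467) (.node (nat_lit 465) (.leaf ⟨(nat_lit 0), (nat_lit 10), (nat_lit 736), (nat_lit 0), (nat_lit 0)⟩)
 (.node (nat_lit 466) (.leaf ⟨(nat_lit 0), (nat_lit 10), (nat_lit 737), (nat_lit 0), (nat_lit 0)⟩)
 (.leaf ⟨(nat_lit 0), (nat_lit 10), (nat_lit 738), (nat_lit 0), (nat_lit 0)⟩)))
 (.node (nat_lit 468) (.leaf ⟨(nat_lit 0), (nat_lit 10), (nat_lit 739), (nat_lit 0), (nat_lit 0)⟩)
 (.node (nat_lit 469) (.leaf ⟨(nat_lit 0), (nat_lit 10), (nat_lit 740), (nat_lit 0), (nat_lit 0)⟩)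
 (.leaf ⟨(nat_lit 1), (nat_lit 5), (nat_lit 741), (nat_lit 10), (nat_lit 742)⟩)))))))
 (.node (nat_lit 491) (.node (nat_lit 480) (.node (nat_lit 475) (.node (nat_lit 472) (.node (nat_lit 471) (.leaf ⟨(nat_lit 1), (nat_lit 10), (nat_lit 743), (nat_lit 10), (nat_lit 744)⟩)
 (.leaf ⟨(nat_lit 1), (nat_lit 10), (nat_lit 745), (nat_lit 10), (nat_lit 746)⟩))
 (.node (nat_lit 473) (.leaf ⟨(nat_lit 1), (nat_lit 10), (nat_lit 747), (nat_lit 10), (nat_lit 748)⟩)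
 (.node (nat_lit 474) (.leaf ⟨(nat_lit 1), (nat_lit 10), (nat_lit 749), (nat_lit 10), (nat_lit 750)⟩)
 (.leaf ⟨(nat_lit 1), (nat_lit 10), (nat_lit 751), (nat_lit 10), (nat_lit 752)⟩))))
 (.node (nat_lit 477) (.node (nat_lit 476) (.leaf ⟨(nat_lit 1), (nat_lit 10), (nat_lit 753), (nat_lit 10), (nat_lit 754)⟩)
 (.leaf ⟨(nat_lit 1), (nat_lit 10), (nat_lit 755), (nat_lit 10), (nat_lit 756)⟩))
 (.node (nat_lit 478) (.leaf ⟨(nat_lit 1), (nat_lit 4), (nat_lit 757), (nat_lit 11), (nat_lit 0)⟩)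
 (.node (nat_lit 479) (.leaf ⟨(nat_lit 0), (nat_lit 11), (nat_lit 758), (nat_lit 0), (nat_lit 0)⟩)
 (.leaf ⟨(nat_lit 0), (nat_lit 11), (nat_lit 759), (nat_lit 0), (nat_lit 0)⟩)))))
 (.node (nat_lit 485) (.node (nat_lit 482) (.node (nat_lit 481) (.leaf ⟨(nat_lit 0), (nat_lit 11), (nat_lit 760), (nat_lit 0), (nat_lit 0)⟩)
 (.leaf ⟨(nat_lit 0), (nat_lit 11), (nat_lit 761), (nat_lit 0), (nat_lit 0)⟩))
 (.node (nat_lit 483) (.leaf ⟨(nat_lit 0), (nat_lit 11), (nat_lit 762), (nat_lit 0), (nat_lit 0)⟩)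
 (.node (nat_lit 484) (.leaf ⟨(nat_lit 0), (nat_lit 11), (nat_lit 763), (nat_lit 0), (nat_lit 0)⟩)
 (.leaf ⟨(nat_lit 0), (nat_lit 11), (nat_lit 764), (nat_lit 0), (nat_lit 0)⟩))))
 (.node (nat_lit 488) (.node (nat_lit 486) (.leaf ⟨(nat_lit 0), (nat_lit 11), (nat_lit 765), (nat_lit 0), (nat_lit 0)⟩)
 (.node (nat_lit 487) (.leaf ⟨(nat_lit 0), (nat_lit 11), (nat_lit 766), (nat_lit 0), (nat_lit 0)⟩)
 (.leaf ⟨(nat_lit 0), (nat_lit 11), (nat_lit 767), (nat_lit 0), (nat_lit 0)⟩)))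
 (.node (nat_lit 489) (.leaf ⟨(nat_lit 0), (nat_lit 11), (nat_lit 768), (nat_lit 0), (nat_lit 0)⟩)
 (.node (nat_lit 490) (.leaf ⟨(nat_lit 0), (nat_lit 11), (nat_lit 769), (nat_lit 0), (nat_lit 0)⟩)
 (.leaf ⟨(nat_lit 1), (nat_lit 11), (nat_lit 770), (nat_lit 11), (nat_lit 771)⟩))))))
 (.node (nat_lit 502) (.node (nat_lit 496) (.node (nat_lit 493) (.node (nat_lit 492) (.leaf ⟨(nat_lit 1), (nat_lit 11), (nat_lit 772), (nat_lit 8), (nat_lit 773)⟩)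
 (.leaf ⟨(nat_lit 1), (nat_lit 11), (nat_lit 774), (nat_lit 8), (nat_lit 775)⟩))
 (.node (nat_lit 494) (.leaf ⟨(nat_lit 1), (nat_lit 11), (nat_lit 776), (nat_lit 8), (nat_lit 777)⟩)
 (.node (nat_lit 495) (.leaf ⟨(nat_lit 1), (nat_lit 11), (nat_lit 778), (nat_lit 9), (nat_lit 779)⟩)
 (.leaf ⟨(nat_lit 1), (nat_lit 11), (nat_lit 780), (nat_lit 6), (nat_lit 781)⟩))))
 (.node (nat_lit 499) (.node (nat_lit 497) (.leaf ⟨(nat_lit 1), (nat_lit 11), (nat_lit 782), (nat_lit 9), (nat_lit 783)⟩)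
 (.node (nat_lit 498) (.leaf ⟨(nat_lit 1), (nat_lit 11), (nat_lit 784), (nat_lit 11), (nat_lit 785)⟩)
 (.leaf ⟨(nat_lit 1), (nat_lit 11), (nat_lit 786), (nat_lit 9), (nat_lit 787)⟩)))
 (.node (nat_lit 500) (.leaf ⟨(nat_lit 1), (nat_lit 11), (nat_lit 788), (nat_lit 8), (nat_lit 789)⟩)
 (.node (nat_lit 501) (.leaf ⟨(nat_lit 1), (nat_lit 11), (nat_lit 790), (nat_lit 9), (nat_lit 791)⟩)
 (.leaf ⟨(nat_lit 1), (nat_lit 11), (nat_lit 792), (nat_lit 11), (nat_lit 793)⟩)))))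
 (.node (nat_lit 507) (.node (nat_lit 504) (.node (nat_lit 503) (.leaf ⟨(nat_lit 1), (nat_lit 11), (nat_lit 794), (nat_lit 9), (nat_lit 795)⟩)
 (.leaf ⟨(nat_lit 1), (nat_lit 11), (nat_lit 796), (nat_lit 9), (nat_lit 797)⟩))
 (.node (nat_lit 505) (.leaf ⟨(nat_lit 1), (nat_lit 11), (nat_lit 798), (nat_lit 4), (nat_lit 799)⟩)
 (.node (nat_lit 506) (.leaf ⟨(nat_lit 1), (nat_lit 11), (nat_lit 800), (nat_lit 9), (nat_lit 801)⟩)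
 (.leaf ⟨(nat_lit 1), (nat_lit 11), (nat_lit 802), (nat_lit 4), (nat_lit 803)⟩))))
 (.node (nat_lit 510) (.node (nat_lit 508) (.leaf ⟨(nat_lit 0), (nat_lit 11), (nat_lit 804), (nat_lit 0), (nat_lit 0)⟩)
 (.node (nat_lit 509) (.leaf ⟨(nat_lit 0), (nat_lit 11), (nat_lit 805), (nat_lit 0), (nat_lit 0)⟩)
 (.leaf ⟨(nat_lit 0), (nat_lit 11), (nat_lit 806), (nat_lit 0), (nat_lit 0)⟩)))
 (.node (nat_lit 511) (.leaf ⟨(nat_lit 0), (nat_lit 11), (nat_lit 807), (nat_lit 0), (nat_lit 0)⟩)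
 (.node (nat_lit 512) (.leaf ⟨(nat_lit 0), (nat_lit 11), (nat_lit 808), (nat_lit 0), (nat_lit 0)⟩)
 (.leaf ⟨(nat_lit 0), (nat_lit 11), (nat_lit 809), (nat_lit 0), (nat_lit 0)⟩)))))))))
 (.node (nat_lit 598) (.node (nat_lit 555) (.node (nat_lit 534) (.node (nat_lit 523) (.node (nat_lit 518) (.node (nat_lit 515) (.node (nat_lit 514) (.leaf ⟨(nat_lit 0), (nat_lit 11), (nat_lit 810), (nat_lit 0), (nat_lit 0)⟩)
 (.leaf ⟨(nat_lit 0), (nat_lit 11), (nat_lit 811), (nat_lit 0), (nat_lit 0)⟩))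
 (.node (nat_lit 516) (.leaf ⟨(nat_lit 1), (nat_lit 0), (nat_lit 812), (nat_lit 1), (nat_lit 813)⟩)
 (.node (nat_lit 517) (.leaf ⟨(nat_lit 1), (nat_lit 1), (nat_lit 814), (nat_lit 0), (nat_lit 815)⟩)
 (.leaf ⟨(nat_lit 1), (nat_lit 2), (nat_lit 816), (nat_lit 0), (nat_lit 817)⟩))))
 (.node (nat_lit 520) (.node (nat_lit 519) (.leaf ⟨(nat_lit 1), (nat_lit 2), (nat_lit 818), (nat_lit 1), (nat_lit 819)⟩)
 (.leaf ⟨(nat_lit 1), (nat_lit 3), (nat_lit 820), (nat_lit 2), (nat_lit 821)⟩))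
 (.node (nat_lit 521) (.leaf ⟨(nat_lit 1), (nat_lit 3), (nat_lit 822), (nat_lit 2), (nat_lit 823)⟩)
 (.node (nat_lit 522) (.leaf ⟨(nat_lit 1), (nat_lit 3), (nat_lit 824), (nat_lit 6), (nat_lit 825)⟩)
 (.leaf ⟨(nat_lit 1), (nat_lit 3), (nat_lit 826), (nat_lit 4), (nat_lit 827)⟩)))))
 (.node (nat_lit 528) (.node (nat_lit 525) (.node (nat_lit 524) (.leaf ⟨(nat_lit 1), (nat_lit 3), (nat_lit 828), (nat_lit 7), (nat_lit 829)⟩)
 (.leaf ⟨(nat_lit 1), (nat_lit 4), (nat_lit 830), (nat_lit 11), (nat_lit 831)⟩))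
 (.node (nat_lit 526) (.leaf ⟨(nat_lit 1), (nat_lit 5), (nat_lit 832), (nat_lit 7), (nat_lit 833)⟩)
 (.node (nat_lit 527) (.leaf ⟨(nat_lit 1), (nat_lit 6), (nat_lit 834), (nat_lit 2), (nat_lit 835)⟩)
 (.leaf ⟨(nat_lit 1), (nat_lit 6), (nat_lit 836), (nat_lit 9), (nat_lit 837)⟩))))
 (.node (nat_lit 531) (.node (nat_lit 529) (.leaf ⟨(nat_lit 1), (nat_lit 6), (nat_lit 838), (nat_lit 8), (nat_lit 839)⟩)
 (.node (nat_lit 530) (.leaf ⟨(nat_lit 1), (nat_lit 6), (nat_lit 840), (nat_lit 9), (nat_lit 841)⟩)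
 (.leaf ⟨(nat_lit 1), (nat_lit 6), (nat_lit 842), (nat_lit 11), (nat_lit 843)⟩)))
 (.node (nat_lit 532) (.leaf ⟨(nat_lit 1), (nat_lit 6), (nat_lit 844), (nat_lit 9), (nat_lit 845)⟩)
 (.node (nat_lit 533) (.leaf ⟨(nat_lit 1), (nat_lit 6), (nat_lit 846), (nat_lit 10), (nat_lit 847)⟩)
 (.leaf ⟨(nat_lit 1), (nat_lit 6), (nat_lit 848), (nat_lit 9), (nat_lit 849)⟩))))))
 (.node (nat_lit 544) (.node (nat_lit 539) (.node (nat_lit 536) (.node (nat_lit 535) (.leaf ⟨(nat_lit 1), (nat_lit 6), (nat_lit 850), (nat_lit 10), (nat_lit 851)⟩)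
 (.leaf ⟨(nat_lit 1), (nat_lit 6), (nat_lit 852), (nat_lit 6), (nat_lit 853)⟩))
 (.node (nat_lit 537) (.leaf ⟨(nat_lit 1), (nat_lit 6), (nat_lit 854), (nat_lit 7), (nat_lit 855)⟩)
 (.node (nat_lit 538) (.leaf ⟨(nat_lit 1), (nat_lit 6), (nat_lit 856), (nat_lit 7), (nat_lit 857)⟩)
 (.leaf ⟨(nat_lit 1), (nat_lit 6), (nat_lit 858), (nat_lit 10), (nat_lit 859)⟩))))
 (.node (nat_lit 541) (.node (nat_lit 540) (.leaf ⟨(nat_lit 1), (nat_lit 6), (nat_lit 860), (nat_lit 6), (nat_lit 861)⟩)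
 (.leaf ⟨(nat_lit 1), (nat_lit 6), (nat_lit 862), (nat_lit 10), (nat_lit 863)⟩))
 (.node (nat_lit 542) (.leaf ⟨(nat_lit 1), (nat_lit 6), (nat_lit 864), (nat_lit 5), (nat_lit 865)⟩)
 (.node (nat_lit 543) (.leaf ⟨(nat_lit 1), (nat_lit 6), (nat_lit 866), (nat_lit 5), (nat_lit 867)⟩)
 (.leaf ⟨(nat_lit 1), (nat_lit 6), (nat_lit 868), (nat_lit 4), (nat_lit 869)⟩)))))
 (.node (nat_lit 549) (.node (nat_lit 546) (.node (nat_lit 545) (.leaf ⟨(nat_lit 1), (nat_lit 7), (nat_lit 870), (nat_lit 3), (nat_lit 871)⟩)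
 (.leaf ⟨(nat_lit 1), (nat_lit 7), (nat_lit 872), (nat_lit 7), (nat_lit 873)⟩))
 (.node (nat_lit 547) (.leaf ⟨(nat_lit 1), (nat_lit 7), (nat_lit 874), (nat_lit 9), (nat_lit 875)⟩)
 (.node (nat_lit 548) (.leaf ⟨(nat_lit 1), (nat_lit 8), (nat_lit 876), (nat_lit 4), (nat_lit 877)⟩)
 (.leaf ⟨(nat_lit 1), (nat_lit 8), (nat_lit 878), (nat_lit 6), (nat_lit 879)⟩))))
 (.node (nat_lit 552) (.node (nat_lit 550) (.leaf ⟨(nat_lit 1), (nat_lit 8), (nat_lit 880), (nat_lit 6), (nat_lit 881)⟩)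
 (.node (nat_lit 551) (.leaf ⟨(nat_lit 1), (nat_lit 8), (nat_lit 882), (nat_lit 7), (nat_lit 883)⟩)
 (.leaf ⟨(nat_lit 1), (nat_lit 8), (nat_lit 884), (nat_lit 7), (nat_lit 885)⟩)))
 (.node (nat_lit 553) (.leaf ⟨(nat_lit 1), (nat_lit 8), (nat_lit 886), (nat_lit 7), (nat_lit 887)⟩)
 (.node (nat_lit 554) (.leaf ⟨(nat_lit 1), (nat_lit 8), (nat_lit 888), (nat_lit 8), (nat_lit 889)⟩)
 (.leaf ⟨(nat_lit 1), (nat_lit 8), (nat_lit 890), (nat_lit 11), (nat_lit 891)⟩)))))))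
 (.node (nat_lit 576) (.node (nat_lit 565) (.node (nat_lit 560) (.node (nat_lit 557) (.node (nat_lit 556) (.leaf ⟨(nat_lit 1), (nat_lit 8), (nat_lit 892), (nat_lit 8), (nat_lit 893)⟩)
 (.leaf ⟨(nat_lit 1), (nat_lit 8), (nat_lit 894), (nat_lit 6), (nat_lit 895)⟩))
 (.node (nat_lit 558) (.leaf ⟨(nat_lit 1), (nat_lit 8), (nat_lit 896), (nat_lit 6), (nat_lit 897)⟩)
 (.node (nat_lit 559) (.leaf ⟨(nat_lit 1), (nat_lit 8), (nat_lit 898), (nat_lit 11), (nat_lit 899)⟩)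
 (.leaf ⟨(nat_lit 1), (nat_lit 8), (nat_lit 900), (nat_lit 10), (nat_lit 901)⟩))))
 (.node (nat_lit 562) (.node (nat_lit 561) (.leaf ⟨(nat_lit 1), (nat_lit 8), (nat_lit 902), (nat_lit 4), (nat_lit 903)⟩)
 (.leaf ⟨(nat_lit 1), (nat_lit 8), (nat_lit 904), (nat_lit 11), (nat_lit 905)⟩))
 (.node (nat_lit 563) (.leaf ⟨(nat_lit 1), (nat_lit 9), (nat_lit 906), (nat_lit 3), (nat_lit 907)⟩)
 (.node (nat_lit 564) (.leaf ⟨(nat_lit 1), (nat_lit 9), (nat_lit 908), (nat_lit 6), (nat_lit 909)⟩)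
 (.leaf ⟨(nat_lit 1), (nat_lit 9), (nat_lit 910), (nat_lit 7), (nat_lit 911)⟩)))))
 (.node (nat_lit 570) (.node (nat_lit 567) (.node (nat_lit 566) (.leaf ⟨(nat_lit 1), (nat_lit 9), (nat_lit 912), (nat_lit 8), (nat_lit 913)⟩)
 (.leaf ⟨(nat_lit 1), (nat_lit 9), (nat_lit 914), (nat_lit 8), (nat_lit 915)⟩))
 (.node (nat_lit 568) (.leaf ⟨(nat_lit 1), (nat_lit 9), (nat_lit 916), (nat_lit 8), (nat_lit 917)⟩)
 (.node (nat_lit 569) (.leaf ⟨(nat_lit 1), (nat_lit 9), (nat_lit 918), (nat_lit 8), (nat_lit 919)⟩)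
 (.leaf ⟨(nat_lit 1), (nat_lit 9), (nat_lit 920), (nat_lit 8), (nat_lit 921)⟩))))
 (.node (nat_lit 573) (.node (nat_lit 571) (.leaf ⟨(nat_lit 1), (nat_lit 9), (nat_lit 922), (nat_lit 8), (nat_lit 923)⟩)
 (.node (nat_lit 572) (.leaf ⟨(nat_lit 1), (nat_lit 9), (nat_lit 924), (nat_lit 8), (nat_lit 925)⟩)
 (.leaf ⟨(nat_lit 1), (nat_lit 9), (nat_lit 926), (nat_lit 8), (nat_lit 927)⟩)))
 (.node (nat_lit 574) (.leaf ⟨(nat_lit 1), (nat_lit 9), (nat_lit 928), (nat_lit 8), (nat_lit 929)⟩)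
 (.node (nat_lit 575) (.leaf ⟨(nat_lit 1), (nat_lit 9), (nat_lit 930), (nat_lit 8), (nat_lit 931)⟩)
 (.leaf ⟨(nat_lit 1), (nat_lit 9), (nat_lit 932), (nat_lit 8), (nat_lit 933)⟩))))))
 (.node (nat_lit 587) (.node (nat_lit 581) (.node (nat_lit 578) (.node (nat_lit 577) (.leaf ⟨(nat_lit 1), (nat_lit 9), (nat_lit 934), (nat_lit 8), (nat_lit 935)⟩)
 (.leaf ⟨(nat_lit 1), (nat_lit 9), (nat_lit 936), (nat_lit 8), (nat_lit 937)⟩))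
 (.node (nat_lit 579) (.leaf ⟨(nat_lit 1), (nat_lit 9), (nat_lit 938), (nat_lit 9), (nat_lit 939)⟩)
 (.node (nat_lit 580) (.leaf ⟨(nat_lit 1), (nat_lit 9), (nat_lit 940), (nat_lit 9), (nat_lit 941)⟩)
 (.leaf ⟨(nat_lit 1), (nat_lit 9), (nat_lit 942), (nat_lit 9), (nat_lit 943)⟩))))
 (.node (nat_lit 584) (.node (nat_lit 582) (.leaf ⟨(nat_lit 1), (nat_lit 9), (nat_lit 944), (nat_lit 9), (nat_lit 945)⟩)
 (.node (nat_lit 583) (.leaf ⟨(nat_lit 1), (nat_lit 9), (nat_lit 946), (nat_lit 9), (nat_lit 947)⟩)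
 (.leaf ⟨(nat_lit 1), (nat_lit 9), (nat_lit 948), (nat_lit 9), (nat_lit 949)⟩)))
 (.node (nat_lit 585) (.leaf ⟨(nat_lit 1), (nat_lit 9), (nat_lit 950), (nat_lit 6), (nat_lit 951)⟩)
 (.node (nat_lit 586) (.leaf ⟨(nat_lit 1), (nat_lit 9), (nat_lit 952), (nat_lit 6), (nat_lit 953)⟩)
 (.leaf ⟨(nat_lit 1), (nat_lit 9), (nat_lit 954), (nat_lit 8), (nat_lit 955)⟩)))))
 (.node (nat_lit 592) (.node (nat_lit 589) (.node (nat_lit 588) (.leaf ⟨(nat_lit 1), (nat_lit 9), (nat_lit 956), (nat_lit 6), (nat_lit 957)⟩)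
 (.leaf ⟨(nat_lit 1), (nat_lit 9), (nat_lit 958), (nat_lit 6), (nat_lit 959)⟩))
 (.node (nat_lit 590) (.leaf ⟨(nat_lit 1), (nat_lit 9), (nat_lit 960), (nat_lit 6), (nat_lit 961)⟩)
 (.node (nat_lit 591) (.leaf ⟨(nat_lit 1), (nat_lit 9), (nat_lit 962), (nat_lit 11), (nat_lit 963)⟩)
 (.leaf ⟨(nat_lit 1), (nat_lit 9), (nat_lit 964), (nat_lit 6), (nat_lit 965)⟩))))
 (.node (nat_lit 595) (.node (nat_lit 593) (.leaf ⟨(nat_lit 1), (nat_lit 9), (nat_lit 966), (nat_lit 6), (nat_lit 967)⟩)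
 (.node (nat_lit 594) (.leaf ⟨(nat_lit 1), (nat_lit 9), (nat_lit 968), (nat_lit 11), (nat_lit 969)⟩)
 (.leaf ⟨(nat_lit 1), (nat_lit 9), (nat_lit 970), (nat_lit 6), (nat_lit 971)⟩)))
 (.node (nat_lit 596) (.leaf ⟨(nat_lit 1), (nat_lit 9), (nat_lit 972), (nat_lit 6), (nat_lit 973)⟩)
 (.node (nat_lit 597) (.leaf ⟨(nat_lit 1), (nat_lit 9), (nat_lit 974), (nat_lit 9), (nat_lit 975)⟩)
 (.leaf ⟨(nat_lit 1), (nat_lit 9), (nat_lit 976), (nat_lit 9), (nat_lit 977)⟩))))))))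
 (.node (nat_lit 641) (.node (nat_lit 619) (.node (nat_lit 608) (.node (nat_lit 603) (.node (nat_lit 600) (.node (nat_lit 599) (.leaf ⟨(nat_lit 1), (nat_lit 9), (nat_lit 978), (nat_lit 9), (nat_lit 979)⟩)
 (.leaf ⟨(nat_lit 1), (nat_lit 9), (nat_lit 980), (nat_lit 6), (nat_lit 981)⟩))
 (.node (nat_lit 601) (.leaf ⟨(nat_lit 1), (nat_lit 9), (nat_lit 982), (nat_lit 8), (nat_lit 983)⟩)
 (.node (nat_lit 602) (.leaf ⟨(nat_lit 1), (nat_lit 9), (nat_lit 984), (nat_lit 11), (nat_lit 985)⟩)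
 (.leaf ⟨(nat_lit 1), (nat_lit 9), (nat_lit 986), (nat_lit 7), (nat_lit 987)⟩))))
 (.node (nat_lit 605) (.node (nat_lit 604) (.leaf ⟨(nat_lit 1), (nat_lit 9), (nat_lit 988), (nat_lit 6), (nat_lit 989)⟩)
 (.leaf ⟨(nat_lit 1), (nat_lit 9), (nat_lit 990), (nat_lit 9), (nat_lit 991)⟩))
 (.node (nat_lit 606) (.leaf ⟨(nat_lit 1), (nat_lit 9), (nat_lit 992), (nat_lit 7), (nat_lit 993)⟩)
 (.node (nat_lit 607) (.leaf ⟨(nat_lit 1), (nat_lit 9), (nat_lit 994), (nat_lit 6), (nat_lit 995)⟩)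
 (.leaf ⟨(nat_lit 1), (nat_lit 9), (nat_lit 996), (nat_lit 7), (nat_lit 997)⟩)))))
 (.node (nat_lit 613) (.node (nat_lit 610) (.node (nat_lit 609) (.leaf ⟨(nat_lit 1), (nat_lit 9), (nat_lit 998), (nat_lit 5), (nat_lit 999)⟩)
 (.leaf ⟨(nat_lit 1), (nat_lit 9), (nat_lit 1000), (nat_lit 4), (nat_lit 1001)⟩))
 (.node (nat_lit 611) (.leaf ⟨(nat_lit 1), (nat_lit 9), (nat_lit 1002), (nat_lit 6), (nat_lit 1003)⟩)
 (.node (nat_lit 612) (.leaf ⟨(nat_lit 1), (nat_lit 9), (nat_lit 1004), (nat_lit 3), (nat_lit 1005)⟩)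
 (.leaf ⟨(nat_lit 1), (nat_lit 9), (nat_lit 1006), (nat_lit 5), (nat_lit 1007)⟩))))
 (.node (nat_lit 616) (.node (nat_lit 614) (.leaf ⟨(nat_lit 1), (nat_lit 10), (nat_lit 1008), (nat_lit 3), (nat_lit 1009)⟩)
 (.node (nat_lit 615) (.leaf ⟨(nat_lit 1), (nat_lit 10), (nat_lit 1010), (nat_lit 4), (nat_lit 1011)⟩)
 (.leaf ⟨(nat_lit 1), (nat_lit 10), (nat_lit 1012), (nat_lit 5), (nat_lit 1013)⟩)))
 (.node (nat_lit 617) (.leaf ⟨(nat_lit 1), (nat_lit 10), (nat_lit 1014), (nat_lit 6), (nat_lit 1015)⟩)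
 (.node (nat_lit 618) (.leaf ⟨(nat_lit 1), (nat_lit 10), (nat_lit 1016), (nat_lit 7), (nat_lit 1017)⟩)
 (.leaf ⟨(nat_lit 1), (nat_lit 10), (nat_lit 1018), (nat_lit 7), (nat_lit 1019)⟩))))))
 (.node (nat_lit 630) (.node (nat_lit 624) (.node (nat_lit 621) (.node (nat_lit 620) (.leaf ⟨(nat_lit 1), (nat_lit 10), (nat_lit 1020), (nat_lit 7), (nat_lit 1021)⟩)
 (.leaf ⟨(nat_lit 1), (nat_lit 10), (nat_lit 1022), (nat_lit 9), (nat_lit 1023)⟩))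
 (.node (nat_lit 622) (.leaf ⟨(nat_lit 1), (nat_lit 10), (nat_lit 1024), (nat_lit 9), (nat_lit 1025)⟩)
 (.node (nat_lit 623) (.leaf ⟨(nat_lit 1), (nat_lit 10), (nat_lit 1026), (nat_lit 9), (nat_lit 1027)⟩)
 (.leaf ⟨(nat_lit 1), (nat_lit 10), (nat_lit 1028), (nat_lit 5), (nat_lit 1029)⟩))))
 (.node (nat_lit 627) (.node (nat_lit 625) (.leaf ⟨(nat_lit 0), (nat_lit 0), (nat_lit 1030), (nat_lit 0), (nat_lit 0)⟩)
 (.node (nat_lit 626) (.leaf ⟨(nat_lit 0), (nat_lit 0), (nat_lit 1031), (nat_lit 0), (nat_lit 0)⟩)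
 (.leaf ⟨(nat_lit 0), (nat_lit 0), (nat_lit 1032), (nat_lit 0), (nat_lit 0)⟩)))
 (.node (nat_lit 628) (.leaf ⟨(nat_lit 0), (nat_lit 0), (nat_lit 1033), (nat_lit 0), (nat_lit 0)⟩)
 (.node (nat_lit 629) (.leaf ⟨(nat_lit 0), (nat_lit 0), (nat_lit 1034), (nat_lit 0), (nat_lit 0)⟩)
 (.leaf ⟨(nat_lit 0), (nat_lit 1), (nat_lit 1035), (nat_lit 0), (nat_lit 0)⟩)))))
 (.node (nat_lit 635) (.node (nat_lit 632) (.node (nat_lit 631) (.leaf ⟨(nat_lit 0), (nat_lit 1), (nat_lit 1036), (nat_lit 0), (nat_lit 0)⟩)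
 (.leaf ⟨(nat_lit 0), (nat_lit 1), (nat_lit 1037), (nat_lit 0), (nat_lit 0)⟩))
 (.node (nat_lit 633) (.leaf ⟨(nat_lit 0), (nat_lit 1), (nat_lit 1038), (nat_lit 0), (nat_lit 0)⟩)
 (.node (nat_lit 634) (.leaf ⟨(nat_lit 0), (nat_lit 1), (nat_lit 1039), (nat_lit 0), (nat_lit 0)⟩)
 (.leaf ⟨(nat_lit 0), (nat_lit 2), (nat_lit 1040), (nat_lit 0), (nat_lit 0)⟩))))
 (.node (nat_lit 638) (.node (nat_lit 636) (.leaf ⟨(nat_lit 0), (nat_lit 2), (nat_lit 1041), (nat_lit 0), (nat_lit 0)⟩)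
 (.node (nat_lit 637) (.leaf ⟨(nat_lit 0), (nat_lit 2), (nat_lit 1042), (nat_lit 0), (nat_lit 0)⟩)
 (.leaf ⟨(nat_lit 0), (nat_lit 2), (nat_lit 1043), (nat_lit 0), (nat_lit 0)⟩)))
 (.node (nat_lit 639) (.leaf ⟨(nat_lit 0), (nat_lit 2), (nat_lit 1044), (nat_lit 0), (nat_lit 0)⟩)
 (.node (nat_lit 640) (.leaf ⟨(nat_lit 0), (nat_lit 3), (nat_lit 1045), (nat_lit 0), (nat_lit 0)⟩)
 (.leaf ⟨(nat_lit 0), (nat_lit 3), (nat_lit 1046), (nat_lit 0), (nat_lit 0)⟩)))))))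
 (.node (nat_lit 662) (.node (nat_lit 651) (.node (nat_lit 646) (.node (nat_lit 643) (.node (nat_lit 642) (.leaf ⟨(nat_lit 0), (nat_lit 3), (nat_lit 1047), (nat_lit 0), (nat_lit 0)⟩)
 (.leaf ⟨(nat_lit 0), (nat_lit 3), (nat_lit 1048), (nat_lit 0), (nat_lit 0)⟩))
 (.node (nat_lit 644) (.leaf ⟨(nat_lit 0), (nat_lit 3), (nat_lit 1049), (nat_lit 0), (nat_lit 0)⟩)
 (.node (nat_lit 645) (.leaf ⟨(nat_lit 0), (nat_lit 4), (nat_lit 1050), (nat_lit 0), (nat_lit 0)⟩)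
 (.leaf ⟨(nat_lit 0), (nat_lit 4), (nat_lit 1051), (nat_lit 0), (nat_lit 0)⟩))))
 (.node (nat_lit 648) (.node (nat_lit 647) (.leaf ⟨(nat_lit 0), (nat_lit 4), (nat_lit 1052), (nat_lit 0), (nat_lit 0)⟩)
 (.leaf ⟨(nat_lit 0), (nat_lit 4), (nat_lit 1053), (nat_lit 0), (nat_lit 0)⟩))
 (.node (nat_lit 649) (.leaf ⟨(nat_lit 0), (nat_lit 4), (nat_lit 1054), (nat_lit 0), (nat_lit 0)⟩)
 (.node (nat_lit 650) (.leaf ⟨(nat_lit 0), (nat_lit 5), (nat_lit 1055), (nat_lit 0), (nat_lit 0)⟩)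
 (.leaf ⟨(nat_lit 0), (nat_lit 5), (nat_lit 1056), (nat_lit 0), (nat_lit 0)⟩)))))
 (.node (nat_lit 656) (.node (nat_lit 653) (.node (nat_lit 652) (.leaf ⟨(nat_lit 0), (nat_lit 5), (nat_lit 1057), (nat_lit 0), (nat_lit 0)⟩)
 (.leaf ⟨(nat_lit 0), (nat_lit 5), (nat_lit 1058), (nat_lit 0), (nat_lit 0)⟩))
 (.node (nat_lit 654) (.leaf ⟨(nat_lit 0), (nat_lit 5), (nat_lit 1059), (nat_lit 0), (nat_lit 0)⟩)
 (.node (nat_lit 655) (.leaf ⟨(nat_lit 0), (nat_lit 6), (nat_lit 1060), (nat_lit 0), (nat_lit 0)⟩)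
 (.leaf ⟨(nat_lit 0), (nat_lit 6), (nat_lit 1061), (nat_lit 0), (nat_lit 0)⟩))))
 (.node (nat_lit 659) (.node (nat_lit 657) (.leaf ⟨(nat_lit 0), (nat_lit 6), (nat_lit 1062), (nat_lit 0), (nat_lit 0)⟩)
 (.node (nat_lit 658) (.leaf ⟨(nat_lit 0), (nat_lit 6), (nat_lit 1063), (nat_lit 0), (nat_lit 0)⟩)
 (.leaf ⟨(nat_lit 0), (nat_lit 6), (nat_lit 1064), (nat_lit 0), (nat_lit 0)⟩)))
 (.node (nat_lit 660) (.leaf ⟨(nat_lit 0), (nat_lit 7), (nat_lit 1065), (nat_lit 0), (nat_lit 0)⟩)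
 (.node (nat_lit 661) (.leaf ⟨(nat_lit 0), (nat_lit 7), (nat_lit 1066), (nat_lit 0), (nat_lit 0)⟩)
 (.leaf ⟨(nat_lit 0), (nat_lit 7), (nat_lit 1067), (nat_lit 0), (nat_lit 0)⟩))))))
 (.node (nat_lit 673) (.node (nat_lit 667) (.node (nat_lit 664) (.node (nat_lit 663) (.leaf ⟨(nat_lit 0), (nat_lit 7), (nat_lit 1068), (nat_lit 0), (nat_lit 0)⟩)
 (.leaf ⟨(nat_lit 0), (nat_lit 7), (nat_lit 1069), (nat_lit 0), (nat_lit 0)⟩))
 (.node (nat_lit 665) (.leaf ⟨(nat_lit 0), (nat_lit 8), (nat_lit 1070), (nat_lit 0), (nat_lit 0)⟩)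
 (.node (nat_lit 666) (.leaf ⟨(nat_lit 0), (nat_lit 8), (nat_lit 1071), (nat_lit 0), (nat_lit 0)⟩)
 (.leaf ⟨(nat_lit 0), (nat_lit 8), (nat_lit 1072), (nat_lit 0), (nat_lit 0)⟩))))
 (.node (nat_lit 670) (.node (nat_lit 668) (.leaf ⟨(nat_lit 0), (nat_lit 8), (nat_lit 1073), (nat_lit 0), (nat_lit 0)⟩)
 (.node (nat_lit 669) (.leaf ⟨(nat_lit 0), (nat_lit 8), (nat_lit 1074), (nat_lit 0), (nat_lit 0)⟩)
 (.leaf ⟨(nat_lit 0), (nat_lit 9), (nat_lit 1075), (nat_lit 0), (nat_lit 0)⟩)))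
 (.node (nat_lit 671) (.leaf ⟨(nat_lit 0), (nat_lit 9), (nat_lit 1076), (nat_lit 0), (nat_lit 0)⟩)
 (.node (nat_lit 672) (.leaf ⟨(nat_lit 0), (nat_lit 9), (nat_lit 1077), (nat_lit 0), (nat_lit 0)⟩)
 (.leaf ⟨(nat_lit 0), (nat_lit 9), (nat_lit 1078), (nat_lit 0), (nat_lit 0)⟩)))))
 (.node (nat_lit 678) (.node (nat_lit 675) (.node (nat_lit 674) (.leaf ⟨(nat_lit 0), (nat_lit 9), (nat_lit 1079), (nat_lit 0), (nat_lit 0)⟩)
 (.leaf ⟨(nat_lit 0), (nat_lit 10), (nat_lit 1080), (nat_lit 0), (nat_lit 0)⟩))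
 (.node (nat_lit 676) (.leaf ⟨(nat_lit 0), (nat_lit 10), (nat_lit 1081), (nat_lit 0), (nat_lit 0)⟩)
 (.node (nat_lit 677) (.leaf ⟨(nat_lit 0), (nat_lit 10), (nat_lit 1082), (nat_lit 0), (nat_lit 0)⟩)
 (.leaf ⟨(nat_lit 0), (nat_lit 10), (nat_lit 1083), (nat_lit 0), (nat_lit 0)⟩))))
 (.node (nat_lit 681) (.node (nat_lit 679) (.leaf ⟨(nat_lit 0), (nat_lit 10), (nat_lit 1084), (nat_lit 0), (nat_lit 0)⟩)
 (.node (nat_lit 680) (.leaf ⟨(nat_lit 0), (nat_lit 11), (nat_lit 1085), (nat_lit 0), (nat_lit 0)⟩)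
 (.leaf ⟨(nat_lit 0), (nat_lit 11), (nat_lit 1086), (nat_lit 0), (nat_lit 0)⟩)))
 (.node (nat_lit 682) (.leaf ⟨(nat_lit 0), (nat_lit 11), (nat_lit 1087), (nat_lit 0), (nat_lit 0)⟩)
 (.node (nat_lit 683) (.leaf ⟨(nat_lit 0), (nat_lit 11), (nat_lit 1088), (nat_lit 0), (nat_lit 0)⟩)
 (.leaf ⟨(nat_lit 0), (nat_lit 11), (nat_lit 1089), (nat_lit 0), (nat_lit 0)⟩)))))))))))

def dcM : Ctx := ⟨dcME, dcMF, [(nat_lit 0, nat_lit 0), (nat_lit 0, nat_lit 13), (nat_lit 0, nat_lit 22), (nat_lit 1, nat_lit 51), (nat_lit 1, nat_lit 90), (nat_lit 2, nat_lit 135), (nat_lit 2, nat_lit 174), (nat_lit 2, nat_lit 223), (nat_lit 3, nat_lit 306), (nat_lit 3, nat_lit 409), (nat_lit 3, nat_lit 641), (nat_lit 4, nat_lit 757)], nat_lit 12288, true⟩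

def dcMgi : List (List ℕ) := [[nat_lit 624, nat_lit 625, nat_lit 626, nat_lit 627, nat_lit 628],
  [nat_lit 629, nat_lit 630, nat_lit 631, nat_lit 632, nat_lit 633],
  [nat_lit 634, nat_lit 635, nat_lit 636, nat_lit 637, nat_lit 638],
  [nat_lit 639, nat_lit 640, nat_lit 641, nat_lit 642, nat_lit 643],
  [nat_lit 644, nat_lit 645, nat_lit 646, nat_lit 647, nat_lit 648],
  [nat_lit 649, nat_lit 650, nat_lit 651, nat_lit 652, nat_lit 653],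
  [nat_lit 654, nat_lit 655, nat_lit 656, nat_lit 657, nat_lit 658],
  [nat_lit 659, nat_lit 660, nat_lit 661, nat_lit 662, nat_lit 663],
  [nat_lit 664, nat_lit 665, nat_lit 666, nat_lit 667, nat_lit 668],
  [nat_lit 669, nat_lit 670, nat_lit 671, nat_lit 672, nat_lit 673],
  [nat_lit 674, nat_lit 675, nat_lit 676, nat_lit 677, nat_lit 678],
  [nat_lit 679, nat_lit 680, nat_lit 681, nat_lit 682, nat_lit 683]]

def dcMri : List (List ℕ) := [[nat_lit 12, nat_lit 515, nat_lit 20],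
  [nat_lit 18, nat_lit 19, nat_lit 35, nat_lit 516, nat_lit 75, nat_lit 45],
  [nat_lit 517, nat_lit 88, nat_lit 138, nat_lit 59, nat_lit 44, nat_lit 58, nat_lit 169, nat_lit 108, nat_lit 34, nat_lit 518, nat_lit 33],
  [nat_lit 60, nat_lit 61, nat_lit 62, nat_lit 63, nat_lit 64, nat_lit 65, nat_lit 519, nat_lit 520, nat_lit 184, nat_lit 283, nat_lit 358, nat_lit 221, nat_lit 521, nat_lit 409, nat_lit 121, nat_lit 183, nat_lit 122, nat_lit 522, nat_lit 523, nat_lit 74, nat_lit 89],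
  [nat_lit 90, nat_lit 91, nat_lit 92, nat_lit 94, nat_lit 95, nat_lit 96, nat_lit 97, nat_lit 98, nat_lit 99, nat_lit 234, nat_lit 422, nat_lit 267, nat_lit 154, nat_lit 359, nat_lit 185, nat_lit 524, nat_lit 477],
  [nat_lit 123, nat_lit 124, nat_lit 125, nat_lit 127, nat_lit 128, nat_lit 129, nat_lit 156, nat_lit 525, nat_lit 360, nat_lit 155, nat_lit 469, nat_lit 361, nat_lit 186, nat_lit 423],
  [nat_lit 526, nat_lit 527, nat_lit 528, nat_lit 372, nat_lit 529, nat_lit 238, nat_lit 168, nat_lit 190, nat_lit 371, nat_lit 240, nat_lit 236, nat_lit 366, nat_lit 365, nat_lit 369, nat_lit 530, nat_lit 531, nat_lit 158, nat_lit 532, nat_lit 235, nat_lit 533, nat_lit 534, nat_lit 165, nat_lit 268, nat_lit 163, nat_lit 298, nat_lit 535, nat_lit 296, nat_lit 536, nat_lit 362, nat_lit 426, nat_lit 167, nat_lit 425, nat_lit 364, nat_lit 424, nat_lit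 537, nat_lit 161, nat_lit 370, nat_lit 538, nat_lit 297, nat_lit 368, nat_lit 539, nat_lit 269, nat_lit 239, nat_lit 374, nat_lit 540, nat_lit 159, nat_lit 237, nat_lit 367, nat_lit 166, nat_lit 164, nat_lit 373, nat_lit 363, nat_lit 541, nat_lit 157, nat_lit 189, nat_lit 188, nat_lit 153, nat_lit 162, nat_lit 160, nat_lit 187, nat_lit 542, nat_lit 152, nat_lit 543, nat_lit 151],
  [nat_lit 182, nat_lit 191, nat_lit 192, nat_lit 193, nat_lit 195, nat_lit 196, nat_lit 197, nat_lit 198, nat_lit 199, nat_lit 200, nat_lit 202, nat_lit 203, nat_lit 204, nat_lit 205, nat_lit 206, nat_lit 207, nat_lit 209, nat_lit 210, nat_lit 211, nat_lit 544, nat_lit 545, nat_lit 243, nat_lit 427, nat_lit 377, nat_lit 300, nat_lit 242, nat_lit 375, nat_lit 299, nat_lit 430, nat_lit 546, nat_lit 376, nat_lit 241, nat_lit 428, nat_lit 429, nat_lit 220],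
  [nat_lit 244, nat_lit 245, nat_lit 246, nat_lit 247, nat_lit 248, nat_lit 249, nat_lit 250, nat_lit 251, nat_lit 252, nat_lit 253, nat_lit 254, nat_lit 255, nat_lit 257, nat_lit 258, nat_lit 547, nat_lit 548, nat_lit 549, nat_lit 550, nat_lit 551, nat_lit 552, nat_lit 553, nat_lit 320, nat_lit 378, nat_lit 313, nat_lit 554, nat_lit 274, nat_lit 555, nat_lit 314, nat_lit 318, nat_lit 272, nat_lit 305, nat_lit 303, nat_lit 317, nat_lit 315, nat_lit 271, nat_lit 308, nat_lit 270, nat_lit 312, nat_lit 311, nat_lit 306, nat_lit 319, nat_lit 304, nat_lit 556, nat_lit 557, nat_lit 276, nat_lit 301, nat_lit 309, nat_lit 558, nat_lit 279, nat_lit 559, nat_lit 280, nat_lit 432, nat_lit 321, nat_lit 560, nat_lit 273, nat_lit 316, nat_lit 275, nat_lit 302, nat_lit 431, nat_lit 379, nat_lit 277, nat_lit 307, nat_lit 278, nat_lit 282, nat_lit 561, nat_lit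 310, nat_lit 433, nat_lit 281],
  [nat_lit 322, nat_lit 323, nat_lit 324, nat_lit 325, nat_lit 326, nat_lit 327, nat_lit 328, nat_lit 329, nat_lit 330, nat_lit 331, nat_lit 332, nat_lit 333, nat_lit 334, nat_lit 335, nat_lit 336, nat_lit 337, nat_lit 338, nat_lit 339, nat_lit 340, nat_lit 341, nat_lit 342, nat_lit 343, nat_lit 344, nat_lit 345, nat_lit 346, nat_lit 347, nat_lit 348, nat_lit 349, nat_lit 350, nat_lit 562, nat_lit 563, nat_lit 564, nat_lit 565, nat_lit 566, nat_lit 567, nat_lit 568, nat_lit 569, nat_lit 570, nat_lit 571, nat_lit 572, nat_lit 573, nat_lit 574, nat_lit 575, nat_lit 576, nat_lit 577, nat_lit 578, nat_lit 579, nat_lit 580, nat_lit 581, nat_lit 582, nat_lit 583, nat_lit 400, nat_lit 380, nat_lit 584, nat_lit 585, nat_lit 586, nat_lit 587, nat_lit 389, nat_lit 588, nat_lit 589, nat_lit 388, nat_lit 391, nat_lit 590,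 nat_lit 404, nat_lit 591, nat_lit 393, nat_lit 592, nat_lit 437, nat_lit 408, nat_lit 385, nat_lit 593, nat_lit 594, nat_lit 595, nat_lit 402, nat_lit 442, nat_lit 383, nat_lit 396, nat_lit 382, nat_lit 596, nat_lit 395, nat_lit 407, nat_lit 381, nat_lit 399, nat_lit 406, nat_lit 597, nat_lit 386, nat_lit 387, nat_lit 598, nat_lit 599, nat_lit 600, nat_lit 403, nat_lit 435, nat_lit 440, nat_lit 401, nat_lit 441, nat_lit 601, nat_lit 392, nat_lit 436, nat_lit 602, nat_lit 398, nat_lit 603, nat_lit 604, nat_lit 605, nat_lit 606, nat_lit 439, nat_lit 434, nat_lit 607, nat_lit 394, nat_lit 608, nat_lit 609, nat_lit 390, nat_lit 438, nat_lit 610, nat_lit 384, nat_lit 611, nat_lit 405, nat_lit 397, nat_lit 612],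
  [nat_lit 443, nat_lit 444, nat_lit 445, nat_lit 447, nat_lit 448, nat_lit 449, nat_lit 450, nat_lit 451, nat_lit 452, nat_lit 453, nat_lit 454, nat_lit 455, nat_lit 456, nat_lit 457, nat_lit 458, nat_lit 459, nat_lit 460, nat_lit 461, nat_lit 613, nat_lit 614, nat_lit 615, nat_lit 616, nat_lit 617, nat_lit 618, nat_lit 619, nat_lit 620, nat_lit 621, nat_lit 622, nat_lit 474, nat_lit 475, nat_lit 623, nat_lit 473, nat_lit 470, nat_lit 476, nat_lit 471, nat_lit 472],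
  [nat_lit 490, nat_lit 491, nat_lit 492, nat_lit 494, nat_lit 495, nat_lit 496, nat_lit 497, nat_lit 499, nat_lit 501, nat_lit 502, nat_lit 504, nat_lit 506]]

theorem dcM_out : allFrom (outB dcM (nat_lit 684) gensM repsM dcMgi dcMri) 0 12 = true := by
  decide +kernel

end

end CF.Mon
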