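import Cfsg.Agent.Mon.Dc
import Cfsg.Agent.Mon.NdM

set_option autoImplicit false
set_option maxRecDepth 100000

namespace CF.Mon

open CF.Comp

noncomputable section

def dcME0 : BT El := (.node (nat_lit 4) (.node (nat_lit 2) (.node (nat_lit 1) (.leaf ⟨[], []⟩)
 (.leaf ⟨[nat_lit 0x8d178e215aaab137089e804cd493a2b19e16, nat_lit 0x993aca65a08524247c5772ca636b80735055, nat_lit 0xccc339b2a28a3a4c990b7788c9a807009d6d, nat_lit 0x72188172cc7a22cf60d2095c452562154e0d], [nat_lit 65536, nat_lit 69632, nat_lit 81920, nat_lit 86016, nat_lit 90112, nat_lit 98304, nat_lit 178176, nat_lit 174080, nat_lit 170496, nat_lit 164096, nat_lit 160768, nat_lit 159232, nat_lit 153792, nat_lit 147712, nat_lit 147040, nat_lit 140708, nat_lit 138384, nat_lit 132457, nat_lit 4, nat_lit 4100, nat_lit 10048, nat_lit 13984, nat_lit 18368, nat_lit 23168, nat_lit 25856, nat_lit 30720, nat_lit 38912, nat_lit 43008, nat_lit 45894, nat_lit 41482, nat_lit 36950, nat_lit 32829, nat_lit 28695, nat_lit 24628, nat_lit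 20569, nat_lit 16449, nat_lit 12322, nat_lit 4097, nat_lit 2, nat_lit 434185, nat_lit 425991, nat_lit 417797, nat_lit 409603, nat_lit 401408, nat_lit 168960, nat_lit 161536, nat_lit 157184, nat_lit 152768, nat_lit 148640, nat_lit 145376, nat_lit 139576, nat_lit 133036, nat_lit 46196, nat_lit 4097, nat_lit 327680]⟩))
 (.node (nat_lit 3) (.leaf ⟨[nat_lit 0x88d7b238a90031213154f5daed2547174a68, nat_lit 0x39a9334de605a8ae385e3236518590233295, nat_lit 0xff699caba625148704aefb41a3419690c68c, nat_lit 0xd1278b349e2b2e70a392c08eea281b1aa087], [nat_lit 65536, nat_lit 69632, nat_lit 81920, nat_lit 110592, nat_lit 168960, nat_lit 167168, nat_lit 162048, nat_lit 159104, nat_lit 151936, nat_lit 148496, nat_lit 143952, nat_lit 143268, nat_lit 138860, nat_lit 133701, nat_lit 1066, nat_lit 5612, nat_lit 10336, nat_lit 13344, nat_lit 18720, nat_lit 23232, nat_lit 26368, nat_lit 34304, nat_lit 39936, nat_lit 45916, nat_lit 41496, nat_lit 38234, nat_lit 33370, nat_lit 28698, nat_lit 24621, nat_lit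 20555, nat_lit 16390, nat_lit 12291, nat_lit 8193, nat_lit 4104, nat_lit 438282, nat_lit 430088, nat_lit 421893, nat_lit 409603, nat_lit 401408, nat_lit 174080, nat_lit 166912, nat_lit 161536, nat_lit 153728, nat_lit 148128, nat_lit 143792, nat_lit 141872, nat_lit 131472, nat_lit 24577, nat_lit 4097, nat_lit 327680]⟩)
 (.leaf ⟨[nat_lit 0x44d8217c2814dae6715881564d89d731900a, nat_lit 0x353f360c4753d249d408bc42ba3ac593606, nat_lit 0x9af05558e7571ef43422c924160904f2a90d, nat_lit 0x65f0aa69df32c52aa5e4662c76405d501050], [nat_lit 77824, nat_lit 86016, nat_lit 94208, nat_lit 102400, nat_lit 106496, nat_lit 178176, nat_lit 170496, nat_lit 166656, nat_lit 161280, nat_lit 158720, nat_lit 153056, nat_lit 149936, nat_lit 146848, nat_lit 141924, nat_lit 135288, nat_lit 133296, nat_lit 926, nat_lit 6412, nat_lit 9112, nat_lit 14352, nat_lit 19776, nat_lit 21952, nat_lit 25984, nat_lit 30464, nat_lit 35328, nat_lit 43008, nat_lit 45702, nat_lit 41811, nat_lit 38232, nat_lit 32942, nat_lit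 28697, nat_lit 25639, nat_lit 20493, nat_lit 16394, nat_lit 12292, nat_lit 8195, nat_lit 4100, nat_lit 2, nat_lit 434185, nat_lit 425991, nat_lit 417797, nat_lit 409603, nat_lit 401408, nat_lit 165376, nat_lit 156800, nat_lit 152000, nat_lit 148672, nat_lit 144720, nat_lit 140616, nat_lit 133060, nat_lit 45057, nat_lit 4097, nat_lit 327680]⟩)))
 (.node (nat_lit 6) (.node (nat_lit 5) (.leaf ⟨[nat_lit 0xbdbb1e311af8a26b615c710ed4056e192930, nat_lit 0x8242b8440800b855b15e6a4e2cba9ab49c72, nat_lit 0xcfac9050a2fa1253a80e1424d65b6032dd8e], [nat_lit 73728, nat_lit 81920, nat_lit 94208, nat_lit 106496, nat_lit 110592, nat_lit 178176, nat_lit 173056, nat_lit 169472, nat_lit 164608, nat_lit 163584, nat_lit 157824, nat_lit 152544, nat_lit 148688, nat_lit 143584, nat_lit 141932, nat_lit 137428, nat_lit 131739, nat_lit 922, nat_lit 6552, nat_lit 8968, nat_lit 12544, nat_lit 17024, nat_lit 22976, nat_lit 28032, nat_lit 32512, nat_lit 35328, nat_lit 38912, nat_lit 43008, nat_lit 45062, nat_lit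 41430, nat_lit 37087, nat_lit 32772, nat_lit 29193, nat_lit 24717, nat_lit 20495, nat_lit 16395, nat_lit 12292, nat_lit 4112, nat_lit 434183, nat_lit 417797, nat_lit 409603, nat_lit 401408, nat_lit 160768, nat_lit 147584, nat_lit 144400, nat_lit 139376, nat_lit 131164, nat_lit 46112, nat_lit 36992, nat_lit 32997, nat_lit 4097]⟩)
 (.leaf ⟨[nat_lit 0x3c5a3b4510ba053289705869aae537a28c, nat_lit 0xd1eb21ad8e1424c06888c2ce235c9f7a29d0, nat_lit 0xff699c955811de6d41e3000966b26855388f, nat_lit 0x228b772ce4b1bef1a2ac702082855c13352c], [nat_lit 65536, nat_lit 69632, nat_lit 77824, nat_lit 81920, nat_lit 86016, nat_lit 110592, nat_lit 169472, nat_lit 164096, nat_lit 162432, nat_lit 157632, nat_lit 152320, nat_lit 150448, nat_lit 144512, nat_lit 141176, nat_lit 135286, nat_lit 132081, nat_lit 680, nat_lit 4776, nat_lit 9496, nat_lit 14496, nat_lit 16896, nat_lit 23936, nat_lit 25344, nat_lit 30464, nat_lit 33792, nat_lit 38912, nat_lit 43008, nat_lit 45176, nat_lit 41911, nat_lit 37152,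 nat_lit 32920, nat_lit 28720, nat_lit 24585, nat_lit 20487, nat_lit 16399, nat_lit 12311, nat_lit 8211, nat_lit 4097, nat_lit 438282, nat_lit 430088, nat_lit 421894, nat_lit 413700, nat_lit 405504, nat_lit 166400, nat_lit 161024, nat_lit 157056, nat_lit 154688, nat_lit 150304, nat_lit 147152, nat_lit 132896, nat_lit 8193, nat_lit 4097]⟩))
 (.node (nat_lit 7) (.leaf ⟨[nat_lit 0xf99cc0112cd4a973700b78a25019a8f3b035, nat_lit 0x1e8be485c8500e753a182339417c68db4969, nat_lit 0x7b47eb90182aacc17a150744872a4776d2d3, nat_lit 0xff3355858657aeb4485c06a8e4346e29c90c], [nat_lit 73728, nat_lit 81920, nat_lit 86016, nat_lit 98304, nat_lit 102400, nat_lit 110592, nat_lit 178176, nat_lit 173056, nat_lit 171520, nat_lit 165632, nat_lit 160896, nat_lit 158720, nat_lit 153504, nat_lit 150048, nat_lit 143896, nat_lit 140996, nat_lit 138648, nat_lit 131927, nat_lit 3076, nat_lit 7172, nat_lit 10240, nat_lit 14464, nat_lit 16896, nat_lit 23552, nat_lit 28160, nat_lit 29184, nat_lit 34816, nat_lit 37888,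 nat_lit 43008, nat_lit 45524, nat_lit 41079, nat_lit 37111, nat_lit 32788, nat_lit 29280, nat_lit 25127, nat_lit 20484, nat_lit 16460, nat_lit 12307, nat_lit 8203, nat_lit 4097, nat_lit 438281, nat_lit 425991, nat_lit 417797, nat_lit 409603, nat_lit 401408, nat_lit 169984, nat_lit 160000, nat_lit 155776, nat_lit 154176, nat_lit 148000, nat_lit 146000, nat_lit 139816, nat_lit 131248, nat_lit 41833, nat_lit 4097]⟩)
 (.leaf ⟨[nat_lit 0xa6aaf03ca8444577acc017b2162b5221a9c6, nat_lit 0x4bbe42a10275d86913eee9d640835068a8ac, nat_lit 0x33a901a1443dea134e028d12d5be56015cc], [nat_lit 65536, nat_lit 69632, nat_lit 77824, nat_lit 81920, nat_lit 90112, nat_lit 102400, nat_lit 110592, nat_lit 178176, nat_lit 173056, nat_lit 170496, nat_lit 166144, nat_lit 163200, nat_lit 155712, nat_lit 155328, nat_lit 147664, nat_lit 146352, nat_lit 142692, nat_lit 135934, nat_lit 134793, nat_lit 3212, nat_lit 7308, nat_lit 11464, nat_lit 12944, nat_lit 19424, nat_lit 22336, nat_lit 27648, nat_lit 35328, nat_lit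 39936, nat_lit 46116, nat_lit 41137, nat_lit 36988, nat_lit 29813, nat_lit 24726, nat_lit 21009, nat_lit 16451, nat_lit 12322, nat_lit 8203, nat_lit 4097, nat_lit 2, nat_lit 434183, nat_lit 417797, nat_lit 409603, nat_lit 401408, nat_lit 151616, nat_lit 147520, nat_lit 144544, nat_lit 139400, nat_lit 132332, nat_lit 46169, nat_lit 32857, nat_lit 4097]⟩))))

theorem dcME0_ok : dcME0.all (elB (nat_lit 0)) = true := by decide +kernel

def dcME1 : BT El := (.node (nat_lit 12) (.node (nat_lit 10) (.node (nat_lit 9) (.leaf ⟨[nat_lit 0x3f6fc554e4b005edbd4c4709833d2c544229, nat_lit 0x9003cc62eaf809c7224d650c17885a5a4913, nat_lit 0x8beddd3a6302a2d47de42a81d35b58451861], [nat_lit 65536, nat_lit 69632, nat_lit 77824, nat_lit 81920, nat_lit 90112, nat_lit 102400, nat_lit 169472, nat_lit 166912, nat_lit 162176, nat_lit 156032, nat_lit 151648, nat_lit 151248, nat_lit 145016, nat_lit 141608, nat_lit 137860, nat_lit 132800, nat_lit 406, nat_lit 4224, nat_lit 11416, nat_lit 14032, nat_lit 19392,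 nat_lit 22080, nat_lit 27392, nat_lit 30720, nat_lit 38912, nat_lit 43008, nat_lit 46240, nat_lit 41491, nat_lit 38387, nat_lit 33406, nat_lit 28674, nat_lit 25131, nat_lit 20485, nat_lit 16398, nat_lit 12293, nat_lit 8193, nat_lit 4113, nat_lit 2, nat_lit 425991, nat_lit 417797, nat_lit 409603, nat_lit 401408, nat_lit 151808, nat_lit 147712, nat_lit 143712, nat_lit 139688, nat_lit 131340, nat_lit 45529, nat_lit 41116, nat_lit 37224, nat_lit 4097]⟩)
 (.leaf ⟨[nat_lit 0xa56f60a406443af67a801495866ca6b8d4e2, nat_lit 0x112edd02917a94c27582f2360b61d3194c74, nat_lit 0x65f05551cd3b102f2b2e35c1ae446b400932, nat_lit 0x5a533a8a0ed719320149513d9480ef30d96a], [nat_lit 65536, nat_lit 69632, nat_lit 77824, nat_lit 102400, nat_lit 106496, nat_lit 178176, nat_lit 175104, nat_lit 168448, nat_lit 167680, nat_lit 163456, nat_lit 157632, nat_lit 152128, nat_lit 148576, nat_lit 145416, nat_lit 140372, nat_lit 136994, nat_lit 134596, nat_lit 2560, nat_lit 6656, nat_lit 10552, nat_lit 14176, nat_lit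 18848, nat_lit 23680, nat_lit 25856, nat_lit 29184, nat_lit 34304, nat_lit 38912, nat_lit 45848, nat_lit 41847, nat_lit 36947, nat_lit 34006, nat_lit 28962, nat_lit 25147, nat_lit 20567, nat_lit 16416, nat_lit 12307, nat_lit 8195, nat_lit 4097, nat_lit 2, nat_lit 434185, nat_lit 425991, nat_lit 417797, nat_lit 409603, nat_lit 401408, nat_lit 164352, nat_lit 157440, nat_lit 153536, nat_lit 148160, nat_lit 144032, nat_lit 131972, nat_lit 45372, nat_lit 4097, nat_lit 327680]⟩))
 (.node (nat_lit 11) (.leaf ⟨[nat_lit 0x30ac90b222534aab8268725d536b86f0b040, nat_lit 0x2b24ed4148c1814e0ccd54c9f1bc0475da8d, nat_lit 0x17bded099ec4a8055de6e44acda9c7411211], [nat_lit 73728, nat_lit 81920, nat_lit 90112, nat_lit 94208, nat_lit 106496, nat_lit 175104, nat_lit 168448, nat_lit 164608, nat_lit 162304, nat_lit 157248, nat_lit 155008, nat_lit 148128, nat_lit 145440, nat_lit 142024, nat_lit 138960, nat_lit 133792, nat_lit 802, nat_lit 4284, nat_lit 10576, nat_lit 13568, nat_lit 20192, nat_lit 21248,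 nat_lit 28160, nat_lit 30464, nat_lit 34304, nat_lit 37888, nat_lit 43008, nat_lit 45431, nat_lit 41184, nat_lit 37367, nat_lit 32829, nat_lit 29297, nat_lit 24590, nat_lit 20487, nat_lit 16653, nat_lit 12291, nat_lit 8224, nat_lit 4100, nat_lit 425991, nat_lit 417797, nat_lit 409603, nat_lit 401408, nat_lit 155776, nat_lit 151616, nat_lit 147904, nat_lit 143712, nat_lit 139368, nat_lit 131552, nat_lit 45401, nat_lit 41252, nat_lit 37337, nat_lit 4097, nat_lit 327680]⟩)
 (.leaf ⟨[nat_lit 0xde2874b4ce25840e95c648322a69506a552f, nat_lit 0x8e4b72b0890ba9f53b8c9a04b344a2d1b00b, nat_lit 0xd2e21bab8a602644b3c225b1543a0709c5b7, nat_lit 0xa0369548659a4243a222598106bd94abaf6], [nat_lit 73728, nat_lit 77824, nat_lit 90112, nat_lit 102400, nat_lit 178176, nat_lit 168960, nat_lit 165632, nat_lit 161408, nat_lit 157504, nat_lit 153792, nat_lit 149936, nat_lit 146336, nat_lit 142708, nat_lit 135522, nat_lit 131100, nat_lit 256, nat_lit 4352, nat_lit 10144, nat_lit 14208, nat_lit 19456, nat_lit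 22848, nat_lit 25088, nat_lit 32256, nat_lit 34304, nat_lit 37888, nat_lit 43008, nat_lit 46432, nat_lit 41614, nat_lit 37354, nat_lit 32878, nat_lit 29273, nat_lit 24853, nat_lit 20545, nat_lit 16396, nat_lit 8209, nat_lit 438282, nat_lit 430088, nat_lit 421894, nat_lit 413700, nat_lit 405506, nat_lit 168960, nat_lit 166912, nat_lit 161536, nat_lit 156288, nat_lit 153472, nat_lit 149472, nat_lit 143968, nat_lit 327680]⟩)))
 (.node (nat_lit 14) (.node (nat_lit 13) (.leaf ⟨[nat_lit 0x2212e44906c42e7734285128ef886a075a4d, nat_lit 0x6500a50ae32836e6480e51d1559d88c121cf, nat_lit 0x366a66a142c00d73228f1ada496dcc2441cf], [nat_lit 65536, nat_lit 69632, nat_lit 77824, nat_lit 94208, nat_lit 98304, nat_lit 106496, nat_lit 110592, nat_lit 170496, nat_lit 164608, nat_lit 162048, nat_lit 157312, nat_lit 154752, nat_lit 149456, nat_lit 144616, nat_lit 141544, nat_lit 135926, nat_lit 135122, nat_lit 256, nat_lit 4352, nat_lit 10632, nat_lit 14176, nat_lit 17760, nat_lit 22080, nat_lit 25600,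 nat_lit 30976, nat_lit 43008, nat_lit 46048, nat_lit 41853, nat_lit 37214, nat_lit 32784, nat_lit 28793, nat_lit 24638, nat_lit 20548, nat_lit 16426, nat_lit 12323, nat_lit 8256, nat_lit 4097, nat_lit 434184, nat_lit 421894, nat_lit 413699, nat_lit 401408, nat_lit 155904, nat_lit 151744, nat_lit 144480, nat_lit 139272, nat_lit 132424, nat_lit 46252, nat_lit 37120, nat_lit 4097, nat_lit 327680]⟩)
 (.leaf ⟨[nat_lit 0x8d18818be481d206555b799ec0224ac72c41, nat_lit 0xd8117d93c971a6b498608589ac71ad1028e5, nat_lit 0x1bee114a02074d927c1b12d2e4b1aa71a962], [nat_lit 65536, nat_lit 73728, nat_lit 77824, nat_lit 81920, nat_lit 86016, nat_lit 98304, nat_lit 106496, nat_lit 174080, nat_lit 168448, nat_lit 164864, nat_lit 162816, nat_lit 156352, nat_lit 152032, nat_lit 147696, nat_lit 146960, nat_lit 136458, nat_lit 133264, nat_lit 3406, nat_lit 5288, nat_lit 8920, nat_lit 15376, nat_lit 18560, nat_lit 22272, nat_lit 26240, nat_lit 29696, nat_lit 35328, nat_lit 46984, nat_lit 41112, nat_lit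 39117, nat_lit 33349, nat_lit 29821, nat_lit 24632, nat_lit 20555, nat_lit 16397, nat_lit 12309, nat_lit 8211, nat_lit 4101, nat_lit 2, nat_lit 430088, nat_lit 421893, nat_lit 409602, nat_lit 397312, nat_lit 164352, nat_lit 160000, nat_lit 151808, nat_lit 148128, nat_lit 139408, nat_lit 135856, nat_lit 131744, nat_lit 45062, nat_lit 41605, nat_lit 12289, nat_lit 327680]⟩))
 (.node (nat_lit 15) (.leaf ⟨[nat_lit 0x214ee748c41a9dd27d0b152160242ed34d96], [nat_lit 65536, nat_lit 69632, nat_lit 102400, nat_lit 106496, nat_lit 173056, nat_lit 169984, nat_lit 161152, nat_lit 157568, nat_lit 154464, nat_lit 148128, nat_lit 144888, nat_lit 139384, nat_lit 137136, nat_lit 133289, nat_lit 902, nat_lit 7716, nat_lit 9600, nat_lit 13072, nat_lit 20160, nat_lit 24448, nat_lit 27392, nat_lit 32256, nat_lit 38912, nat_lit 43008, nat_lit 41801, nat_lit 38196, nat_lit 33891, nat_lit 28702, nat_lit 25140, nat_lit 20495, nat_lit 16390, nat_lit 12289, nat_lit 8210, nat_lit 4097, nat_lit 2, nat_lit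 327680]⟩)
 (.leaf ⟨[nat_lit 0x812dee59c2c9a6aa951ae011e829ad018a37], [nat_lit 86016, nat_lit 98304, nat_lit 102400, nat_lit 106496, nat_lit 175104, nat_lit 169472, nat_lit 164864, nat_lit 160640, nat_lit 157184, nat_lit 151968, nat_lit 149232, nat_lit 144672, nat_lit 140808, nat_lit 135222, nat_lit 132925, nat_lit 434, nat_lit 8132, nat_lit 8704, nat_lit 12800, nat_lit 19616, nat_lit 24256, nat_lit 27136, nat_lit 29696, nat_lit 33280, nat_lit 38912, nat_lit 43008, nat_lit 41474, nat_lit 38193, nat_lit 32770, nat_lit 28749, nat_lit 24611, nat_lit 20571, nat_lit 16426, nat_lit 12290, nat_lit 8194]⟩))))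

theorem dcME1_ok : dcME1.all (elB (nat_lit 0)) = true := by decide +kernel

def dcME2 : BT El := (.node (nat_lit 20) (.node (nat_lit 18) (.node (nat_lit 17) (.leaf ⟨[nat_lit 0xcaaff652eb309d89b39f11a1a53125705050], [nat_lit 69632, nat_lit 81920, nat_lit 90112, nat_lit 98304, nat_lit 178176, nat_lit 174080, nat_lit 171520, nat_lit 164352, nat_lit 162304, nat_lit 159040, nat_lit 151968, nat_lit 148960, nat_lit 146680, nat_lit 143228, nat_lit 137996, nat_lit 133874, nat_lit 1246, nat_lit 7384, nat_lit 8224, nat_lit 12560, nat_lit 17440, nat_lit 21184, nat_lit 25216, nat_lit 31232, nat_lit 33792, nat_lit 38912, nat_lit 41137, nat_lit 37255, nat_lit 33478, nat_lit 28737, nat_lit 24750, nat_lit 20496, nat_lit 16386, nat_lit 12353, nat_lit 8203, nat_lit 4105]⟩)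
 (.leaf ⟨[nat_lit 0x78828482274149c70448c6a9f635d65486a3], [nat_lit 77824, nat_lit 81920, nat_lit 86016, nat_lit 94208, nat_lit 98304, nat_lit 102400, nat_lit 178176, nat_lit 174080, nat_lit 168448, nat_lit 166400, nat_lit 162176, nat_lit 155968, nat_lit 153216, nat_lit 149248, nat_lit 145720, nat_lit 142212, nat_lit 135934, nat_lit 134362, nat_lit 1770, nat_lit 6152, nat_lit 11712, nat_lit 20256, nat_lit 22528, nat_lit 27648, nat_lit 34304, nat_lit 39936, nat_lit 43008, nat_lit 41079, nat_lit 37204, nat_lit 32891, nat_lit 28786, nat_lit 24743, nat_lit 16453, nat_lit 12294, nat_lit 8200, nat_lit 4101, nat_lit 2]⟩))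
 (.node (nat_lit 19) (.leaf ndMr1_0)
 (.leaf ⟨[nat_lit 0xbbd72e3be8161aa320aee015b64c94884e2b], [nat_lit 69632, nat_lit 77824, nat_lit 110592, nat_lit 178176, nat_lit 175104, nat_lit 170496, nat_lit 164352, nat_lit 163200, nat_lit 159296, nat_lit 154144, nat_lit 151536, nat_lit 145632, nat_lit 141748, nat_lit 137468, nat_lit 132332, nat_lit 2452, nat_lit 6616, nat_lit 9560, nat_lit 14736, nat_lit 16512, nat_lit 24192, nat_lit 26880, nat_lit 30208, nat_lit 33792, nat_lit 39936, nat_lit 37111, nat_lit 32885, nat_lit 29296, nat_lit 24877, nat_lit 20767, nat_lit 16456, nat_lit 12322, nat_lit 8320, nat_lit 4101, nat_lit 4, nat_lit 327680]⟩)))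
 (.node (nat_lit 22) (.node (nat_lit 21) (.leaf ndMr1_1)
 (.leaf ⟨[nat_lit 0x1e128869af69b090a440808dc7149357a8ab, nat_lit 0xd21214310e54256a7358f10c20b5eb49ca11], [nat_lit 73728, nat_lit 77824, nat_lit 90112, nat_lit 94208, nat_lit 98304, nat_lit 178176, nat_lit 173056, nat_lit 171520, nat_lit 167168, nat_lit 162816, nat_lit 159424, nat_lit 155520, nat_lit 147904, nat_lit 145448, nat_lit 140028, nat_lit 138406, nat_lit 133348, nat_lit 2846, nat_lit 7692, nat_lit 10592, nat_lit 16272, nat_lit 18496, nat_lit 20928, nat_lit 26880, nat_lit 28928, nat_lit 37888, nat_lit 45747, nat_lit 40967, nat_lit 39402, nat_lit 33337, nat_lit 30780, nat_lit 24588, nat_lit 20756, nat_lit 16386, nat_lit 12357, nat_lit 8225, nat_lit 4112, nat_lit 425989, nat_lit 409600, nat_lit 131360, nat_lit 40976, nat_lit 28688, nat_lit 12289, nat_lit 8193, nat_lit 4097]⟩))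
 (.node (nat_lit 23) (.leaf ndMr0_2)
 (.leaf ⟨[nat_lit 0x218dbd7c1d754a8b88ea1996c76a04622580], [nat_lit 65536, nat_lit 73728, nat_lit 77824, nat_lit 81920, nat_lit 86016, nat_lit 90112, nat_lit 102400, nat_lit 106496, nat_lit 178176, nat_lit 174080, nat_lit 170496, nat_lit 167168, nat_lit 162944, nat_lit 157952, nat_lit 152192, nat_lit 149888, nat_lit 144592, nat_lit 142044, nat_lit 138442, nat_lit 131831, nat_lit 2048, nat_lit 4412, nat_lit 8328, nat_lit 13536, nat_lit 17408, nat_lit 20544, nat_lit 27392, nat_lit 29184, nat_lit 34304, nat_lit 38912, nat_lit 43008, nat_lit 41728, nat_lit 37984, nat_lit 33411, nat_lit 29007, nat_lit 24877, nat_lit 20625, nat_lit 16429, nat_lit 12325, nat_lit 8227]⟩))))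

theorem dcME2_ok : dcME2.all (elB (nat_lit 0)) = true := by decide +kernel

def dcME3 : BT El := (.node (nat_lit 28) (.node (nat_lit 26) (.node (nat_lit 25) (.leaf ⟨[nat_lit 0x8be2d2785325b0709c6a66bae5a20eab0880], [nat_lit 65536, nat_lit 73728, nat_lit 77824, nat_lit 81920, nat_lit 173056, nat_lit 168448, nat_lit 167168, nat_lit 160512, nat_lit 156224, nat_lit 152864, nat_lit 147936, nat_lit 144424, nat_lit 142188, nat_lit 136788, nat_lit 131077, nat_lit 318, nat_lit 6444, nat_lit 10256, nat_lit 12976, nat_lit 19584, nat_lit 21888, nat_lit 27776, nat_lit 29696, nat_lit 33280, nat_lit 39936, nat_lit 41874, nat_lit 38072, nat_lit 33336, nat_lit 28723, nat_lit 24594, nat_lit 20609, nat_lit 16399, nat_lit 12289, nat_lit 8194, nat_lit 327680]⟩)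
 (.leaf ⟨[nat_lit 0x2b81db99d1493a020b2d7ac54678ca45a5a0], [nat_lit 65536, nat_lit 69632, nat_lit 73728, nat_lit 77824, nat_lit 81920, nat_lit 90112, nat_lit 102400, nat_lit 106496, nat_lit 178176, nat_lit 175104, nat_lit 168448, nat_lit 166144, nat_lit 161280, nat_lit 158080, nat_lit 152224, nat_lit 151056, nat_lit 145624, nat_lit 140456, nat_lit 137854, nat_lit 132485, nat_lit 4020, nat_lit 5020, nat_lit 8680, nat_lit 12720, nat_lit 20448, nat_lit 20608, nat_lit 30464, nat_lit 35328, nat_lit 39936, nat_lit 41780, nat_lit 37912, nat_lit 32876, nat_lit 28780, nat_lit 24592, nat_lit 20608, nat_lit 16396, nat_lit 12310, nat_lit 8194, nat_lit 4101, nat_lit 327680]⟩))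
 (.node (nat_lit 27) (.leaf ⟨[nat_lit 0xfa650a626264502b24d4e11ea5bbc6d942c0], [nat_lit 69632, nat_lit 73728, nat_lit 77824, nat_lit 81920, nat_lit 86016, nat_lit 98304, nat_lit 102400, nat_lit 106496, nat_lit 178176, nat_lit 175104, nat_lit 170496, nat_lit 166912, nat_lit 160768, nat_lit 158080, nat_lit 154368, nat_lit 148512, nat_lit 147240, nat_lit 139820, nat_lit 139138, nat_lit 134105, nat_lit 32, nat_lit 6464, nat_lit 8584, nat_lit 12944, nat_lit 17088, nat_lit 23552, nat_lit 26624, nat_lit 41752, nat_lit 38010, nat_lit 33474, nat_lit 29016, nat_lit 24722, nat_lit 16525, nat_lit 12354, nat_lit 8209, nat_lit 4161]⟩)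
 (.leaf ⟨[nat_lit 0x6f3099552ee7c970395a862423158d3892a0], [nat_lit 69632, nat_lit 73728, nat_lit 77824, nat_lit 94208, nat_lit 98304, nat_lit 102400, nat_lit 178176, nat_lit 174080, nat_lit 164608, nat_lit 163584, nat_lit 159104, nat_lit 152992, nat_lit 151232, nat_lit 146144, nat_lit 143236, nat_lit 139204, nat_lit 131396, nat_lit 7904, nat_lit 9400, nat_lit 14592, nat_lit 18432, nat_lit 24064, nat_lit 30976, nat_lit 43008, nat_lit 41145, nat_lit 36922, nat_lit 32776, nat_lit 29753, nat_lit 21014, nat_lit 16391, nat_lit 12324, nat_lit 8211, nat_lit 4097, nat_lit 327680]⟩)))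
 (.node (nat_lit 30) (.node (nat_lit 29) (.leaf ⟨[nat_lit 0x7448eb6c2cb1a0c9091eeac94cbd0478cca0], [nat_lit 69632, nat_lit 77824, nat_lit 81920, nat_lit 90112, nat_lit 98304, nat_lit 102400, nat_lit 178176, nat_lit 174080, nat_lit 169984, nat_lit 165632, nat_lit 161152, nat_lit 158080, nat_lit 154912, nat_lit 150016, nat_lit 144040, nat_lit 141364, nat_lit 137042, nat_lit 134450, nat_lit 256, nat_lit 7116, nat_lit 10384, nat_lit 13312, nat_lit 18240, nat_lit 21760, nat_lit 28032, nat_lit 29184, nat_lit 33280, nat_lit 39936, nat_lit 40992, nat_lit 37120, nat_lit 32946, nat_lit 29030, nat_lit 24734, nat_lit 20756, nat_lit 16387, nat_lit 12354, nat_lit 8225, nat_lit 4101]⟩)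
 (.leaf ⟨[nat_lit 0xf9506a8bd96316745dd100b927ac843511a0], [nat_lit 69632, nat_lit 73728, nat_lit 81920, nat_lit 90112, nat_lit 106496, nat_lit 178176, nat_lit 174080, nat_lit 169472, nat_lit 164608, nat_lit 160384, nat_lit 155776, nat_lit 151776, nat_lit 150752, nat_lit 146904, nat_lit 142492, nat_lit 138254, nat_lit 134174, nat_lit 128, nat_lit 5884, nat_lit 10616, nat_lit 12304, nat_lit 16512, nat_lit 23168, nat_lit 26880, nat_lit 29440, nat_lit 36352, nat_lit 41344, nat_lit 37299, nat_lit 33360, nat_lit 28943, nat_lit 24716, nat_lit 20489, nat_lit 16392, nat_lit 12311, nat_lit 8203, nat_lit 4104, nat_lit 327680]⟩))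
 (.node (nat_lit 31) (.leaf ⟨[nat_lit 0x4117ed9d18b7d648b41c921c46545b728460], [nat_lit 65536, nat_lit 69632, nat_lit 73728, nat_lit 77824, nat_lit 86016, nat_lit 106496, nat_lit 178176, nat_lit 169984, nat_lit 159872, nat_lit 157632, nat_lit 153728, nat_lit 150144, nat_lit 147376, nat_lit 141264, nat_lit 135196, nat_lit 133861, nat_lit 2056, nat_lit 7904, nat_lit 10904, nat_lit 14464, nat_lit 17216, nat_lit 24128, nat_lit 26496, nat_lit 28928, nat_lit 33792, nat_lit 38912, nat_lit 43008, nat_lit 41867, nat_lit 37888, nat_lit 32907, nat_lit 28790, nat_lit 24765, nat_lit 20497, nat_lit 16431, nat_lit 12291, nat_lit 8211, nat_lit 4097, nat_lit 2]⟩)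
 (.leaf ⟨[nat_lit 0xb288446da277127481aaf4056a95cac48c40], [nat_lit 65536, nat_lit 73728, nat_lit 77824, nat_lit 94208, nat_lit 178176, nat_lit 168960, nat_lit 167424, nat_lit 160128, nat_lit 154624, nat_lit 150704, nat_lit 145688, nat_lit 140788, nat_lit 136310, nat_lit 133426, nat_lit 16, nat_lit 5568, nat_lit 10248, nat_lit 14352, nat_lit 19872, nat_lit 23744, nat_lit 27648, nat_lit 32000, nat_lit 33280, nat_lit 38912, nat_lit 41901, nat_lit 36999, nat_lit 33822, nat_lit 28784, nat_lit 24736, nat_lit 20503, nat_lit 16417, nat_lit 12294, nat_lit 8202, nat_lit 4104]⟩))))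

theorem dcME3_ok : dcME3.all (elB (nat_lit 0)) = true := by decide +kernel

def dcME4 : BT El := (.node (nat_lit 36) (.node (nat_lit 34) (.node (nat_lit 33) (.leaf ⟨[nat_lit 0x22de4e5aa251d92c3066281eb7239b243e80], [nat_lit 65536, nat_lit 77824, nat_lit 81920, nat_lit 86016, nat_lit 90112, nat_lit 106496, nat_lit 174080, nat_lit 171520, nat_lit 160000, nat_lit 158208, nat_lit 154144, nat_lit 147856, nat_lit 147392, nat_lit 141956, nat_lit 136858, nat_lit 134196, nat_lit 2080, nat_lit 6428, nat_lit 9888, nat_lit 13200, nat_lit 19680, nat_lit 22656, nat_lit 26496, nat_lit 36352, nat_lit 37888, nat_lit 43008, nat_lit 41469, nat_lit 37315, nat_lit 32796, nat_lit 29271, nat_lit 25128, nat_lit 20546, nat_lit 16525, nat_lit 12289, nat_lit 8321, nat_lit 4160, nat_lit 2]⟩)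
 (.leaf ⟨[nat_lit 0x699003b422c14cea255c51d02d7a2eb91920], [nat_lit 69632, nat_lit 73728, nat_lit 77824, nat_lit 81920, nat_lit 86016, nat_lit 90112, nat_lit 98304, nat_lit 178176, nat_lit 173056, nat_lit 169984, nat_lit 167168, nat_lit 162432, nat_lit 157440, nat_lit 153152, nat_lit 150928, nat_lit 144040, nat_lit 139780, nat_lit 135826, nat_lit 134943, nat_lit 1478, nat_lit 6732, nat_lit 11664, nat_lit 14208, nat_lit 20320, nat_lit 21952, nat_lit 26368, nat_lit 30720, nat_lit 36352, nat_lit 38912, nat_lit 41737, nat_lit 38009, nat_lit 33518, nat_lit 28984, nat_lit 24588, nat_lit 20637, nat_lit 16420, nat_lit 12289, nat_lit 8210, nat_lit 4097, nat_lit 2]⟩))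
 (.node (nat_lit 35) (.leaf ⟨[nat_lit 0x6a3c0f418f44dc62546b3805a4b2dee2b240], [nat_lit 69632, nat_lit 73728, nat_lit 77824, nat_lit 81920, nat_lit 86016, nat_lit 90112, nat_lit 94208, nat_lit 98304, nat_lit 102400, nat_lit 173056, nat_lit 164864, nat_lit 162560, nat_lit 157312, nat_lit 154784, nat_lit 150368, nat_lit 143592, nat_lit 140808, nat_lit 135272, nat_lit 134264, nat_lit 4412, nat_lit 11376, nat_lit 16352, nat_lit 18336, nat_lit 22528, nat_lit 25472, nat_lit 34304, nat_lit 38912, nat_lit 41779, nat_lit 38238, nat_lit 32949, nat_lit 28685, nat_lit 24593, nat_lit 20485, nat_lit 16448, nat_lit 12416, nat_lit 8195, nat_lit 4100, nat_lit 2]⟩)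
 (.leaf ndMr2_10)))
 (.node (nat_lit 38) (.node (nat_lit 37) (.leaf ⟨[nat_lit 0x306fcaa4895636261dd2f828a858ace09e60], [nat_lit 65536, nat_lit 86016, nat_lit 94208, nat_lit 98304, nat_lit 102400, nat_lit 110592, nat_lit 178176, nat_lit 175104, nat_lit 169984, nat_lit 165376, nat_lit 161920, nat_lit 159680, nat_lit 153728, nat_lit 150864, nat_lit 145808, nat_lit 140380, nat_lit 136622, nat_lit 132121, nat_lit 2050, nat_lit 7072, nat_lit 12088, nat_lit 15136, nat_lit 20160, nat_lit 21184, nat_lit 25856, nat_lit 28928, nat_lit 35840, nat_lit 37888, nat_lit 41643, nat_lit 36983, nat_lit 32887, nat_lit 29799, nat_lit 24631, nat_lit 20545, nat_lit 16395, nat_lit 12310, nat_lit 8203, nat_lit 8, nat_lit 327680]⟩)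
 (.leaf ndMr2_8))
 (.node (nat_lit 39) (.leaf ⟨[nat_lit 0x47e24e9d9e81118e6c28a2a561adc6688247, nat_lit 0xe8e7db08043310e5ad2d7735ec84a335a50a], [nat_lit 65536, nat_lit 81920, nat_lit 86016, nat_lit 90112, nat_lit 98304, nat_lit 174080, nat_lit 169472, nat_lit 164352, nat_lit 161792, nat_lit 158656, nat_lit 154400, nat_lit 149888, nat_lit 144368, nat_lit 142104, nat_lit 135386, nat_lit 133147, nat_lit 4092, nat_lit 7492, nat_lit 9664, nat_lit 15360, nat_lit 18688, nat_lit 22016, nat_lit 25600, nat_lit 30720, nat_lit 36352, nat_lit 39936, nat_lit 46810, nat_lit 43534, nat_lit 37211, nat_lit 33324, nat_lit 29744, nat_lit 24748, nat_lit 20499, nat_lit 16386, nat_lit 12354, nat_lit 8194, nat_lit 4100, nat_lit 425989, nat_lit 409600, nat_lit 131360, nat_lit 40976, nat_lit 28688, nat_lit 12289, nat_lit 8193, nat_lit 4097]⟩)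
 (.leaf ndMr1_2))))

theorem dcME4_ok : dcME4.all (elB (nat_lit 0)) = true := by decide +kernel

def dcME5 : BT El := (.node (nat_lit 44) (.node (nat_lit 42) (.node (nat_lit 41) (.leaf ⟨[nat_lit 0xe84d1d30aae7943601e8d54650b8d844cd0b, nat_lit 0x47d11b31c85188205a50aa5ab763dcd84a71], [nat_lit 69632, nat_lit 77824, nat_lit 86016, nat_lit 90112, nat_lit 175104, nat_lit 168960, nat_lit 167680, nat_lit 160256, nat_lit 158400, nat_lit 155040, nat_lit 150080, nat_lit 144608, nat_lit 141256, nat_lit 137514, nat_lit 132670, nat_lit 2002, nat_lit 8040, nat_lit 10640, nat_lit 13664, nat_lit 16480, nat_lit 23936, nat_lit 24704, nat_lit 31744, nat_lit 33792, nat_lit 46721, nat_lit 43419, nat_lit 38007, nat_lit 33453, nat_lit 28988, nat_lit 24707, nat_lit 20546, nat_lit 16418, nat_lit 12289, nat_lit 8208, nat_lit 425989, nat_lit 409600, nat_lit 131360, nat_lit 40976, nat_lit 28688, nat_lit 12289, nat_lit 8193, nat_lit 4097, nat_lit 327680]⟩)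
 (.leaf ⟨[nat_lit 0xaac5562140f51e57a0aac706335b46932216, nat_lit 0xd141183c90c4d9621baefa14c0ac031229b3], [nat_lit 81920, nat_lit 86016, nat_lit 94208, nat_lit 106496, nat_lit 110592, nat_lit 174080, nat_lit 166144, nat_lit 162816, nat_lit 155840, nat_lit 155104, nat_lit 151168, nat_lit 146960, nat_lit 140524, nat_lit 136638, nat_lit 134880, nat_lit 2528, nat_lit 7056, nat_lit 12104, nat_lit 12768, nat_lit 17024, nat_lit 23296, nat_lit 25856, nat_lit 30208, nat_lit 33792, nat_lit 37888, nat_lit 43008, nat_lit 45945, nat_lit 41950, nat_lit 38224, nat_lit 32933, nat_lit 28709, nat_lit 25602, nat_lit 20617, nat_lit 16394, nat_lit 12311, nat_lit 8203, nat_lit 4097, nat_lit 2, nat_lit 405506, nat_lit 397312, nat_lit 135172, nat_lit 131086, nat_lit 40961, nat_lit 36868, nat_lit 32783, nat_lit 28687, nat_lit 24591, nat_lit 20482, nat_lit 16385]⟩))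
 (.node (nat_lit 43) (.leaf ⟨[nat_lit 0x36fc058cc2e2bc805b5233de4a81ac81568c, nat_lit 0x33f09334ec3bbea848582710ab6c5523d010], [nat_lit 69632, nat_lit 73728, nat_lit 90112, nat_lit 94208, nat_lit 98304, nat_lit 106496, nat_lit 110592, nat_lit 174080, nat_lit 169472, nat_lit 167168, nat_lit 163456, nat_lit 156608, nat_lit 154144, nat_lit 151024, nat_lit 146928, nat_lit 142020, nat_lit 135902, nat_lit 132715, nat_lit 940, nat_lit 5624, nat_lit 8472, nat_lit 16160, nat_lit 17120, nat_lit 20800, nat_lit 31744, nat_lit 33792, nat_lit 38912, nat_lit 46893, nat_lit 41160, nat_lit 37339, nat_lit 33429, nat_lit 28796, nat_lit 24599, nat_lit 20638, nat_lit 16397, nat_lit 12290, nat_lit 8208, nat_lit 4097, nat_lit 2, nat_lit 405506, nat_lit 397312, nat_lit 135172, nat_lit 131086, nat_lit 40961, nat_lit 36868, nat_lit 32783, nat_lit 28687, nat_lit 24591, nat_lit 20482, nat_lit 16385]⟩)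
 (.leaf ⟨[nat_lit 0x47edbe801b72290b0cdd4b0df23152765451, nat_lit 0x699ff33d1816c9cb482028948a9d91733c75], [nat_lit 65536, nat_lit 86016, nat_lit 90112, nat_lit 106496, nat_lit 110592, nat_lit 169472, nat_lit 164352, nat_lit 160256, nat_lit 157312, nat_lit 154528, nat_lit 150208, nat_lit 143784, nat_lit 141908, nat_lit 136466, nat_lit 133792, nat_lit 2778, nat_lit 6168, nat_lit 10392, nat_lit 14720, nat_lit 19424, nat_lit 24448, nat_lit 27136, nat_lit 30976, nat_lit 37888, nat_lit 45563, nat_lit 41876, nat_lit 36983, nat_lit 33885, nat_lit 28936, nat_lit 24602, nat_lit 21006, nat_lit 16391, nat_lit 12327, nat_lit 8193, nat_lit 4105, nat_lit 405506, nat_lit 397312, nat_lit 135172, nat_lit 131086, nat_lit 40961, nat_lit 36868, nat_lit 32783, nat_lit 28687, nat_lit 24591, nat_lit 20482, nat_lit 16385]⟩)))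
 (.node (nat_lit 46) (.node (nat_lit 45) (.leaf ⟨[nat_lit 0x8728bdb28839d68c0ba225a24f29db032417, nat_lit 0x55f60309dac98226a3972b12a228d28541f7], [nat_lit 69632, nat_lit 77824, nat_lit 86016, nat_lit 94208, nat_lit 98304, nat_lit 102400, nat_lit 106496, nat_lit 168960, nat_lit 164096, nat_lit 162432, nat_lit 158656, nat_lit 153568, nat_lit 150640, nat_lit 144632, nat_lit 139408, nat_lit 135314, nat_lit 132559, nat_lit 760, nat_lit 6456, nat_lit 10104, nat_lit 14688, nat_lit 18880, nat_lit 20864, nat_lit 26880, nat_lit 28928, nat_lit 36352, nat_lit 37888, nat_lit 43008, nat_lit 46954, nat_lit 43189, nat_lit 38049, nat_lit 32857, nat_lit 29791, nat_lit 24846, nat_lit 21016, nat_lit 16463, nat_lit 12294, nat_lit 8195, nat_lit 4100, nat_lit 405506, nat_lit 397312, nat_lit 131078, nat_lit 36868, nat_lit 28680, nat_lit 24591, nat_lit 20482, nat_lit 16392]⟩)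
 (.leaf ⟨[nat_lit 0xfaf369011ab5411764dd591cd60c45478ca9, nat_lit 0xe7248e5058f6dcf0a924eb09748a263014c9], [nat_lit 73728, nat_lit 90112, nat_lit 98304, nat_lit 106496, nat_lit 110592, nat_lit 178176, nat_lit 173056, nat_lit 171008, nat_lit 167168, nat_lit 161920, nat_lit 158528, nat_lit 155328, nat_lit 148736, nat_lit 143976, nat_lit 142716, nat_lit 138040, nat_lit 133496, nat_lit 3446, nat_lit 7992, nat_lit 8704, nat_lit 14592, nat_lit 18976, nat_lit 21760, nat_lit 24832, nat_lit 29952, nat_lit 33792, nat_lit 37888, nat_lit 43008, nat_lit 46398, nat_lit 43497, nat_lit 36890, nat_lit 34989, nat_lit 28748, nat_lit 24704, nat_lit 22552, nat_lit 16651, nat_lit 12304, nat_lit 4129, nat_lit 2, nat_lit 413699, nat_lit 397312, nat_lit 143392, nat_lit 135208, nat_lit 131106, nat_lit 40961, nat_lit 36866, nat_lit 28715, nat_lit 24619, nat_lit 16392, nat_lit 8194, nat_lit 327680]⟩))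
 (.node (nat_lit 47) (.leaf ⟨[nat_lit 0xa9aaff8d262b206b511f2ab1c13260d05ce5, nat_lit 0x1bb427792c8a46a16a4f7040a660a6e1ad52], [nat_lit 65536, nat_lit 73728, nat_lit 90112, nat_lit 102400, nat_lit 178176, nat_lit 171008, nat_lit 164608, nat_lit 160640, nat_lit 155904, nat_lit 152256, nat_lit 148864, nat_lit 145264, nat_lit 139512, nat_lit 138442, nat_lit 134654, nat_lit 2402, nat_lit 6972, nat_lit 9472, nat_lit 14768, nat_lit 18944, nat_lit 20800, nat_lit 27136, nat_lit 32000, nat_lit 35840, nat_lit 43008, nat_lit 46329, nat_lit 43725, nat_lit 37010, nat_lit 32852, nat_lit 28710, nat_lit 24847, nat_lit 20618, nat_lit 16462, nat_lit 12321, nat_lit 8202, nat_lit 425988, nat_lit 405505, nat_lit 147712, nat_lit 143632, nat_lit 40968, nat_lit 37146, nat_lit 24584, nat_lit 20482, nat_lit 8194]⟩)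
 (.leaf ⟨[nat_lit 0xaf9309382cb248cd652b10b853196e84c14f, nat_lit 0x6065af359a9781d382c68090b1156573b154], [nat_lit 65536, nat_lit 81920, nat_lit 90112, nat_lit 98304, nat_lit 110592, nat_lit 169984, nat_lit 166912, nat_lit 162176, nat_lit 156416, nat_lit 154336, nat_lit 150576, nat_lit 143424, nat_lit 142152, nat_lit 137018, nat_lit 135118, nat_lit 2332, nat_lit 6728, nat_lit 11696, nat_lit 13728, nat_lit 18176, nat_lit 21120, nat_lit 27648, nat_lit 32512, nat_lit 34816, nat_lit 37888, nat_lit 46689, nat_lit 41702, nat_lit 38183, nat_lit 32791, nat_lit 29270, nat_lit 24614, nat_lit 20567, nat_lit 16392, nat_lit 12295, nat_lit 8195, nat_lit 4097, nat_lit 2, nat_lit 405506, nat_lit 397312, nat_lit 135172, nat_lit 131086, nat_lit 40961, nat_lit 36868, nat_lit 32783, nat_lit 28687, nat_lit 24591, nat_lit 20482, nat_lit 16385, nat_lit 327680]⟩))))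

theorem dcME5_ok : dcME5.all (elB (nat_lit 0)) = true := by decide +kernel

def dcME6 : BT El := (.node (nat_lit 52) (.node (nat_lit 50) (.node (nat_lit 49) (.leaf ⟨[nat_lit 0x1b2d4b3416302a456a516708343bee465671, nat_lit 0x4bb14d349958b6840804b7de0540d4971ed3, nat_lit 0xaf0595101ae258b71bc2c4ae128a913a98f4], [nat_lit 69632, nat_lit 73728, nat_lit 77824, nat_lit 81920, nat_lit 98304, nat_lit 102400, nat_lit 106496, nat_lit 110592, nat_lit 178176, nat_lit 173056, nat_lit 171520, nat_lit 166912, nat_lit 160128, nat_lit 158144, nat_lit 151872, nat_lit 147872, nat_lit 145208, nat_lit 142620, nat_lit 138466, nat_lit 131909, nat_lit 3862, nat_lit 6692, nat_lit 12176, nat_lit 12784, nat_lit 19552, nat_lit 22720, nat_lit 27264, nat_lit 28928, nat_lit 33280, nat_lit 43008, nat_lit 45102, nat_lit 41201, nat_lit 37242, nat_lit 33460, nat_lit 28929, nat_lit 24614, nat_lit 20556, nat_lit 16397, nat_lit 12307, nat_lit 16, nat_lit 425991, nat_lit 409603, nat_lit 397312, nat_lit 160000, nat_lit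 147840, nat_lit 143760, nat_lit 135448, nat_lit 131224, nat_lit 45336, nat_lit 41096, nat_lit 37146, nat_lit 24585, nat_lit 20482, nat_lit 8194]⟩)
 (.leaf ndMr2_4))
 (.node (nat_lit 51) (.leaf ⟨[nat_lit 0xde2784b384f534f262093304b5882904dd63, nat_lit 0x1817db8ca07998857586b5028d13d37622a1, nat_lit 0x96c53a69d037a8c08de130952c589c4a56d2], [nat_lit 73728, nat_lit 81920, nat_lit 94208, nat_lit 102400, nat_lit 110592, nat_lit 173056, nat_lit 169472, nat_lit 166656, nat_lit 161408, nat_lit 157568, nat_lit 152512, nat_lit 148112, nat_lit 144912, nat_lit 142844, nat_lit 135868, nat_lit 133467, nat_lit 1620, nat_lit 4264, nat_lit 9808, nat_lit 14256, nat_lit 19456, nat_lit 22080, nat_lit 27520, nat_lit 30464, nat_lit 35328, nat_lit 38912, nat_lit 45068, nat_lit 41669, nat_lit 37133, nat_lit 33291, nat_lit 28780, nat_lit 24765, nat_lit 20622, nat_lit 16448, nat_lit 12290, nat_lit 8193, nat_lit 4104, nat_lit 4, nat_lit 430086, nat_lit 413700, nat_lit 397312, nat_lit 148064, nat_lit 135280,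 nat_lit 131168, nat_lit 45059, nat_lit 41555, nat_lit 32816, nat_lit 28752, nat_lit 12289, nat_lit 8193]⟩)
 (.leaf ndMr1_5)))
 (.node (nat_lit 54) (.node (nat_lit 53) (.leaf ⟨[nat_lit 0x88828b2da617a169539ac8d4e320a9001af2], [nat_lit 65536, nat_lit 73728, nat_lit 81920, nat_lit 98304, nat_lit 102400, nat_lit 106496, nat_lit 178176, nat_lit 171008, nat_lit 164608, nat_lit 161920, nat_lit 156544, nat_lit 155584, nat_lit 150320, nat_lit 146352, nat_lit 141936, nat_lit 138988, nat_lit 132031, nat_lit 1140, nat_lit 6144, nat_lit 10352, nat_lit 13312, nat_lit 17888, nat_lit 22528, nat_lit 24832, nat_lit 29952, nat_lit 33792, nat_lit 37888, nat_lit 43008, nat_lit 41364, nat_lit 37178, nat_lit 32776, nat_lit 29748, nat_lit 24598, nat_lit 20610, nat_lit 16454, nat_lit 12549, nat_lit 8201, nat_lit 4129, nat_lit 2, nat_lit 327680]⟩)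
 (.leaf ⟨[nat_lit 0x7841de9ded010109219ac5854379cae95691], [nat_lit 69632, nat_lit 73728, nat_lit 81920, nat_lit 90112, nat_lit 94208, nat_lit 98304, nat_lit 102400, nat_lit 174080, nat_lit 166656, nat_lit 163072, nat_lit 158016, nat_lit 152576, nat_lit 150736, nat_lit 143424, nat_lit 143276, nat_lit 137406, nat_lit 131901, nat_lit 512, nat_lit 5312, nat_lit 10128, nat_lit 20128, nat_lit 20544, nat_lit 27136, nat_lit 29184, nat_lit 34816, nat_lit 38912, nat_lit 41934, nat_lit 37121, nat_lit 33288, nat_lit 28673, nat_lit 24631, nat_lit 20566, nat_lit 16450, nat_lit 12544, nat_lit 8211, nat_lit 4101]⟩))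
 (.node (nat_lit 55) (.leaf ⟨[nat_lit 0x990960b9a161446524d8d428f24d1e103aab], [nat_lit 77824, nat_lit 98304, nat_lit 178176, nat_lit 175104, nat_lit 167168, nat_lit 160768, nat_lit 158016, nat_lit 154080, nat_lit 150848, nat_lit 143424, nat_lit 142448, nat_lit 137736, nat_lit 133743, nat_lit 1336, nat_lit 4568, nat_lit 9648, nat_lit 14128, nat_lit 20128, nat_lit 22848, nat_lit 27008, nat_lit 32000, nat_lit 35840, nat_lit 37888, nat_lit 43008, nat_lit 41952, nat_lit 37016, nat_lit 34016, nat_lit 28728, nat_lit 25632, nat_lit 20633, nat_lit 16514, nat_lit 12289, nat_lit 4097, nat_lit 2]⟩)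
 (.leaf ⟨[nat_lit 0x5036c0a39507c977111ac019280d4f61ccb1], [nat_lit 65536, nat_lit 73728, nat_lit 81920, nat_lit 86016, nat_lit 102400, nat_lit 106496, nat_lit 175104, nat_lit 169984, nat_lit 167680, nat_lit 162560, nat_lit 156416, nat_lit 155104, nat_lit 147888, nat_lit 146392, nat_lit 142456, nat_lit 139166, nat_lit 134822, nat_lit 78, nat_lit 4724, nat_lit 9288, nat_lit 17472, nat_lit 23936, nat_lit 27136, nat_lit 43008, nat_lit 41317, nat_lit 36966, nat_lit 28689, nat_lit 25121, nat_lit 20998, nat_lit 16514, nat_lit 8258, nat_lit 4113, nat_lit 4]⟩))))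

theorem dcME6_ok : dcME6.all (elB (nat_lit 0)) = true := by decide +kernel

def dcME7 : BT El := (.node (nat_lit 60) (.node (nat_lit 58) (.node (nat_lit 57) (.leaf ⟨[], [nat_lit 178176, nat_lit 164096, nat_lit 143368, nat_lit 131073]⟩)
 (.leaf ⟨[nat_lit 0xde41e875e8f9a229ad9ac9414b09c82194c0], [nat_lit 65536, nat_lit 73728, nat_lit 94208, nat_lit 173056, nat_lit 168960, nat_lit 167168, nat_lit 160256, nat_lit 158656, nat_lit 154400, nat_lit 148704, nat_lit 146176, nat_lit 139652, nat_lit 135542, nat_lit 132803, nat_lit 2304, nat_lit 4548, nat_lit 8320, nat_lit 12544, nat_lit 18560, nat_lit 22336, nat_lit 27008, nat_lit 30976, nat_lit 34816, nat_lit 38912, nat_lit 41307, nat_lit 37120, nat_lit 33310, nat_lit 28688, nat_lit 25625, nat_lit 20488, nat_lit 16516, nat_lit 8208, nat_lit 4160, nat_lit 327680]⟩))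
 (.node (nat_lit 59) (.leaf ⟨[nat_lit 0xeeb74e75c53ac80f3a58d5921135954404a3], [nat_lit 65536, nat_lit 94208, nat_lit 98304, nat_lit 102400, nat_lit 106496, nat_lit 169472, nat_lit 167424, nat_lit 160512, nat_lit 158144, nat_lit 155424, nat_lit 150608, nat_lit 145904, nat_lit 143116, nat_lit 135506, nat_lit 134453, nat_lit 582, nat_lit 4224, nat_lit 11728, nat_lit 14592, nat_lit 18208, nat_lit 22336, nat_lit 28160, nat_lit 33280, nat_lit 43008, nat_lit 41967, nat_lit 37239, nat_lit 33399, nat_lit 28677, nat_lit 25119, nat_lit 20545, nat_lit 16903, nat_lit 12321, nat_lit 8323, nat_lit 4100, nat_lit 32, nat_lit 327680]⟩)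
 (.leaf ⟨[nat_lit 0x90c06909e17b44047a9ac5a5c8988d519692], [nat_lit 69632, nat_lit 73728, nat_lit 81920, nat_lit 86016, nat_lit 98304, nat_lit 168448, nat_lit 164352, nat_lit 160896, nat_lit 158656, nat_lit 155520, nat_lit 150368, nat_lit 147304, nat_lit 142436, nat_lit 139026, nat_lit 131138, nat_lit 3810, nat_lit 4788, nat_lit 11472, nat_lit 14848, nat_lit 18432, nat_lit 20992, nat_lit 25728, nat_lit 31744, nat_lit 33280, nat_lit 39936, nat_lit 41556, nat_lit 36999, nat_lit 29191, nat_lit 25604, nat_lit 20483, nat_lit 16449, nat_lit 8707, nat_lit 4129, nat_lit 16]⟩)))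
 (.node (nat_lit 62) (.node (nat_lit 61) (.leaf ⟨[nat_lit 0xfcca602bdc7120092198d5a823bc276952b1], [nat_lit 73728, nat_lit 86016, nat_lit 178176, nat_lit 173056, nat_lit 169984, nat_lit 166656, nat_lit 158016, nat_lit 152832, nat_lit 148736, nat_lit 145056, nat_lit 142228, nat_lit 138704, nat_lit 133937, nat_lit 1250, nat_lit 5208, nat_lit 10328, nat_lit 17632, nat_lit 22784, nat_lit 24704, nat_lit 30208, nat_lit 34816, nat_lit 43008, nat_lit 41920, nat_lit 37339, nat_lit 32776, nat_lit 29262, nat_lit 24582, nat_lit 20485, nat_lit 16518, nat_lit 12544, nat_lit 8225, nat_lit 4112, nat_lit 2, nat_lit 327680]⟩)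
 (.leaf ⟨[nat_lit 0x6fc0694d0c72022fb298d5c2b22cdc145c43], [nat_lit 65536, nat_lit 69632, nat_lit 102400, nat_lit 174080, nat_lit 171008, nat_lit 167168, nat_lit 163584, nat_lit 157440, nat_lit 151584, nat_lit 148048, nat_lit 144400, nat_lit 141560, nat_lit 135482, nat_lit 134534, nat_lit 8, nat_lit 4100, nat_lit 11376, nat_lit 12544, nat_lit 17760, nat_lit 22720, nat_lit 25856, nat_lit 32512, nat_lit 34816, nat_lit 38912, nat_lit 43008, nat_lit 41546, nat_lit 37129, nat_lit 32777, nat_lit 28749, nat_lit 24748, nat_lit 20506, nat_lit 16399, nat_lit 12289, nat_lit 4112]⟩))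
 (.node (nat_lit 63) (.leaf ⟨[nat_lit 0xc9f30a828443c961751ac8a4a0adecf1ccc8], [nat_lit 65536, nat_lit 77824, nat_lit 90112, nat_lit 178176, nat_lit 174080, nat_lit 169984, nat_lit 161152, nat_lit 157504, nat_lit 154016, nat_lit 150512, nat_lit 143600, nat_lit 140784, nat_lit 137142, nat_lit 134511, nat_lit 846, nat_lit 5120, nat_lit 9456, nat_lit 14336, nat_lit 20320, nat_lit 24384, nat_lit 24704, nat_lit 29952, nat_lit 33280, nat_lit 39936, nat_lit 43008, nat_lit 41947, nat_lit 38049, nat_lit 33317, nat_lit 29788, nat_lit 24861, nat_lit 20496, nat_lit 16424, nat_lit 8322, nat_lit 4160, nat_lit 4, nat_lit 327680]⟩)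
 (.leaf ⟨[nat_lit 0x96f6904926f501150d18d5b8f2314571da11], [nat_lit 65536, nat_lit 69632, nat_lit 81920, nat_lit 94208, nat_lit 102400, nat_lit 175104, nat_lit 169984, nat_lit 167168, nat_lit 162304, nat_lit 159616, nat_lit 153248, nat_lit 149088, nat_lit 146768, nat_lit 142756, nat_lit 136210, nat_lit 132735, nat_lit 2560, nat_lit 7328, nat_lit 11976, nat_lit 12800, nat_lit 18592, nat_lit 24384, nat_lit 25088, nat_lit 31744, nat_lit 34816, nat_lit 43008, nat_lit 41601, nat_lit 37121, nat_lit 33280, nat_lit 28749, nat_lit 24578, nat_lit 20489, nat_lit 16396, nat_lit 12289, nat_lit 8208, nat_lit 4161, nat_lit 327680]⟩))))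

theorem dcME7_ok : dcME7.all (elB (nat_lit 0)) = true := by decide +kernel

def dcME8 : BT El := (.node (nat_lit 68) (.node (nat_lit 66) (.node (nat_lit 65) (.leaf ndMr2_5)
 (.leaf ⟨[nat_lit 0x9cafcf6c9688b060a28460d4893be05b5dd3, nat_lit 0x36fcfa9c6b24bcc11b904a5a17689675140c], [nat_lit 65536, nat_lit 69632, nat_lit 77824, nat_lit 86016, nat_lit 90112, nat_lit 106496, nat_lit 110592, nat_lit 168448, nat_lit 164864, nat_lit 160768, nat_lit 156800, nat_lit 152448, nat_lit 148896, nat_lit 144488, nat_lit 139504, nat_lit 137312, nat_lit 133115, nat_lit 1814, nat_lit 5420, nat_lit 11128, nat_lit 12464, nat_lit 18240, nat_lit 24256, nat_lit 28288, nat_lit 31232, nat_lit 34304, nat_lit 38912, nat_lit 46177, nat_lit 44031, nat_lit 36921, nat_lit 33959, nat_lit 28715, nat_lit 26645, nat_lit 20569, nat_lit 16392, nat_lit 12311, nat_lit 8201, nat_lit 4101, nat_lit 413699, nat_lit 401409, nat_lit 143392, nat_lit 139296, nat_lit 135172, nat_lit 40962, nat_lit 36868, nat_lit 32814, nat_lit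 28680, nat_lit 24578, nat_lit 16388, nat_lit 327680]⟩))
 (.node (nat_lit 67) (.leaf ndMr2_3)
 (.leaf ⟨[nat_lit 0xd778110a67402ad1338e56bd84bac5285503, nat_lit 0x3006a97d1d599206b31b74ac012ca271a142], [nat_lit 65536, nat_lit 73728, nat_lit 94208, nat_lit 98304, nat_lit 102400, nat_lit 106496, nat_lit 178176, nat_lit 175104, nat_lit 169984, nat_lit 164096, nat_lit 163456, nat_lit 155712, nat_lit 151776, nat_lit 149728, nat_lit 146888, nat_lit 141896, nat_lit 137198, nat_lit 132727, nat_lit 2360, nat_lit 4208, nat_lit 8752, nat_lit 16352, nat_lit 18560, nat_lit 21504, nat_lit 25600, nat_lit 32000, nat_lit 37888, nat_lit 43008, nat_lit 47075, nat_lit 43962, nat_lit 37218, nat_lit 33482, nat_lit 28731, nat_lit 24586, nat_lit 20499, nat_lit 16397, nat_lit 12291, nat_lit 8209, nat_lit 4105, nat_lit 421893, nat_lit 397312, nat_lit 135328, nat_lit 131074, nat_lit 41088, nat_lit 36992, nat_lit 32769, nat_lit 12289, nat_lit 8194]⟩)))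
 (.node (nat_lit 70) (.node (nat_lit 69) (.leaf ndMr3_0)
 (.leaf ⟨[nat_lit 0x655a939581141e6f52c5761a09194946d42e, nat_lit 0x22b72d128906d18eb3ef5044a93ae4198d06, nat_lit 0x77d7b2655c07a0d1b9ca1524569b48ba4a03], [nat_lit 65536, nat_lit 81920, nat_lit 94208, nat_lit 102400, nat_lit 106496, nat_lit 178176, nat_lit 173056, nat_lit 171008, nat_lit 166400, nat_lit 156736, nat_lit 152992, nat_lit 150720, nat_lit 147144, nat_lit 140568, nat_lit 136664, nat_lit 133395, nat_lit 1550, nat_lit 7008, nat_lit 8472, nat_lit 13216, nat_lit 19616, nat_lit 20544, nat_lit 25600, nat_lit 31744, nat_lit 36352, nat_lit 38912, nat_lit 43008, nat_lit 45565, nat_lit 41953, nat_lit 37072, nat_lit 33813, nat_lit 28969, nat_lit 24708, nat_lit 20765, nat_lit 16393, nat_lit 12294, nat_lit 8195, nat_lit 4100, nat_lit 2, nat_lit 425991, nat_lit 409603, nat_lit 397312, nat_lit 160000, nat_lit 147584, nat_lit 143744, nat_lit 131082, nat_lit 45209, nat_lit 41115, nat_lit 37008, nat_lit 24578, nat_lit 20497, nat_lit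 8194, nat_lit 327680]⟩))
 (.node (nat_lit 71) (.leaf ndMr3_1)
 (.leaf ⟨[nat_lit 0xd887e1636f321ad02810f138e90d64352e91, nat_lit 0x6065afb2472231ae141540de28314efaae60, nat_lit 0x42eed84d9550098e5a2f4998b021e32785a3], [nat_lit 69632, nat_lit 73728, nat_lit 77824, nat_lit 94208, nat_lit 102400, nat_lit 106496, nat_lit 110592, nat_lit 175104, nat_lit 171008, nat_lit 165888, nat_lit 160384, nat_lit 158848, nat_lit 155200, nat_lit 147728, nat_lit 145784, nat_lit 141032, nat_lit 137130, nat_lit 131340, nat_lit 1788, nat_lit 6788, nat_lit 9192, nat_lit 14528, nat_lit 19136, nat_lit 21248, nat_lit 25728, nat_lit 31488, nat_lit 33792, nat_lit 38912, nat_lit 46760, nat_lit 43526, nat_lit 37299, nat_lit 33510, nat_lit 29243, nat_lit 24608, nat_lit 20549, nat_lit 16389, nat_lit 12422, nat_lit 8194, nat_lit 4101, nat_lit 421893, nat_lit 409602, nat_lit 397312, nat_lit 147584, nat_lit 139440, nat_lit 135316, nat_lit 131200, nat_lit 45200, nat_lit 41088, nat_lit 37011, nat_lit 32896, nat_lit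 24582, nat_lit 12295, nat_lit 327680]⟩))))

theorem dcME8_ok : dcME8.all (elB (nat_lit 0)) = true := by decide +kernel

def dcME9 : BT El := (.node (nat_lit 76) (.node (nat_lit 74) (.node (nat_lit 73) (.leaf ndMr3_2)
 (.leaf ⟨[nat_lit 0xdd74771c58b6824873e849c0d5b28a938ae1, nat_lit 0xe77e474906f438268c2762ac0dbd2b2508ec, nat_lit 0xa55cca334ac391cf42a30bd0221d8159a64b], [nat_lit 65536, nat_lit 73728, nat_lit 77824, nat_lit 81920, nat_lit 94208, nat_lit 98304, nat_lit 175104, nat_lit 164352, nat_lit 162048, nat_lit 157760, nat_lit 153152, nat_lit 147712, nat_lit 144992, nat_lit 142024, nat_lit 136224, nat_lit 132897, nat_lit 1488, nat_lit 5084, nat_lit 8480, nat_lit 15968, nat_lit 16832, nat_lit 22784, nat_lit 27520, nat_lit 29184, nat_lit 34304, nat_lit 39936, nat_lit 43008, nat_lit 47080, nat_lit 41439, nat_lit 39323, nat_lit 33858, nat_lit 28699, nat_lit 25092, nat_lit 20486, nat_lit 16393, nat_lit 8227, nat_lit 4097, nat_lit 2, nat_lit 425988, nat_lit 405506, nat_lit 397312,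 nat_lit 147712, nat_lit 139536, nat_lit 135444, nat_lit 131102, nat_lit 45071, nat_lit 40986, nat_lit 36879, nat_lit 28697, nat_lit 327680]⟩))
 (.node (nat_lit 75) (.leaf ndMr3_3)
 (.leaf ⟨[nat_lit 0xccaa5a09ca91b588b0957a38d37d6048c80b, nat_lit 0x87d74241aada3ca9259ca3dd8b902701c441], [nat_lit 69632, nat_lit 77824, nat_lit 90112, nat_lit 98304, nat_lit 110592, nat_lit 178176, nat_lit 175104, nat_lit 170496, nat_lit 166912, nat_lit 160896, nat_lit 159616, nat_lit 154016, nat_lit 147792, nat_lit 146968, nat_lit 140652, nat_lit 136658, nat_lit 131729, nat_lit 2440, nat_lit 4568, nat_lit 8240, nat_lit 15232, nat_lit 16832, nat_lit 24448, nat_lit 28416, nat_lit 29184, nat_lit 34816, nat_lit 39936, nat_lit 43008, nat_lit 46603, nat_lit 41472, nat_lit 37968, nat_lit 32928, nat_lit 28702, nat_lit 25095, nat_lit 20505, nat_lit 16390, nat_lit 12289, nat_lit 8194, nat_lit 430086, nat_lit 401408, nat_lit 156160, nat_lit 131584, nat_lit 40961, nat_lit 32832, nat_lit 28676, nat_lit 16388,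 nat_lit 12289, nat_lit 4097]⟩)))
 (.node (nat_lit 78) (.node (nat_lit 77) (.leaf ndMr3_4)
 (.leaf ⟨[nat_lit 0xd787ee63da43b8a60d26905a2a1c2a8bc84b, nat_lit 0xaa35599ca1108062394c4bd2b6635ee4a16a], [nat_lit 65536, nat_lit 69632, nat_lit 73728, nat_lit 81920, nat_lit 86016, nat_lit 94208, nat_lit 98304, nat_lit 102400, nat_lit 110592, nat_lit 178176, nat_lit 175104, nat_lit 169984, nat_lit 165376, nat_lit 162048, nat_lit 159104, nat_lit 153248, nat_lit 147600, nat_lit 147352, nat_lit 143152, nat_lit 136798, nat_lit 135088, nat_lit 1554, nat_lit 7952, nat_lit 12272, nat_lit 14768, nat_lit 19392, nat_lit 23936, nat_lit 25088, nat_lit 35328, nat_lit 38912, nat_lit 43008, nat_lit 45065, nat_lit 41597, nat_lit 37300, nat_lit 32912, nat_lit 29035, nat_lit 24705, nat_lit 20575, nat_lit 16450, nat_lit 12291, nat_lit 8226, nat_lit 4100, nat_lit 2, nat_lit 425989, nat_lit 409600, nat_lit 151808, nat_lit 147744, nat_lit 131088, nat_lit 40976, nat_lit 28688, nat_lit 12289, nat_lit 8193, nat_lit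 4097]⟩))
 (.node (nat_lit 79) (.leaf ndMr3_5)
 (.leaf ⟨[nat_lit 0x66ca3a9216c9be953408eb954100db13d922, nat_lit 0x5c95cc8b86a204560264fa4cb0419776b0f5, nat_lit 0x5c0ca03106263af5094e07da8d42a705c931], [nat_lit 65536, nat_lit 69632, nat_lit 77824, nat_lit 81920, nat_lit 86016, nat_lit 94208, nat_lit 102400, nat_lit 106496, nat_lit 178176, nat_lit 173056, nat_lit 168448, nat_lit 167168, nat_lit 162304, nat_lit 156416, nat_lit 155168, nat_lit 151120, nat_lit 144072, nat_lit 141240, nat_lit 138572, nat_lit 134188, nat_lit 256, nat_lit 8180, nat_lit 10856, nat_lit 12416, nat_lit 20256, nat_lit 24128, nat_lit 25856, nat_lit 34304, nat_lit 37888, nat_lit 46792, nat_lit 41359, nat_lit 37286, nat_lit 33442, nat_lit 29229, nat_lit 24607, nat_lit 21007, nat_lit 16462, nat_lit 12320, nat_lit 8195, nat_lit 4097, nat_lit 430088, nat_lit 417797, nat_lit 409603, nat_lit 397312, nat_lit 155904, nat_lit 151808, nat_lit 147808, nat_lit 143888, nat_lit 135544, nat_lit 131888, nat_lit 45066, nat_lit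 41561, nat_lit 28688, nat_lit 8193, nat_lit 327680]⟩))))

theorem dcME9_ok : dcME9.all (elB (nat_lit 0)) = true := by decide +kernel

def dcME10 : BT El := (.node (nat_lit 84) (.node (nat_lit 82) (.node (nat_lit 81) (.leaf ⟨[nat_lit 0xaf6c091b580250f7089eeb54a6829335ca28, nat_lit 0x88b1de2c5cb9288da8c4044d874be06a5c36, nat_lit 0xcc55a55d6f328996444011d0ee910ca7a60d], [nat_lit 65536, nat_lit 69632, nat_lit 81920, nat_lit 86016, nat_lit 94208, nat_lit 102400, nat_lit 110592, nat_lit 174080, nat_lit 167424, nat_lit 160896, nat_lit 156672, nat_lit 151680, nat_lit 151296, nat_lit 144200, nat_lit 143148, nat_lit 135374, nat_lit 134485, nat_lit 1610, nat_lit 5756, nat_lit 12072, nat_lit 15232, nat_lit 19552, nat_lit 21504, nat_lit 24832, nat_lit 28928, nat_lit 33280, nat_lit 47103, nat_lit 41750, nat_lit 38377, nat_lit 29190, nat_lit 24582, nat_lit 20501, nat_lit 16425, nat_lit 12294, nat_lit 8203, nat_lit 4104, nat_lit 434182, nat_lit 409602, nat_lit 397312, nat_lit 156672, nat_lit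 147520, nat_lit 140304, nat_lit 135236, nat_lit 132164, nat_lit 45057, nat_lit 32769, nat_lit 28755, nat_lit 20503, nat_lit 12289]⟩)
 (.leaf ⟨[nat_lit 0xdbe7b81ae513bad02ceefa2835490466010d, nat_lit 0xee7be408c548a5e56a8f382dc6bd4164488c, nat_lit 0xf6af9a425c1190cf68ad42aa359824cbae07], [nat_lit 73728, nat_lit 77824, nat_lit 98304, nat_lit 110592, nat_lit 174080, nat_lit 169984, nat_lit 164352, nat_lit 163584, nat_lit 158784, nat_lit 151968, nat_lit 148576, nat_lit 145352, nat_lit 142660, nat_lit 135966, nat_lit 134666, nat_lit 470, nat_lit 6440, nat_lit 8992, nat_lit 15040, nat_lit 17568, nat_lit 22912, nat_lit 27008, nat_lit 31488, nat_lit 35840, nat_lit 38912, nat_lit 45568, nat_lit 41704, nat_lit 38304, nat_lit 33399, nat_lit 28709, nat_lit 25134, nat_lit 20554, nat_lit 16654, nat_lit 12324, nat_lit 8194, nat_lit 4100, nat_lit 16, nat_lit 434182, nat_lit 409602, nat_lit 397312, nat_lit 156672, nat_lit 147520, nat_lit 140304, nat_lit 135236, nat_lit 132164, nat_lit 45057,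 nat_lit 32769, nat_lit 28755, nat_lit 20503, nat_lit 12289, nat_lit 327680]⟩))
 (.node (nat_lit 83) (.leaf ⟨[nat_lit 0x88e4e7ad1d015ca99006c0a8f642e2d24ccf, nat_lit 0xc06f3a8d9405de426b1e48546871cc50d133, nat_lit 0xaa5c3a02ef3538a9188cd252cf0d51164247], [nat_lit 65536, nat_lit 73728, nat_lit 90112, nat_lit 98304, nat_lit 102400, nat_lit 106496, nat_lit 178176, nat_lit 175104, nat_lit 170496, nat_lit 165120, nat_lit 162944, nat_lit 157312, nat_lit 151712, nat_lit 148544, nat_lit 146312, nat_lit 140844, nat_lit 137322, nat_lit 132812, nat_lit 3444, nat_lit 4328, nat_lit 8304, nat_lit 20160, nat_lit 22592, nat_lit 27776, nat_lit 29184, nat_lit 33792, nat_lit 38912, nat_lit 43008, nat_lit 45163, nat_lit 41283, nat_lit 32773, nat_lit 28735, nat_lit 25661, nat_lit 20557, nat_lit 16420, nat_lit 8208, nat_lit 4100, nat_lit 2, nat_lit 434182, nat_lit 413700, nat_lit 401409, nat_lit 156672, nat_lit 147520, nat_lit 136288, nat_lit 45110, nat_lit 28754, nat_lit 327680]⟩)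
 (.leaf ⟨[nat_lit 0xf0fff02054648a951b16d75e058c80899ecf, nat_lit 0xc9cfaf9d169a90b1b41cc78d46b86426a007], [nat_lit 69632, nat_lit 77824, nat_lit 90112, nat_lit 98304, nat_lit 102400, nat_lit 110592, nat_lit 174080, nat_lit 168448, nat_lit 167168, nat_lit 163584, nat_lit 158336, nat_lit 153760, nat_lit 150064, nat_lit 145328, nat_lit 140484, nat_lit 137306, nat_lit 133804, nat_lit 2048, nat_lit 6240, nat_lit 10752, nat_lit 15728, nat_lit 19072, nat_lit 22976, nat_lit 25984, nat_lit 30464, nat_lit 35328, nat_lit 45313, nat_lit 41680, nat_lit 37121, nat_lit 33280, nat_lit 29748, nat_lit 24595, nat_lit 20613, nat_lit 16390, nat_lit 12290, nat_lit 8211, nat_lit 4104, nat_lit 417795, nat_lit 401409, nat_lit 143424, nat_lit 139336, nat_lit 135176, nat_lit 40962, nat_lit 28736, nat_lit 20484, nat_lit 16386]⟩)))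
 (.node (nat_lit 86) (.node (nat_lit 85) (.leaf ⟨[nat_lit 0x8d1771796f3b41c7431a049882552a19446b, nat_lit 0x2e8242a5a5023d87299ae12923bc6b302d01], [nat_lit 65536, nat_lit 69632, nat_lit 73728, nat_lit 77824, nat_lit 90112, nat_lit 94208, nat_lit 98304, nat_lit 106496, nat_lit 178176, nat_lit 175104, nat_lit 168448, nat_lit 166144, nat_lit 162944, nat_lit 158656, nat_lit 152032, nat_lit 147968, nat_lit 144944, nat_lit 139456, nat_lit 137182, nat_lit 131417, nat_lit 1610, nat_lit 7868, nat_lit 10616, nat_lit 15152, nat_lit 19456, nat_lit 21376, nat_lit 25344, nat_lit 31232, nat_lit 33280, nat_lit 43008, nat_lit 45590, nat_lit 41949, nat_lit 38370, nat_lit 33893, nat_lit 28945, nat_lit 25657, nat_lit 20490, nat_lit 16392, nat_lit 12310, nat_lit 8202, nat_lit 417796, nat_lit 397312, nat_lit 147520, nat_lit 135184, nat_lit 131074, nat_lit 40976, nat_lit 32769, nat_lit 28755, nat_lit 20496, nat_lit 12289, nat_lit 8194]⟩)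
 (.leaf ⟨[nat_lit 0xb87bdd92c080da90754ea7a4d7292621b591, nat_lit 0xdb18473adf26a0b0645460d6f624d2e18814, nat_lit 0x3c33c69960db2c1133c23411c9a558754ae2], [nat_lit 69632, nat_lit 77824, nat_lit 81920, nat_lit 86016, nat_lit 98304, nat_lit 102400, nat_lit 106496, nat_lit 110592, nat_lit 178176, nat_lit 171520, nat_lit 164352, nat_lit 161664, nat_lit 156608, nat_lit 155520, nat_lit 150048, nat_lit 144896, nat_lit 140448, nat_lit 138440, nat_lit 134256, nat_lit 3526, nat_lit 5164, nat_lit 8768, nat_lit 12512, nat_lit 18496, nat_lit 24320, nat_lit 26112, nat_lit 32512, nat_lit 35840, nat_lit 38912, nat_lit 43008, nat_lit 46848, nat_lit 41576, nat_lit 37352, nat_lit 33512, nat_lit 29309, nat_lit 24633, nat_lit 20544, nat_lit 16431, nat_lit 12291, nat_lit 8210, nat_lit 434182, nat_lit 409602, nat_lit 397312, nat_lit 156672, nat_lit 148544, nat_lit 140304, nat_lit 136276, nat_lit 132182, nat_lit 45057, nat_lit 32769, nat_lit 28755, nat_lit 20503, nat_lit 327680]⟩))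
 (.node (nat_lit 87) (.leaf ⟨[nat_lit 0x99a3598818b74141290d71a24d7a662a58f5, nat_lit 0xc0c5fc138b07c86409db152d16a56e933013, nat_lit 0xa95a0f8044369137750cb459e7046722b2aa], [nat_lit 65536, nat_lit 69632, nat_lit 73728, nat_lit 77824, nat_lit 81920, nat_lit 94208, nat_lit 102400, nat_lit 178176, nat_lit 173056, nat_lit 171008, nat_lit 164096, nat_lit 160128, nat_lit 157184, nat_lit 152096, nat_lit 149872, nat_lit 145912, nat_lit 139800, nat_lit 136312, nat_lit 134849, nat_lit 1544, nat_lit 4912, nat_lit 11336, nat_lit 13312, nat_lit 16480, nat_lit 22592, nat_lit 25344, nat_lit 30976, nat_lit 33792, nat_lit 37888, nat_lit 43008, nat_lit 46601, nat_lit 43976, nat_lit 37129, nat_lit 32938, nat_lit 28715, nat_lit 24629, nat_lit 20571, nat_lit 16397, nat_lit 12289, nat_lit 8210, nat_lit 4101, nat_lit 434182, nat_lit 409602, nat_lit 397312, nat_lit 148480, nat_lit 140288, nat_lit 135248, nat_lit 132160, nat_lit 45057, nat_lit 32769, nat_lit 28755, nat_lit 20502]⟩)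
 (.leaf ⟨[nat_lit 0x721771bc1c59022815534518811b16db3cf3, nat_lit 0xeb787d4d441b422ba28c42b413bbd0c38dd2], [nat_lit 65536, nat_lit 69632, nat_lit 73728, nat_lit 77824, nat_lit 86016, nat_lit 102400, nat_lit 106496, nat_lit 110592, nat_lit 178176, nat_lit 173056, nat_lit 168448, nat_lit 166144, nat_lit 160768, nat_lit 157888, nat_lit 153600, nat_lit 149184, nat_lit 146416, nat_lit 142892, nat_lit 138284, nat_lit 131438, nat_lit 3938, nat_lit 8128, nat_lit 10872, nat_lit 15600, nat_lit 19872, nat_lit 21568, nat_lit 26880, nat_lit 30464, nat_lit 45539, nat_lit 41710, nat_lit 37091, nat_lit 29296, nat_lit 24589, nat_lit 21006, nat_lit 16513, nat_lit 12321, nat_lit 8193, nat_lit 4113, nat_lit 2, nat_lit 417795, nat_lit 401409, nat_lit 143424, nat_lit 139336, nat_lit 135176, nat_lit 40962, nat_lit 28736, nat_lit 20484, nat_lit 16386, nat_lit 327680]⟩))))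

theorem dcME10_ok : dcME10.all (elB (nat_lit 0)) = true := by decide +kernel

def dcME11 : BT El := (.node (nat_lit 92) (.node (nat_lit 90) (.node (nat_lit 89) (.leaf ndMr3_19)
 (.leaf ⟨[nat_lit 0xa6aa0f689eb324e12d26e8287164ae4022d5, nat_lit 0xf5303c29e848380b489b20b1519a06fb5cd5, nat_lit 0x2b428112030a5d515cdac23815b1c6f2c8c9], [nat_lit 65536, nat_lit 73728, nat_lit 77824, nat_lit 90112, nat_lit 102400, nat_lit 110592, nat_lit 178176, nat_lit 174080, nat_lit 167168, nat_lit 163456, nat_lit 156352, nat_lit 155360, nat_lit 151248, nat_lit 146616, nat_lit 143348, nat_lit 135720, nat_lit 131142, nat_lit 3656, nat_lit 6148, nat_lit 10632, nat_lit 15120, nat_lit 16608, nat_lit 22016, nat_lit 27520, nat_lit 29440, nat_lit 33792, nat_lit 39936, nat_lit 43008, nat_lit 45335, nat_lit 41591, nat_lit 37371, nat_lit 33337, nat_lit 28703, nat_lit 24585, nat_lit 21012, nat_lit 16521, nat_lit 12325, nat_lit 8211, nat_lit 4104, nat_lit 4, nat_lit 413700, nat_lit 405506, nat_lit 397312, nat_lit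 147488, nat_lit 143376, nat_lit 139320, nat_lit 135176, nat_lit 131122, nat_lit 45107, nat_lit 40991, nat_lit 36901, nat_lit 32819, nat_lit 28723, nat_lit 24601, nat_lit 327680]⟩))
 (.node (nat_lit 91) (.leaf ndMr1_4)
 (.leaf ⟨[nat_lit 0xd8d2d844a09a32ed52e717bad5114c120c07], [nat_lit 65536, nat_lit 69632, nat_lit 77824, nat_lit 94208, nat_lit 102400, nat_lit 106496, nat_lit 174080, nat_lit 165376, nat_lit 160640, nat_lit 156160, nat_lit 155040, nat_lit 150448, nat_lit 143472, nat_lit 141112, nat_lit 136350, nat_lit 134970, nat_lit 1440, nat_lit 5276, nat_lit 11408, nat_lit 14352, nat_lit 19872, nat_lit 21696, nat_lit 25728, nat_lit 28928, nat_lit 33280, nat_lit 43008, nat_lit 41826, nat_lit 38213, nat_lit 33983, nat_lit 28770, nat_lit 24717, nat_lit 20488, nat_lit 16396, nat_lit 12310, nat_lit 8210, nat_lit 4097]⟩)))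
 (.node (nat_lit 94) (.node (nat_lit 93) (.leaf ⟨[nat_lit 0x11484eb3dd56d197426505aa7138c80284c2], [nat_lit 65536, nat_lit 69632, nat_lit 77824, nat_lit 86016, nat_lit 90112, nat_lit 94208, nat_lit 106496, nat_lit 178176, nat_lit 171520, nat_lit 165376, nat_lit 162432, nat_lit 158848, nat_lit 155520, nat_lit 148416, nat_lit 145200, nat_lit 143344, nat_lit 138224, nat_lit 132014, nat_lit 4, nat_lit 5120, nat_lit 11264, nat_lit 12720, nat_lit 16480, nat_lit 23232, nat_lit 26240, nat_lit 30208, nat_lit 35840, nat_lit 43008, nat_lit 41784, nat_lit 37102, nat_lit 33880, nat_lit 28752, nat_lit 24625, nat_lit 20566, nat_lit 16452, nat_lit 12806, nat_lit 8211, nat_lit 4100, nat_lit 16, nat_lit 327680]⟩)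
 (.leaf ⟨[nat_lit 0x996c4c248759f5a5dac52e71104a621c60], [nat_lit 81920, nat_lit 86016, nat_lit 90112, nat_lit 94208, nat_lit 98304, nat_lit 102400, nat_lit 106496, nat_lit 178176, nat_lit 174080, nat_lit 169472, nat_lit 167680, nat_lit 160128, nat_lit 157760, nat_lit 153344, nat_lit 147488, nat_lit 147432, nat_lit 142756, nat_lit 135970, nat_lit 134687, nat_lit 8, nat_lit 7324, nat_lit 10872, nat_lit 14352, nat_lit 18080, nat_lit 24448, nat_lit 26752, nat_lit 31744, nat_lit 35328, nat_lit 39936, nat_lit 41975, nat_lit 37193, nat_lit 33368, nat_lit 28689, nat_lit 25127, nat_lit 20575, nat_lit 16385, nat_lit 12359, nat_lit 8256, nat_lit 4101, nat_lit 2]⟩))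
 (.node (nat_lit 95) (.leaf ⟨[nat_lit 0xa9695a6bdccbd6965a9099427131ca400462], [nat_lit 65536, nat_lit 77824, nat_lit 86016, nat_lit 90112, nat_lit 102400, nat_lit 171008, nat_lit 167680, nat_lit 160000, nat_lit 157696, nat_lit 153408, nat_lit 148160, nat_lit 144040, nat_lit 140800, nat_lit 138388, nat_lit 132744, nat_lit 1766, nat_lit 6152, nat_lit 10248, nat_lit 14048, nat_lit 18144, nat_lit 23872, nat_lit 28544, nat_lit 31232, nat_lit 33280, nat_lit 43008, nat_lit 41620, nat_lit 37197, nat_lit 32941, nat_lit 28928, nat_lit 24626, nat_lit 20545, nat_lit 16397, nat_lit 12290, nat_lit 8195, nat_lit 4100]⟩)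
 (.leaf ⟨[nat_lit 0x71e14b45e899360c5aab67ba71090a038866], [nat_lit 90112, nat_lit 94208, nat_lit 98304, nat_lit 171520, nat_lit 165632, nat_lit 161664, nat_lit 157184, nat_lit 152800, nat_lit 149664, nat_lit 145904, nat_lit 142416, nat_lit 137208, nat_lit 134139, nat_lit 3564, nat_lit 6520, nat_lit 11264, nat_lit 13312, nat_lit 18752, nat_lit 22976, nat_lit 31744, nat_lit 35328, nat_lit 38912, nat_lit 43008, nat_lit 41809, nat_lit 38160, nat_lit 33872, nat_lit 28673, nat_lit 24583, nat_lit 20511, nat_lit 16419, nat_lit 12290, nat_lit 8193, nat_lit 4105]⟩))))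

theorem dcME11_ok : dcME11.all (elB (nat_lit 0)) = true := by decide +kernel

def dcME12 : BT El := (.node (nat_lit 100) (.node (nat_lit 98) (.node (nat_lit 97) (.leaf ⟨[nat_lit 0x72e77e8de9362daaada127b92830c2428047], [nat_lit 69632, nat_lit 77824, nat_lit 81920, nat_lit 86016, nat_lit 94208, nat_lit 98304, nat_lit 102400, nat_lit 178176, nat_lit 174080, nat_lit 169984, nat_lit 160128, nat_lit 157056, nat_lit 152960, nat_lit 150992, nat_lit 144888, nat_lit 139820, nat_lit 135354, nat_lit 133495, nat_lit 1860, nat_lit 7132, nat_lit 10176, nat_lit 13056, nat_lit 18368, nat_lit 23360, nat_lit 26368, nat_lit 32256, nat_lit 36352, nat_lit 37888, nat_lit 41934, nat_lit 37167, nat_lit 32966, nat_lit 29022, nat_lit 24589, nat_lit 21022, nat_lit 16390, nat_lit 12355, nat_lit 8201]⟩)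
 (.leaf ⟨[nat_lit 0xa95f5b5e9542d2a9c6127b9ac21ca608803], [nat_lit 69632, nat_lit 73728, nat_lit 86016, nat_lit 102400, nat_lit 168960, nat_lit 165888, nat_lit 161280, nat_lit 159424, nat_lit 153216, nat_lit 148944, nat_lit 143592, nat_lit 141048, nat_lit 136884, nat_lit 134047, nat_lit 2056, nat_lit 7120, nat_lit 8200, nat_lit 13264, nat_lit 18368, nat_lit 23232, nat_lit 27776, nat_lit 29696, nat_lit 38912, nat_lit 41925, nat_lit 38033, nat_lit 33384, nat_lit 28698, nat_lit 24577, nat_lit 20497, nat_lit 16394, nat_lit 8194, nat_lit 4097, nat_lit 2]⟩))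
 (.node (nat_lit 99) (.leaf ⟨[nat_lit 0x696392130651b773eb65aa33180e4088a6], [nat_lit 77824, nat_lit 86016, nat_lit 98304, nat_lit 102400, nat_lit 178176, nat_lit 173056, nat_lit 171520, nat_lit 166912, nat_lit 161024, nat_lit 158912, nat_lit 153120, nat_lit 148448, nat_lit 143952, nat_lit 140552, nat_lit 136094, nat_lit 132579, nat_lit 2164, nat_lit 6272, nat_lit 8224, nat_lit 13536, nat_lit 16416, nat_lit 20544, nat_lit 27648, nat_lit 29696, nat_lit 36352, nat_lit 43008, nat_lit 41045, nat_lit 37177, nat_lit 33378, nat_lit 28779, nat_lit 24609, nat_lit 12417, nat_lit 4104, nat_lit 64, nat_lit 327680]⟩)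
 (.leaf ⟨[nat_lit 0x3c0f6344a09b3aafa5dac9c54b104a600ce4], [nat_lit 65536, nat_lit 94208, nat_lit 106496, nat_lit 178176, nat_lit 173056, nat_lit 171520, nat_lit 167424, nat_lit 160128, nat_lit 158912, nat_lit 154272, nat_lit 148384, nat_lit 146584, nat_lit 143208, nat_lit 136554, nat_lit 135019, nat_lit 1166, nat_lit 7324, nat_lit 12216, nat_lit 14352, nat_lit 19456, nat_lit 23040, nat_lit 27904, nat_lit 31744, nat_lit 36352, nat_lit 39936, nat_lit 41786, nat_lit 38387, nat_lit 33010, nat_lit 28700, nat_lit 24612, nat_lit 20562, nat_lit 16396, nat_lit 12295, nat_lit 4104, nat_lit 2, nat_lit 327680]⟩)))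
 (.node (nat_lit 102) (.node (nat_lit 101) (.leaf ⟨[nat_lit 0x95a56393dd055d746b2714a2b62886438026], [nat_lit 65536, nat_lit 69632, nat_lit 73728, nat_lit 81920, nat_lit 94208, nat_lit 98304, nat_lit 106496, nat_lit 178176, nat_lit 175104, nat_lit 165120, nat_lit 162560, nat_lit 156288, nat_lit 155296, nat_lit 147920, nat_lit 144680, nat_lit 139972, nat_lit 136796, nat_lit 132182, nat_lit 116, nat_lit 5120, nat_lit 11376, nat_lit 15584, nat_lit 19456, nat_lit 20544, nat_lit 25600, nat_lit 30720, nat_lit 39936, nat_lit 41013, nat_lit 37243, nat_lit 33319, nat_lit 28713, nat_lit 24609, nat_lit 20544, nat_lit 16385, nat_lit 12290, nat_lit 4097, nat_lit 327680]⟩)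
 (.leaf ⟨[nat_lit 0xaa6a09a511751f79416ab55ac3006509c82], [nat_lit 65536, nat_lit 77824, nat_lit 86016, nat_lit 90112, nat_lit 94208, nat_lit 98304, nat_lit 102400, nat_lit 173056, nat_lit 171520, nat_lit 164352, nat_lit 162432, nat_lit 156608, nat_lit 154560, nat_lit 148688, nat_lit 145352, nat_lit 140480, nat_lit 135540, nat_lit 132352, nat_lit 1178, nat_lit 4112, nat_lit 8224, nat_lit 12480, nat_lit 16512, nat_lit 20992, nat_lit 26624, nat_lit 29184, nat_lit 34816, nat_lit 38912, nat_lit 41579, nat_lit 38371, nat_lit 33006, nat_lit 28776, nat_lit 24727, nat_lit 16463, nat_lit 12357, nat_lit 8193, nat_lit 4104, nat_lit 4]⟩))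
 (.node (nat_lit 103) (.leaf ⟨[nat_lit 0x2212e4b3dd54c9106b2f452e33118a1010e3], [nat_lit 73728, nat_lit 86016, nat_lit 94208, nat_lit 98304, nat_lit 102400, nat_lit 106496, nat_lit 178176, nat_lit 175104, nat_lit 169472, nat_lit 165376, nat_lit 162688, nat_lit 157696, nat_lit 154400, nat_lit 147520, nat_lit 143584, nat_lit 141652, nat_lit 138392, nat_lit 134119, nat_lit 1174, nat_lit 5276, nat_lit 11400, nat_lit 18432, nat_lit 22208, nat_lit 30720, nat_lit 36352, nat_lit 37888, nat_lit 43008, nat_lit 37120, nat_lit 33497, nat_lit 20509, nat_lit 16390, nat_lit 12291, nat_lit 8210, nat_lit 4104, nat_lit 2, nat_lit 327680]⟩)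
 (.leaf ndMr2_1))))

theorem dcME12_ok : dcME12.all (elB (nat_lit 0)) = true := by decide +kernel

def dcME13 : BT El := (.node (nat_lit 108) (.node (nat_lit 106) (.node (nat_lit 105) (.leaf ⟨[nat_lit 0x221deb9596c886646c155281cf12507a1877, nat_lit 0x2db8d2736f565a8f42460940e45854289a65], [nat_lit 65536, nat_lit 69632, nat_lit 73728, nat_lit 86016, nat_lit 94208, nat_lit 98304, nat_lit 102400, nat_lit 106496, nat_lit 173056, nat_lit 171520, nat_lit 165120, nat_lit 162560, nat_lit 158016, nat_lit 153824, nat_lit 150384, nat_lit 145952, nat_lit 143124, nat_lit 138248, nat_lit 133053, nat_lit 1550, nat_lit 8116, nat_lit 11472, nat_lit 15856, nat_lit 19392, nat_lit 20608, nat_lit 24704, nat_lit 31744, nat_lit 35840, nat_lit 38912, nat_lit 43008, nat_lit 45815, nat_lit 41656, nat_lit 38262, nat_lit 33311, nat_lit 28958, nat_lit 20506, nat_lit 16386, nat_lit 12324, nat_lit 8200, nat_lit 4100, nat_lit 417796, nat_lit 397312, nat_lit 147520, nat_lit 131074, nat_lit 40976, nat_lit 32769,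 nat_lit 28755, nat_lit 12290, nat_lit 8193, nat_lit 327680]⟩)
 (.leaf ndMr3_20))
 (.node (nat_lit 107) (.leaf ⟨[nat_lit 0xaa3954887a0dc643593782e55c041ac6c9, nat_lit 0x22b822692a1b1d824496905de68aa13750a3, nat_lit 0x9cc65373c56b8d692311393547850110d4a6], [nat_lit 69632, nat_lit 73728, nat_lit 81920, nat_lit 90112, nat_lit 98304, nat_lit 102400, nat_lit 169472, nat_lit 166656, nat_lit 160640, nat_lit 157568, nat_lit 152480, nat_lit 147712, nat_lit 143392, nat_lit 140364, nat_lit 136308, nat_lit 131912, nat_lit 1864, nat_lit 4936, nat_lit 11128, nat_lit 14144, nat_lit 19552, nat_lit 23040, nat_lit 27520, nat_lit 30976, nat_lit 33280, nat_lit 39936, nat_lit 43008, nat_lit 47048, nat_lit 41133, nat_lit 37229, nat_lit 33357, nat_lit 28781, nat_lit 24713, nat_lit 20545, nat_lit 16395, nat_lit 12291, nat_lit 8227, nat_lit 8, nat_lit 413700, nat_lit 405506, nat_lit 397312, nat_lit 147488, nat_lit 139280, nat_lit 135216, nat_lit 45059, nat_lit 40975, nat_lit 36895, nat_lit 32769, nat_lit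 28711, nat_lit 24635]⟩)
 (.leaf ndMr4_0)))
 (.node (nat_lit 110) (.node (nat_lit 109) (.leaf ⟨[nat_lit 0xf0fff07c88d5b0573260a1c4e10510e2da75, nat_lit 0x2eb1e8a2a240b0a71b50905dd514a6f5d8d0, nat_lit 0xd182428248c75c0f8aced45941350a394ea2], [nat_lit 65536, nat_lit 69632, nat_lit 86016, nat_lit 90112, nat_lit 98304, nat_lit 102400, nat_lit 106496, nat_lit 173056, nat_lit 169472, nat_lit 166400, nat_lit 161280, nat_lit 157184, nat_lit 154240, nat_lit 150560, nat_lit 143376, nat_lit 142812, nat_lit 135438, nat_lit 133959, nat_lit 1228, nat_lit 6036, nat_lit 10760, nat_lit 13840, nat_lit 19072, nat_lit 22400, nat_lit 26624, nat_lit 29696, nat_lit 33792, nat_lit 43008, nat_lit 47045, nat_lit 43065, nat_lit 37016, nat_lit 32788, nat_lit 28754, nat_lit 24731, nat_lit 21506, nat_lit 16423, nat_lit 12292, nat_lit 8193, nat_lit 4128, nat_lit 4, nat_lit 421894, nat_lit 413700, nat_lit 405506, nat_lit 397312, nat_lit 151744, nat_lit 147616, nat_lit 139472, nat_lit 135180, nat_lit 131132,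 nat_lit 45068, nat_lit 40991, nat_lit 36879, nat_lit 32786, nat_lit 327680]⟩)
 (.leaf ndMr4_1))
 (.node (nat_lit 111) (.leaf ⟨[nat_lit 0xd1d7847d046b0da40a0134ba4c8aeb751cb0, nat_lit 0x6635c5b456012a57a9d949b4b07250408de6, nat_lit 0x96aca668dc259d048de54518a9aced00818f], [nat_lit 65536, nat_lit 73728, nat_lit 77824, nat_lit 81920, nat_lit 90112, nat_lit 94208, nat_lit 98304, nat_lit 178176, nat_lit 173056, nat_lit 171520, nat_lit 166144, nat_lit 160128, nat_lit 159296, nat_lit 153728, nat_lit 149008, nat_lit 144560, nat_lit 141348, nat_lit 137742, nat_lit 131085, nat_lit 1996, nat_lit 6864, nat_lit 11160, nat_lit 13952, nat_lit 18368, nat_lit 23488, nat_lit 27648, nat_lit 29440, nat_lit 35328, nat_lit 43008, nat_lit 46792, nat_lit 41433, nat_lit 37340, nat_lit 33289, nat_lit 28772, nat_lit 24630, nat_lit 20502, nat_lit 16420, nat_lit 12803, nat_lit 8202, nat_lit 4105, nat_lit 4, nat_lit 434184, nat_lit 421893, nat_lit 409602, nat_lit 397312, nat_lit 160000, nat_lit 152832, nat_lit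 148608, nat_lit 139312, nat_lit 136612, nat_lit 131328, nat_lit 45059, nat_lit 37014, nat_lit 12292, nat_lit 327680]⟩)
 (.leaf ndMr4_2))))

theorem dcME13_ok : dcME13.all (elB (nat_lit 0)) = true := by decide +kernel

def dcME14 : BT El := (.node (nat_lit 116) (.node (nat_lit 114) (.node (nat_lit 113) (.leaf ⟨[nat_lit 0x6c0af653a176d9315c9f410067298819b115, nat_lit 0x2b712b9ca30314e47b1ae5a90918402ad2f6], [nat_lit 69632, nat_lit 81920, nat_lit 98304, nat_lit 178176, nat_lit 173056, nat_lit 169984, nat_lit 167168, nat_lit 163584, nat_lit 158144, nat_lit 152608, nat_lit 148272, nat_lit 146360, nat_lit 142716, nat_lit 135938, nat_lit 135028, nat_lit 2246, nat_lit 7088, nat_lit 12176, nat_lit 15968, nat_lit 20416, nat_lit 21056, nat_lit 27392, nat_lit 30464, nat_lit 34816, nat_lit 38912, nat_lit 43008, nat_lit 46690, nat_lit 43420, nat_lit 36914, nat_lit 34012, nat_lit 28713, nat_lit 25662, nat_lit 20612, nat_lit 16910, nat_lit 12304, nat_lit 8193, nat_lit 4353, nat_lit 425989, nat_lit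 409600, nat_lit 131360, nat_lit 40976, nat_lit 28688, nat_lit 12289, nat_lit 8193, nat_lit 4097]⟩)
 (.leaf ⟨[nat_lit 0xe4442884a33a5ed5214e6180415250b73d8d, nat_lit 0x5a9a09998d53ea2bd8900c40770e882c969, nat_lit 0x6c50c0b8416a5443729e82c8d36352b810f1], [nat_lit 73728, nat_lit 77824, nat_lit 81920, nat_lit 86016, nat_lit 94208, nat_lit 98304, nat_lit 106496, nat_lit 110592, nat_lit 178176, nat_lit 169472, nat_lit 164096, nat_lit 160256, nat_lit 156864, nat_lit 151712, nat_lit 148208, nat_lit 144992, nat_lit 143252, nat_lit 135376, nat_lit 2830, nat_lit 6196, nat_lit 8520, nat_lit 12352, nat_lit 20064, nat_lit 23808, nat_lit 26368, nat_lit 29952, nat_lit 34816, nat_lit 38912, nat_lit 43008, nat_lit 47028, nat_lit 41540, nat_lit 37105, nat_lit 32783, nat_lit 28788, nat_lit 24595, nat_lit 20498, nat_lit 16420, nat_lit 12295, nat_lit 8195, nat_lit 425990, nat_lit 413700, nat_lit 405506, nat_lit 397312, nat_lit 155904, nat_lit 151808, nat_lit 147744, nat_lit 139544, nat_lit 135548,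 nat_lit 131184, nat_lit 45071, nat_lit 41050, nat_lit 36943, nat_lit 28688]⟩))
 (.node (nat_lit 115) (.leaf ⟨[nat_lit 0xf0aa3649ae1249879b54885a8f196ab145c0, nat_lit 0xd18db27c8276c4837181014d855deb64d10a, nat_lit 0xf0966c8adf662217aba6a388854b65409860], [nat_lit 65536, nat_lit 81920, nat_lit 90112, nat_lit 106496, nat_lit 169984, nat_lit 165376, nat_lit 162048, nat_lit 156928, nat_lit 154016, nat_lit 148336, nat_lit 143480, nat_lit 141044, nat_lit 138184, nat_lit 132093, nat_lit 4038, nat_lit 5468, nat_lit 10800, nat_lit 16160, nat_lit 19744, nat_lit 23040, nat_lit 27008, nat_lit 28928, nat_lit 33280, nat_lit 39936, nat_lit 43008, nat_lit 46830, nat_lit 41906, nat_lit 37241, nat_lit 33369, nat_lit 28705, nat_lit 25106, nat_lit 20490, nat_lit 16398, nat_lit 12294, nat_lit 8200, nat_lit 4097, nat_lit 421894, nat_lit 413700, nat_lit 401408, nat_lit 139280, nat_lit 131300, nat_lit 45061, nat_lit 41152, nat_lit 37072, nat_lit 32769, nat_lit 12292, nat_lit 4097, nat_lit 327680]⟩)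
 (.leaf ndMr4_3)))
 (.node (nat_lit 118) (.node (nat_lit 117) (.leaf ⟨[nat_lit 0x993aca790f79154019970a38419c5956d909, nat_lit 0x1b788d90e073358222408a16e15da2eabe6a, nat_lit 0x60560520445521ed7258b84e9600ce68cab7], [nat_lit 65536, nat_lit 69632, nat_lit 73728, nat_lit 77824, nat_lit 81920, nat_lit 86016, nat_lit 98304, nat_lit 102400, nat_lit 106496, nat_lit 178176, nat_lit 174080, nat_lit 167424, nat_lit 162816, nat_lit 159680, nat_lit 152736, nat_lit 147728, nat_lit 144528, nat_lit 142512, nat_lit 138138, nat_lit 131911, nat_lit 520, nat_lit 4304, nat_lit 9552, nat_lit 12864, nat_lit 16448, nat_lit 21056, nat_lit 26112, nat_lit 30208, nat_lit 34304, nat_lit 38912, nat_lit 43008, nat_lit 45257, nat_lit 41867, nat_lit 36877, nat_lit 33857, nat_lit 28754, nat_lit 24741, nat_lit 20573, nat_lit 12323, nat_lit 8193, nat_lit 4097, nat_lit 425991, nat_lit 417797, nat_lit 409602, nat_lit 397312, nat_lit 151744, nat_lit 147680, nat_lit 139392, nat_lit 135200, nat_lit 131412, nat_lit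 45059, nat_lit 41158, nat_lit 36931, nat_lit 12295, nat_lit 327680]⟩)
 (.leaf ndMr4_4))
 (.node (nat_lit 119) (.leaf ⟨[nat_lit 0x965ca96d6125a996400d349471151e175ce4, nat_lit 0xe24e7440c4d346a1710eb65d564c9f301614, nat_lit 0x953300004434a9687b5cc398a48ca13b52b7], [nat_lit 94208, nat_lit 98304, nat_lit 102400, nat_lit 106496, nat_lit 110592, nat_lit 171520, nat_lit 164096, nat_lit 160000, nat_lit 157824, nat_lit 154272, nat_lit 150624, nat_lit 146064, nat_lit 139452, nat_lit 138142, nat_lit 134790, nat_lit 1690, nat_lit 7556, nat_lit 8272, nat_lit 12416, nat_lit 17984, nat_lit 21568, nat_lit 32000, nat_lit 34304, nat_lit 37888, nat_lit 43008, nat_lit 46661, nat_lit 43655, nat_lit 39233, nat_lit 32770, nat_lit 28690, nat_lit 20497, nat_lit 16431, nat_lit 12295, nat_lit 8202, nat_lit 4097, nat_lit 2, nat_lit 430088, nat_lit 421893, nat_lit 409602, nat_lit 397312, nat_lit 160000, nat_lit 152448, nat_lit 147968, nat_lit 140176, nat_lit 136064, nat_lit 45061, nat_lit 41494, nat_lit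 12290, nat_lit 327680]⟩)
 (.leaf ndMr4_5))))

theorem dcME14_ok : dcME14.all (elB (nat_lit 0)) = true := by decide +kernel

def dcME15 : BT El := (.node (nat_lit 124) (.node (nat_lit 122) (.node (nat_lit 121) (.leaf ⟨[nat_lit 0x7e2dee280c39c509a3dd7088e482a4b6daac, nat_lit 0x72d42b63ca780223234cea5d2baa91698452], [nat_lit 65536, nat_lit 81920, nat_lit 86016, nat_lit 90112, nat_lit 94208, nat_lit 102400, nat_lit 173056, nat_lit 170496, nat_lit 165632, nat_lit 163712, nat_lit 159360, nat_lit 154848, nat_lit 148128, nat_lit 145896, nat_lit 142604, nat_lit 135822, nat_lit 134574, nat_lit 434, nat_lit 7948, nat_lit 8344, nat_lit 15136, nat_lit 17280, nat_lit 24064, nat_lit 26368, nat_lit 30976, nat_lit 35840, nat_lit 39936, nat_lit 45199, nat_lit 40995, nat_lit 37120, nat_lit 33289, nat_lit 30834, nat_lit 24609, nat_lit 20553, nat_lit 16518, nat_lit 12310, nat_lit 8202, nat_lit 4, nat_lit 421893, nat_lit 409600, nat_lit 131200, nat_lit 41088, nat_lit 36865, nat_lit 32896, nat_lit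 12289, nat_lit 327680]⟩)
 (.leaf ndMr4_6))
 (.node (nat_lit 123) (.leaf ⟨[nat_lit 0xbd11d8646a828e97b366912964940e1719e0, nat_lit 0x1112783a6efa316590a110cc60259a8754ca, nat_lit 0xf09963a0a6589c177adcd4b10aac8c3242c1], [nat_lit 73728, nat_lit 77824, nat_lit 81920, nat_lit 90112, nat_lit 94208, nat_lit 98304, nat_lit 102400, nat_lit 110592, nat_lit 178176, nat_lit 174080, nat_lit 164608, nat_lit 162816, nat_lit 158592, nat_lit 154432, nat_lit 148736, nat_lit 146128, nat_lit 141184, nat_lit 138492, nat_lit 132316, nat_lit 736, nat_lit 6500, nat_lit 9584, nat_lit 15824, nat_lit 19488, nat_lit 21440, nat_lit 30976, nat_lit 33792, nat_lit 39936, nat_lit 43008, nat_lit 46556, nat_lit 41092, nat_lit 37056, nat_lit 32801, nat_lit 28673, nat_lit 24601, nat_lit 16458, nat_lit 12295, nat_lit 8203, nat_lit 425988, nat_lit 405506, nat_lit 397312, nat_lit 143616, nat_lit 139520, nat_lit 135440, nat_lit 131090, nat_lit 45071, nat_lit 40981, nat_lit 36870, nat_lit 28694, nat_lit 24581, nat_lit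 20497]⟩)
 (.leaf ndMr4_7)))
 (.node (nat_lit 126) (.node (nat_lit 125) (.leaf ⟨[nat_lit 0x22b8ddad9f41c16541031928064cc47bb1cd, nat_lit 0x1b788d3b2f08d1c60b5ea410a29ac121a6d5, nat_lit 0x5af9fc885ea2ca16a9c02492eb9b0686d0ce, nat_lit 0x5c0ca0a54aa9111068ad1730cb0ddf301c69], [nat_lit 65536, nat_lit 69632, nat_lit 73728, nat_lit 81920, nat_lit 86016, nat_lit 98304, nat_lit 102400, nat_lit 106496, nat_lit 178176, nat_lit 173056, nat_lit 164608, nat_lit 161536, nat_lit 156096, nat_lit 152608, nat_lit 144808, nat_lit 139520, nat_lit 136582, nat_lit 133079, nat_lit 2694, nat_lit 5372, nat_lit 9352, nat_lit 14736, nat_lit 16416, nat_lit 22784, nat_lit 27776, nat_lit 32256, nat_lit 35328, nat_lit 39936, nat_lit 46190, nat_lit 43989, nat_lit 37997, nat_lit 32992, nat_lit 28798, nat_lit 24704, nat_lit 20505, nat_lit 16425, nat_lit 12324, nat_lit 8201, nat_lit 4161, nat_lit 434184, nat_lit 421894, nat_lit 413700, nat_lit 405506, nat_lit 397312, nat_lit 164864, nat_lit 160768, nat_lit 156672,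 nat_lit 152704, nat_lit 148512, nat_lit 144448, nat_lit 140480, nat_lit 135184, nat_lit 131158, nat_lit 46497, nat_lit 37163]⟩)
 (.leaf ndMr4_8))
 (.node (nat_lit 127) (.leaf ⟨[nat_lit 0xee1d7735077701e5836aa3a502b2e4c09271, nat_lit 0x59f0397348702541956f018968b523379985], [nat_lit 65536, nat_lit 86016, nat_lit 98304, nat_lit 106496, nat_lit 178176, nat_lit 175104, nat_lit 171008, nat_lit 165888, nat_lit 161024, nat_lit 156800, nat_lit 155008, nat_lit 147824, nat_lit 144312, nat_lit 142356, nat_lit 136806, nat_lit 135053, nat_lit 3296, nat_lit 4616, nat_lit 11624, nat_lit 12384, nat_lit 16640, nat_lit 22272, nat_lit 28032, nat_lit 31488, nat_lit 35328, nat_lit 39936, nat_lit 45909, nat_lit 41536, nat_lit 38374, nat_lit 33450, nat_lit 28724, nat_lit 25612, nat_lit 20505, nat_lit 16422, nat_lit 12294, nat_lit 8195, nat_lit 4097, nat_lit 2, nat_lit 417796, nat_lit 397312, nat_lit 147520, nat_lit 135232, nat_lit 131074, nat_lit 41043, nat_lit 28688, nat_lit 20481, nat_lit 12290,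 nat_lit 8193]⟩)
 (.leaf ⟨[nat_lit 0xd74b448cdeeaaacb4d1173886628480931b0, nat_lit 0xbb28d17ca0db0ee073233106952a1674988a], [nat_lit 65536, nat_lit 90112, nat_lit 94208, nat_lit 102400, nat_lit 106496, nat_lit 174080, nat_lit 164864, nat_lit 160128, nat_lit 158720, nat_lit 155008, nat_lit 151440, nat_lit 146952, nat_lit 139408, nat_lit 138380, nat_lit 134842, nat_lit 1590, nat_lit 4888, nat_lit 11824, nat_lit 16032, nat_lit 17760, nat_lit 21568, nat_lit 27008, nat_lit 30464, nat_lit 36352, nat_lit 46773, nat_lit 41940, nat_lit 38185, nat_lit 32988, nat_lit 28980, nat_lit 24629, nat_lit 20488, nat_lit 16463, nat_lit 12289, nat_lit 8193, nat_lit 4112, nat_lit 425989, nat_lit 397312, nat_lit 151808, nat_lit 131104, nat_lit 40961, nat_lit 37120, nat_lit 28673, nat_lit 16386, nat_lit 12289, nat_lit 8194]⟩))))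

theorem dcME15_ok : dcME15.all (elB (nat_lit 0)) = true := by decide +kernel

def dcME16 : BT El := (.node (nat_lit 132) (.node (nat_lit 130) (.node (nat_lit 129) (.leaf ⟨[nat_lit 0x6a6936abdd6bb68c8cd6a4a25020ce009845], [nat_lit 69632, nat_lit 73728, nat_lit 81920, nat_lit 86016, nat_lit 94208, nat_lit 98304, nat_lit 106496, nat_lit 175104, nat_lit 170496, nat_lit 162560, nat_lit 159040, nat_lit 155168, nat_lit 150768, nat_lit 146864, nat_lit 142872, nat_lit 135558, nat_lit 134458, nat_lit 364, nat_lit 6148, nat_lit 9216, nat_lit 12640, nat_lit 19392, nat_lit 22016, nat_lit 27520, nat_lit 31744, nat_lit 33280, nat_lit 43008, nat_lit 41065, nat_lit 37025, nat_lit 32833, nat_lit 28726, nat_lit 24858, nat_lit 20610, nat_lit 16424, nat_lit 12307, nat_lit 8202, nat_lit 4104]⟩)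
 (.leaf ⟨[nat_lit 0xfcca552dac28047b4a1518486a5e717a1c9, nat_lit 0x6acc00b35d719827a558f2904092d1354609], [nat_lit 86016, nat_lit 94208, nat_lit 106496, nat_lit 178176, nat_lit 170496, nat_lit 167680, nat_lit 163456, nat_lit 157760, nat_lit 151584, nat_lit 150944, nat_lit 143912, nat_lit 142892, nat_lit 137092, nat_lit 134868, nat_lit 3164, nat_lit 7724, nat_lit 8400, nat_lit 14048, nat_lit 16448, nat_lit 21952, nat_lit 26368, nat_lit 29184, nat_lit 33280, nat_lit 43008, nat_lit 46374, nat_lit 41080, nat_lit 37000, nat_lit 32904, nat_lit 29016, nat_lit 24761, nat_lit 20544, nat_lit 16399, nat_lit 12294, nat_lit 8201, nat_lit 4101, nat_lit 4, nat_lit 425989, nat_lit 397312, nat_lit 151808, nat_lit 131104, nat_lit 40961, nat_lit 37120, nat_lit 28673, nat_lit 16386, nat_lit 12289, nat_lit 8194, nat_lit 327680]⟩))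
 (.node (nat_lit 131) (.leaf ⟨[nat_lit 0x4de12743d2e20466280e25b54cb4a158d277, nat_lit 0x4e24b7a14d650d01bd4e4009697c66c935d0], [nat_lit 73728, nat_lit 77824, nat_lit 81920, nat_lit 86016, nat_lit 90112, nat_lit 94208, nat_lit 174080, nat_lit 171008, nat_lit 166400, nat_lit 161792, nat_lit 158784, nat_lit 153504, nat_lit 150384, nat_lit 143960, nat_lit 141800, nat_lit 137190, nat_lit 132766, nat_lit 628, nat_lit 4232, nat_lit 9232, nat_lit 12304, nat_lit 19040, nat_lit 23488, nat_lit 25984, nat_lit 29952, nat_lit 34304, nat_lit 39936, nat_lit 46898, nat_lit 41866, nat_lit 37371, nat_lit 32964, nat_lit 28720, nat_lit 24609, nat_lit 20501, nat_lit 16385, nat_lit 8194, nat_lit 16, nat_lit 425989, nat_lit 397312, nat_lit 151808, nat_lit 131104, nat_lit 40961, nat_lit 37120, nat_lit 28673, nat_lit 16386, nat_lit 12289, nat_lit 8194]⟩)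
 (.leaf ⟨[nat_lit 0x12ebb29c6f45b1aa942b63048343d2e29c40, nat_lit 0x6065afa98946c59273e13396f65a06052422], [nat_lit 65536, nat_lit 77824, nat_lit 81920, nat_lit 90112, nat_lit 94208, nat_lit 98304, nat_lit 174080, nat_lit 171008, nat_lit 166144, nat_lit 163072, nat_lit 159360, nat_lit 154848, nat_lit 149392, nat_lit 147144, nat_lit 140484, nat_lit 138546, nat_lit 132188, nat_lit 1296, nat_lit 6536, nat_lit 10232, nat_lit 12688, nat_lit 17184, nat_lit 24000, nat_lit 27008, nat_lit 30464, nat_lit 33280, nat_lit 47090, nat_lit 43656, nat_lit 37120, nat_lit 32914, nat_lit 28989, nat_lit 25601, nat_lit 20561, nat_lit 16455, nat_lit 12290, nat_lit 8211, nat_lit 4097, nat_lit 430085, nat_lit 401408, nat_lit 139776, nat_lit 40964, nat_lit 32800, nat_lit 28673, nat_lit 16385, nat_lit 12292, nat_lit 4097]⟩)))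
 (.node (nat_lit 134) (.node (nat_lit 133) (.leaf ⟨[nat_lit 0xe1d1d2b29759be2e63612a5d28080a431c43], [nat_lit 73728, nat_lit 77824, nat_lit 94208, nat_lit 102400, nat_lit 106496, nat_lit 178176, nat_lit 174080, nat_lit 171520, nat_lit 165888, nat_lit 163328, nat_lit 156480, nat_lit 155520, nat_lit 148256, nat_lit 144760, nat_lit 142992, nat_lit 135564, nat_lit 134262, nat_lit 1174, nat_lit 5264, nat_lit 8824, nat_lit 13152, nat_lit 19456, nat_lit 22336, nat_lit 28032, nat_lit 29696, nat_lit 35840, nat_lit 37888, nat_lit 43008, nat_lit 41239, nat_lit 36872, nat_lit 32776, nat_lit 28680, nat_lit 24612, nat_lit 20485, nat_lit 16392, nat_lit 8224, nat_lit 5121, nat_lit 4]⟩)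
 (.leaf ⟨[nat_lit 0xb2874b652ed5457342612ad9cf2984121c60], [nat_lit 65536, nat_lit 73728, nat_lit 81920, nat_lit 86016, nat_lit 90112, nat_lit 178176, nat_lit 173056, nat_lit 168448, nat_lit 164096, nat_lit 161152, nat_lit 156032, nat_lit 152160, nat_lit 147648, nat_lit 145760, nat_lit 142452, nat_lit 136170, nat_lit 133023, nat_lit 2560, nat_lit 5780, nat_lit 11928, nat_lit 12304, nat_lit 18944, nat_lit 21824, nat_lit 27776, nat_lit 31744, nat_lit 33792, nat_lit 43008, nat_lit 41472, nat_lit 37206, nat_lit 33390, nat_lit 28684, nat_lit 24587, nat_lit 20501, nat_lit 16398, nat_lit 12310, nat_lit 8209, nat_lit 4101, nat_lit 327680]⟩))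
 (.node (nat_lit 135) (.leaf ⟨[nat_lit 0xa600c98ce505a12ab56f400c417b1cd218e5, nat_lit 0x487b2d6ca2c2d8f7ad0c473e7000d684a822], [nat_lit 73728, nat_lit 77824, nat_lit 86016, nat_lit 90112, nat_lit 94208, nat_lit 98304, nat_lit 102400, nat_lit 110592, nat_lit 173056, nat_lit 168960, nat_lit 164864, nat_lit 161664, nat_lit 157056, nat_lit 153344, nat_lit 150800, nat_lit 145880, nat_lit 139484, nat_lit 135180, nat_lit 133079, nat_lit 294, nat_lit 6748, nat_lit 10392, nat_lit 14048, nat_lit 17248, nat_lit 23488, nat_lit 26368, nat_lit 30464, nat_lit 34304, nat_lit 39936, nat_lit 43008, nat_lit 45513, nat_lit 41081, nat_lit 36941, nat_lit 34821, nat_lit 29023, nat_lit 24837, nat_lit 20511, nat_lit 16424, nat_lit 12323, nat_lit 8203, nat_lit 4101, nat_lit 425989, nat_lit 401408, nat_lit 139552, nat_lit 131364, nat_lit 40961, nat_lit 37157, nat_lit 28676, nat_lit 16388, nat_lit 12292, nat_lit 4097]⟩)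
 (.leaf ndMr2_7))))

theorem dcME16_ok : dcME16.all (elB (nat_lit 0)) = true := by decide +kernel

def dcME17 : BT El := (.node (nat_lit 140) (.node (nat_lit 138) (.node (nat_lit 137) (.leaf ⟨[nat_lit 0x593c6c01eec788d6191b482e53706a54a151], [nat_lit 69632, nat_lit 81920, nat_lit 94208, nat_lit 106496, nat_lit 173056, nat_lit 169472, nat_lit 167424, nat_lit 163456, nat_lit 159424, nat_lit 152832, nat_lit 147904, nat_lit 143928, nat_lit 140836, nat_lit 138658, nat_lit 132367, nat_lit 1298, nat_lit 8132, nat_lit 10496, nat_lit 13552, nat_lit 19712, nat_lit 21696, nat_lit 28288, nat_lit 29184, nat_lit 35328, nat_lit 37888, nat_lit 41794, nat_lit 37124, nat_lit 33001, nat_lit 29020, nat_lit 24882, nat_lit 20635, nat_lit 16463, nat_lit 12320, nat_lit 4105, nat_lit 2]⟩)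
 (.leaf ⟨[nat_lit 0x9339a315a745a071901acaa4ef51aee81424], [nat_lit 69632, nat_lit 73728, nat_lit 77824, nat_lit 86016, nat_lit 90112, nat_lit 98304, nat_lit 178176, nat_lit 173056, nat_lit 171520, nat_lit 164096, nat_lit 160128, nat_lit 158272, nat_lit 152960, nat_lit 149360, nat_lit 144384, nat_lit 141292, nat_lit 135374, nat_lit 132201, nat_lit 1124, nat_lit 6400, nat_lit 10032, nat_lit 16160, nat_lit 18560, nat_lit 22784, nat_lit 27136, nat_lit 28928, nat_lit 35328, nat_lit 38912, nat_lit 41728, nat_lit 37928, nat_lit 32840, nat_lit 28689, nat_lit 24840, nat_lit 16517, nat_lit 12544, nat_lit 8208, nat_lit 128, nat_lit 327680]⟩))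
 (.node (nat_lit 139) (.leaf ⟨[nat_lit 0x93f5f6341ec0c44402db4b96b299d2875943], [nat_lit 65536, nat_lit 69632, nat_lit 73728, nat_lit 81920, nat_lit 90112, nat_lit 94208, nat_lit 98304, nat_lit 178176, nat_lit 174080, nat_lit 168448, nat_lit 166656, nat_lit 161664, nat_lit 157056, nat_lit 154432, nat_lit 151312, nat_lit 145112, nat_lit 140872, nat_lit 137290, nat_lit 131999, nat_lit 3866, nat_lit 5544, nat_lit 10168, nat_lit 12800, nat_lit 16640, nat_lit 23296, nat_lit 26496, nat_lit 32256, nat_lit 38912, nat_lit 41533, nat_lit 37308, nat_lit 33468, nat_lit 29290, nat_lit 24710, nat_lit 20494, nat_lit 16448, nat_lit 12292, nat_lit 8203, nat_lit 4100, nat_lit 2]⟩)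
 (.leaf ⟨[nat_lit 0x7b7bb1341ec20a2102db4acae54a267b386a], [nat_lit 69632, nat_lit 77824, nat_lit 102400, nat_lit 106496, nat_lit 174080, nat_lit 165888, nat_lit 162560, nat_lit 155296, nat_lit 151360, nat_lit 145288, nat_lit 142988, nat_lit 137262, nat_lit 134452, nat_lit 3862, nat_lit 7588, nat_lit 10168, nat_lit 14464, nat_lit 17440, nat_lit 21248, nat_lit 26368, nat_lit 30208, nat_lit 33792, nat_lit 39936, nat_lit 41500, nat_lit 38144, nat_lit 32924, nat_lit 28773, nat_lit 24711, nat_lit 20486, nat_lit 16389, nat_lit 12547, nat_lit 8203, nat_lit 4105]⟩)))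
 (.node (nat_lit 142) (.node (nat_lit 141) (.leaf ⟨[nat_lit 0xafc63015a745a071901acaa4ef51aee81424], [nat_lit 69632, nat_lit 86016, nat_lit 94208, nat_lit 98304, nat_lit 102400, nat_lit 106496, nat_lit 178176, nat_lit 174080, nat_lit 168960, nat_lit 160512, nat_lit 157248, nat_lit 152384, nat_lit 147872, nat_lit 147120, nat_lit 140184, nat_lit 135372, nat_lit 131749, nat_lit 3172, nat_lit 6400, nat_lit 12080, nat_lit 14112, nat_lit 16512, nat_lit 22784, nat_lit 27136, nat_lit 30976, nat_lit 33280, nat_lit 43008, nat_lit 41728, nat_lit 37928, nat_lit 32840, nat_lit 28689, nat_lit 24840, nat_lit 16517, nat_lit 12544, nat_lit 8208, nat_lit 128, nat_lit 327680]⟩)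
 (.leaf ⟨[nat_lit 0xd7b444481d495ae7895ac440ca5bc351cc82], [nat_lit 65536, nat_lit 69632, nat_lit 86016, nat_lit 98304, nat_lit 102400, nat_lit 106496, nat_lit 178176, nat_lit 175104, nat_lit 168960, nat_lit 164864, nat_lit 163072, nat_lit 157888, nat_lit 153952, nat_lit 151536, nat_lit 143600, nat_lit 142488, nat_lit 138776, nat_lit 131793, nat_lit 2748, nat_lit 4320, nat_lit 8208, nat_lit 12304, nat_lit 17536, nat_lit 23680, nat_lit 25088, nat_lit 31232, nat_lit 39936, nat_lit 41965, nat_lit 37068, nat_lit 32986, nat_lit 28791, nat_lit 24598, nat_lit 20501, nat_lit 16431, nat_lit 12293, nat_lit 8194, nat_lit 4101]⟩))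
 (.node (nat_lit 143) (.leaf ⟨[nat_lit 0x28444b3548c3c140945b4b256f18aee41433], [nat_lit 65536, nat_lit 69632, nat_lit 77824, nat_lit 86016, nat_lit 90112, nat_lit 102400, nat_lit 106496, nat_lit 171520, nat_lit 164352, nat_lit 161536, nat_lit 156032, nat_lit 153024, nat_lit 149168, nat_lit 143456, nat_lit 143224, nat_lit 135506, nat_lit 131289, nat_lit 2574, nat_lit 6208, nat_lit 10032, nat_lit 14144, nat_lit 17056, nat_lit 22784, nat_lit 24704, nat_lit 29440, nat_lit 34304, nat_lit 39936, nat_lit 41812, nat_lit 38265, nat_lit 33980, nat_lit 28699, nat_lit 24607, nat_lit 20742, nat_lit 16459, nat_lit 12326, nat_lit 8208]⟩)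
 (.leaf ⟨[nat_lit 0x4b4142590ac954e3b21b40b849541f3b9811], [nat_lit 65536, nat_lit 73728, nat_lit 77824, nat_lit 81920, nat_lit 94208, nat_lit 98304, nat_lit 102400, nat_lit 178176, nat_lit 171520, nat_lit 165120, nat_lit 162816, nat_lit 159232, nat_lit 153504, nat_lit 150112, nat_lit 146480, nat_lit 142248, nat_lit 136270, nat_lit 134862, nat_lit 1250, nat_lit 7904, nat_lit 10864, nat_lit 14544, nat_lit 18784, nat_lit 23936, nat_lit 25216, nat_lit 30976, nat_lit 34304, nat_lit 38912, nat_lit 43008, nat_lit 41921, nat_lit 38397, nat_lit 33910, nat_lit 29038, nat_lit 24736, nat_lit 20550, nat_lit 16419, nat_lit 12306, nat_lit 8203]⟩))))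

theorem dcME17_ok : dcME17.all (elB (nat_lit 0)) = true := by decide +kernel

def dcME18 : BT El := (.node (nat_lit 148) (.node (nat_lit 146) (.node (nat_lit 145) (.leaf ⟨[nat_lit 0xcf095912eac3003248db4b96d32222a73cf0], [nat_lit 65536, nat_lit 73728, nat_lit 86016, nat_lit 98304, nat_lit 169984, nat_lit 164608, nat_lit 162944, nat_lit 156160, nat_lit 154752, nat_lit 150112, nat_lit 146904, nat_lit 140816, nat_lit 137870, nat_lit 134615, nat_lit 64, nat_lit 7324, nat_lit 10456, nat_lit 16160, nat_lit 17216, nat_lit 21952, nat_lit 30464, nat_lit 35328, nat_lit 39936, nat_lit 41793, nat_lit 38214, nat_lit 34003, nat_lit 29011, nat_lit 24577, nat_lit 20483, nat_lit 16390, nat_lit 12293, nat_lit 8200]⟩)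
 (.leaf ⟨[nat_lit 0x66c53570a0c5d4ef229b40cad704cc588d09], [nat_lit 81920, nat_lit 90112, nat_lit 94208, nat_lit 98304, nat_lit 102400, nat_lit 106496, nat_lit 178176, nat_lit 173056, nat_lit 171008, nat_lit 167168, nat_lit 162432, nat_lit 156416, nat_lit 151680, nat_lit 148288, nat_lit 147376, nat_lit 142584, nat_lit 137740, nat_lit 131430, nat_lit 804, nat_lit 7364, nat_lit 11120, nat_lit 16368, nat_lit 21952, nat_lit 26496, nat_lit 29696, nat_lit 35840, nat_lit 39936, nat_lit 41580, nat_lit 37180, nat_lit 32978, nat_lit 29009, nat_lit 24841, nat_lit 21013, nat_lit 16456, nat_lit 12322, nat_lit 8707, nat_lit 4097]⟩))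
 (.node (nat_lit 147) (.leaf ⟨[nat_lit 0x2182b2182ec81828391b48da6e9092552eaf], [nat_lit 69632, nat_lit 73728, nat_lit 81920, nat_lit 86016, nat_lit 90112, nat_lit 98304, nat_lit 106496, nat_lit 178176, nat_lit 175104, nat_lit 169472, nat_lit 166656, nat_lit 162560, nat_lit 156160, nat_lit 151712, nat_lit 151024, nat_lit 143824, nat_lit 142880, nat_lit 138414, nat_lit 134694, nat_lit 2442, nat_lit 5296, nat_lit 8928, nat_lit 14992, nat_lit 17760, nat_lit 22080, nat_lit 28416, nat_lit 31744, nat_lit 35840, nat_lit 37888, nat_lit 43008, nat_lit 41124, nat_lit 37074, nat_lit 32884, nat_lit 28726, nat_lit 24884, nat_lit 20616, nat_lit 16430, nat_lit 12289, nat_lit 8224, nat_lit 4101, nat_lit 2]⟩)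
 (.leaf ⟨[nat_lit 0xe7421d510541dcab839ac7ca33a992141ec0], [nat_lit 65536, nat_lit 69632, nat_lit 73728, nat_lit 90112, nat_lit 94208, nat_lit 102400, nat_lit 175104, nat_lit 168960, nat_lit 167168, nat_lit 162432, nat_lit 154016, nat_lit 147728, nat_lit 145144, nat_lit 139896, nat_lit 137414, nat_lit 134123, nat_lit 256, nat_lit 7716, nat_lit 11976, nat_lit 15024, nat_lit 19264, nat_lit 22784, nat_lit 31488, nat_lit 33280, nat_lit 38912, nat_lit 41741, nat_lit 37005, nat_lit 33947, nat_lit 28783, nat_lit 24635, nat_lit 20493, nat_lit 16387, nat_lit 12293, nat_lit 8194, nat_lit 4100, nat_lit 8]⟩)))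
 (.node (nat_lit 150) (.node (nat_lit 149) (.leaf ndMr3_14)
 (.leaf ⟨[nat_lit 0x53a99931dd74101328a4b7a55568ec185191, nat_lit 0x72d42b6382239948bcad09c6957806d29169], [nat_lit 65536, nat_lit 69632, nat_lit 73728, nat_lit 86016, nat_lit 102400, nat_lit 110592, nat_lit 174080, nat_lit 169984, nat_lit 167168, nat_lit 161536, nat_lit 157632, nat_lit 152352, nat_lit 150304, nat_lit 146832, nat_lit 142400, nat_lit 136920, nat_lit 131703, nat_lit 1484, nat_lit 7604, nat_lit 9656, nat_lit 13344, nat_lit 16512, nat_lit 20608, nat_lit 25472, nat_lit 33792, nat_lit 37888, nat_lit 43008, nat_lit 46410, nat_lit 43680, nat_lit 37177, nat_lit 29706, nat_lit 24730, nat_lit 20499, nat_lit 16396, nat_lit 12295, nat_lit 8194, nat_lit 4097, nat_lit 2, nat_lit 425989, nat_lit 409600, nat_lit 131328, nat_lit 40992, nat_lit 36865, nat_lit 28704, nat_lit 24577, nat_lit 4097]⟩))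
 (.node (nat_lit 151) (.leaf ndMr3_16)
 (.leaf ⟨[nat_lit 0xde7d4d6c683525049d40f31cab83036bb852, nat_lit 0x48b7871b00f24e460b44e2c0f15d5574a296], [nat_lit 65536, nat_lit 69632, nat_lit 86016, nat_lit 94208, nat_lit 98304, nat_lit 110592, nat_lit 178176, nat_lit 169984, nat_lit 165632, nat_lit 161536, nat_lit 158592, nat_lit 152576, nat_lit 149104, nat_lit 146168, nat_lit 142848, nat_lit 135870, nat_lit 134544, nat_lit 1776, nat_lit 7392, nat_lit 8320, nat_lit 12800, nat_lit 19648, nat_lit 20992, nat_lit 28288, nat_lit 29696, nat_lit 35840, nat_lit 46581, nat_lit 41429, nat_lit 37029, nat_lit 33014, nat_lit 24578, nat_lit 20497, nat_lit 16425, nat_lit 12295, nat_lit 8200, nat_lit 4101, nat_lit 4, nat_lit 417797, nat_lit 401408, nat_lit 151616, nat_lit 139360, nat_lit 40961, nat_lit 28676, nat_lit 16385, nat_lit 12292, nat_lit 4097]⟩))))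

theorem dcME18_ok : dcME18.all (elB (nat_lit 0)) = true := by decide +kernel

def dcME19 : BT El := (.node (nat_lit 156) (.node (nat_lit 154) (.node (nat_lit 153) (.leaf ndMr5_0)
 (.leaf ⟨[nat_lit 0x35635c2da376364710cd0abd20a05cb41153, nat_lit 0x4e4d2b284f01de928b84d401533598baa5e4, nat_lit 0x1e8b1b6d0ae84ac641d578a58008c9513e6b, nat_lit 0x563c9ca46e540eac32552241ed0d96e01e62], [nat_lit 77824, nat_lit 86016, nat_lit 90112, nat_lit 94208, nat_lit 98304, nat_lit 102400, nat_lit 106496, nat_lit 168960, nat_lit 164864, nat_lit 159872, nat_lit 158912, nat_lit 154240, nat_lit 150416, nat_lit 147304, nat_lit 138442, nat_lit 132219, nat_lit 2672, nat_lit 4404, nat_lit 8872, nat_lit 15744, nat_lit 21376, nat_lit 27136, nat_lit 29184, nat_lit 37888, nat_lit 43008, nat_lit 46792, nat_lit 41625, nat_lit 37073, nat_lit 33000, nat_lit 28708, nat_lit 24600, nat_lit 20627, nat_lit 16387, nat_lit 12353, nat_lit 8226, nat_lit 4113, nat_lit 430088, nat_lit 421894, nat_lit 413700, nat_lit 405506,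 nat_lit 397312, nat_lit 164352, nat_lit 156416, nat_lit 152320, nat_lit 148448, nat_lit 143616, nat_lit 139728, nat_lit 135392, nat_lit 131170, nat_lit 45786, nat_lit 41158, nat_lit 327680]⟩))
 (.node (nat_lit 155) (.leaf ndMr5_1)
 (.leaf ⟨[nat_lit 0xf9af6a554ee2905342c120d2161b1b179ae9, nat_lit 0x563c9c8868c425669baa2510e5b360395c0f, nat_lit 0xfc3a6f6b0c50dc548c148791c7182d59c92b], [nat_lit 65536, nat_lit 69632, nat_lit 81920, nat_lit 94208, nat_lit 98304, nat_lit 102400, nat_lit 168960, nat_lit 160128, nat_lit 158336, nat_lit 154560, nat_lit 150000, nat_lit 146712, nat_lit 140580, nat_lit 136642, nat_lit 134873, nat_lit 2736, nat_lit 6272, nat_lit 11224, nat_lit 13520, nat_lit 19648, nat_lit 21440, nat_lit 25344, nat_lit 30976, nat_lit 34816, nat_lit 39936, nat_lit 43008, nat_lit 46981, nat_lit 43871, nat_lit 37173, nat_lit 33023, nat_lit 28734, nat_lit 24620, nat_lit 20556, nat_lit 16522, nat_lit 12353, nat_lit 8195, nat_lit 4097, nat_lit 2, nat_lit 430086, nat_lit 413700,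 nat_lit 397312, nat_lit 152128, nat_lit 147488, nat_lit 135200, nat_lit 131120, nat_lit 45059, nat_lit 41555, nat_lit 32816, nat_lit 28755, nat_lit 12290, nat_lit 8194]⟩)))
 (.node (nat_lit 158) (.node (nat_lit 157) (.leaf ndMr5_2)
 (.leaf ⟨[nat_lit 0x8b744eb82ca6161469eb3721e1224665c452, nat_lit 0x248e242b0f0549c99d1b57822315d043582b, nat_lit 0x1dd8e849967089ed42885ac2549c6f660dc0], [nat_lit 73728, nat_lit 77824, nat_lit 86016, nat_lit 102400, nat_lit 106496, nat_lit 173056, nat_lit 171520, nat_lit 166144, nat_lit 158016, nat_lit 153920, nat_lit 150672, nat_lit 143392, nat_lit 140284, nat_lit 139042, nat_lit 131523, nat_lit 3476, nat_lit 4328, nat_lit 9728, nat_lit 12992, nat_lit 19264, nat_lit 22080, nat_lit 26496, nat_lit 29696, nat_lit 35328, nat_lit 38912, nat_lit 46786, nat_lit 41194, nat_lit 38966, nat_lit 32858, nat_lit 29296, nat_lit 24867, nat_lit 20502, nat_lit 16386, nat_lit 12358, nat_lit 8, nat_lit 434182, nat_lit 413700, nat_lit 405506, nat_lit 397312, nat_lit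 152576, nat_lit 148512, nat_lit 143472, nat_lit 140328, nat_lit 135280, nat_lit 131076, nat_lit 45066, nat_lit 36928, nat_lit 32794, nat_lit 28764, nat_lit 327680]⟩))
 (.node (nat_lit 159) (.leaf ⟨[nat_lit 0xf559a0459a34acd07ba2504c24a9e54ba84c, nat_lit 0xb211281bcb29dd71a802839ac96b28a71050, nat_lit 0x274b4b3bee402a4559870426cd9c6ac75041, nat_lit 0x2d472d6c6aca48861401738dca9d9282856f], [nat_lit 73728, nat_lit 77824, nat_lit 81920, nat_lit 86016, nat_lit 90112, nat_lit 102400, nat_lit 110592, nat_lit 178176, nat_lit 173056, nat_lit 168448, nat_lit 165120, nat_lit 160000, nat_lit 155968, nat_lit 152608, nat_lit 147552, nat_lit 145960, nat_lit 139748, nat_lit 135390, nat_lit 131129, nat_lit 104, nat_lit 4244, nat_lit 10048, nat_lit 14032, nat_lit 18240, nat_lit 22080, nat_lit 25216, nat_lit 30464, nat_lit 37888, nat_lit 43008, nat_lit 47072, nat_lit 41400, nat_lit 37044, nat_lit 33016, nat_lit 28761, nat_lit 24724, nat_lit 20505, nat_lit 16397, nat_lit 12310, nat_lit 8211, nat_lit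 434185, nat_lit 425991, nat_lit 417797, nat_lit 409603, nat_lit 397312, nat_lit 168960, nat_lit 161536, nat_lit 156928, nat_lit 151936, nat_lit 148544, nat_lit 143632, nat_lit 136840, nat_lit 132184, nat_lit 45314, nat_lit 8194, nat_lit 327680]⟩)
 (.leaf ⟨[nat_lit 0x48ed4eab5940a1401ad2221a3284ce5bd9ee, nat_lit 0x7ebb7238a83426e6a92309b5417ae402bacc, nat_lit 0x484887a45a81a92463ce2b98165c1d50ca65], [nat_lit 77824, nat_lit 90112, nat_lit 94208, nat_lit 98304, nat_lit 174080, nat_lit 171520, nat_lit 165376, nat_lit 163712, nat_lit 159360, nat_lit 153056, nat_lit 151488, nat_lit 146312, nat_lit 142984, nat_lit 135744, nat_lit 133636, nat_lit 1196, nat_lit 6000, nat_lit 9496, nat_lit 16288, nat_lit 17312, nat_lit 22656, nat_lit 28288, nat_lit 31488, nat_lit 35328, nat_lit 37888, nat_lit 43008, nat_lit 45285, nat_lit 41494, nat_lit 37158, nat_lit 33348, nat_lit 30786, nat_lit 24609, nat_lit 20492, nat_lit 17411, nat_lit 12324, nat_lit 8209, nat_lit 438279, nat_lit 417797, nat_lit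 409603, nat_lit 397312, nat_lit 157696, nat_lit 151616, nat_lit 149568, nat_lit 145632, nat_lit 137400, nat_lit 131194, nat_lit 41208, nat_lit 36929, nat_lit 32907, nat_lit 8194]⟩))))

theorem dcME19_ok : dcME19.all (elB (nat_lit 0)) = true := by decide +kernel

def dcME20 : BT El := (.node (nat_lit 164) (.node (nat_lit 162) (.node (nat_lit 161) (.leaf ndMr5_3)
 (.leaf ⟨[nat_lit 0x421ed751ac94444f85665a31a75c82eb8c80], [nat_lit 65536, nat_lit 73728, nat_lit 90112, nat_lit 94208, nat_lit 98304, nat_lit 110592, nat_lit 173056, nat_lit 168960, nat_lit 167424, nat_lit 160640, nat_lit 157568, nat_lit 154016, nat_lit 150960, nat_lit 147200, nat_lit 141692, nat_lit 137708, nat_lit 134822, nat_lit 2560, nat_lit 7636, nat_lit 9848, nat_lit 14848, nat_lit 19392, nat_lit 24192, nat_lit 24960, nat_lit 30464, nat_lit 35840, nat_lit 39936, nat_lit 41472, nat_lit 37180, nat_lit 32971, nat_lit 29029, nat_lit 24616, nat_lit 20570, nat_lit 16430, nat_lit 12293, nat_lit 8201, nat_lit 4128, nat_lit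 327680]⟩))
 (.node (nat_lit 163) (.leaf ndMr5_4)
 (.leaf ⟨[nat_lit 0x9500554067023ef21316d028a7a24758d8ce, nat_lit 0xbd78bb6cc68bc227351cc092c078a495d4aa, nat_lit 0x88bed1621a23be91baac32ba550192458670], [nat_lit 65536, nat_lit 69632, nat_lit 73728, nat_lit 90112, nat_lit 94208, nat_lit 98304, nat_lit 102400, nat_lit 169472, nat_lit 166912, nat_lit 163456, nat_lit 158336, nat_lit 152032, nat_lit 148672, nat_lit 146344, nat_lit 142968, nat_lit 137048, nat_lit 133668, nat_lit 2996, nat_lit 7224, nat_lit 10784, nat_lit 14096, nat_lit 18368, nat_lit 23808, nat_lit 26496, nat_lit 30208, nat_lit 33792, nat_lit 39936, nat_lit 45523, nat_lit 41338, nat_lit 37245, nat_lit 33011, nat_lit 29033, nat_lit 24625, nat_lit 20572, nat_lit 16448, nat_lit 12322, nat_lit 8201, nat_lit 4101, nat_lit 2, nat_lit 425991, nat_lit 417797, nat_lit 409603, nat_lit 401408, nat_lit 160000, nat_lit 155776, nat_lit 152000, nat_lit 147648, nat_lit 143632, nat_lit 131288, nat_lit 45092, nat_lit 41377, nat_lit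 37041, nat_lit 4097]⟩)))
 (.node (nat_lit 166) (.node (nat_lit 165) (.leaf ndMr5_5)
 (.leaf ⟨[nat_lit 0x650faa1cae23054faad10992c76c5d402585, nat_lit 0x2b17b813551b90e61adf09242c0226eb16b4, nat_lit 0x69069f0d22b011a2625062bad73be1395543], [nat_lit 73728, nat_lit 86016, nat_lit 90112, nat_lit 98304, nat_lit 102400, nat_lit 110592, nat_lit 171008, nat_lit 164096, nat_lit 162816, nat_lit 157888, nat_lit 151744, nat_lit 147792, nat_lit 144688, nat_lit 141812, nat_lit 138178, nat_lit 133067, nat_lit 3152, nat_lit 7868, nat_lit 9784, nat_lit 12736, nat_lit 17952, nat_lit 21888, nat_lit 25600, nat_lit 31232, nat_lit 33792, nat_lit 37888, nat_lit 45160, nat_lit 41948, nat_lit 37265, nat_lit 33299, nat_lit 28967, nat_lit 25660, nat_lit 20553, nat_lit 16910, nat_lit 12307, nat_lit 8200, nat_lit 16, nat_lit 425989, nat_lit 409602, nat_lit 397312, nat_lit 151808, nat_lit 147488, nat_lit 139536, nat_lit 135460, nat_lit 131348, nat_lit 45073, nat_lit 41013, nat_lit 36887, nat_lit 28688, nat_lit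 24592, nat_lit 12289, nat_lit 327680]⟩))
 (.node (nat_lit 167) (.leaf ⟨[nat_lit 0xdb81d41c18d255e8596ee9a9208d83411cd2, nat_lit 0x39f3fa1cd6e83c082d8868b4299098a3d6f4, nat_lit 0x3c96f058ee0911c19984d4c291414f67a995], [nat_lit 69632, nat_lit 73728, nat_lit 77824, nat_lit 81920, nat_lit 86016, nat_lit 90112, nat_lit 102400, nat_lit 175104, nat_lit 171008, nat_lit 165120, nat_lit 159872, nat_lit 157888, nat_lit 151648, nat_lit 147648, nat_lit 146168, nat_lit 142912, nat_lit 135580, nat_lit 131732, nat_lit 3742, nat_lit 6920, nat_lit 10344, nat_lit 15424, nat_lit 19040, nat_lit 21248, nat_lit 24832, nat_lit 29952, nat_lit 33792, nat_lit 37888, nat_lit 43008, nat_lit 45113, nat_lit 41890, nat_lit 38364, nat_lit 32851, nat_lit 29799, nat_lit 24706, nat_lit 21019, nat_lit 16396, nat_lit 12293, nat_lit 8193, nat_lit 4160, nat_lit 2, nat_lit 434181, nat_lit 409602, nat_lit 397312, nat_lit 152576, nat_lit 148480, nat_lit 140320, nat_lit 135188, nat_lit 45090, nat_lit 36896, nat_lit 32788,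 nat_lit 28723, nat_lit 24578, nat_lit 12290, nat_lit 327680]⟩)
 (.leaf ⟨[nat_lit 0x228487291744ce35b21ac700f01dc4a904cf], [nat_lit 65536, nat_lit 81920, nat_lit 98304, nat_lit 102400, nat_lit 106496, nat_lit 168448, nat_lit 167168, nat_lit 162816, nat_lit 157248, nat_lit 155552, nat_lit 150176, nat_lit 146344, nat_lit 141016, nat_lit 136170, nat_lit 133872, nat_lit 3366, nat_lit 5120, nat_lit 9776, nat_lit 16224, nat_lit 16864, nat_lit 27520, nat_lit 30464, nat_lit 34304, nat_lit 38912, nat_lit 43008, nat_lit 41402, nat_lit 36873, nat_lit 33907, nat_lit 28948, nat_lit 24705, nat_lit 20489, nat_lit 16448, nat_lit 12289, nat_lit 8211, nat_lit 4100]⟩))))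

theorem dcME20_ok : dcME20.all (elB (nat_lit 0)) = true := by decide +kernel

def dcME21 : BT El := (.node (nat_lit 172) (.node (nat_lit 170) (.node (nat_lit 169) (.leaf ⟨[nat_lit 0x8b47e4aa57439a1210dac996247002fba916], [nat_lit 77824, nat_lit 81920, nat_lit 94208, nat_lit 102400, nat_lit 106496, nat_lit 173056, nat_lit 171008, nat_lit 166912, nat_lit 161024, nat_lit 155776, nat_lit 151648, nat_lit 148320, nat_lit 143488, nat_lit 142120, nat_lit 137534, nat_lit 133924, nat_lit 1720, nat_lit 6312, nat_lit 9160, nat_lit 13920, nat_lit 18688, nat_lit 21504, nat_lit 28288, nat_lit 32256, nat_lit 33792, nat_lit 43008, nat_lit 41817, nat_lit 38297, nat_lit 32784, nat_lit 29194, nat_lit 24714, nat_lit 16648, nat_lit 12309, nat_lit 8202, nat_lit 4101]⟩)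
 (.leaf ⟨[nat_lit 0x1eb84e04ad471d3714dac2c483a99ea42e01], [nat_lit 69632, nat_lit 73728, nat_lit 77824, nat_lit 81920, nat_lit 86016, nat_lit 90112, nat_lit 94208, nat_lit 106496, nat_lit 168448, nat_lit 166144, nat_lit 161664, nat_lit 156928, nat_lit 151936, nat_lit 147952, nat_lit 143544, nat_lit 143256, nat_lit 135256, nat_lit 131091, nat_lit 3228, nat_lit 6208, nat_lit 8272, nat_lit 14992, nat_lit 19296, nat_lit 20544, nat_lit 24832, nat_lit 32512, nat_lit 34304, nat_lit 39936, nat_lit 43008, nat_lit 41795, nat_lit 37301, nat_lit 33019, nat_lit 28763, nat_lit 24602, nat_lit 20483, nat_lit 16454, nat_lit 12311, nat_lit 8209, nat_lit 4097, nat_lit 327680]⟩))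
 (.node (nat_lit 171) (.leaf ⟨[nat_lit 0x5cfc508de74b561252dac184c4114074392f], [nat_lit 65536, nat_lit 69632, nat_lit 81920, nat_lit 94208, nat_lit 102400, nat_lit 174080, nat_lit 168448, nat_lit 167168, nat_lit 161024, nat_lit 157440, nat_lit 153504, nat_lit 150304, nat_lit 146264, nat_lit 142956, nat_lit 138884, nat_lit 133665, nat_lit 2442, nat_lit 4780, nat_lit 8408, nat_lit 13920, nat_lit 20000, nat_lit 22784, nat_lit 31488, nat_lit 34304, nat_lit 37888, nat_lit 41609, nat_lit 37193, nat_lit 33392, nat_lit 28726, nat_lit 25088, nat_lit 20489, nat_lit 16514, nat_lit 12289, nat_lit 8193, nat_lit 4097]⟩)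
 (.leaf ⟨[nat_lit 0x36563c13a2654ab038e6f636cb026e1a1488, nat_lit 0x2b42814894b342ec3c68e692d3ac8af00d01, nat_lit 0x221d149991771c047d6c3644528168b53521], [nat_lit 77824, nat_lit 86016, nat_lit 94208, nat_lit 98304, nat_lit 175104, nat_lit 167168, nat_lit 160512, nat_lit 157184, nat_lit 152096, nat_lit 148976, nat_lit 146392, nat_lit 139876, nat_lit 135802, nat_lit 134324, nat_lit 520, nat_lit 6160, nat_lit 9816, nat_lit 12720, nat_lit 20352, nat_lit 22336, nat_lit 28288, nat_lit 29952, nat_lit 39936, nat_lit 45452, nat_lit 41259, nat_lit 37136, nat_lit 33350, nat_lit 30829, nat_lit 24616, nat_lit 20486, nat_lit 16646, nat_lit 12354, nat_lit 8194, nat_lit 4100, nat_lit 128, nat_lit 417796, nat_lit 405506, nat_lit 397312, nat_lit 147520, nat_lit 139272, nat_lit 135192, nat_lit 131150, nat_lit 45138, nat_lit 40970, nat_lit 36865, nat_lit 32798, nat_lit 28673, nat_lit 20481]⟩)))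
 (.node (nat_lit 174) (.node (nat_lit 173) (.leaf ⟨[nat_lit 0xfc3a6f0bc8c196d74cdb4844463a00b72ab2], [nat_lit 69632, nat_lit 81920, nat_lit 86016, nat_lit 90112, nat_lit 102400, nat_lit 106496, nat_lit 174080, nat_lit 171520, nat_lit 167680, nat_lit 163328, nat_lit 159104, nat_lit 155136, nat_lit 150960, nat_lit 146640, nat_lit 139620, nat_lit 138406, nat_lit 133988, nat_lit 1762, nat_lit 7128, nat_lit 9792, nat_lit 14064, nat_lit 16864, nat_lit 23552, nat_lit 27520, nat_lit 35328, nat_lit 37888, nat_lit 43008, nat_lit 41856, nat_lit 38019, nat_lit 33411, nat_lit 28747, nat_lit 24724, nat_lit 20486, nat_lit 16461, nat_lit 12355, nat_lit 8201, nat_lit 4113, nat_lit 2]⟩)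
 (.leaf ⟨[nat_lit 0x3f60354b8a0186169aaeba45ac3bd02ac8c4, nat_lit 0xc59cac3524d429621a401716d03bef38d48c, nat_lit 0x842e774beb35de0d09a5142880150f670d85], [nat_lit 69632, nat_lit 77824, nat_lit 86016, nat_lit 94208, nat_lit 168960, nat_lit 165888, nat_lit 163328, nat_lit 157760, nat_lit 154656, nat_lit 149056, nat_lit 144048, nat_lit 142296, nat_lit 137222, nat_lit 131255, nat_lit 688, nat_lit 5152, nat_lit 12080, nat_lit 14848, nat_lit 17024, nat_lit 21120, nat_lit 26624, nat_lit 31744, nat_lit 35328, nat_lit 38912, nat_lit 46803, nat_lit 41817, nat_lit 36979, nat_lit 33972, nat_lit 29021, nat_lit 24845, nat_lit 20499, nat_lit 16417, nat_lit 12550, nat_lit 4105, nat_lit 8, nat_lit 434181, nat_lit 409602, nat_lit 397312, nat_lit 152576, nat_lit 148480, nat_lit 135216, nat_lit 131126, nat_lit 45090, nat_lit 36866, nat_lit 32788, nat_lit 28689, nat_lit 24608, nat_lit 12290]⟩))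
 (.node (nat_lit 175) (.leaf ndMr2_2)
 (.leaf ⟨[nat_lit 0x417181895e39aef23c00cb390d228d54d041], [nat_lit 65536, nat_lit 77824, nat_lit 81920, nat_lit 94208, nat_lit 106496, nat_lit 178176, nat_lit 170496, nat_lit 165632, nat_lit 162944, nat_lit 157248, nat_lit 151968, nat_lit 149392, nat_lit 147328, nat_lit 142864, nat_lit 137948, nat_lit 134195, nat_lit 3808, nat_lit 5084, nat_lit 8224, nat_lit 13872, nat_lit 19424, nat_lit 24000, nat_lit 25984, nat_lit 36352, nat_lit 37888, nat_lit 43008, nat_lit 41529, nat_lit 38026, nat_lit 32859, nat_lit 29269, nat_lit 24614, nat_lit 20510, nat_lit 16423, nat_lit 12292, nat_lit 8194, nat_lit 16]⟩))))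

theorem dcME21_ok : dcME21.all (elB (nat_lit 0)) = true := by decide +kernel

def dcME22 : BT El := (.node (nat_lit 180) (.node (nat_lit 178) (.node (nat_lit 177) (.leaf ⟨[nat_lit 0x81114ba56489ad8f33ae13d9a38148a10131], [nat_lit 65536, nat_lit 86016, nat_lit 94208, nat_lit 98304, nat_lit 174080, nat_lit 169472, nat_lit 165376, nat_lit 160768, nat_lit 157696, nat_lit 154272, nat_lit 148048, nat_lit 145120, nat_lit 139476, nat_lit 138200, nat_lit 133079, nat_lit 2560, nat_lit 6084, nat_lit 11800, nat_lit 15376, nat_lit 17088, nat_lit 20608, nat_lit 25472, nat_lit 30720, nat_lit 36352, nat_lit 39936, nat_lit 41606, nat_lit 38250, nat_lit 32862, nat_lit 29242, nat_lit 24744, nat_lit 20568, nat_lit 16393, nat_lit 12290, nat_lit 8195, nat_lit 4101, nat_lit 4]⟩)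
 (.leaf ⟨[nat_lit 0x93609a160d9d58752d2123ef193ac618900], [nat_lit 69632, nat_lit 73728, nat_lit 77824, nat_lit 81920, nat_lit 175104, nat_lit 164096, nat_lit 160256, nat_lit 159680, nat_lit 154368, nat_lit 148192, nat_lit 147352, nat_lit 140908, nat_lit 137954, nat_lit 131437, nat_lit 2304, nat_lit 7904, nat_lit 8448, nat_lit 14592, nat_lit 18272, nat_lit 20928, nat_lit 24960, nat_lit 29696, nat_lit 33280, nat_lit 37888, nat_lit 41815, nat_lit 37373, nat_lit 32771, nat_lit 29223, nat_lit 24710, nat_lit 20494, nat_lit 16463, nat_lit 12291, nat_lit 8195, nat_lit 4097, nat_lit 2]⟩))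
 (.node (nat_lit 179) (.leaf ⟨[nat_lit 0xf0f0000c8d49a99075517b1e22590af68123], [nat_lit 65536, nat_lit 69632, nat_lit 77824, nat_lit 86016, nat_lit 102400, nat_lit 175104, nat_lit 167168, nat_lit 162048, nat_lit 158528, nat_lit 153408, nat_lit 148080, nat_lit 143496, nat_lit 142560, nat_lit 137616, nat_lit 131595, nat_lit 1818, nat_lit 5580, nat_lit 8920, nat_lit 15120, nat_lit 17472, nat_lit 22336, nat_lit 24704, nat_lit 30976, nat_lit 36352, nat_lit 39936, nat_lit 41225, nat_lit 37291, nat_lit 32917, nat_lit 29004, nat_lit 24704, nat_lit 20505, nat_lit 16424, nat_lit 12323, nat_lit 8194, nat_lit 4097, nat_lit 327680]⟩)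
 (.leaf ⟨[nat_lit 0x7412dd490c2996ef92e23aa834758f04340c], [nat_lit 65536, nat_lit 73728, nat_lit 77824, nat_lit 81920, nat_lit 90112, nat_lit 94208, nat_lit 98304, nat_lit 102400, nat_lit 106496, nat_lit 173056, nat_lit 171520, nat_lit 167424, nat_lit 162432, nat_lit 156736, nat_lit 154912, nat_lit 150736, nat_lit 146256, nat_lit 141132, nat_lit 135322, nat_lit 135128, nat_lit 2366, nat_lit 4540, nat_lit 10728, nat_lit 14560, nat_lit 17824, nat_lit 21632, nat_lit 26496, nat_lit 28928, nat_lit 35328, nat_lit 43008, nat_lit 41979, nat_lit 38052, nat_lit 33407, nat_lit 28705, nat_lit 25111, nat_lit 20621, nat_lit 16911, nat_lit 12324, nat_lit 8195, nat_lit 4097, nat_lit 2, nat_lit 327680]⟩)))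
 (.node (nat_lit 182) (.node (nat_lit 181) (.leaf ⟨[nat_lit 0xa036cf695439ad1593e8c71922242c7b8620], [nat_lit 65536, nat_lit 90112, nat_lit 94208, nat_lit 98304, nat_lit 102400, nat_lit 106496, nat_lit 170496, nat_lit 164352, nat_lit 160256, nat_lit 157376, nat_lit 152672, nat_lit 148720, nat_lit 146168, nat_lit 143336, nat_lit 138082, nat_lit 134895, nat_lit 3034, nat_lit 6616, nat_lit 12200, nat_lit 15312, nat_lit 16672, nat_lit 20672, nat_lit 25344, nat_lit 28928, nat_lit 34304, nat_lit 38912, nat_lit 43008, nat_lit 41794, nat_lit 37952, nat_lit 33372, nat_lit 28713, nat_lit 24885, nat_lit 20506, nat_lit 16399, nat_lit 12293, nat_lit 8201, nat_lit 327680]⟩)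
 (.leaf ⟨[nat_lit 0xf3356f49ca39c04b712f155414919f60b588], [nat_lit 65536, nat_lit 69632, nat_lit 73728, nat_lit 77824, nat_lit 86016, nat_lit 90112, nat_lit 94208, nat_lit 102400, nat_lit 106496, nat_lit 178176, nat_lit 174080, nat_lit 166144, nat_lit 160000, nat_lit 159040, nat_lit 154976, nat_lit 148496, nat_lit 144624, nat_lit 142716, nat_lit 136122, nat_lit 131122, nat_lit 236, nat_lit 6524, nat_lit 10360, nat_lit 13088, nat_lit 16608, nat_lit 23360, nat_lit 26880, nat_lit 29696, nat_lit 33280, nat_lit 38912, nat_lit 43008, nat_lit 41792, nat_lit 38396, nat_lit 32800, nat_lit 29236, nat_lit 24606, nat_lit 20488, nat_lit 16451, nat_lit 12307, nat_lit 8203, nat_lit 4, nat_lit 327680]⟩))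
 (.node (nat_lit 183) (.leaf ⟨[nat_lit 0x5f9c09058d19d444941897ac61515c7bb688], [nat_lit 65536, nat_lit 69632, nat_lit 86016, nat_lit 90112, nat_lit 94208, nat_lit 106496, nat_lit 178176, nat_lit 174080, nat_lit 169984, nat_lit 164608, nat_lit 160000, nat_lit 159680, nat_lit 151840, nat_lit 149536, nat_lit 147152, nat_lit 142736, nat_lit 138228, nat_lit 134498, nat_lit 2018, nat_lit 5676, nat_lit 9048, nat_lit 13488, nat_lit 18464, nat_lit 23040, nat_lit 26624, nat_lit 30464, nat_lit 36352, nat_lit 43008, nat_lit 41601, nat_lit 38252, nat_lit 33466, nat_lit 29200, nat_lit 24716, nat_lit 20560, nat_lit 16453, nat_lit 12290, nat_lit 8210, nat_lit 4101]⟩)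
 (.leaf ⟨[nat_lit 0xa655f00be4c99447b19a882d2353895a5e20], [nat_lit 65536, nat_lit 77824, nat_lit 106496, nat_lit 173056, nat_lit 170496, nat_lit 167424, nat_lit 163200, nat_lit 159552, nat_lit 154464, nat_lit 149216, nat_lit 146528, nat_lit 142212, nat_lit 139188, nat_lit 132886, nat_lit 2176, nat_lit 5216, nat_lit 9328, nat_lit 12544, nat_lit 18944, nat_lit 22656, nat_lit 25472, nat_lit 31232, nat_lit 35328, nat_lit 39936, nat_lit 41668, nat_lit 38192, nat_lit 32904, nat_lit 28688, nat_lit 25147, nat_lit 20494, nat_lit 16515, nat_lit 12326, nat_lit 8193, nat_lit 4113]⟩))))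

theorem dcME22_ok : dcME22.all (elB (nat_lit 0)) = true := by decide +kernel

def dcME23 : BT El := (.node (nat_lit 188) (.node (nat_lit 186) (.node (nat_lit 185) (.leaf ⟨[nat_lit 0x781b170c2d19990eaad2221ee093caa6506d], [nat_lit 73728, nat_lit 90112, nat_lit 98304, nat_lit 102400, nat_lit 174080, nat_lit 171008, nat_lit 167680, nat_lit 162048, nat_lit 158912, nat_lit 153120, nat_lit 150512, nat_lit 145224, nat_lit 143172, nat_lit 136456, nat_lit 134468, nat_lit 3564, nat_lit 6452, nat_lit 12176, nat_lit 15360, nat_lit 16800, nat_lit 20992, nat_lit 28032, nat_lit 29696, nat_lit 35328, nat_lit 39936, nat_lit 41192, nat_lit 37120, nat_lit 33373, nat_lit 24889, nat_lit 20548, nat_lit 16646, nat_lit 12290, nat_lit 8256, nat_lit 4104, nat_lit 327680]⟩)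
 (.leaf ⟨[nat_lit 0x8e447da1480999aa95a237d44c5b8f0ba029], [nat_lit 65536, nat_lit 73728, nat_lit 90112, nat_lit 94208, nat_lit 98304, nat_lit 102400, nat_lit 175104, nat_lit 171008, nat_lit 165632, nat_lit 163456, nat_lit 158016, nat_lit 152288, nat_lit 148848, nat_lit 143592, nat_lit 143340, nat_lit 136468, nat_lit 133457, nat_lit 434, nat_lit 7168, nat_lit 10432, nat_lit 15584, nat_lit 17888, nat_lit 24256, nat_lit 25600, nat_lit 31744, nat_lit 35328, nat_lit 39936, nat_lit 43008, nat_lit 41620, nat_lit 37279, nat_lit 33441, nat_lit 29202, nat_lit 24609, nat_lit 20562, nat_lit 16419, nat_lit 12418, nat_lit 8203, nat_lit 8]⟩))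
 (.node (nat_lit 187) (.leaf ⟨[nat_lit 0xf33a604d4919ae858191773da254ac760460], [nat_lit 69632, nat_lit 81920, nat_lit 90112, nat_lit 102400, nat_lit 106496, nat_lit 178176, nat_lit 173056, nat_lit 164352, nat_lit 161408, nat_lit 157312, nat_lit 154848, nat_lit 149984, nat_lit 147224, nat_lit 140328, nat_lit 135472, nat_lit 133176, nat_lit 986, nat_lit 5072, nat_lit 8504, nat_lit 13264, nat_lit 18016, nat_lit 24448, nat_lit 25600, nat_lit 29184, nat_lit 33280, nat_lit 39936, nat_lit 43008, nat_lit 41530, nat_lit 38304, nat_lit 32854, nat_lit 28777, nat_lit 24723, nat_lit 20506, nat_lit 16391, nat_lit 12292, nat_lit 8200]⟩)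
 (.leaf ndMr6_63)))
 (.node (nat_lit 190) (.node (nat_lit 189) (.leaf ⟨[nat_lit 0x227488bdab49ca307b9ac5a928398a418820], [nat_lit 110592, nat_lit 178176, nat_lit 174080, nat_lit 169472, nat_lit 164096, nat_lit 160896, nat_lit 159488, nat_lit 151936, nat_lit 148752, nat_lit 144456, nat_lit 140280, nat_lit 136274, nat_lit 132226, nat_lit 14336, nat_lit 38912]⟩)
 (.leaf ndMr6_61))
 (.node (nat_lit 191) (.leaf ⟨[nat_lit 0x7814e74a9855da2340a74256ed0bc0674a07, nat_lit 0xed28e84a90b94271ada971040339885639af], [nat_lit 65536, nat_lit 69632, nat_lit 81920, nat_lit 94208, nat_lit 106496, nat_lit 178176, nat_lit 175104, nat_lit 169984, nat_lit 167424, nat_lit 162944, nat_lit 155712, nat_lit 153952, nat_lit 149664, nat_lit 144840, nat_lit 143032, nat_lit 135444, nat_lit 131122, nat_lit 1676, nat_lit 5568, nat_lit 8448, nat_lit 12336, nat_lit 16512, nat_lit 23168, nat_lit 27008, nat_lit 31232, nat_lit 36352, nat_lit 38912, nat_lit 43008, nat_lit 47015, nat_lit 44005, nat_lit 37173, nat_lit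 33461, nat_lit 28954, nat_lit 25658, nat_lit 20555, nat_lit 16424, nat_lit 12308, nat_lit 4097, nat_lit 425989, nat_lit 409600, nat_lit 131360, nat_lit 40976, nat_lit 28688, nat_lit 12289, nat_lit 8193, nat_lit 4097]⟩)
 (.leaf ndMr6_56))))

theorem dcME23_ok : dcME23.all (elB (nat_lit 0)) = true := by decide +kernel

def dcME24 : BT El := (.node (nat_lit 196) (.node (nat_lit 194) (.node (nat_lit 193) (.leaf ⟨[nat_lit 0x6056fa1d2b330a4575ceb406097c40db114c, nat_lit 0xca5f0689a41638657cd352010ab1e825b6f0, nat_lit 0xa966aaa42d1ade53101ee3952859944605a3], [nat_lit 69632, nat_lit 77824, nat_lit 86016, nat_lit 90112, nat_lit 94208, nat_lit 98304, nat_lit 110592, nat_lit 174080, nat_lit 166400, nat_lit 160512, nat_lit 156288, nat_lit 153984, nat_lit 147520, nat_lit 145296, nat_lit 141404, nat_lit 137774, nat_lit 133015, nat_lit 874, nat_lit 4860, nat_lit 11456, nat_lit 12544, nat_lit 19808, nat_lit 22784, nat_lit 25728, nat_lit 29696, nat_lit 33792, nat_lit 38912, nat_lit 43008, nat_lit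 45249, nat_lit 41280, nat_lit 37231, nat_lit 33492, nat_lit 28677, nat_lit 24602, nat_lit 20487, nat_lit 16451, nat_lit 12304, nat_lit 4128, nat_lit 2, nat_lit 430088, nat_lit 417797, nat_lit 409602, nat_lit 397312, nat_lit 164352, nat_lit 155904, nat_lit 152128, nat_lit 147520, nat_lit 139312, nat_lit 135520, nat_lit 131188, nat_lit 45632, nat_lit 41552, nat_lit 28758, nat_lit 12295]⟩)
 (.leaf ndMr4_12))
 (.node (nat_lit 195) (.leaf ⟨[nat_lit 0xafafac5196590e00a558e49c887b6d710671, nat_lit 0x47e2b1bd696398858c27210c015a5486b1ee], [nat_lit 65536, nat_lit 77824, nat_lit 81920, nat_lit 86016, nat_lit 94208, nat_lit 98304, nat_lit 102400, nat_lit 106496, nat_lit 178176, nat_lit 171520, nat_lit 164352, nat_lit 163328, nat_lit 156992, nat_lit 152480, nat_lit 148752, nat_lit 146272, nat_lit 139352, nat_lit 138364, nat_lit 134099, nat_lit 820, nat_lit 5768, nat_lit 12176, nat_lit 15696, nat_lit 17088, nat_lit 22528, nat_lit 25728, nat_lit 29952, nat_lit 35840, nat_lit 39936, nat_lit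 46845, nat_lit 43856, nat_lit 39093, nat_lit 33845, nat_lit 28987, nat_lit 24580, nat_lit 20619, nat_lit 16650, nat_lit 12324, nat_lit 8194, nat_lit 128, nat_lit 425989, nat_lit 409600, nat_lit 131360, nat_lit 40976, nat_lit 28688, nat_lit 12289, nat_lit 8193, nat_lit 4097, nat_lit 327680]⟩)
 (.leaf ndMr5_9)))
 (.node (nat_lit 198) (.node (nat_lit 197) (.leaf ⟨[nat_lit 0x3a0acf298f0aa1c3682e9151eab058b94664, nat_lit 0x7b844e69e29b00629390682c8c515f3bd681, nat_lit 0x65f6559a4e441847b475b054998234b9447], [nat_lit 73728, nat_lit 77824, nat_lit 94208, nat_lit 98304, nat_lit 102400, nat_lit 106496, nat_lit 178176, nat_lit 174080, nat_lit 171008, nat_lit 165632, nat_lit 162048, nat_lit 159104, nat_lit 152288, nat_lit 151440, nat_lit 146280, nat_lit 142736, nat_lit 138536, nat_lit 131134, nat_lit 372, nat_lit 5772, nat_lit 11920, nat_lit 13392, nat_lit 19584, nat_lit 21568, nat_lit 28544, nat_lit 32000, nat_lit 34816, nat_lit 43008, nat_lit 46391, nat_lit 43008, nat_lit 37351, nat_lit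 33360, nat_lit 28983, nat_lit 24581, nat_lit 20495, nat_lit 16640, nat_lit 12291, nat_lit 8211, nat_lit 4105, nat_lit 417797, nat_lit 405506, nat_lit 397312, nat_lit 143456, nat_lit 139272, nat_lit 135244, nat_lit 131148, nat_lit 45058, nat_lit 40962, nat_lit 36963, nat_lit 32879, nat_lit 16397, nat_lit 327680]⟩)
 (.leaf ndMr5_6))
 (.node (nat_lit 199) (.leaf ⟨[nat_lit 0xeb77725b5ca6212f24a251da80156e19c0e6, nat_lit 0x8eeebb601c289c92bd168aa93608ded998b0], [nat_lit 69632, nat_lit 73728, nat_lit 86016, nat_lit 90112, nat_lit 94208, nat_lit 98304, nat_lit 178176, nat_lit 175104, nat_lit 171008, nat_lit 162560, nat_lit 158336, nat_lit 151584, nat_lit 148416, nat_lit 145424, nat_lit 140768, nat_lit 137524, nat_lit 133990, nat_lit 790, nat_lit 8036, nat_lit 9864, nat_lit 16352, nat_lit 18720, nat_lit 22592, nat_lit 25088, nat_lit 31744, nat_lit 34304, nat_lit 37888, nat_lit 47088, nat_lit 43049, nat_lit 38139, nat_lit 32804, nat_lit 29737, nat_lit 24632, nat_lit 16395, nat_lit 12305,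 nat_lit 8449, nat_lit 4097, nat_lit 425989, nat_lit 409600, nat_lit 131360, nat_lit 40992, nat_lit 28688, nat_lit 24577, nat_lit 12289, nat_lit 327680]⟩)
 (.leaf ndMr6_53))))

theorem dcME24_ok : dcME24.all (elB (nat_lit 0)) = true := by decide +kernel


end

end CF.Mon
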