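import Cfsg.Agent.Mon.DcMC

set_option autoImplicit false
set_option maxRecDepth 100000

namespace CF.Mon

open CF.Comp

noncomputable section

def dcMc192 : List Cert := [.edge ⟨[nat_lit 1, nat_lit 66], [nat_lit 14, nat_lit 46], ⟨[nat_lit 0xba51078caa3b96110276312b16b292], [nat_lit 168960, nat_lit 160896, nat_lit 151680, nat_lit 148752, nat_lit 146416, nat_lit 139444, nat_lit 135730, nat_lit 132297, nat_lit 492, nat_lit 4380, nat_lit 9072, nat_lit 17408, nat_lit 22400, nat_lit 29952, nat_lit 34304, nat_lit 40984, nat_lit 37256, nat_lit 33317, nat_lit 28982, nat_lit 24619, nat_lit 20547, nat_lit 16515, nat_lit 12289, nat_lit 8451, nat_lit 4100, nat_lit 8]⟩⟩ ⟨(nat_lit 2), ⟨[nat_lit 176, nat_lit 170, nat_lit 179, nat_lit 179, nat_lit 170, nat_lit 171], [nat_lit 178, nat_lit 171, nat_lit 174, nat_lit 170, nat_lit 173, nat_lit 172], (nat_lit 381), ⟨[nat_lit 0, nat_lit 13, nat_lit 53], [nat_lit 0, nat_lit 75, nat_lit 60], ⟨[nat_lit 0xa4c4d1854705a4c7956e3261125d15],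 [nat_lit 160896, nat_lit 155904, nat_lit 151872, nat_lit 149040, nat_lit 144160, nat_lit 141100, nat_lit 138864, nat_lit 132749, nat_lit 1760, nat_lit 4352, nat_lit 9104, nat_lit 13440, nat_lit 16896, nat_lit 22080, nat_lit 25088, nat_lit 30208, nat_lit 41556, nat_lit 37297, nat_lit 32870, nat_lit 29299, nat_lit 24751, nat_lit 20562, nat_lit 16429, nat_lit 12325, nat_lit 8195]⟩⟩⟩, ⟨[nat_lit 143, nat_lit 142, nat_lit 142, nat_lit 148], [], (nat_lit 316), ⟨[nat_lit 0, nat_lit 74, nat_lit 90], [nat_lit 5, nat_lit 69], ⟨[nat_lit 0x145e68308198dc74d9480164dadd74], [nat_lit 168448, nat_lit 167424, nat_lit 160768, nat_lit 157120, nat_lit 153600, nat_lit 150288, nat_lit 146216, nat_lit 143080, nat_lit 137510, nat_lit 132256, nat_lit 1108, nat_lit 5112, nat_lit 8928, nat_lit 13184, nat_lit 17920, nat_lit 21504, nat_lit 26112, nat_lit 33792, nat_lit 41126, nat_lit 36918, nat_lit 32806, nat_lit 29696, nat_lit 24604, nat_lit 20486, nat_lit 16399,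 nat_lit 12289, nat_lit 8195, nat_lit 4101, nat_lit 4]⟩⟩⟩⟩]

theorem dcMr192 : Rng dcM 192 193 := Rng.of (l := dcMc192) (by decide +kernel)

def dcMc193 : List Cert := [.edge ⟨[nat_lit 0, nat_lit 10, nat_lit 70], [nat_lit 0, nat_lit 2, nat_lit 66], ⟨[nat_lit 0x74109584f78886c301549b485acacf], [nat_lit 168960, nat_lit 164608, nat_lit 161664, nat_lit 157440, nat_lit 153536, nat_lit 148544, nat_lit 143760, nat_lit 140264, nat_lit 138772, nat_lit 132602, nat_lit 1488, nat_lit 5992, nat_lit 8872, nat_lit 13520, nat_lit 17184, nat_lit 21696, nat_lit 26496, nat_lit 33280, nat_lit 41583, nat_lit 38218, nat_lit 33018, nat_lit 28778, nat_lit 24717, nat_lit 20571, nat_lit 16394, nat_lit 12307, nat_lit 8226, nat_lit 4097, nat_lit 2]⟩⟩ ⟨(nat_lit 2), ⟨[nat_lit 174, nat_lit 176, nat_lit 171, nat_lit 170, nat_lit 170, nat_lit 171], [nat_lit 178, nat_lit 171, nat_lit 174, nat_lit 170, nat_lit 173, nat_lit 172], (nat_lit 381), ⟨[nat_lit 0, nat_lit 19, nat_lit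 51], [nat_lit 88, nat_lit 65], ⟨[nat_lit 0x8b2811566e514e44a166782f21da0d], [nat_lit 174080, nat_lit 170496, nat_lit 162816, nat_lit 158080, nat_lit 155200, nat_lit 147872, nat_lit 145400, nat_lit 140024, nat_lit 137966, nat_lit 133479, nat_lit 428, nat_lit 5900, nat_lit 9040, nat_lit 12352, nat_lit 17408, nat_lit 21696, nat_lit 28928, nat_lit 33280, nat_lit 37888, nat_lit 41534, nat_lit 38210, nat_lit 33343, nat_lit 28762, nat_lit 24615, nat_lit 20570, nat_lit 16430, nat_lit 12291, nat_lit 8194, nat_lit 4097, nat_lit 2]⟩⟩⟩, ⟨[nat_lit 139, nat_lit 146, nat_lit 150, nat_lit 143, nat_lit 145], [], (nat_lit 326), ⟨[nat_lit 23, nat_lit 52], [nat_lit 0, nat_lit 79, nat_lit 47], ⟨[nat_lit 0x8248d79a4aad2c0b8c4189d8b2b913], [nat_lit 174080, nat_lit 168448, nat_lit 165632, nat_lit 160512, nat_lit 155712, nat_lit 147920, nat_lit 143776, nat_lit 140736, nat_lit 135514, nat_lit 131714, nat_lit 1614, nat_lit 4824, nat_lit 9136, nat_lit 13808, nat_lit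 17920, nat_lit 22400, nat_lit 26368, nat_lit 28928, nat_lit 33792, nat_lit 41681, nat_lit 38097, nat_lit 32938, nat_lit 29052, nat_lit 24715, nat_lit 20737, nat_lit 16463, nat_lit 12323, nat_lit 4112]⟩⟩⟩⟩]

theorem dcMr193 : Rng dcM 193 194 := Rng.of (l := dcMc193) (by decide +kernel)

def dcMc194 : List Cert := [.edge ⟨[nat_lit 2, nat_lit 53], [nat_lit 25], ⟨[nat_lit 0x2556771a2193065ba402551edb2270], [nat_lit 174080, nat_lit 168960, nat_lit 165120, nat_lit 160384, nat_lit 156288, nat_lit 152448, nat_lit 147504, nat_lit 145096, nat_lit 139440, nat_lit 135968, nat_lit 131908, nat_lit 526, nat_lit 4340, nat_lit 8720, nat_lit 14112, nat_lit 18304, nat_lit 21440, nat_lit 24832, nat_lit 29696, nat_lit 33792, nat_lit 37888, nat_lit 41696, nat_lit 32916, nat_lit 29020, nat_lit 24750, nat_lit 20567, nat_lit 16422, nat_lit 12419, nat_lit 8211, nat_lit 4104, nat_lit 2]⟩⟩ ⟨(nat_lit 2), ⟨[nat_lit 179, nat_lit 175, nat_lit 180, nat_lit 177, nat_lit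 175], [nat_lit 178, nat_lit 171, nat_lit 174, nat_lit 170, nat_lit 173, nat_lit 172], (nat_lit 381), ⟨[nat_lit 38, nat_lit 61], [nat_lit 88, nat_lit 62], ⟨[nat_lit 0x635e81c095a08f1358325a92e2dc13], [nat_lit 168448, nat_lit 164864, nat_lit 161024, nat_lit 158464, nat_lit 153504, nat_lit 148480, nat_lit 143368, nat_lit 141200, nat_lit 136758, nat_lit 132919, nat_lit 526, nat_lit 4684, nat_lit 9328, nat_lit 12304, nat_lit 17472, nat_lit 21504, nat_lit 24704, nat_lit 29440, nat_lit 33280, nat_lit 37888, nat_lit 41725, nat_lit 38125, nat_lit 32960, nat_lit 28698, nat_lit 24589, nat_lit 21533, nat_lit 16526, nat_lit 12357, nat_lit 8195, nat_lit 4097]⟩⟩⟩, ⟨[nat_lit 149, nat_lit 149, nat_lit 142, nat_lit 149, nat_lit 139, nat_lit 142], [], (nat_lit 326), ⟨[nat_lit 83, nat_lit 94], [nat_lit 87, nat_lit 70], ⟨[nat_lit 0x73693526557944b1b106804178d8e4], [nat_lit 174080, nat_lit 168960, nat_lit 166144, nat_lit 162560, nat_lit 158336, nat_lit 152320,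 nat_lit 147968, nat_lit 144328, nat_lit 143104, nat_lit 138070, nat_lit 131139, nat_lit 1166, nat_lit 5588, nat_lit 9928, nat_lit 13136, nat_lit 17376, nat_lit 21760, nat_lit 26368, nat_lit 29440, nat_lit 33280, nat_lit 41916, nat_lit 37106, nat_lit 33870, nat_lit 28793, nat_lit 24599, nat_lit 20499, nat_lit 16389, nat_lit 12419, nat_lit 8208, nat_lit 4097, nat_lit 2]⟩⟩⟩⟩,
  .edge ⟨[nat_lit 15, nat_lit 60], [nat_lit 0, nat_lit 18, nat_lit 55], ⟨[nat_lit 0x9c0c51380c4d6ca1bc2d94487a22eb], [nat_lit 174080, nat_lit 170496, nat_lit 166656, nat_lit 161792, nat_lit 156288, nat_lit 155360, nat_lit 151520, nat_lit 143528, nat_lit 141968, nat_lit 135418, nat_lit 131754, nat_lit 1966, nat_lit 5228, nat_lit 9904, nat_lit 13488, nat_lit 16928, nat_lit 22464, nat_lit 25856, nat_lit 28928, nat_lit 37888, nat_lit 41732, nat_lit 37063, nat_lit 34031, nat_lit 28788, nat_lit 24706, nat_lit 20562, nat_lit 16389, nat_lit 12551, nat_lit 4097, nat_lit 2]⟩⟩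 ⟨(nat_lit 2), ⟨[nat_lit 173, nat_lit 176], [nat_lit 178, nat_lit 170], (nat_lit 367), ⟨[nat_lit 84, nat_lit 50], [nat_lit 88, nat_lit 90], ⟨[nat_lit 0x4470456ca6b8c4794ec9c8415de89], [nat_lit 175104, nat_lit 171008, nat_lit 165632, nat_lit 163456, nat_lit 158208, nat_lit 153600, nat_lit 148640, nat_lit 145168, nat_lit 140976, nat_lit 137338, nat_lit 134032, nat_lit 804, nat_lit 5604, nat_lit 8552, nat_lit 13264, nat_lit 18272, nat_lit 20544, nat_lit 24960, nat_lit 29952, nat_lit 33280, nat_lit 37888, nat_lit 41187, nat_lit 36982, nat_lit 33001, nat_lit 28735, nat_lit 24889, nat_lit 20483, nat_lit 16397, nat_lit 12304, nat_lit 8203, nat_lit 4097]⟩⟩⟩, ⟨[nat_lit 67, nat_lit 46, nat_lit 68], [], (nat_lit 119), ⟨[nat_lit 39, nat_lit 65], [nat_lit 35, nat_lit 62], ⟨[nat_lit 0x258e11d169748a88c2e06d58279a6a], [nat_lit 173056, nat_lit 165632, nat_lit 161408, nat_lit 157120, nat_lit 153952, nat_lit 147760, nat_lit 143840, nat_lit 139840, nat_lit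 136380, nat_lit 132433, nat_lit 1842, nat_lit 5500, nat_lit 9216, nat_lit 14144, nat_lit 16928, nat_lit 21504, nat_lit 24960, nat_lit 28928, nat_lit 33792, nat_lit 37888, nat_lit 41553, nat_lit 37254, nat_lit 32815, nat_lit 28770, nat_lit 24634, nat_lit 20510, nat_lit 16426, nat_lit 8208, nat_lit 4129]⟩⟩⟩⟩]

theorem dcMr194 : Rng dcM 194 196 := Rng.of (l := dcMc194) (by decide +kernel)

def dcMc196 : List Cert := [.edge ⟨[nat_lit 0, nat_lit 88, nat_lit 64], [nat_lit 25, nat_lit 56], ⟨[nat_lit 0x54e0b6b8c7611e5bd8234265100ab4], [nat_lit 175104, nat_lit 171520, nat_lit 167680, nat_lit 163328, nat_lit 156544, nat_lit 153952, nat_lit 149584, nat_lit 145040, nat_lit 141404, nat_lit 136354, nat_lit 133048, nat_lit 1730, nat_lit 5856, nat_lit 8224, nat_lit 13584, nat_lit 17792, nat_lit 20992, nat_lit 26368, nat_lit 33280, nat_lit 37888, nat_lit 41746, nat_lit 36884, nat_lit 33950, nat_lit 28952, nat_lit 24633, nat_lit 20510, nat_lit 16388, nat_lit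 12321, nat_lit 8203, nat_lit 4104, nat_lit 2]⟩⟩ ⟨(nat_lit 2), ⟨[nat_lit 172, nat_lit 176], [nat_lit 178, nat_lit 170], (nat_lit 373), ⟨[nat_lit 77, nat_lit 60], [nat_lit 0, nat_lit 18, nat_lit 69], ⟨[nat_lit 0x33a4998e173a1b1a09ec25405b2d41], [nat_lit 173056, nat_lit 168960, nat_lit 164608, nat_lit 160384, nat_lit 157632, nat_lit 152032, nat_lit 147728, nat_lit 146680, nat_lit 139940, nat_lit 136420, nat_lit 132532, nat_lit 1808, nat_lit 4104, nat_lit 9752, nat_lit 13600, nat_lit 17216, nat_lit 21888, nat_lit 26368, nat_lit 29440, nat_lit 41779, nat_lit 38363, nat_lit 32934, nat_lit 28793, nat_lit 24716, nat_lit 20510, nat_lit 16422, nat_lit 12305, nat_lit 8224, nat_lit 4097, nat_lit 2]⟩⟩⟩, ⟨[nat_lit 111, nat_lit 135, nat_lit 135, nat_lit 130], [], (nat_lit 372), ⟨[nat_lit 25, nat_lit 62], [nat_lit 0, nat_lit 5, nat_lit 61], ⟨[nat_lit 0x219358a2f068cf363d76015d20a854], [nat_lit 173056, nat_lit 168448, nat_lit 167168, nat_lit 160256, nat_lit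 156032, nat_lit 152096, nat_lit 149056, nat_lit 143648, nat_lit 139348, nat_lit 135202, nat_lit 132945, nat_lit 1842, nat_lit 4100, nat_lit 8224, nat_lit 13696, nat_lit 16832, nat_lit 24832, nat_lit 30464, nat_lit 41600, nat_lit 37187, nat_lit 32815, nat_lit 29780, nat_lit 20766, nat_lit 16417, nat_lit 12545, nat_lit 8203, nat_lit 4104, nat_lit 4]⟩⟩⟩⟩,
  .edge ⟨[nat_lit 21, nat_lit 55], [nat_lit 0, nat_lit 17, nat_lit 89], ⟨[nat_lit 0x42dae110674b14fad21195ed328026], [nat_lit 169472, nat_lit 160768, nat_lit 155840, nat_lit 149872, nat_lit 144112, nat_lit 140008, nat_lit 136028, nat_lit 131971, nat_lit 1024, nat_lit 4112, nat_lit 8792, nat_lit 13664, nat_lit 17408, nat_lit 21952, nat_lit 25216, nat_lit 29952, nat_lit 34304, nat_lit 37888, nat_lit 41181, nat_lit 37304, nat_lit 33448, nat_lit 29297, nat_lit 24583, nat_lit 20996, nat_lit 16391, nat_lit 12324, nat_lit 8210, nat_lit 4]⟩⟩ ⟨(nat_lit 2), ⟨[nat_lit 178, nat_lit 170, nat_lit 178,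 nat_lit 181, nat_lit 172, nat_lit 171], [], (nat_lit 388), ⟨[nat_lit 88, nat_lit 47], [nat_lit 36, nat_lit 50], ⟨[nat_lit 0xb0888195359b98fa0147849b1b982b], [nat_lit 173056, nat_lit 168448, nat_lit 164608, nat_lit 161792, nat_lit 157184, nat_lit 153248, nat_lit 149280, nat_lit 144048, nat_lit 140088, nat_lit 135962, nat_lit 132102, nat_lit 1966, nat_lit 4224, nat_lit 9544, nat_lit 13264, nat_lit 16672, nat_lit 21440, nat_lit 25216, nat_lit 29696, nat_lit 33280, nat_lit 37888, nat_lit 41088, nat_lit 37310, nat_lit 33327, nat_lit 28739, nat_lit 24710, nat_lit 21022, nat_lit 16641, nat_lit 12291, nat_lit 8257, nat_lit 8]⟩⟩⟩, ⟨[nat_lit 144, nat_lit 146, nat_lit 142, nat_lit 146, nat_lit 143, nat_lit 141], [], (nat_lit 328), ⟨[nat_lit 0, nat_lit 31, nat_lit 53], [nat_lit 38, nat_lit 62], ⟨[nat_lit 0x5bccc28d020de6e89d520520d226d5], [nat_lit 173056, nat_lit 168448, nat_lit 165120, nat_lit 159872, nat_lit 152000, nat_lit 149168, nat_lit 147240,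 nat_lit 140324, nat_lit 135950, nat_lit 131352, nat_lit 1770, nat_lit 5208, nat_lit 8592, nat_lit 12304, nat_lit 17024, nat_lit 21696, nat_lit 25344, nat_lit 28928, nat_lit 33280, nat_lit 41848, nat_lit 37016, nat_lit 32920, nat_lit 28760, nat_lit 24724, nat_lit 20494, nat_lit 16527, nat_lit 8194, nat_lit 4097]⟩⟩⟩⟩]

theorem dcMr196 : Rng dcM 196 198 := Rng.of (l := dcMc196) (by decide +kernel)

def dcMc198 : List Cert := [.edge ⟨[nat_lit 21, nat_lit 63], [nat_lit 0, nat_lit 33, nat_lit 46], ⟨[nat_lit 0x9b28f68524bc04344aabb44c5538e0], [nat_lit 169472, nat_lit 165120, nat_lit 161024, nat_lit 157440, nat_lit 153216, nat_lit 148576, nat_lit 145256, nat_lit 140140, nat_lit 138704, nat_lit 131911, nat_lit 2, nat_lit 5276, nat_lit 8352, nat_lit 13088, nat_lit 18304, nat_lit 21376, nat_lit 25472, nat_lit 29696, nat_lit 34304, nat_lit 41630, nat_lit 37220, nat_lit 32888, nat_lit 28702, nat_lit 24886, nat_lit 20750, nat_lit 16398, nat_lit 12295,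 nat_lit 8201, nat_lit 4097]⟩⟩ ⟨(nat_lit 2), ⟨[nat_lit 177, nat_lit 173, nat_lit 178], [], (nat_lit 382), ⟨[nat_lit 0, nat_lit 4, nat_lit 57], [nat_lit 83, nat_lit 56], ⟨[nat_lit 0xb80e3596c87a6615404e944d56d08c], [nat_lit 165120, nat_lit 162560, nat_lit 157504, nat_lit 153248, nat_lit 147888, nat_lit 144568, nat_lit 139284, nat_lit 136246, nat_lit 132740, nat_lit 210, nat_lit 4396, nat_lit 10128, nat_lit 12304, nat_lit 18080, nat_lit 22016, nat_lit 25856, nat_lit 29696, nat_lit 34304, nat_lit 41600, nat_lit 37367, nat_lit 33363, nat_lit 25143, nat_lit 20504, nat_lit 16385, nat_lit 12323, nat_lit 8448, nat_lit 4105, nat_lit 8]⟩⟩⟩, ⟨[nat_lit 103, nat_lit 106, nat_lit 100, nat_lit 105], [], (nat_lit 182), ⟨[nat_lit 23, nat_lit 64], [nat_lit 71, nat_lit 94], ⟨[nat_lit 0x1d1067c650504b649ee22540b731b3], [nat_lit 171008, nat_lit 164352, nat_lit 160512, nat_lit 157568, nat_lit 152512, nat_lit 147632, nat_lit 143696, nat_lit 140124, nat_lit 135470,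 nat_lit 132954, nat_lit 78, nat_lit 5024, nat_lit 8344, nat_lit 13600, nat_lit 18240, nat_lit 25088, nat_lit 29696, nat_lit 34304, nat_lit 41845, nat_lit 33929, nat_lit 29003, nat_lit 20631, nat_lit 16394, nat_lit 12292, nat_lit 8194, nat_lit 4097]⟩⟩⟩⟩,
  .edge ⟨[nat_lit 0, nat_lit 4, nat_lit 62], [nat_lit 87, nat_lit 69], ⟨[nat_lit 0x9aa28701a2a9e8660c2f2d8975a650], [nat_lit 173056, nat_lit 169472, nat_lit 164864, nat_lit 160000, nat_lit 156480, nat_lit 152160, nat_lit 148448, nat_lit 144888, nat_lit 140976, nat_lit 135956, nat_lit 134173, nat_lit 64, nat_lit 5572, nat_lit 9752, nat_lit 12832, nat_lit 17440, nat_lit 21760, nat_lit 29184, nat_lit 33792, nat_lit 41912, nat_lit 37996, nat_lit 32777, nat_lit 29221, nat_lit 24605, nat_lit 20624, nat_lit 16449, nat_lit 12307, nat_lit 8200, nat_lit 4100]⟩⟩ ⟨(nat_lit 2), ⟨[nat_lit 180, nat_lit 172], [nat_lit 178, nat_lit 170], (nat_lit 367), ⟨[nat_lit 72, nat_lit 69], [nat_lit 8, nat_lit 46],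 ⟨[nat_lit 0x228c898c503a4ab90221a3eecb55cd], [nat_lit 168960, nat_lit 160384, nat_lit 157568, nat_lit 153088, nat_lit 148944, nat_lit 147112, nat_lit 139304, nat_lit 136520, nat_lit 132433, nat_lit 484, nat_lit 4272, nat_lit 10168, nat_lit 13536, nat_lit 17088, nat_lit 21952, nat_lit 24832, nat_lit 28928, nat_lit 34304, nat_lit 37888, nat_lit 41376, nat_lit 37300, nat_lit 32922, nat_lit 29027, nat_lit 24616, nat_lit 20488, nat_lit 16398, nat_lit 12293, nat_lit 8195, nat_lit 4101]⟩⟩⟩, ⟨[nat_lit 68, nat_lit 47, nat_lit 46, nat_lit 49, nat_lit 49], [], (nat_lit 244), ⟨[nat_lit 18, nat_lit 46], [nat_lit 17, nat_lit 48], ⟨[nat_lit 0x6a255040d3545f7091697144cb1c74], [nat_lit 168960, nat_lit 165376, nat_lit 161408, nat_lit 159360, nat_lit 149056, nat_lit 143392, nat_lit 140592, nat_lit 135994, nat_lit 132305, nat_lit 1214, nat_lit 5644, nat_lit 8824, nat_lit 12352, nat_lit 18272, nat_lit 20544, nat_lit 24960, nat_lit 34304, nat_lit 41792, nat_lit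 37312, nat_lit 33418, nat_lit 29276, nat_lit 24593, nat_lit 20485, nat_lit 16386, nat_lit 12291, nat_lit 8224, nat_lit 4105, nat_lit 4]⟩⟩⟩⟩]

theorem dcMr198 : Rng dcM 198 200 := Rng.of (l := dcMc198) (by decide +kernel)

def dcMc200 : List Cert := [.edge ⟨[nat_lit 0, nat_lit 19, nat_lit 67], [nat_lit 40, nat_lit 62], ⟨[nat_lit 0x3499369569b8a2879060abac750614], [nat_lit 168448, nat_lit 165120, nat_lit 163328, nat_lit 156032, nat_lit 153152, nat_lit 148640, nat_lit 144280, nat_lit 140432, nat_lit 136088, nat_lit 133072, nat_lit 1842, nat_lit 4160, nat_lit 9192, nat_lit 13888, nat_lit 18112, nat_lit 20544, nat_lit 24704, nat_lit 29184, nat_lit 33280, nat_lit 41692, nat_lit 37274, nat_lit 33011, nat_lit 29048, nat_lit 24622, nat_lit 20571, nat_lit 16416, nat_lit 12359, nat_lit 8211, nat_lit 4100, nat_lit 8]⟩⟩ ⟨(nat_lit 2), ⟨[nat_lit 179, nat_lit 176, nat_lit 175, nat_lit 173, nat_lit 177, nat_lit 170], [], (nat_lit 386), ⟨[nat_lit 0, nat_lit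 8, nat_lit 52], [nat_lit 73, nat_lit 61], ⟨[nat_lit 0x5144b1dc943063301d8d43ad04beb2], [nat_lit 174080, nat_lit 169472, nat_lit 165120, nat_lit 160896, nat_lit 158656, nat_lit 155456, nat_lit 150720, nat_lit 145160, nat_lit 141756, nat_lit 137046, nat_lit 133665, nat_lit 1140, nat_lit 4756, nat_lit 9760, nat_lit 12336, nat_lit 18176, nat_lit 20544, nat_lit 30464, nat_lit 33792, nat_lit 41365, nat_lit 37137, nat_lit 33529, nat_lit 28764, nat_lit 24609, nat_lit 20574, nat_lit 16430, nat_lit 12324, nat_lit 8226]⟩⟩⟩, ⟨[nat_lit 145, nat_lit 148, nat_lit 142, nat_lit 142], [], (nat_lit 380), ⟨[nat_lit 0, nat_lit 78, nat_lit 93], [nat_lit 14, nat_lit 46], ⟨[nat_lit 0x234ac3bdc6baaa9a22cb8cc430ca00], [nat_lit 174080, nat_lit 169984, nat_lit 167680, nat_lit 160384, nat_lit 158656, nat_lit 153856, nat_lit 149296, nat_lit 146208, nat_lit 140760, nat_lit 136184, nat_lit 132346, nat_lit 1896, nat_lit 4160, nat_lit 8568, nat_lit 14112, nat_lit 16736,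 nat_lit 22272, nat_lit 25600, nat_lit 28928, nat_lit 33280, nat_lit 37888, nat_lit 41495, nat_lit 38323, nat_lit 33334, nat_lit 29030, nat_lit 24584, nat_lit 20634, nat_lit 16516, nat_lit 12290, nat_lit 8226, nat_lit 4104]⟩⟩⟩⟩,
  .edge ⟨[nat_lit 13, nat_lit 63], [nat_lit 23, nat_lit 55], ⟨[nat_lit 0xaa01783cf40ce2b2a8c21b92d23256], [nat_lit 175104, nat_lit 169984, nat_lit 166656, nat_lit 160128, nat_lit 158528, nat_lit 154176, nat_lit 148992, nat_lit 146424, nat_lit 139676, nat_lit 136146, nat_lit 131985, nat_lit 1488, nat_lit 4412, nat_lit 9272, nat_lit 14192, nat_lit 21184, nat_lit 25216, nat_lit 29440, nat_lit 33280, nat_lit 41508, nat_lit 37291, nat_lit 33407, nat_lit 28690, nat_lit 24632, nat_lit 20501, nat_lit 16397, nat_lit 8211, nat_lit 4100]⟩⟩ ⟨(nat_lit 2), ⟨[nat_lit 179, nat_lit 175, nat_lit 174, nat_lit 171, nat_lit 178, nat_lit 170], [], (nat_lit 394), ⟨[nat_lit 0, nat_lit 9, nat_lit 89], [nat_lit 15, nat_lit 62], ⟨[nat_lit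 0xa4ec04c42a6c9823c0c3716a8bbc8b], [nat_lit 173056, nat_lit 169984, nat_lit 160768, nat_lit 157056, nat_lit 151968, nat_lit 148576, nat_lit 145144, nat_lit 139268, nat_lit 136826, nat_lit 131779, nat_lit 1966, nat_lit 5064, nat_lit 8968, nat_lit 14192, nat_lit 16640, nat_lit 21376, nat_lit 25344, nat_lit 30464, nat_lit 33280, nat_lit 41856, nat_lit 38330, nat_lit 33016, nat_lit 28989, nat_lit 24752, nat_lit 20554, nat_lit 16431, nat_lit 12324, nat_lit 8227, nat_lit 4105, nat_lit 8]⟩⟩⟩, ⟨[nat_lit 144, nat_lit 145, nat_lit 146, nat_lit 148, nat_lit 144, nat_lit 139], [], (nat_lit 328), ⟨[nat_lit 0, nat_lit 9, nat_lit 47], [nat_lit 0, nat_lit 26, nat_lit 90], ⟨[nat_lit 0x9e6d3440cb41321d04a291777a2ae], [nat_lit 173056, nat_lit 170496, nat_lit 164352, nat_lit 160000, nat_lit 157120, nat_lit 151648, nat_lit 148608, nat_lit 143928, nat_lit 141268, nat_lit 135698, nat_lit 132990, nat_lit 342, nat_lit 4756, nat_lit 9904, nat_lit 13664, nat_lit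 16608, nat_lit 21312, nat_lit 25728, nat_lit 29184, nat_lit 34304, nat_lit 41392, nat_lit 37187, nat_lit 33366, nat_lit 29710, nat_lit 24586, nat_lit 20609, nat_lit 16424, nat_lit 8211, nat_lit 4112, nat_lit 2]⟩⟩⟩⟩]

theorem dcMr200 : Rng dcM 200 202 := Rng.of (l := dcMc200) (by decide +kernel)

def dcMc202 : List Cert := [.edge ⟨[nat_lit 77, nat_lit 54], [nat_lit 0, nat_lit 26, nat_lit 55], ⟨[nat_lit 0xa067182cef029362a24d1dc8670995], [nat_lit 173056, nat_lit 170496, nat_lit 166144, nat_lit 161792, nat_lit 157760, nat_lit 152320, nat_lit 150416, nat_lit 147272, nat_lit 140576, nat_lit 139262, nat_lit 131832, nat_lit 1336, nat_lit 4408, nat_lit 8928, nat_lit 12848, nat_lit 16704, nat_lit 20672, nat_lit 25856, nat_lit 29440, nat_lit 37888, nat_lit 41215, nat_lit 37229, nat_lit 33530, nat_lit 29029, nat_lit 24712, nat_lit 20482, nat_lit 16456, nat_lit 12356, nat_lit 8194, nat_lit 4100]⟩⟩ ⟨(nat_lit 2), ⟨[nat_lit 175, nat_lit 178, nat_lit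 178, nat_lit 171, nat_lit 177], [], (nat_lit 402), ⟨[nat_lit 48], [nat_lit 19, nat_lit 47], ⟨[nat_lit 0x33eca1b1d0bacad126283cc81ad012], [nat_lit 173056, nat_lit 169472, nat_lit 167680, nat_lit 160256, nat_lit 156224, nat_lit 154688, nat_lit 150560, nat_lit 146384, nat_lit 142540, nat_lit 139244, nat_lit 131748, nat_lit 4412, nat_lit 10232, nat_lit 12384, nat_lit 18176, nat_lit 22208, nat_lit 28928, nat_lit 37888, nat_lit 41905, nat_lit 37358, nat_lit 32770, nat_lit 29308, nat_lit 24578, nat_lit 21019, nat_lit 16417, nat_lit 12803, nat_lit 8203, nat_lit 4097, nat_lit 2]⟩⟩⟩, ⟨[nat_lit 142, nat_lit 140, nat_lit 143, nat_lit 150, nat_lit 140], [], (nat_lit 380), ⟨[nat_lit 0, nat_lit 44, nat_lit 67], [nat_lit 13, nat_lit 69], ⟨[nat_lit 0xb3253754c7440a322c31051a2526ef], [nat_lit 175104, nat_lit 171008, nat_lit 164864, nat_lit 162432, nat_lit 158016, nat_lit 154880, nat_lit 147664, nat_lit 143640, nat_lit 139300, nat_lit 138242, nat_lit 134223,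 nat_lit 394, nat_lit 4756, nat_lit 10064, nat_lit 12736, nat_lit 16864, nat_lit 22272, nat_lit 25472, nat_lit 29184, nat_lit 37888, nat_lit 41097, nat_lit 37289, nat_lit 32937, nat_lit 28730, nat_lit 24620, nat_lit 20560, nat_lit 16397, nat_lit 12309, nat_lit 8210]⟩⟩⟩⟩]

theorem dcMr202 : Rng dcM 202 203 := Rng.of (l := dcMc202) (by decide +kernel)

def dcMc203 : List Cert := [.edge ⟨[nat_lit 11, nat_lit 62], [nat_lit 0, nat_lit 71, nat_lit 57], ⟨[nat_lit 0x2428d026d58bee57094c94d6341c26], [nat_lit 175104, nat_lit 168448, nat_lit 167424, nat_lit 162560, nat_lit 159104, nat_lit 152512, nat_lit 149168, nat_lit 145136, nat_lit 141772, nat_lit 137858, nat_lit 131458, nat_lit 158, nat_lit 5120, nat_lit 9664, nat_lit 12544, nat_lit 17504, nat_lit 21376, nat_lit 25216, nat_lit 29696, nat_lit 33792, nat_lit 41271, nat_lit 37089, nat_lit 32920, nat_lit 28964, nat_lit 24603, nat_lit 20617, nat_lit 16427, nat_lit 12304, nat_lit 8195, nat_lit 4101,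 nat_lit 4]⟩⟩ ⟨(nat_lit 2), ⟨[nat_lit 171, nat_lit 178, nat_lit 175, nat_lit 170, nat_lit 181, nat_lit 172], [], (nat_lit 394), ⟨[nat_lit 34, nat_lit 94], [nat_lit 74, nat_lit 47], ⟨[nat_lit 0x591ae806cf05593a24d78aa4540c47], [nat_lit 173056, nat_lit 168960, nat_lit 164096, nat_lit 159872, nat_lit 155968, nat_lit 152096, nat_lit 148304, nat_lit 145048, nat_lit 139404, nat_lit 137632, nat_lit 132622, nat_lit 1180, nat_lit 4100, nat_lit 8200, nat_lit 12544, nat_lit 17952, nat_lit 22208, nat_lit 24832, nat_lit 34304, nat_lit 37888, nat_lit 41349, nat_lit 37347, nat_lit 33476, nat_lit 29293, nat_lit 25093, nat_lit 20564, nat_lit 16428, nat_lit 12294, nat_lit 8194]⟩⟩⟩, ⟨[nat_lit 149, nat_lit 148, nat_lit 147, nat_lit 149, nat_lit 140], [nat_lit 142, nat_lit 147, nat_lit 148, nat_lit 141, nat_lit 139, nat_lit 139], (nat_lit 317), ⟨[nat_lit 0, nat_lit 85, nat_lit 64], [nat_lit 88, nat_lit 69], ⟨[nat_lit 0x64a2fad843a02e1424a47361331d4b], [nat_lit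 171008, nat_lit 164608, nat_lit 162432, nat_lit 156480, nat_lit 154528, nat_lit 151136, nat_lit 146688, nat_lit 140944, nat_lit 136686, nat_lit 134562, nat_lit 354, nat_lit 5544, nat_lit 9096, nat_lit 13152, nat_lit 18112, nat_lit 21632, nat_lit 25472, nat_lit 30464, nat_lit 37888, nat_lit 41596, nat_lit 38051, nat_lit 32867, nat_lit 28787, nat_lit 24603, nat_lit 20507, nat_lit 16390, nat_lit 12320, nat_lit 8194]⟩⟩⟩⟩]

theorem dcMr203 : Rng dcM 203 204 := Rng.of (l := dcMc203) (by decide +kernel)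

def dcMc204 : List Cert := [.edge ⟨[nat_lit 0, nat_lit 82, nat_lit 53], [nat_lit 0, nat_lit 76, nat_lit 70], ⟨[nat_lit 0x10c8b032d049a3255cb47cea1734e8], [nat_lit 173056, nat_lit 169472, nat_lit 166656, nat_lit 160768, nat_lit 157568, nat_lit 155232, nat_lit 150096, nat_lit 146472, nat_lit 142232, nat_lit 138832, nat_lit 131829, nat_lit 1438, nat_lit 4156, nat_lit 9544, nat_lit 13296, nat_lit 17504, nat_lit 24832, nat_lit 30208, nat_lit 41139, nat_lit 37097, nat_lit 32802, nat_lit 29246, nat_lit 24578, nat_lit 20508, nat_lit 16388, nat_lit 12294, nat_lit 8193, nat_lit 4097, nat_lit 2]⟩⟩ ⟨(nat_lit 2), ⟨[nat_lit 180, nat_lit 179, nat_lit 179, nat_lit 178, nat_lit 170], [], (nat_lit 388), ⟨[nat_lit 0, nat_lit 33, nat_lit 64], [nat_lit 11, nat_lit 89], ⟨[nat_lit 0x2540c289f444af608d3181d466add3], [nat_lit 173056, nat_lit 168960, nat_lit 164096, nat_lit 160512, nat_lit 156352, nat_lit 153024, nat_lit 149472, nat_lit 144112, nat_lit 141332,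 nat_lit 136780, nat_lit 132899, nat_lit 586, nat_lit 5228, nat_lit 8312, nat_lit 13248, nat_lit 18336, nat_lit 22208, nat_lit 25216, nat_lit 29952, nat_lit 34304, nat_lit 37888, nat_lit 41649, nat_lit 37364, nat_lit 33512, nat_lit 29201, nat_lit 24636, nat_lit 20494, nat_lit 16396, nat_lit 12307, nat_lit 8201, nat_lit 4100]⟩⟩⟩, ⟨[nat_lit 142, nat_lit 149, nat_lit 141, nat_lit 146, nat_lit 142, nat_lit 139], [], (nat_lit 326), ⟨[nat_lit 52], [nat_lit 71, nat_lit 58], ⟨[nat_lit 0x7350900eb7348f19c08562d4f08a96], [nat_lit 168960, nat_lit 165632, nat_lit 160000, nat_lit 156416, nat_lit 152224, nat_lit 148112, nat_lit 146648, nat_lit 140144, nat_lit 135718, nat_lit 131722, nat_lit 688, nat_lit 4128, nat_lit 8200, nat_lit 12320, nat_lit 17184, nat_lit 21952, nat_lit 26240, nat_lit 30208, nat_lit 33792, nat_lit 41554, nat_lit 38121, nat_lit 33000, nat_lit 28779, nat_lit 24581, nat_lit 20486, nat_lit 16907, nat_lit 12290, nat_lit 4104]⟩⟩⟩⟩]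

theorem dcMr204 : Rng dcM 204 205 := Rng.of (l := dcMc204) (by decide +kernel)

def dcMc205 : List Cert := [.edge ⟨[nat_lit 5, nat_lit 48], [nat_lit 6, nat_lit 46], ⟨[nat_lit 0x2dc489b8617d256640e451aa04ae2d], [nat_lit 175104, nat_lit 170496, nat_lit 166400, nat_lit 162560, nat_lit 156096, nat_lit 155296, nat_lit 151104, nat_lit 144800, nat_lit 143300, nat_lit 136776, nat_lit 131773, nat_lit 1624, nat_lit 4568, nat_lit 9648, nat_lit 13216, nat_lit 18400, nat_lit 20544, nat_lit 26112, nat_lit 30208, nat_lit 33280, nat_lit 41476, nat_lit 37356, nat_lit 32948, nat_lit 28947, nat_lit 25138, nat_lit 20611, nat_lit 16397, nat_lit 12290, nat_lit 8194, nat_lit 4100]⟩⟩ ⟨(nat_lit 2), ⟨[nat_lit 177, nat_lit 171, nat_lit 170, nat_lit 175, nat_lit 178, nat_lit 170], [], (nat_lit 388), ⟨[nat_lit 31, nat_lit 91], [nat_lit 0, nat_lit 44, nat_lit 65], ⟨[nat_lit 0xa8ce04ea34ae566c68f430472c2e4], [nat_lit 169984, nat_lit 165120, nat_lit 161280, nat_lit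 158336, nat_lit 152000, nat_lit 149120, nat_lit 146384, nat_lit 143316, nat_lit 137398, nat_lit 133754, nat_lit 606, nat_lit 5688, nat_lit 10224, nat_lit 12416, nat_lit 18112, nat_lit 20800, nat_lit 26112, nat_lit 30208, nat_lit 33280, nat_lit 37888, nat_lit 41383, nat_lit 37148, nat_lit 33381, nat_lit 28709, nat_lit 24601, nat_lit 20624, nat_lit 12352, nat_lit 8224]⟩⟩⟩, ⟨[nat_lit 146, nat_lit 144, nat_lit 150, nat_lit 148, nat_lit 142], [nat_lit 148, nat_lit 144, nat_lit 143, nat_lit 146], (nat_lit 395), ⟨[nat_lit 0, nat_lit 1], [nat_lit 42, nat_lit 68], ⟨[nat_lit 0x90c9782a2c9d8474beb42b5065802e], [nat_lit 175104, nat_lit 171520, nat_lit 166912, nat_lit 160128, nat_lit 157504, nat_lit 152256, nat_lit 150480, nat_lit 145000, nat_lit 139640, nat_lit 138900, nat_lit 133473, nat_lit 166, nat_lit 6068, nat_lit 8352, nat_lit 13264, nat_lit 17152, nat_lit 21440, nat_lit 25088, nat_lit 33792, nat_lit 37888, nat_lit 41370, nat_lit 36885, nat_lit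 33013, nat_lit 29024, nat_lit 24591, nat_lit 20743, nat_lit 16389, nat_lit 12291, nat_lit 8194, nat_lit 4097]⟩⟩⟩⟩,
  .edge ⟨[nat_lit 20, nat_lit 51], [nat_lit 0, nat_lit 71, nat_lit 52], ⟨[nat_lit 0x651b52c0f3b3dd708148890d258869], [nat_lit 168448, nat_lit 165632, nat_lit 160768, nat_lit 159168, nat_lit 151616, nat_lit 148816, nat_lit 144808, nat_lit 141184, nat_lit 135276, nat_lit 131672, nat_lit 804, nat_lit 5072, nat_lit 8256, nat_lit 12352, nat_lit 17984, nat_lit 21632, nat_lit 29696, nat_lit 41488, nat_lit 38139, nat_lit 32832, nat_lit 29227, nat_lit 24635, nat_lit 20556, nat_lit 16423, nat_lit 12290, nat_lit 4104, nat_lit 32]⟩⟩ ⟨(nat_lit 2), ⟨[nat_lit 177, nat_lit 173, nat_lit 178, nat_lit 172], [], (nat_lit 406), ⟨[nat_lit 0, nat_lit 28, nat_lit 64], [nat_lit 0, nat_lit 39, nat_lit 59], ⟨[nat_lit 0x9ba0d32cea93d91082972a5041daa2], [nat_lit 170496, nat_lit 165888, nat_lit 162560, nat_lit 157888, nat_lit 153120, nat_lit 151008, nat_lit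 146040, nat_lit 140848, nat_lit 138168, nat_lit 131381, nat_lit 1766, nat_lit 5084, nat_lit 10112, nat_lit 14208, nat_lit 18304, nat_lit 21760, nat_lit 25344, nat_lit 30208, nat_lit 33280, nat_lit 37888, nat_lit 41372, nat_lit 37375, nat_lit 32969, nat_lit 28678, nat_lit 24627, nat_lit 20546, nat_lit 16390, nat_lit 12294, nat_lit 8193, nat_lit 4097, nat_lit 2]⟩⟩⟩, ⟨[nat_lit 142, nat_lit 146], [], (nat_lit 376), ⟨[nat_lit 75, nat_lit 55], [nat_lit 0, nat_lit 74, nat_lit 90], ⟨[nat_lit 0x98243714edb2575bd10a311ec80831], [nat_lit 173056, nat_lit 169472, nat_lit 165376, nat_lit 163328, nat_lit 157248, nat_lit 152736, nat_lit 148896, nat_lit 145128, nat_lit 141264, nat_lit 135470, nat_lit 132607, nat_lit 1004, nat_lit 4224, nat_lit 8320, nat_lit 12656, nat_lit 16672, nat_lit 22336, nat_lit 25088, nat_lit 29184, nat_lit 33792, nat_lit 41712, nat_lit 38051, nat_lit 32783, nat_lit 28792, nat_lit 24761, nat_lit 20608, nat_lit 16422, nat_lit 12310,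 nat_lit 64]⟩⟩⟩⟩]

theorem dcMr205 : Rng dcM 205 207 := Rng.of (l := dcMc205) (by decide +kernel)

def dcMc207 : List Cert := [.edge ⟨[nat_lit 29, nat_lit 70], [nat_lit 0, nat_lit 72, nat_lit 92], ⟨[nat_lit 0x84ee470a2b00ea5b30cd405f2a1d2a], [nat_lit 173056, nat_lit 168448, nat_lit 164352, nat_lit 156352, nat_lit 152736, nat_lit 147920, nat_lit 145320, nat_lit 142276, nat_lit 136654, nat_lit 131767, nat_lit 1814, nat_lit 5568, nat_lit 9096, nat_lit 13216, nat_lit 24832, nat_lit 29952, nat_lit 33792, nat_lit 41454, nat_lit 36908, nat_lit 32951, nat_lit 28772, nat_lit 24754, nat_lit 20508, nat_lit 16416, nat_lit 12292, nat_lit 8193]⟩⟩ ⟨(nat_lit 2), ⟨[nat_lit 181, nat_lit 181, nat_lit 175, nat_lit 172, nat_lit 170, nat_lit 170], [], (nat_lit 388), ⟨[nat_lit 0, nat_lit 1, nat_lit 67], [nat_lit 0, nat_lit 43, nat_lit 64], ⟨[nat_lit 0x9846b6ba29859576500539a487d482], [nat_lit 174080, nat_lit 171008, nat_lit 165888, nat_lit 162944, nat_lit 156032,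 nat_lit 154752, nat_lit 149648, nat_lit 144512, nat_lit 142068, nat_lit 135974, nat_lit 131073, nat_lit 1766, nat_lit 5064, nat_lit 10088, nat_lit 13920, nat_lit 18336, nat_lit 22144, nat_lit 26240, nat_lit 41244, nat_lit 37148, nat_lit 32924, nat_lit 28928, nat_lit 24634, nat_lit 20494, nat_lit 16396, nat_lit 12304, nat_lit 8201, nat_lit 4128, nat_lit 4]⟩⟩⟩, ⟨[nat_lit 142, nat_lit 143, nat_lit 150, nat_lit 140], [], (nat_lit 380), ⟨[nat_lit 0, nat_lit 31, nat_lit 49], [nat_lit 18, nat_lit 48], ⟨[nat_lit 0x3460a22e96a8a4e19c299dc0f43585], [nat_lit 171520, nat_lit 166656, nat_lit 163456, nat_lit 158464, nat_lit 153344, nat_lit 150464, nat_lit 146160, nat_lit 139864, nat_lit 137638, nat_lit 132492, nat_lit 364, nat_lit 4540, nat_lit 8928, nat_lit 13920, nat_lit 16416, nat_lit 20992, nat_lit 26240, nat_lit 28928, nat_lit 41311, nat_lit 37286, nat_lit 32956, nat_lit 28779, nat_lit 24760, nat_lit 20622, nat_lit 16461, nat_lit 12304, nat_lit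 8195, nat_lit 4101, nat_lit 4]⟩⟩⟩⟩]

theorem dcMr207 : Rng dcM 207 208 := Rng.of (l := dcMc207) (by decide +kernel)

def dcMc208 : List Cert := [.edge ⟨[nat_lit 11, nat_lit 66], [nat_lit 31, nat_lit 68], ⟨[nat_lit 0x115879c9e1242e852c0db0e8e8a4d5], [nat_lit 169472, nat_lit 164608, nat_lit 161664, nat_lit 156544, nat_lit 153472, nat_lit 148928, nat_lit 144672, nat_lit 139376, nat_lit 136108, nat_lit 132518, nat_lit 1762, nat_lit 4548, nat_lit 9136, nat_lit 13248, nat_lit 18016, nat_lit 20992, nat_lit 26496, nat_lit 29696, nat_lit 33792, nat_lit 41032, nat_lit 37032, nat_lit 32779, nat_lit 29192, nat_lit 25630, nat_lit 20621, nat_lit 16450, nat_lit 12325, nat_lit 8210, nat_lit 4100]⟩⟩ ⟨(nat_lit 2), ⟨[nat_lit 177, nat_lit 170, nat_lit 177, nat_lit 179, nat_lit 180], [nat_lit 178, nat_lit 171, nat_lit 174, nat_lit 170, nat_lit 173, nat_lit 172], (nat_lit 381), ⟨[nat_lit 76, nat_lit 89], [nat_lit 0, nat_lit 84, nat_lit 57], ⟨[nat_lit 0x4994fa2c730940cb2222754f723650],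 [nat_lit 173056, nat_lit 170496, nat_lit 167424, nat_lit 163072, nat_lit 159680, nat_lit 153216, nat_lit 150800, nat_lit 146472, nat_lit 140620, nat_lit 137546, nat_lit 132563, nat_lit 428, nat_lit 5080, nat_lit 8256, nat_lit 13760, nat_lit 21120, nat_lit 26368, nat_lit 28928, nat_lit 34304, nat_lit 37888, nat_lit 41685, nat_lit 38175, nat_lit 32838, nat_lit 28713, nat_lit 24633, nat_lit 20490, nat_lit 16395, nat_lit 12305, nat_lit 8449, nat_lit 4]⟩⟩⟩, ⟨[nat_lit 140, nat_lit 150, nat_lit 139, nat_lit 147], [nat_lit 148, nat_lit 144, nat_lit 143, nat_lit 146], (nat_lit 395), ⟨[nat_lit 16, nat_lit 93], [nat_lit 0, nat_lit 80, nat_lit 47], ⟨[nat_lit 0x9bea44a80810d61341d46da453c597], [nat_lit 175104, nat_lit 170496, nat_lit 167424, nat_lit 160512, nat_lit 151120, nat_lit 144056, nat_lit 139832, nat_lit 138040, nat_lit 133170, nat_lit 1354, nat_lit 4964, nat_lit 9168, nat_lit 12368, nat_lit 16512, nat_lit 20608, nat_lit 26112, nat_lit 33792,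 nat_lit 41806, nat_lit 37158, nat_lit 33423, nat_lit 28960, nat_lit 25607, nat_lit 20752, nat_lit 16416, nat_lit 12292, nat_lit 8201, nat_lit 4097, nat_lit 2]⟩⟩⟩⟩]

theorem dcMr208 : Rng dcM 208 209 := Rng.of (l := dcMc208) (by decide +kernel)

def dcMc209 : List Cert := [.edge ⟨[nat_lit 3, nat_lit 65], [nat_lit 34, nat_lit 58], ⟨[nat_lit 0x138053a1e98ac756dec454a8161a70], [nat_lit 169472, nat_lit 166144, nat_lit 156096, nat_lit 151808, nat_lit 148544, nat_lit 143432, nat_lit 140596, nat_lit 136984, nat_lit 526, nat_lit 4476, nat_lit 9592, nat_lit 13552, nat_lit 17408, nat_lit 20608, nat_lit 24832, nat_lit 28928, nat_lit 33792, nat_lit 41216, nat_lit 37272, nat_lit 32784, nat_lit 28704, nat_lit 24586, nat_lit 20608, nat_lit 16646, nat_lit 12352, nat_lit 8210, nat_lit 4105, nat_lit 2]⟩⟩ ⟨(nat_lit 2), ⟨[nat_lit 180, nat_lit 177, nat_lit 174, nat_lit 179], [], (nat_lit 416), ⟨[nat_lit 0, nat_lit 42, nat_lit 46], [nat_lit 9, nat_lit 94],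 ⟨[nat_lit 0x84e324ad0aa5eb67b98d3988510c20], [nat_lit 173056, nat_lit 171008, nat_lit 167168, nat_lit 163072, nat_lit 158784, nat_lit 152544, nat_lit 151008, nat_lit 146232, nat_lit 139464, nat_lit 138314, nat_lit 131111, nat_lit 986, nat_lit 4104, nat_lit 8200, nat_lit 13264, nat_lit 17216, nat_lit 20800, nat_lit 25728, nat_lit 30464, nat_lit 34304, nat_lit 37888, nat_lit 41362, nat_lit 37010, nat_lit 32933, nat_lit 29031, nat_lit 24587, nat_lit 20759, nat_lit 16386, nat_lit 12294, nat_lit 8200, nat_lit 4100]⟩⟩⟩, ⟨[nat_lit 171, nat_lit 179, nat_lit 174, nat_lit 171], [], (nat_lit 416), ⟨[nat_lit 0, nat_lit 4, nat_lit 51], [nat_lit 25, nat_lit 63], ⟨[nat_lit 0x2b4c90d891abe8805e076497353862], [nat_lit 173056, nat_lit 170496, nat_lit 165632, nat_lit 163456, nat_lit 155840, nat_lit 153920, nat_lit 151264, nat_lit 147408, nat_lit 140808, nat_lit 137060, nat_lit 135136, nat_lit 700, nat_lit 5540, nat_lit 10168, nat_lit 12384, nat_lit 17728,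 nat_lit 21184, nat_lit 25472, nat_lit 33280, nat_lit 37888, nat_lit 41629, nat_lit 38096, nat_lit 32898, nat_lit 28763, nat_lit 24710, nat_lit 20511, nat_lit 16386, nat_lit 12321, nat_lit 8203, nat_lit 4105]⟩⟩⟩⟩,
  .edge ⟨[nat_lit 0, nat_lit 20, nat_lit 70], [nat_lit 0, nat_lit 78, nat_lit 91], ⟨[nat_lit 0x74a67ab0d60c6ea4bc8b015a385102], [nat_lit 168448, nat_lit 167680, nat_lit 160640, nat_lit 157056, nat_lit 155168, nat_lit 149600, nat_lit 146272, nat_lit 142764, nat_lit 137276, nat_lit 132947, nat_lit 1178, nat_lit 4156, nat_lit 8224, nat_lit 12352, nat_lit 17952, nat_lit 20736, nat_lit 24832, nat_lit 30464, nat_lit 41602, nat_lit 38272, nat_lit 33478, nat_lit 29005, nat_lit 24605, nat_lit 20487, nat_lit 16455, nat_lit 12304, nat_lit 8225, nat_lit 32]⟩⟩ ⟨(nat_lit 2), ⟨[nat_lit 175, nat_lit 179, nat_lit 180, nat_lit 175, nat_lit 171, nat_lit 171], [], (nat_lit 386), ⟨[nat_lit 0, nat_lit 27, nat_lit 67], [nat_lit 35], ⟨[nat_lit 0x6c4f4789885481032c65ba6a19d88e],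 [nat_lit 173056, nat_lit 168960, nat_lit 164096, nat_lit 161152, nat_lit 156608, nat_lit 151776, nat_lit 149024, nat_lit 143608, nat_lit 142848, nat_lit 136814, nat_lit 132436, nat_lit 1292, nat_lit 5968, nat_lit 10144, nat_lit 13056, nat_lit 16608, nat_lit 20736, nat_lit 24704, nat_lit 30464, nat_lit 33792, nat_lit 37888, nat_lit 41202, nat_lit 37354, nat_lit 33486, nat_lit 28763, nat_lit 24767, nat_lit 20544, nat_lit 16390, nat_lit 12420, nat_lit 8202, nat_lit 4105, nat_lit 4]⟩⟩⟩, ⟨[nat_lit 146, nat_lit 149, nat_lit 142, nat_lit 146, nat_lit 143, nat_lit 143], [], (nat_lit 326), ⟨[nat_lit 16, nat_lit 56], [nat_lit 79], ⟨[nat_lit 0x8526128ac41a6a8bb40e628d28ade7], [nat_lit 168448, nat_lit 164608, nat_lit 160512, nat_lit 155776, nat_lit 152800, nat_lit 147744, nat_lit 145272, nat_lit 142448, nat_lit 136568, nat_lit 132712, nat_lit 1178, nat_lit 5296, nat_lit 10088, nat_lit 13664, nat_lit 17568, nat_lit 21632, nat_lit 25088, nat_lit 30208,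 nat_lit 33280, nat_lit 37888, nat_lit 41573, nat_lit 37055, nat_lit 32784, nat_lit 29235, nat_lit 25625, nat_lit 20546, nat_lit 16418, nat_lit 12292, nat_lit 8194, nat_lit 4100]⟩⟩⟩⟩]

theorem dcMr209 : Rng dcM 209 211 := Rng.of (l := dcMc209) (by decide +kernel)

def dcMc211 : List Cert := [.edge tw0 ⟨(nat_lit 1), ⟨[], [], (nat_lit 398), ⟨[nat_lit 0, nat_lit 80, nat_lit 68], [nat_lit 69], ⟨[nat_lit 0xb1e291006d5dcd3605cfa160822ab2], [nat_lit 168960, nat_lit 165120, nat_lit 160384, nat_lit 156672, nat_lit 151584, nat_lit 149088, nat_lit 143664, nat_lit 139396, nat_lit 136176, nat_lit 134842, nat_lit 5856, nat_lit 8912, nat_lit 13088, nat_lit 16608, nat_lit 20928, nat_lit 24832, nat_lit 29184, nat_lit 33792, nat_lit 37888, nat_lit 41601, nat_lit 38248, nat_lit 32841, nat_lit 29224, nat_lit 24765, nat_lit 20555, nat_lit 16422, nat_lit 12357, nat_lit 8225]⟩⟩⟩, ⟨[nat_lit 109, nat_lit 130, nat_lit 131, nat_lit 132, nat_lit 110], [], (nat_lit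 250), ⟨[nat_lit 0, nat_lit 83], [nat_lit 0, nat_lit 24, nat_lit 66], ⟨[nat_lit 0x7d9aa1d5218227432cb73c84e0122c], [nat_lit 174080, nat_lit 171520, nat_lit 165120, nat_lit 162560, nat_lit 158464, nat_lit 155520, nat_lit 148464, nat_lit 139664, nat_lit 137684, nat_lit 134228, nat_lit 2012, nat_lit 4924, nat_lit 10184, nat_lit 12384, nat_lit 16896, nat_lit 21440, nat_lit 24832, nat_lit 30464, nat_lit 34304, nat_lit 37888, nat_lit 41475, nat_lit 37273, nat_lit 32970, nat_lit 28965, nat_lit 24730, nat_lit 20496, nat_lit 16399, nat_lit 12305, nat_lit 8201, nat_lit 4097]⟩⟩⟩⟩,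
  .stab (nat_lit 366) tw0 ⟨(nat_lit 0), ⟨[nat_lit 67, nat_lit 71, nat_lit 49, nat_lit 48, nat_lit 69, nat_lit 66, nat_lit 68, nat_lit 47], [], (nat_lit 366), ⟨[nat_lit 0, nat_lit 74, nat_lit 53], [nat_lit 16, nat_lit 48], ⟨[nat_lit 0x590ea10612bb1d62a0c96d5f404663], [nat_lit 168448, nat_lit 164608, nat_lit 156288, nat_lit 152096, nat_lit 148032, nat_lit 145232, nat_lit 141104, nat_lit 137710, nat_lit 131381, nat_lit 582, nat_lit 4104, nat_lit 8264, nat_lit 12800, nat_lit 18208, nat_lit 20992, nat_lit 26368, nat_lit 29952, nat_lit 34304, nat_lit 41191, nat_lit 37194, nat_lit 33478, nat_lit 29038, nat_lit 24744, nat_lit 20503, nat_lit 16429, nat_lit 12293, nat_lit 8203, nat_lit 4097, nat_lit 2]⟩⟩⟩, ap0⟩,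
  .prod [] [nat_lit 171, nat_lit 212, nat_lit 212, nat_lit 212],
  .prod [] [nat_lit 212, nat_lit 173, nat_lit 213, nat_lit 213]]

theorem dcMr211 : Rng dcM 211 215 := Rng.of (l := dcMc211) (by decide +kernel)

def dcMc215 : List Cert := [.prod [] [nat_lit 212, nat_lit 171, nat_lit 212, nat_lit 173],
  .prod [] [nat_lit 171, nat_lit 215, nat_lit 170, nat_lit 173],
  .prod [] [nat_lit 171, nat_lit 214, nat_lit 216, nat_lit 170],
  .prod [] [nat_lit 173, nat_lit 217, nat_lit 213, nat_lit 172],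
  .prod [] [nat_lit 214, nat_lit 218, nat_lit 172, nat_lit 172],
  .edge ⟨[nat_lit 0, nat_lit 2, nat_lit 94], [nat_lit 0, nat_lit 6, nat_lit 59], ⟨[nat_lit 0x4d50a38a0dbd2cb780930962e90d86], [nat_lit 169472, nat_lit 164352, nat_lit 159872, nat_lit 157632, nat_lit 152384, nat_lit 149376, nat_lit 143792, nat_lit 142740, nat_lit 136818, nat_lit 132102, nat_lit 786, nat_lit 4408, nat_lit 8200, nat_lit 18336, nat_lit 21184, nat_lit 25472, nat_lit 28928, nat_lit 33792, nat_lit 41356, nat_lit 37068, nat_lit 33973, nat_lit 29248, nat_lit 24579, nat_lit 20756, nat_lit 12292, nat_lit 32]⟩⟩ ⟨(nat_lit 2), ⟨[nat_lit 213, nat_lit 219, nat_lit 216, nat_lit 216, nat_lit 172, nat_lit 219], [], (nat_lit 394), ⟨[nat_lit 5, nat_lit 93], [nat_lit 0, nat_lit 36, nat_lit 91], ⟨[nat_lit 0x25e209a64d409e333165aaa8eb0607], [nat_lit 174080, nat_lit 167424, nat_lit 162432, nat_lit 158592, nat_lit 152864, nat_lit 147472, nat_lit 144080, nat_lit 142964, nat_lit 139130,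 nat_lit 132795, nat_lit 344, nat_lit 5508, nat_lit 9664, nat_lit 12976, nat_lit 16928, nat_lit 21376, nat_lit 25728, nat_lit 29440, nat_lit 33280, nat_lit 37888, nat_lit 41565, nat_lit 38303, nat_lit 33408, nat_lit 29216, nat_lit 24757, nat_lit 20491, nat_lit 16390, nat_lit 12320]⟩⟩⟩, ⟨[nat_lit 149, nat_lit 142, nat_lit 144, nat_lit 149, nat_lit 148], [], (nat_lit 380), ⟨[nat_lit 0, nat_lit 45, nat_lit 94], [nat_lit 0, nat_lit 87, nat_lit 51], ⟨[nat_lit 0x445b27aab72867462c03338e9b0a04], [nat_lit 174080, nat_lit 169984, nat_lit 166144, nat_lit 160896, nat_lit 157440, nat_lit 151872, nat_lit 150544, nat_lit 144080, nat_lit 140272, nat_lit 139106, nat_lit 133420, nat_lit 1794, nat_lit 5624, nat_lit 8208, nat_lit 12384, nat_lit 16448, nat_lit 22144, nat_lit 29440, nat_lit 33792, nat_lit 41333, nat_lit 37168, nat_lit 32953, nat_lit 28933, nat_lit 24622, nat_lit 20575, nat_lit 16399, nat_lit 12309, nat_lit 8193, nat_lit 4105]⟩⟩⟩⟩]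

theorem dcMr215 : Rng dcM 215 221 := Rng.of (l := dcMc215) (by decide +kernel)

def dcMc221 : List Cert := [.defn,
  .stab (nat_lit 442) tw0 ⟨(nat_lit 0), ⟨[nat_lit 68, nat_lit 47, nat_lit 47, nat_lit 70, nat_lit 72, nat_lit 49, nat_lit 67, nat_lit 69, nat_lit 46], [], (nat_lit 442), ⟨[nat_lit 0, nat_lit 83, nat_lit 94], [nat_lit 74, nat_lit 48], ⟨[nat_lit 0x5566e45d906a692b45eb3944418406], [nat_lit 175104, nat_lit 164096, nat_lit 160768, nat_lit 158080, nat_lit 153888, nat_lit 150608, nat_lit 145240, nat_lit 141844, nat_lit 136920, nat_lit 133628, nat_lit 116, nat_lit 4212, nat_lit 9328, nat_lit 13312, nat_lit 17408, nat_lit 21376, nat_lit 25600, nat_lit 29440, nat_lit 41857, nat_lit 38090, nat_lit 33428, nat_lit 28789, nat_lit 24577, nat_lit 20624, nat_lit 16385, nat_lit 12289, nat_lit 8195, nat_lit 4101]⟩⟩⟩, ap0⟩,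
  .stab (nat_lit 442) tw0 ⟨(nat_lit 0), ⟨[nat_lit 66, nat_lit 47, nat_lit 69, nat_lit 73, nat_lit 67, nat_lit 47, nat_lit 68, nat_lit 49, nat_lit 67], [], (nat_lit 442), ⟨[nat_lit 0, nat_lit 8, nat_lit 92], [nat_lit 0, nat_lit 37, nat_lit 69], ⟨[nat_lit 0x7a2655853671952a8a3038e84031b7], [nat_lit 168448, nat_lit 165120, nat_lit 161024, nat_lit 155904, nat_lit 152736, nat_lit 148464, nat_lit 143408, nat_lit 140916, nat_lit 137898, nat_lit 132331, nat_lit 1142, nat_lit 5512, nat_lit 8504, nat_lit 13632, nat_lit 16576, nat_lit 22336, nat_lit 30464, nat_lit 34304, nat_lit 37888, nat_lit 41602, nat_lit 36924, nat_lit 32906, nat_lit 28714, nat_lit 24629, nat_lit 20575, nat_lit 16394, nat_lit 12293, nat_lit 4113]⟩⟩⟩, ap0⟩]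

theorem dcMr221 : Rng dcM 221 224 := Rng.of (l := dcMc221) (by decide +kernel)

def dcMc224 : List Cert := [.stab (nat_lit 442) tw0 ⟨(nat_lit 0), ⟨[nat_lit 71, nat_lit 71, nat_lit 49, nat_lit 70, nat_lit 48, nat_lit 73, nat_lit 71, nat_lit 48, nat_lit 47, nat_lit 46], [], (nat_lit 442), ⟨[nat_lit 0, nat_lit 77, nat_lit 59], [nat_lit 0, nat_lit 17, nat_lit 53], ⟨[nat_lit 0x6cd654287573e82802363dc24930c9], [nat_lit 175104, nat_lit 169984, nat_lit 167168, nat_lit 161152, nat_lit 156224, nat_lit 153056, nat_lit 150880, nat_lit 145216, nat_lit 140788, nat_lit 137782, nat_lit 134746, nat_lit 724, nat_lit 4548, nat_lit 8504, nat_lit 12528, nat_lit 17408, nat_lit 20800, nat_lit 25984, nat_lit 33792, nat_lit 41570, nat_lit 38361, nat_lit 33389, nat_lit 29019, nat_lit 24870, nat_lit 20563, nat_lit 16387, nat_lit 12422, nat_lit 8320, nat_lit 4097]⟩⟩⟩, ap0⟩,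
  .stab (nat_lit 442) tw0 ⟨(nat_lit 0), ⟨[nat_lit 67, nat_lit 69, nat_lit 48, nat_lit 73, nat_lit 46, nat_lit 68, nat_lit 48, nat_lit 71, nat_lit 71], [], (nat_lit 442), ⟨[nat_lit 0, nat_lit 24, nat_lit 53], [nat_lit 0, nat_lit 29, nat_lit 67], ⟨[nat_lit 0x1da0d4192b05df2989d53a8a48b281], [nat_lit 174080, nat_lit 169472, nat_lit 165376, nat_lit 161152, nat_lit 156672, nat_lit 152352, nat_lit 147760, nat_lit 144848, nat_lit 139764, nat_lit 137030, nat_lit 131782, nat_lit 494, nat_lit 4380, nat_lit 8504, nat_lit 12784, nat_lit 17408, nat_lit 21504, nat_lit 25984, nat_lit 29696, nat_lit 34304, nat_lit 41541, nat_lit 37162, nat_lit 33311, nat_lit 25611, nat_lit 20487, nat_lit 12358, nat_lit 8225, nat_lit 4100, nat_lit 32]⟩⟩⟩, ap0⟩,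
  .prod [] [nat_lit 224, nat_lit 223, nat_lit 224, nat_lit 225],
  .prod [] [nat_lit 224, nat_lit 222, nat_lit 223, nat_lit 224]]

theorem dcMr224 : Rng dcM 224 228 := Rng.of (l := dcMc224) (by decide +kernel)

def dcMc228 : List Cert := [.prod [] [nat_lit 226, nat_lit 223, nat_lit 226, nat_lit 226],
  .prod [] [nat_lit 226, nat_lit 227, nat_lit 225, nat_lit 224],
  .prod [] [nat_lit 225, nat_lit 228, nat_lit 225, nat_lit 224],
  .prod [] [nat_lit 229, nat_lit 229, nat_lit 225, nat_lit 227],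
  .prod [] [nat_lit 225, nat_lit 228, nat_lit 231, nat_lit 229],
  .prod [] [nat_lit 222, nat_lit 222, nat_lit 232, nat_lit 227]]

theorem dcMr228 : Rng dcM 228 234 := Rng.of (l := dcMc228) (by decide +kernel)

def dcMc234 : List Cert := [.edge ⟨[nat_lit 15, nat_lit 50], [nat_lit 26, nat_lit 47], ⟨[nat_lit 0x8a966a50e00ef58166462dea8c8e6], [nat_lit 175104, nat_lit 168448, nat_lit 166400, nat_lit 163456, nat_lit 158848, nat_lit 153056, nat_lit 147760, nat_lit 145336, nat_lit 143320, nat_lit 138106, nat_lit 132714, nat_lit 158, nat_lit 4548, nat_lit 10120, nat_lit 12848, nat_lit 17728, nat_lit 22464, nat_lit 26368, nat_lit 30464, nat_lit 33280, nat_lit 37888, nat_lit 41172, nat_lit 37122, nat_lit 33360, nat_lit 29774, nat_lit 24860, nat_lit 20481, nat_lit 16525, nat_lit 12356, nat_lit 8209, nat_lit 4097, nat_lit 2]⟩⟩ ⟨(nat_lit 2), ⟨[nat_lit 79, nat_lit 77, nat_lit 77, nat_lit 76], [], (nat_lit 180), ⟨[nat_lit 0, nat_lit 83], [nat_lit 0,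 nat_lit 16, nat_lit 53], ⟨[nat_lit 0x5bcc4039428cd0d85ce34d9950d0b2], [nat_lit 175104, nat_lit 171520, nat_lit 165888, nat_lit 162560, nat_lit 155296, nat_lit 150992, nat_lit 143400, nat_lit 142000, nat_lit 135814, nat_lit 131372, nat_lit 1762, nat_lit 4224, nat_lit 10128, nat_lit 13984, nat_lit 26112, nat_lit 37888, nat_lit 41055, nat_lit 37333, nat_lit 33369, nat_lit 28714, nat_lit 25125, nat_lit 20500, nat_lit 16417, nat_lit 12420, nat_lit 4104, nat_lit 16]⟩⟩⟩, ⟨[nat_lit 67, nat_lit 71, nat_lit 72, nat_lit 68, nat_lit 67, nat_lit 49], [], (nat_lit 442), ⟨[nat_lit 0, nat_lit 34, nat_lit 90], [nat_lit 42, nat_lit 91], ⟨[nat_lit 0xacc8772845a00321a5a6b410b7c597], [nat_lit 175104, nat_lit 171520, nat_lit 167168, nat_lit 161280, nat_lit 157312, nat_lit 152192, nat_lit 150448, nat_lit 143992, nat_lit 141168, nat_lit 137926, nat_lit 133530, nat_lit 1354, nat_lit 4964, nat_lit 8888, nat_lit 13664, nat_lit 17696, nat_lit 21696, nat_lit 24704,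 nat_lit 28928, nat_lit 33792, nat_lit 41945, nat_lit 38396, nat_lit 33984, nat_lit 29760, nat_lit 25600, nat_lit 21009, nat_lit 16399, nat_lit 12310, nat_lit 8210, nat_lit 4097, nat_lit 2]⟩⟩⟩⟩,
  .edge ⟨[nat_lit 0, nat_lit 36, nat_lit 50], [nat_lit 31, nat_lit 49], ⟨[nat_lit 0x218e55a50a184029ca306bd8ebd2b6], [nat_lit 175104, nat_lit 169472, nat_lit 166912, nat_lit 163072, nat_lit 159360, nat_lit 151648, nat_lit 149280, nat_lit 144088, nat_lit 142048, nat_lit 137742, nat_lit 131923, nat_lit 1918, nat_lit 5208, nat_lit 8632, nat_lit 12624, nat_lit 18272, nat_lit 20608, nat_lit 26112, nat_lit 29440, nat_lit 33792, nat_lit 41214, nat_lit 37030, nat_lit 32998, nat_lit 29006, nat_lit 24885, nat_lit 20486, nat_lit 16394, nat_lit 12311, nat_lit 8194, nat_lit 4097]⟩⟩ ⟨(nat_lit 2), ⟨[nat_lit 140, nat_lit 150], [], (nat_lit 306), ⟨[nat_lit 25, nat_lit 64], [nat_lit 2, nat_lit 47], ⟨[nat_lit 0x552d360c958a420b88ce7a20d914eb], [nat_lit 169472, nat_lit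 165376, nat_lit 161664, nat_lit 156864, nat_lit 152224, nat_lit 147488, nat_lit 146824, nat_lit 139792, nat_lit 136806, nat_lit 131355, nat_lit 1860, nat_lit 5072, nat_lit 8944, nat_lit 16480, nat_lit 22144, nat_lit 24704, nat_lit 33792, nat_lit 37888, nat_lit 41224, nat_lit 36984, nat_lit 32972, nat_lit 28744, nat_lit 24711, nat_lit 20499, nat_lit 16418, nat_lit 8259, nat_lit 4097, nat_lit 2]⟩⟩⟩, ⟨[nat_lit 68, nat_lit 49, nat_lit 46, nat_lit 72, nat_lit 66, nat_lit 47], [], (nat_lit 442), ⟨[nat_lit 32, nat_lit 63], [nat_lit 0, nat_lit 9, nat_lit 54], ⟨[nat_lit 0x20f4706236a66b918acbc2afb2844], [nat_lit 173056, nat_lit 168448, nat_lit 164864, nat_lit 161536, nat_lit 156224, nat_lit 152960, nat_lit 147888, nat_lit 144520, nat_lit 141128, nat_lit 138968, nat_lit 132626, nat_lit 1794, nat_lit 4100, nat_lit 8208, nat_lit 13744, nat_lit 17120, nat_lit 22336, nat_lit 25216, nat_lit 29696, nat_lit 41846, nat_lit 37302, nat_lit 32828, nat_lit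 29217, nat_lit 24622, nat_lit 20568, nat_lit 16424, nat_lit 12289, nat_lit 8195, nat_lit 4]⟩⟩⟩⟩]

theorem dcMr234 : Rng dcM 234 236 := Rng.of (l := dcMc234) (by decide +kernel)

def dcMc236 : List Cert := [.edge ⟨[nat_lit 0, nat_lit 25, nat_lit 55], [nat_lit 0, nat_lit 18, nat_lit 69], ⟨[nat_lit 0xade84925e39b44831cb66402b8b80a], [nat_lit 175104, nat_lit 169472, nat_lit 166144, nat_lit 163584, nat_lit 159168, nat_lit 152096, nat_lit 147504, nat_lit 144048, nat_lit 142056, nat_lit 137856, nat_lit 131792, nat_lit 724, nat_lit 5904, nat_lit 9648, nat_lit 14016, nat_lit 16896, nat_lit 21824, nat_lit 25728, nat_lit 28928, nat_lit 33280, nat_lit 41446, nat_lit 36942, nat_lit 32827, nat_lit 29778, nat_lit 24622, nat_lit 20502, nat_lit 16426, nat_lit 12306, nat_lit 8200, nat_lit 4097]⟩⟩ ⟨(nat_lit 2), ⟨[nat_lit 150, nat_lit 142, nat_lit 141, nat_lit 150, nat_lit 139], [nat_lit 142, nat_lit 147, nat_lit 148, nat_lit 141, nat_lit 139, nat_lit 139],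 (nat_lit 317), ⟨[nat_lit 0, nat_lit 31, nat_lit 70], [nat_lit 0, nat_lit 41, nat_lit 52], ⟨[nat_lit 0x4890668184b29f1b8cf49b97509612], [nat_lit 173056, nat_lit 165376, nat_lit 160128, nat_lit 157312, nat_lit 153184, nat_lit 148016, nat_lit 144096, nat_lit 140324, nat_lit 135912, nat_lit 134827, nat_lit 4160, nat_lit 8696, nat_lit 13264, nat_lit 18080, nat_lit 21120, nat_lit 25600, nat_lit 30208, nat_lit 33280, nat_lit 37888, nat_lit 41405, nat_lit 36999, nat_lit 33820, nat_lit 29034, nat_lit 24762, nat_lit 20560, nat_lit 16451, nat_lit 12416, nat_lit 8706, nat_lit 4104]⟩⟩⟩, ⟨[nat_lit 149, nat_lit 150, nat_lit 143], [], (nat_lit 470), ⟨[nat_lit 25, nat_lit 63], [nat_lit 0, nat_lit 85, nat_lit 67], ⟨[nat_lit 0x1180e2cd9044876a1db50dd3152de4], [nat_lit 171008, nat_lit 160128, nat_lit 158528, nat_lit 152672, nat_lit 149008, nat_lit 146144, nat_lit 143120, nat_lit 138952, nat_lit 134652, nat_lit 606, nat_lit 5296, nat_lit 8736, nat_lit 14192,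 nat_lit 16896, nat_lit 22080, nat_lit 25088, nat_lit 29696, nat_lit 37888, nat_lit 41402, nat_lit 37071, nat_lit 32956, nat_lit 29051, nat_lit 24593, nat_lit 20761, nat_lit 16385, nat_lit 12292, nat_lit 8203, nat_lit 4100]⟩⟩⟩⟩,
  .edge ⟨[nat_lit 5, nat_lit 53], [nat_lit 0, nat_lit 29, nat_lit 55], ⟨[nat_lit 0x626b4545f0411c7982e6b48251ada2], [nat_lit 170496, nat_lit 161280, nat_lit 156224, nat_lit 152000, nat_lit 144456, nat_lit 140108, nat_lit 135528, nat_lit 488, nat_lit 5084, nat_lit 8704, nat_lit 12800, nat_lit 17216, nat_lit 20992, nat_lit 25088, nat_lit 29184, nat_lit 37888, nat_lit 41472, nat_lit 37224, nat_lit 33384, nat_lit 28702, nat_lit 16526, nat_lit 8194, nat_lit 4101, nat_lit 2]⟩⟩ ⟨(nat_lit 2), ⟨[nat_lit 148, nat_lit 148, nat_lit 145, nat_lit 144, nat_lit 143], [], (nat_lit 326), ⟨[nat_lit 0, nat_lit 6, nat_lit 65], [nat_lit 36, nat_lit 93], ⟨[nat_lit 0x11488642e77522694c0b1a6d50a9ed], [nat_lit 173056, nat_lit 164096, nat_lit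 161024, nat_lit 158656, nat_lit 151648, nat_lit 145248, nat_lit 141276, nat_lit 136364, nat_lit 131082, nat_lit 428, nat_lit 4564, nat_lit 9912, nat_lit 14112, nat_lit 16864, nat_lit 21696, nat_lit 25728, nat_lit 28928, nat_lit 33792, nat_lit 37888, nat_lit 41202, nat_lit 37081, nat_lit 32790, nat_lit 29204, nat_lit 24607, nat_lit 21522, nat_lit 16395, nat_lit 12294, nat_lit 8201, nat_lit 4101]⟩⟩⟩, ⟨[nat_lit 143, nat_lit 146, nat_lit 141, nat_lit 150, nat_lit 141], [], (nat_lit 472), ⟨[nat_lit 0, nat_lit 77, nat_lit 94], [nat_lit 31, nat_lit 54], ⟨[nat_lit 0x45ae70cd94940ca70ab158c054bda4], [nat_lit 173056, nat_lit 170496, nat_lit 164352, nat_lit 160896, nat_lit 158336, nat_lit 152384, nat_lit 148736, nat_lit 146520, nat_lit 142004, nat_lit 137370, nat_lit 133694, nat_lit 606, nat_lit 5024, nat_lit 8456, nat_lit 14192, nat_lit 16512, nat_lit 22208, nat_lit 26112, nat_lit 29696, nat_lit 37888, nat_lit 41385, nat_lit 37255, nat_lit 33302,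 nat_lit 28983, nat_lit 24625, nat_lit 20545, nat_lit 16385, nat_lit 12295, nat_lit 8202]⟩⟩⟩⟩]

theorem dcMr236 : Rng dcM 236 238 := Rng.of (l := dcMc236) (by decide +kernel)

def dcMc238 : List Cert := [.edge ⟨[nat_lit 15, nat_lit 46], [nat_lit 0, nat_lit 20, nat_lit 90], ⟨[nat_lit 0xa91e9bd0720226a145cd61acb0c0a7], [nat_lit 173056, nat_lit 168448, nat_lit 165120, nat_lit 160128, nat_lit 156672, nat_lit 155616, nat_lit 147952, nat_lit 144112, nat_lit 140252, nat_lit 135736, nat_lit 132103, nat_lit 1214, nat_lit 4224, nat_lit 9472, nat_lit 13264, nat_lit 17728, nat_lit 20544, nat_lit 29440, nat_lit 33280, nat_lit 37888, nat_lit 41056, nat_lit 37368, nat_lit 33011, nat_lit 28775, nat_lit 24608, nat_lit 20486, nat_lit 16649, nat_lit 12304, nat_lit 8226, nat_lit 4104]⟩⟩ ⟨(nat_lit 2), ⟨[nat_lit 140, nat_lit 139, nat_lit 149, nat_lit 145, nat_lit 147, nat_lit 143], [], (nat_lit 330), ⟨[nat_lit 22, nat_lit 69], [nat_lit 0, nat_lit 12, nat_lit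 51], ⟨[nat_lit 0x6448f1b974b3540ade6781822424b2], [nat_lit 174080, nat_lit 171008, nat_lit 167680, nat_lit 161920, nat_lit 156160, nat_lit 153664, nat_lit 149568, nat_lit 144944, nat_lit 142420, nat_lit 135916, nat_lit 133044, nat_lit 1182, nat_lit 5444, nat_lit 10032, nat_lit 13920, nat_lit 18336, nat_lit 20736, nat_lit 25728, nat_lit 28928, nat_lit 41348, nat_lit 37066, nat_lit 32901, nat_lit 28754, nat_lit 24758, nat_lit 20552, nat_lit 12320, nat_lit 8194, nat_lit 4100, nat_lit 256]⟩⟩⟩, ⟨[nat_lit 147, nat_lit 149, nat_lit 148, nat_lit 150, nat_lit 145, nat_lit 139, nat_lit 140], [], (nat_lit 474), ⟨[nat_lit 3, nat_lit 50], [nat_lit 0, nat_lit 36, nat_lit 62], ⟨[nat_lit 0x409d462ee07aaa3894c494e07b242d], [nat_lit 173056, nat_lit 171008, nat_lit 166912, nat_lit 163328, nat_lit 158400, nat_lit 153184, nat_lit 151456, nat_lit 145720, nat_lit 140916, nat_lit 138204, nat_lit 132547, nat_lit 566, nat_lit 5800, nat_lit 9752, nat_lit 13632,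 nat_lit 18048, nat_lit 21120, nat_lit 25472, nat_lit 29696, nat_lit 33792, nat_lit 37888, nat_lit 41931, nat_lit 37906, nat_lit 33467, nat_lit 29291, nat_lit 24629, nat_lit 20551, nat_lit 16395, nat_lit 12293, nat_lit 4113]⟩⟩⟩⟩,
  .edge ⟨[nat_lit 32, nat_lit 46], [nat_lit 76, nat_lit 56], ⟨[nat_lit 0xa24316d4f728c4f620cbb2a608124e], [nat_lit 174080, nat_lit 170496, nat_lit 164096, nat_lit 163200, nat_lit 158464, nat_lit 154400, nat_lit 149200, nat_lit 145104, nat_lit 139796, nat_lit 138632, nat_lit 134886, nat_lit 342, nat_lit 4436, nat_lit 10144, nat_lit 13136, nat_lit 21568, nat_lit 25472, nat_lit 29440, nat_lit 34304, nat_lit 41648, nat_lit 37260, nat_lit 33447, nat_lit 28764, nat_lit 24578, nat_lit 20766, nat_lit 16390, nat_lit 12417, nat_lit 8193, nat_lit 4113]⟩⟩ ⟨(nat_lit 2), ⟨[nat_lit 142, nat_lit 149, nat_lit 146, nat_lit 143], [], (nat_lit 326), ⟨[nat_lit 19, nat_lit 66], [nat_lit 80, nat_lit 49], ⟨[nat_lit 0x75c938ac501bdaa020c70a6b62d24c],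 [nat_lit 171520, nat_lit 166656, nat_lit 161920, nat_lit 158336, nat_lit 152928, nat_lit 150288, nat_lit 146456, nat_lit 139940, nat_lit 137926, nat_lit 131354, nat_lit 902, nat_lit 5080, nat_lit 8896, nat_lit 12608, nat_lit 18016, nat_lit 22272, nat_lit 34304, nat_lit 41212, nat_lit 37062, nat_lit 32827, nat_lit 28711, nat_lit 24578, nat_lit 20620, nat_lit 16654, nat_lit 12321, nat_lit 8211, nat_lit 16]⟩⟩⟩, ⟨[nat_lit 148, nat_lit 144, nat_lit 147, nat_lit 143, nat_lit 144, nat_lit 140, nat_lit 139], [], (nat_lit 476), ⟨[nat_lit 0, nat_lit 72, nat_lit 70], [nat_lit 0, nat_lit 15, nat_lit 70], ⟨[nat_lit 0x71d485c8152460f1cd3633022b968d], [nat_lit 173056, nat_lit 168960, nat_lit 164864, nat_lit 160896, nat_lit 156544, nat_lit 152544, nat_lit 148272, nat_lit 144616, nat_lit 140524, nat_lit 137034, nat_lit 132017, nat_lit 492, nat_lit 5932, nat_lit 8320, nat_lit 13712, nat_lit 17056, nat_lit 20736, nat_lit 24832, nat_lit 37888, nat_lit 41394,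 nat_lit 37213, nat_lit 32885, nat_lit 28702, nat_lit 24854, nat_lit 20547, nat_lit 16522, nat_lit 12289, nat_lit 8208, nat_lit 4161]⟩⟩⟩⟩]

theorem dcMr238 : Rng dcM 238 240 := Rng.of (l := dcMc238) (by decide +kernel)

def dcMc240 : List Cert := [.edge ⟨[nat_lit 0, nat_lit 28], [nat_lit 0, nat_lit 28, nat_lit 54], ⟨[nat_lit 0xa349185de5654d21a12a3ba7612c01], [nat_lit 175104, nat_lit 168960, nat_lit 164352, nat_lit 160128, nat_lit 158336, nat_lit 154592, nat_lit 151296, nat_lit 143976, nat_lit 141668, nat_lit 136026, nat_lit 134569, nat_lit 1142, nat_lit 5232, nat_lit 10152, nat_lit 13264, nat_lit 18176, nat_lit 20800, nat_lit 25088, nat_lit 30208, nat_lit 34304, nat_lit 37888, nat_lit 41983, nat_lit 38196, nat_lit 34001, nat_lit 28698, nat_lit 25144, nat_lit 20499, nat_lit 16423, nat_lit 12295, nat_lit 8202, nat_lit 4105]⟩⟩ ⟨(nat_lit 2), ⟨[nat_lit 148, nat_lit 148, nat_lit 141, nat_lit 142, nat_lit 144, nat_lit 140], [], (nat_lit 326),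 ⟨[nat_lit 0, nat_lit 12, nat_lit 58], [nat_lit 75, nat_lit 48], ⟨[nat_lit 0x5d9e641dd42b55788c01225959c052], [nat_lit 174080, nat_lit 168448, nat_lit 164864, nat_lit 163072, nat_lit 157312, nat_lit 153568, nat_lit 150544, nat_lit 146728, nat_lit 142384, nat_lit 139138, nat_lit 133601, nat_lit 1182, nat_lit 4408, nat_lit 8760, nat_lit 13536, nat_lit 18048, nat_lit 21504, nat_lit 25600, nat_lit 30208, nat_lit 34304, nat_lit 37888, nat_lit 41159, nat_lit 37229, nat_lit 32859, nat_lit 29720, nat_lit 24766, nat_lit 20544, nat_lit 16523, nat_lit 12423, nat_lit 8209, nat_lit 4224]⟩⟩⟩, ⟨[nat_lit 150, nat_lit 139, nat_lit 139, nat_lit 140, nat_lit 140, nat_lit 139], [], (nat_lit 478), ⟨[nat_lit 87, nat_lit 54], [nat_lit 0, nat_lit 84, nat_lit 91], ⟨[nat_lit 0x121cba02ec0ca2fa9a6923467b2a05], [nat_lit 173056, nat_lit 169472, nat_lit 165120, nat_lit 160000, nat_lit 157056, nat_lit 152864, nat_lit 148016, nat_lit 145256, nat_lit 139284, nat_lit 135796,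 nat_lit 134657, nat_lit 128, nat_lit 6096, nat_lit 9096, nat_lit 12976, nat_lit 18144, nat_lit 21760, nat_lit 24704, nat_lit 29184, nat_lit 33280, nat_lit 41956, nat_lit 37928, nat_lit 33379, nat_lit 29046, nat_lit 24615, nat_lit 20572, nat_lit 16429, nat_lit 8208, nat_lit 4101]⟩⟩⟩⟩,
  .edge ⟨[nat_lit 84, nat_lit 46], [nat_lit 0, nat_lit 85, nat_lit 90], ⟨[nat_lit 0xd1882b9f090c826a8153daf349971], [nat_lit 175104, nat_lit 171520, nat_lit 166400, nat_lit 163072, nat_lit 156160, nat_lit 155264, nat_lit 151424, nat_lit 144672, nat_lit 142588, nat_lit 136832, nat_lit 132270, nat_lit 78, nat_lit 5228, nat_lit 9136, nat_lit 13728, nat_lit 17056, nat_lit 21184, nat_lit 25600, nat_lit 30464, nat_lit 33280, nat_lit 37888, nat_lit 41631, nat_lit 37324, nat_lit 33493, nat_lit 29295, nat_lit 24580, nat_lit 20615, nat_lit 16652, nat_lit 12294, nat_lit 16]⟩⟩ ⟨(nat_lit 2), ⟨[nat_lit 218, nat_lit 171, nat_lit 215, nat_lit 212, nat_lit 170, nat_lit 170],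 [], (nat_lit 394), ⟨[nat_lit 76, nat_lit 64], [nat_lit 85, nat_lit 62], ⟨[nat_lit 0x7de8c75aad321440ca2080c5329d2b], [nat_lit 171520, nat_lit 164608, nat_lit 163456, nat_lit 157056, nat_lit 155392, nat_lit 150240, nat_lit 146664, nat_lit 139336, nat_lit 135242, nat_lit 133768, nat_lit 354, nat_lit 4152, nat_lit 9752, nat_lit 14224, nat_lit 18112, nat_lit 21312, nat_lit 25088, nat_lit 29184, nat_lit 33280, nat_lit 37888, nat_lit 41979, nat_lit 38105, nat_lit 33354, nat_lit 29780, nat_lit 24884, nat_lit 20493, nat_lit 16390, nat_lit 12326, nat_lit 8194, nat_lit 4101]⟩⟩⟩, ⟨[nat_lit 139, nat_lit 149, nat_lit 148, nat_lit 145, nat_lit 142, nat_lit 140], [], (nat_lit 476), ⟨[nat_lit 0, nat_lit 45, nat_lit 54], [nat_lit 0, nat_lit 18, nat_lit 57], ⟨[nat_lit 0x2854380995b20d449272bc5a07acee], [nat_lit 168960, nat_lit 164096, nat_lit 160896, nat_lit 157568, nat_lit 153312, nat_lit 148112, nat_lit 145184, nat_lit 142084, nat_lit 135230, nat_lit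 132319, nat_lit 810, nat_lit 5228, nat_lit 8408, nat_lit 14176, nat_lit 18304, nat_lit 22144, nat_lit 25984, nat_lit 29184, nat_lit 34304, nat_lit 41660, nat_lit 38226, nat_lit 33362, nat_lit 28791, nat_lit 24738, nat_lit 20611, nat_lit 16423, nat_lit 12544, nat_lit 8202, nat_lit 4101, nat_lit 2]⟩⟩⟩⟩]

theorem dcMr240 : Rng dcM 240 242 := Rng.of (l := dcMc240) (by decide +kernel)

def dcMc242 : List Cert := [.edge ⟨[nat_lit 0, nat_lit 85, nat_lit 49], [nat_lit 0, nat_lit 77, nat_lit 90], ⟨[nat_lit 0x2b4c44c6c15c2a21a2f2a4d40638ef], [nat_lit 171520, nat_lit 165120, nat_lit 160128, nat_lit 157312, nat_lit 152736, nat_lit 148736, nat_lit 145120, nat_lit 139900, nat_lit 135656, nat_lit 132490, nat_lit 1014, nat_lit 5716, nat_lit 9648, nat_lit 13664, nat_lit 17824, nat_lit 22400, nat_lit 26112, nat_lit 29696, nat_lit 33792, nat_lit 41721, nat_lit 37339, nat_lit 33499, nat_lit 29230, nat_lit 24614, nat_lit 20496, nat_lit 16419, nat_lit 12290,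 nat_lit 4105, nat_lit 2]⟩⟩ ⟨(nat_lit 2), ⟨[nat_lit 218, nat_lit 216, nat_lit 173, nat_lit 218, nat_lit 172, nat_lit 215, nat_lit 170], [], (nat_lit 386), ⟨[nat_lit 23, nat_lit 62], [nat_lit 0, nat_lit 23, nat_lit 54], ⟨[nat_lit 0x40a4d246d051a8b2b2ae1a66fb80e1], [nat_lit 170496, nat_lit 164096, nat_lit 160768, nat_lit 156032, nat_lit 153216, nat_lit 149296, nat_lit 145072, nat_lit 139972, nat_lit 136222, nat_lit 132432, nat_lit 1180, nat_lit 4608, nat_lit 9880, nat_lit 13024, nat_lit 16608, nat_lit 20864, nat_lit 25088, nat_lit 30464, nat_lit 33792, nat_lit 41822, nat_lit 37987, nat_lit 33521, nat_lit 28723, nat_lit 20610, nat_lit 16425, nat_lit 12289, nat_lit 8193, nat_lit 4097, nat_lit 2]⟩⟩⟩, ⟨[nat_lit 150, nat_lit 146, nat_lit 145, nat_lit 150, nat_lit 148, nat_lit 139], [], (nat_lit 476), ⟨[nat_lit 0, nat_lit 1, nat_lit 93], [nat_lit 29], ⟨[nat_lit 0x85ea7b246c51571939a403e8814c26], [nat_lit 174080, nat_lit 168960, nat_lit 165888,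 nat_lit 163456, nat_lit 159296, nat_lit 152096, nat_lit 147904, nat_lit 143872, nat_lit 141324, nat_lit 137880, nat_lit 132318, nat_lit 1614, nat_lit 5120, nat_lit 9664, nat_lit 13616, nat_lit 17344, nat_lit 20736, nat_lit 24960, nat_lit 33280, nat_lit 41886, nat_lit 36990, nat_lit 33992, nat_lit 29752, nat_lit 24584, nat_lit 20625, nat_lit 16417, nat_lit 12354, nat_lit 8195, nat_lit 4101, nat_lit 4]⟩⟩⟩⟩]

theorem dcMr242 : Rng dcM 242 243 := Rng.of (l := dcMc242) (by decide +kernel)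

def dcMc243 : List Cert := [.edge ⟨[nat_lit 0, nat_lit 41, nat_lit 49], [nat_lit 82, nat_lit 49], ⟨[nat_lit 0x4d5ab84df7220321b0543022ab14ee], [nat_lit 173056, nat_lit 170496, nat_lit 165120, nat_lit 160896, nat_lit 158016, nat_lit 152736, nat_lit 148400, nat_lit 147176, nat_lit 141392, nat_lit 137886, nat_lit 133441, nat_lit 1530, nat_lit 5668, nat_lit 10032, nat_lit 13488, nat_lit 18112, nat_lit 25856, nat_lit 29184, nat_lit 33792, nat_lit 41498, nat_lit 37277, nat_lit 33336, nat_lit 28677, nat_lit 24606, nat_lit 20507, nat_lit 16396, nat_lit 12310, nat_lit 8193, nat_lit 4104]⟩⟩ ⟨(nat_lit 2), ⟨[nat_lit 218, nat_lit 171, nat_lit 216, nat_lit 170, nat_lit 217, nat_lit 173], [], (nat_lit 394), ⟨[nat_lit 22, nat_lit 93], [nat_lit 38, nat_lit 51], ⟨[nat_lit 0x614e37c011425a113a962564b54ee6], [nat_lit 173056, nat_lit 168960, nat_lit 164096, nat_lit 160000, nat_lit 159360, nat_lit 152768, nat_lit 147712, nat_lit 145064, nat_lit 141148, nat_lit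 135998, nat_lit 132561, nat_lit 116, nat_lit 5688, nat_lit 9560, nat_lit 13312, nat_lit 16992, nat_lit 20928, nat_lit 25088, nat_lit 29184, nat_lit 41943, nat_lit 37037, nat_lit 33954, nat_lit 29293, nat_lit 20765, nat_lit 16647, nat_lit 12327, nat_lit 8200, nat_lit 4100, nat_lit 2]⟩⟩⟩, ⟨[nat_lit 149, nat_lit 143, nat_lit 148, nat_lit 149, nat_lit 149, nat_lit 140], [], (nat_lit 476), ⟨[nat_lit 84, nat_lit 53], [nat_lit 0, nat_lit 12, nat_lit 69], ⟨[nat_lit 0x4b4129c6e47404ba04662d90a79d95], [nat_lit 169984, nat_lit 160384, nat_lit 156224, nat_lit 152544, nat_lit 148320, nat_lit 145120, nat_lit 141280, nat_lit 136658, nat_lit 132119, nat_lit 1250, nat_lit 4924, nat_lit 8824, nat_lit 13664, nat_lit 16864, nat_lit 20928, nat_lit 26240, nat_lit 29184, nat_lit 33792, nat_lit 41887, nat_lit 36939, nat_lit 33951, nat_lit 29727, nat_lit 25147, nat_lit 20560, nat_lit 16385, nat_lit 8193]⟩⟩⟩⟩]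

theorem dcMr243 : Rng dcM 243 244 := Rng.of (l := dcMc243) (by decide +kernel)

def dcMc244 : List Cert := [.edge ⟨[nat_lit 42, nat_lit 57], [nat_lit 87, nat_lit 46], ⟨[nat_lit 0x60ced495018d5ca7aed30509790a06], [nat_lit 168960, nat_lit 164096, nat_lit 163456, nat_lit 156800, nat_lit 153056, nat_lit 147840, nat_lit 143368, nat_lit 141000, nat_lit 135186, nat_lit 132481, nat_lit 116, nat_lit 4160, nat_lit 8320, nat_lit 12688, nat_lit 17408, nat_lit 21440, nat_lit 24704, nat_lit 29696, nat_lit 41952, nat_lit 37984, nat_lit 33323, nat_lit 28688, nat_lit 24578, nat_lit 20738, nat_lit 16513, nat_lit 12321, nat_lit 4160, nat_lit 16]⟩⟩ ⟨(nat_lit 2), ⟨[nat_lit 231, nat_lit 232, nat_lit 232, nat_lit 226, nat_lit 226], [nat_lit 232, nat_lit 232, nat_lit 226, nat_lit 226, nat_lit 226], (nat_lit 477), ⟨[nat_lit 0, nat_lit 21, nat_lit 70], [nat_lit 30, nat_lit 64], ⟨[nat_lit 0x932853010768dea9bae41460ba86c9], [nat_lit 168960, nat_lit 160512, nat_lit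 156096, nat_lit 151872, nat_lit 147568, nat_lit 143720, nat_lit 139408, nat_lit 136636, nat_lit 134551, nat_lit 1478, nat_lit 5208, nat_lit 9664, nat_lit 12976, nat_lit 18304, nat_lit 22080, nat_lit 25984, nat_lit 29696, nat_lit 34304, nat_lit 41647, nat_lit 37295, nat_lit 32831, nat_lit 29248, nat_lit 24745, nat_lit 20495, nat_lit 16642, nat_lit 12290, nat_lit 8193, nat_lit 4104]⟩⟩⟩, ⟨[nat_lit 142, nat_lit 144, nat_lit 149, nat_lit 148, nat_lit 143, nat_lit 139], [], (nat_lit 330), ⟨[nat_lit 27, nat_lit 48], [nat_lit 14, nat_lit 59], ⟨[nat_lit 0x9a09ab98d2c902bbed4544e304c8b], [nat_lit 175104, nat_lit 171520, nat_lit 167680, nat_lit 162560, nat_lit 157568, nat_lit 155552, nat_lit 151056, nat_lit 145176, nat_lit 141892, nat_lit 135822, nat_lit 132167, nat_lit 404, nat_lit 5064, nat_lit 10144, nat_lit 13872, nat_lit 16480, nat_lit 20864, nat_lit 26496, nat_lit 34304, nat_lit 41076, nat_lit 37058, nat_lit 32980, nat_lit 29027, nat_lit 24873,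 nat_lit 20567, nat_lit 16449, nat_lit 12309, nat_lit 8195, nat_lit 4101, nat_lit 4]⟩⟩⟩⟩]

theorem dcMr244 : Rng dcM 244 245 := Rng.of (l := dcMc244) (by decide +kernel)

def dcMc245 : List Cert := [.edge ⟨[nat_lit 84, nat_lit 58], [nat_lit 31, nat_lit 93], ⟨[nat_lit 0x932f6351632c5a720115740227a66a], [nat_lit 173056, nat_lit 169472, nat_lit 161024, nat_lit 155968, nat_lit 154944, nat_lit 148896, nat_lit 145240, nat_lit 140348, nat_lit 137206, nat_lit 132416, nat_lit 1842, nat_lit 4280, nat_lit 9560, nat_lit 14144, nat_lit 16928, nat_lit 22272, nat_lit 29184, nat_lit 41824, nat_lit 37186, nat_lit 32977, nat_lit 28794, nat_lit 24616, nat_lit 20499, nat_lit 16396, nat_lit 8194, nat_lit 4101]⟩⟩ ⟨(nat_lit 2), ⟨[nat_lit 230, nat_lit 233, nat_lit 229, nat_lit 230, nat_lit 226], [nat_lit 232, nat_lit 232, nat_lit 226, nat_lit 226, nat_lit 226], (nat_lit 477), ⟨[nat_lit 0, nat_lit 80, nat_lit 59], [nat_lit 8, nat_lit 93], ⟨[nat_lit 0xa893000ccf612536a0eaa38b7b0571],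 [nat_lit 168448, nat_lit 165120, nat_lit 159872, nat_lit 156608, nat_lit 152288, nat_lit 149024, nat_lit 146288, nat_lit 140644, nat_lit 136196, nat_lit 131488, nat_lit 184, nat_lit 5072, nat_lit 10008, nat_lit 12800, nat_lit 16832, nat_lit 21760, nat_lit 25088, nat_lit 29184, nat_lit 33792, nat_lit 37888, nat_lit 41892, nat_lit 36872, nat_lit 33815, nat_lit 28680, nat_lit 24608, nat_lit 20552, nat_lit 16397, nat_lit 12289, nat_lit 8211, nat_lit 8]⟩⟩⟩, ⟨[nat_lit 145, nat_lit 147, nat_lit 141, nat_lit 148, nat_lit 148, nat_lit 139], [], (nat_lit 328), ⟨[nat_lit 0, nat_lit 1, nat_lit 90], [nat_lit 5, nat_lit 67], ⟨[nat_lit 0xb3da98c974a85432b05021d1733a60], [nat_lit 168960, nat_lit 164608, nat_lit 161536, nat_lit 156224, nat_lit 152384, nat_lit 148160, nat_lit 145176, nat_lit 139904, nat_lit 135530, nat_lit 131763, nat_lit 4684, nat_lit 10160, nat_lit 13184, nat_lit 17664, nat_lit 21504, nat_lit 25600, nat_lit 30208, nat_lit 33792, nat_lit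 41427, nat_lit 36902, nat_lit 33939, nat_lit 29779, nat_lit 24864, nat_lit 20554, nat_lit 17414, nat_lit 12322, nat_lit 4097]⟩⟩⟩⟩]

theorem dcMr245 : Rng dcM 245 246 := Rng.of (l := dcMc245) (by decide +kernel)

def dcMc246 : List Cert := [.edge ⟨[nat_lit 0, nat_lit 42, nat_lit 59], [nat_lit 0, nat_lit 77, nat_lit 58], ⟨[nat_lit 0x1020a9310f336c19d57429229b8dc7], [nat_lit 173056, nat_lit 169472, nat_lit 166144, nat_lit 160896, nat_lit 155776, nat_lit 155264, nat_lit 150080, nat_lit 146680, nat_lit 142368, nat_lit 138420, nat_lit 131317, nat_lit 1440, nat_lit 5768, nat_lit 10168, nat_lit 12944, nat_lit 16960, nat_lit 22080, nat_lit 25472, nat_lit 30464, nat_lit 41358, nat_lit 36958, nat_lit 32958, nat_lit 29024, nat_lit 24760, nat_lit 20501, nat_lit 16429, nat_lit 12307, nat_lit 8194]⟩⟩ ⟨(nat_lit 2), ⟨[nat_lit 224, nat_lit 227, nat_lit 232, nat_lit 224, nat_lit 222], [nat_lit 222, nat_lit 224, nat_lit 224, nat_lit 233, nat_lit 224], (nat_lit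 479), ⟨[nat_lit 0, nat_lit 19, nat_lit 67], [nat_lit 77, nat_lit 57], ⟨[nat_lit 0x314f580d0e1313125ed403e6b5482d], [nat_lit 168448, nat_lit 164096, nat_lit 161152, nat_lit 157184, nat_lit 147664, nat_lit 146112, nat_lit 140512, nat_lit 135910, nat_lit 132095, nat_lit 484, nat_lit 4104, nat_lit 9976, nat_lit 17344, nat_lit 20992, nat_lit 24832, nat_lit 28928, nat_lit 33280, nat_lit 41056, nat_lit 37128, nat_lit 33312, nat_lit 28715, nat_lit 24580, nat_lit 20511, nat_lit 16394, nat_lit 12295, nat_lit 8203]⟩⟩⟩, ⟨[nat_lit 149, nat_lit 143, nat_lit 142, nat_lit 145, nat_lit 143], [], (nat_lit 474), ⟨[nat_lit 0, nat_lit 32, nat_lit 67], [nat_lit 15, nat_lit 48], ⟨[nat_lit 0x65906785b2a8a905826a19e242ddc9], [nat_lit 173056, nat_lit 168960, nat_lit 164608, nat_lit 159872, nat_lit 156096, nat_lit 152512, nat_lit 149264, nat_lit 144144, nat_lit 139364, nat_lit 137226, nat_lit 131448, nat_lit 434, nat_lit 6068, nat_lit 9664, nat_lit 14176, nat_lit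 17408, nat_lit 21056, nat_lit 25728, nat_lit 29184, nat_lit 33792, nat_lit 37888, nat_lit 41403, nat_lit 37053, nat_lit 34028, nat_lit 29195, nat_lit 24865, nat_lit 20502, nat_lit 16416, nat_lit 12803, nat_lit 8193, nat_lit 4]⟩⟩⟩⟩]

theorem dcMr246 : Rng dcM 246 247 := Rng.of (l := dcMc246) (by decide +kernel)

def dcMc247 : List Cert := [.edge ⟨[nat_lit 0, nat_lit 39, nat_lit 68], [nat_lit 0, nat_lit 87, nat_lit 60], ⟨[nat_lit 0x735541817661202305f195533396e8], [nat_lit 164608, nat_lit 159872, nat_lit 156672, nat_lit 153344, nat_lit 148016, nat_lit 144096, nat_lit 139720, nat_lit 135842, nat_lit 133144, nat_lit 256, nat_lit 4328, nat_lit 9712, nat_lit 13104, nat_lit 18240, nat_lit 20736, nat_lit 25088, nat_lit 28928, nat_lit 33280, nat_lit 37888, nat_lit 41850, nat_lit 36979, nat_lit 32769, nat_lit 28783, nat_lit 24743, nat_lit 20481, nat_lit 16390, nat_lit 12358, nat_lit 8203, nat_lit 4104]⟩⟩ ⟨(nat_lit 2), ⟨[nat_lit 233, nat_lit 232,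 nat_lit 231], [nat_lit 227, nat_lit 225, nat_lit 228, nat_lit 222], (nat_lit 485), ⟨[nat_lit 74], [nat_lit 71, nat_lit 48], ⟨[nat_lit 0x95e62524b444f76240a83473159d5], [nat_lit 173056, nat_lit 165120, nat_lit 161152, nat_lit 157312, nat_lit 154912, nat_lit 148624, nat_lit 143520, nat_lit 140368, nat_lit 136198, nat_lit 131531, nat_lit 1730, nat_lit 5068, nat_lit 10128, nat_lit 13440, nat_lit 18336, nat_lit 21504, nat_lit 25984, nat_lit 33280, nat_lit 37888, nat_lit 41795, nat_lit 38243, nat_lit 32977, nat_lit 28712, nat_lit 24887, nat_lit 16397, nat_lit 12305, nat_lit 8195, nat_lit 4101]⟩⟩⟩, ⟨[nat_lit 170, nat_lit 172, nat_lit 219, nat_lit 170], [], (nat_lit 369), ⟨[nat_lit 6, nat_lit 56], [nat_lit 14, nat_lit 58], ⟨[nat_lit 0xa29234448d14ad075c2c5cccf280f5], [nat_lit 173056, nat_lit 171520, nat_lit 161152, nat_lit 157376, nat_lit 151712, nat_lit 147872, nat_lit 144104, nat_lit 140556, nat_lit 136212, nat_lit 132821, nat_lit 1250, nat_lit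 5276, nat_lit 8824, nat_lit 14304, nat_lit 16640, nat_lit 21952, nat_lit 24704, nat_lit 29696, nat_lit 33792, nat_lit 37888, nat_lit 41813, nat_lit 37136, nat_lit 33522, nat_lit 29026, nat_lit 24881, nat_lit 20488, nat_lit 16459, nat_lit 12304, nat_lit 8195, nat_lit 4100]⟩⟩⟩⟩,
  .edge tw0 ⟨(nat_lit 1), ⟨[], [nat_lit 224, nat_lit 227, nat_lit 226, nat_lit 222], (nat_lit 475), ⟨[nat_lit 0, nat_lit 1, nat_lit 55], [nat_lit 75, nat_lit 48], ⟨[nat_lit 0x2b06a70088b9a67154304aed16d24f], [nat_lit 173056, nat_lit 169472, nat_lit 165632, nat_lit 161664, nat_lit 156992, nat_lit 153248, nat_lit 148832, nat_lit 144184, nat_lit 139268, nat_lit 135440, nat_lit 134009, nat_lit 1896, nat_lit 4216, nat_lit 9888, nat_lit 14144, nat_lit 18368, nat_lit 24832, nat_lit 29696, nat_lit 41867, nat_lit 37113, nat_lit 32873, nat_lit 29249, nat_lit 24832, nat_lit 20490, nat_lit 16513, nat_lit 12292, nat_lit 8201, nat_lit 4129]⟩⟩⟩, ⟨[nat_lit 144, nat_lit 139, nat_lit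 147, nat_lit 144, nat_lit 141, nat_lit 141], [], (nat_lit 474), ⟨[nat_lit 0, nat_lit 26, nat_lit 91], [nat_lit 79], ⟨[nat_lit 0xb2665bdd7680f1254a848ac384a8a], [nat_lit 174080, nat_lit 171008, nat_lit 167168, nat_lit 160768, nat_lit 159296, nat_lit 153856, nat_lit 148512, nat_lit 146680, nat_lit 139560, nat_lit 132609, nat_lit 122, nat_lit 5164, nat_lit 9960, nat_lit 14112, nat_lit 16704, nat_lit 21504, nat_lit 25600, nat_lit 29952, nat_lit 33792, nat_lit 41092, nat_lit 37236, nat_lit 32840, nat_lit 29771, nat_lit 24619, nat_lit 20547, nat_lit 16900, nat_lit 8323, nat_lit 4161]⟩⟩⟩⟩]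

theorem dcMr247 : Rng dcM 247 249 := Rng.of (l := dcMc247) (by decide +kernel)

def dcMc249 : List Cert := [.edge ⟨[nat_lit 75, nat_lit 90], [nat_lit 0, nat_lit 5, nat_lit 68], ⟨[nat_lit 0x4388d82665b28d5049f458c47b862c], [nat_lit 175104, nat_lit 169472, nat_lit 166400, nat_lit 162432, nat_lit 159168, nat_lit 152928, nat_lit 149456, nat_lit 143472, nat_lit 141776, nat_lit 138530, nat_lit 133057, nat_lit 1354, nat_lit 6084, nat_lit 9664, nat_lit 13552, nat_lit 17920, nat_lit 20800, nat_lit 25856, nat_lit 29184, nat_lit 37888, nat_lit 41914, nat_lit 37319, nat_lit 33445, nat_lit 28742, nat_lit 24708, nat_lit 20481, nat_lit 16391, nat_lit 12289, nat_lit 8]⟩⟩ ⟨(nat_lit 2), ⟨[nat_lit 228, nat_lit 225, nat_lit 232, nat_lit 228], [nat_lit 222, nat_lit 224, nat_lit 224, nat_lit 233, nat_lit 224], (nat_lit 479), ⟨[nat_lit 0, nat_lit 75, nat_lit 48], [nat_lit 0, nat_lit 87, nat_lit 93], ⟨[nat_lit 0xb4e2a25ca873d750053461c5069872], [nat_lit 175104,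 nat_lit 169472, nat_lit 160896, nat_lit 158336, nat_lit 154432, nat_lit 150208, nat_lit 143904, nat_lit 142412, nat_lit 135554, nat_lit 135041, nat_lit 1140, nat_lit 4972, nat_lit 9216, nat_lit 13712, nat_lit 17856, nat_lit 20544, nat_lit 24832, nat_lit 29696, nat_lit 37888, nat_lit 41862, nat_lit 38151, nat_lit 32865, nat_lit 29188, nat_lit 24864, nat_lit 20763, nat_lit 16427, nat_lit 8320, nat_lit 4129]⟩⟩⟩, ⟨[nat_lit 141, nat_lit 150, nat_lit 150, nat_lit 145, nat_lit 147], [], (nat_lit 326), ⟨[nat_lit 29, nat_lit 48], [nat_lit 0, nat_lit 40, nat_lit 52], ⟨[nat_lit 0x588613c6ec5010983a866d8b2acde4], [nat_lit 173056, nat_lit 171520, nat_lit 165632, nat_lit 160512, nat_lit 157056, nat_lit 153536, nat_lit 147920, nat_lit 144488, nat_lit 140148, nat_lit 136056, nat_lit 132616, nat_lit 606, nat_lit 5992, nat_lit 9384, nat_lit 14192, nat_lit 21248, nat_lit 25728, nat_lit 29184, nat_lit 33280, nat_lit 37888, nat_lit 41511, nat_lit 37315, nat_lit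 33475, nat_lit 25101, nat_lit 21533, nat_lit 16426, nat_lit 12327, nat_lit 8200, nat_lit 4128, nat_lit 4]⟩⟩⟩⟩]

theorem dcMr249 : Rng dcM 249 250 := Rng.of (l := dcMc249) (by decide +kernel)

def dcMc250 : List Cert := [.edge ⟨[nat_lit 0, nat_lit 8, nat_lit 70], [nat_lit 16, nat_lit 57], ⟨[nat_lit 0x410097d66aa5ca15da2e3358291c70], [nat_lit 175104, nat_lit 171520, nat_lit 164864, nat_lit 161920, nat_lit 157760, nat_lit 155392, nat_lit 148896, nat_lit 144160, nat_lit 141256, nat_lit 137452, nat_lit 134145, nat_lit 1698, nat_lit 5580, nat_lit 8824, nat_lit 12912, nat_lit 16992, nat_lit 21696, nat_lit 25856, nat_lit 29440, nat_lit 33280, nat_lit 37888, nat_lit 41154, nat_lit 37236, nat_lit 33513, nat_lit 28755, nat_lit 24707, nat_lit 21007, nat_lit 16422, nat_lit 12308, nat_lit 4128]⟩⟩ ⟨(nat_lit 2), ⟨[nat_lit 228, nat_lit 224, nat_lit 223, nat_lit 232, nat_lit 222], [], (nat_lit 488), ⟨[nat_lit 0, nat_lit 86, nat_lit 53], [nat_lit 0, nat_lit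 3, nat_lit 49], ⟨[nat_lit 0xb52e7254c57a8716203370132589b0], [nat_lit 174080, nat_lit 171520, nat_lit 164096, nat_lit 163200, nat_lit 159680, nat_lit 154752, nat_lit 148048, nat_lit 143888, nat_lit 141236, nat_lit 137340, nat_lit 134254, nat_lit 1698, nat_lit 5900, nat_lit 8256, nat_lit 14048, nat_lit 17536, nat_lit 21504, nat_lit 24704, nat_lit 33792, nat_lit 37888, nat_lit 41934, nat_lit 38159, nat_lit 33986, nat_lit 28779, nat_lit 24577, nat_lit 20631, nat_lit 16429, nat_lit 12323, nat_lit 8193]⟩⟩⟩, ⟨[nat_lit 145, nat_lit 149, nat_lit 139, nat_lit 143, nat_lit 144, nat_lit 144], [], (nat_lit 476), ⟨[nat_lit 75, nat_lit 61], [nat_lit 4, nat_lit 90], ⟨[nat_lit 0x7ba2821e0a2d86dab0c0a4d3708a4b], [nat_lit 174080, nat_lit 168960, nat_lit 165120, nat_lit 163456, nat_lit 156992, nat_lit 151040, nat_lit 145944, nat_lit 142940, nat_lit 137510, nat_lit 133843, nat_lit 1860, nat_lit 5080, nat_lit 13264, nat_lit 17184, nat_lit 21056, nat_lit 25728,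 nat_lit 29184, nat_lit 37888, nat_lit 41392, nat_lit 37059, nat_lit 32966, nat_lit 28939, nat_lit 24753, nat_lit 20575, nat_lit 16386, nat_lit 12289, nat_lit 8195, nat_lit 4097]⟩⟩⟩⟩]

theorem dcMr250 : Rng dcM 250 251 := Rng.of (l := dcMc250) (by decide +kernel)

def dcMc251 : List Cert := [.edge ⟨[nat_lit 18, nat_lit 67], [nat_lit 24, nat_lit 48], ⟨[nat_lit 0x58eb3b241271e9723c418322643545], [nat_lit 175104, nat_lit 169472, nat_lit 167168, nat_lit 162688, nat_lit 159104, nat_lit 152512, nat_lit 148752, nat_lit 144408, nat_lit 142176, nat_lit 137536, nat_lit 131380, nat_lit 1938, nat_lit 5444, nat_lit 9952, nat_lit 12848, nat_lit 16416, nat_lit 21120, nat_lit 26112, nat_lit 29184, nat_lit 33280, nat_lit 37888, nat_lit 41672, nat_lit 37013, nat_lit 32932, nat_lit 28674, nat_lit 25610, nat_lit 20747, nat_lit 16903, nat_lit 12325, nat_lit 8226, nat_lit 4097, nat_lit 2]⟩⟩ ⟨(nat_lit 2), ⟨[nat_lit 227, nat_lit 228, nat_lit 227, nat_lit 224,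 nat_lit 222], [nat_lit 232, nat_lit 224, nat_lit 229, nat_lit 227, nat_lit 222], (nat_lit 501), ⟨[nat_lit 72, nat_lit 48], [nat_lit 74, nat_lit 61], ⟨[nat_lit 0x81dd528d0613d8b0267150696692f2], [nat_lit 173056, nat_lit 165120, nat_lit 160256, nat_lit 156224, nat_lit 152256, nat_lit 148720, nat_lit 146576, nat_lit 140364, nat_lit 136450, nat_lit 131857, nat_lit 1140, nat_lit 4756, nat_lit 9944, nat_lit 13696, nat_lit 17792, nat_lit 25984, nat_lit 29952, nat_lit 33280, nat_lit 41158, nat_lit 37256, nat_lit 33280, nat_lit 28712, nat_lit 25614, nat_lit 20611, nat_lit 16397, nat_lit 12308, nat_lit 8209, nat_lit 4128, nat_lit 2]⟩⟩⟩, ⟨[nat_lit 222, nat_lit 231, nat_lit 225, nat_lit 228], [], (nat_lit 500), ⟨[nat_lit 0, nat_lit 37, nat_lit 94], [nat_lit 17, nat_lit 61], ⟨[nat_lit 0x350f37152123162aa22ab0c10936ef], [nat_lit 168448, nat_lit 165120, nat_lit 161920, nat_lit 156352, nat_lit 152928, nat_lit 147968, nat_lit 144440, nat_lit 141116, nat_lit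 135864, nat_lit 131420, nat_lit 796, nat_lit 5688, nat_lit 8680, nat_lit 14176, nat_lit 16640, nat_lit 21440, nat_lit 24704, nat_lit 33792, nat_lit 37888, nat_lit 41000, nat_lit 37270, nat_lit 33513, nat_lit 28725, nat_lit 24602, nat_lit 20638, nat_lit 16458, nat_lit 12323, nat_lit 8320, nat_lit 4128, nat_lit 2]⟩⟩⟩⟩]

theorem dcMr251 : Rng dcM 251 252 := Rng.of (l := dcMc251) (by decide +kernel)

def dcMc252 : List Cert := [.edge ⟨[nat_lit 0, nat_lit 31, nat_lit 61], [nat_lit 0, nat_lit 34, nat_lit 60], ⟨[nat_lit 0x74a7140c95351604d845ba8277b20d], [nat_lit 168960, nat_lit 165632, nat_lit 161024, nat_lit 157120, nat_lit 152768, nat_lit 148896, nat_lit 146408, nat_lit 140160, nat_lit 135196, nat_lit 132173, nat_lit 484, nat_lit 4476, nat_lit 9280, nat_lit 14112, nat_lit 16640, nat_lit 21760, nat_lit 25088, nat_lit 29440, nat_lit 41091, nat_lit 37176, nat_lit 32936, nat_lit 28958, nat_lit 24627, nat_lit 20488, nat_lit 16460, nat_lit 12311,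 nat_lit 8209, nat_lit 4100]⟩⟩ ⟨(nat_lit 2), ⟨[nat_lit 225, nat_lit 225, nat_lit 228, nat_lit 227], [nat_lit 222, nat_lit 224, nat_lit 224, nat_lit 233, nat_lit 224], (nat_lit 479), ⟨[nat_lit 0, nat_lit 71, nat_lit 47], [nat_lit 0, nat_lit 82, nat_lit 47], ⟨[nat_lit 0x5ddc81028cb4db232a23abca449e01], [nat_lit 169472, nat_lit 165632, nat_lit 161536, nat_lit 157504, nat_lit 152768, nat_lit 147600, nat_lit 144720, nat_lit 139384, nat_lit 135762, nat_lit 134688, nat_lit 2, nat_lit 4160, nat_lit 9432, nat_lit 12560, nat_lit 16448, nat_lit 21632, nat_lit 24832, nat_lit 28928, nat_lit 37888, nat_lit 41723, nat_lit 37912, nat_lit 32795, nat_lit 28739, nat_lit 24613, nat_lit 20550, nat_lit 16387, nat_lit 12293, nat_lit 8194, nat_lit 4097]⟩⟩⟩, ⟨[nat_lit 150, nat_lit 149, nat_lit 146, nat_lit 142, nat_lit 141, nat_lit 144], [], (nat_lit 332), ⟨[nat_lit 0, nat_lit 5, nat_lit 50], [nat_lit 86, nat_lit 60], ⟨[nat_lit 0x11595bcd76921cd0aa0378284498f1],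 [nat_lit 171520, nat_lit 164352, nat_lit 161152, nat_lit 158272, nat_lit 152544, nat_lit 147712, nat_lit 146704, nat_lit 141964, nat_lit 137346, nat_lit 135034, nat_lit 78, nat_lit 4372, nat_lit 8872, nat_lit 13520, nat_lit 16896, nat_lit 22464, nat_lit 25472, nat_lit 29440, nat_lit 34304, nat_lit 37888, nat_lit 41098, nat_lit 37031, nat_lit 32857, nat_lit 29254, nat_lit 24707, nat_lit 20550, nat_lit 16385, nat_lit 12546, nat_lit 8225, nat_lit 4105]⟩⟩⟩⟩]

theorem dcMr252 : Rng dcM 252 253 := Rng.of (l := dcMc252) (by decide +kernel)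

def dcMc253 : List Cert := [.edge ⟨[nat_lit 0, nat_lit 43, nat_lit 52], [nat_lit 7, nat_lit 53], ⟨[nat_lit 0x5456478537a5a06935c5180f3432a2], [nat_lit 173056, nat_lit 168960, nat_lit 164352, nat_lit 161664, nat_lit 156160, nat_lit 152096, nat_lit 148528, nat_lit 144464, nat_lit 139528, nat_lit 137256, nat_lit 132608, nat_lit 1766, nat_lit 4100, nat_lit 8504, nat_lit 12336, nat_lit 17792, nat_lit 21312, nat_lit 25600, nat_lit 30208, nat_lit 34304, nat_lit 37888, nat_lit 41645, nat_lit 37068, nat_lit 32910, nat_lit 29001, nat_lit 24726, nat_lit 21523, nat_lit 16391, nat_lit 12294, nat_lit 4097, nat_lit 2]⟩⟩ ⟨(nat_lit 2), ⟨[nat_lit 226, nat_lit 233, nat_lit 228, nat_lit 226], [], (nat_lit 498), ⟨[nat_lit 0, nat_lit 19, nat_lit 63], [nat_lit 18, nat_lit 66], ⟨[nat_lit 0x58a65ab2d780d276b9f44024454426], [nat_lit 169472, nat_lit 167168, nat_lit 159872, nat_lit 155968, nat_lit 155200, nat_lit 150896, nat_lit 146496, nat_lit 142672, nat_lit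 138342, nat_lit 132785, nat_lit 786, nat_lit 4608, nat_lit 8504, nat_lit 12368, nat_lit 16896, nat_lit 20608, nat_lit 25856, nat_lit 33280, nat_lit 37888, nat_lit 41749, nat_lit 36989, nat_lit 33971, nat_lit 28960, nat_lit 25140, nat_lit 20736, nat_lit 16390, nat_lit 12358, nat_lit 8194, nat_lit 4100, nat_lit 8]⟩⟩⟩, ⟨[nat_lit 141, nat_lit 146, nat_lit 149, nat_lit 150, nat_lit 145, nat_lit 139], [], (nat_lit 476), ⟨[nat_lit 0, nat_lit 23, nat_lit 54], [nat_lit 3, nat_lit 64], ⟨[nat_lit 0x35c90a0a4059c6f446a90b9456b2d3], [nat_lit 173056, nat_lit 164864, nat_lit 160384, nat_lit 156544, nat_lit 151584, nat_lit 148784, nat_lit 144104, nat_lit 143228, nat_lit 136216, nat_lit 131232, nat_lit 586, nat_lit 4340, nat_lit 8648, nat_lit 12944, nat_lit 17344, nat_lit 20672, nat_lit 24704, nat_lit 30464, nat_lit 37888, nat_lit 41904, nat_lit 37276, nat_lit 32942, nat_lit 28757, nat_lit 24619, nat_lit 20567, nat_lit 16396, nat_lit 12295, nat_lit 8194,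 nat_lit 4097]⟩⟩⟩⟩,
  .edge ⟨[nat_lit 7, nat_lit 58], [nat_lit 0, nat_lit 15, nat_lit 57], ⟨[nat_lit 0xb3d400a1d76122dac8d4288735a4f0], [nat_lit 168960, nat_lit 166656, nat_lit 160896, nat_lit 155968, nat_lit 147888, nat_lit 145288, nat_lit 139500, nat_lit 136482, nat_lit 132272, nat_lit 1246, nat_lit 5508, nat_lit 9752, nat_lit 12560, nat_lit 18304, nat_lit 21696, nat_lit 24832, nat_lit 30464, nat_lit 33280, nat_lit 41484, nat_lit 38128, nat_lit 32992, nat_lit 28696, nat_lit 24631, nat_lit 20572, nat_lit 16385, nat_lit 12325, nat_lit 8200, nat_lit 4101, nat_lit 2]⟩⟩ ⟨(nat_lit 2), ⟨[nat_lit 225, nat_lit 224, nat_lit 232, nat_lit 223], [], (nat_lit 502), ⟨[nat_lit 27, nat_lit 56], [nat_lit 0, nat_lit 38, nat_lit 58], ⟨[nat_lit 0x83896388c904e4a45c74a962c5bc2d], [nat_lit 173056, nat_lit 168448, nat_lit 165376, nat_lit 161664, nat_lit 157248, nat_lit 151904, nat_lit 148800, nat_lit 144304, nat_lit 143184, nat_lit 137164, nat_lit 133090, nat_lit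 488, nat_lit 4100, nat_lit 10088, nat_lit 13264, nat_lit 17984, nat_lit 22464, nat_lit 24704, nat_lit 29184, nat_lit 33280, nat_lit 41404, nat_lit 37180, nat_lit 33376, nat_lit 29696, nat_lit 24638, nat_lit 20493, nat_lit 16390, nat_lit 12290]⟩⟩⟩, ⟨[nat_lit 224, nat_lit 227, nat_lit 231, nat_lit 223, nat_lit 223], [nat_lit 229, nat_lit 231, nat_lit 223, nat_lit 224, nat_lit 222], (nat_lit 503), ⟨[nat_lit 15, nat_lit 94], [nat_lit 75, nat_lit 54], ⟨[nat_lit 0x25a0e324e204e4aa0ee8a962c7ada1], [nat_lit 175104, nat_lit 169472, nat_lit 167424, nat_lit 162816, nat_lit 157824, nat_lit 153152, nat_lit 148736, nat_lit 144072, nat_lit 143036, nat_lit 137498, nat_lit 131701, nat_lit 494, nat_lit 5992, nat_lit 9752, nat_lit 13264, nat_lit 17984, nat_lit 20928, nat_lit 26240, nat_lit 29184, nat_lit 33792, nat_lit 41398, nat_lit 37191, nat_lit 33393, nat_lit 29696, nat_lit 24634, nat_lit 20560, nat_lit 16450, nat_lit 12294, nat_lit 4105, nat_lit 2]⟩⟩⟩⟩]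

theorem dcMr253 : Rng dcM 253 255 := Rng.of (l := dcMc253) (by decide +kernel)

def dcMc255 : List Cert := [.edge tw0 ⟨(nat_lit 1), ⟨[], [], (nat_lit 504), ⟨[nat_lit 0, nat_lit 28, nat_lit 48], [nat_lit 0, nat_lit 40, nat_lit 60], ⟨[nat_lit 0x5de346b153b38a18240341247a99e2], [nat_lit 173056, nat_lit 165888, nat_lit 161024, nat_lit 156992, nat_lit 154080, nat_lit 151440, nat_lit 145720, nat_lit 141792, nat_lit 139216, nat_lit 132501, nat_lit 1766, nat_lit 5716, nat_lit 9216, nat_lit 13152, nat_lit 17664, nat_lit 21504, nat_lit 25472, nat_lit 29696, nat_lit 34304, nat_lit 41754, nat_lit 37989, nat_lit 33437, nat_lit 29032, nat_lit 24579, nat_lit 20490, nat_lit 16387, nat_lit 12295, nat_lit 8201, nat_lit 8]⟩⟩⟩, ⟨[nat_lit 150, nat_lit 141, nat_lit 144, nat_lit 142], [], (nat_lit 480), ⟨[nat_lit 0, nat_lit 83, nat_lit 62], [nat_lit 76, nat_lit 50], ⟨[nat_lit 0x838cb61112a0c229b547adc16895e9], [nat_lit 173056, nat_lit 165120, nat_lit 160384,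 nat_lit 156544, nat_lit 152576, nat_lit 150144, nat_lit 144160, nat_lit 140212, nat_lit 135322, nat_lit 132678, nat_lit 1918, nat_lit 4780, nat_lit 8688, nat_lit 13664, nat_lit 16896, nat_lit 21312, nat_lit 26496, nat_lit 41927, nat_lit 37136, nat_lit 33441, nat_lit 29042, nat_lit 24723, nat_lit 20743, nat_lit 16395, nat_lit 12307, nat_lit 8226, nat_lit 4113, nat_lit 16]⟩⟩⟩⟩,
  .edge ⟨[nat_lit 28, nat_lit 60], [nat_lit 38, nat_lit 69], ⟨[nat_lit 0xa46cd2aaa2185903cdc47c92b022e6], [nat_lit 175104, nat_lit 169984, nat_lit 167168, nat_lit 161536, nat_lit 157248, nat_lit 152544, nat_lit 151344, nat_lit 143624, nat_lit 139324, nat_lit 137362, nat_lit 133633, nat_lit 786, nat_lit 4964, nat_lit 8560, nat_lit 12480, nat_lit 16448, nat_lit 24832, nat_lit 29184, nat_lit 33792, nat_lit 37888, nat_lit 40961, nat_lit 37296, nat_lit 32849, nat_lit 28707, nat_lit 24868, nat_lit 20559, nat_lit 16421, nat_lit 12305, nat_lit 8203]⟩⟩ ⟨(nat_lit 2), ⟨[nat_lit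 226, nat_lit 233, nat_lit 228, nat_lit 222, nat_lit 224], [nat_lit 232, nat_lit 232, nat_lit 226, nat_lit 226, nat_lit 226], (nat_lit 477), ⟨[nat_lit 6, nat_lit 50], [nat_lit 39, nat_lit 52], ⟨[nat_lit 0x524d71d8808ca8512d9079dd50b513], [nat_lit 173056, nat_lit 170496, nat_lit 164608, nat_lit 163072, nat_lit 156928, nat_lit 155424, nat_lit 151392, nat_lit 146256, nat_lit 140460, nat_lit 136472, nat_lit 134465, nat_lit 846, nat_lit 4340, nat_lit 9040, nat_lit 13648, nat_lit 17312, nat_lit 22272, nat_lit 24704, nat_lit 29440, nat_lit 33280, nat_lit 37888, nat_lit 41970, nat_lit 37043, nat_lit 33841, nat_lit 28964, nat_lit 24616, nat_lit 20548, nat_lit 16909, nat_lit 12307, nat_lit 4097, nat_lit 2]⟩⟩⟩, ⟨[nat_lit 145, nat_lit 145, nat_lit 150, nat_lit 145, nat_lit 150, nat_lit 140], [], (nat_lit 474), ⟨[nat_lit 81, nat_lit 91], [nat_lit 28, nat_lit 94], ⟨[nat_lit 0x14603392b46bd6ab1ae5439890ce40], [nat_lit 173056, nat_lit 168448, nat_lit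 165376, nat_lit 160000, nat_lit 156416, nat_lit 153504, nat_lit 150896, nat_lit 144512, nat_lit 140368, nat_lit 136148, nat_lit 132406, nat_lit 16, nat_lit 4700, nat_lit 8792, nat_lit 14224, nat_lit 22400, nat_lit 25344, nat_lit 30464, nat_lit 34304, nat_lit 41964, nat_lit 36967, nat_lit 32912, nat_lit 28786, nat_lit 24706, nat_lit 20568, nat_lit 16394, nat_lit 12308, nat_lit 8201, nat_lit 4101]⟩⟩⟩⟩]

theorem dcMr255 : Rng dcM 255 257 := Rng.of (l := dcMc255) (by decide +kernel)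

def dcMc257 : List Cert := [.edge ⟨[nat_lit 0, nat_lit 10, nat_lit 94], [nat_lit 83, nat_lit 48], ⟨[nat_lit 0x9b1a33adf6a21c688885bd43280149], [nat_lit 169984, nat_lit 165888, nat_lit 163072, nat_lit 158848, nat_lit 153504, nat_lit 149872, nat_lit 145872, nat_lit 139268, nat_lit 139098, nat_lit 131993, nat_lit 724, nat_lit 5904, nat_lit 9752, nat_lit 13440, nat_lit 18016, nat_lit 21952, nat_lit 29696, nat_lit 34304, nat_lit 37888, nat_lit 41365, nat_lit 36962, nat_lit 33887, nat_lit 28792, nat_lit 24607, nat_lit 20634, nat_lit 16453, nat_lit 12290, nat_lit 8195, nat_lit 4100, nat_lit 2]⟩⟩ ⟨(nat_lit 2), ⟨[nat_lit 232, nat_lit 231, nat_lit 226, nat_lit 228], [], (nat_lit 504), ⟨[nat_lit 0, nat_lit 71, nat_lit 57], [nat_lit 2, nat_lit 47], ⟨[nat_lit 0xa5993ba0e193402895e650c955a5d0], [nat_lit 168960, nat_lit 166656, nat_lit 160000, nat_lit 155776, nat_lit 152992, nat_lit 148016, nat_lit 144128, nat_lit 140976, nat_lit 136276, nat_lit 131773,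 nat_lit 1698, nat_lit 4720, nat_lit 9904, nat_lit 12448, nat_lit 17056, nat_lit 21184, nat_lit 24960, nat_lit 33792, nat_lit 37888, nat_lit 41704, nat_lit 36973, nat_lit 28784, nat_lit 24594, nat_lit 20621, nat_lit 16428, nat_lit 12290, nat_lit 8194, nat_lit 4100, nat_lit 16]⟩⟩⟩, ⟨[nat_lit 145, nat_lit 149, nat_lit 141, nat_lit 150, nat_lit 146], [nat_lit 141, nat_lit 140, nat_lit 149, nat_lit 144, nat_lit 148], (nat_lit 331), ⟨[nat_lit 0, nat_lit 44, nat_lit 52], [nat_lit 0, nat_lit 80, nat_lit 66], ⟨[nat_lit 0xbc6b00098d3ad45b527270de132504], [nat_lit 173056, nat_lit 165120, nat_lit 160128, nat_lit 155968, nat_lit 151936, nat_lit 147728, nat_lit 143496, nat_lit 141984, nat_lit 136640, nat_lit 131078, nat_lit 508, nat_lit 5316, nat_lit 8448, nat_lit 13152, nat_lit 17856, nat_lit 21248, nat_lit 25728, nat_lit 29440, nat_lit 41708, nat_lit 38194, nat_lit 32772, nat_lit 29266, nat_lit 24597, nat_lit 21512, nat_lit 16455, nat_lit 12416,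 nat_lit 8194, nat_lit 4100, nat_lit 64]⟩⟩⟩⟩]

theorem dcMr257 : Rng dcM 257 258 := Rng.of (l := dcMc257) (by decide +kernel)

def dcMc258 : List Cert := [.edge ⟨[nat_lit 0, nat_lit 84, nat_lit 62], [nat_lit 0, nat_lit 87, nat_lit 60], ⟨[nat_lit 0xab10ab15e78ac44bc1d3a34014c866], [nat_lit 173056, nat_lit 168448, nat_lit 165632, nat_lit 163072, nat_lit 156608, nat_lit 152896, nat_lit 148976, nat_lit 145008, nat_lit 140400, nat_lit 136418, nat_lit 131604, nat_lit 786, nat_lit 5580, nat_lit 9672, nat_lit 12416, nat_lit 17152, nat_lit 21440, nat_lit 25216, nat_lit 34304, nat_lit 37888, nat_lit 41971, nat_lit 38235, nat_lit 32789, nat_lit 28695, nat_lit 24581, nat_lit 21001, nat_lit 16513, nat_lit 12290, nat_lit 8210, nat_lit 4104, nat_lit 32]⟩⟩ ⟨(nat_lit 2), ⟨[nat_lit 233, nat_lit 231, nat_lit 230, nat_lit 224, nat_lit 222], [], (nat_lit 512), ⟨[nat_lit 0, nat_lit 76, nat_lit 94], [nat_lit 0, nat_lit 88, nat_lit 65], ⟨[nat_lit 0xb9696530109b523218f593c480add1],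 [nat_lit 168448, nat_lit 167424, nat_lit 156480, nat_lit 153632, nat_lit 149712, nat_lit 146816, nat_lit 142404, nat_lit 138564, nat_lit 132492, nat_lit 184, nat_lit 5768, nat_lit 8928, nat_lit 13264, nat_lit 17472, nat_lit 20672, nat_lit 24832, nat_lit 30208, nat_lit 33280, nat_lit 37888, nat_lit 41774, nat_lit 38289, nat_lit 32901, nat_lit 28983, nat_lit 24598, nat_lit 20613, nat_lit 16390, nat_lit 12292, nat_lit 32]⟩⟩⟩, ⟨[nat_lit 227, nat_lit 224, nat_lit 229, nat_lit 229], [nat_lit 232, nat_lit 224, nat_lit 229, nat_lit 227, nat_lit 222], (nat_lit 501), ⟨[nat_lit 0, nat_lit 12, nat_lit 46], [nat_lit 0, nat_lit 78, nat_lit 67], ⟨[nat_lit 0x6064d359e8509311deb33d1cb81404], [nat_lit 173056, nat_lit 171520, nat_lit 164608, nat_lit 161792, nat_lit 156224, nat_lit 154848, nat_lit 151216, nat_lit 147040, nat_lit 140840, nat_lit 136400, nat_lit 134972, nat_lit 680, nat_lit 4464, nat_lit 9152, nat_lit 13024, nat_lit 16448, nat_lit 21632, nat_lit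 24832, nat_lit 28928, nat_lit 33280, nat_lit 37888, nat_lit 41201, nat_lit 37337, nat_lit 32838, nat_lit 28773, nat_lit 24593, nat_lit 20625, nat_lit 16395, nat_lit 12306, nat_lit 8225, nat_lit 4113]⟩⟩⟩⟩,
  .stab (nat_lit 468) tw0 ⟨(nat_lit 0), ⟨[nat_lit 76, nat_lit 76, nat_lit 102, nat_lit 104, nat_lit 77, nat_lit 104, nat_lit 104, nat_lit 78], [], (nat_lit 468), ⟨[nat_lit 0, nat_lit 34, nat_lit 93], [nat_lit 44, nat_lit 94], ⟨[nat_lit 0x83c949d4ceb1e4c50403bc4ad4ac48], [nat_lit 175104, nat_lit 171008, nat_lit 164096, nat_lit 161920, nat_lit 157952, nat_lit 155104, nat_lit 148736, nat_lit 143712, nat_lit 140680, nat_lit 138122, nat_lit 134920, nat_lit 2018, nat_lit 5084, nat_lit 8448, nat_lit 14096, nat_lit 17600, nat_lit 20736, nat_lit 25088, nat_lit 28928, nat_lit 37888, nat_lit 41729, nat_lit 37888, nat_lit 32985, nat_lit 28673, nat_lit 24629, nat_lit 20481, nat_lit 16386, nat_lit 12291, nat_lit 8195, nat_lit 4100]⟩⟩⟩, ap0⟩,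
  .prod [] [nat_lit 223, nat_lit 259, nat_lit 225, nat_lit 225]]

theorem dcMr258 : Rng dcM 258 261 := Rng.of (l := dcMc258) (by decide +kernel)

def dcMc261 : List Cert := [.prod [] [nat_lit 260, nat_lit 222, nat_lit 259, nat_lit 224],
  .prod [] [nat_lit 259, nat_lit 222, nat_lit 259, nat_lit 224],
  .prod [] [nat_lit 262, nat_lit 262, nat_lit 259, nat_lit 223],
  .prod [] [nat_lit 225, nat_lit 222, nat_lit 263, nat_lit 260],
  .prod [] [nat_lit 262, nat_lit 225, nat_lit 260, nat_lit 223],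
  .prod [] [nat_lit 225, nat_lit 262, nat_lit 262, nat_lit 260]]

theorem dcMr261 : Rng dcM 261 267 := Rng.of (l := dcMc261) (by decide +kernel)

def dcMc267 : List Cert := [.edge ⟨[nat_lit 0, nat_lit 41, nat_lit 49], [nat_lit 82, nat_lit 49], ⟨[nat_lit 0x4d5ab84df7220321b0543022ab14ee], [nat_lit 173056, nat_lit 170496, nat_lit 165120, nat_lit 160896, nat_lit 158016, nat_lit 152736, nat_lit 148400, nat_lit 147176, nat_lit 141392, nat_lit 137886, nat_lit 133441, nat_lit 1530, nat_lit 5668, nat_lit 10032, nat_lit 13488, nat_lit 18112, nat_lit 25856, nat_lit 29184, nat_lit 33792, nat_lit 41498, nat_lit 37277, nat_lit 33336, nat_lit 28677, nat_lit 24606, nat_lit 20507, nat_lit 16396, nat_lit 12310, nat_lit 8193, nat_lit 4104]⟩⟩ ⟨(nat_lit 2), ⟨[nat_lit 105, nat_lit 79, nat_lit 103, nat_lit 103, nat_lit 78, nat_lit 103], [], (nat_lit 370), ⟨[nat_lit 0, nat_lit 72, nat_lit 90], [nat_lit 0, nat_lit 83, nat_lit 68], ⟨[nat_lit 0x4cc6511e0bb36f4755ec5049230111],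 [nat_lit 174080, nat_lit 168960, nat_lit 164352, nat_lit 163200, nat_lit 156992, nat_lit 153248, nat_lit 149984, nat_lit 146720, nat_lit 143288, nat_lit 137614, nat_lit 133308, nat_lit 1694, nat_lit 6044, nat_lit 9536, nat_lit 14032, nat_lit 22016, nat_lit 24832, nat_lit 41487, nat_lit 37185, nat_lit 33506, nat_lit 28978, nat_lit 25094, nat_lit 20738, nat_lit 16512, nat_lit 13318, nat_lit 8257, nat_lit 4101]⟩⟩⟩, ⟨[nat_lit 215, nat_lit 216, nat_lit 218, nat_lit 218, nat_lit 216, nat_lit 171, nat_lit 170], [], (nat_lit 486), ⟨[nat_lit 40, nat_lit 52], [nat_lit 38, nat_lit 92], ⟨[nat_lit 0xba68341cc29d9a524aaf8440b7054c], [nat_lit 174080, nat_lit 164352, nat_lit 162560, nat_lit 157568, nat_lit 152096, nat_lit 149600, nat_lit 145856, nat_lit 141860, nat_lit 137508, nat_lit 134064, nat_lit 1440, nat_lit 5380, nat_lit 8504, nat_lit 12640, nat_lit 17056, nat_lit 22336, nat_lit 26368, nat_lit 29440, nat_lit 33792, nat_lit 41403, nat_lit 37307,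 nat_lit 32947, nat_lit 29033, nat_lit 24733, nat_lit 20736, nat_lit 16397, nat_lit 12306, nat_lit 8193, nat_lit 4105]⟩⟩⟩⟩]

theorem dcMr267 : Rng dcM 267 268 := Rng.of (l := dcMc267) (by decide +kernel)

def dcMc268 : List Cert := [.edge ⟨[nat_lit 7, nat_lit 56], [nat_lit 0, nat_lit 42, nat_lit 56], ⟨[nat_lit 0x89dcd9d894924c85bc171a99509602], [nat_lit 173056, nat_lit 171008, nat_lit 164096, nat_lit 162048, nat_lit 156736, nat_lit 154880, nat_lit 150544, nat_lit 145560, nat_lit 139536, nat_lit 137190, nat_lit 134531, nat_lit 700, nat_lit 4160, nat_lit 8320, nat_lit 13520, nat_lit 17152, nat_lit 20544, nat_lit 24704, nat_lit 29696, nat_lit 33792, nat_lit 41722, nat_lit 37269, nat_lit 32924, nat_lit 29047, nat_lit 24613, nat_lit 20561, nat_lit 16430, nat_lit 12309, nat_lit 8193, nat_lit 4104]⟩⟩ ⟨(nat_lit 2), ⟨[nat_lit 150, nat_lit 148, nat_lit 145, nat_lit 147, nat_lit 149, nat_lit 139], [], (nat_lit 474), ⟨[nat_lit 0, nat_lit 80, nat_lit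 64], [nat_lit 86, nat_lit 62], ⟨[nat_lit 0x5d9468d2042bdb7905c938c5560268], [nat_lit 173056, nat_lit 160384, nat_lit 157184, nat_lit 154272, nat_lit 148896, nat_lit 144336, nat_lit 141264, nat_lit 136374, nat_lit 131566, nat_lit 846, nat_lit 4684, nat_lit 9384, nat_lit 14288, nat_lit 16640, nat_lit 21504, nat_lit 26368, nat_lit 41464, nat_lit 37216, nat_lit 33306, nat_lit 29732, nat_lit 24748, nat_lit 16453, nat_lit 12422, nat_lit 8210, nat_lit 4100, nat_lit 2]⟩⟩⟩, ⟨[nat_lit 263, nat_lit 260, nat_lit 222, nat_lit 263, nat_lit 222, nat_lit 262], [], (nat_lit 516), ⟨[nat_lit 9, nat_lit 67], [nat_lit 0, nat_lit 19, nat_lit 90], ⟨[nat_lit 0x7acd704909146b481c649b981536c5], [nat_lit 173056, nat_lit 168960, nat_lit 165632, nat_lit 161536, nat_lit 156928, nat_lit 152352, nat_lit 148736, nat_lit 144064, nat_lit 140380, nat_lit 136752, nat_lit 132331, nat_lit 568, nat_lit 5544, nat_lit 9168, nat_lit 13600, nat_lit 16416, nat_lit 22016, nat_lit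 26496, nat_lit 34304, nat_lit 37888, nat_lit 41956, nat_lit 37120, nat_lit 33328, nat_lit 28742, nat_lit 24760, nat_lit 20547, nat_lit 16423, nat_lit 12305, nat_lit 8193, nat_lit 4104, nat_lit 2]⟩⟩⟩⟩,
  .edge tw0 ⟨(nat_lit 1), ⟨[], [nat_lit 141, nat_lit 140, nat_lit 149, nat_lit 144, nat_lit 148], (nat_lit 331), ⟨[nat_lit 23, nat_lit 56], [nat_lit 0, nat_lit 33, nat_lit 50], ⟨[nat_lit 0xc0a744d40b2d8613a2da5e43aa48f], [nat_lit 169984, nat_lit 164608, nat_lit 161152, nat_lit 158912, nat_lit 151968, nat_lit 147664, nat_lit 146064, nat_lit 141996, nat_lit 138292, nat_lit 133783, nat_lit 1318, nat_lit 5588, nat_lit 9168, nat_lit 14192, nat_lit 16800, nat_lit 22336, nat_lit 24832, nat_lit 30464, nat_lit 33792, nat_lit 41550, nat_lit 38162, nat_lit 33466, nat_lit 28793, nat_lit 24723, nat_lit 20496, nat_lit 16417, nat_lit 12292, nat_lit 8203, nat_lit 4100]⟩⟩⟩, ⟨[], [], (nat_lit 536), ⟨[nat_lit 0, nat_lit 76, nat_lit 46], [nat_lit 11, nat_lit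 70], ⟨[nat_lit 0x1d8227a2078a88e915abb829534d2c], [nat_lit 169472, nat_lit 166656, nat_lit 161536, nat_lit 155968, nat_lit 151904, nat_lit 148432, nat_lit 145152, nat_lit 140832, nat_lit 135286, nat_lit 131623, nat_lit 880, nat_lit 5316, nat_lit 9384, nat_lit 12784, nat_lit 16704, nat_lit 21504, nat_lit 25856, nat_lit 30464, nat_lit 33792, nat_lit 37888, nat_lit 41777, nat_lit 38257, nat_lit 33014, nat_lit 29014, nat_lit 24877, nat_lit 20636, nat_lit 16419, nat_lit 12311, nat_lit 8208, nat_lit 4]⟩⟩⟩⟩]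

theorem dcMr268 : Rng dcM 268 270 := Rng.of (l := dcMc268) (by decide +kernel)

def dcMc270 : List Cert := [.edge ⟨[nat_lit 0, nat_lit 88, nat_lit 62], [nat_lit 75, nat_lit 93], ⟨[nat_lit 0xb55480cc528820379cac719a4ba574], [nat_lit 173056, nat_lit 170496, nat_lit 165376, nat_lit 161664, nat_lit 159488, nat_lit 152896, nat_lit 148848, nat_lit 145480, nat_lit 143028, nat_lit 137984, nat_lit 133410, nat_lit 622, nat_lit 5112, nat_lit 9752, nat_lit 13712, nat_lit 16416, nat_lit 20736, nat_lit 25728, nat_lit 29952, nat_lit 37888, nat_lit 41249, nat_lit 37293, nat_lit 33007, nat_lit 28965, nat_lit 24747, nat_lit 20481, nat_lit 16385, nat_lit 12416, nat_lit 8195, nat_lit 4097]⟩⟩ ⟨(nat_lit 2), ⟨[nat_lit 265, nat_lit 263, nat_lit 265, nat_lit 222], [], (nat_lit 483), ⟨[nat_lit 44, nat_lit 47], [nat_lit 0, nat_lit 81, nat_lit 59], ⟨[nat_lit 0xadda325a2ba4146794e264c32401c9], [nat_lit 173056, nat_lit 169984, nat_lit 162560, nat_lit 156736, nat_lit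 154528, nat_lit 149856, nat_lit 146776, nat_lit 139876, nat_lit 136892, nat_lit 135056, nat_lit 1918, nat_lit 4720, nat_lit 9224, nat_lit 12976, nat_lit 17056, nat_lit 20864, nat_lit 24704, nat_lit 30464, nat_lit 33792, nat_lit 37888, nat_lit 41374, nat_lit 37135, nat_lit 32787, nat_lit 29763, nat_lit 24744, nat_lit 20546, nat_lit 16424, nat_lit 12295, nat_lit 8203, nat_lit 4097]⟩⟩⟩, ⟨[nat_lit 212, nat_lit 171, nat_lit 217, nat_lit 170, nat_lit 216, nat_lit 171], [], (nat_lit 486), ⟨[nat_lit 0, nat_lit 34, nat_lit 46], [nat_lit 0, nat_lit 85, nat_lit 58], ⟨[nat_lit 0x6c2ae21ef2445744982c10ed378145], [nat_lit 175104, nat_lit 161792, nat_lit 157184, nat_lit 152032, nat_lit 149856, nat_lit 146272, nat_lit 141888, nat_lit 138030, nat_lit 133381, nat_lit 1054, nat_lit 5904, nat_lit 9096, nat_lit 14304, nat_lit 18112, nat_lit 20608, nat_lit 26112, nat_lit 29440, nat_lit 33792, nat_lit 37888, nat_lit 41705, nat_lit 37338, nat_lit 33405, nat_lit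 28702, nat_lit 25115, nat_lit 20762, nat_lit 12289, nat_lit 8194, nat_lit 4100]⟩⟩⟩⟩,
  .edge ⟨[nat_lit 13, nat_lit 51], [nat_lit 0, nat_lit 34, nat_lit 68], ⟨[nat_lit 0x29875ba42b2454fa4c526341643a07], [nat_lit 175104, nat_lit 166656, nat_lit 162432, nat_lit 158656, nat_lit 153152, nat_lit 149024, nat_lit 144792, nat_lit 141680, nat_lit 138316, nat_lit 131904, nat_lit 344, nat_lit 5508, nat_lit 10224, nat_lit 13504, nat_lit 18016, nat_lit 21568, nat_lit 24832, nat_lit 30208, nat_lit 41735, nat_lit 37971, nat_lit 32834, nat_lit 28795, nat_lit 24620, nat_lit 20545, nat_lit 16520, nat_lit 12327, nat_lit 8194]⟩⟩ ⟨(nat_lit 2), ⟨[nat_lit 259, nat_lit 224, nat_lit 222, nat_lit 263, nat_lit 263, nat_lit 225], [], (nat_lit 498), ⟨[nat_lit 21, nat_lit 92], [nat_lit 75, nat_lit 64], ⟨[nat_lit 0x93d33346a12d2004344321d6eb5d8a], [nat_lit 173056, nat_lit 169984, nat_lit 165376, nat_lit 161408, nat_lit 156160, nat_lit 153056, nat_lit 147504, nat_lit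 144408, nat_lit 140544, nat_lit 136576, nat_lit 132379, nat_lit 1298, nat_lit 4924, nat_lit 9928, nat_lit 12368, nat_lit 16544, nat_lit 21248, nat_lit 26368, nat_lit 29440, nat_lit 33792, nat_lit 37888, nat_lit 41541, nat_lit 36945, nat_lit 33016, nat_lit 28766, nat_lit 24598, nat_lit 20501, nat_lit 16425, nat_lit 12295, nat_lit 8200]⟩⟩⟩, ⟨[nat_lit 149, nat_lit 139, nat_lit 140, nat_lit 139, nat_lit 141, nat_lit 139], [], (nat_lit 480), ⟨[nat_lit 83, nat_lit 89], [nat_lit 17, nat_lit 53], ⟨[nat_lit 0x2988a59d0983ae1932c28d5e36d260], [nat_lit 175104, nat_lit 168960, nat_lit 164608, nat_lit 162176, nat_lit 156736, nat_lit 152352, nat_lit 149584, nat_lit 145688, nat_lit 141704, nat_lit 137802, nat_lit 133249, nat_lit 32, nat_lit 4684, nat_lit 8680, nat_lit 12320, nat_lit 18112, nat_lit 21056, nat_lit 25728, nat_lit 30208, nat_lit 33792, nat_lit 37888, nat_lit 41940, nat_lit 37927, nat_lit 32959, nat_lit 28932, nat_lit 25130, nat_lit 20484,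 nat_lit 16395, nat_lit 12309, nat_lit 8201, nat_lit 4101, nat_lit 4]⟩⟩⟩⟩]

theorem dcMr270 : Rng dcM 270 272 := Rng.of (l := dcMc270) (by decide +kernel)

def dcMc272 : List Cert := [.edge tw0 ⟨(nat_lit 1), ⟨[nat_lit 263, nat_lit 224, nat_lit 262, nat_lit 259, nat_lit 223, nat_lit 222], [], (nat_lit 507), ⟨[nat_lit 84, nat_lit 64], [nat_lit 1, nat_lit 93], ⟨[nat_lit 0x1032a9e741aeee13ec93450a640ad], [nat_lit 174080, nat_lit 168448, nat_lit 164608, nat_lit 162432, nat_lit 157376, nat_lit 152864, nat_lit 151184, nat_lit 145616, nat_lit 142244, nat_lit 137970, nat_lit 134901, nat_lit 364, nat_lit 5488, nat_lit 9224, nat_lit 13552, nat_lit 16704, nat_lit 28928, nat_lit 37888, nat_lit 41859, nat_lit 37008, nat_lit 32973, nat_lit 28675, nat_lit 24878, nat_lit 20544, nat_lit 16900, nat_lit 12544, nat_lit 8202, nat_lit 4097, nat_lit 2]⟩⟩⟩, ⟨[nat_lit 262, nat_lit 224, nat_lit 223, nat_lit 222, nat_lit 259], [], (nat_lit 506), ⟨[nat_lit 77, nat_lit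 62], [nat_lit 32, nat_lit 93], ⟨[nat_lit 0x220c01258d858afad1638aa4199eee], [nat_lit 174080, nat_lit 166144, nat_lit 162176, nat_lit 159680, nat_lit 152128, nat_lit 149472, nat_lit 145368, nat_lit 141804, nat_lit 137376, nat_lit 132740, nat_lit 960, nat_lit 4720, nat_lit 10072, nat_lit 13376, nat_lit 18112, nat_lit 22336, nat_lit 25728, nat_lit 34304, nat_lit 37888, nat_lit 41485, nat_lit 37176, nat_lit 32934, nat_lit 29000, nat_lit 24757, nat_lit 20495, nat_lit 16396, nat_lit 12289, nat_lit 8209, nat_lit 4097, nat_lit 2]⟩⟩⟩⟩,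
  .edge tw0 ⟨(nat_lit 1), ⟨[], [nat_lit 224, nat_lit 225, nat_lit 222], (nat_lit 535), ⟨[nat_lit 33, nat_lit 51], [nat_lit 25, nat_lit 57], ⟨[nat_lit 0x4524ab31d10bd271cee0242a55b446], [nat_lit 168960, nat_lit 166144, nat_lit 160768, nat_lit 156480, nat_lit 155456, nat_lit 150048, nat_lit 146080, nat_lit 141348, nat_lit 138456, nat_lit 132564, nat_lit 1516, nat_lit 4408, nat_lit 9216, nat_lit 13056, nat_lit 18080, nat_lit 21760, nat_lit 25984, nat_lit 29696, nat_lit 34304, nat_lit 37888, nat_lit 41926, nat_lit 37138, nat_lit 33401, nat_lit 28689, nat_lit 24877, nat_lit 20746, nat_lit 16519, nat_lit 12551, nat_lit 8195, nat_lit 4]⟩⟩⟩, ⟨[nat_lit 78, nat_lit 78, nat_lit 78, nat_lit 78], [], (nat_lit 534), ⟨[nat_lit 19, nat_lit 50], [nat_lit 84, nat_lit 55], ⟨[nat_lit 0x4524ab31d10bd271cee0242a55b446], [nat_lit 169472, nat_lit 166144, nat_lit 160896, nat_lit 156480, nat_lit 155456, nat_lit 150064, nat_lit 146088, nat_lit 141348, nat_lit 138458,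 nat_lit 132564, nat_lit 1516, nat_lit 4408, nat_lit 9216, nat_lit 13056, nat_lit 18080, nat_lit 21760, nat_lit 25984, nat_lit 29696, nat_lit 34304, nat_lit 37888, nat_lit 41926, nat_lit 37138, nat_lit 33401, nat_lit 28689, nat_lit 24877, nat_lit 20746, nat_lit 16519, nat_lit 12551, nat_lit 8195, nat_lit 4]⟩⟩⟩⟩]

theorem dcMr272 : Rng dcM 272 274 := Rng.of (l := dcMc272) (by decide +kernel)

def dcMc274 : List Cert := [.edge ⟨[nat_lit 6, nat_lit 64], [nat_lit 24, nat_lit 46], ⟨[nat_lit 0x9d2e2221b501cb11b20f92c29b194e], [nat_lit 173056, nat_lit 169472, nat_lit 166400, nat_lit 160896, nat_lit 153216, nat_lit 149072, nat_lit 144168, nat_lit 139796, nat_lit 135712, nat_lit 132717, nat_lit 166, nat_lit 5544, nat_lit 9136, nat_lit 14288, nat_lit 18336, nat_lit 20672, nat_lit 25344, nat_lit 30464, nat_lit 33280, nat_lit 37888, nat_lit 41170, nat_lit 37155, nat_lit 33339, nat_lit 28762, nat_lit 24597, nat_lit 21015, nat_lit 16426, nat_lit 12305,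 nat_lit 8203, nat_lit 4104, nat_lit 2]⟩⟩ ⟨(nat_lit 2), ⟨[nat_lit 222, nat_lit 264, nat_lit 223, nat_lit 260, nat_lit 264], [], (nat_lit 516), ⟨[nat_lit 75, nat_lit 52], [nat_lit 0, nat_lit 5, nat_lit 56], ⟨[nat_lit 0x231a899e4a2ae963240278e158ddc1], [nat_lit 174080, nat_lit 168448, nat_lit 164864, nat_lit 162176, nat_lit 156480, nat_lit 152960, nat_lit 149872, nat_lit 146840, nat_lit 142668, nat_lit 137738, nat_lit 133182, nat_lit 1180, nat_lit 6068, nat_lit 10072, nat_lit 13024, nat_lit 16864, nat_lit 22016, nat_lit 24832, nat_lit 29696, nat_lit 34304, nat_lit 41447, nat_lit 36879, nat_lit 32851, nat_lit 29736, nat_lit 24763, nat_lit 20571, nat_lit 16448, nat_lit 12295, nat_lit 8194, nat_lit 4097]⟩⟩⟩, ⟨[nat_lit 222, nat_lit 261, nat_lit 223, nat_lit 223, nat_lit 222, nat_lit 224, nat_lit 222], [], (nat_lit 492), ⟨[nat_lit 15, nat_lit 55], [nat_lit 7, nat_lit 61], ⟨[nat_lit 0xab8772da4a5d267425a0608c48c02f], [nat_lit 171520, nat_lit 165632,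 nat_lit 163584, nat_lit 156864, nat_lit 154848, nat_lit 149584, nat_lit 146288, nat_lit 141072, nat_lit 135884, nat_lit 133284, nat_lit 1488, nat_lit 5992, nat_lit 8672, nat_lit 13664, nat_lit 16896, nat_lit 20864, nat_lit 25216, nat_lit 30208, nat_lit 34304, nat_lit 41709, nat_lit 36873, nat_lit 32856, nat_lit 29796, nat_lit 24578, nat_lit 21505, nat_lit 16393, nat_lit 12289, nat_lit 8225, nat_lit 4097]⟩⟩⟩⟩]

theorem dcMr274 : Rng dcM 274 275 := Rng.of (l := dcMc274) (by decide +kernel)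

def dcMc275 : List Cert := [.edge ⟨[nat_lit 0, nat_lit 29, nat_lit 52], [nat_lit 37, nat_lit 94], ⟨[nat_lit 0xa31628c0b21a6ad5582f3926675d00], [nat_lit 168448, nat_lit 165120, nat_lit 158976, nat_lit 152352, nat_lit 148368, nat_lit 144496, nat_lit 140844, nat_lit 135170, nat_lit 132989, nat_lit 64, nat_lit 4876, nat_lit 9328, nat_lit 13472, nat_lit 16480, nat_lit 21568, nat_lit 29184, nat_lit 41072, nat_lit 37056, nat_lit 32904, nat_lit 29003, nat_lit 21508, nat_lit 16420, nat_lit 12548, nat_lit 8193, nat_lit 4225]⟩⟩ ⟨(nat_lit 2), ⟨[nat_lit 224, nat_lit 224, nat_lit 225, nat_lit 225, nat_lit 225], [nat_lit 223, nat_lit 225, nat_lit 225, nat_lit 222, nat_lit 259], (nat_lit 539), ⟨[nat_lit 0, nat_lit 2, nat_lit 48], [nat_lit 0, nat_lit 25, nat_lit 91], ⟨[nat_lit 0x38d710289385a4e60ae1a34c5aa50f], [nat_lit 175104, nat_lit 171520, nat_lit 166400, nat_lit 161152, nat_lit 157120, nat_lit 153280, nat_lit 151328, nat_lit 144688, nat_lit 141192,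 nat_lit 138604, nat_lit 134725, nat_lit 122, nat_lit 5316, nat_lit 9008, nat_lit 13840, nat_lit 16864, nat_lit 21440, nat_lit 26112, nat_lit 29696, nat_lit 34304, nat_lit 37888, nat_lit 41962, nat_lit 37033, nat_lit 33893, nat_lit 28697, nat_lit 25654, nat_lit 21008, nat_lit 16393, nat_lit 12305, nat_lit 8259, nat_lit 4100]⟩⟩⟩, ⟨[nat_lit 149, nat_lit 148, nat_lit 144, nat_lit 145, nat_lit 145, nat_lit 139], [], (nat_lit 478), ⟨[nat_lit 29, nat_lit 57], [nat_lit 43, nat_lit 94], ⟨[nat_lit 0x25a576d141021952a60b19e6233e2e], [nat_lit 169472, nat_lit 164096, nat_lit 161280, nat_lit 155904, nat_lit 154720, nat_lit 148112, nat_lit 143672, nat_lit 140504, nat_lit 136044, nat_lit 133072, nat_lit 960, nat_lit 4608, nat_lit 10088, nat_lit 13152, nat_lit 18336, nat_lit 21504, nat_lit 25216, nat_lit 29952, nat_lit 37888, nat_lit 41143, nat_lit 37075, nat_lit 32826, nat_lit 29204, nat_lit 24741, nat_lit 20509, nat_lit 16417, nat_lit 12308, nat_lit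 8208, nat_lit 4160, nat_lit 32]⟩⟩⟩⟩]

theorem dcMr275 : Rng dcM 275 276 := Rng.of (l := dcMc275) (by decide +kernel)

def dcMc276 : List Cert := [.edge tw0 ⟨(nat_lit 1), ⟨[nat_lit 223, nat_lit 266, nat_lit 225, nat_lit 224, nat_lit 222], [], (nat_lit 483), ⟨[nat_lit 0, nat_lit 2, nat_lit 52], [nat_lit 9, nat_lit 51], ⟨[nat_lit 0x11e0072ae36926facac5445660b134], [nat_lit 174080, nat_lit 171520, nat_lit 167168, nat_lit 161664, nat_lit 153120, nat_lit 150000, nat_lit 144352, nat_lit 140280, nat_lit 138414, nat_lit 134180, nat_lit 1842, nat_lit 5604, nat_lit 8504, nat_lit 13552, nat_lit 17152, nat_lit 21504, nat_lit 26496, nat_lit 30464, nat_lit 33280, nat_lit 41505, nat_lit 37250, nat_lit 32929, nat_lit 28934, nat_lit 24601, nat_lit 20510, nat_lit 16431, nat_lit 12295, nat_lit 8200, nat_lit 4097]⟩⟩⟩, ⟨[nat_lit 171, nat_lit 171, nat_lit 171, nat_lit 171, nat_lit 171, nat_lit 171], [], (nat_lit 482), ⟨[nat_lit 0, nat_lit 38, nat_lit 46], [nat_lit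 0, nat_lit 11, nat_lit 58], ⟨[nat_lit 0x11e0072ae36926facac5445660b134], [nat_lit 174080, nat_lit 171008, nat_lit 166912, nat_lit 161536, nat_lit 155712, nat_lit 153088, nat_lit 149984, nat_lit 144352, nat_lit 140284, nat_lit 138414, nat_lit 134181, nat_lit 1842, nat_lit 5604, nat_lit 8504, nat_lit 13552, nat_lit 17152, nat_lit 21504, nat_lit 26496, nat_lit 30464, nat_lit 33280, nat_lit 41505, nat_lit 37250, nat_lit 32929, nat_lit 28934, nat_lit 24601, nat_lit 20510, nat_lit 16431, nat_lit 12295, nat_lit 8200, nat_lit 4097]⟩⟩⟩⟩,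
  .edge tw0 ⟨(nat_lit 1), ⟨[nat_lit 260, nat_lit 262, nat_lit 263, nat_lit 225, nat_lit 222], [], (nat_lit 487), ⟨[nat_lit 0, nat_lit 44, nat_lit 69], [nat_lit 0, nat_lit 71, nat_lit 58], ⟨[nat_lit 0x8d6993e0c3da84745b35200235cb5], [nat_lit 174080, nat_lit 169984, nat_lit 167424, nat_lit 160128, nat_lit 157760, nat_lit 154400, nat_lit 149152, nat_lit 145888, nat_lit 140556, nat_lit 135344, nat_lit 132025, nat_lit 394, nat_lit 5500, nat_lit 8320, nat_lit 13152, nat_lit 17216, nat_lit 22400, nat_lit 29696, nat_lit 34304, nat_lit 37888, nat_lit 41736, nat_lit 38208, nat_lit 32845, nat_lit 28735, nat_lit 24586, nat_lit 20621, nat_lit 16430, nat_lit 8211, nat_lit 4101]⟩⟩⟩, ⟨[nat_lit 217, nat_lit 173, nat_lit 216, nat_lit 213, nat_lit 216, nat_lit 214], [], (nat_lit 486), ⟨[nat_lit 0, nat_lit 71, nat_lit 53], [nat_lit 21, nat_lit 53], ⟨[nat_lit 0x7367183e4c3d8940a46b4280235ea5], [nat_lit 174080, nat_lit 171520, nat_lit 167680, nat_lit 160000,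 nat_lit 158976, nat_lit 154912, nat_lit 148608, nat_lit 145896, nat_lit 140056, nat_lit 136326, nat_lit 131486, nat_lit 1634, nat_lit 4756, nat_lit 8320, nat_lit 13152, nat_lit 17632, nat_lit 20608, nat_lit 25728, nat_lit 29696, nat_lit 33280, nat_lit 41881, nat_lit 38289, nat_lit 33983, nat_lit 28703, nat_lit 24578, nat_lit 20750, nat_lit 16515, nat_lit 8211, nat_lit 4100, nat_lit 2]⟩⟩⟩⟩]

theorem dcMr276 : Rng dcM 276 278 := Rng.of (l := dcMc276) (by decide +kernel)

def dcMc278 : List Cert := [.edge ⟨[nat_lit 0, nat_lit 12, nat_lit 55], [nat_lit 82, nat_lit 47], ⟨[nat_lit 0x68577aa9c2a3c684819681a51990a7], [nat_lit 175104, nat_lit 169984, nat_lit 166912, nat_lit 160512, nat_lit 157312, nat_lit 152384, nat_lit 149776, nat_lit 143808, nat_lit 141188, nat_lit 138010, nat_lit 134758, nat_lit 1054, nat_lit 4328, nat_lit 8984, nat_lit 13632, nat_lit 16896, nat_lit 20800, nat_lit 26112, nat_lit 33280, nat_lit 41493, nat_lit 37049, nat_lit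 32834, nat_lit 29228, nat_lit 24585, nat_lit 21007, nat_lit 16389, nat_lit 12357, nat_lit 8193, nat_lit 4129, nat_lit 2]⟩⟩ ⟨(nat_lit 2), ⟨[nat_lit 266, nat_lit 264, nat_lit 263, nat_lit 263, nat_lit 264], [], (nat_lit 544), ⟨[nat_lit 0, nat_lit 18, nat_lit 91], [nat_lit 0, nat_lit 83], ⟨[nat_lit 0x3a814410562d469b99617cd8e8464d], [nat_lit 173056, nat_lit 168448, nat_lit 164352, nat_lit 160256, nat_lit 155904, nat_lit 152032, nat_lit 150448, nat_lit 145368, nat_lit 139512, nat_lit 135938, nat_lit 131665, nat_lit 508, nat_lit 4412, nat_lit 9648, nat_lit 13504, nat_lit 16896, nat_lit 20992, nat_lit 25728, nat_lit 29696, nat_lit 41327, nat_lit 37284, nat_lit 33402, nat_lit 29004, nat_lit 24613, nat_lit 20496, nat_lit 16388, nat_lit 12550, nat_lit 8208, nat_lit 4224]⟩⟩⟩, ⟨[nat_lit 265, nat_lit 259, nat_lit 263, nat_lit 260, nat_lit 264, nat_lit 222], [], (nat_lit 506), ⟨[nat_lit 1, nat_lit 92], [nat_lit 0, nat_lit 43, nat_lit 65], ⟨[nat_lit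 0x7c889540cd08056444ac9b967a8ef4], [nat_lit 173056, nat_lit 169472, nat_lit 164352, nat_lit 160000, nat_lit 158400, nat_lit 153536, nat_lit 148240, nat_lit 144936, nat_lit 140144, nat_lit 136160, nat_lit 132805, nat_lit 1108, nat_lit 4756, nat_lit 8784, nat_lit 12320, nat_lit 18272, nat_lit 20544, nat_lit 25216, nat_lit 29184, nat_lit 41828, nat_lit 38308, nat_lit 32842, nat_lit 29278, nat_lit 24633, nat_lit 20498, nat_lit 16429, nat_lit 12308, nat_lit 8211, nat_lit 4104, nat_lit 2]⟩⟩⟩⟩,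
  .edge ⟨[nat_lit 0, nat_lit 11, nat_lit 54], [nat_lit 71, nat_lit 65], ⟨[nat_lit 0x610e8b88b05840f9b64aa3aa9b44c3], [nat_lit 173056, nat_lit 168960, nat_lit 165120, nat_lit 160768, nat_lit 156224, nat_lit 153504, nat_lit 148880, nat_lit 144448, nat_lit 141672, nat_lit 136438, nat_lit 132803, nat_lit 688, nat_lit 4548, nat_lit 8704, nat_lit 12800, nat_lit 17280, nat_lit 22336, nat_lit 25088, nat_lit 29696, nat_lit 33280, nat_lit 37888, nat_lit 41840, nat_lit 36996, nat_lit 32803, nat_lit 29207, nat_lit 24580, nat_lit 20743, nat_lit 16517, nat_lit 12293, nat_lit 4112, nat_lit 8]⟩⟩ ⟨(nat_lit 2), ⟨[nat_lit 259, nat_lit 266, nat_lit 263, nat_lit 264, nat_lit 261], [], (nat_lit 542), ⟨[nat_lit 0, nat_lit 3, nat_lit 94], [nat_lit 0, nat_lit 30, nat_lit 55], ⟨[nat_lit 0x35e433c41562ed49c1c9411a50bc4a], [nat_lit 169984, nat_lit 165376, nat_lit 160000, nat_lit 157376, nat_lit 153504, nat_lit 149328, nat_lit 144768, nat_lit 139496, nat_lit 136924,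 nat_lit 133092, nat_lit 1298, nat_lit 4100, nat_lit 10088, nat_lit 13664, nat_lit 17248, nat_lit 22336, nat_lit 25856, nat_lit 30464, nat_lit 33792, nat_lit 41520, nat_lit 38159, nat_lit 32962, nat_lit 28731, nat_lit 24851, nat_lit 20488, nat_lit 16449, nat_lit 12294, nat_lit 8202, nat_lit 4104]⟩⟩⟩, ⟨[nat_lit 223, nat_lit 260, nat_lit 264, nat_lit 264, nat_lit 259, nat_lit 222], [], (nat_lit 496), ⟨[nat_lit 75, nat_lit 93], [nat_lit 17, nat_lit 49], ⟨[nat_lit 0x3d52e80233b2da508a4343094bbcca], [nat_lit 168960, nat_lit 164608, nat_lit 160768, nat_lit 157248, nat_lit 151616, nat_lit 148800, nat_lit 144216, nat_lit 140316, nat_lit 136988, nat_lit 134037, nat_lit 786, nat_lit 5904, nat_lit 10008, nat_lit 13152, nat_lit 16416, nat_lit 21440, nat_lit 25088, nat_lit 29952, nat_lit 37888, nat_lit 41237, nat_lit 36867, nat_lit 32939, nat_lit 28787, nat_lit 24582, nat_lit 20636, nat_lit 16512, nat_lit 12292, nat_lit 8203, nat_lit 4097, nat_lit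 2]⟩⟩⟩⟩]

theorem dcMr278 : Rng dcM 278 280 := Rng.of (l := dcMc278) (by decide +kernel)

def dcMc280 : List Cert := [.edge ⟨[nat_lit 0, nat_lit 40, nat_lit 54], [nat_lit 0, nat_lit 1, nat_lit 46], ⟨[nat_lit 0xa1f454927256d1980c2bb46b2b20e], [nat_lit 169472, nat_lit 165632, nat_lit 157248, nat_lit 153504, nat_lit 149200, nat_lit 143560, nat_lit 139500, nat_lit 137198, nat_lit 131104, nat_lit 810, nat_lit 4476, nat_lit 8928, nat_lit 12416, nat_lit 17664, nat_lit 33280, nat_lit 41531, nat_lit 37178, nat_lit 33502, nat_lit 28680, nat_lit 24597, nat_lit 16451, nat_lit 12416, nat_lit 8208, nat_lit 4100, nat_lit 64]⟩⟩ ⟨(nat_lit 2), ⟨[nat_lit 224, nat_lit 261, nat_lit 224, nat_lit 260, nat_lit 262], [], (nat_lit 542), ⟨[nat_lit 0, nat_lit 71, nat_lit 53], [nat_lit 15, nat_lit 55], ⟨[nat_lit 0xb45656cc10bba813bc4448d4caa0d2], [nat_lit 169984, nat_lit 165632, nat_lit 158976, nat_lit 152384, nat_lit 147936, nat_lit 146104, nat_lit 141336, nat_lit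 137544, nat_lit 133988, nat_lit 590, nat_lit 5436, nat_lit 9640, nat_lit 12544, nat_lit 17632, nat_lit 21568, nat_lit 29696, nat_lit 33280, nat_lit 37888, nat_lit 41737, nat_lit 38043, nat_lit 33315, nat_lit 28965, nat_lit 24577, nat_lit 20752, nat_lit 16519, nat_lit 13317, nat_lit 8201, nat_lit 4112]⟩⟩⟩, ⟨[nat_lit 261, nat_lit 263, nat_lit 265, nat_lit 261, nat_lit 263, nat_lit 222], [], (nat_lit 500), ⟨[nat_lit 0, nat_lit 19, nat_lit 67], [nat_lit 15, nat_lit 61], ⟨[nat_lit 0x98930911957b82a3522dba01619cab], [nat_lit 168960, nat_lit 164608, nat_lit 160768, nat_lit 157568, nat_lit 153504, nat_lit 150416, nat_lit 144800, nat_lit 140968, nat_lit 135970, nat_lit 131776, nat_lit 1860, nat_lit 4952, nat_lit 9592, nat_lit 12304, nat_lit 16512, nat_lit 21056, nat_lit 26496, nat_lit 33280, nat_lit 37888, nat_lit 41872, nat_lit 37902, nat_lit 32873, nat_lit 29283, nat_lit 24746, nat_lit 20621, nat_lit 16389, nat_lit 8210, nat_lit 4101, nat_lit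 4]⟩⟩⟩⟩,
  .edge tw0 ⟨(nat_lit 1), ⟨[], [], (nat_lit 494), ⟨[nat_lit 0, nat_lit 77, nat_lit 51], [nat_lit 3, nat_lit 54], ⟨[nat_lit 0x13c0d99c90b2d15bd12a316511b981], [nat_lit 175104, nat_lit 168960, nat_lit 165632, nat_lit 163200, nat_lit 155776, nat_lit 152096, nat_lit 151280, nat_lit 145544, nat_lit 143148, nat_lit 139130, nat_lit 133912, nat_lit 1180, nat_lit 5768, nat_lit 8504, nat_lit 12800, nat_lit 18272, nat_lit 21824, nat_lit 25728, nat_lit 29696, nat_lit 40971, nat_lit 37051, nat_lit 32852, nat_lit 28683, nat_lit 24587, nat_lit 20993, nat_lit 16417, nat_lit 12304, nat_lit 8195, nat_lit 4100]⟩⟩⟩, ⟨[nat_lit 66, nat_lit 49, nat_lit 46, nat_lit 46, nat_lit 72, nat_lit 46], [], (nat_lit 442), ⟨[nat_lit 76, nat_lit 92], [nat_lit 85, nat_lit 56], ⟨[nat_lit 0xb2e67708201b58f8a6e6a155225510], [nat_lit 169472, nat_lit 165120, nat_lit 160384, nat_lit 156736, nat_lit 148752, nat_lit 143624, nat_lit 141324, nat_lit 136050, nat_lit 132416,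 nat_lit 1698, nat_lit 6048, nat_lit 8256, nat_lit 12896, nat_lit 20864, nat_lit 24832, nat_lit 33792, nat_lit 41412, nat_lit 37222, nat_lit 32836, nat_lit 29745, nat_lit 24583, nat_lit 20620, nat_lit 16429, nat_lit 12325, nat_lit 8193, nat_lit 4161, nat_lit 4]⟩⟩⟩⟩]

theorem dcMr280 : Rng dcM 280 282 := Rng.of (l := dcMc280) (by decide +kernel)

def dcMc282 : List Cert := [.edge ⟨[nat_lit 38, nat_lit 93], [nat_lit 0, nat_lit 18, nat_lit 57], ⟨[nat_lit 0x80dd763565128079c8c9ac42f412d4], [nat_lit 173056, nat_lit 168960, nat_lit 166912, nat_lit 162432, nat_lit 158464, nat_lit 154272, nat_lit 149328, nat_lit 146672, nat_lit 142768, nat_lit 136918, nat_lit 134631, nat_lit 460, nat_lit 4980, nat_lit 9056, nat_lit 13920, nat_lit 17088, nat_lit 20736, nat_lit 25088, nat_lit 28928, nat_lit 33792, nat_lit 41761, nat_lit 38318, nat_lit 33906, nat_lit 28791, nat_lit 24726, nat_lit 20504, nat_lit 16417, nat_lit 12304, nat_lit 8322, nat_lit 4225]⟩⟩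 ⟨(nat_lit 2), ⟨[nat_lit 262, nat_lit 266, nat_lit 222, nat_lit 262], [], (nat_lit 550), ⟨[nat_lit 20, nat_lit 58], [nat_lit 0, nat_lit 9, nat_lit 56], ⟨[nat_lit 0x68183a96c67844e9c149b9c9492d11], [nat_lit 168448, nat_lit 164608, nat_lit 162048, nat_lit 156224, nat_lit 151872, nat_lit 148464, nat_lit 145304, nat_lit 139836, nat_lit 135184, nat_lit 132559, nat_lit 184, nat_lit 4824, nat_lit 9752, nat_lit 16416, nat_lit 25728, nat_lit 41191, nat_lit 36993, nat_lit 32902, nat_lit 28720, nat_lit 25639, nat_lit 20632, nat_lit 16512, nat_lit 12320, nat_lit 8448, nat_lit 4100, nat_lit 512]⟩⟩⟩, ⟨[nat_lit 265, nat_lit 223, nat_lit 264], [], (nat_lit 550), ⟨[nat_lit 0, nat_lit 78, nat_lit 53], [nat_lit 4], ⟨[nat_lit 0x2182019ca2b51cc522327d5b782e69], [nat_lit 174080, nat_lit 165632, nat_lit 163712, nat_lit 155904, nat_lit 152448, nat_lit 151280, nat_lit 146504, nat_lit 142192, nat_lit 138054, nat_lit 135059, nat_lit 344, nat_lit 4948, nat_lit 9752,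 nat_lit 12560, nat_lit 17248, nat_lit 21888, nat_lit 26368, nat_lit 29696, nat_lit 34304, nat_lit 37888, nat_lit 41700, nat_lit 38167, nat_lit 32883, nat_lit 28718, nat_lit 24639, nat_lit 20506, nat_lit 16428, nat_lit 12321, nat_lit 8193, nat_lit 4105]⟩⟩⟩⟩,
  .defn,
  .stab (nat_lit 566) tw0 ⟨(nat_lit 0), ⟨[nat_lit 73, nat_lit 70, nat_lit 69, nat_lit 69, nat_lit 73, nat_lit 46, nat_lit 73, nat_lit 47, nat_lit 47], [], (nat_lit 566), ⟨[nat_lit 76, nat_lit 68], [nat_lit 25, nat_lit 92], ⟨[nat_lit 0xa5a6579a2cab9005aa476a6e311030], [nat_lit 174080, nat_lit 168960, nat_lit 164864, nat_lit 160128, nat_lit 156864, nat_lit 152736, nat_lit 149024, nat_lit 144624, nat_lit 139960, nat_lit 136248, nat_lit 131374, nat_lit 1076, nat_lit 5120, nat_lit 8208, nat_lit 12304, nat_lit 17408, nat_lit 20864, nat_lit 24704, nat_lit 29696, nat_lit 33792, nat_lit 37888, nat_lit 41302, nat_lit 32827, nat_lit 28737, nat_lit 24767, nat_lit 20574, nat_lit 16392,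 nat_lit 12308, nat_lit 8200, nat_lit 128]⟩⟩⟩, ap0⟩]

theorem dcMr282 : Rng dcM 282 285 := Rng.of (l := dcMc282) (by decide +kernel)

def dcMc285 : List Cert := [.stab (nat_lit 566) tw0 ⟨(nat_lit 0), ⟨[nat_lit 72, nat_lit 49, nat_lit 68, nat_lit 47, nat_lit 67, nat_lit 69, nat_lit 48, nat_lit 70, nat_lit 66], [], (nat_lit 566), ⟨[nat_lit 73, nat_lit 58], [nat_lit 0, nat_lit 16, nat_lit 61], ⟨[nat_lit 0x126c439a0e7824152db3454a3a5e2c], [nat_lit 174080, nat_lit 164608, nat_lit 160256, nat_lit 156736, nat_lit 152832, nat_lit 149088, nat_lit 144688, nat_lit 140376, nat_lit 137214, nat_lit 132422, nat_lit 1354, nat_lit 4924, nat_lit 9648, nat_lit 12320, nat_lit 16416, nat_lit 21504, nat_lit 25088, nat_lit 29696, nat_lit 37888, nat_lit 41865, nat_lit 36928, nat_lit 33820, nat_lit 25092, nat_lit 20496, nat_lit 16424, nat_lit 12304, nat_lit 8259, nat_lit 4101, nat_lit 4]⟩⟩⟩, ap0⟩,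
  .stab (nat_lit 566) tw0 ⟨(nat_lit 0), ⟨[nat_lit 69, nat_lit 73, nat_lit 70, nat_lit 67, nat_lit 71, nat_lit 49, nat_lit 71, nat_lit 68, nat_lit 49], [], (nat_lit 566), ⟨[nat_lit 17, nat_lit 46], [nat_lit 1, nat_lit 70], ⟨[nat_lit 0x121f74d5816b8d05a8f3b4a8519011], [nat_lit 175104, nat_lit 169984, nat_lit 165632, nat_lit 162048, nat_lit 159168, nat_lit 155616, nat_lit 147888, nat_lit 143368, nat_lit 140364, nat_lit 138078, nat_lit 134275, nat_lit 1250, nat_lit 5856, nat_lit 9824, nat_lit 12800, nat_lit 16512, nat_lit 22080, nat_lit 26240, nat_lit 29184, nat_lit 33792, nat_lit 37888, nat_lit 41473, nat_lit 37375, nat_lit 33459, nat_lit 28769, nat_lit 24706, nat_lit 20565, nat_lit 16423, nat_lit 12289, nat_lit 8227]⟩⟩⟩, ap0⟩]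

theorem dcMr285 : Rng dcM 285 287 := Rng.of (l := dcMc285) (by decide +kernel)

def dcMc287 : List Cert := [.stab (nat_lit 566) tw0 ⟨(nat_lit 0), ⟨[nat_lit 66, nat_lit 73, nat_lit 66, nat_lit 68, nat_lit 49, nat_lit 49, nat_lit 69, nat_lit 68, nat_lit 70], [], (nat_lit 566), ⟨[nat_lit 0, nat_lit 16, nat_lit 48], [nat_lit 0, nat_lit 79, nat_lit 90], ⟨[nat_lit 0x14925b4dd13051052df53b684b8c0c], [nat_lit 173056, nat_lit 171520, nat_lit 164096, nat_lit 160384, nat_lit 158656, nat_lit 152192, nat_lit 147504, nat_lit 146992, nat_lit 142848, nat_lit 137766, nat_lit 133796, nat_lit 880, nat_lit 4684, nat_lit 9992, nat_lit 13168, nat_lit 16512, nat_lit 21312, nat_lit 24832, nat_lit 29184, nat_lit 33280, nat_lit 41382, nat_lit 36991, nat_lit 32996, nat_lit 28755, nat_lit 24736, nat_lit 20499, nat_lit 16416, nat_lit 12294, nat_lit 8201]⟩⟩⟩, ap0⟩,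
  .stab (nat_lit 566) tw0 ⟨(nat_lit 0), ⟨[nat_lit 73, nat_lit 47, nat_lit 69, nat_lit 69, nat_lit 49, nat_lit 46, nat_lit 48, nat_lit 73], [], (nat_lit 566), ⟨[nat_lit 0, nat_lit 14, nat_lit 49], [nat_lit 0, nat_lit 81, nat_lit 70], ⟨[nat_lit 0x21cc594e307b1ae52d28b569710c20], [nat_lit 173056, nat_lit 171520, nat_lit 164608, nat_lit 160256, nat_lit 158592, nat_lit 151648, nat_lit 147296, nat_lit 143136, nat_lit 139042, nat_lit 133450, nat_lit 2, nat_lit 4684, nat_lit 8768, nat_lit 12864, nat_lit 17952, nat_lit 20608, nat_lit 24704, nat_lit 28928, nat_lit 33280, nat_lit 41004, nat_lit 37325, nat_lit 33280, nat_lit 28960, nat_lit 24736, nat_lit 20608, nat_lit 16390, nat_lit 12289, nat_lit 8193, nat_lit 4097, nat_lit 2]⟩⟩⟩, ap0⟩,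
  .prod [] [nat_lit 287, nat_lit 287, nat_lit 287, nat_lit 287],
  .prod [] [nat_lit 284, nat_lit 286, nat_lit 288, nat_lit 284],
  .prod [] [nat_lit 286, nat_lit 286, nat_lit 284, nat_lit 290]]

theorem dcMr287 : Rng dcM 287 292 := Rng.of (l := dcMc287) (by decide +kernel)

def dcMc292 : List Cert := [.prod [] [nat_lit 284, nat_lit 289, nat_lit 284, nat_lit 284],
  .prod [] [nat_lit 287, nat_lit 288, nat_lit 289, nat_lit 284],
  .prod [] [nat_lit 292, nat_lit 289, nat_lit 288, nat_lit 286],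
  .prod [] [nat_lit 294, nat_lit 292, nat_lit 290, nat_lit 290],
  .edge ⟨[nat_lit 33, nat_lit 90], [nat_lit 0, nat_lit 81, nat_lit 50], ⟨[nat_lit 0x88e4035ea77b9495b5889c041a10b6], [nat_lit 175104, nat_lit 168448, nat_lit 165376, nat_lit 160512, nat_lit 159040, nat_lit 153760, nat_lit 149600, nat_lit 144736, nat_lit 142296, nat_lit 136432, nat_lit 133558, nat_lit 568, nat_lit 4224, nat_lit 9816, nat_lit 12816, nat_lit 16512, nat_lit 20608, nat_lit 25088, nat_lit 30208, nat_lit 34304, nat_lit 41173, nat_lit 37086, nat_lit 32917, nat_lit 28761, nat_lit 24634, nat_lit 20508, nat_lit 16391, nat_lit 12321, nat_lit 8193, nat_lit 4112, nat_lit 2]⟩⟩ ⟨(nat_lit 2), ⟨[nat_lit 146, nat_lit 149], [], (nat_lit 306), ⟨[nat_lit 0, nat_lit 35, nat_lit 69], [nat_lit 24, nat_lit 58], ⟨[nat_lit 0x75874241175a80d93c333958232635], [nat_lit 168960, nat_lit 164864, nat_lit 161664, nat_lit 158784, nat_lit 153440, nat_lit 147536, nat_lit 143800, nat_lit 139828,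 nat_lit 136892, nat_lit 132603, nat_lit 1698, nat_lit 6084, nat_lit 8704, nat_lit 13040, nat_lit 18176, nat_lit 20544, nat_lit 25088, nat_lit 29696, nat_lit 41664, nat_lit 37184, nat_lit 32861, nat_lit 29706, nat_lit 24595, nat_lit 16455, nat_lit 12418, nat_lit 8210, nat_lit 4100]⟩⟩⟩, ⟨[nat_lit 72, nat_lit 47, nat_lit 71, nat_lit 47, nat_lit 71, nat_lit 68], [], (nat_lit 566), ⟨[nat_lit 0, nat_lit 1, nat_lit 54], [nat_lit 0, nat_lit 31, nat_lit 47], ⟨[nat_lit 0x9a6b6901636a191092ee151e7518b0], [nat_lit 173056, nat_lit 169472, nat_lit 160128, nat_lit 157440, nat_lit 151584, nat_lit 147792, nat_lit 144608, nat_lit 140116, nat_lit 135996, nat_lit 133788, nat_lit 64, nat_lit 6096, nat_lit 9992, nat_lit 12912, nat_lit 18016, nat_lit 21440, nat_lit 25600, nat_lit 29696, nat_lit 41889, nat_lit 38394, nat_lit 33836, nat_lit 28793, nat_lit 24601, nat_lit 20625, nat_lit 16463, nat_lit 12322, nat_lit 8211, nat_lit 4105]⟩⟩⟩⟩]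

theorem dcMr292 : Rng dcM 292 297 := Rng.of (l := dcMc292) (by decide +kernel)

def dcMc297 : List Cert := [.edge ⟨[nat_lit 0, nat_lit 11, nat_lit 50], [nat_lit 0, nat_lit 27, nat_lit 47], ⟨[nat_lit 0x19ab07a4400da442b9075b233a2aed], [nat_lit 175104, nat_lit 168960, nat_lit 165888, nat_lit 163456, nat_lit 159488, nat_lit 153184, nat_lit 148992, nat_lit 144344, nat_lit 142152, nat_lit 138776, nat_lit 132090, nat_lit 1066, nat_lit 4964, nat_lit 9560, nat_lit 13072, nat_lit 16928, nat_lit 22208, nat_lit 25728, nat_lit 30208, nat_lit 33280, nat_lit 37888, nat_lit 41768, nat_lit 36910, nat_lit 33943, nat_lit 28770, nat_lit 24759, nat_lit 20482, nat_lit 16458, nat_lit 12309, nat_lit 8208, nat_lit 4100]⟩⟩ ⟨(nat_lit 2), ⟨[nat_lit 139, nat_lit 143, nat_lit 142, nat_lit 140, nat_lit 143], [], (nat_lit 332), ⟨[nat_lit 8, nat_lit 54], [nat_lit 0, nat_lit 1, nat_lit 70], ⟨[nat_lit 0x3cad37a2204b6015d14561aae1dc44], [nat_lit 168960, nat_lit 167424,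 nat_lit 161152, nat_lit 155840, nat_lit 151744, nat_lit 148288, nat_lit 144512, nat_lit 140340, nat_lit 135696, nat_lit 132897, nat_lit 1124, nat_lit 5676, nat_lit 10144, nat_lit 12544, nat_lit 16640, nat_lit 22144, nat_lit 25216, nat_lit 29440, nat_lit 41216, nat_lit 37120, nat_lit 33408, nat_lit 28971, nat_lit 24581, nat_lit 20487, nat_lit 16388, nat_lit 8209, nat_lit 4129, nat_lit 4]⟩⟩⟩, ⟨[nat_lit 142, nat_lit 146, nat_lit 145, nat_lit 144], [], (nat_lit 592), ⟨[nat_lit 0, nat_lit 80, nat_lit 93], [nat_lit 0, nat_lit 81, nat_lit 56], ⟨[nat_lit 0x5a0d0bccb4aa9e1102274b6c3611d2], [nat_lit 170496, nat_lit 164608, nat_lit 160256, nat_lit 158912, nat_lit 151808, nat_lit 148176, nat_lit 146136, nat_lit 141572, nat_lit 138140, nat_lit 134039, nat_lit 590, nat_lit 5768, nat_lit 10144, nat_lit 12304, nat_lit 20544, nat_lit 28928, nat_lit 34304, nat_lit 37888, nat_lit 41850, nat_lit 37249, nat_lit 32976, nat_lit 28750, nat_lit 24609, nat_lit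 20544, nat_lit 16393, nat_lit 12310, nat_lit 8202, nat_lit 4104]⟩⟩⟩⟩,
  .edge ⟨[nat_lit 4, nat_lit 64], [nat_lit 45, nat_lit 94], ⟨[nat_lit 0x518708a4e159640a36b79a044731f6], [nat_lit 174080, nat_lit 169472, nat_lit 166400, nat_lit 162304, nat_lit 158016, nat_lit 147888, nat_lit 143872, nat_lit 142992, nat_lit 139244, nat_lit 132889, nat_lit 1918, nat_lit 4780, nat_lit 9248, nat_lit 13552, nat_lit 16448, nat_lit 21056, nat_lit 25984, nat_lit 29952, nat_lit 41818, nat_lit 37115, nat_lit 33927, nat_lit 28734, nat_lit 24889, nat_lit 20574, nat_lit 16416, nat_lit 12294, nat_lit 8202]⟩⟩ ⟨(nat_lit 2), ⟨[nat_lit 142, nat_lit 140, nat_lit 149, nat_lit 139, nat_lit 140, nat_lit 139], [], (nat_lit 326), ⟨[nat_lit 88, nat_lit 92], [nat_lit 47], ⟨[nat_lit 0xb1140a8565122878b1af1dd26849d3], [nat_lit 173056, nat_lit 168960, nat_lit 165632, nat_lit 160640, nat_lit 156480, nat_lit 152160, nat_lit 148064, nat_lit 143792, nat_lit 141304, nat_lit 138548,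 nat_lit 131676, nat_lit 588, nat_lit 6068, nat_lit 10160, nat_lit 13744, nat_lit 18016, nat_lit 21696, nat_lit 24704, nat_lit 29696, nat_lit 33280, nat_lit 37888, nat_lit 41359, nat_lit 37032, nat_lit 33905, nat_lit 29034, nat_lit 24888, nat_lit 20757, nat_lit 16514, nat_lit 12325, nat_lit 8194]⟩⟩⟩, ⟨[nat_lit 145, nat_lit 148, nat_lit 145, nat_lit 139, nat_lit 142, nat_lit 144], [], (nat_lit 594), ⟨[nat_lit 9, nat_lit 54], [nat_lit 13, nat_lit 59], ⟨[nat_lit 0x3cac572081bc5ac33c695526b05602], [nat_lit 168960, nat_lit 167424, nat_lit 161152, nat_lit 157248, nat_lit 151680, nat_lit 149120, nat_lit 143632, nat_lit 140320, nat_lit 137084, nat_lit 132732, nat_lit 1766, nat_lit 5796, nat_lit 8448, nat_lit 13360, nat_lit 16576, nat_lit 22272, nat_lit 24704, nat_lit 28928, nat_lit 33792, nat_lit 41504, nat_lit 38256, nat_lit 33458, nat_lit 28761, nat_lit 24767, nat_lit 20550, nat_lit 16519, nat_lit 12309, nat_lit 8193, nat_lit 4105, nat_lit 4]⟩⟩⟩⟩]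

theorem dcMr297 : Rng dcM 297 299 := Rng.of (l := dcMc297) (by decide +kernel)

def dcMc299 : List Cert := [.edge tw0 ⟨(nat_lit 1), ⟨[nat_lit 172, nat_lit 212, nat_lit 172, nat_lit 212, nat_lit 173], [], (nat_lit 394), ⟨[nat_lit 0, nat_lit 35, nat_lit 51], [nat_lit 0, nat_lit 6, nat_lit 58], ⟨[nat_lit 0xac261b300f6c48a2ae4e388d71a688], [nat_lit 173056, nat_lit 168960, nat_lit 166144, nat_lit 161024, nat_lit 155712, nat_lit 153728, nat_lit 151024, nat_lit 146400, nat_lit 142024, nat_lit 138544, nat_lit 132578, nat_lit 1396, nat_lit 4380, nat_lit 9664, nat_lit 12320, nat_lit 17888, nat_lit 20736, nat_lit 26112, nat_lit 29440, nat_lit 33792, nat_lit 41446, nat_lit 36983, nat_lit 32950, nat_lit 28948, nat_lit 24618, nat_lit 20508, nat_lit 16431, nat_lit 12290, nat_lit 8224, nat_lit 16]⟩⟩⟩, ⟨[nat_lit 148, nat_lit 144, nat_lit 143, nat_lit 146], [], (nat_lit 592), ⟨[nat_lit 26, nat_lit 56], [nat_lit 0, nat_lit 77, nat_lit 51], ⟨[nat_lit 0x1901651ae982d826a26173ea7a4a25],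 [nat_lit 174080, nat_lit 169472, nat_lit 165632, nat_lit 161664, nat_lit 152864, nat_lit 147808, nat_lit 145176, nat_lit 139492, nat_lit 135774, nat_lit 132139, nat_lit 1054, nat_lit 5284, nat_lit 8952, nat_lit 13936, nat_lit 18080, nat_lit 21312, nat_lit 24832, nat_lit 34304, nat_lit 41976, nat_lit 38255, nat_lit 33942, nat_lit 29202, nat_lit 24844, nat_lit 20545, nat_lit 16902, nat_lit 12550, nat_lit 8321, nat_lit 4129, nat_lit 16]⟩⟩⟩⟩,
  .edge ⟨[nat_lit 0, nat_lit 21, nat_lit 51], [nat_lit 9, nat_lit 54], ⟨[nat_lit 0x3bc816010b9446d2a6b0558d3a3ae2], [nat_lit 173056, nat_lit 168960, nat_lit 165120, nat_lit 160768, nat_lit 155712, nat_lit 153024, nat_lit 149104, nat_lit 143448, nat_lit 139932, nat_lit 136890, nat_lit 134213, nat_lit 4, nat_lit 5688, nat_lit 10128, nat_lit 13840, nat_lit 17472, nat_lit 21440, nat_lit 25984, nat_lit 28928, nat_lit 33792, nat_lit 41960, nat_lit 37205, nat_lit 33472, nat_lit 28992, nat_lit 24631, nat_lit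 20511, nat_lit 16425, nat_lit 12322, nat_lit 8200, nat_lit 4112]⟩⟩ ⟨(nat_lit 2), ⟨[nat_lit 172, nat_lit 212, nat_lit 170, nat_lit 173, nat_lit 214], [], (nat_lit 386), ⟨[nat_lit 0, nat_lit 29, nat_lit 47], [nat_lit 0, nat_lit 88, nat_lit 69], ⟨[nat_lit 0x5496301a059b1c2b9d2da86347d888], [nat_lit 175104, nat_lit 165632, nat_lit 160640, nat_lit 157568, nat_lit 152864, nat_lit 148272, nat_lit 143912, nat_lit 140544, nat_lit 136040, nat_lit 132680, nat_lit 952, nat_lit 4112, nat_lit 9040, nat_lit 13152, nat_lit 16416, nat_lit 22336, nat_lit 24704, nat_lit 29184, nat_lit 33792, nat_lit 37888, nat_lit 41458, nat_lit 37056, nat_lit 32773, nat_lit 29248, nat_lit 25088, nat_lit 20488, nat_lit 17410, nat_lit 8448, nat_lit 5120, nat_lit 4]⟩⟩⟩, ⟨[nat_lit 150, nat_lit 147, nat_lit 143, nat_lit 146], [], (nat_lit 594), ⟨[nat_lit 20, nat_lit 64], [nat_lit 0, nat_lit 5, nat_lit 67], ⟨[nat_lit 0x956164392f62d4d01447a467709864], [nat_lit 174080, nat_lit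 171520, nat_lit 166656, nat_lit 163200, nat_lit 156288, nat_lit 154496, nat_lit 149568, nat_lit 145296, nat_lit 142960, nat_lit 136972, nat_lit 131551, nat_lit 1124, nat_lit 4104, nat_lit 9136, nat_lit 13312, nat_lit 17408, nat_lit 21824, nat_lit 25856, nat_lit 30464, nat_lit 33792, nat_lit 41476, nat_lit 37178, nat_lit 33421, nat_lit 29008, nat_lit 24715, nat_lit 20489, nat_lit 16389, nat_lit 12294, nat_lit 4104, nat_lit 16]⟩⟩⟩⟩]

theorem dcMr299 : Rng dcM 299 301 := Rng.of (l := dcMc299) (by decide +kernel)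

def dcMc301 : List Cert := [.edge ⟨[nat_lit 17, nat_lit 46], [nat_lit 79, nat_lit 53], ⟨[nat_lit 0xa38a7aca2f2400b65843984c96aae8], [nat_lit 169472, nat_lit 164352, nat_lit 160512, nat_lit 157504, nat_lit 152352, nat_lit 148448, nat_lit 144360, nat_lit 140316, nat_lit 135574, nat_lit 132774, nat_lit 1396, nat_lit 4964, nat_lit 9096, nat_lit 13456, nat_lit 17728, nat_lit 22400, nat_lit 24704, nat_lit 29184, nat_lit 41150, nat_lit 32856, nat_lit 29758, nat_lit 24864, nat_lit 20575, nat_lit 16458, nat_lit 12289, nat_lit 8224, nat_lit 4100, nat_lit 2]⟩⟩ ⟨(nat_lit 2), ⟨[nat_lit 224, nat_lit 259, nat_lit 266, nat_lit 262, nat_lit 224, nat_lit 222], [], (nat_lit 488), ⟨[nat_lit 0, nat_lit 82, nat_lit 49], [nat_lit 0, nat_lit 75, nat_lit 49], ⟨[nat_lit 0x81da81c677701962c96f12555a1026], [nat_lit 170496, nat_lit 164864, nat_lit 160256, nat_lit 157632, nat_lit 152000, nat_lit 149296, nat_lit 144160, nat_lit 139672, nat_lit 135730, nat_lit 132764,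 nat_lit 738, nat_lit 4608, nat_lit 9344, nat_lit 14144, nat_lit 17408, nat_lit 20672, nat_lit 25728, nat_lit 29184, nat_lit 33792, nat_lit 37888, nat_lit 41926, nat_lit 37293, nat_lit 33477, nat_lit 29212, nat_lit 24895, nat_lit 20625, nat_lit 16454, nat_lit 12544, nat_lit 8259, nat_lit 16]⟩⟩⟩, ⟨[nat_lit 149, nat_lit 143, nat_lit 149, nat_lit 140, nat_lit 144], [], (nat_lit 594), ⟨[nat_lit 0, nat_lit 81, nat_lit 94], [nat_lit 0, nat_lit 22, nat_lit 48], ⟨[nat_lit 0x6d857238a040d8a4d4d20c66f82e87], [nat_lit 174080, nat_lit 171008, nat_lit 166400, nat_lit 163456, nat_lit 157312, nat_lit 155232, nat_lit 150608, nat_lit 143936, nat_lit 143120, nat_lit 136820, nat_lit 132288, nat_lit 810, nat_lit 5112, nat_lit 10128, nat_lit 14112, nat_lit 17248, nat_lit 20544, nat_lit 26112, nat_lit 29440, nat_lit 33280, nat_lit 37888, nat_lit 41060, nat_lit 37348, nat_lit 33408, nat_lit 28785, nat_lit 24742, nat_lit 20499, nat_lit 16431, nat_lit 12304, nat_lit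 8194, nat_lit 4100]⟩⟩⟩⟩,
  .edge ⟨[nat_lit 0, nat_lit 20, nat_lit 70], [nat_lit 1, nat_lit 60], ⟨[nat_lit 0x9a61aef379632a9e8eb055061109], [nat_lit 173056, nat_lit 169984, nat_lit 166656, nat_lit 163072, nat_lit 158400, nat_lit 152160, nat_lit 149632, nat_lit 146080, nat_lit 139556, nat_lit 137500, nat_lit 131739, nat_lit 1928, nat_lit 4824, nat_lit 9200, nat_lit 13552, nat_lit 16448, nat_lit 20608, nat_lit 24832, nat_lit 29952, nat_lit 37888, nat_lit 41640, nat_lit 38295, nat_lit 33401, nat_lit 29801, nat_lit 24605, nat_lit 21021, nat_lit 16463, nat_lit 12353, nat_lit 8202, nat_lit 64]⟩⟩ ⟨(nat_lit 2), ⟨[nat_lit 260, nat_lit 266, nat_lit 265], [], (nat_lit 473), ⟨[nat_lit 0, nat_lit 80, nat_lit 48], [nat_lit 0, nat_lit 25, nat_lit 49], ⟨[nat_lit 0x6c18691c43b5c937053502df454505], [nat_lit 174080, nat_lit 165120, nat_lit 161920, nat_lit 156224, nat_lit 151584, nat_lit 149824, nat_lit 145560, nat_lit 141880, nat_lit 138296, nat_lit 133269,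 nat_lit 1054, nat_lit 4824, nat_lit 8456, nat_lit 12800, nat_lit 17344, nat_lit 20800, nat_lit 25344, nat_lit 29696, nat_lit 37888, nat_lit 41347, nat_lit 37261, nat_lit 33401, nat_lit 28713, nat_lit 24893, nat_lit 20616, nat_lit 16645, nat_lit 12357, nat_lit 8201, nat_lit 5120]⟩⟩⟩, ⟨[nat_lit 146, nat_lit 142, nat_lit 140, nat_lit 150, nat_lit 150, nat_lit 139], [], (nat_lit 594), ⟨[nat_lit 84, nat_lit 94], [nat_lit 0, nat_lit 22, nat_lit 58], ⟨[nat_lit 0x55e96b0f210cd02de36221535ba81], [nat_lit 173056, nat_lit 168448, nat_lit 167168, nat_lit 159872, nat_lit 156480, nat_lit 155072, nat_lit 149824, nat_lit 146864, nat_lit 142848, nat_lit 138884, nat_lit 132125, nat_lit 588, nat_lit 4380, nat_lit 10128, nat_lit 13264, nat_lit 17760, nat_lit 22272, nat_lit 25600, nat_lit 29440, nat_lit 33280, nat_lit 41506, nat_lit 38287, nat_lit 32839, nat_lit 29260, nat_lit 24707, nat_lit 20488, nat_lit 16397, nat_lit 12305, nat_lit 8194, nat_lit 16]⟩⟩⟩⟩]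

theorem dcMr301 : Rng dcM 301 303 := Rng.of (l := dcMc301) (by decide +kernel)

def dcMc303 : List Cert := [.edge ⟨[nat_lit 0, nat_lit 18, nat_lit 57], [nat_lit 0, nat_lit 84, nat_lit 49], ⟨[nat_lit 0x9a88b1592d43a81bcaa688c07830af], [nat_lit 171008, nat_lit 165632, nat_lit 163712, nat_lit 156736, nat_lit 155424, nat_lit 150688, nat_lit 146216, nat_lit 141032, nat_lit 136098, nat_lit 134807, nat_lit 1488, nat_lit 4540, nat_lit 8928, nat_lit 14112, nat_lit 16544, nat_lit 21952, nat_lit 24960, nat_lit 29696, nat_lit 41633, nat_lit 37363, nat_lit 32969, nat_lit 28977, nat_lit 24748, nat_lit 20631, nat_lit 16394, nat_lit 12289, nat_lit 8224, nat_lit 4100]⟩⟩ ⟨(nat_lit 2), ⟨[nat_lit 266, nat_lit 260, nat_lit 261, nat_lit 222, nat_lit 225], [], (nat_lit 504), ⟨[nat_lit 0, nat_lit 34, nat_lit 69], [nat_lit 35, nat_lit 68], ⟨[nat_lit 0x1cd6e0b531a5ea79094c214d60220f], [nat_lit 173056, nat_lit 169472, nat_lit 167424, nat_lit 163200, nat_lit 159488,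 nat_lit 154784, nat_lit 148288, nat_lit 145448, nat_lit 141964, nat_lit 135738, nat_lit 133923, nat_lit 1668, nat_lit 4476, nat_lit 10112, nat_lit 13920, nat_lit 17600, nat_lit 21952, nat_lit 25088, nat_lit 29696, nat_lit 33280, nat_lit 41865, nat_lit 38042, nat_lit 32843, nat_lit 29696, nat_lit 24834, nat_lit 20509, nat_lit 16388, nat_lit 12292, nat_lit 8201, nat_lit 4352]⟩⟩⟩, ⟨[nat_lit 150, nat_lit 143, nat_lit 149, nat_lit 146, nat_lit 139, nat_lit 140], [], (nat_lit 594), ⟨[nat_lit 73, nat_lit 46], [nat_lit 0, nat_lit 19, nat_lit 61], ⟨[nat_lit 0x362311d36b95415a24c74086ad1f3], [nat_lit 174080, nat_lit 168960, nat_lit 165632, nat_lit 162944, nat_lit 157504, nat_lit 153120, nat_lit 150144, nat_lit 147112, nat_lit 143268, nat_lit 138632, nat_lit 133984, nat_lit 1318, nat_lit 4340, nat_lit 9184, nat_lit 12688, nat_lit 17792, nat_lit 21504, nat_lit 25344, nat_lit 28928, nat_lit 33280, nat_lit 41321, nat_lit 37275, nat_lit 33011, nat_lit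 28729, nat_lit 24594, nat_lit 20497, nat_lit 16424, nat_lit 12292, nat_lit 8201, nat_lit 4161, nat_lit 2]⟩⟩⟩⟩,
  .edge ⟨[nat_lit 74, nat_lit 64], [nat_lit 39, nat_lit 61], ⟨[nat_lit 0xbd0255566f940673304d7597120109], [nat_lit 175104, nat_lit 171008, nat_lit 165376, nat_lit 163584, nat_lit 158464, nat_lit 155264, nat_lit 148768, nat_lit 143888, nat_lit 141188, nat_lit 137834, nat_lit 133755, nat_lit 804, nat_lit 5316, nat_lit 8736, nat_lit 14192, nat_lit 16896, nat_lit 22272, nat_lit 29184, nat_lit 33280, nat_lit 37888, nat_lit 41422, nat_lit 37116, nat_lit 32954, nat_lit 29047, nat_lit 24726, nat_lit 20761, nat_lit 16456, nat_lit 12352, nat_lit 8194, nat_lit 4097]⟩⟩ ⟨(nat_lit 2), ⟨[nat_lit 263, nat_lit 261, nat_lit 266, nat_lit 225, nat_lit 225, nat_lit 223], [], (nat_lit 496), ⟨[nat_lit 0, nat_lit 41, nat_lit 54], [nat_lit 77, nat_lit 46], ⟨[nat_lit 0x310e952d05838567c680bb032acc6d], [nat_lit 173056, nat_lit 169984, nat_lit 167168, nat_lit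 162432, nat_lit 158592, nat_lit 152736, nat_lit 151088, nat_lit 145800, nat_lit 140908, nat_lit 138612, nat_lit 132420, nat_lit 566, nat_lit 5072, nat_lit 9384, nat_lit 12400, nat_lit 16480, nat_lit 20800, nat_lit 25088, nat_lit 34304, nat_lit 37888, nat_lit 41052, nat_lit 37146, nat_lit 32837, nat_lit 28776, nat_lit 24754, nat_lit 20636, nat_lit 16394, nat_lit 12309, nat_lit 8200]⟩⟩⟩, ⟨[nat_lit 224, nat_lit 222, nat_lit 225, nat_lit 225, nat_lit 259, nat_lit 222], [], (nat_lit 606), ⟨[nat_lit 0, nat_lit 84, nat_lit 60], [nat_lit 0, nat_lit 72, nat_lit 51], ⟨[nat_lit 0xa3d57681220d6651d8f183a4b33088], [nat_lit 168960, nat_lit 164352, nat_lit 160000, nat_lit 157120, nat_lit 152544, nat_lit 147952, nat_lit 144904, nat_lit 140500, nat_lit 135944, nat_lit 134104, nat_lit 256, nat_lit 4396, nat_lit 8928, nat_lit 12512, nat_lit 16640, nat_lit 21568, nat_lit 25216, nat_lit 30208, nat_lit 33280, nat_lit 37888, nat_lit 41941, nat_lit 37131, nat_lit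 32769, nat_lit 29780, nat_lit 25648, nat_lit 20561, nat_lit 16391, nat_lit 12802, nat_lit 8208, nat_lit 4100]⟩⟩⟩⟩]

theorem dcMr303 : Rng dcM 303 305 := Rng.of (l := dcMc303) (by decide +kernel)

def dcMc305 : List Cert := [.edge ⟨[nat_lit 11, nat_lit 93], [nat_lit 0, nat_lit 32, nat_lit 64], ⟨[nat_lit 0x554ecb150f300900a66b90a971b9b1], [nat_lit 173056, nat_lit 169472, nat_lit 164864, nat_lit 162304, nat_lit 156800, nat_lit 147840, nat_lit 145216, nat_lit 139960, nat_lit 137148, nat_lit 132484, nat_lit 1004, nat_lit 4924, nat_lit 10032, nat_lit 12416, nat_lit 18304, nat_lit 21952, nat_lit 26496, nat_lit 29184, nat_lit 34304, nat_lit 37888, nat_lit 41588, nat_lit 38388, nat_lit 32854, nat_lit 28768, nat_lit 24712, nat_lit 20554, nat_lit 16393, nat_lit 4129, nat_lit 2]⟩⟩ ⟨(nat_lit 2), ⟨[nat_lit 225, nat_lit 264, nat_lit 263, nat_lit 259, nat_lit 261, nat_lit 223, nat_lit 222], [], (nat_lit 492), ⟨[nat_lit 0, nat_lit 83, nat_lit 93], [nat_lit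 39, nat_lit 89], ⟨[nat_lit 0x639a558ef0506d3a8a488a414790e6], [nat_lit 168448, nat_lit 164096, nat_lit 160896, nat_lit 157056, nat_lit 153024, nat_lit 148624, nat_lit 146848, nat_lit 140984, nat_lit 136330, nat_lit 131454, nat_lit 158, nat_lit 5276, nat_lit 8288, nat_lit 14144, nat_lit 16416, nat_lit 20608, nat_lit 25600, nat_lit 29696, nat_lit 33792, nat_lit 41458, nat_lit 37375, nat_lit 33463, nat_lit 29236, nat_lit 24707, nat_lit 21015, nat_lit 16903, nat_lit 12304, nat_lit 8707, nat_lit 4224, nat_lit 2]⟩⟩⟩, ⟨[nat_lit 223, nat_lit 264, nat_lit 264, nat_lit 262, nat_lit 222, nat_lit 223], [], (nat_lit 606), ⟨[nat_lit 79, nat_lit 56], [nat_lit 0, nat_lit 25], ⟨[nat_lit 0xa0556740f528cc85bd826c89704d31], [nat_lit 164096, nat_lit 160768, nat_lit 158272, nat_lit 151744, nat_lit 147568, nat_lit 144000, nat_lit 140444, nat_lit 135392, nat_lit 131860, nat_lit 78, nat_lit 5508, nat_lit 9144, nat_lit 13696, nat_lit 17760, nat_lit 21056, nat_lit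 25088, nat_lit 30208, nat_lit 33280, nat_lit 37888, nat_lit 41536, nat_lit 37297, nat_lit 32796, nat_lit 29249, nat_lit 24629, nat_lit 20550, nat_lit 16420, nat_lit 12291, nat_lit 8210, nat_lit 4]⟩⟩⟩⟩]

theorem dcMr305 : Rng dcM 305 306 := Rng.of (l := dcMc305) (by decide +kernel)

def dcMc306 : List Cert := [.edge ⟨[nat_lit 0, nat_lit 72, nat_lit 59], [nat_lit 12, nat_lit 57], ⟨[nat_lit 0x33165ab954b822478c489b5323d830], [nat_lit 175104, nat_lit 169984, nat_lit 167168, nat_lit 162944, nat_lit 157056, nat_lit 155392, nat_lit 150000, nat_lit 144872, nat_lit 142072, nat_lit 136494, nat_lit 132462, nat_lit 760, nat_lit 6068, nat_lit 10224, nat_lit 13424, nat_lit 16992, nat_lit 20608, nat_lit 24704, nat_lit 40993, nat_lit 37371, nat_lit 32964, nat_lit 28758, nat_lit 24612, nat_lit 20544, nat_lit 16514, nat_lit 12804, nat_lit 8193, nat_lit 4]⟩⟩ ⟨(nat_lit 2), ⟨[nat_lit 224, nat_lit 260, nat_lit 224, nat_lit 222, nat_lit 224, nat_lit 260], [],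 (nat_lit 507), ⟨[nat_lit 40, nat_lit 90], [nat_lit 31, nat_lit 94], ⟨[nat_lit 0xa95a4a046e4dd4c9da4f11a0b41c11], [nat_lit 164352, nat_lit 161024, nat_lit 151904, nat_lit 149312, nat_lit 144320, nat_lit 139788, nat_lit 138546, nat_lit 131355, nat_lit 512, nat_lit 4608, nat_lit 9880, nat_lit 12496, nat_lit 16640, nat_lit 20928, nat_lit 24832, nat_lit 28928, nat_lit 34304, nat_lit 41474, nat_lit 38360, nat_lit 33440, nat_lit 29208, nat_lit 24764, nat_lit 20556, nat_lit 16426, nat_lit 12306, nat_lit 8193, nat_lit 4097, nat_lit 2]⟩⟩⟩, ⟨[nat_lit 266, nat_lit 259, nat_lit 265, nat_lit 222, nat_lit 222, nat_lit 261], [], (nat_lit 608), ⟨[nat_lit 0, nat_lit 11, nat_lit 70], [nat_lit 0, nat_lit 35, nat_lit 91], ⟨[nat_lit 0x445e1a92d49096e60e6a4b410b98a7], [nat_lit 173056, nat_lit 168448, nat_lit 164608, nat_lit 160640, nat_lit 156736, nat_lit 153536, nat_lit 149584, nat_lit 145200, nat_lit 139512, nat_lit 136212, nat_lit 132835, nat_lit 1166, nat_lit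 4216, nat_lit 8432, nat_lit 12528, nat_lit 16448, nat_lit 20608, nat_lit 24704, nat_lit 29696, nat_lit 34304, nat_lit 37888, nat_lit 41787, nat_lit 36895, nat_lit 32909, nat_lit 28759, nat_lit 24624, nat_lit 20554, nat_lit 12321, nat_lit 8323, nat_lit 4105]⟩⟩⟩⟩,
  .edge ⟨[nat_lit 0, nat_lit 5, nat_lit 48], [nat_lit 86, nat_lit 94], ⟨[nat_lit 0xaaa137311712e802d9260c5a493c67], [nat_lit 168448, nat_lit 167168, nat_lit 161664, nat_lit 155840, nat_lit 154784, nat_lit 151248, nat_lit 145408, nat_lit 142172, nat_lit 138616, nat_lit 131270, nat_lit 1440, nat_lit 4404, nat_lit 9912, nat_lit 20864, nat_lit 26240, nat_lit 29952, nat_lit 33792, nat_lit 37888, nat_lit 41482, nat_lit 38144, nat_lit 33280, nat_lit 28799, nat_lit 24615, nat_lit 20566, nat_lit 16394, nat_lit 12290, nat_lit 8257]⟩⟩ ⟨(nat_lit 2), ⟨[nat_lit 223, nat_lit 264, nat_lit 224, nat_lit 223, nat_lit 224, nat_lit 259], [], (nat_lit 507), ⟨[nat_lit 14, nat_lit 89], [nat_lit 1, nat_lit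 92], ⟨[nat_lit 0x68dc5206b43092abb170b45e804cf2], [nat_lit 168448, nat_lit 165376, nat_lit 161536, nat_lit 157440, nat_lit 152192, nat_lit 147472, nat_lit 143464, nat_lit 140896, nat_lit 137290, nat_lit 132873, nat_lit 1182, nat_lit 8776, nat_lit 12720, nat_lit 18368, nat_lit 20608, nat_lit 24704, nat_lit 28928, nat_lit 37888, nat_lit 41474, nat_lit 37111, nat_lit 32962, nat_lit 29016, nat_lit 24864, nat_lit 20544, nat_lit 16520, nat_lit 12423, nat_lit 8202, nat_lit 4097, nat_lit 2]⟩⟩⟩, ⟨[nat_lit 263, nat_lit 259, nat_lit 265, nat_lit 225, nat_lit 259, nat_lit 259], [], (nat_lit 606), ⟨[nat_lit 0, nat_lit 13, nat_lit 50], [nat_lit 13, nat_lit 93], ⟨[nat_lit 0x14dc6aad09baa96830a08bc6793481], [nat_lit 173056, nat_lit 170496, nat_lit 166400, nat_lit 163328, nat_lit 157888, nat_lit 153152, nat_lit 150096, nat_lit 145648, nat_lit 141032, nat_lit 138986, nat_lit 132521, nat_lit 494, nat_lit 5064, nat_lit 9664, nat_lit 13248, nat_lit 16736,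 nat_lit 21824, nat_lit 25472, nat_lit 29184, nat_lit 41562, nat_lit 38248, nat_lit 33447, nat_lit 29039, nat_lit 24710, nat_lit 20498, nat_lit 16417, nat_lit 12358, nat_lit 8257, nat_lit 4]⟩⟩⟩⟩]

theorem dcMr306 : Rng dcM 306 308 := Rng.of (l := dcMc306) (by decide +kernel)

def dcMc308 : List Cert := [.edge ⟨[nat_lit 42, nat_lit 64], [nat_lit 2, nat_lit 69], ⟨[nat_lit 0x1025161dc4986034a2b455aeb694cf], [nat_lit 175104, nat_lit 164864, nat_lit 162048, nat_lit 157056, nat_lit 152896, nat_lit 150288, nat_lit 146984, nat_lit 141656, nat_lit 137796, nat_lit 133170, nat_lit 1014, nat_lit 5656, nat_lit 10032, nat_lit 13152, nat_lit 17856, nat_lit 21760, nat_lit 24960, nat_lit 29184, nat_lit 37888, nat_lit 41710, nat_lit 37005, nat_lit 32809, nat_lit 29247, nat_lit 24601, nat_lit 20635, nat_lit 16450, nat_lit 12290, nat_lit 8704, nat_lit 4105]⟩⟩ ⟨(nat_lit 2), ⟨[nat_lit 222, nat_lit 261, nat_lit 223, nat_lit 259, nat_lit 265], [], (nat_lit 514),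 ⟨[nat_lit 0, nat_lit 82, nat_lit 57], [nat_lit 42, nat_lit 91], ⟨[nat_lit 0x2216009dec541b7354744bad1988b2], [nat_lit 174080, nat_lit 169472, nat_lit 164608, nat_lit 162560, nat_lit 157312, nat_lit 152480, nat_lit 149616, nat_lit 146496, nat_lit 142100, nat_lit 137846, nat_lit 135081, nat_lit 1182, nat_lit 5148, nat_lit 13536, nat_lit 17600, nat_lit 21888, nat_lit 26112, nat_lit 30464, nat_lit 33792, nat_lit 37888, nat_lit 41973, nat_lit 38268, nat_lit 33876, nat_lit 28987, nat_lit 25622, nat_lit 20545, nat_lit 16523, nat_lit 12418, nat_lit 8193, nat_lit 4129]⟩⟩⟩, ⟨[nat_lit 145, nat_lit 147, nat_lit 148, nat_lit 149, nat_lit 144, nat_lit 139], [], (nat_lit 594), ⟨[nat_lit 0, nat_lit 78, nat_lit 66], [nat_lit 37, nat_lit 90], ⟨[nat_lit 0xad1c55b0ca944ef04d161902d12617], [nat_lit 165888, nat_lit 161152, nat_lit 153984, nat_lit 149536, nat_lit 146576, nat_lit 142572, nat_lit 137914, nat_lit 132484, nat_lit 1354, nat_lit 4476, nat_lit 9400,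 nat_lit 13552, nat_lit 17152, nat_lit 22016, nat_lit 24704, nat_lit 29952, nat_lit 33280, nat_lit 41682, nat_lit 37314, nat_lit 33335, nat_lit 28676, nat_lit 24619, nat_lit 20553, nat_lit 16652, nat_lit 12294, nat_lit 8202]⟩⟩⟩⟩,
  .edge ⟨[nat_lit 0, nat_lit 82, nat_lit 63], [nat_lit 74, nat_lit 93], ⟨[nat_lit 0x98524a31af75af540a279146a3400b], [nat_lit 169472, nat_lit 166912, nat_lit 160640, nat_lit 156352, nat_lit 155360, nat_lit 151248, nat_lit 145696, nat_lit 141780, nat_lit 138898, nat_lit 133009, nat_lit 986, nat_lit 5016, nat_lit 8928, nat_lit 12480, nat_lit 17408, nat_lit 21376, nat_lit 25600, nat_lit 33792, nat_lit 41158, nat_lit 37321, nat_lit 33450, nat_lit 28686, nat_lit 24622, nat_lit 20568, nat_lit 16425, nat_lit 12305, nat_lit 8194, nat_lit 4101, nat_lit 2]⟩⟩ ⟨(nat_lit 2), ⟨[nat_lit 261, nat_lit 262, nat_lit 259, nat_lit 261, nat_lit 264, nat_lit 261], [], (nat_lit 516), ⟨[nat_lit 73, nat_lit 91], [nat_lit 34, nat_lit 67],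 ⟨[nat_lit 0x35867924af620919c0140ddae5a855], [nat_lit 174080, nat_lit 167168, nat_lit 162688, nat_lit 158656, nat_lit 153280, nat_lit 148048, nat_lit 143736, nat_lit 142960, nat_lit 138106, nat_lit 131609, nat_lit 804, nat_lit 5568, nat_lit 10216, nat_lit 13872, nat_lit 18336, nat_lit 20992, nat_lit 26240, nat_lit 30464, nat_lit 34304, nat_lit 41871, nat_lit 36990, nat_lit 32990, nat_lit 29049, nat_lit 24856, nat_lit 20501, nat_lit 16386, nat_lit 12546, nat_lit 8201]⟩⟩⟩, ⟨[nat_lit 259, nat_lit 224, nat_lit 224, nat_lit 266, nat_lit 262], [], (nat_lit 616), ⟨[nat_lit 35, nat_lit 89], [nat_lit 39, nat_lit 57], ⟨[nat_lit 0x63a5634cf503d650c05742a3468d24], [nat_lit 173056, nat_lit 170496, nat_lit 165632, nat_lit 160896, nat_lit 159104, nat_lit 152320, nat_lit 148720, nat_lit 145568, nat_lit 142264, nat_lit 137800, nat_lit 134910, nat_lit 606, nat_lit 5588, nat_lit 9832, nat_lit 12304, nat_lit 16416, nat_lit 21760, nat_lit 25216, nat_lit 29184,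 nat_lit 34304, nat_lit 37888, nat_lit 41236, nat_lit 37232, nat_lit 32902, nat_lit 28983, nat_lit 24580, nat_lit 20482, nat_lit 16385, nat_lit 12294, nat_lit 8203, nat_lit 4097]⟩⟩⟩⟩]

theorem dcMr308 : Rng dcM 308 310 := Rng.of (l := dcMc308) (by decide +kernel)

def dcMc310 : List Cert := [.edge ⟨[nat_lit 42, nat_lit 57], [nat_lit 0, nat_lit 75, nat_lit 69], ⟨[nat_lit 0x63668a19c3796e012e01512474dab1], [nat_lit 174080, nat_lit 169472, nat_lit 165120, nat_lit 160768, nat_lit 157504, nat_lit 151744, nat_lit 149024, nat_lit 143904, nat_lit 140372, nat_lit 135384, nat_lit 132370, nat_lit 1250, nat_lit 5208, nat_lit 9112, nat_lit 12800, nat_lit 17824, nat_lit 21184, nat_lit 26240, nat_lit 28928, nat_lit 33792, nat_lit 37888, nat_lit 41200, nat_lit 36972, nat_lit 32826, nat_lit 29808, nat_lit 25124, nat_lit 20762, nat_lit 16655, nat_lit 12358, nat_lit 8201, nat_lit 4100, nat_lit 2]⟩⟩ ⟨(nat_lit 2), ⟨[nat_lit 261, nat_lit 263, nat_lit 224, nat_lit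 261, nat_lit 223], [], (nat_lit 540), ⟨[nat_lit 41, nat_lit 60], [nat_lit 37, nat_lit 46], ⟨[nat_lit 0x71e6041ae468cb284535584567d14c], [nat_lit 175104, nat_lit 169472, nat_lit 165376, nat_lit 161536, nat_lit 157568, nat_lit 151776, nat_lit 149184, nat_lit 144176, nat_lit 140004, nat_lit 136596, nat_lit 132377, nat_lit 1580, nat_lit 5436, nat_lit 9392, nat_lit 13152, nat_lit 16832, nat_lit 21504, nat_lit 25984, nat_lit 41838, nat_lit 37911, nat_lit 33354, nat_lit 28788, nat_lit 24592, nat_lit 20509, nat_lit 16424, nat_lit 8209, nat_lit 4097, nat_lit 2]⟩⟩⟩, ⟨[nat_lit 266, nat_lit 265, nat_lit 260, nat_lit 259, nat_lit 223, nat_lit 222], [], (nat_lit 606), ⟨[nat_lit 83, nat_lit 52], [nat_lit 72, nat_lit 67], ⟨[nat_lit 0xb00ac336a3852ea88448990e97b972], [nat_lit 173056, nat_lit 169472, nat_lit 167680, nat_lit 162304, nat_lit 158720, nat_lit 153632, nat_lit 148272, nat_lit 146584, nat_lit 141456, nat_lit 136122, nat_lit 133861, nat_lit 492,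 nat_lit 5080, nat_lit 10160, nat_lit 14176, nat_lit 17280, nat_lit 20864, nat_lit 26240, nat_lit 29696, nat_lit 41873, nat_lit 38391, nat_lit 32769, nat_lit 29787, nat_lit 24617, nat_lit 20574, nat_lit 16424, nat_lit 12289, nat_lit 8193, nat_lit 4097]⟩⟩⟩⟩,
  .edge ⟨[nat_lit 0, nat_lit 27, nat_lit 92], [nat_lit 11, nat_lit 70], ⟨[nat_lit 0x12412446b49a8c77903665ca38396d], [nat_lit 171520, nat_lit 161152, nat_lit 155776, nat_lit 151840, nat_lit 148272, nat_lit 145144, nat_lit 139640, nat_lit 136140, nat_lit 133075, nat_lit 1004, nat_lit 4568, nat_lit 9648, nat_lit 12352, nat_lit 18304, nat_lit 25728, nat_lit 29184, nat_lit 34304, nat_lit 41177, nat_lit 37351, nat_lit 33410, nat_lit 24837, nat_lit 20544, nat_lit 17409, nat_lit 12304]⟩⟩ ⟨(nat_lit 2), ⟨[nat_lit 259, nat_lit 260, nat_lit 265, nat_lit 264, nat_lit 265, nat_lit 222], [], (nat_lit 540), ⟨[nat_lit 0, nat_lit 86, nat_lit 52], [nat_lit 0, nat_lit 15, nat_lit 93], ⟨[nat_lit 0x12808736714ac23b94d5a58e4641f2],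 [nat_lit 173056, nat_lit 169472, nat_lit 166656, nat_lit 163072, nat_lit 158848, nat_lit 155520, nat_lit 147760, nat_lit 146208, nat_lit 141652, nat_lit 135762, nat_lit 134628, nat_lit 492, nat_lit 5716, nat_lit 9056, nat_lit 14176, nat_lit 22272, nat_lit 25088, nat_lit 29696, nat_lit 41780, nat_lit 37014, nat_lit 32826, nat_lit 29264, nat_lit 24711, nat_lit 20763, nat_lit 16385, nat_lit 12291, nat_lit 8323, nat_lit 4104]⟩⟩⟩, ⟨[nat_lit 223, nat_lit 265, nat_lit 225, nat_lit 266, nat_lit 263, nat_lit 223], [], (nat_lit 610), ⟨[nat_lit 0, nat_lit 5, nat_lit 48], [nat_lit 0, nat_lit 16, nat_lit 64], ⟨[nat_lit 0x680347d8e583a7734869522ac8904b], [nat_lit 173056, nat_lit 171520, nat_lit 164608, nat_lit 162688, nat_lit 157568, nat_lit 155520, nat_lit 151136, nat_lit 146088, nat_lit 139320, nat_lit 136236, nat_lit 133157, nat_lit 354, nat_lit 5084, nat_lit 8208, nat_lit 13328, nat_lit 17120, nat_lit 20608, nat_lit 25216, nat_lit 29952, nat_lit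 34304, nat_lit 37888, nat_lit 41207, nat_lit 37098, nat_lit 33021, nat_lit 28939, nat_lit 24631, nat_lit 20544, nat_lit 16389, nat_lit 12546, nat_lit 8195, nat_lit 4097]⟩⟩⟩⟩]

theorem dcMr310 : Rng dcM 310 312 := Rng.of (l := dcMc310) (by decide +kernel)

def dcMc312 : List Cert := [.edge ⟨[nat_lit 0, nat_lit 32, nat_lit 65], [nat_lit 0, nat_lit 33, nat_lit 92], ⟨[nat_lit 0x11df701acc4c2325aa680ba8428db5], [nat_lit 174080, nat_lit 168448, nat_lit 165632, nat_lit 160384, nat_lit 156416, nat_lit 153088, nat_lit 147824, nat_lit 145008, nat_lit 140412, nat_lit 135548, nat_lit 132658, nat_lit 738, nat_lit 5900, nat_lit 10072, nat_lit 12560, nat_lit 17408, nat_lit 21120, nat_lit 26496, nat_lit 30208, nat_lit 33792, nat_lit 37888, nat_lit 41724, nat_lit 38371, nat_lit 28704, nat_lit 25614, nat_lit 20569, nat_lit 12323, nat_lit 8707, nat_lit 4097]⟩⟩ ⟨(nat_lit 2), ⟨[nat_lit 259, nat_lit 261, nat_lit 264, nat_lit 222, nat_lit 222], [], (nat_lit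 558), ⟨[nat_lit 0, nat_lit 10, nat_lit 65], [nat_lit 71, nat_lit 65], ⟨[nat_lit 0x88c424cdb2c700de6a7d2a53ba51], [nat_lit 174080, nat_lit 169472, nat_lit 166912, nat_lit 163072, nat_lit 158080, nat_lit 152896, nat_lit 149328, nat_lit 144224, nat_lit 142188, nat_lit 138392, nat_lit 133009, nat_lit 1694, nat_lit 5572, nat_lit 10160, nat_lit 14064, nat_lit 16800, nat_lit 20992, nat_lit 25984, nat_lit 33792, nat_lit 37888, nat_lit 41506, nat_lit 37920, nat_lit 32847, nat_lit 28703, nat_lit 24842, nat_lit 21514, nat_lit 16525, nat_lit 12323, nat_lit 8194, nat_lit 8]⟩⟩⟩, ⟨[nat_lit 264, nat_lit 259, nat_lit 262, nat_lit 265, nat_lit 225], [], (nat_lit 616), ⟨[nat_lit 44, nat_lit 64], [nat_lit 15, nat_lit 66], ⟨[nat_lit 0xad86139671525af7218b91890102f4], [nat_lit 168448, nat_lit 163712, nat_lit 156352, nat_lit 152960, nat_lit 148592, nat_lit 144448, nat_lit 139364, nat_lit 136322, nat_lit 131378, nat_lit 1108, nat_lit 4128, nat_lit 9424, nat_lit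 14112, nat_lit 16448, nat_lit 20608, nat_lit 25088, nat_lit 29184, nat_lit 33792, nat_lit 41600, nat_lit 38235, nat_lit 33473, nat_lit 28752, nat_lit 24720, nat_lit 20482, nat_lit 16512, nat_lit 12550, nat_lit 8193, nat_lit 4129, nat_lit 2]⟩⟩⟩⟩,
  .edge ⟨[nat_lit 0, nat_lit 35, nat_lit 53], [nat_lit 81, nat_lit 63], ⟨[nat_lit 0x684858d92653c48bacf3a55c383240], [nat_lit 173056, nat_lit 171008, nat_lit 165376, nat_lit 161792, nat_lit 156864, nat_lit 154080, nat_lit 150384, nat_lit 145512, nat_lit 140840, nat_lit 136510, nat_lit 134176, nat_lit 4412, nat_lit 10160, nat_lit 13040, nat_lit 17056, nat_lit 20608, nat_lit 25600, nat_lit 29952, nat_lit 33792, nat_lit 41462, nat_lit 36931, nat_lit 33900, nat_lit 29015, nat_lit 24585, nat_lit 21535, nat_lit 16385, nat_lit 12289, nat_lit 8322, nat_lit 4100, nat_lit 2]⟩⟩ ⟨(nat_lit 2), ⟨[nat_lit 259, nat_lit 259, nat_lit 222, nat_lit 264, nat_lit 262], [], (nat_lit 516), ⟨[nat_lit 0, nat_lit 88, nat_lit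 62], [nat_lit 0, nat_lit 38, nat_lit 61], ⟨[nat_lit 0xab991401e698834258b05dd3251da3], [nat_lit 173056, nat_lit 160640, nat_lit 156864, nat_lit 151584, nat_lit 147920, nat_lit 144680, nat_lit 140096, nat_lit 136666, nat_lit 134912, nat_lit 8, nat_lit 5488, nat_lit 8680, nat_lit 12896, nat_lit 17184, nat_lit 20544, nat_lit 25600, nat_lit 29184, nat_lit 37888, nat_lit 41692, nat_lit 37153, nat_lit 33352, nat_lit 29803, nat_lit 24832, nat_lit 20489, nat_lit 16526, nat_lit 12307, nat_lit 8194, nat_lit 4100]⟩⟩⟩, ⟨[nat_lit 223, nat_lit 263, nat_lit 222, nat_lit 265, nat_lit 259, nat_lit 224], [], (nat_lit 624), ⟨[nat_lit 0, nat_lit 40, nat_lit 94], [nat_lit 0, nat_lit 10, nat_lit 57], ⟨[nat_lit 0x892ed04d322d20f405ccb2c7530947], [nat_lit 171008, nat_lit 165376, nat_lit 161152, nat_lit 157888, nat_lit 153376, nat_lit 148848, nat_lit 147408, nat_lit 143224, nat_lit 138320, nat_lit 133891, nat_lit 1178, nat_lit 5884, nat_lit 9216, nat_lit 13936,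 nat_lit 18112, nat_lit 22272, nat_lit 26496, nat_lit 29440, nat_lit 37888, nat_lit 41523, nat_lit 38380, nat_lit 33416, nat_lit 28717, nat_lit 24834, nat_lit 20494, nat_lit 16396, nat_lit 12305, nat_lit 8200, nat_lit 4128, nat_lit 4]⟩⟩⟩⟩]

theorem dcMr312 : Rng dcM 312 314 := Rng.of (l := dcMc312) (by decide +kernel)

def dcMc314 : List Cert := [.edge tw0 ⟨(nat_lit 1), ⟨[], [nat_lit 261, nat_lit 259, nat_lit 224, nat_lit 222, nat_lit 266], (nat_lit 543), ⟨[nat_lit 0, nat_lit 80, nat_lit 63], [nat_lit 0, nat_lit 6, nat_lit 89], ⟨[nat_lit 0x591b1004549bd063c12cbd6c3748aa], [nat_lit 169472, nat_lit 164096, nat_lit 161536, nat_lit 157568, nat_lit 153024, nat_lit 148128, nat_lit 143368, nat_lit 140280, nat_lit 138324, nat_lit 131594, nat_lit 1808, nat_lit 4224, nat_lit 10160, nat_lit 18336, nat_lit 20992, nat_lit 25728, nat_lit 28928, nat_lit 34304, nat_lit 37888, nat_lit 41425, nat_lit 37270, nat_lit 32908, nat_lit 28967, nat_lit 25651, nat_lit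 20544, nat_lit 16908, nat_lit 12308, nat_lit 8200]⟩⟩⟩, ⟨[], [], (nat_lit 616), ⟨[nat_lit 0, nat_lit 9, nat_lit 54], [nat_lit 0, nat_lit 11, nat_lit 54], ⟨[nat_lit 0xb451763e0b2a89369a8018532155c7], [nat_lit 175104, nat_lit 170496, nat_lit 166400, nat_lit 161536, nat_lit 158592, nat_lit 154048, nat_lit 147760, nat_lit 145776, nat_lit 140104, nat_lit 135492, nat_lit 131672, nat_lit 1014, nat_lit 4148, nat_lit 8824, nat_lit 12912, nat_lit 17664, nat_lit 21120, nat_lit 26240, nat_lit 29696, nat_lit 33792, nat_lit 41894, nat_lit 37080, nat_lit 32859, nat_lit 28778, nat_lit 24740, nat_lit 20487, nat_lit 16392, nat_lit 12308, nat_lit 8193, nat_lit 4129]⟩⟩⟩⟩,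
  .edge ⟨[nat_lit 1, nat_lit 93], [nat_lit 7, nat_lit 46], ⟨[nat_lit 0x718eb246a1b510f2de420258383553], [nat_lit 171520, nat_lit 164864, nat_lit 160640, nat_lit 157440, nat_lit 152288, nat_lit 148288, nat_lit 143872, nat_lit 140308, nat_lit 136512, nat_lit 132730, nat_lit 78, nat_lit 5884, nat_lit 9560, nat_lit 12352, nat_lit 16480, nat_lit 21440, nat_lit 25088, nat_lit 30464, nat_lit 33280, nat_lit 37888, nat_lit 41754, nat_lit 37013, nat_lit 32956, nat_lit 28738, nat_lit 24614, nat_lit 20568, nat_lit 16422, nat_lit 12304, nat_lit 8195, nat_lit 4100]⟩⟩ ⟨(nat_lit 2), ⟨[nat_lit 225, nat_lit 259, nat_lit 259, nat_lit 222, nat_lit 266, nat_lit 224, nat_lit 222], [], (nat_lit 516), ⟨[nat_lit 50], [nat_lit 28, nat_lit 64], ⟨[nat_lit 0xaa883049a2a4d96299f183969b8507], [nat_lit 168448, nat_lit 160768, nat_lit 157120, nat_lit 153024, nat_lit 148784, nat_lit 143472, nat_lit 141076, nat_lit 136128, nat_lit 131807, nat_lit 1182, nat_lit 4352, nat_lit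 9664, nat_lit 12768, nat_lit 16928, nat_lit 20928, nat_lit 25984, nat_lit 29184, nat_lit 33280, nat_lit 41428, nat_lit 37331, nat_lit 33491, nat_lit 29257, nat_lit 24580, nat_lit 20488, nat_lit 16524, nat_lit 12291, nat_lit 8208, nat_lit 4100]⟩⟩⟩, ⟨[nat_lit 263, nat_lit 265, nat_lit 222, nat_lit 260], [], (nat_lit 608), ⟨[nat_lit 4], [nat_lit 0, nat_lit 30, nat_lit 64], ⟨[nat_lit 0x2a5f230cf69c28062224a894bb85cd], [nat_lit 164864, nat_lit 159872, nat_lit 157632, nat_lit 153440, nat_lit 148368, nat_lit 146016, nat_lit 139300, nat_lit 135898, nat_lit 132277, nat_lit 484, nat_lit 6068, nat_lit 10168, nat_lit 13712, nat_lit 17344, nat_lit 21696, nat_lit 26112, nat_lit 29184, nat_lit 34304, nat_lit 37888, nat_lit 41652, nat_lit 38043, nat_lit 32904, nat_lit 28947, nat_lit 24637, nat_lit 20549, nat_lit 16422, nat_lit 12289, nat_lit 8194, nat_lit 4100]⟩⟩⟩⟩]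

theorem dcMr314 : Rng dcM 314 316 := Rng.of (l := dcMc314) (by decide +kernel)

def dcMc316 : List Cert := [.edge ⟨[nat_lit 0, nat_lit 5], [nat_lit 79, nat_lit 93], ⟨[nat_lit 0x2d9517ca013380760d2b136b4ba093], [nat_lit 173056, nat_lit 169472, nat_lit 165120, nat_lit 161408, nat_lit 156032, nat_lit 152224, nat_lit 147792, nat_lit 145360, nat_lit 139832, nat_lit 137070, nat_lit 131442, nat_lit 590, nat_lit 5672, nat_lit 9640, nat_lit 13872, nat_lit 16416, nat_lit 20992, nat_lit 26496, nat_lit 30208, nat_lit 33280, nat_lit 41883, nat_lit 37312, nat_lit 33426, nat_lit 29253, nat_lit 24872, nat_lit 20570, nat_lit 16458, nat_lit 12353, nat_lit 8321, nat_lit 4105]⟩⟩ ⟨(nat_lit 2), ⟨[nat_lit 259, nat_lit 266, nat_lit 222, nat_lit 263, nat_lit 266], [], (nat_lit 542), ⟨[nat_lit 86, nat_lit 70], [nat_lit 10, nat_lit 67], ⟨[nat_lit 0x7b5cc08c4094e11310e55a548bd2b6], [nat_lit 173056, nat_lit 168960, nat_lit 164608, nat_lit 161024, nat_lit 156352,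 nat_lit 152832, nat_lit 147888, nat_lit 147176, nat_lit 140364, nat_lit 137032, nat_lit 131330, nat_lit 688, nat_lit 5208, nat_lit 9952, nat_lit 12320, nat_lit 17312, nat_lit 21376, nat_lit 24704, nat_lit 29184, nat_lit 33280, nat_lit 37888, nat_lit 41046, nat_lit 36940, nat_lit 32808, nat_lit 28755, nat_lit 24746, nat_lit 20494, nat_lit 16449, nat_lit 12293, nat_lit 8201, nat_lit 4097]⟩⟩⟩, ⟨[nat_lit 264, nat_lit 224, nat_lit 260, nat_lit 260, nat_lit 261, nat_lit 224], [], (nat_lit 612), ⟨[nat_lit 80, nat_lit 58], [nat_lit 15, nat_lit 46], ⟨[nat_lit 0xa59756983323a4283c658b0e045d49], [nat_lit 174080, nat_lit 169472, nat_lit 164352, nat_lit 160000, nat_lit 156224, nat_lit 151648, nat_lit 149392, nat_lit 145176, nat_lit 139992, nat_lit 135610, nat_lit 131903, nat_lit 724, nat_lit 4548, nat_lit 9328, nat_lit 13344, nat_lit 17216, nat_lit 21120, nat_lit 25856, nat_lit 37888, nat_lit 41882, nat_lit 38124, nat_lit 33526, nat_lit 28703, nat_lit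 25145, nat_lit 20499, nat_lit 16422, nat_lit 12359, nat_lit 8208, nat_lit 4097, nat_lit 2]⟩⟩⟩⟩,
  .edge ⟨[nat_lit 0, nat_lit 5, nat_lit 89], [nat_lit 85, nat_lit 49], ⟨[nat_lit 0x154ed78ee592e710d9844a150301d4], [nat_lit 173056, nat_lit 161024, nat_lit 157376, nat_lit 152256, nat_lit 147680, nat_lit 145480, nat_lit 139712, nat_lit 132625, nat_lit 32, nat_lit 4228, nat_lit 8680, nat_lit 13312, nat_lit 16896, nat_lit 21504, nat_lit 24704, nat_lit 29696, nat_lit 37888, nat_lit 41224, nat_lit 37301, nat_lit 33453, nat_lit 28759, nat_lit 24735, nat_lit 20493, nat_lit 16527, nat_lit 8224, nat_lit 4225, nat_lit 4]⟩⟩ ⟨(nat_lit 2), ⟨[nat_lit 222, nat_lit 261, nat_lit 263, nat_lit 261, nat_lit 261, nat_lit 260], [], (nat_lit 492), ⟨[nat_lit 24, nat_lit 91], [nat_lit 22, nat_lit 55], ⟨[nat_lit 0x30864656ee4c971014e17da8d9aa08], [nat_lit 174080, nat_lit 171008, nat_lit 165120, nat_lit 163584, nat_lit 158400, nat_lit 154752, nat_lit 149360, nat_lit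 143488, nat_lit 139320, nat_lit 139002, nat_lit 133978, nat_lit 2018, nat_lit 5708, nat_lit 9560, nat_lit 12816, nat_lit 16448, nat_lit 20672, nat_lit 24832, nat_lit 33280, nat_lit 41758, nat_lit 38100, nat_lit 32855, nat_lit 28769, nat_lit 24637, nat_lit 20556, nat_lit 16419, nat_lit 12353, nat_lit 8200, nat_lit 4113]⟩⟩⟩, ⟨[nat_lit 264, nat_lit 225, nat_lit 261, nat_lit 262, nat_lit 263], [], (nat_lit 606), ⟨[nat_lit 57], [nat_lit 22, nat_lit 56], ⟨[nat_lit 0x418f6ae86712e950a4889c65b4c35], [nat_lit 173056, nat_lit 170496, nat_lit 167680, nat_lit 163328, nat_lit 158144, nat_lit 151968, nat_lit 151152, nat_lit 146336, nat_lit 140148, nat_lit 137430, nat_lit 133091, nat_lit 1336, nat_lit 6016, nat_lit 9384, nat_lit 13264, nat_lit 17440, nat_lit 22336, nat_lit 25344, nat_lit 28928, nat_lit 34304, nat_lit 41141, nat_lit 37098, nat_lit 32906, nat_lit 28984, nat_lit 25120, nat_lit 20608, nat_lit 16424, nat_lit 12291, nat_lit 8193, nat_lit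 4105]⟩⟩⟩⟩]

theorem dcMr316 : Rng dcM 316 318 := Rng.of (l := dcMc316) (by decide +kernel)

def dcMc318 : List Cert := [.edge ⟨[nat_lit 0, nat_lit 35, nat_lit 63], [nat_lit 79, nat_lit 94], ⟨[nat_lit 0x82682030277ad04abae554ac39b626], [nat_lit 168448, nat_lit 166400, nat_lit 160128, nat_lit 157248, nat_lit 154272, nat_lit 151232, nat_lit 146616, nat_lit 143120, nat_lit 138962, nat_lit 132534, nat_lit 1516, nat_lit 4924, nat_lit 8344, nat_lit 13312, nat_lit 16512, nat_lit 22400, nat_lit 28928, nat_lit 33280, nat_lit 37888, nat_lit 41474, nat_lit 36900, nat_lit 32898, nat_lit 28751, nat_lit 24597, nat_lit 21018, nat_lit 16420, nat_lit 12311, nat_lit 8202, nat_lit 4]⟩⟩ ⟨(nat_lit 2), ⟨[nat_lit 266, nat_lit 225, nat_lit 225, nat_lit 224, nat_lit 222, nat_lit 259], [], (nat_lit 492), ⟨[nat_lit 0, nat_lit 39, nat_lit 58], [nat_lit 0, nat_lit 87, nat_lit 94], ⟨[nat_lit 0xa4e4d191700a0b139aefab92ab3002], [nat_lit 173056, nat_lit 164352, nat_lit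 160640, nat_lit 157184, nat_lit 152288, nat_lit 150672, nat_lit 143688, nat_lit 139916, nat_lit 136128, nat_lit 132488, nat_lit 4, nat_lit 4408, nat_lit 8208, nat_lit 12976, nat_lit 17536, nat_lit 21760, nat_lit 25728, nat_lit 29184, nat_lit 41524, nat_lit 38342, nat_lit 32840, nat_lit 28750, nat_lit 24592, nat_lit 21019, nat_lit 16399, nat_lit 12293, nat_lit 8194, nat_lit 4101, nat_lit 2]⟩⟩⟩, ⟨[nat_lit 225, nat_lit 225, nat_lit 261, nat_lit 265, nat_lit 260, nat_lit 222], [], (nat_lit 628), ⟨[nat_lit 21, nat_lit 65], [nat_lit 0, nat_lit 22, nat_lit 63], ⟨[nat_lit 0x346ef4b46ca8a8b9a8102a0e1259d2], [nat_lit 166912, nat_lit 162304, nat_lit 157760, nat_lit 153920, nat_lit 149168, nat_lit 145768, nat_lit 142616, nat_lit 135536, nat_lit 133945, nat_lit 492, nat_lit 6068, nat_lit 9040, nat_lit 14192, nat_lit 17632, nat_lit 21696, nat_lit 25856, nat_lit 28928, nat_lit 33792, nat_lit 41217, nat_lit 37017, nat_lit 32833, nat_lit 28726, nat_lit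 24858, nat_lit 20505, nat_lit 16430, nat_lit 12320, nat_lit 4112]⟩⟩⟩⟩,
  .edge ⟨[nat_lit 0, nat_lit 19, nat_lit 46], [nat_lit 75, nat_lit 49], ⟨[nat_lit 0x12cb5450e19b2f67446069206929e9], [nat_lit 164864, nat_lit 161536, nat_lit 157184, nat_lit 155104, nat_lit 149008, nat_lit 144136, nat_lit 141160, nat_lit 135706, nat_lit 132860, nat_lit 724, nat_lit 4780, nat_lit 9664, nat_lit 13968, nat_lit 17888, nat_lit 25600, nat_lit 29184, nat_lit 33792, nat_lit 41936, nat_lit 38103, nat_lit 33490, nat_lit 28981, nat_lit 24734, nat_lit 20491, nat_lit 16462, nat_lit 12323, nat_lit 8257, nat_lit 4101, nat_lit 4]⟩⟩ ⟨(nat_lit 2), ⟨[nat_lit 260, nat_lit 264, nat_lit 222, nat_lit 222, nat_lit 262], [], (nat_lit 542), ⟨[nat_lit 83, nat_lit 61], [nat_lit 39, nat_lit 53], ⟨[nat_lit 0x2d04862a69b49f768203a9c2b71a24], [nat_lit 175104, nat_lit 171008, nat_lit 166400, nat_lit 160512, nat_lit 156992, nat_lit 151584, nat_lit 150400, nat_lit 144784, nat_lit 140996,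 nat_lit 137634, nat_lit 133835, nat_lit 1794, nat_lit 4568, nat_lit 9136, nat_lit 13216, nat_lit 16896, nat_lit 20800, nat_lit 26240, nat_lit 33792, nat_lit 37888, nat_lit 41372, nat_lit 37324, nat_lit 33461, nat_lit 29287, nat_lit 24870, nat_lit 20634, nat_lit 16387, nat_lit 12354, nat_lit 8200, nat_lit 4112]⟩⟩⟩, ⟨[nat_lit 224, nat_lit 225, nat_lit 260, nat_lit 266, nat_lit 224, nat_lit 223], [], (nat_lit 626), ⟨[nat_lit 0, nat_lit 44, nat_lit 48], [nat_lit 0, nat_lit 28, nat_lit 48], ⟨[nat_lit 0x8202959dd78bda0908c5612ca1d2b3], [nat_lit 174080, nat_lit 168960, nat_lit 164352, nat_lit 163712, nat_lit 157120, nat_lit 152544, nat_lit 150672, nat_lit 145768, nat_lit 142308, nat_lit 138288, nat_lit 133927, nat_lit 622, nat_lit 4424, nat_lit 9560, nat_lit 14064, nat_lit 18112, nat_lit 22272, nat_lit 25856, nat_lit 30208, nat_lit 37888, nat_lit 41697, nat_lit 37101, nat_lit 32945, nat_lit 28790, nat_lit 24724, nat_lit 20487, nat_lit 16388,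 nat_lit 12289, nat_lit 8209, nat_lit 4129, nat_lit 4]⟩⟩⟩⟩]

theorem dcMr318 : Rng dcM 318 320 := Rng.of (l := dcMc318) (by decide +kernel)

def dcMc320 : List Cert := [.edge ⟨[nat_lit 0, nat_lit 85, nat_lit 49], [nat_lit 41, nat_lit 55], ⟨[nat_lit 0x6588932df5152f11b5d28290129c13], [nat_lit 173056, nat_lit 171008, nat_lit 165888, nat_lit 163712, nat_lit 158976, nat_lit 151712, nat_lit 149504, nat_lit 147144, nat_lit 139868, nat_lit 137266, nat_lit 132919, nat_lit 404, nat_lit 4684, nat_lit 10176, nat_lit 13568, nat_lit 18112, nat_lit 21568, nat_lit 25344, nat_lit 28928, nat_lit 37888, nat_lit 41565, nat_lit 37310, nat_lit 32918, nat_lit 28694, nat_lit 25648, nat_lit 20561, nat_lit 16392, nat_lit 12310, nat_lit 8203, nat_lit 4097]⟩⟩ ⟨(nat_lit 2), ⟨[nat_lit 265, nat_lit 260, nat_lit 223, nat_lit 262, nat_lit 224, nat_lit 224], [], (nat_lit 516), ⟨[nat_lit 5, nat_lit 65], [nat_lit 0, nat_lit 88, nat_lit 47], ⟨[nat_lit 0x60ef45cac62a23501c8d141f372921],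 [nat_lit 168448, nat_lit 164608, nat_lit 160128, nat_lit 157376, nat_lit 153344, nat_lit 147872, nat_lit 144264, nat_lit 140504, nat_lit 137206, nat_lit 132372, nat_lit 1808, nat_lit 5572, nat_lit 9664, nat_lit 13024, nat_lit 16992, nat_lit 25344, nat_lit 29952, nat_lit 33792, nat_lit 41792, nat_lit 38153, nat_lit 34045, nat_lit 28680, nat_lit 25097, nat_lit 16395, nat_lit 12311, nat_lit 8195, nat_lit 4]⟩⟩⟩, ⟨[nat_lit 223, nat_lit 264, nat_lit 265, nat_lit 222, nat_lit 223], [], (nat_lit 626), ⟨[nat_lit 34, nat_lit 59], [nat_lit 0, nat_lit 26, nat_lit 61], ⟨[nat_lit 0xa1656838cd52cf300e240d52c43c57], [nat_lit 174080, nat_lit 171520, nat_lit 167424, nat_lit 163456, nat_lit 156736, nat_lit 154560, nat_lit 150032, nat_lit 143848, nat_lit 141556, nat_lit 137156, nat_lit 132370, nat_lit 960, nat_lit 4408, nat_lit 8408, nat_lit 13920, nat_lit 18336, nat_lit 20864, nat_lit 25600, nat_lit 29696, nat_lit 34304, nat_lit 41175, nat_lit 37132, nat_lit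 32828, nat_lit 28714, nat_lit 24601, nat_lit 20501, nat_lit 16386, nat_lit 12292, nat_lit 4112]⟩⟩⟩⟩,
  .edge ⟨[nat_lit 33, nat_lit 70], [nat_lit 87, nat_lit 90], ⟨[nat_lit 0x55ae4951a1a8a0f498034167173167], [nat_lit 173056, nat_lit 168960, nat_lit 165632, nat_lit 161664, nat_lit 157504, nat_lit 155264, nat_lit 148736, nat_lit 143752, nat_lit 139824, nat_lit 135458, nat_lit 132944, nat_lit 1214, nat_lit 5112, nat_lit 8928, nat_lit 13984, nat_lit 16896, nat_lit 20992, nat_lit 25856, nat_lit 28928, nat_lit 34304, nat_lit 41376, nat_lit 36907, nat_lit 32904, nat_lit 28753, nat_lit 24634, nat_lit 20496, nat_lit 16416, nat_lit 12358, nat_lit 8194]⟩⟩ ⟨(nat_lit 2), ⟨[nat_lit 259, nat_lit 265, nat_lit 225, nat_lit 260, nat_lit 224, nat_lit 259], [], (nat_lit 492), ⟨[nat_lit 27, nat_lit 92], [nat_lit 0, nat_lit 82, nat_lit 94], ⟨[nat_lit 0x7900e65d306a2923096aad8678cc25], [nat_lit 174080, nat_lit 168448, nat_lit 164608, nat_lit 161280, nat_lit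 158016, nat_lit 154048, nat_lit 149616, nat_lit 145136, nat_lit 142356, nat_lit 135292, nat_lit 134928, nat_lit 1268, nat_lit 4224, nat_lit 8584, nat_lit 13024, nat_lit 18112, nat_lit 20672, nat_lit 24704, nat_lit 29184, nat_lit 34304, nat_lit 37888, nat_lit 41924, nat_lit 38187, nat_lit 33866, nat_lit 28713, nat_lit 24577, nat_lit 20628, nat_lit 16423, nat_lit 12307, nat_lit 8227, nat_lit 4097]⟩⟩⟩, ⟨[nat_lit 262, nat_lit 264, nat_lit 264, nat_lit 266], [], (nat_lit 618), ⟨[nat_lit 0, nat_lit 14, nat_lit 47], [nat_lit 75, nat_lit 70], ⟨[nat_lit 0x49873bc9d0281117d14b3d5a40b2c2], [nat_lit 168448, nat_lit 165376, nat_lit 161280, nat_lit 156288, nat_lit 151648, nat_lit 149136, nat_lit 144464, nat_lit 140404, nat_lit 136128, nat_lit 132152, nat_lit 700, nat_lit 4408, nat_lit 12592, nat_lit 20672, nat_lit 30208, nat_lit 33792, nat_lit 41895, nat_lit 37236, nat_lit 33366, nat_lit 29814, nat_lit 20507, nat_lit 12290, nat_lit 8194, nat_lit 4101,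 nat_lit 2]⟩⟩⟩⟩]

theorem dcMr320 : Rng dcM 320 322 := Rng.of (l := dcMc320) (by decide +kernel)

def dcMc322 : List Cert := [.edge ⟨[nat_lit 84, nat_lit 46], [nat_lit 34, nat_lit 68], ⟨[nat_lit 0x230e62b9ed45a23aa810a0973bc921], [nat_lit 175104, nat_lit 170496, nat_lit 167168, nat_lit 162688, nat_lit 156480, nat_lit 154912, nat_lit 150896, nat_lit 143856, nat_lit 141884, nat_lit 136306, nat_lit 131486, nat_lit 1142, nat_lit 4720, nat_lit 10160, nat_lit 13376, nat_lit 16992, nat_lit 22400, nat_lit 26112, nat_lit 33792, nat_lit 41936, nat_lit 38268, nat_lit 33940, nat_lit 29250, nat_lit 24705, nat_lit 20555, nat_lit 16397, nat_lit 12306, nat_lit 8]⟩⟩ ⟨(nat_lit 2), ⟨[nat_lit 284, nat_lit 291, nat_lit 288], [nat_lit 287], (nat_lit 599), ⟨[nat_lit 2], [nat_lit 19, nat_lit 64], ⟨[nat_lit 0x63d17126a1995a0845763ba43228d4], [nat_lit 174080, nat_lit 168960, nat_lit 167168, nat_lit 162048, nat_lit 158464, nat_lit 152480, nat_lit 148384, nat_lit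 145192, nat_lit 143304, nat_lit 138604, nat_lit 131999, nat_lit 1842, nat_lit 4548, nat_lit 8672, nat_lit 12304, nat_lit 17408, nat_lit 21120, nat_lit 26368, nat_lit 29184, nat_lit 34304, nat_lit 41814, nat_lit 38277, nat_lit 32829, nat_lit 29265, nat_lit 25143, nat_lit 20549, nat_lit 16394, nat_lit 12304, nat_lit 8259, nat_lit 4]⟩⟩⟩, ⟨[nat_lit 172, nat_lit 212, nat_lit 171, nat_lit 173, nat_lit 171, nat_lit 170], [], (nat_lit 394), ⟨[nat_lit 22, nat_lit 51], [nat_lit 6, nat_lit 53], ⟨[nat_lit 0x2baca2512f1caf56343312e08344e0], [nat_lit 169472, nat_lit 165376, nat_lit 160896, nat_lit 157120, nat_lit 155072, nat_lit 148896, nat_lit 144712, nat_lit 140944, nat_lit 136726, nat_lit 131912, nat_lit 32, nat_lit 5276, nat_lit 8616, nat_lit 13152, nat_lit 18400, nat_lit 20992, nat_lit 25600, nat_lit 29952, nat_lit 33280, nat_lit 37888, nat_lit 41646, nat_lit 37114, nat_lit 32819, nat_lit 29210, nat_lit 24712, nat_lit 20487, nat_lit 16643, nat_lit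 12352, nat_lit 8227, nat_lit 4097]⟩⟩⟩⟩,
  .edge ⟨[nat_lit 0, nat_lit 31, nat_lit 91], [nat_lit 0, nat_lit 22, nat_lit 46], ⟨[nat_lit 0x3b948b4d23130c1a81722b6977c091], [nat_lit 173056, nat_lit 169984, nat_lit 164096, nat_lit 160128, nat_lit 158720, nat_lit 151840, nat_lit 149104, nat_lit 145696, nat_lit 141356, nat_lit 137734, nat_lit 133484, nat_lit 78, nat_lit 5160, nat_lit 8616, nat_lit 13664, nat_lit 16896, nat_lit 21568, nat_lit 25856, nat_lit 29952, nat_lit 33792, nat_lit 41898, nat_lit 37191, nat_lit 33350, nat_lit 29771, nat_lit 24712, nat_lit 20552, nat_lit 16386, nat_lit 12289, nat_lit 8706, nat_lit 4113]⟩⟩ ⟨(nat_lit 2), ⟨[nat_lit 294, nat_lit 287, nat_lit 287, nat_lit 292], [nat_lit 286, nat_lit 286, nat_lit 295, nat_lit 289], (nat_lit 631), ⟨[nat_lit 35, nat_lit 64], [nat_lit 15, nat_lit 55], ⟨[nat_lit 0x79d0e6487782a245d2c66cc35480a2], [nat_lit 173056, nat_lit 165632, nat_lit 160768, nat_lit 156928, nat_lit 152064, nat_lit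 148048, nat_lit 144312, nat_lit 139688, nat_lit 135984, nat_lit 132854, nat_lit 4, nat_lit 5444, nat_lit 12416, nat_lit 17408, nat_lit 21376, nat_lit 25472, nat_lit 30208, nat_lit 33792, nat_lit 37888, nat_lit 41359, nat_lit 37000, nat_lit 33935, nat_lit 28742, nat_lit 24625, nat_lit 20500, nat_lit 16423, nat_lit 12802, nat_lit 8193, nat_lit 4104, nat_lit 4]⟩⟩⟩, ⟨[nat_lit 264, nat_lit 222, nat_lit 265, nat_lit 261, nat_lit 264], [], (nat_lit 610), ⟨[nat_lit 82, nat_lit 60], [nat_lit 0, nat_lit 73, nat_lit 63], ⟨[nat_lit 0x3098b0d4121bca873636ba55099c94], [nat_lit 175104, nat_lit 169984, nat_lit 165632, nat_lit 162560, nat_lit 159552, nat_lit 154400, nat_lit 149280, nat_lit 144016, nat_lit 139320, nat_lit 138894, nat_lit 135086, nat_lit 1730, nat_lit 5064, nat_lit 8824, nat_lit 13296, nat_lit 16448, nat_lit 20544, nat_lit 28928, nat_lit 37888, nat_lit 40983, nat_lit 37274, nat_lit 33352, nat_lit 28784, nat_lit 24609, nat_lit 20499, nat_lit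 16418, nat_lit 12806, nat_lit 4128]⟩⟩⟩⟩]

theorem dcMr322 : Rng dcM 322 324 := Rng.of (l := dcMc322) (by decide +kernel)

theorem dcMR1 : Rng dcM 192 324 := (dcMr192.trans (dcMr193.trans (dcMr194.trans (dcMr196.trans (dcMr198.trans (dcMr200.trans (dcMr202.trans (dcMr203.trans (dcMr204.trans (dcMr205.trans (dcMr207.trans (dcMr208.trans (dcMr209.trans (dcMr211.trans (dcMr215.trans (dcMr221.trans (dcMr224.trans (dcMr228.trans (dcMr234.trans (dcMr236.trans (dcMr238.trans (dcMr240.trans (dcMr242.trans (dcMr243.trans (dcMr244.trans (dcMr245.trans (dcMr246.trans (dcMr247.trans (dcMr249.trans (dcMr250.trans (dcMr251.trans (dcMr252.trans (dcMr253.trans (dcMr255.trans (dcMr257.trans (dcMr258.trans (dcMr261.trans (dcMr267.trans (dcMr268.trans (dcMr270.trans (dcMr272.trans (dcMr274.trans (dcMr275.trans (dcMr276.trans (dcMr278.trans (dcMr280.trans (dcMr282.trans (dcMr285.trans (dcMr287.trans (dcMr292.trans (dcMr297.trans (dcMr299.trans (dcMr301.trans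 (dcMr303.trans (dcMr305.trans (dcMr306.trans (dcMr308.trans (dcMr310.trans (dcMr312.trans (dcMr314.trans (dcMr316.trans (dcMr318.trans (dcMr320.trans dcMr322)))))))))))))))))))))))))))))))))))))))))))))))))))))))))))))))

end

end CF.Mon
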