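import Cfsg.Agent.Mon.DcMC

set_option autoImplicit false
set_option maxRecDepth 100000

namespace CF.Mon

open CF.Comp

noncomputable section

def dcMc324 : List Cert := [.edge ⟨[nat_lit 20, nat_lit 65], [nat_lit 0, nat_lit 88, nat_lit 53], ⟨[nat_lit 0x5bc912d84705612a31c39b4c8486ea], [nat_lit 169984, nat_lit 165120, nat_lit 163584, nat_lit 156480, nat_lit 154528, nat_lit 149696, nat_lit 147176, nat_lit 139436, nat_lit 135874, nat_lit 133886, nat_lit 1808, nat_lit 4964, nat_lit 9928, nat_lit 13056, nat_lit 16672, nat_lit 21632, nat_lit 25856, nat_lit 29696, nat_lit 37888, nat_lit 41788, nat_lit 37093, nat_lit 32801, nat_lit 29260, nat_lit 24578, nat_lit 20489, nat_lit 17413, nat_lit 12291, nat_lit 8195, nat_lit 4101, nat_lit 4]⟩⟩ ⟨(nat_lit 2), ⟨[nat_lit 284, nat_lit 294, nat_lit 284, nat_lit 292, nat_lit 284], [nat_lit 293, nat_lit 292, nat_lit 291, nat_lit 290, nat_lit 284], (nat_lit 629), ⟨[nat_lit 0, nat_lit 4, nat_lit 89], [nat_lit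 1, nat_lit 67], ⟨[nat_lit 0x384ad059f4809d15dc9362123548d5], [nat_lit 173056, nat_lit 171008, nat_lit 165632, nat_lit 162304, nat_lit 154784, nat_lit 150112, nat_lit 145424, nat_lit 140380, nat_lit 135198, nat_lit 133204, nat_lit 738, nat_lit 5208, nat_lit 10064, nat_lit 13808, nat_lit 16864, nat_lit 25216, nat_lit 28928, nat_lit 33280, nat_lit 41731, nat_lit 38392, nat_lit 33805, nat_lit 29222, nat_lit 24766, nat_lit 20551, nat_lit 16395, nat_lit 12305, nat_lit 8227, nat_lit 4097, nat_lit 2]⟩⟩⟩, ⟨[nat_lit 261, nat_lit 260, nat_lit 223, nat_lit 264, nat_lit 261], [], (nat_lit 492), ⟨[nat_lit 24, nat_lit 50], [nat_lit 79, nat_lit 69], ⟨[nat_lit 0x2496c135f7a014919cb5838c8b4661], [nat_lit 173056, nat_lit 169472, nat_lit 166656, nat_lit 162688, nat_lit 158848, nat_lit 154912, nat_lit 147904, nat_lit 147376, nat_lit 141676, nat_lit 136994, nat_lit 134769, nat_lit 494, nat_lit 5024, nat_lit 8944, nat_lit 12896, nat_lit 17728, nat_lit 20864,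 nat_lit 25472, nat_lit 29184, nat_lit 33280, nat_lit 41703, nat_lit 38348, nat_lit 32894, nat_lit 29764, nat_lit 24838, nat_lit 20493, nat_lit 16459, nat_lit 12321, nat_lit 8203]⟩⟩⟩⟩]

theorem dcMr324 : Rng dcM 324 325 := Rng.of (l := dcMc324) (by decide +kernel)

def dcMc325 : List Cert := [.edge ⟨[nat_lit 83, nat_lit 60], [nat_lit 7, nat_lit 91], ⟨[nat_lit 0x34e487a9c5a588908d6765e226d600], [nat_lit 174080, nat_lit 170496, nat_lit 167680, nat_lit 160384, nat_lit 155968, nat_lit 152480, nat_lit 149824, nat_lit 144096, nat_lit 140812, nat_lit 138298, nat_lit 134599, nat_lit 64, nat_lit 5904, nat_lit 8216, nat_lit 12704, nat_lit 16864, nat_lit 21248, nat_lit 24704, nat_lit 29184, nat_lit 33280, nat_lit 41806, nat_lit 38273, nat_lit 33012, nat_lit 28739, nat_lit 24579, nat_lit 20759, nat_lit 16399, nat_lit 12305, nat_lit 8202, nat_lit 4097, nat_lit 2]⟩⟩ ⟨(nat_lit 2), ⟨[nat_lit 291, nat_lit 285, nat_lit 285, nat_lit 284, nat_lit 284], [nat_lit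 289, nat_lit 285, nat_lit 286, nat_lit 289], (nat_lit 639), ⟨[nat_lit 0, nat_lit 41, nat_lit 94], [nat_lit 0, nat_lit 72, nat_lit 48], ⟨[nat_lit 0x29072141cf50669b44146dd065d4ec], [nat_lit 168448, nat_lit 165632, nat_lit 161536, nat_lit 158912, nat_lit 153248, nat_lit 149392, nat_lit 144656, nat_lit 139752, nat_lit 137130, nat_lit 132414, nat_lit 1440, nat_lit 4476, nat_lit 8824, nat_lit 12432, nat_lit 17376, nat_lit 25600, nat_lit 30464, nat_lit 41885, nat_lit 37985, nat_lit 33436, nat_lit 29244, nat_lit 24600, nat_lit 20736, nat_lit 16456, nat_lit 12294, nat_lit 8195, nat_lit 4097, nat_lit 2]⟩⟩⟩, ⟨[nat_lit 262, nat_lit 262, nat_lit 225, nat_lit 265, nat_lit 261, nat_lit 224], [], (nat_lit 616), ⟨[nat_lit 25, nat_lit 92], [nat_lit 0, nat_lit 40, nat_lit 69], ⟨[nat_lit 0xbc9eb131a41ce2542406386d5551d0], [nat_lit 166144, nat_lit 159872, nat_lit 156736, nat_lit 154752, nat_lit 150192, nat_lit 146448, nat_lit 143012, nat_lit 138048, nat_lit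 133100, nat_lit 1874, nat_lit 5768, nat_lit 10128, nat_lit 14016, nat_lit 16768, nat_lit 21696, nat_lit 25856, nat_lit 29440, nat_lit 41900, nat_lit 38189, nat_lit 33866, nat_lit 28963, nat_lit 24630, nat_lit 20500, nat_lit 16391, nat_lit 13315, nat_lit 8194, nat_lit 8]⟩⟩⟩⟩]

theorem dcMr325 : Rng dcM 325 326 := Rng.of (l := dcMc325) (by decide +kernel)

def dcMc326 : List Cert := [.edge ⟨[nat_lit 16], [nat_lit 6, nat_lit 48], ⟨[nat_lit 0x1a43ade27541657091663c93a25a1], [nat_lit 174080, nat_lit 169472, nat_lit 164352, nat_lit 161280, nat_lit 159040, nat_lit 154784, nat_lit 149568, nat_lit 144256, nat_lit 142188, nat_lit 135246, nat_lit 134734, nat_lit 1142, nat_lit 5560, nat_lit 9664, nat_lit 13712, nat_lit 17952, nat_lit 20672, nat_lit 25472, nat_lit 29952, nat_lit 34304, nat_lit 37888, nat_lit 41011, nat_lit 37227, nat_lit 33431, nat_lit 29031, nat_lit 24846, nat_lit 20545, nat_lit 16417, nat_lit 12291, nat_lit 8193, nat_lit 4105]⟩⟩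 ⟨(nat_lit 2), ⟨[nat_lit 294, nat_lit 292, nat_lit 287, nat_lit 293], [nat_lit 293, nat_lit 292, nat_lit 291, nat_lit 290, nat_lit 284], (nat_lit 617), ⟨[nat_lit 28, nat_lit 89], [nat_lit 0, nat_lit 88, nat_lit 67], ⟨[nat_lit 0x3c45704e85b3aa883e49534c41ad81], [nat_lit 173056, nat_lit 169984, nat_lit 165376, nat_lit 160768, nat_lit 158528, nat_lit 152064, nat_lit 148608, nat_lit 146656, nat_lit 143132, nat_lit 138388, nat_lit 133174, nat_lit 588, nat_lit 4404, nat_lit 8928, nat_lit 13264, nat_lit 17888, nat_lit 21824, nat_lit 25472, nat_lit 29696, nat_lit 33792, nat_lit 37888, nat_lit 41366, nat_lit 36887, nat_lit 32997, nat_lit 28791, nat_lit 24631, nat_lit 20553, nat_lit 16425, nat_lit 12295, nat_lit 8202, nat_lit 4104]⟩⟩⟩, ⟨[nat_lit 223, nat_lit 264, nat_lit 263, nat_lit 264, nat_lit 223, nat_lit 225], [], (nat_lit 636), ⟨[nat_lit 0, nat_lit 16, nat_lit 92], [nat_lit 0, nat_lit 7, nat_lit 52], ⟨[nat_lit 0x5a1b49094608eef83a359a4e021596],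 [nat_lit 173056, nat_lit 168448, nat_lit 165632, nat_lit 160000, nat_lit 157440, nat_lit 152608, nat_lit 149040, nat_lit 144168, nat_lit 142708, nat_lit 135806, nat_lit 131934, nat_lit 700, nat_lit 4408, nat_lit 8320, nat_lit 12832, nat_lit 16512, nat_lit 20608, nat_lit 24832, nat_lit 29952, nat_lit 41818, nat_lit 38217, nat_lit 32995, nat_lit 28735, nat_lit 24871, nat_lit 20484, nat_lit 16393, nat_lit 12309]⟩⟩⟩⟩,
  .edge tw0 ⟨(nat_lit 1), ⟨[], [nat_lit 293, nat_lit 289, nat_lit 285], (nat_lit 597), ⟨[nat_lit 0, nat_lit 42, nat_lit 94], [nat_lit 0, nat_lit 79], ⟨[nat_lit 0xa8a805c26a4c911b86c32b1e4699c7], [nat_lit 173056, nat_lit 164352, nat_lit 160896, nat_lit 158784, nat_lit 152160, nat_lit 148000, nat_lit 144560, nat_lit 140036, nat_lit 135690, nat_lit 132081, nat_lit 1246, nat_lit 4740, nat_lit 9136, nat_lit 12880, nat_lit 16448, nat_lit 22016, nat_lit 25600, nat_lit 29952, nat_lit 33792, nat_lit 37888, nat_lit 41642, nat_lit 37265,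 nat_lit 33481, nat_lit 29225, nat_lit 24621, nat_lit 20550, nat_lit 12324, nat_lit 8203, nat_lit 4105]⟩⟩⟩, ⟨[], [nat_lit 142, nat_lit 147, nat_lit 148, nat_lit 141, nat_lit 139, nat_lit 139], (nat_lit 317), ⟨[nat_lit 0, nat_lit 73, nat_lit 63], [nat_lit 6, nat_lit 91], ⟨[nat_lit 0x388c35d6ca204a045d349320d9c5ee], [nat_lit 175104, nat_lit 171520, nat_lit 164864, nat_lit 162432, nat_lit 159424, nat_lit 153856, nat_lit 147504, nat_lit 144320, nat_lit 139784, nat_lit 138286, nat_lit 134847, nat_lit 342, nat_lit 6096, nat_lit 9648, nat_lit 12560, nat_lit 17504, nat_lit 22336, nat_lit 26496, nat_lit 29952, nat_lit 34304, nat_lit 37888, nat_lit 41675, nat_lit 38001, nat_lit 32997, nat_lit 28741, nat_lit 24725, nat_lit 20509, nat_lit 16398, nat_lit 12292, nat_lit 8193, nat_lit 4113]⟩⟩⟩⟩]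

theorem dcMr326 : Rng dcM 326 328 := Rng.of (l := dcMc326) (by decide +kernel)

def dcMc328 : List Cert := [.edge ⟨[nat_lit 0, nat_lit 9, nat_lit 94], [nat_lit 7, nat_lit 47], ⟨[nat_lit 0x50ed77d2276090dac8ae219208066b], [nat_lit 165632, nat_lit 161408, nat_lit 156864, nat_lit 154432, nat_lit 148928, nat_lit 144792, nat_lit 139524, nat_lit 135216, nat_lit 132896, nat_lit 404, nat_lit 5112, nat_lit 8808, nat_lit 13232, nat_lit 18080, nat_lit 21888, nat_lit 25984, nat_lit 29696, nat_lit 34304, nat_lit 37888, nat_lit 41888, nat_lit 37888, nat_lit 32972, nat_lit 28954, nat_lit 24627, nat_lit 20562, nat_lit 16462, nat_lit 12309, nat_lit 8211, nat_lit 4097, nat_lit 2]⟩⟩ ⟨(nat_lit 2), ⟨[nat_lit 285, nat_lit 293, nat_lit 288, nat_lit 290, nat_lit 285], [nat_lit 293, nat_lit 285, nat_lit 290, nat_lit 284, nat_lit 286], (nat_lit 643), ⟨[nat_lit 0, nat_lit 10, nat_lit 51], [nat_lit 0, nat_lit 84, nat_lit 63], ⟨[nat_lit 0x1b5f0098b34b8f4bc8168a962aa184],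 [nat_lit 174080, nat_lit 164608, nat_lit 160640, nat_lit 156544, nat_lit 152352, nat_lit 148912, nat_lit 144304, nat_lit 140592, nat_lit 135628, nat_lit 131307, nat_lit 1778, nat_lit 5436, nat_lit 8448, nat_lit 13728, nat_lit 16640, nat_lit 22400, nat_lit 24832, nat_lit 30208, nat_lit 33792, nat_lit 41825, nat_lit 36992, nat_lit 33015, nat_lit 28945, nat_lit 24763, nat_lit 20614, nat_lit 16457, nat_lit 12356, nat_lit 8208, nat_lit 8]⟩⟩⟩, ⟨[nat_lit 260, nat_lit 264, nat_lit 259, nat_lit 261, nat_lit 260], [], (nat_lit 492), ⟨[nat_lit 7, nat_lit 62], [nat_lit 0, nat_lit 5, nat_lit 89], ⟨[nat_lit 0x226ae0ded350e0b6be2229a40a2187], [nat_lit 174080, nat_lit 168448, nat_lit 164352, nat_lit 160640, nat_lit 158208, nat_lit 154080, nat_lit 150672, nat_lit 145280, nat_lit 142896, nat_lit 136896, nat_lit 133961, nat_lit 1440, nat_lit 4328, nat_lit 8400, nat_lit 14128, nat_lit 16992, nat_lit 22080, nat_lit 25216, nat_lit 29696, nat_lit 34304, nat_lit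 37888, nat_lit 41733, nat_lit 37356, nat_lit 32881, nat_lit 29289, nat_lit 24626, nat_lit 20481, nat_lit 16454, nat_lit 12801, nat_lit 8193, nat_lit 4097, nat_lit 2]⟩⟩⟩⟩]

theorem dcMr328 : Rng dcM 328 329 := Rng.of (l := dcMc328) (by decide +kernel)

def dcMc329 : List Cert := [.edge ⟨[nat_lit 75, nat_lit 94], [nat_lit 31, nat_lit 60], ⟨[nat_lit 0x90ca2a4ea665c09444eab35617ba04], [nat_lit 169984, nat_lit 164096, nat_lit 160768, nat_lit 159424, nat_lit 153024, nat_lit 149104, nat_lit 147432, nat_lit 142568, nat_lit 137752, nat_lit 133572, nat_lit 606, nat_lit 4160, nat_lit 10144, nat_lit 14192, nat_lit 16448, nat_lit 22464, nat_lit 25600, nat_lit 29184, nat_lit 34304, nat_lit 40994, nat_lit 37372, nat_lit 32908, nat_lit 29047, nat_lit 24593, nat_lit 20501, nat_lit 16387, nat_lit 12289, nat_lit 8193, nat_lit 4112]⟩⟩ ⟨(nat_lit 2), ⟨[nat_lit 288, nat_lit 287, nat_lit 290, nat_lit 287], [nat_lit 287, nat_lit 294, nat_lit 294, nat_lit 284],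 (nat_lit 641), ⟨[nat_lit 38, nat_lit 46], [nat_lit 40, nat_lit 61], ⟨[nat_lit 0x14d28b4017550ac0c4e472cd568df2], [nat_lit 169472, nat_lit 165120, nat_lit 158336, nat_lit 152608, nat_lit 148400, nat_lit 145096, nat_lit 140168, nat_lit 136254, nat_lit 131302, nat_lit 492, nat_lit 4196, nat_lit 8672, nat_lit 14176, nat_lit 17120, nat_lit 21440, nat_lit 41886, nat_lit 38259, nat_lit 32880, nat_lit 29229, nat_lit 24601, nat_lit 20752, nat_lit 16450, nat_lit 12306, nat_lit 8705, nat_lit 4113, nat_lit 8]⟩⟩⟩, ⟨[nat_lit 222, nat_lit 222, nat_lit 265, nat_lit 266, nat_lit 222], [], (nat_lit 504), ⟨[nat_lit 41, nat_lit 56], [nat_lit 0, nat_lit 43, nat_lit 93], ⟨[nat_lit 0x7d530204e5b49c85468c6ae7730062], [nat_lit 173056, nat_lit 168448, nat_lit 165120, nat_lit 161152, nat_lit 155776, nat_lit 152608, nat_lit 148784, nat_lit 145176, nat_lit 141180, nat_lit 138468, nat_lit 132661, nat_lit 4, nat_lit 4104, nat_lit 8200, nat_lit 13312, nat_lit 16480,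 nat_lit 21632, nat_lit 25216, nat_lit 29696, nat_lit 34304, nat_lit 41272, nat_lit 37113, nat_lit 32980, nat_lit 28745, nat_lit 24707, nat_lit 21011, nat_lit 16395, nat_lit 12290, nat_lit 8195, nat_lit 4]⟩⟩⟩⟩]

theorem dcMr329 : Rng dcM 329 330 := Rng.of (l := dcMc329) (by decide +kernel)

def dcMc330 : List Cert := [.edge ⟨[nat_lit 0, nat_lit 71, nat_lit 52], [nat_lit 17, nat_lit 70], ⟨[nat_lit 0x43e23aa4eb6d9c581a9205c4454c2c], [nat_lit 175104, nat_lit 169472, nat_lit 165888, nat_lit 163328, nat_lit 157888, nat_lit 153056, nat_lit 148784, nat_lit 145216, nat_lit 141560, nat_lit 138554, nat_lit 133079, nat_lit 880, nat_lit 4112, nat_lit 9560, nat_lit 13552, nat_lit 16800, nat_lit 21696, nat_lit 25344, nat_lit 33792, nat_lit 37888, nat_lit 41907, nat_lit 37305, nat_lit 33383, nat_lit 28722, nat_lit 24580, nat_lit 20628, nat_lit 16524, nat_lit 12293, nat_lit 8200, nat_lit 4112, nat_lit 4]⟩⟩ ⟨(nat_lit 2), ⟨[nat_lit 294, nat_lit 294, nat_lit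 288, nat_lit 291], [nat_lit 293, nat_lit 292, nat_lit 291, nat_lit 290, nat_lit 284], (nat_lit 629), ⟨[nat_lit 0, nat_lit 45, nat_lit 59], [nat_lit 73, nat_lit 68], ⟨[nat_lit 0x330254bd409d48859e16b8a8d1c5d2], [nat_lit 175104, nat_lit 170496, nat_lit 166400, nat_lit 161152, nat_lit 159168, nat_lit 154176, nat_lit 148848, nat_lit 146776, nat_lit 141296, nat_lit 136554, nat_lit 132380, nat_lit 492, nat_lit 4424, nat_lit 9192, nat_lit 16544, nat_lit 22464, nat_lit 25984, nat_lit 29184, nat_lit 33280, nat_lit 41604, nat_lit 37271, nat_lit 33314, nat_lit 28744, nat_lit 24741, nat_lit 20488, nat_lit 16652, nat_lit 12305, nat_lit 8257, nat_lit 4609, nat_lit 16]⟩⟩⟩, ⟨[nat_lit 266, nat_lit 225, nat_lit 222, nat_lit 263, nat_lit 222], [], (nat_lit 514), ⟨[nat_lit 0, nat_lit 41, nat_lit 58], [nat_lit 41, nat_lit 61], ⟨[nat_lit 0x1a6f19051612a75238e58028b63da6], [nat_lit 168960, nat_lit 164096, nat_lit 160640, nat_lit 156288, nat_lit 152480, nat_lit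 148192, nat_lit 144400, nat_lit 140976, nat_lit 138708, nat_lit 132582, nat_lit 1516, nat_lit 5120, nat_lit 8784, nat_lit 13152, nat_lit 16544, nat_lit 20992, nat_lit 25344, nat_lit 29184, nat_lit 33280, nat_lit 37888, nat_lit 41855, nat_lit 37122, nat_lit 33408, nat_lit 28960, nat_lit 25656, nat_lit 20608, nat_lit 16392, nat_lit 12292, nat_lit 8202, nat_lit 4097, nat_lit 2]⟩⟩⟩⟩]

theorem dcMr330 : Rng dcM 330 331 := Rng.of (l := dcMc330) (by decide +kernel)

def dcMc331 : List Cert := [.edge ⟨[nat_lit 0, nat_lit 3, nat_lit 57], [nat_lit 29, nat_lit 68], ⟨[nat_lit 0x49553b42a62047202eee8bda7a204c], [nat_lit 173056, nat_lit 168960, nat_lit 164608, nat_lit 160384, nat_lit 158272, nat_lit 152416, nat_lit 148976, nat_lit 145296, nat_lit 139808, nat_lit 135338, nat_lit 131602, nat_lit 1440, nat_lit 4408, nat_lit 8448, nat_lit 13664, nat_lit 18112, nat_lit 20736, nat_lit 25600, nat_lit 29696, nat_lit 41544, nat_lit 38355, nat_lit 32820, nat_lit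 29302, nat_lit 20634, nat_lit 16416, nat_lit 12421, nat_lit 8211, nat_lit 4113, nat_lit 16]⟩⟩ ⟨(nat_lit 2), ⟨[nat_lit 295, nat_lit 295, nat_lit 293, nat_lit 288, nat_lit 286], [nat_lit 294, nat_lit 289, nat_lit 287, nat_lit 293], (nat_lit 611), ⟨[nat_lit 0, nat_lit 23, nat_lit 93], [nat_lit 0, nat_lit 74, nat_lit 67], ⟨[nat_lit 0x911ca6c4ab7b2a131c74ba04904ed0], [nat_lit 173056, nat_lit 169984, nat_lit 165632, nat_lit 161664, nat_lit 156288, nat_lit 152288, nat_lit 148656, nat_lit 145160, nat_lit 141236, nat_lit 135676, nat_lit 132664, nat_lit 760, nat_lit 4340, nat_lit 9560, nat_lit 12528, nat_lit 18208, nat_lit 21952, nat_lit 25344, nat_lit 29952, nat_lit 37888, nat_lit 41728, nat_lit 37248, nat_lit 32992, nat_lit 28940, nat_lit 24598, nat_lit 20619, nat_lit 16386, nat_lit 12289, nat_lit 8224, nat_lit 4100, nat_lit 2]⟩⟩⟩, ⟨[nat_lit 259, nat_lit 266, nat_lit 265, nat_lit 265, nat_lit 265, nat_lit 225], [], (nat_lit 634), ⟨[nat_lit 0,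 nat_lit 6, nat_lit 47], [nat_lit 39, nat_lit 52], ⟨[nat_lit 0x9bdb42052cac403709653cae6b2910], [nat_lit 168960, nat_lit 164864, nat_lit 160512, nat_lit 155840, nat_lit 153024, nat_lit 148672, nat_lit 144704, nat_lit 140556, nat_lit 139124, nat_lit 132481, nat_lit 1874, nat_lit 4352, nat_lit 8312, nat_lit 13792, nat_lit 17312, nat_lit 20736, nat_lit 24832, nat_lit 29696, nat_lit 33792, nat_lit 41218, nat_lit 37372, nat_lit 32898, nat_lit 28959, nat_lit 24580, nat_lit 20482, nat_lit 16527, nat_lit 12289, nat_lit 8259, nat_lit 4]⟩⟩⟩⟩]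

theorem dcMr331 : Rng dcM 331 332 := Rng.of (l := dcMc331) (by decide +kernel)

def dcMc332 : List Cert := [.edge ⟨[nat_lit 0, nat_lit 31, nat_lit 94], [nat_lit 0, nat_lit 73, nat_lit 51], ⟨[nat_lit 0xa0a298eee34132a2cf5b32202354f], [nat_lit 164608, nat_lit 155904, nat_lit 152832, nat_lit 147584, nat_lit 145840, nat_lit 140728, nat_lit 136806, nat_lit 131752, nat_lit 122, nat_lit 5884, nat_lit 8680, nat_lit 12304, nat_lit 16672, nat_lit 20928, nat_lit 25600, nat_lit 30208, nat_lit 41786, nat_lit 37163, nat_lit 33370, nat_lit 28792, nat_lit 24716, nat_lit 20484, nat_lit 16451, nat_lit 8208, nat_lit 4100, nat_lit 2]⟩⟩ ⟨(nat_lit 2), ⟨[nat_lit 284, nat_lit 287, nat_lit 290, nat_lit 288], [nat_lit 286, nat_lit 293], (nat_lit 603), ⟨[nat_lit 0, nat_lit 13, nat_lit 68], [nat_lit 80, nat_lit 51], ⟨[nat_lit 0x3dd93801727c495b22811352e50cc5], [nat_lit 173056, nat_lit 164608, nat_lit 161408, nat_lit 157504, nat_lit 151712, nat_lit 148480, nat_lit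 143928, nat_lit 139460, nat_lit 135728, nat_lit 133868, nat_lit 128, nat_lit 5008, nat_lit 10168, nat_lit 13312, nat_lit 18304, nat_lit 22080, nat_lit 25600, nat_lit 30464, nat_lit 33280, nat_lit 37888, nat_lit 41684, nat_lit 38175, nat_lit 32915, nat_lit 28988, nat_lit 25098, nat_lit 20486, nat_lit 16654, nat_lit 12311, nat_lit 8208, nat_lit 4105]⟩⟩⟩, ⟨[nat_lit 261, nat_lit 264, nat_lit 264, nat_lit 223, nat_lit 262, nat_lit 222], [], (nat_lit 636), ⟨[nat_lit 0, nat_lit 3, nat_lit 91], [nat_lit 0, nat_lit 25, nat_lit 69], ⟨[nat_lit 0x641d1124683dcd45002b2d4967b653], [nat_lit 175104, nat_lit 168448, nat_lit 167168, nat_lit 162944, nat_lit 159680, nat_lit 151584, nat_lit 147472, nat_lit 143792, nat_lit 142332, nat_lit 137602, nat_lit 132361, nat_lit 1928, nat_lit 5572, nat_lit 9824, nat_lit 14176, nat_lit 17696, nat_lit 22272, nat_lit 24832, nat_lit 33792, nat_lit 37888, nat_lit 41645, nat_lit 38343, nat_lit 32828, nat_lit 29727, nat_lit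 25128, nat_lit 20624, nat_lit 16387, nat_lit 12290, nat_lit 8195]⟩⟩⟩⟩]

theorem dcMr332 : Rng dcM 332 333 := Rng.of (l := dcMc332) (by decide +kernel)

def dcMc333 : List Cert := [.edge ⟨[nat_lit 13, nat_lit 89], [nat_lit 87, nat_lit 48], ⟨[nat_lit 0x130e35c4372d9d43424da82685112f], [nat_lit 171520, nat_lit 165376, nat_lit 160128, nat_lit 155712, nat_lit 152160, nat_lit 148784, nat_lit 145328, nat_lit 139808, nat_lit 137060, nat_lit 131390, nat_lit 122, nat_lit 6084, nat_lit 8736, nat_lit 13664, nat_lit 16640, nat_lit 22336, nat_lit 25472, nat_lit 29952, nat_lit 33280, nat_lit 37888, nat_lit 41919, nat_lit 37286, nat_lit 32979, nat_lit 28998, nat_lit 24619, nat_lit 20488, nat_lit 16517, nat_lit 12289, nat_lit 8321, nat_lit 8]⟩⟩ ⟨(nat_lit 2), ⟨[nat_lit 290, nat_lit 284, nat_lit 291, nat_lit 295, nat_lit 285], [nat_lit 287, nat_lit 294, nat_lit 294, nat_lit 284], (nat_lit 641), ⟨[nat_lit 30, nat_lit 54], [nat_lit 32, nat_lit 66], ⟨[nat_lit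 0x2292eac1633466c680e17d0b615e48], [nat_lit 173056, nat_lit 165120, nat_lit 159872, nat_lit 158400, nat_lit 153152, nat_lit 147872, nat_lit 144640, nat_lit 140220, nat_lit 135832, nat_lit 132167, nat_lit 1396, nat_lit 8448, nat_lit 14272, nat_lit 18336, nat_lit 21120, nat_lit 26368, nat_lit 30464, nat_lit 34304, nat_lit 37888, nat_lit 41696, nat_lit 36986, nat_lit 32834, nat_lit 28736, nat_lit 24712, nat_lit 21006, nat_lit 16425, nat_lit 12305, nat_lit 8201, nat_lit 4352, nat_lit 4]⟩⟩⟩, ⟨[nat_lit 225, nat_lit 266, nat_lit 222, nat_lit 222, nat_lit 264, nat_lit 225], [], (nat_lit 634), ⟨[nat_lit 78, nat_lit 62], [nat_lit 7, nat_lit 46], ⟨[nat_lit 0x5044c935311d4b03b906a3d76b9260], [nat_lit 173056, nat_lit 167168, nat_lit 162816, nat_lit 158464, nat_lit 154624, nat_lit 147760, nat_lit 146528, nat_lit 143208, nat_lit 136828, nat_lit 134219, nat_lit 16, nat_lit 5024, nat_lit 8680, nat_lit 13712, nat_lit 17696, nat_lit 21312, nat_lit 25600,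 nat_lit 29696, nat_lit 33280, nat_lit 41901, nat_lit 36875, nat_lit 34008, nat_lit 28767, nat_lit 24629, nat_lit 20483, nat_lit 16457, nat_lit 8193, nat_lit 4]⟩⟩⟩⟩]

theorem dcMr333 : Rng dcM 333 334 := Rng.of (l := dcMc333) (by decide +kernel)

def dcMc334 : List Cert := [.edge ⟨[nat_lit 0, nat_lit 29, nat_lit 51], [nat_lit 0, nat_lit 79, nat_lit 90], ⟨[nat_lit 0xbc6815bac5601f23d52d34c8352202], [nat_lit 174080, nat_lit 169984, nat_lit 167680, nat_lit 162432, nat_lit 157056, nat_lit 155584, nat_lit 149808, nat_lit 144280, nat_lit 142464, nat_lit 136018, nat_lit 132234, nat_lit 1814, nat_lit 4160, nat_lit 9904, nat_lit 14000, nat_lit 18336, nat_lit 22464, nat_lit 24704, nat_lit 28928, nat_lit 41261, nat_lit 37163, nat_lit 32783, nat_lit 28788, nat_lit 24752, nat_lit 20626, nat_lit 16396, nat_lit 12309, nat_lit 4128, nat_lit 8]⟩⟩ ⟨(nat_lit 2), ⟨[nat_lit 291, nat_lit 286, nat_lit 286, nat_lit 288, nat_lit 286], [nat_lit 291, nat_lit 291,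 nat_lit 286, nat_lit 289, nat_lit 286], (nat_lit 635), ⟨[nat_lit 26, nat_lit 53], [nat_lit 40, nat_lit 89], ⟨[nat_lit 0x3c8262a9b57ba004dc8ca0a369ad03], [nat_lit 175104, nat_lit 170496, nat_lit 166400, nat_lit 160768, nat_lit 155840, nat_lit 153248, nat_lit 150064, nat_lit 143408, nat_lit 139388, nat_lit 137276, nat_lit 134779, nat_lit 1818, nat_lit 4824, nat_lit 9296, nat_lit 12544, nat_lit 18272, nat_lit 22272, nat_lit 26368, nat_lit 29952, nat_lit 33280, nat_lit 41789, nat_lit 37931, nat_lit 32991, nat_lit 29014, nat_lit 24847, nat_lit 21524, nat_lit 16386, nat_lit 12292, nat_lit 8203, nat_lit 4100]⟩⟩⟩, ⟨[nat_lit 223, nat_lit 260, nat_lit 263, nat_lit 223, nat_lit 223, nat_lit 224], [], (nat_lit 610), ⟨[nat_lit 0, nat_lit 2, nat_lit 93], [nat_lit 0, nat_lit 29, nat_lit 90], ⟨[nat_lit 0x931e93385454ed7ab4070ae0389488], [nat_lit 174080, nat_lit 170496, nat_lit 165888, nat_lit 163712, nat_lit 156608, nat_lit 155232, nat_lit 150848, nat_lit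 144680, nat_lit 142620, nat_lit 135600, nat_lit 132789, nat_lit 1438, nat_lit 5588, nat_lit 10032, nat_lit 12800, nat_lit 16896, nat_lit 20992, nat_lit 25088, nat_lit 29184, nat_lit 33280, nat_lit 37888, nat_lit 41914, nat_lit 37296, nat_lit 32901, nat_lit 28740, nat_lit 24736, nat_lit 20562, nat_lit 16426, nat_lit 12304, nat_lit 4128, nat_lit 256]⟩⟩⟩⟩]

theorem dcMr334 : Rng dcM 334 335 := Rng.of (l := dcMc334) (by decide +kernel)

def dcMc335 : List Cert := [.edge ⟨[nat_lit 40, nat_lit 48], [nat_lit 0, nat_lit 87, nat_lit 53], ⟨[nat_lit 0x25dc762976195316c2557883432260], [nat_lit 174080, nat_lit 170496, nat_lit 166400, nat_lit 161664, nat_lit 156864, nat_lit 153312, nat_lit 150384, nat_lit 145344, nat_lit 140360, nat_lit 138436, nat_lit 134165, nat_lit 256, nat_lit 4684, nat_lit 9560, nat_lit 14256, nat_lit 18400, nat_lit 20736, nat_lit 25984, nat_lit 33280, nat_lit 37888, nat_lit 41323, nat_lit 37273, nat_lit 33417, nat_lit 29288,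 nat_lit 24767, nat_lit 20500, nat_lit 16419, nat_lit 12353, nat_lit 8195, nat_lit 4101, nat_lit 4]⟩⟩ ⟨(nat_lit 2), ⟨[nat_lit 284, nat_lit 293, nat_lit 286, nat_lit 294, nat_lit 284], [nat_lit 294, nat_lit 289, nat_lit 287, nat_lit 293], (nat_lit 611), ⟨[nat_lit 0, nat_lit 28, nat_lit 53], [nat_lit 0, nat_lit 14, nat_lit 89], ⟨[nat_lit 0x209459aa3935cf0a6e58cd9011d56], [nat_lit 175104, nat_lit 168448, nat_lit 165376, nat_lit 161408, nat_lit 156608, nat_lit 152032, nat_lit 148032, nat_lit 145072, nat_lit 140168, nat_lit 136024, nat_lit 131293, nat_lit 1720, nat_lit 5544, nat_lit 9096, nat_lit 14208, nat_lit 16576, nat_lit 21504, nat_lit 26496, nat_lit 29440, nat_lit 34304, nat_lit 41495, nat_lit 37171, nat_lit 32896, nat_lit 28766, nat_lit 24726, nat_lit 16526, nat_lit 12292, nat_lit 8195, nat_lit 4097]⟩⟩⟩, ⟨[nat_lit 266, nat_lit 260, nat_lit 261, nat_lit 264, nat_lit 225, nat_lit 223], [], (nat_lit 628), ⟨[nat_lit 0, nat_lit 22, nat_lit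 89], [nat_lit 3, nat_lit 52], ⟨[nat_lit 0x1c552481ee359b3120a7a06ab85d84], [nat_lit 164608, nat_lit 160384, nat_lit 155776, nat_lit 151936, nat_lit 147568, nat_lit 143584, nat_lit 140584, nat_lit 135914, nat_lit 133443, nat_lit 16, nat_lit 4396, nat_lit 9328, nat_lit 13280, nat_lit 18048, nat_lit 21888, nat_lit 25856, nat_lit 29440, nat_lit 33792, nat_lit 41775, nat_lit 36889, nat_lit 32946, nat_lit 28766, nat_lit 24597, nat_lit 20739, nat_lit 16391, nat_lit 12423, nat_lit 4097]⟩⟩⟩⟩]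

theorem dcMr335 : Rng dcM 335 336 := Rng.of (l := dcMc335) (by decide +kernel)

def dcMc336 : List Cert := [.edge ⟨[nat_lit 33, nat_lit 66], [nat_lit 15, nat_lit 64], ⟨[nat_lit 0x4484f3d4864b473a16f68adc16400a], [nat_lit 175104, nat_lit 169984, nat_lit 165376, nat_lit 163328, nat_lit 157888, nat_lit 153600, nat_lit 148272, nat_lit 144568, nat_lit 139816, nat_lit 138450, nat_lit 133137, nat_lit 1874, nat_lit 5856, nat_lit 10136, nat_lit 14112, nat_lit 18240, nat_lit 22144, nat_lit 25600, nat_lit 29952, nat_lit 33280, nat_lit 41771, nat_lit 37898, nat_lit 32986, nat_lit 28967, nat_lit 24625, nat_lit 20505, nat_lit 16387, nat_lit 12326, nat_lit 8202, nat_lit 4]⟩⟩ ⟨(nat_lit 2), ⟨[nat_lit 286, nat_lit 286, nat_lit 285, nat_lit 286], [nat_lit 286, nat_lit 286, nat_lit 295, nat_lit 289], (nat_lit 631), ⟨[nat_lit 0, nat_lit 25, nat_lit 90], [nat_lit 88, nat_lit 47], ⟨[nat_lit 0x2cd54b48eb0beb72180d4b10274470], [nat_lit 173056, nat_lit 168960,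 nat_lit 164352, nat_lit 160768, nat_lit 157568, nat_lit 153120, nat_lit 148112, nat_lit 145400, nat_lit 140740, nat_lit 136162, nat_lit 131386, nat_lit 428, nat_lit 5072, nat_lit 9648, nat_lit 12800, nat_lit 17824, nat_lit 25088, nat_lit 29952, nat_lit 33280, nat_lit 41470, nat_lit 37347, nat_lit 33442, nat_lit 29283, nat_lit 24843, nat_lit 16388, nat_lit 12358, nat_lit 8200, nat_lit 4160, nat_lit 256]⟩⟩⟩, ⟨[nat_lit 259, nat_lit 265, nat_lit 224, nat_lit 262, nat_lit 223, nat_lit 223], [], (nat_lit 634), ⟨[nat_lit 39, nat_lit 68], [nat_lit 0, nat_lit 3, nat_lit 65], ⟨[nat_lit 0x154cb425d37c69703032810ad3a876], [nat_lit 174080, nat_lit 168960, nat_lit 166656, nat_lit 163712, nat_lit 158912, nat_lit 152128, nat_lit 148240, nat_lit 144816, nat_lit 142176, nat_lit 139254, nat_lit 132840, nat_lit 1918, nat_lit 5580, nat_lit 8288, nat_lit 13280, nat_lit 17184, nat_lit 22144, nat_lit 25344, nat_lit 30208, nat_lit 37888, nat_lit 41434, nat_lit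 37150, nat_lit 33396, nat_lit 28778, nat_lit 24635, nat_lit 20508, nat_lit 16389, nat_lit 12291, nat_lit 8195]⟩⟩⟩⟩]

theorem dcMr336 : Rng dcM 336 337 := Rng.of (l := dcMc336) (by decide +kernel)

def dcMc337 : List Cert := [.edge ⟨[nat_lit 36, nat_lit 47], [nat_lit 0, nat_lit 38, nat_lit 91], ⟨[nat_lit 0x3d2e562d2f539a808e1200a71ad8c4], [nat_lit 171520, nat_lit 167424, nat_lit 161920, nat_lit 159488, nat_lit 152512, nat_lit 150848, nat_lit 145416, nat_lit 139488, nat_lit 138318, nat_lit 132612, nat_lit 680, nat_lit 6104, nat_lit 10024, nat_lit 13552, nat_lit 16768, nat_lit 21504, nat_lit 29952, nat_lit 33792, nat_lit 41566, nat_lit 38378, nat_lit 33462, nat_lit 28693, nat_lit 25604, nat_lit 21014, nat_lit 16456, nat_lit 12355, nat_lit 8322, nat_lit 4]⟩⟩ ⟨(nat_lit 2), ⟨[nat_lit 294, nat_lit 289, nat_lit 292], [nat_lit 288, nat_lit 284, nat_lit 294], (nat_lit 633), ⟨[nat_lit 2, nat_lit 65], [nat_lit 81, nat_lit 55], ⟨[nat_lit 0x6a20c544a698562381d6bd1327d464],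 [nat_lit 173056, nat_lit 169984, nat_lit 164352, nat_lit 161280, nat_lit 156352, nat_lit 152960, nat_lit 147760, nat_lit 143496, nat_lit 139408, nat_lit 135864, nat_lit 132729, nat_lit 1778, nat_lit 4404, nat_lit 9576, nat_lit 13664, nat_lit 17632, nat_lit 22336, nat_lit 25344, nat_lit 29440, nat_lit 33280, nat_lit 41568, nat_lit 37248, nat_lit 33335, nat_lit 28965, nat_lit 25632, nat_lit 20490, nat_lit 16514, nat_lit 8450, nat_lit 4128, nat_lit 4]⟩⟩⟩, ⟨[nat_lit 259, nat_lit 223, nat_lit 262, nat_lit 266, nat_lit 224], [], (nat_lit 608), ⟨[nat_lit 0, nat_lit 2, nat_lit 60], [nat_lit 0, nat_lit 42, nat_lit 50], ⟨[nat_lit 0x598e942885b46f31b00ead2507844d], [nat_lit 175104, nat_lit 171520, nat_lit 166144, nat_lit 161664, nat_lit 152992, nat_lit 151008, nat_lit 145296, nat_lit 140028, nat_lit 138638, nat_lit 134438, nat_lit 488, nat_lit 5884, nat_lit 8592, nat_lit 14064, nat_lit 16832, nat_lit 21440, nat_lit 24704, nat_lit 33792, nat_lit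 41911, nat_lit 37936, nat_lit 32947, nat_lit 28759, nat_lit 24599, nat_lit 20750, nat_lit 16391, nat_lit 12295, nat_lit 8202, nat_lit 4097, nat_lit 2]⟩⟩⟩⟩]

theorem dcMr337 : Rng dcM 337 338 := Rng.of (l := dcMc337) (by decide +kernel)

def dcMc338 : List Cert := [.edge ⟨[nat_lit 0, nat_lit 73, nat_lit 94], [nat_lit 22, nat_lit 59], ⟨[nat_lit 0x22ed470ab2430ad08ce93460a03ef3], [nat_lit 173056, nat_lit 169472, nat_lit 164608, nat_lit 161152, nat_lit 157248, nat_lit 152576, nat_lit 148960, nat_lit 144168, nat_lit 142648, nat_lit 136882, nat_lit 132246, nat_lit 586, nat_lit 5688, nat_lit 10088, nat_lit 13072, nat_lit 16928, nat_lit 22080, nat_lit 26112, nat_lit 33280, nat_lit 37888, nat_lit 41564, nat_lit 37317, nat_lit 33391, nat_lit 28982, nat_lit 24604, nat_lit 20508, nat_lit 16389, nat_lit 12295, nat_lit 4097]⟩⟩ ⟨(nat_lit 2), ⟨[nat_lit 285, nat_lit 287, nat_lit 291, nat_lit 289, nat_lit 284], [nat_lit 294, nat_lit 289, nat_lit 295, nat_lit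 289], (nat_lit 607), ⟨[nat_lit 86, nat_lit 91], [nat_lit 13, nat_lit 67], ⟨[nat_lit 0x7de220cecd4ca0740c04728ac59a95], [nat_lit 171008, nat_lit 164864, nat_lit 157952, nat_lit 151712, nat_lit 147712, nat_lit 147424, nat_lit 142252, nat_lit 139102, nat_lit 133880, nat_lit 1730, nat_lit 5112, nat_lit 8328, nat_lit 12896, nat_lit 17920, nat_lit 22208, nat_lit 25216, nat_lit 29696, nat_lit 33792, nat_lit 41300, nat_lit 37254, nat_lit 33427, nat_lit 28677, nat_lit 24634, nat_lit 20489, nat_lit 16449, nat_lit 12308, nat_lit 8193, nat_lit 4104, nat_lit 2]⟩⟩⟩, ⟨[nat_lit 264, nat_lit 265, nat_lit 224, nat_lit 263, nat_lit 261, nat_lit 225], [], (nat_lit 638), ⟨[nat_lit 42, nat_lit 50], [nat_lit 35, nat_lit 57], ⟨[nat_lit 0x6c1213558e3ce5643e2051574b8c44], [nat_lit 174080, nat_lit 171520, nat_lit 165120, nat_lit 163328, nat_lit 158592, nat_lit 154464, nat_lit 148848, nat_lit 143672, nat_lit 139764, nat_lit 138742, nat_lit 134446, nat_lit 1778,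 nat_lit 4736, nat_lit 8200, nat_lit 12304, nat_lit 16416, nat_lit 21120, nat_lit 25600, nat_lit 30464, nat_lit 33792, nat_lit 37888, nat_lit 41521, nat_lit 38166, nat_lit 32994, nat_lit 28795, nat_lit 24742, nat_lit 20499, nat_lit 16385, nat_lit 12294, nat_lit 8203, nat_lit 4105]⟩⟩⟩⟩]

theorem dcMr338 : Rng dcM 338 339 := Rng.of (l := dcMc338) (by decide +kernel)

def dcMc339 : List Cert := [.edge ⟨[nat_lit 0, nat_lit 87, nat_lit 47], [nat_lit 0, nat_lit 32, nat_lit 58], ⟨[nat_lit 0x44cf7010ce5096f926a56c2230d994], [nat_lit 173056, nat_lit 164608, nat_lit 160768, nat_lit 156608, nat_lit 152032, nat_lit 150016, nat_lit 144552, nat_lit 139756, nat_lit 136838, nat_lit 132249, nat_lit 664, nat_lit 4396, nat_lit 8456, nat_lit 12320, nat_lit 16416, nat_lit 21952, nat_lit 24832, nat_lit 30208, nat_lit 34304, nat_lit 37888, nat_lit 41392, nat_lit 37104, nat_lit 33984, nat_lit 28784, nat_lit 24764, nat_lit 20613, nat_lit 16392, nat_lit 12310,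 nat_lit 8203, nat_lit 4]⟩⟩ ⟨(nat_lit 2), ⟨[nat_lit 295, nat_lit 285, nat_lit 286, nat_lit 291, nat_lit 284], [nat_lit 286, nat_lit 286, nat_lit 295, nat_lit 289], (nat_lit 631), ⟨[nat_lit 0, nat_lit 37, nat_lit 55], [nat_lit 0, nat_lit 71, nat_lit 50], ⟨[nat_lit 0x6d4aa0c8c7041eea46c25cc68492ec], [nat_lit 164864, nat_lit 161280, nat_lit 156096, nat_lit 151904, nat_lit 149296, nat_lit 145312, nat_lit 140544, nat_lit 135910, nat_lit 131714, nat_lit 1354, nat_lit 4412, nat_lit 8640, nat_lit 13552, nat_lit 16640, nat_lit 22144, nat_lit 25088, nat_lit 29184, nat_lit 41669, nat_lit 38085, nat_lit 32964, nat_lit 28988, nat_lit 24749, nat_lit 20489, nat_lit 16453, nat_lit 12290, nat_lit 8257, nat_lit 4097, nat_lit 2]⟩⟩⟩, ⟨[nat_lit 223, nat_lit 223, nat_lit 261, nat_lit 264], [], (nat_lit 483), ⟨[nat_lit 22, nat_lit 62], [nat_lit 0, nat_lit 1, nat_lit 94], ⟨[nat_lit 0x55e3478cf62540e64dab8044849646], [nat_lit 168960, nat_lit 164352, nat_lit 161408,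 nat_lit 156288, nat_lit 152576, nat_lit 148608, nat_lit 146832, nat_lit 140824, nat_lit 136152, nat_lit 132551, nat_lit 1720, nat_lit 5572, nat_lit 8320, nat_lit 18304, nat_lit 25472, nat_lit 41678, nat_lit 38053, nat_lit 32790, nat_lit 28684, nat_lit 25122, nat_lit 20488, nat_lit 16654, nat_lit 12290, nat_lit 8320, nat_lit 4104, nat_lit 64]⟩⟩⟩⟩]

theorem dcMr339 : Rng dcM 339 340 := Rng.of (l := dcMc339) (by decide +kernel)

def dcMc340 : List Cert := [.edge ⟨[nat_lit 1, nat_lit 63], [nat_lit 18, nat_lit 68], ⟨[nat_lit 0x3a182a8073b94908d1ed4ae563054e], [nat_lit 173056, nat_lit 168448, nat_lit 164864, nat_lit 160640, nat_lit 156928, nat_lit 152832, nat_lit 148448, nat_lit 143800, nat_lit 139684, nat_lit 136890, nat_lit 134680, nat_lit 1972, nat_lit 5904, nat_lit 8352, nat_lit 12704, nat_lit 17152, nat_lit 21632, nat_lit 26368, nat_lit 30208, nat_lit 33280, nat_lit 41215, nat_lit 37181, nat_lit 32876, nat_lit 29802, nat_lit 24606, nat_lit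 20497, nat_lit 16392, nat_lit 12309, nat_lit 8195]⟩⟩ ⟨(nat_lit 2), ⟨[nat_lit 287, nat_lit 284, nat_lit 286, nat_lit 286, nat_lit 284], [nat_lit 288, nat_lit 286, nat_lit 294, nat_lit 284, nat_lit 285], (nat_lit 627), ⟨[nat_lit 0, nat_lit 45, nat_lit 55], [nat_lit 0, nat_lit 22, nat_lit 67], ⟨[nat_lit 0x1a48e6b2d214c1452eb078506bc4e5], [nat_lit 173056, nat_lit 168448, nat_lit 166144, nat_lit 160512, nat_lit 157376, nat_lit 155040, nat_lit 150976, nat_lit 145728, nat_lit 141468, nat_lit 137862, nat_lit 132224, nat_lit 1054, nat_lit 4540, nat_lit 9168, nat_lit 13584, nat_lit 17248, nat_lit 21696, nat_lit 28928, nat_lit 41372, nat_lit 37257, nat_lit 32962, nat_lit 28674, nat_lit 24832, nat_lit 20486, nat_lit 17422, nat_lit 12804, nat_lit 8203, nat_lit 4097, nat_lit 2]⟩⟩⟩, ⟨[nat_lit 265, nat_lit 266, nat_lit 260, nat_lit 222, nat_lit 266, nat_lit 262], [], (nat_lit 516), ⟨[nat_lit 0, nat_lit 84, nat_lit 62], [nat_lit 0, nat_lit 7, nat_lit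 66], ⟨[nat_lit 0x7022723242328b6406837b577826b3], [nat_lit 173056, nat_lit 169472, nat_lit 166912, nat_lit 161280, nat_lit 156224, nat_lit 155040, nat_lit 150432, nat_lit 147376, nat_lit 142328, nat_lit 138090, nat_lit 132792, nat_lit 880, nat_lit 5584, nat_lit 8272, nat_lit 13552, nat_lit 18176, nat_lit 21568, nat_lit 26240, nat_lit 28928, nat_lit 37888, nat_lit 41267, nat_lit 37326, nat_lit 32886, nat_lit 29242, nat_lit 24750, nat_lit 20613, nat_lit 16395, nat_lit 12294, nat_lit 8202, nat_lit 4105]⟩⟩⟩⟩]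

theorem dcMr340 : Rng dcM 340 341 := Rng.of (l := dcMc340) (by decide +kernel)

def dcMc341 : List Cert := [.edge ⟨[nat_lit 0, nat_lit 9, nat_lit 93], [nat_lit 18, nat_lit 69], ⟨[nat_lit 0x22d8a0986d75ae745622815f348254], [nat_lit 175104, nat_lit 168960, nat_lit 164608, nat_lit 161408, nat_lit 156480, nat_lit 152480, nat_lit 148496, nat_lit 144744, nat_lit 139488, nat_lit 136044, nat_lit 132623, nat_lit 32, nat_lit 5572, nat_lit 8912, nat_lit 14240, nat_lit 17568, nat_lit 21504, nat_lit 24704, nat_lit 29184, nat_lit 41600, nat_lit 38184, nat_lit 33372, nat_lit 28988, nat_lit 24725, nat_lit 20487, nat_lit 16454, nat_lit 12305, nat_lit 8226, nat_lit 4104, nat_lit 4]⟩⟩ ⟨(nat_lit 2), ⟨[nat_lit 294, nat_lit 295, nat_lit 292, nat_lit 288, nat_lit 285], [], (nat_lit 674), ⟨[nat_lit 43, nat_lit 53], [nat_lit 38, nat_lit 56], ⟨[nat_lit 0x1cc94532d503849941ab34437395e8], [nat_lit 173056, nat_lit 166144, nat_lit 160000, nat_lit 157120, nat_lit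 154976, nat_lit 149872, nat_lit 146472, nat_lit 141684, nat_lit 138146, nat_lit 132998, nat_lit 1438, nat_lit 5716, nat_lit 10040, nat_lit 13920, nat_lit 16928, nat_lit 20736, nat_lit 25856, nat_lit 30464, nat_lit 37888, nat_lit 41738, nat_lit 37209, nat_lit 33477, nat_lit 28952, nat_lit 24591, nat_lit 20490, nat_lit 16641, nat_lit 12291, nat_lit 8211, nat_lit 8]⟩⟩⟩, ⟨[nat_lit 291, nat_lit 288, nat_lit 286, nat_lit 287], [nat_lit 287, nat_lit 286, nat_lit 288, nat_lit 289, nat_lit 285], (nat_lit 613), ⟨[nat_lit 7, nat_lit 59], [nat_lit 0, nat_lit 37, nat_lit 49], ⟨[nat_lit 0x40d77a3c2d014f69b12485452345ca], [nat_lit 175104, nat_lit 171008, nat_lit 167424, nat_lit 159872, nat_lit 159232, nat_lit 154112, nat_lit 147968, nat_lit 145632, nat_lit 141300, nat_lit 136460, nat_lit 132178, nat_lit 122, nat_lit 5048, nat_lit 9648, nat_lit 13152, nat_lit 17632, nat_lit 22208, nat_lit 24832, nat_lit 29440, nat_lit 33280, nat_lit 41745, nat_lit 38371,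 nat_lit 33833, nat_lit 29230, nat_lit 24715, nat_lit 20759, nat_lit 16463, nat_lit 8227, nat_lit 4129]⟩⟩⟩⟩]

theorem dcMr341 : Rng dcM 341 342 := Rng.of (l := dcMc341) (by decide +kernel)

def dcMc342 : List Cert := [.edge ⟨[nat_lit 84, nat_lit 69], [nat_lit 0, nat_lit 8, nat_lit 55], ⟨[nat_lit 0x84e2275d643b156415f518032499b4], [nat_lit 174080, nat_lit 164096, nat_lit 160768, nat_lit 157696, nat_lit 154016, nat_lit 150768, nat_lit 144456, nat_lit 141924, nat_lit 136242, nat_lit 133933, nat_lit 1108, nat_lit 4220, nat_lit 9216, nat_lit 13712, nat_lit 21504, nat_lit 25984, nat_lit 29184, nat_lit 37888, nat_lit 41972, nat_lit 38003, nat_lit 33405, nat_lit 28981, nat_lit 24766, nat_lit 20485, nat_lit 16448, nat_lit 12291, nat_lit 8224, nat_lit 4105]⟩⟩ ⟨(nat_lit 2), ⟨[nat_lit 285, nat_lit 292, nat_lit 293, nat_lit 292, nat_lit 284], [], (nat_lit 682), ⟨[nat_lit 0, nat_lit 2, nat_lit 49], [nat_lit 86, nat_lit 65], ⟨[nat_lit 0x10c259a1d76aed28a5f431c04542ac],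 [nat_lit 168448, nat_lit 167424, nat_lit 160896, nat_lit 155840, nat_lit 152448, nat_lit 147536, nat_lit 145360, nat_lit 139300, nat_lit 137130, nat_lit 131081, nat_lit 2012, nat_lit 4156, nat_lit 10136, nat_lit 13136, nat_lit 16640, nat_lit 20800, nat_lit 24704, nat_lit 28928, nat_lit 41383, nat_lit 36924, nat_lit 32992, nat_lit 28741, nat_lit 24764, nat_lit 20569, nat_lit 12354, nat_lit 8321, nat_lit 4097, nat_lit 2]⟩⟩⟩, ⟨[nat_lit 222, nat_lit 223, nat_lit 222, nat_lit 224, nat_lit 222, nat_lit 223], [], (nat_lit 626), ⟨[nat_lit 2, nat_lit 92], [nat_lit 25], ⟨[nat_lit 0xb19946a927b8e4b8bcb3091c080aa8], [nat_lit 175104, nat_lit 171520, nat_lit 166144, nat_lit 161280, nat_lit 157120, nat_lit 152992, nat_lit 150448, nat_lit 145400, nat_lit 139448, nat_lit 138962, nat_lit 135046, nat_lit 1554, nat_lit 5856, nat_lit 8448, nat_lit 13248, nat_lit 16864, nat_lit 20736, nat_lit 24832, nat_lit 30464, nat_lit 41969, nat_lit 36903, nat_lit 33933,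 nat_lit 29732, nat_lit 24588, nat_lit 20481, nat_lit 16386, nat_lit 12357, nat_lit 8193, nat_lit 4112]⟩⟩⟩⟩,
  .edge ⟨[nat_lit 0, nat_lit 4, nat_lit 68], [nat_lit 39, nat_lit 48], ⟨[nat_lit 0xa808da41363c4a833ee164d6e90d42], [nat_lit 165376, nat_lit 160128, nat_lit 157952, nat_lit 152896, nat_lit 147584, nat_lit 143456, nat_lit 141144, nat_lit 136268, nat_lit 132889, nat_lit 1814, nat_lit 5884, nat_lit 10168, nat_lit 18336, nat_lit 21696, nat_lit 28928, nat_lit 41593, nat_lit 38307, nat_lit 32774, nat_lit 28734, nat_lit 24627, nat_lit 20556, nat_lit 16419, nat_lit 12308, nat_lit 8208, nat_lit 4128, nat_lit 2]⟩⟩ ⟨(nat_lit 2), ⟨[nat_lit 286, nat_lit 286, nat_lit 293, nat_lit 290], [], (nat_lit 680), ⟨[nat_lit 0, nat_lit 86], [nat_lit 74, nat_lit 58], ⟨[nat_lit 0xb55cc5a023508096de8f34cf289490], [nat_lit 166400, nat_lit 160768, nat_lit 155712, nat_lit 152192, nat_lit 147536, nat_lit 143952, nat_lit 139980, nat_lit 135522, nat_lit 131217,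 nat_lit 1246, nat_lit 4396, nat_lit 8616, nat_lit 12800, nat_lit 21824, nat_lit 25088, nat_lit 29184, nat_lit 41361, nat_lit 37254, nat_lit 32808, nat_lit 29255, nat_lit 24713, nat_lit 20762, nat_lit 16418, nat_lit 12352, nat_lit 8706, nat_lit 4128, nat_lit 128]⟩⟩⟩, ⟨[nat_lit 262, nat_lit 262, nat_lit 262, nat_lit 222, nat_lit 222], [], (nat_lit 492), ⟨[nat_lit 23, nat_lit 55], [nat_lit 80], ⟨[nat_lit 0x689249a976950e50de03620067d62e], [nat_lit 175104, nat_lit 169984, nat_lit 165888, nat_lit 161536, nat_lit 157312, nat_lit 153312, nat_lit 151424, nat_lit 144840, nat_lit 138936, nat_lit 133130, nat_lit 166, nat_lit 4124, nat_lit 8488, nat_lit 13152, nat_lit 16864, nat_lit 21952, nat_lit 25984, nat_lit 29696, nat_lit 34304, nat_lit 37888, nat_lit 41757, nat_lit 37267, nat_lit 33318, nat_lit 29011, nat_lit 24760, nat_lit 20493, nat_lit 16397, nat_lit 12304, nat_lit 8201, nat_lit 4161]⟩⟩⟩⟩]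

theorem dcMr342 : Rng dcM 342 344 := Rng.of (l := dcMc342) (by decide +kernel)

def dcMc344 : List Cert := [.edge ⟨[nat_lit 21, nat_lit 53], [nat_lit 35, nat_lit 69], ⟨[nat_lit 0x8d4a345e8cb4c270384b4c9b0311ea], [nat_lit 175104, nat_lit 169472, nat_lit 164864, nat_lit 160128, nat_lit 157760, nat_lit 154016, nat_lit 150544, nat_lit 145328, nat_lit 141512, nat_lit 135640, nat_lit 134198, nat_lit 122, nat_lit 4964, nat_lit 8360, nat_lit 13152, nat_lit 16736, nat_lit 22336, nat_lit 25600, nat_lit 30464, nat_lit 33792, nat_lit 40971, nat_lit 37227, nat_lit 33366, nat_lit 28696, nat_lit 24593, nat_lit 20483, nat_lit 16458, nat_lit 12291, nat_lit 8450, nat_lit 4097, nat_lit 2]⟩⟩ ⟨(nat_lit 2), ⟨[nat_lit 294, nat_lit 284, nat_lit 288, nat_lit 292], [nat_lit 293, nat_lit 292, nat_lit 291, nat_lit 290, nat_lit 284], (nat_lit 617), ⟨[nat_lit 0, nat_lit 73, nat_lit 57], [nat_lit 42, nat_lit 94], ⟨[nat_lit 0x838f5198a88a660b91b262c4fb2a81], [nat_lit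 174080, nat_lit 169472, nat_lit 159872, nat_lit 157440, nat_lit 153472, nat_lit 148384, nat_lit 144336, nat_lit 136434, nat_lit 132970, nat_lit 1808, nat_lit 4128, nat_lit 8224, nat_lit 12704, nat_lit 18176, nat_lit 22208, nat_lit 26496, nat_lit 28928, nat_lit 41946, nat_lit 37978, nat_lit 33408, nat_lit 29284, nat_lit 24740, nat_lit 20631, nat_lit 16427, nat_lit 12289, nat_lit 8323, nat_lit 4101, nat_lit 4]⟩⟩⟩, ⟨[nat_lit 225, nat_lit 263, nat_lit 260, nat_lit 259, nat_lit 260], [], (nat_lit 642), ⟨[nat_lit 79, nat_lit 58], [nat_lit 72, nat_lit 70], ⟨[nat_lit 0x194229dd0e31007ab1505b6d27c534], [nat_lit 175104, nat_lit 168960, nat_lit 161024, nat_lit 159040, nat_lit 154016, nat_lit 151264, nat_lit 144808, nat_lit 141628, nat_lit 135170, nat_lit 135125, nat_lit 1108, nat_lit 5604, nat_lit 8704, nat_lit 14144, nat_lit 17824, nat_lit 20992, nat_lit 29440, nat_lit 41336, nat_lit 37153, nat_lit 33344, nat_lit 28684, nat_lit 24852, nat_lit 20485,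 nat_lit 16452, nat_lit 12289, nat_lit 8224, nat_lit 4097]⟩⟩⟩⟩]

theorem dcMr344 : Rng dcM 344 345 := Rng.of (l := dcMc344) (by decide +kernel)

def dcMc345 : List Cert := [.edge ⟨[nat_lit 0, nat_lit 80, nat_lit 58], [nat_lit 32, nat_lit 61], ⟨[nat_lit 0x5898a94dc32b4e0aa091b502f81ae9], [nat_lit 173056, nat_lit 171520, nat_lit 164608, nat_lit 161408, nat_lit 158400, nat_lit 152448, nat_lit 149440, nat_lit 146176, nat_lit 142056, nat_lit 137224, nat_lit 135110, nat_lit 1928, nat_lit 5688, nat_lit 10232, nat_lit 14112, nat_lit 16704, nat_lit 21120, nat_lit 25984, nat_lit 28928, nat_lit 41895, nat_lit 38348, nat_lit 33952, nat_lit 28765, nat_lit 24754, nat_lit 20484, nat_lit 16514, nat_lit 12304, nat_lit 8195]⟩⟩ ⟨(nat_lit 2), ⟨[nat_lit 289, nat_lit 285, nat_lit 290], [], (nat_lit 658), ⟨[nat_lit 0, nat_lit 3, nat_lit 62], [nat_lit 42, nat_lit 50], ⟨[nat_lit 0x4dd457a203b0827a91ac5cdc091a91], [nat_lit 173056, nat_lit 168960, nat_lit 166656,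 nat_lit 160384, nat_lit 156032, nat_lit 152640, nat_lit 148496, nat_lit 144504, nat_lit 140136, nat_lit 135490, nat_lit 132872, nat_lit 512, nat_lit 4380, nat_lit 9136, nat_lit 17216, nat_lit 20608, nat_lit 29696, nat_lit 33792, nat_lit 41747, nat_lit 37971, nat_lit 32930, nat_lit 28966, nat_lit 25096, nat_lit 20738, nat_lit 17410, nat_lit 12352, nat_lit 8320, nat_lit 4352, nat_lit 16]⟩⟩⟩, ⟨[nat_lit 140, nat_lit 147, nat_lit 150, nat_lit 150, nat_lit 141, nat_lit 141], [nat_lit 141, nat_lit 140, nat_lit 149, nat_lit 144, nat_lit 148], (nat_lit 331), ⟨[nat_lit 74, nat_lit 56], [nat_lit 42, nat_lit 57], ⟨[nat_lit 0x336911aca7022d780a697854e95584], [nat_lit 170496, nat_lit 167424, nat_lit 162432, nat_lit 159424, nat_lit 152576, nat_lit 151392, nat_lit 146168, nat_lit 139616, nat_lit 138004, nat_lit 132761, nat_lit 1778, nat_lit 4396, nat_lit 8928, nat_lit 12416, nat_lit 18240, nat_lit 21440, nat_lit 26368, nat_lit 29952, nat_lit 34304, nat_lit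 40984, nat_lit 37334, nat_lit 33322, nat_lit 28939, nat_lit 24603, nat_lit 20609, nat_lit 16420, nat_lit 12357, nat_lit 8195, nat_lit 4101, nat_lit 4]⟩⟩⟩⟩]

theorem dcMr345 : Rng dcM 345 346 := Rng.of (l := dcMc345) (by decide +kernel)

def dcMc346 : List Cert := [.edge ⟨[nat_lit 11, nat_lit 90], [nat_lit 37, nat_lit 54], ⟨[nat_lit 0x1c035358928bdd7608aaa2513381ab], [nat_lit 173056, nat_lit 169984, nat_lit 164864, nat_lit 162048, nat_lit 157184, nat_lit 154816, nat_lit 150480, nat_lit 145704, nat_lit 139976, nat_lit 135596, nat_lit 133990, nat_lit 354, nat_lit 5488, nat_lit 8680, nat_lit 12976, nat_lit 18112, nat_lit 22272, nat_lit 25216, nat_lit 30208, nat_lit 41525, nat_lit 37950, nat_lit 33002, nat_lit 28977, nat_lit 24603, nat_lit 20752, nat_lit 16398, nat_lit 12294, nat_lit 8202, nat_lit 4104]⟩⟩ ⟨(nat_lit 2), ⟨[nat_lit 289, nat_lit 291, nat_lit 291, nat_lit 293, nat_lit 284], [nat_lit 286, nat_lit 286, nat_lit 295, nat_lit 289],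 (nat_lit 631), ⟨[nat_lit 3, nat_lit 55], [nat_lit 0, nat_lit 28, nat_lit 48], ⟨[nat_lit 0x58c490a00a8c8c49c0a7a32adbbece], [nat_lit 168448, nat_lit 167424, nat_lit 160768, nat_lit 155840, nat_lit 153440, nat_lit 147696, nat_lit 144464, nat_lit 139956, nat_lit 135546, nat_lit 131493, nat_lit 1292, nat_lit 4720, nat_lit 8408, nat_lit 12400, nat_lit 17376, nat_lit 21952, nat_lit 25088, nat_lit 29184, nat_lit 34304, nat_lit 41654, nat_lit 37109, nat_lit 32803, nat_lit 29234, nat_lit 24599, nat_lit 20510, nat_lit 16431, nat_lit 12289, nat_lit 8226, nat_lit 4129, nat_lit 2]⟩⟩⟩, ⟨[nat_lit 263, nat_lit 265, nat_lit 264, nat_lit 222, nat_lit 222], [], (nat_lit 487), ⟨[nat_lit 0, nat_lit 29, nat_lit 65], [nat_lit 30, nat_lit 90], ⟨[nat_lit 0x5ccf2ac44d2aad47112f4186105d90], [nat_lit 173056, nat_lit 171008, nat_lit 164352, nat_lit 160256, nat_lit 156992, nat_lit 152160, nat_lit 147968, nat_lit 144928, nat_lit 140632, nat_lit 136836, nat_lit 132688,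 nat_lit 1076, nat_lit 4924, nat_lit 9328, nat_lit 14080, nat_lit 17024, nat_lit 20544, nat_lit 25088, nat_lit 28928, nat_lit 34304, nat_lit 41472, nat_lit 37300, nat_lit 33436, nat_lit 29244, nat_lit 24601, nat_lit 20744, nat_lit 16455, nat_lit 12307, nat_lit 8200, nat_lit 4]⟩⟩⟩⟩]

theorem dcMr346 : Rng dcM 346 347 := Rng.of (l := dcMc346) (by decide +kernel)

def dcMc347 : List Cert := [.edge ⟨[nat_lit 0, nat_lit 10, nat_lit 46], [nat_lit 75, nat_lit 68], ⟨[nat_lit 0xb254881f73adcd51a701a044aa6c5], [nat_lit 164096, nat_lit 161280, nat_lit 152960, nat_lit 148128, nat_lit 144600, nat_lit 140072, nat_lit 136272, nat_lit 133318, nat_lit 128, nat_lit 6140, nat_lit 9120, nat_lit 12976, nat_lit 16512, nat_lit 20608, nat_lit 26368, nat_lit 29440, nat_lit 33792, nat_lit 37888, nat_lit 41601, nat_lit 38232, nat_lit 33304, nat_lit 28709, nat_lit 24596, nat_lit 20481, nat_lit 16385, nat_lit 12294, nat_lit 8201, nat_lit 4101]⟩⟩ ⟨(nat_lit 2), ⟨[nat_lit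 295, nat_lit 290, nat_lit 291, nat_lit 289], [nat_lit 293, nat_lit 292, nat_lit 291, nat_lit 290, nat_lit 284], (nat_lit 617), ⟨[nat_lit 0, nat_lit 27, nat_lit 90], [nat_lit 45, nat_lit 69], ⟨[nat_lit 0x7c5b2b516984d8e2804621c61aa2ea], [nat_lit 173056, nat_lit 165376, nat_lit 160256, nat_lit 156736, nat_lit 153952, nat_lit 148128, nat_lit 145048, nat_lit 139788, nat_lit 135936, nat_lit 132785, nat_lit 1842, nat_lit 4964, nat_lit 8800, nat_lit 12752, nat_lit 16576, nat_lit 26112, nat_lit 30464, nat_lit 34304, nat_lit 41981, nat_lit 38099, nat_lit 33294, nat_lit 29765, nat_lit 25663, nat_lit 16526, nat_lit 12417, nat_lit 8210, nat_lit 4097]⟩⟩⟩, ⟨[nat_lit 266, nat_lit 266, nat_lit 223, nat_lit 259, nat_lit 224], [], (nat_lit 502), ⟨[nat_lit 80, nat_lit 63], [nat_lit 40, nat_lit 69], ⟨[nat_lit 0x235d69c4f45c02f519159306905ca2], [nat_lit 173056, nat_lit 170496, nat_lit 165376, nat_lit 159872, nat_lit 157504, nat_lit 152768, nat_lit 148288,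 nat_lit 145088, nat_lit 139968, nat_lit 135834, nat_lit 131301, nat_lit 1136, nat_lit 5444, nat_lit 8704, nat_lit 12976, nat_lit 17632, nat_lit 20608, nat_lit 26240, nat_lit 29184, nat_lit 37888, nat_lit 41546, nat_lit 38321, nat_lit 32951, nat_lit 28760, nat_lit 24760, nat_lit 20569, nat_lit 16427, nat_lit 12320, nat_lit 8193, nat_lit 4112, nat_lit 4]⟩⟩⟩⟩]

theorem dcMr347 : Rng dcM 347 348 := Rng.of (l := dcMc347) (by decide +kernel)

def dcMc348 : List Cert := [.edge ⟨[nat_lit 0, nat_lit 85, nat_lit 94], [nat_lit 86, nat_lit 62], ⟨[nat_lit 0xa5db6140eb731f59a4a3045069102a], [nat_lit 168960, nat_lit 165120, nat_lit 160384, nat_lit 159168, nat_lit 151616, nat_lit 149312, nat_lit 143616, nat_lit 139348, nat_lit 137104, nat_lit 131466, nat_lit 1874, nat_lit 4160, nat_lit 9176, nat_lit 13728, nat_lit 16928, nat_lit 21888, nat_lit 25600, nat_lit 30208, nat_lit 41536, nat_lit 38325, nat_lit 33437, nat_lit 29237, nat_lit 24602, nat_lit 20739,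 nat_lit 16458, nat_lit 12323, nat_lit 8705]⟩⟩ ⟨(nat_lit 2), ⟨[nat_lit 285, nat_lit 291, nat_lit 286], [nat_lit 286, nat_lit 286, nat_lit 295, nat_lit 289], (nat_lit 631), ⟨[nat_lit 87, nat_lit 91], [nat_lit 0, nat_lit 86, nat_lit 66], ⟨[nat_lit 0x4124aba44e0c4c0a96906cd877d963], [nat_lit 175104, nat_lit 167424, nat_lit 162688, nat_lit 157888, nat_lit 151808, nat_lit 148384, nat_lit 144200, nat_lit 142980, nat_lit 137654, nat_lit 131564, nat_lit 688, nat_lit 5072, nat_lit 9752, nat_lit 13440, nat_lit 17792, nat_lit 22336, nat_lit 26240, nat_lit 29184, nat_lit 33280, nat_lit 41465, nat_lit 37266, nat_lit 33500, nat_lit 28728, nat_lit 24610, nat_lit 20509, nat_lit 16420, nat_lit 12311, nat_lit 8195, nat_lit 4101, nat_lit 4]⟩⟩⟩, ⟨[nat_lit 259, nat_lit 263, nat_lit 225, nat_lit 261, nat_lit 222], [nat_lit 223, nat_lit 225, nat_lit 225, nat_lit 222, nat_lit 259], (nat_lit 539), ⟨[nat_lit 0, nat_lit 30, nat_lit 91], [nat_lit 88, nat_lit 67],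 ⟨[nat_lit 0x22dec09c081c5d43593584caa14aed], [nat_lit 175104, nat_lit 168448, nat_lit 164864, nat_lit 162688, nat_lit 156288, nat_lit 153504, nat_lit 149856, nat_lit 147064, nat_lit 142352, nat_lit 139154, nat_lit 134249, nat_lit 492, nat_lit 4328, nat_lit 13712, nat_lit 17920, nat_lit 26240, nat_lit 41552, nat_lit 38054, nat_lit 32876, nat_lit 28683, nat_lit 24871, nat_lit 20753, nat_lit 16396, nat_lit 12295, nat_lit 8200, nat_lit 4]⟩⟩⟩⟩]

theorem dcMr348 : Rng dcM 348 349 := Rng.of (l := dcMc348) (by decide +kernel)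

def dcMc349 : List Cert := [.edge ⟨[nat_lit 0, nat_lit 42, nat_lit 55], [nat_lit 27, nat_lit 50], ⟨[nat_lit 0xb1c0a150887c1696ceb70b072344ae], [nat_lit 173056, nat_lit 164096, nat_lit 160384, nat_lit 157568, nat_lit 153856, nat_lit 148992, nat_lit 144008, nat_lit 139600, nat_lit 135442, nat_lit 132608, nat_lit 166, nat_lit 5200, nat_lit 9648, nat_lit 13312, nat_lit 20992, nat_lit 25984, nat_lit 29696, nat_lit 33792, nat_lit 41854, nat_lit 36912, nat_lit 34013, nat_lit 28939, nat_lit 25630, nat_lit 20485, nat_lit 16896, nat_lit 12416, nat_lit 8225, nat_lit 4353, nat_lit 32]⟩⟩ ⟨(nat_lit 2), ⟨[nat_lit 285, nat_lit 288, nat_lit 290, nat_lit 294], [nat_lit 294, nat_lit 293, nat_lit 287, nat_lit 288, nat_lit 284], (nat_lit 625), ⟨[nat_lit 13, nat_lit 59], [nat_lit 0, nat_lit 9, nat_lit 51], ⟨[nat_lit 0x4de283814c904769ba8f240d512da5], [nat_lit 168448, nat_lit 164352, nat_lit 159872, nat_lit 156032, nat_lit 151584, nat_lit 148480, nat_lit 143976,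 nat_lit 139440, nat_lit 136556, nat_lit 133175, nat_lit 128, nat_lit 4788, nat_lit 8680, nat_lit 12640, nat_lit 17600, nat_lit 21440, nat_lit 26368, nat_lit 29696, nat_lit 34304, nat_lit 41409, nat_lit 37358, nat_lit 33383, nat_lit 28673, nat_lit 25093, nat_lit 20554, nat_lit 16398, nat_lit 12293, nat_lit 8195, nat_lit 4101]⟩⟩⟩, ⟨[nat_lit 263, nat_lit 259, nat_lit 266, nat_lit 261, nat_lit 225, nat_lit 225], [], (nat_lit 506), ⟨[nat_lit 0, nat_lit 73, nat_lit 56], [nat_lit 0, nat_lit 75, nat_lit 54], ⟨[nat_lit 0xd0b28a26d7284080cf77acc4b5589], [nat_lit 168960, nat_lit 166656, nat_lit 161408, nat_lit 157312, nat_lit 152224, nat_lit 147936, nat_lit 143752, nat_lit 139584, nat_lit 135174, nat_lit 132731, nat_lit 804, nat_lit 4156, nat_lit 9312, nat_lit 13552, nat_lit 16640, nat_lit 22272, nat_lit 26112, nat_lit 29440, nat_lit 41350, nat_lit 36919, nat_lit 32849, nat_lit 29702, nat_lit 24872, nat_lit 20569, nat_lit 12293, nat_lit 8202, nat_lit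 4]⟩⟩⟩⟩]

theorem dcMr349 : Rng dcM 349 350 := Rng.of (l := dcMc349) (by decide +kernel)

def dcMc350 : List Cert := [.edge ⟨[nat_lit 37, nat_lit 66], [nat_lit 0, nat_lit 43, nat_lit 46], ⟨[nat_lit 0x44aab225a1b16267ce8c700eab8a03], [nat_lit 175104, nat_lit 166144, nat_lit 162048, nat_lit 157696, nat_lit 151808, nat_lit 147664, nat_lit 143512, nat_lit 142720, nat_lit 138754, nat_lit 132437, nat_lit 1148, nat_lit 5508, nat_lit 8256, nat_lit 12352, nat_lit 16608, nat_lit 22208, nat_lit 24960, nat_lit 29440, nat_lit 33280, nat_lit 41823, nat_lit 36979, nat_lit 33927, nat_lit 28709, nat_lit 24860, nat_lit 20508, nat_lit 16421, nat_lit 12291, nat_lit 8194, nat_lit 8]⟩⟩ ⟨(nat_lit 2), ⟨[nat_lit 288, nat_lit 290, nat_lit 285, nat_lit 295], [nat_lit 294, nat_lit 289, nat_lit 295, nat_lit 289], (nat_lit 607), ⟨[nat_lit 0, nat_lit 36, nat_lit 58], [nat_lit 9, nat_lit 68], ⟨[nat_lit 0x94ec28b8a96500d33e0b390770aaa8], [nat_lit 174080, nat_lit 171520,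 nat_lit 166912, nat_lit 162432, nat_lit 157376, nat_lit 153760, nat_lit 151152, nat_lit 144088, nat_lit 142652, nat_lit 136484, nat_lit 132219, nat_lit 2018, nat_lit 4352, nat_lit 10048, nat_lit 12544, nat_lit 17024, nat_lit 21760, nat_lit 25728, nat_lit 29184, nat_lit 33792, nat_lit 37888, nat_lit 41316, nat_lit 37236, nat_lit 33370, nat_lit 28796, nat_lit 24626, nat_lit 20496, nat_lit 16419, nat_lit 12418, nat_lit 8193, nat_lit 4105, nat_lit 2]⟩⟩⟩, ⟨[nat_lit 223, nat_lit 260, nat_lit 223, nat_lit 261, nat_lit 265, nat_lit 222], [], (nat_lit 544), ⟨[nat_lit 13, nat_lit 52], [nat_lit 22, nat_lit 90], ⟨[nat_lit 0x20a70034ef0d8b472e379313550cc8], [nat_lit 173056, nat_lit 168448, nat_lit 166912, nat_lit 162816, nat_lit 157824, nat_lit 155104, nat_lit 147904, nat_lit 147216, nat_lit 141696, nat_lit 136252, nat_lit 133658, nat_lit 236, nat_lit 5116, nat_lit 10112, nat_lit 13152, nat_lit 17632, nat_lit 20928, nat_lit 25600, nat_lit 30208, nat_lit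 34304, nat_lit 41923, nat_lit 37294, nat_lit 33462, nat_lit 29269, nat_lit 24754, nat_lit 20634, nat_lit 16386, nat_lit 12355, nat_lit 8707, nat_lit 4105]⟩⟩⟩⟩,
  .stab (nat_lit 592) tw0 ⟨(nat_lit 0), ⟨[nat_lit 144, nat_lit 148, nat_lit 143, nat_lit 140, nat_lit 140, nat_lit 139, nat_lit 143, nat_lit 141], [], (nat_lit 592), ⟨[nat_lit 0, nat_lit 59], [nat_lit 73, nat_lit 56], ⟨[nat_lit 0x3929768c0c7b84144a2b2d4d654269], [nat_lit 168960, nat_lit 165376, nat_lit 161152, nat_lit 157504, nat_lit 152736, nat_lit 148800, nat_lit 146968, nat_lit 139640, nat_lit 136028, nat_lit 131683, nat_lit 1928, nat_lit 5580, nat_lit 9488, nat_lit 12352, nat_lit 17760, nat_lit 22208, nat_lit 24960, nat_lit 29952, nat_lit 34304, nat_lit 41887, nat_lit 36993, nat_lit 32974, nat_lit 28744, nat_lit 24602, nat_lit 20485, nat_lit 16393, nat_lit 12295, nat_lit 8203, nat_lit 4097, nat_lit 2]⟩⟩⟩, ap0⟩,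
  .prod [] [nat_lit 288, nat_lit 288, nat_lit 287, nat_lit 351]]

theorem dcMr350 : Rng dcM 350 353 := Rng.of (l := dcMc350) (by decide +kernel)

def dcMc353 : List Cert := [.prod [] [nat_lit 284, nat_lit 285, nat_lit 286, nat_lit 287],
  .prod [] [nat_lit 351, nat_lit 352, nat_lit 284, nat_lit 285],
  .prod [] [nat_lit 351, nat_lit 352, nat_lit 285, nat_lit 287],
  .prod [] [nat_lit 285, nat_lit 288, nat_lit 351, nat_lit 288],
  .prod [] [nat_lit 284, nat_lit 285, nat_lit 352, nat_lit 354],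
  .edge ⟨[nat_lit 76, nat_lit 50], [nat_lit 0, nat_lit 75, nat_lit 54], ⟨[nat_lit 0x23a60ab58bb4a0a39917a24430962f], [nat_lit 169472, nat_lit 166144, nat_lit 163328, nat_lit 158976, nat_lit 155584, nat_lit 147920, nat_lit 145864, nat_lit 142772, nat_lit 136082, nat_lit 133493, nat_lit 1668, nat_lit 4608, nat_lit 9728, nat_lit 13664, nat_lit 16832, nat_lit 21952, nat_lit 26112, nat_lit 30208, nat_lit 37888, nat_lit 41935, nat_lit 37976, nat_lit 33391, nat_lit 29045, nat_lit 24843, nat_lit 20575, nat_lit 16450, nat_lit 12291, nat_lit 8225, nat_lit 4104]⟩⟩ ⟨(nat_lit 2), ⟨[nat_lit 46, nat_lit 70, nat_lit 67, nat_lit 68, nat_lit 73, nat_lit 46], [], (nat_lit 442), ⟨[nat_lit 0, nat_lit 35, nat_lit 90], [nat_lit 0, nat_lit 23, nat_lit 60], ⟨[nat_lit 0x312b67ad2c146606b948848233dcb4], [nat_lit 173056, nat_lit 169984, nat_lit 167168, nat_lit 161792, nat_lit 158016, nat_lit 152640, nat_lit 150912, nat_lit 147200, nat_lit 139388, nat_lit 137588,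 nat_lit 131113, nat_lit 1108, nat_lit 4952, nat_lit 9928, nat_lit 13200, nat_lit 17152, nat_lit 20608, nat_lit 25600, nat_lit 29952, nat_lit 41346, nat_lit 37076, nat_lit 33792, nat_lit 29002, nat_lit 24756, nat_lit 20487, nat_lit 16394, nat_lit 12307, nat_lit 8224, nat_lit 4]⟩⟩⟩, ⟨[nat_lit 222, nat_lit 264, nat_lit 225, nat_lit 263], [], (nat_lit 602), ⟨[nat_lit 0, nat_lit 6, nat_lit 50], [nat_lit 80, nat_lit 63], ⟨[nat_lit 0x18887721ab94ef60980563d4984695], [nat_lit 173056, nat_lit 168960, nat_lit 166144, nat_lit 161152, nat_lit 156224, nat_lit 153216, nat_lit 148416, nat_lit 143904, nat_lit 141000, nat_lit 137112, nat_lit 132763, nat_lit 2018, nat_lit 5604, nat_lit 8568, nat_lit 13216, nat_lit 16576, nat_lit 20992, nat_lit 26112, nat_lit 29184, nat_lit 33280, nat_lit 37888, nat_lit 41928, nat_lit 38019, nat_lit 32896, nat_lit 28977, nat_lit 24582, nat_lit 20628, nat_lit 16515, nat_lit 12803, nat_lit 8225, nat_lit 4112]⟩⟩⟩⟩]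

theorem dcMr353 : Rng dcM 353 359 := Rng.of (l := dcMc353) (by decide +kernel)

def dcMc359 : List Cert := [.edge ⟨[nat_lit 0, nat_lit 85, nat_lit 56], [nat_lit 45, nat_lit 93], ⟨[nat_lit 0x72e03226aa946c703e686b0b735041], [nat_lit 174080, nat_lit 169472, nat_lit 165888, nat_lit 161792, nat_lit 158016, nat_lit 151648, nat_lit 147792, nat_lit 143856, nat_lit 141696, nat_lit 138262, nat_lit 132355, nat_lit 1142, nat_lit 5568, nat_lit 8224, nat_lit 13312, nat_lit 18272, nat_lit 21504, nat_lit 26368, nat_lit 29696, nat_lit 33792, nat_lit 41880, nat_lit 37107, nat_lit 32806, nat_lit 28710, nat_lit 24611, nat_lit 20494, nat_lit 16902, nat_lit 12320, nat_lit 8194, nat_lit 16]⟩⟩ ⟨(nat_lit 2), ⟨[nat_lit 105, nat_lit 77, nat_lit 77, nat_lit 78, nat_lit 78, nat_lit 77], [], (nat_lit 534), ⟨[nat_lit 0, nat_lit 34, nat_lit 69], [nat_lit 38, nat_lit 58], ⟨[nat_lit 0x895697b8d09d6843803245c4d1d98a], [nat_lit 175104, nat_lit 169984, nat_lit 167424,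 nat_lit 162176, nat_lit 156928, nat_lit 155200, nat_lit 150928, nat_lit 145336, nat_lit 142684, nat_lit 135562, nat_lit 132447, nat_lit 166, nat_lit 5768, nat_lit 9368, nat_lit 14272, nat_lit 21248, nat_lit 29696, nat_lit 33280, nat_lit 37888, nat_lit 41591, nat_lit 38299, nat_lit 33004, nat_lit 28720, nat_lit 24832, nat_lit 20506, nat_lit 16421, nat_lit 12307, nat_lit 8203]⟩⟩⟩, ⟨[nat_lit 263, nat_lit 259, nat_lit 223, nat_lit 263], [], (nat_lit 620), ⟨[nat_lit 0, nat_lit 12, nat_lit 57], [nat_lit 0, nat_lit 71, nat_lit 64], ⟨[nat_lit 0x4406d53a41b24cba08a02558f89ef3], [nat_lit 175104, nat_lit 171008, nat_lit 167168, nat_lit 163584, nat_lit 155968, nat_lit 154048, nat_lit 150096, nat_lit 145320, nat_lit 141996, nat_lit 136546, nat_lit 132677, nat_lit 1530, nat_lit 5688, nat_lit 9056, nat_lit 13664, nat_lit 18112, nat_lit 22016, nat_lit 26496, nat_lit 30464, nat_lit 33792, nat_lit 41901, nat_lit 36884, nat_lit 34042, nat_lit 28786, nat_lit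 24764, nat_lit 20507, nat_lit 16396, nat_lit 12304, nat_lit 8201, nat_lit 4097]⟩⟩⟩⟩]

theorem dcMr359 : Rng dcM 359 360 := Rng.of (l := dcMc359) (by decide +kernel)

def dcMc360 : List Cert := [.edge ⟨[nat_lit 2, nat_lit 58], [nat_lit 16, nat_lit 65], ⟨[nat_lit 0xa6ce80c053bd915a8d224eb768a88], [nat_lit 173056, nat_lit 168448, nat_lit 161152, nat_lit 157312, nat_lit 152352, nat_lit 147584, nat_lit 146024, nat_lit 140184, nat_lit 135206, nat_lit 133024, nat_lit 236, nat_lit 5676, nat_lit 8200, nat_lit 12544, nat_lit 17536, nat_lit 21248, nat_lit 25344, nat_lit 29440, nat_lit 41615, nat_lit 37101, nat_lit 32776, nat_lit 29254, nat_lit 25125, nat_lit 20500, nat_lit 16385, nat_lit 12289, nat_lit 4225, nat_lit 8]⟩⟩ ⟨(nat_lit 2), ⟨[nat_lit 130, nat_lit 137, nat_lit 137, nat_lit 136, nat_lit 133], [nat_lit 131, nat_lit 135, nat_lit 110, nat_lit 111, nat_lit 136], (nat_lit 365), ⟨[nat_lit 0, nat_lit 38, nat_lit 47], [nat_lit 32, nat_lit 46],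 ⟨[nat_lit 0x6ca8370a3724173484c03a2b67a8ac], [nat_lit 168960, nat_lit 164864, nat_lit 161664, nat_lit 156544, nat_lit 152256, nat_lit 147888, nat_lit 145000, nat_lit 141972, nat_lit 136572, nat_lit 131901, nat_lit 1580, nat_lit 4540, nat_lit 8320, nat_lit 14304, nat_lit 17536, nat_lit 22336, nat_lit 26240, nat_lit 34304, nat_lit 41860, nat_lit 36996, nat_lit 32841, nat_lit 29235, nat_lit 24637, nat_lit 20492, nat_lit 16385, nat_lit 12292, nat_lit 8195, nat_lit 4101, nat_lit 4]⟩⟩⟩, ⟨[nat_lit 215, nat_lit 172, nat_lit 172, nat_lit 217, nat_lit 213, nat_lit 219, nat_lit 170], [nat_lit 216, nat_lit 214, nat_lit 216, nat_lit 219, nat_lit 212, nat_lit 172, nat_lit 170], (nat_lit 679), ⟨[nat_lit 0, nat_lit 40, nat_lit 66], [nat_lit 0, nat_lit 40, nat_lit 52], ⟨[nat_lit 0x1aeae335f299e97280514303682544], [nat_lit 173056, nat_lit 168448, nat_lit 166656, nat_lit 163072, nat_lit 159552, nat_lit 155520, nat_lit 148096, nat_lit 146544, nat_lit 142856,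 nat_lit 135948, nat_lit 133571, nat_lit 508, nat_lit 5884, nat_lit 8312, nat_lit 13168, nat_lit 16448, nat_lit 21632, nat_lit 30208, nat_lit 33280, nat_lit 37888, nat_lit 41875, nat_lit 38298, nat_lit 33986, nat_lit 28759, nat_lit 24593, nat_lit 20493, nat_lit 16396, nat_lit 12309, nat_lit 8211]⟩⟩⟩⟩]

theorem dcMr360 : Rng dcM 360 361 := Rng.of (l := dcMc360) (by decide +kernel)

def dcMc361 : List Cert := [.edge ⟨[nat_lit 0, nat_lit 19, nat_lit 54], [nat_lit 0, nat_lit 7, nat_lit 64], ⟨[nat_lit 0x502b2359f472167644b3486171904d], [nat_lit 170496, nat_lit 164608, nat_lit 162944, nat_lit 156096, nat_lit 154208, nat_lit 150656, nat_lit 147320, nat_lit 140440, nat_lit 136656, nat_lit 133258, nat_lit 488, nat_lit 5024, nat_lit 9608, nat_lit 13136, nat_lit 25344, nat_lit 30208, nat_lit 33280, nat_lit 41971, nat_lit 38298, nat_lit 32910, nat_lit 28959, nat_lit 24625, nat_lit 20544, nat_lit 16421, nat_lit 12289, nat_lit 8209, nat_lit 4353, nat_lit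 2]⟩⟩ ⟨(nat_lit 2), ⟨[nat_lit 112, nat_lit 133, nat_lit 136, nat_lit 131, nat_lit 137, nat_lit 110, nat_lit 110], [], (nat_lit 720), ⟨[nat_lit 40, nat_lit 89], [nat_lit 0, nat_lit 84, nat_lit 49], ⟨[nat_lit 0xa840698d4e6097225daf8c285b1d28], [nat_lit 173056, nat_lit 164608, nat_lit 160128, nat_lit 156928, nat_lit 151840, nat_lit 148448, nat_lit 146272, nat_lit 140288, nat_lit 135508, nat_lit 132651, nat_lit 1438, nat_lit 5580, nat_lit 9904, nat_lit 12896, nat_lit 18112, nat_lit 22080, nat_lit 26368, nat_lit 28928, nat_lit 37888, nat_lit 41832, nat_lit 38109, nat_lit 32800, nat_lit 29309, nat_lit 24740, nat_lit 20488, nat_lit 16909, nat_lit 12307, nat_lit 8257, nat_lit 4]⟩⟩⟩, ⟨[nat_lit 353, nat_lit 351, nat_lit 357, nat_lit 352, nat_lit 287], [], (nat_lit 676), ⟨[nat_lit 0, nat_lit 73], [nat_lit 16, nat_lit 93], ⟨[nat_lit 0x240e03554c48e480c6f62ba8b135f3], [nat_lit 175104, nat_lit 171520, nat_lit 161920, nat_lit 158592, nat_lit 153664,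 nat_lit 148800, nat_lit 143488, nat_lit 140728, nat_lit 138642, nat_lit 133440, nat_lit 1318, nat_lit 5024, nat_lit 9384, nat_lit 12944, nat_lit 18176, nat_lit 25472, nat_lit 30464, nat_lit 41969, nat_lit 38017, nat_lit 33002, nat_lit 28983, nat_lit 24587, nat_lit 20744, nat_lit 16391, nat_lit 12354, nat_lit 8194, nat_lit 4101, nat_lit 2]⟩⟩⟩⟩,
  .edge ⟨[nat_lit 0, nat_lit 10, nat_lit 46], [nat_lit 0, nat_lit 71, nat_lit 51], ⟨[nat_lit 0x64905155ae4be241ce1631e8058557], [nat_lit 174080, nat_lit 170496, nat_lit 163712, nat_lit 159680, nat_lit 153600, nat_lit 149264, nat_lit 144184, nat_lit 139948, nat_lit 139058, nat_lit 133598, nat_lit 1142, nat_lit 4964, nat_lit 9328, nat_lit 12832, nat_lit 16864, nat_lit 22080, nat_lit 25344, nat_lit 29952, nat_lit 34304, nat_lit 41836, nat_lit 37194, nat_lit 32814, nat_lit 28741, nat_lit 24609, nat_lit 20485, nat_lit 16390, nat_lit 12291, nat_lit 8209, nat_lit 4101, nat_lit 4]⟩⟩ ⟨(nat_lit 2), ⟨[nat_lit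 149, nat_lit 148, nat_lit 146, nat_lit 139, nat_lit 141, nat_lit 140], [], (nat_lit 326), ⟨[nat_lit 34, nat_lit 67], [nat_lit 0, nat_lit 26, nat_lit 47], ⟨[nat_lit 0x5c26463d4530520951a3b54e88dc4e], [nat_lit 175104, nat_lit 171520, nat_lit 166144, nat_lit 160640, nat_lit 158976, nat_lit 153888, nat_lit 147936, nat_lit 146792, nat_lit 140512, nat_lit 135948, nat_lit 132141, nat_lit 960, nat_lit 5976, nat_lit 8408, nat_lit 13664, nat_lit 16640, nat_lit 21888, nat_lit 28928, nat_lit 33280, nat_lit 40979, nat_lit 37219, nat_lit 32992, nat_lit 29015, nat_lit 24872, nat_lit 20623, nat_lit 16416, nat_lit 8193, nat_lit 4225, nat_lit 4]⟩⟩⟩, ⟨[nat_lit 139, nat_lit 150, nat_lit 140, nat_lit 143, nat_lit 140], [], (nat_lit 594), ⟨[nat_lit 0, nat_lit 6, nat_lit 55], [nat_lit 0, nat_lit 77, nat_lit 68], ⟨[nat_lit 0x2804130c878d988acd2d749547dd70], [nat_lit 173056, nat_lit 164864, nat_lit 161536, nat_lit 155968, nat_lit 152480, nat_lit 147888, nat_lit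 147024, nat_lit 141124, nat_lit 136046, nat_lit 132107, nat_lit 1076, nat_lit 5072, nat_lit 8368, nat_lit 14144, nat_lit 17376, nat_lit 22336, nat_lit 24960, nat_lit 30464, nat_lit 34304, nat_lit 41928, nat_lit 36984, nat_lit 33009, nat_lit 29054, nat_lit 24866, nat_lit 20506, nat_lit 16418, nat_lit 12304, nat_lit 8322, nat_lit 4]⟩⟩⟩⟩]

theorem dcMr361 : Rng dcM 361 363 := Rng.of (l := dcMc361) (by decide +kernel)

def dcMc363 : List Cert := [.edge ⟨[nat_lit 0, nat_lit 43, nat_lit 64], [nat_lit 0, nat_lit 4, nat_lit 54], ⟨[nat_lit 0x6c8f15cc55b30b74a1c68015420c2f], [nat_lit 170496, nat_lit 165120, nat_lit 160384, nat_lit 159616, nat_lit 151744, nat_lit 148736, nat_lit 147392, nat_lit 142804, nat_lit 137722, nat_lit 134893, nat_lit 1318, nat_lit 5992, nat_lit 9160, nat_lit 14192, nat_lit 16416, nat_lit 20992, nat_lit 25856, nat_lit 29696, nat_lit 41918, nat_lit 37029, nat_lit 33927, nat_lit 28724, nat_lit 24612, nat_lit 20505, nat_lit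 16393, nat_lit 12289, nat_lit 8257, nat_lit 4097]⟩⟩ ⟨(nat_lit 2), ⟨[nat_lit 144, nat_lit 144, nat_lit 147, nat_lit 146, nat_lit 143], [], (nat_lit 538), ⟨[nat_lit 43, nat_lit 63], [nat_lit 0, nat_lit 42], ⟨[nat_lit 0x55e35988695960793d0d051c4606c6], [nat_lit 173056, nat_lit 168448, nat_lit 165632, nat_lit 161664, nat_lit 156992, nat_lit 152032, nat_lit 149008, nat_lit 143824, nat_lit 141592, nat_lit 137030, nat_lit 132436, nat_lit 1720, nat_lit 5120, nat_lit 9216, nat_lit 13616, nat_lit 17408, nat_lit 21824, nat_lit 24960, nat_lit 29952, nat_lit 34304, nat_lit 37888, nat_lit 41956, nat_lit 38168, nat_lit 32977, nat_lit 28961, nat_lit 24578, nat_lit 20495, nat_lit 16388, nat_lit 12290, nat_lit 8194, nat_lit 4101, nat_lit 2]⟩⟩⟩, ⟨[nat_lit 263, nat_lit 222, nat_lit 266, nat_lit 261, nat_lit 264, nat_lit 223], [], (nat_lit 606), ⟨[nat_lit 0, nat_lit 38, nat_lit 49], [nat_lit 0, nat_lit 33, nat_lit 48], ⟨[nat_lit 0x72ae43b2cb6cde3056343160140a49],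 [nat_lit 166400, nat_lit 155712, nat_lit 153728, nat_lit 149808, nat_lit 146640, nat_lit 141868, nat_lit 137530, nat_lit 131387, nat_lit 1918, nat_lit 4412, nat_lit 12336, nat_lit 16640, nat_lit 21440, nat_lit 24832, nat_lit 29440, nat_lit 37888, nat_lit 41858, nat_lit 37065, nat_lit 32994, nat_lit 28960, nat_lit 24742, nat_lit 20566, nat_lit 16430, nat_lit 12310, nat_lit 8194, nat_lit 512]⟩⟩⟩⟩,
  .edge ⟨[nat_lit 0, nat_lit 78, nat_lit 65], [nat_lit 14, nat_lit 66], ⟨[nat_lit 0x65c017ca91716a730d10510534d9ab], [nat_lit 164608, nat_lit 160256, nat_lit 155968, nat_lit 152512, nat_lit 148464, nat_lit 144848, nat_lit 139496, nat_lit 135656, nat_lit 131155, nat_lit 566, nat_lit 5080, nat_lit 9040, nat_lit 13632, nat_lit 17696, nat_lit 21376, nat_lit 26496, nat_lit 29952, nat_lit 37888, nat_lit 41904, nat_lit 37024, nat_lit 33904, nat_lit 28980, nat_lit 24756, nat_lit 20506, nat_lit 16393, nat_lit 12294, nat_lit 8195, nat_lit 4097, nat_lit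 2]⟩⟩ ⟨(nat_lit 2), ⟨[nat_lit 148, nat_lit 145, nat_lit 147, nat_lit 142, nat_lit 146, nat_lit 143], [], (nat_lit 474), ⟨[nat_lit 78, nat_lit 91], [nat_lit 37, nat_lit 49], ⟨[nat_lit 0x5a62f6da54b914198182315d040cf5], [nat_lit 170496, nat_lit 165120, nat_lit 163200, nat_lit 155968, nat_lit 155232, nat_lit 149792, nat_lit 146912, nat_lit 140840, nat_lit 137196, nat_lit 133300, nat_lit 1770, nat_lit 5668, nat_lit 8824, nat_lit 12544, nat_lit 17184, nat_lit 22336, nat_lit 26112, nat_lit 29440, nat_lit 34304, nat_lit 37888, nat_lit 41615, nat_lit 37135, nat_lit 32851, nat_lit 28739, nat_lit 24623, nat_lit 20487, nat_lit 16652, nat_lit 12295, nat_lit 8195, nat_lit 4]⟩⟩⟩, ⟨[nat_lit 222, nat_lit 259, nat_lit 223, nat_lit 261, nat_lit 264, nat_lit 222], [], (nat_lit 624), ⟨[nat_lit 0, nat_lit 38, nat_lit 63], [nat_lit 87, nat_lit 52], ⟨[nat_lit 0x15960891168cd53a664542f49396f], [nat_lit 168448, nat_lit 164096, nat_lit 161152, nat_lit 157568, nat_lit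 153344, nat_lit 148144, nat_lit 143952, nat_lit 141992, nat_lit 132712, nat_lit 1488, nat_lit 5084, nat_lit 10160, nat_lit 14176, nat_lit 18304, nat_lit 25088, nat_lit 28928, nat_lit 34304, nat_lit 37888, nat_lit 41588, nat_lit 37172, nat_lit 33424, nat_lit 28705, nat_lit 25600, nat_lit 20509, nat_lit 16388, nat_lit 12321, nat_lit 8200, nat_lit 32]⟩⟩⟩⟩]

theorem dcMr363 : Rng dcM 363 365 := Rng.of (l := dcMc363) (by decide +kernel)

def dcMc365 : List Cert := [.edge ⟨[nat_lit 0, nat_lit 35, nat_lit 61], [nat_lit 8, nat_lit 63], ⟨[nat_lit 0x7248a2be9669c0114ae8ac1639b226], [nat_lit 175104, nat_lit 170496, nat_lit 167168, nat_lit 160640, nat_lit 159488, nat_lit 154944, nat_lit 149264, nat_lit 146704, nat_lit 140896, nat_lit 135274, nat_lit 131329, nat_lit 1614, nat_lit 4924, nat_lit 9048, nat_lit 13152, nat_lit 17312, nat_lit 22144, nat_lit 26496, nat_lit 29696, nat_lit 33792, nat_lit 37888, nat_lit 41928, nat_lit 37032, nat_lit 32776,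 nat_lit 29278, nat_lit 24725, nat_lit 20558, nat_lit 16518, nat_lit 12289, nat_lit 8227, nat_lit 4100, nat_lit 8]⟩⟩ ⟨(nat_lit 2), ⟨[nat_lit 148, nat_lit 143, nat_lit 140, nat_lit 147, nat_lit 140, nat_lit 150], [nat_lit 148, nat_lit 142, nat_lit 140, nat_lit 141, nat_lit 141], (nat_lit 691), ⟨[nat_lit 76, nat_lit 49], [nat_lit 0, nat_lit 76, nat_lit 92], ⟨[nat_lit 0xa80c3489f0b34ac9b9412228b3de32], [nat_lit 164864, nat_lit 160640, nat_lit 155776, nat_lit 151936, nat_lit 147744, nat_lit 144984, nat_lit 141600, nat_lit 136964, nat_lit 132200, nat_lit 1140, nat_lit 4840, nat_lit 12800, nat_lit 16672, nat_lit 20992, nat_lit 33792, nat_lit 41220, nat_lit 37228, nat_lit 33410, nat_lit 29002, nat_lit 24580, nat_lit 20616, nat_lit 16390, nat_lit 12323, nat_lit 8193, nat_lit 4105, nat_lit 4]⟩⟩⟩, ⟨[nat_lit 288, nat_lit 353, nat_lit 355, nat_lit 286, nat_lit 352], [], (nat_lit 668), ⟨[nat_lit 21, nat_lit 62], [nat_lit 86, nat_lit 58], ⟨[nat_lit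 0x399488d2b3bda500b1c25912568c0f], [nat_lit 168448, nat_lit 165120, nat_lit 160000, nat_lit 157568, nat_lit 154880, nat_lit 147904, nat_lit 145272, nat_lit 140316, nat_lit 135392, nat_lit 131838, nat_lit 1896, nat_lit 4684, nat_lit 9864, nat_lit 12320, nat_lit 16512, nat_lit 20736, nat_lit 26112, nat_lit 30464, nat_lit 41648, nat_lit 37199, nat_lit 32908, nat_lit 28682, nat_lit 24619, nat_lit 17408, nat_lit 12293, nat_lit 8201, nat_lit 4160, nat_lit 2]⟩⟩⟩⟩,
  .edge tw0 ⟨(nat_lit 1), ⟨[], [], (nat_lit 472), ⟨[nat_lit 82, nat_lit 54], [nat_lit 0, nat_lit 72, nat_lit 63], ⟨[nat_lit 0x524a7849cc15c36ad060590c88cded], [nat_lit 168960, nat_lit 165120, nat_lit 160640, nat_lit 157376, nat_lit 152736, nat_lit 148992, nat_lit 143480, nat_lit 139836, nat_lit 137080, nat_lit 131499, nat_lit 492, nat_lit 5320, nat_lit 8856, nat_lit 13232, nat_lit 17856, nat_lit 21632, nat_lit 25088, nat_lit 29440, nat_lit 33280, nat_lit 41168, nat_lit 37212, nat_lit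 33385, nat_lit 29776, nat_lit 25090, nat_lit 20766, nat_lit 16462, nat_lit 12323, nat_lit 8257, nat_lit 4101]⟩⟩⟩, ⟨[nat_lit 259, nat_lit 262, nat_lit 222, nat_lit 225, nat_lit 259], [], (nat_lit 602), ⟨[nat_lit 34, nat_lit 58], [nat_lit 77, nat_lit 54], ⟨[nat_lit 0xb4e91794cc711a7ac2f240c4b0a40a], [nat_lit 169472, nat_lit 162176, nat_lit 157504, nat_lit 152416, nat_lit 148128, nat_lit 144688, nat_lit 140484, nat_lit 135386, nat_lit 132616, nat_lit 1938, nat_lit 5904, nat_lit 8784, nat_lit 13264, nat_lit 18304, nat_lit 21888, nat_lit 26496, nat_lit 29184, nat_lit 37888, nat_lit 41816, nat_lit 36992, nat_lit 34008, nat_lit 28756, nat_lit 24762, nat_lit 20558, nat_lit 16394, nat_lit 12304, nat_lit 8194, nat_lit 4097]⟩⟩⟩⟩]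

theorem dcMr365 : Rng dcM 365 367 := Rng.of (l := dcMc365) (by decide +kernel)

def dcMc367 : List Cert := [.edge ⟨[nat_lit 0, nat_lit 33, nat_lit 89], [nat_lit 0, nat_lit 3, nat_lit 90], ⟨[nat_lit 0x3da9568e48031719892f805ca290d7], [nat_lit 173056, nat_lit 160896, nat_lit 157312, nat_lit 152192, nat_lit 147600, nat_lit 146568, nat_lit 139520, nat_lit 135676, nat_lit 131758, nat_lit 1148, nat_lit 5996, nat_lit 10144, nat_lit 12416, nat_lit 16864, nat_lit 21952, nat_lit 24832, nat_lit 29696, nat_lit 33280, nat_lit 41926, nat_lit 38222, nat_lit 33894, nat_lit 28732, nat_lit 25614, nat_lit 20615, nat_lit 16416, nat_lit 8320, nat_lit 4113]⟩⟩ ⟨(nat_lit 2), ⟨[nat_lit 147, nat_lit 145, nat_lit 148, nat_lit 146, nat_lit 140, nat_lit 142], [nat_lit 148, nat_lit 142, nat_lit 140, nat_lit 141, nat_lit 141], (nat_lit 691), ⟨[nat_lit 77, nat_lit 51], [nat_lit 0, nat_lit 45, nat_lit 50], ⟨[nat_lit 0x8502c592b788db6928d349c027a1c5], [nat_lit 173056,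 nat_lit 168960, nat_lit 165376, nat_lit 161280, nat_lit 156160, nat_lit 152384, nat_lit 151504, nat_lit 144808, nat_lit 141196, nat_lit 135546, nat_lit 132719, nat_lit 1268, nat_lit 5768, nat_lit 8448, nat_lit 14192, nat_lit 16640, nat_lit 22144, nat_lit 25216, nat_lit 28928, nat_lit 34304, nat_lit 37888, nat_lit 41715, nat_lit 37119, nat_lit 32931, nat_lit 28773, nat_lit 24756, nat_lit 20486, nat_lit 16388, nat_lit 8208, nat_lit 4128, nat_lit 64]⟩⟩⟩, ⟨[nat_lit 351, nat_lit 287, nat_lit 357, nat_lit 351, nat_lit 286], [], (nat_lit 646), ⟨[nat_lit 21, nat_lit 46], [nat_lit 0, nat_lit 40, nat_lit 65], ⟨[nat_lit 0x531e791a2bb860da01d3458b548c82], [nat_lit 174080, nat_lit 169472, nat_lit 165632, nat_lit 160000, nat_lit 156544, nat_lit 153536, nat_lit 148320, nat_lit 144536, nat_lit 140776, nat_lit 136452, nat_lit 132059, nat_lit 1766, nat_lit 5588, nat_lit 8200, nat_lit 12304, nat_lit 17408, nat_lit 22080, nat_lit 24704, nat_lit 29696, nat_lit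 34304, nat_lit 37888, nat_lit 41883, nat_lit 34018, nat_lit 24895, nat_lit 20489, nat_lit 16397, nat_lit 12311, nat_lit 8209, nat_lit 4104, nat_lit 16]⟩⟩⟩⟩,
  .edge tw0 ⟨(nat_lit 1), ⟨[], [], (nat_lit 594), ⟨[nat_lit 0, nat_lit 6, nat_lit 66], [nat_lit 0, nat_lit 27, nat_lit 60], ⟨[nat_lit 0x20c02ba22f284e653655642cb9a5d4], [nat_lit 168448, nat_lit 165888, nat_lit 159872, nat_lit 156992, nat_lit 152512, nat_lit 148432, nat_lit 145296, nat_lit 139496, nat_lit 136848, nat_lit 132889, nat_lit 622, nat_lit 4720, nat_lit 9904, nat_lit 12672, nat_lit 18048, nat_lit 20736, nat_lit 26240, nat_lit 29440, nat_lit 33792, nat_lit 37888, nat_lit 41152, nat_lit 37120, nat_lit 32829, nat_lit 28695, nat_lit 24616, nat_lit 20500, nat_lit 16430, nat_lit 12307, nat_lit 8194, nat_lit 4100, nat_lit 8]⟩⟩⟩, ⟨[nat_lit 356, nat_lit 286, nat_lit 285, nat_lit 288, nat_lit 284], [], (nat_lit 677), ⟨[nat_lit 6, nat_lit 58], [nat_lit 7, nat_lit 58], ⟨[nat_lit 0x9e045a852bda206d0c87a6a570d93],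 [nat_lit 175104, nat_lit 171008, nat_lit 167424, nat_lit 161024, nat_lit 157568, nat_lit 153472, nat_lit 151504, nat_lit 144088, nat_lit 139780, nat_lit 137456, nat_lit 134270, nat_lit 880, nat_lit 4404, nat_lit 9560, nat_lit 12896, nat_lit 16512, nat_lit 21184, nat_lit 25856, nat_lit 29440, nat_lit 41501, nat_lit 37331, nat_lit 33404, nat_lit 28720, nat_lit 25148, nat_lit 20511, nat_lit 16416, nat_lit 12308, nat_lit 8195, nat_lit 4100, nat_lit 2]⟩⟩⟩⟩]

theorem dcMr367 : Rng dcM 367 369 := Rng.of (l := dcMc367) (by decide +kernel)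

def dcMc369 : List Cert := [.edge tw0 ⟨(nat_lit 1), ⟨[], [], (nat_lit 730), ⟨[nat_lit 0, nat_lit 85, nat_lit 52], [nat_lit 3, nat_lit 48], ⟨[nat_lit 0x4ccd789d760519593a035202d2bc44], [nat_lit 175104, nat_lit 169472, nat_lit 162944, nat_lit 156032, nat_lit 152832, nat_lit 151040, nat_lit 147056, nat_lit 141772, nat_lit 138352, nat_lit 133555, nat_lit 1166, nat_lit 5476, nat_lit 10088, nat_lit 14304, nat_lit 16512, nat_lit 21184, nat_lit 25344, nat_lit 30464, nat_lit 34304, nat_lit 41617, nat_lit 37319, nat_lit 33406, nat_lit 28735, nat_lit 24578, nat_lit 20486, nat_lit 16398, nat_lit 12311, nat_lit 8211, nat_lit 4113]⟩⟩⟩, ⟨[nat_lit 353, nat_lit 353, nat_lit 355, nat_lit 286, nat_lit 354], [], (nat_lit 684), ⟨[nat_lit 0, nat_lit 30, nat_lit 53], [nat_lit 39, nat_lit 93], ⟨[nat_lit 0x32d4da822918584951022daef3ce0e], [nat_lit 168960, nat_lit 165120, nat_lit 161536, nat_lit 156224, nat_lit 152800, nat_lit 148128, nat_lit 145120, nat_lit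 139652, nat_lit 136494, nat_lit 134637, nat_lit 1972, nat_lit 5560, nat_lit 10224, nat_lit 12784, nat_lit 18112, nat_lit 22464, nat_lit 25856, nat_lit 29440, nat_lit 33792, nat_lit 41544, nat_lit 37189, nat_lit 32945, nat_lit 28676, nat_lit 25150, nat_lit 20492, nat_lit 16397, nat_lit 12307, nat_lit 8194, nat_lit 4101]⟩⟩⟩⟩,
  .edge ⟨[nat_lit 0, nat_lit 88, nat_lit 54], [nat_lit 72, nat_lit 89], ⟨[nat_lit 0x85ccb52582b540e0c5b279c8341693], [nat_lit 175104, nat_lit 168960, nat_lit 167680, nat_lit 163712, nat_lit 158592, nat_lit 152672, nat_lit 149104, nat_lit 143640, nat_lit 142896, nat_lit 137928, nat_lit 132591, nat_lit 1928, nat_lit 5604, nat_lit 9912, nat_lit 12544, nat_lit 18080, nat_lit 20608, nat_lit 25216, nat_lit 30208, nat_lit 37888, nat_lit 41585, nat_lit 37336, nat_lit 33402, nat_lit 28690, nat_lit 25126, nat_lit 20484, nat_lit 16452, nat_lit 12304, nat_lit 8226]⟩⟩ ⟨(nat_lit 2), ⟨[nat_lit 147, nat_lit 150, nat_lit 145, nat_lit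 142, nat_lit 139], [], (nat_lit 538), ⟨[nat_lit 0, nat_lit 79, nat_lit 64], [nat_lit 0, nat_lit 4, nat_lit 56], ⟨[nat_lit 0x59662adecc02092751af49e0330551], [nat_lit 175104, nat_lit 168960, nat_lit 161536, nat_lit 158144, nat_lit 155360, nat_lit 149616, nat_lit 144832, nat_lit 142248, nat_lit 135230, nat_lit 133470, nat_lit 1652, nat_lit 4964, nat_lit 8544, nat_lit 13312, nat_lit 16960, nat_lit 21312, nat_lit 25600, nat_lit 29184, nat_lit 33792, nat_lit 37888, nat_lit 41902, nat_lit 37100, nat_lit 33927, nat_lit 29229, nat_lit 24730, nat_lit 20485, nat_lit 16450, nat_lit 12304, nat_lit 8195]⟩⟩⟩, ⟨[nat_lit 264, nat_lit 261, nat_lit 224, nat_lit 224, nat_lit 262, nat_lit 224], [], (nat_lit 636), ⟨[nat_lit 33, nat_lit 67], [nat_lit 0, nat_lit 24, nat_lit 54], ⟨[nat_lit 0x15ec054572238ad61ccf4c113a8e81], [nat_lit 171520, nat_lit 159872, nat_lit 157056, nat_lit 147984, nat_lit 145008, nat_lit 139268, nat_lit 135432, nat_lit 132193, nat_lit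 1760, nat_lit 4128, nat_lit 9344, nat_lit 12320, nat_lit 17376, nat_lit 21696, nat_lit 26368, nat_lit 29184, nat_lit 41280, nat_lit 37370, nat_lit 33458, nat_lit 29306, nat_lit 24840, nat_lit 20481, nat_lit 16901, nat_lit 12308, nat_lit 8211, nat_lit 4105, nat_lit 8]⟩⟩⟩⟩]

theorem dcMr369 : Rng dcM 369 371 := Rng.of (l := dcMc369) (by decide +kernel)

def dcMc371 : List Cert := [.edge ⟨[nat_lit 0, nat_lit 73, nat_lit 90], [nat_lit 0, nat_lit 72, nat_lit 89], ⟨[nat_lit 0x222eb48d93029b089e54796ae09856], [nat_lit 173056, nat_lit 169472, nat_lit 161664, nat_lit 157248, nat_lit 152032, nat_lit 148192, nat_lit 146800, nat_lit 141232, nat_lit 136790, nat_lit 131994, nat_lit 688, nat_lit 4100, nat_lit 9216, nat_lit 13312, nat_lit 18336, nat_lit 20544, nat_lit 26368, nat_lit 29440, nat_lit 33280, nat_lit 37888, nat_lit 41352, nat_lit 37266, nat_lit 32872, nat_lit 28735, nat_lit 24595, nat_lit 20502, nat_lit 16396, nat_lit 12294, nat_lit 8202,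 nat_lit 4104]⟩⟩ ⟨(nat_lit 2), ⟨[nat_lit 140, nat_lit 150, nat_lit 144, nat_lit 150, nat_lit 143, nat_lit 146], [], (nat_lit 478), ⟨[nat_lit 62], [nat_lit 14, nat_lit 69], ⟨[nat_lit 0x51d6e4c454920156589778c256ccd0], [nat_lit 173056, nat_lit 171520, nat_lit 165120, nat_lit 160768, nat_lit 157504, nat_lit 152992, nat_lit 148384, nat_lit 143784, nat_lit 140644, nat_lit 136826, nat_lit 132642, nat_lit 526, nat_lit 6112, nat_lit 10224, nat_lit 13712, nat_lit 18272, nat_lit 20544, nat_lit 25088, nat_lit 29952, nat_lit 37888, nat_lit 41400, nat_lit 37268, nat_lit 33439, nat_lit 28706, nat_lit 24608, nat_lit 20548, nat_lit 16900, nat_lit 12544, nat_lit 8225, nat_lit 4105, nat_lit 4]⟩⟩⟩, ⟨[nat_lit 265, nat_lit 262, nat_lit 224, nat_lit 266, nat_lit 262, nat_lit 222], [], (nat_lit 608), ⟨[nat_lit 80, nat_lit 90], [nat_lit 26, nat_lit 92], ⟨[nat_lit 0xa046d128f34c80675485bbd688c196], [nat_lit 175104, nat_lit 171520, nat_lit 166400, nat_lit 157440,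 nat_lit 151648, nat_lit 151136, nat_lit 145016, nat_lit 141260, nat_lit 137534, nat_lit 133412, nat_lit 902, nat_lit 5544, nat_lit 9424, nat_lit 13248, nat_lit 18272, nat_lit 21568, nat_lit 25088, nat_lit 28928, nat_lit 33280, nat_lit 37888, nat_lit 41901, nat_lit 37052, nat_lit 32965, nat_lit 28946, nat_lit 24588, nat_lit 21018, nat_lit 16514, nat_lit 12353, nat_lit 8193, nat_lit 4097, nat_lit 2]⟩⟩⟩⟩]

theorem dcMr371 : Rng dcM 371 372 := Rng.of (l := dcMc371) (by decide +kernel)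

def dcMc372 : List Cert := [.edge ⟨[nat_lit 0, nat_lit 22, nat_lit 53], [nat_lit 0, nat_lit 13, nat_lit 50], ⟨[nat_lit 0x4b2c5419d79900713e0d1c56aac834], [nat_lit 175104, nat_lit 168448, nat_lit 164352, nat_lit 160768, nat_lit 156480, nat_lit 153280, nat_lit 148768, nat_lit 144496, nat_lit 140792, nat_lit 135456, nat_lit 131882, nat_lit 1730, nat_lit 5120, nat_lit 9904, nat_lit 14320, nat_lit 17856, nat_lit 20608, nat_lit 25216, nat_lit 29696, nat_lit 41472, nat_lit 38148, nat_lit 33387, nat_lit 28714, nat_lit 24872, nat_lit 20618, nat_lit 16385, nat_lit 12419, nat_lit 8259, nat_lit 8]⟩⟩ ⟨(nat_lit 2), ⟨[nat_lit 150, nat_lit 142, nat_lit 145, nat_lit 150, nat_lit 142, nat_lit 139], [], (nat_lit 478), ⟨[nat_lit 74, nat_lit 70], [nat_lit 38, nat_lit 46], ⟨[nat_lit 0x635c5219e71de0b9a836a241195502], [nat_lit 175104, nat_lit 160256, nat_lit 156416, nat_lit 152672, nat_lit 144936, nat_lit 140260, nat_lit 135302, nat_lit 131415, nat_lit 1766,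 nat_lit 6116, nat_lit 9216, nat_lit 12912, nat_lit 18176, nat_lit 21120, nat_lit 24960, nat_lit 28928, nat_lit 37888, nat_lit 41378, nat_lit 36888, nat_lit 34025, nat_lit 29729, nat_lit 24834, nat_lit 21506, nat_lit 16904, nat_lit 12353, nat_lit 8193, nat_lit 4225, nat_lit 4]⟩⟩⟩, ⟨[nat_lit 259, nat_lit 259, nat_lit 223, nat_lit 266, nat_lit 223, nat_lit 262, nat_lit 222], [], (nat_lit 640), ⟨[nat_lit 0, nat_lit 30, nat_lit 89], [nat_lit 34, nat_lit 55], ⟨[nat_lit 0x3466085dea749746b0e1ad844424a3], [nat_lit 175104, nat_lit 168960, nat_lit 165632, nat_lit 159552, nat_lit 153600, nat_lit 151264, nat_lit 143520, nat_lit 142596, nat_lit 136548, nat_lit 133492, nat_lit 1148, nat_lit 5444, nat_lit 9464, nat_lit 12544, nat_lit 16640, nat_lit 22400, nat_lit 25472, nat_lit 28928, nat_lit 34304, nat_lit 37888, nat_lit 41908, nat_lit 38101, nat_lit 32823, nat_lit 28789, nat_lit 24727, nat_lit 20558, nat_lit 16393, nat_lit 12289, nat_lit 8227, nat_lit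 4100]⟩⟩⟩⟩]

theorem dcMr372 : Rng dcM 372 373 := Rng.of (l := dcMc372) (by decide +kernel)

def dcMc373 : List Cert := [.edge ⟨[nat_lit 0, nat_lit 26, nat_lit 61], [nat_lit 0, nat_lit 25, nat_lit 48], ⟨[nat_lit 0x858176c86f550ac72ea69890909c91], [nat_lit 173056, nat_lit 168960, nat_lit 164864, nat_lit 160512, nat_lit 157184, nat_lit 152096, nat_lit 148608, nat_lit 144912, nat_lit 140144, nat_lit 137074, nat_lit 131535, nat_lit 1694, nat_lit 4112, nat_lit 10192, nat_lit 13024, nat_lit 16896, nat_lit 20672, nat_lit 29696, nat_lit 33792, nat_lit 41428, nat_lit 36904, nat_lit 34004, nat_lit 29780, nat_lit 25628, nat_lit 21011, nat_lit 16429, nat_lit 12321, nat_lit 8211, nat_lit 4104, nat_lit 4]⟩⟩ ⟨(nat_lit 2), ⟨[nat_lit 141, nat_lit 142, nat_lit 143, nat_lit 139, nat_lit 142], [], (nat_lit 330), ⟨[nat_lit 0, nat_lit 29, nat_lit 68], [nat_lit 85, nat_lit 55], ⟨[nat_lit 0xa311019d6a6c937880937b8a135456], [nat_lit 174080, nat_lit 168448, nat_lit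 164864, nat_lit 162176, nat_lit 156352, nat_lit 152320, nat_lit 151040, nat_lit 147448, nat_lit 142996, nat_lit 138148, nat_lit 134023, nat_lit 700, nat_lit 5668, nat_lit 8824, nat_lit 13936, nat_lit 18368, nat_lit 21056, nat_lit 25600, nat_lit 29696, nat_lit 37888, nat_lit 41523, nat_lit 37257, nat_lit 32784, nat_lit 28687, nat_lit 24628, nat_lit 20571, nat_lit 16453, nat_lit 12295, nat_lit 4097, nat_lit 2]⟩⟩⟩, ⟨[nat_lit 148, nat_lit 146, nat_lit 143, nat_lit 148, nat_lit 139], [nat_lit 145, nat_lit 150, nat_lit 145, nat_lit 140, nat_lit 145, nat_lit 139], (nat_lit 659), ⟨[nat_lit 0, nat_lit 25, nat_lit 68], [nat_lit 86, nat_lit 89], ⟨[nat_lit 0xba9a763e01ada6092c69890c22b914], [nat_lit 174080, nat_lit 170496, nat_lit 166144, nat_lit 161152, nat_lit 158528, nat_lit 154816, nat_lit 147176, nat_lit 141112, nat_lit 136648, nat_lit 132712, nat_lit 1214, nat_lit 4352, nat_lit 8408, nat_lit 14304, nat_lit 18336, nat_lit 20608, nat_lit 25856,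 nat_lit 29696, nat_lit 33792, nat_lit 41912, nat_lit 38000, nat_lit 32982, nat_lit 28680, nat_lit 24860, nat_lit 20489, nat_lit 16388, nat_lit 4160, nat_lit 32]⟩⟩⟩⟩,
  .edge tw0 ⟨(nat_lit 1), ⟨[], [], (nat_lit 478), ⟨[nat_lit 0, nat_lit 31, nat_lit 62], [nat_lit 0, nat_lit 90], ⟨[nat_lit 0x90189a29648d8d0a9daf2dc620ba68], [nat_lit 174080, nat_lit 169984, nat_lit 165888, nat_lit 157440, nat_lit 149648, nat_lit 145056, nat_lit 140996, nat_lit 138358, nat_lit 134308, nat_lit 1554, nat_lit 5212, nat_lit 9904, nat_lit 13280, nat_lit 18336, nat_lit 21056, nat_lit 25728, nat_lit 33792, nat_lit 41274, nat_lit 37271, nat_lit 32905, nat_lit 28713, nat_lit 24625, nat_lit 20554, nat_lit 16389, nat_lit 12295, nat_lit 8193, nat_lit 4105]⟩⟩⟩, ⟨[nat_lit 261, nat_lit 259, nat_lit 222, nat_lit 224, nat_lit 222, nat_lit 224], [], (nat_lit 636), ⟨[nat_lit 0, nat_lit 26, nat_lit 68], [nat_lit 0, nat_lit 21, nat_lit 58], ⟨[nat_lit 0xa21b691c75880d762c851052e9c1ea],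 [nat_lit 175104, nat_lit 164608, nat_lit 161792, nat_lit 157056, nat_lit 151712, nat_lit 150192, nat_lit 145672, nat_lit 141744, nat_lit 137854, nat_lit 134819, nat_lit 122, nat_lit 5544, nat_lit 9376, nat_lit 12784, nat_lit 17216, nat_lit 21120, nat_lit 25856, nat_lit 29696, nat_lit 37888, nat_lit 41567, nat_lit 38178, nat_lit 32965, nat_lit 28731, nat_lit 24873, nat_lit 20562, nat_lit 16385, nat_lit 12326, nat_lit 8193, nat_lit 4129, nat_lit 2]⟩⟩⟩⟩]

theorem dcMr373 : Rng dcM 373 375 := Rng.of (l := dcMc373) (by decide +kernel)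

def dcMc375 : List Cert := [.edge tw0 ⟨(nat_lit 1), ⟨[], [], (nat_lit 484), ⟨[nat_lit 0, nat_lit 73, nat_lit 58], [nat_lit 25, nat_lit 62], ⟨[nat_lit 0x546b673e6b49c9280068a144d09997], [nat_lit 174080, nat_lit 169984, nat_lit 166400, nat_lit 160256, nat_lit 157888, nat_lit 154752, nat_lit 149456, nat_lit 146864, nat_lit 141128, nat_lit 136434, nat_lit 131667, nat_lit 796, nat_lit 5716, nat_lit 8784, nat_lit 13152, nat_lit 18144, nat_lit 20864, nat_lit 26112, nat_lit 29952, nat_lit 33792, nat_lit 37888, nat_lit 41352, nat_lit 36927, nat_lit 32776, nat_lit 29748, nat_lit 24598, nat_lit 20609, nat_lit 16393, nat_lit 12294, nat_lit 8202]⟩⟩⟩, ⟨[nat_lit 266, nat_lit 261, nat_lit 260, nat_lit 223], [], (nat_lit 632), ⟨[nat_lit 79, nat_lit 63], [nat_lit 34, nat_lit 56], ⟨[nat_lit 0x45ee655060cca450d323ddaba5850], [nat_lit 175104, nat_lit 169984, nat_lit 165376, nat_lit 162176, nat_lit 159680, nat_lit 155232, nat_lit 148608, nat_lit 145040, nat_lit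 140984, nat_lit 138550, nat_lit 134131, nat_lit 1698, nat_lit 5148, nat_lit 8256, nat_lit 14048, nat_lit 16480, nat_lit 21632, nat_lit 25600, nat_lit 29440, nat_lit 37888, nat_lit 41962, nat_lit 38059, nat_lit 33280, nat_lit 28786, nat_lit 24577, nat_lit 20615, nat_lit 16418, nat_lit 13315, nat_lit 8194, nat_lit 4101]⟩⟩⟩⟩,
  .edge ⟨[nat_lit 72, nat_lit 90], [nat_lit 0, nat_lit 15, nat_lit 63], ⟨[nat_lit 0x75ea4848ed5950f8aa8061862b0533], [nat_lit 168960, nat_lit 164864, nat_lit 160128, nat_lit 156672, nat_lit 151712, nat_lit 147488, nat_lit 144096, nat_lit 141292, nat_lit 137158, nat_lit 132751, nat_lit 590, nat_lit 5572, nat_lit 9664, nat_lit 13616, nat_lit 17856, nat_lit 22080, nat_lit 25984, nat_lit 30208, nat_lit 37137, nat_lit 32827, nat_lit 28728, nat_lit 24615, nat_lit 20567, nat_lit 16420, nat_lit 12419, nat_lit 8194]⟩⟩ ⟨(nat_lit 2), ⟨[nat_lit 171, nat_lit 214, nat_lit 172, nat_lit 170, nat_lit 212, nat_lit 216], [nat_lit 216,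 nat_lit 214, nat_lit 216, nat_lit 219, nat_lit 212, nat_lit 172, nat_lit 170], (nat_lit 679), ⟨[nat_lit 0, nat_lit 4, nat_lit 92], [nat_lit 0, nat_lit 21, nat_lit 91], ⟨[nat_lit 0x425af52d8eb90f62d68614e4308230], [nat_lit 171520, nat_lit 167168, nat_lit 163456, nat_lit 158208, nat_lit 152480, nat_lit 151456, nat_lit 146072, nat_lit 140808, nat_lit 137594, nat_lit 131821, nat_lit 64, nat_lit 4568, nat_lit 10224, nat_lit 13264, nat_lit 16832, nat_lit 22336, nat_lit 25088, nat_lit 29696, nat_lit 33792, nat_lit 41829, nat_lit 37076, nat_lit 33895, nat_lit 29270, nat_lit 24582, nat_lit 20506, nat_lit 16394, nat_lit 8257, nat_lit 4]⟩⟩⟩, ⟨[nat_lit 284, nat_lit 357, nat_lit 356, nat_lit 357, nat_lit 284, nat_lit 351], [], (nat_lit 674), ⟨[nat_lit 0, nat_lit 43, nat_lit 92], [nat_lit 0, nat_lit 73, nat_lit 67], ⟨[nat_lit 0x74543925e020ac19d205634f55dcc8], [nat_lit 174080, nat_lit 167168, nat_lit 162432, nat_lit 158336, nat_lit 153120, nat_lit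 148368, nat_lit 143480, nat_lit 142744, nat_lit 138394, nat_lit 131311, nat_lit 1396, nat_lit 4548, nat_lit 8984, nat_lit 12544, nat_lit 17984, nat_lit 22080, nat_lit 25216, nat_lit 29440, nat_lit 34304, nat_lit 37888, nat_lit 41819, nat_lit 38257, nat_lit 32898, nat_lit 28983, nat_lit 25652, nat_lit 20549, nat_lit 16385, nat_lit 12326, nat_lit 8203, nat_lit 4]⟩⟩⟩⟩]

theorem dcMr375 : Rng dcM 375 377 := Rng.of (l := dcMc375) (by decide +kernel)

def dcMc377 : List Cert := [.edge ⟨[nat_lit 0, nat_lit 80, nat_lit 93], [nat_lit 0, nat_lit 8, nat_lit 51], ⟨[nat_lit 0x6958b9993212807a22c4b8e0e8d42f], [nat_lit 174080, nat_lit 164352, nat_lit 161152, nat_lit 157184, nat_lit 153056, nat_lit 148656, nat_lit 143408, nat_lit 140372, nat_lit 135320, nat_lit 394, nat_lit 5120, nat_lit 8408, nat_lit 13664, nat_lit 16544, nat_lit 21120, nat_lit 29696, nat_lit 41960, nat_lit 38198, nat_lit 34008, nat_lit 29214, nat_lit 24704, nat_lit 20746, nat_lit 16422,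 nat_lit 12308, nat_lit 8209, nat_lit 4]⟩⟩ ⟨(nat_lit 2), ⟨[nat_lit 170, nat_lit 212, nat_lit 173, nat_lit 173, nat_lit 216, nat_lit 173], [], (nat_lit 386), ⟨[nat_lit 85, nat_lit 63], [nat_lit 0, nat_lit 44, nat_lit 91], ⟨[nat_lit 0x942a542a847dccc380569b82b4c46d], [nat_lit 175104, nat_lit 171008, nat_lit 166400, nat_lit 159872, nat_lit 156352, nat_lit 153440, nat_lit 150880, nat_lit 145096, nat_lit 140372, nat_lit 138312, nat_lit 133203, nat_lit 484, nat_lit 5884, nat_lit 10016, nat_lit 12592, nat_lit 17184, nat_lit 21376, nat_lit 25472, nat_lit 29184, nat_lit 33792, nat_lit 37888, nat_lit 41519, nat_lit 37307, nat_lit 33389, nat_lit 28789, nat_lit 24734, nat_lit 20560, nat_lit 16397, nat_lit 12308, nat_lit 8210, nat_lit 4097, nat_lit 2]⟩⟩⟩, ⟨[nat_lit 142, nat_lit 147, nat_lit 146, nat_lit 140, nat_lit 144, nat_lit 141], [], (nat_lit 746), ⟨[nat_lit 0, nat_lit 78, nat_lit 92], [nat_lit 2, nat_lit 65], ⟨[nat_lit 0x64d156d93193d7418807829d7218a1],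 [nat_lit 171520, nat_lit 161792, nat_lit 156032, nat_lit 154592, nat_lit 151312, nat_lit 147336, nat_lit 140532, nat_lit 136636, nat_lit 135147, nat_lit 698, nat_lit 4224, nat_lit 8776, nat_lit 13376, nat_lit 17408, nat_lit 20864, nat_lit 24832, nat_lit 29696, nat_lit 37888, nat_lit 41450, nat_lit 37069, nat_lit 32814, nat_lit 28735, nat_lit 25102, nat_lit 20613, nat_lit 16430, nat_lit 12321, nat_lit 8211, nat_lit 4097]⟩⟩⟩⟩,
  .edge tw0 ⟨(nat_lit 1), ⟨[], [], (nat_lit 626), ⟨[nat_lit 0, nat_lit 36, nat_lit 92], [nat_lit 0, nat_lit 27, nat_lit 52], ⟨[nat_lit 0x609a09527659d45ac617491067b861], [nat_lit 173056, nat_lit 164096, nat_lit 160256, nat_lit 156544, nat_lit 154912, nat_lit 148064, nat_lit 143768, nat_lit 140224, nat_lit 136316, nat_lit 132295, nat_lit 2, nat_lit 4104, nat_lit 10128, nat_lit 14144, nat_lit 18080, nat_lit 22336, nat_lit 25344, nat_lit 28928, nat_lit 33792, nat_lit 37888, nat_lit 41872, nat_lit 38285, nat_lit 32911,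 nat_lit 29039, nat_lit 24627, nat_lit 20491, nat_lit 16451, nat_lit 4129, nat_lit 32]⟩⟩⟩, ⟨[nat_lit 285, nat_lit 354, nat_lit 284, nat_lit 354, nat_lit 357, nat_lit 356], [], (nat_lit 670), ⟨[nat_lit 31, nat_lit 55], [nat_lit 76], ⟨[nat_lit 0x35d498d0b200c960b5133beae83162], [nat_lit 173056, nat_lit 168960, nat_lit 164608, nat_lit 160256, nat_lit 154816, nat_lit 147664, nat_lit 145024, nat_lit 141004, nat_lit 136136, nat_lit 131391, nat_lit 1766, nat_lit 5112, nat_lit 8928, nat_lit 13456, nat_lit 17760, nat_lit 20544, nat_lit 29184, nat_lit 33792, nat_lit 41208, nat_lit 37088, nat_lit 32825, nat_lit 28741, nat_lit 24608, nat_lit 20494, nat_lit 16388, nat_lit 12326, nat_lit 8194, nat_lit 128]⟩⟩⟩⟩]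

theorem dcMr377 : Rng dcM 377 379 := Rng.of (l := dcMc377) (by decide +kernel)

def dcMc379 : List Cert := [.edge tw0 ⟨(nat_lit 1), ⟨[nat_lit 223, nat_lit 265, nat_lit 223, nat_lit 222], [], (nat_lit 490), ⟨[nat_lit 78, nat_lit 58], [nat_lit 0, nat_lit 1, nat_lit 93], ⟨[nat_lit 0x331f16dd23092029d0b65c947455c0], [nat_lit 174080, nat_lit 169472, nat_lit 165632, nat_lit 161408, nat_lit 158848, nat_lit 154112, nat_lit 151072, nat_lit 143904, nat_lit 141896, nat_lit 135262, nat_lit 133849, nat_lit 1972, nat_lit 5856, nat_lit 9328, nat_lit 13504, nat_lit 17184, nat_lit 22080, nat_lit 25984, nat_lit 30464, nat_lit 34304, nat_lit 41537, nat_lit 37942, nat_lit 32988, nat_lit 28938, nat_lit 24735, nat_lit 21014, nat_lit 16524, nat_lit 12307, nat_lit 8194, nat_lit 4101, nat_lit 2]⟩⟩⟩, ⟨[nat_lit 140, nat_lit 147, nat_lit 146, nat_lit 143, nat_lit 140], [], (nat_lit 744), ⟨[nat_lit 0, nat_lit 9, nat_lit 55], [nat_lit 12, nat_lit 53], ⟨[nat_lit 0x488cd031043ade18c293acaf6538a3],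 [nat_lit 173056, nat_lit 168448, nat_lit 165888, nat_lit 159872, nat_lit 157376, nat_lit 154624, nat_lit 151120, nat_lit 147112, nat_lit 143284, nat_lit 138848, nat_lit 131923, nat_lit 1818, nat_lit 4540, nat_lit 10032, nat_lit 12416, nat_lit 17312, nat_lit 21568, nat_lit 26368, nat_lit 29952, nat_lit 33280, nat_lit 41858, nat_lit 38144, nat_lit 32935, nat_lit 28721, nat_lit 24626, nat_lit 20571, nat_lit 16463, nat_lit 12291, nat_lit 8194, nat_lit 8]⟩⟩⟩⟩,
  .edge tw0 ⟨(nat_lit 1), ⟨[nat_lit 286, nat_lit 352, nat_lit 357, nat_lit 351, nat_lit 284, nat_lit 354], [], (nat_lit 698), ⟨[nat_lit 0, nat_lit 3, nat_lit 63], [nat_lit 83, nat_lit 57], ⟨[nat_lit 0x228b50582ba4a08708f34b59730df1], [nat_lit 173056, nat_lit 169984, nat_lit 164608, nat_lit 161920, nat_lit 157632, nat_lit 154368, nat_lit 149872, nat_lit 146664, nat_lit 140808, nat_lit 136078, nat_lit 134473, nat_lit 184, nat_lit 4400, nat_lit 9408, nat_lit 13312, nat_lit 17696, nat_lit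 20800, nat_lit 26368, nat_lit 29952, nat_lit 33792, nat_lit 37888, nat_lit 41460, nat_lit 36883, nat_lit 32774, nat_lit 28751, nat_lit 24740, nat_lit 20490, nat_lit 16911, nat_lit 12309, nat_lit 8209, nat_lit 4129]⟩⟩⟩, ⟨[nat_lit 264, nat_lit 224, nat_lit 224, nat_lit 262, nat_lit 223, nat_lit 259], [], (nat_lit 640), ⟨[nat_lit 0, nat_lit 82, nat_lit 54], [nat_lit 17, nat_lit 68], ⟨[nat_lit 0x391c28c98058da87d2e19d54534136], [nat_lit 165120, nat_lit 161536, nat_lit 156160, nat_lit 152800, nat_lit 147712, nat_lit 144832, nat_lit 140732, nat_lit 136594, nat_lit 131394, nat_lit 696, nat_lit 5572, nat_lit 8256, nat_lit 14000, nat_lit 17920, nat_lit 22272, nat_lit 26112, nat_lit 33792, nat_lit 41583, nat_lit 37925, nat_lit 32902, nat_lit 28703, nat_lit 25091, nat_lit 21515, nat_lit 16527, nat_lit 12353, nat_lit 8224]⟩⟩⟩⟩]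

theorem dcMr379 : Rng dcM 379 381 := Rng.of (l := dcMc379) (by decide +kernel)

def dcMc381 : List Cert := [.edge tw0 ⟨(nat_lit 1), ⟨[nat_lit 286, nat_lit 351, nat_lit 354, nat_lit 287], [], (nat_lit 692), ⟨[nat_lit 34, nat_lit 62], [nat_lit 0, nat_lit 86, nat_lit 66], ⟨[nat_lit 0x82d0f65e3611289aa8c11cc0e69647], [nat_lit 174080, nat_lit 169472, nat_lit 164864, nat_lit 160128, nat_lit 158016, nat_lit 155584, nat_lit 150960, nat_lit 143592, nat_lit 143144, nat_lit 136990, nat_lit 135138, nat_lit 1182, nat_lit 4328, nat_lit 10032, nat_lit 13712, nat_lit 16992, nat_lit 21696, nat_lit 25472, nat_lit 34304, nat_lit 41458, nat_lit 36867, nat_lit 32793, nat_lit 28740, nat_lit 24744, nat_lit 20567, nat_lit 16428, nat_lit 8208, nat_lit 4097, nat_lit 2]⟩⟩⟩, ⟨[nat_lit 170, nat_lit 173, nat_lit 216, nat_lit 215, nat_lit 173], [], (nat_lit 600), ⟨[nat_lit 81, nat_lit 66], [nat_lit 0, nat_lit 12, nat_lit 48], ⟨[nat_lit 0xbcc766d12521e423550f0a9707022c],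 [nat_lit 169472, nat_lit 164352, nat_lit 160256, nat_lit 156864, nat_lit 155008, nat_lit 149312, nat_lit 143976, nat_lit 139644, nat_lit 136974, nat_lit 132160, nat_lit 318, nat_lit 4924, nat_lit 9648, nat_lit 12976, nat_lit 17664, nat_lit 20992, nat_lit 24704, nat_lit 29184, nat_lit 33280, nat_lit 37888, nat_lit 41741, nat_lit 38375, nat_lit 33909, nat_lit 28790, nat_lit 24726, nat_lit 20491, nat_lit 16518, nat_lit 12327, nat_lit 8203, nat_lit 4101, nat_lit 4]⟩⟩⟩⟩,
  .edge ⟨[nat_lit 0, nat_lit 11, nat_lit 62], [nat_lit 43, nat_lit 66], ⟨[nat_lit 0x11a43a1675831a70a9f7402ce2452b], [nat_lit 173056, nat_lit 168448, nat_lit 165376, nat_lit 162176, nat_lit 155840, nat_lit 152864, nat_lit 149216, nat_lit 143720, nat_lit 140916, nat_lit 135524, nat_lit 132516, nat_lit 1336, nat_lit 5444, nat_lit 9648, nat_lit 12304, nat_lit 16896, nat_lit 21248, nat_lit 25984, nat_lit 29952, nat_lit 34304, nat_lit 37888, nat_lit 41385, nat_lit 37043, nat_lit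 33005, nat_lit 29036, nat_lit 24850, nat_lit 20551, nat_lit 16428, nat_lit 12320, nat_lit 8208, nat_lit 64]⟩⟩ ⟨(nat_lit 2), ⟨[nat_lit 355, nat_lit 352, nat_lit 288, nat_lit 351], [], (nat_lit 615), ⟨[nat_lit 20, nat_lit 61], [nat_lit 26, nat_lit 92], ⟨[nat_lit 0x4302974e408588a15eaf694e3a1971], [nat_lit 169984, nat_lit 165376, nat_lit 161152, nat_lit 157824, nat_lit 153344, nat_lit 149264, nat_lit 146040, nat_lit 142336, nat_lit 138794, nat_lit 134601, nat_lit 78, nat_lit 4568, nat_lit 8216, nat_lit 12320, nat_lit 17632, nat_lit 21888, nat_lit 25344, nat_lit 30464, nat_lit 33280, nat_lit 41857, nat_lit 36865, nat_lit 33992, nat_lit 28720, nat_lit 24871, nat_lit 20553, nat_lit 16521, nat_lit 12304, nat_lit 8226, nat_lit 4097]⟩⟩⟩, ⟨[nat_lit 266, nat_lit 264, nat_lit 264, nat_lit 262], [], (nat_lit 632), ⟨[], [nat_lit 0, nat_lit 41, nat_lit 47], ⟨[nat_lit 0x41aec23d540c0032b9363adb514a33], [nat_lit 174080, nat_lit 171520, nat_lit 167168,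 nat_lit 161024, nat_lit 157888, nat_lit 153600, nat_lit 148432, nat_lit 146856, nat_lit 140380, nat_lit 135530, nat_lit 132728, nat_lit 1318, nat_lit 4924, nat_lit 14176, nat_lit 17440, nat_lit 20992, nat_lit 24960, nat_lit 29696, nat_lit 37888, nat_lit 41838, nat_lit 36893, nat_lit 33989, nat_lit 29044, nat_lit 24759, nat_lit 20546, nat_lit 16514, nat_lit 12292, nat_lit 8200, nat_lit 4128]⟩⟩⟩⟩]

theorem dcMr381 : Rng dcM 381 383 := Rng.of (l := dcMc381) (by decide +kernel)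

def dcMc383 : List Cert := [.edge ⟨[nat_lit 0, nat_lit 5, nat_lit 91], [nat_lit 16, nat_lit 64], ⟨[nat_lit 0x2846bb3642356e9812287a9c7a026c], [nat_lit 169472, nat_lit 166144, nat_lit 163712, nat_lit 157760, nat_lit 153824, nat_lit 148864, nat_lit 145616, nat_lit 142424, nat_lit 135620, nat_lit 134052, nat_lit 210, nat_lit 5024, nat_lit 8680, nat_lit 12368, nat_lit 18112, nat_lit 22016, nat_lit 25216, nat_lit 29952, nat_lit 34304, nat_lit 37888, nat_lit 41462, nat_lit 37047, nat_lit 32951, nat_lit 28731, nat_lit 24587, nat_lit 20614, nat_lit 16386, nat_lit 12322]⟩⟩ ⟨(nat_lit 2), ⟨[nat_lit 287, nat_lit 286, nat_lit 356, nat_lit 288, nat_lit 287], [nat_lit 354, nat_lit 286, nat_lit 351, nat_lit 286, nat_lit 284], (nat_lit 727), ⟨[nat_lit 0, nat_lit 22, nat_lit 70], [nat_lit 0, nat_lit 72, nat_lit 51], ⟨[nat_lit 0x5c1170a4ee7da2c10e55229a034e85], [nat_lit 175104, nat_lit 169472, nat_lit 167424, nat_lit 161920, nat_lit 158272, nat_lit 152064,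 nat_lit 148800, nat_lit 144992, nat_lit 141772, nat_lit 138746, nat_lit 132180, nat_lit 718, nat_lit 5604, nat_lit 9176, nat_lit 13088, nat_lit 16928, nat_lit 20608, nat_lit 26496, nat_lit 29696, nat_lit 37888, nat_lit 41639, nat_lit 37331, nat_lit 33316, nat_lit 28733, nat_lit 24622, nat_lit 20485, nat_lit 16516, nat_lit 12307, nat_lit 8226, nat_lit 4]⟩⟩⟩, ⟨[nat_lit 139, nat_lit 139, nat_lit 141, nat_lit 140, nat_lit 142, nat_lit 139], [], (nat_lit 748), ⟨[nat_lit 28, nat_lit 90], [nat_lit 41, nat_lit 93], ⟨[nat_lit 0x2a5411ce4415ae7a416d43ab13018f], [nat_lit 170496, nat_lit 165120, nat_lit 159488, nat_lit 152640, nat_lit 148272, nat_lit 146888, nat_lit 142172, nat_lit 137578, nat_lit 134134, nat_lit 1318, nat_lit 5716, nat_lit 9504, nat_lit 13152, nat_lit 16736, nat_lit 21312, nat_lit 25728, nat_lit 28928, nat_lit 33280, nat_lit 41917, nat_lit 38324, nat_lit 33995, nat_lit 28716, nat_lit 24847, nat_lit 20550, nat_lit 16422, nat_lit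 12289, nat_lit 8225, nat_lit 4097]⟩⟩⟩⟩,
  .edge tw0 ⟨(nat_lit 1), ⟨[], [nat_lit 284, nat_lit 288], (nat_lit 717), ⟨[nat_lit 0, nat_lit 14, nat_lit 46], [nat_lit 0, nat_lit 87, nat_lit 65], ⟨[nat_lit 0x44aa65306968213110ef2c6cbb85d4], [nat_lit 173056, nat_lit 168448, nat_lit 166912, nat_lit 160896, nat_lit 156160, nat_lit 153888, nat_lit 150480, nat_lit 145712, nat_lit 142576, nat_lit 138240, nat_lit 131269, nat_lit 1108, nat_lit 5768, nat_lit 8504, nat_lit 13984, nat_lit 17760, nat_lit 21504, nat_lit 26240, nat_lit 29184, nat_lit 33280, nat_lit 41518, nat_lit 38056, nat_lit 32870, nat_lit 28699, nat_lit 24862, nat_lit 20494, nat_lit 16396, nat_lit 12295, nat_lit 8]⟩⟩⟩, ⟨[nat_lit 48, nat_lit 48, nat_lit 48, nat_lit 48, nat_lit 48, nat_lit 48], [], (nat_lit 716), ⟨[nat_lit 33, nat_lit 46], [nat_lit 36, nat_lit 91], ⟨[nat_lit 0x44aa65306968213110ef2c6cbb85d4], [nat_lit 166912, nat_lit 160896, nat_lit 156224, nat_lit 153856, nat_lit 150480,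 nat_lit 145720, nat_lit 142580, nat_lit 138240, nat_lit 131268, nat_lit 1108, nat_lit 5768, nat_lit 8504, nat_lit 13984, nat_lit 17760, nat_lit 21504, nat_lit 26240, nat_lit 29184, nat_lit 33280, nat_lit 41518, nat_lit 38056, nat_lit 32870, nat_lit 28699, nat_lit 24862, nat_lit 20494, nat_lit 16396, nat_lit 12295, nat_lit 8]⟩⟩⟩⟩]

theorem dcMr383 : Rng dcM 383 385 := Rng.of (l := dcMc383) (by decide +kernel)

def dcMc385 : List Cert := [.edge tw0 ⟨(nat_lit 1), ⟨[nat_lit 356, nat_lit 287, nat_lit 353, nat_lit 284, nat_lit 284], [], (nat_lit 643), ⟨[nat_lit 10, nat_lit 90], [nat_lit 23, nat_lit 49], ⟨[nat_lit 0x99512101648b4344dcf51c1967a8ce], [nat_lit 173056, nat_lit 169472, nat_lit 164352, nat_lit 161152, nat_lit 156352, nat_lit 153568, nat_lit 149360, nat_lit 143776, nat_lit 139660, nat_lit 136742, nat_lit 135139, nat_lit 1972, nat_lit 5284, nat_lit 9136, nat_lit 13152, nat_lit 16832, nat_lit 22272, nat_lit 25984, nat_lit 34304, nat_lit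 41925, nat_lit 38254, nat_lit 32822, nat_lit 29204, nat_lit 24597, nat_lit 20634, nat_lit 16392, nat_lit 12293, nat_lit 8194, nat_lit 4101]⟩⟩⟩, ⟨[nat_lit 225, nat_lit 224, nat_lit 223, nat_lit 222, nat_lit 225], [], (nat_lit 642), ⟨[nat_lit 76, nat_lit 57], [nat_lit 0, nat_lit 25, nat_lit 68], ⟨[nat_lit 0x996120d56e534574d1e0b21833c4c4], [nat_lit 175104, nat_lit 171008, nat_lit 164864, nat_lit 162304, nat_lit 159488, nat_lit 155008, nat_lit 148304, nat_lit 144568, nat_lit 139560, nat_lit 137802, nat_lit 134092, nat_lit 1778, nat_lit 5436, nat_lit 8296, nat_lit 12800, nat_lit 16896, nat_lit 21376, nat_lit 25984, nat_lit 37888, nat_lit 41745, nat_lit 37023, nat_lit 33831, nat_lit 29196, nat_lit 24589, nat_lit 20743, nat_lit 16393, nat_lit 12309, nat_lit 8201, nat_lit 4224]⟩⟩⟩⟩,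
  .edge ⟨[nat_lit 87, nat_lit 63], [nat_lit 0, nat_lit 20, nat_lit 60], ⟨[nat_lit 0x22aa22ba678b10b049a3a18297daf0], [nat_lit 174080, nat_lit 169984, nat_lit 167168, nat_lit 163712, nat_lit 156224, nat_lit 155424, nat_lit 151200, nat_lit 143936, nat_lit 143252, nat_lit 136686, nat_lit 131492, nat_lit 1076, nat_lit 5508, nat_lit 8672, nat_lit 12592, nat_lit 17920, nat_lit 20864, nat_lit 25728, nat_lit 29952, nat_lit 34304, nat_lit 37888, nat_lit 41940, nat_lit 36987, nat_lit 33976, nat_lit 28722, nat_lit 24839, nat_lit 20496, nat_lit 16390, nat_lit 12292, nat_lit 8201, nat_lit 4113, nat_lit 2]⟩⟩ ⟨(nat_lit 2), ⟨[nat_lit 353, nat_lit 285, nat_lit 351, nat_lit 287, nat_lit 285, nat_lit 285], [], (nat_lit 668), ⟨[nat_lit 0, nat_lit 18, nat_lit 70], [nat_lit 40, nat_lit 49], ⟨[nat_lit 0x245370e8485d16a942d7ad91928c7], [nat_lit 169472, nat_lit 165632, nat_lit 161280, nat_lit 157568, nat_lit 152864, nat_lit 148016, nat_lit 146784, nat_lit 139992,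 nat_lit 136200, nat_lit 131982, nat_lit 1174, nat_lit 5436, nat_lit 9096, nat_lit 17600, nat_lit 20992, nat_lit 25728, nat_lit 30464, nat_lit 34304, nat_lit 41190, nat_lit 36904, nat_lit 32839, nat_lit 29804, nat_lit 24600, nat_lit 21017, nat_lit 16425, nat_lit 8193, nat_lit 4224]⟩⟩⟩, ⟨[nat_lit 357, nat_lit 355, nat_lit 356, nat_lit 284, nat_lit 352, nat_lit 285], [], (nat_lit 666), ⟨[nat_lit 0, nat_lit 78, nat_lit 69], [nat_lit 0, nat_lit 74, nat_lit 46], ⟨[nat_lit 0x94494699951941614d4f4860e3a177], [nat_lit 175104, nat_lit 168448, nat_lit 164864, nat_lit 160256, nat_lit 157120, nat_lit 151680, nat_lit 149280, nat_lit 144416, nat_lit 139584, nat_lit 136840, nat_lit 132483, nat_lit 116, nat_lit 6104, nat_lit 9904, nat_lit 13504, nat_lit 16928, nat_lit 21504, nat_lit 24832, nat_lit 30208, nat_lit 33792, nat_lit 37888, nat_lit 41274, nat_lit 37238, nat_lit 32936, nat_lit 29032, nat_lit 24735, nat_lit 16459, nat_lit 12356, nat_lit 8208]⟩⟩⟩⟩]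

theorem dcMr385 : Rng dcM 385 387 := Rng.of (l := dcMc385) (by decide +kernel)

def dcMc387 : List Cert := [.edge ⟨[nat_lit 72, nat_lit 69], [nat_lit 30, nat_lit 68], ⟨[nat_lit 0x65c8f451464b810149abb0ca199e35], [nat_lit 169472, nat_lit 165376, nat_lit 161408, nat_lit 154848, nat_lit 147632, nat_lit 143752, nat_lit 140284, nat_lit 137082, nat_lit 131435, nat_lit 1730, nat_lit 4608, nat_lit 8824, nat_lit 12688, nat_lit 17632, nat_lit 20992, nat_lit 25600, nat_lit 29184, nat_lit 33280, nat_lit 37888, nat_lit 41816, nat_lit 37137, nat_lit 33403, nat_lit 28704, nat_lit 24842, nat_lit 20504, nat_lit 16426, nat_lit 12325, nat_lit 8193, nat_lit 4112]⟩⟩ ⟨(nat_lit 2), ⟨[nat_lit 288, nat_lit 355, nat_lit 352, nat_lit 285, nat_lit 284, nat_lit 285], [], (nat_lit 652), ⟨[nat_lit 0, nat_lit 88, nat_lit 56], [nat_lit 0, nat_lit 9, nat_lit 49], ⟨[nat_lit 0x65003ac24e0ccab392ed12a264592f], [nat_lit 169472, nat_lit 164608, nat_lit 160000, nat_lit 157760,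 nat_lit 153056, nat_lit 148592, nat_lit 143528, nat_lit 140844, nat_lit 136480, nat_lit 131617, nat_lit 1488, nat_lit 5508, nat_lit 8408, nat_lit 12544, nat_lit 17024, nat_lit 22336, nat_lit 24832, nat_lit 28928, nat_lit 33280, nat_lit 41823, nat_lit 37184, nat_lit 32997, nat_lit 28965, nat_lit 24620, nat_lit 20548, nat_lit 17423, nat_lit 12320, nat_lit 8257, nat_lit 4]⟩⟩⟩, ⟨[nat_lit 351, nat_lit 357, nat_lit 284, nat_lit 285, nat_lit 357, nat_lit 286], [], (nat_lit 668), ⟨[nat_lit 39, nat_lit 60], [nat_lit 0, nat_lit 18], ⟨[nat_lit 0x9c456628f06bc37451637164921815], [nat_lit 174080, nat_lit 171008, nat_lit 166656, nat_lit 160000, nat_lit 156928, nat_lit 153408, nat_lit 150432, nat_lit 144424, nat_lit 141148, nat_lit 137932, nat_lit 134973, nat_lit 738, nat_lit 5904, nat_lit 9936, nat_lit 14160, nat_lit 16864, nat_lit 21952, nat_lit 25600, nat_lit 33280, nat_lit 41105, nat_lit 36876, nat_lit 32873, nat_lit 29696, nat_lit 24593, nat_lit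 20490, nat_lit 16391, nat_lit 12323, nat_lit 8210, nat_lit 4]⟩⟩⟩⟩,
  .edge tw0 ⟨(nat_lit 1), ⟨[nat_lit 284, nat_lit 285, nat_lit 354, nat_lit 353, nat_lit 284], [], (nat_lit 668), ⟨[nat_lit 6, nat_lit 46], [nat_lit 0, nat_lit 5], ⟨[nat_lit 0x63c2d5d4b1009c385d479913444ac6], [nat_lit 175104, nat_lit 171520, nat_lit 165376, nat_lit 163200, nat_lit 157888, nat_lit 154272, nat_lit 148576, nat_lit 143904, nat_lit 139580, nat_lit 138034, nat_lit 134533, nat_lit 738, nat_lit 5208, nat_lit 10064, nat_lit 14272, nat_lit 16416, nat_lit 22208, nat_lit 25728, nat_lit 28928, nat_lit 41585, nat_lit 38384, nat_lit 33453, nat_lit 29198, nat_lit 25648, nat_lit 20746, nat_lit 17408, nat_lit 12422, nat_lit 8227]⟩⟩⟩, ⟨[nat_lit 357, nat_lit 353, nat_lit 285, nat_lit 285, nat_lit 355], [], (nat_lit 669), ⟨[nat_lit 9, nat_lit 53], [nat_lit 74, nat_lit 53], ⟨[nat_lit 0x2c10d5199100a837c96724d2e0ded5], [nat_lit 174080, nat_lit 168960, nat_lit 159872, nat_lit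 157248, nat_lit 152128, nat_lit 149408, nat_lit 144248, nat_lit 141112, nat_lit 135892, nat_lit 131170, nat_lit 738, nat_lit 5208, nat_lit 9928, nat_lit 12368, nat_lit 18016, nat_lit 20672, nat_lit 25472, nat_lit 30464, nat_lit 37888, nat_lit 41381, nat_lit 37022, nat_lit 32853, nat_lit 29288, nat_lit 24758, nat_lit 20633, nat_lit 16522, nat_lit 12290, nat_lit 8195, nat_lit 4097]⟩⟩⟩⟩]

theorem dcMr387 : Rng dcM 387 389 := Rng.of (l := dcMc387) (by decide +kernel)

def dcMc389 : List Cert := [.edge tw0 ⟨(nat_lit 1), ⟨[], [nat_lit 353, nat_lit 357, nat_lit 285, nat_lit 286, nat_lit 284], (nat_lit 743), ⟨[nat_lit 0, nat_lit 44, nat_lit 61], [nat_lit 0, nat_lit 42, nat_lit 46], ⟨[nat_lit 0xa9d681eb445de064cad10e2492cc9], [nat_lit 174080, nat_lit 168448, nat_lit 164096, nat_lit 163712, nat_lit 157504, nat_lit 152064, nat_lit 149632, nat_lit 147200, nat_lit 142640, nat_lit 137384, nat_lit 133396, nat_lit 344, nat_lit 4548, nat_lit 9752, nat_lit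 13984, nat_lit 17408, nat_lit 22464, nat_lit 25472, nat_lit 29952, nat_lit 34304, nat_lit 37888, nat_lit 41451, nat_lit 37028, nat_lit 34021, nat_lit 29223, nat_lit 24611, nat_lit 20482, nat_lit 16387, nat_lit 12549, nat_lit 8193, nat_lit 4097]⟩⟩⟩, ⟨[nat_lit 148, nat_lit 140, nat_lit 139, nat_lit 143, nat_lit 146], [], (nat_lit 742), ⟨[nat_lit 0, nat_lit 75, nat_lit 65], [nat_lit 24, nat_lit 66], ⟨[nat_lit 0x50cd5a3617449897c4850066eb2ce2], [nat_lit 168448, nat_lit 165888, nat_lit 163072, nat_lit 158080, nat_lit 154464, nat_lit 149360, nat_lit 147032, nat_lit 142268, nat_lit 135566, nat_lit 134690, nat_lit 488, nat_lit 5488, nat_lit 9896, nat_lit 13808, nat_lit 18336, nat_lit 21312, nat_lit 25728, nat_lit 29440, nat_lit 34304, nat_lit 37888, nat_lit 41711, nat_lit 38290, nat_lit 32829, nat_lit 29789, nat_lit 25109, nat_lit 20502, nat_lit 16385, nat_lit 12292, nat_lit 8195]⟩⟩⟩⟩,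
  .edge tw0 ⟨(nat_lit 1), ⟨[], [nat_lit 355, nat_lit 286, nat_lit 354, nat_lit 284], (nat_lit 719), ⟨[nat_lit 33, nat_lit 55], [nat_lit 0, nat_lit 75, nat_lit 70], ⟨[nat_lit 0x10227555e1a16f342e06931c41b536], [nat_lit 175104, nat_lit 171008, nat_lit 164352, nat_lit 161792, nat_lit 158784, nat_lit 155552, nat_lit 147792, nat_lit 143888, nat_lit 140824, nat_lit 137522, nat_lit 133704, nat_lit 1918, nat_lit 5208, nat_lit 9040, nat_lit 12304, nat_lit 17376, nat_lit 22400, nat_lit 25216, nat_lit 29952, nat_lit 34304, nat_lit 41195, nat_lit 36901, nat_lit 32957, nat_lit 29028, nat_lit 24631, nat_lit 20555, nat_lit 16417, nat_lit 12304, nat_lit 8194, nat_lit 4097, nat_lit 2]⟩⟩⟩, ⟨[nat_lit 78, nat_lit 78, nat_lit 78, nat_lit 78], [], (nat_lit 718), ⟨[nat_lit 32, nat_lit 67], [nat_lit 0, nat_lit 82, nat_lit 63], ⟨[nat_lit 0x10227555e1a16f342e06931c41b536], [nat_lit 174080, nat_lit 171008, nat_lit 164608, nat_lit 161920, nat_lit 158720, nat_lit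 155552, nat_lit 147792, nat_lit 143888, nat_lit 140824, nat_lit 137520, nat_lit 133704, nat_lit 1918, nat_lit 5208, nat_lit 9040, nat_lit 12304, nat_lit 17376, nat_lit 22400, nat_lit 25216, nat_lit 29952, nat_lit 34304, nat_lit 41195, nat_lit 36901, nat_lit 32957, nat_lit 29028, nat_lit 24631, nat_lit 20555, nat_lit 16417, nat_lit 12304, nat_lit 8194, nat_lit 4097, nat_lit 2]⟩⟩⟩⟩]

theorem dcMr389 : Rng dcM 389 391 := Rng.of (l := dcMc389) (by decide +kernel)

def dcMc391 : List Cert := [.edge ⟨[nat_lit 0, nat_lit 31, nat_lit 58], [nat_lit 0, nat_lit 75, nat_lit 61], ⟨[nat_lit 0xbb48b931e275126401508d47639433], [nat_lit 173056, nat_lit 166912, nat_lit 160000, nat_lit 157184, nat_lit 154656, nat_lit 151056, nat_lit 146536, nat_lit 142964, nat_lit 138614, nat_lit 132987, nat_lit 880, nat_lit 4224, nat_lit 8504, nat_lit 14224, nat_lit 18112, nat_lit 21056, nat_lit 25600, nat_lit 29952, nat_lit 41813, nat_lit 38059, nat_lit 32966, nat_lit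 28766, nat_lit 24618, nat_lit 20550, nat_lit 16399, nat_lit 12310, nat_lit 8194, nat_lit 4100]⟩⟩ ⟨(nat_lit 2), ⟨[nat_lit 356, nat_lit 354, nat_lit 357, nat_lit 287, nat_lit 284, nat_lit 284], [], (nat_lit 627), ⟨[nat_lit 0, nat_lit 73, nat_lit 60], [nat_lit 7, nat_lit 90], ⟨[nat_lit 0x439634d0b2b55813b444782138dcca], [nat_lit 173056, nat_lit 168448, nat_lit 160896, nat_lit 156352, nat_lit 154656, nat_lit 148144, nat_lit 144496, nat_lit 139400, nat_lit 135218, nat_lit 132543, nat_lit 1842, nat_lit 5956, nat_lit 8568, nat_lit 12800, nat_lit 17408, nat_lit 20992, nat_lit 34304, nat_lit 41775, nat_lit 37024, nat_lit 33823, nat_lit 29248, nat_lit 24704, nat_lit 20488, nat_lit 16645, nat_lit 12320, nat_lit 8210, nat_lit 4101]⟩⟩⟩, ⟨[nat_lit 225, nat_lit 264, nat_lit 223, nat_lit 266, nat_lit 263], [], (nat_lit 626), ⟨[nat_lit 34], [nat_lit 75, nat_lit 46], ⟨[nat_lit 0x5b80fa26a1228468dda7442632cacc], [nat_lit 174080, nat_lit 168448, nat_lit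 166912, nat_lit 163328, nat_lit 158080, nat_lit 152224, nat_lit 149072, nat_lit 143752, nat_lit 141872, nat_lit 137762, nat_lit 131380, nat_lit 902, nat_lit 4412, nat_lit 8504, nat_lit 13424, nat_lit 17632, nat_lit 22336, nat_lit 24832, nat_lit 33792, nat_lit 37888, nat_lit 41418, nat_lit 37095, nat_lit 33897, nat_lit 28755, nat_lit 24735, nat_lit 20498, nat_lit 16386, nat_lit 12290, nat_lit 8258, nat_lit 4101, nat_lit 2]⟩⟩⟩⟩,
  .edge ⟨[nat_lit 0, nat_lit 7, nat_lit 50], [nat_lit 36, nat_lit 62], ⟨[nat_lit 0x9b86ba56e74862d62a42290d6021f0], [nat_lit 174080, nat_lit 169984, nat_lit 163072, nat_lit 158848, nat_lit 153728, nat_lit 148992, nat_lit 143496, nat_lit 140504, nat_lit 137486, nat_lit 133798, nat_lit 1698, nat_lit 4552, nat_lit 9016, nat_lit 14112, nat_lit 17792, nat_lit 22400, nat_lit 24832, nat_lit 29952, nat_lit 33792, nat_lit 37888, nat_lit 41425, nat_lit 37350, nat_lit 32989, nat_lit 28956, nat_lit 24580, nat_lit 21013, nat_lit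 16386, nat_lit 12290, nat_lit 8257, nat_lit 4105]⟩⟩ ⟨(nat_lit 2), ⟨[nat_lit 354, nat_lit 354, nat_lit 284, nat_lit 355, nat_lit 284], [], (nat_lit 675), ⟨[nat_lit 0, nat_lit 14, nat_lit 55], [nat_lit 75, nat_lit 91], ⟨[nat_lit 0x9d609baded8b8e018514358aa91182], [nat_lit 173056, nat_lit 169984, nat_lit 166400, nat_lit 162176, nat_lit 159296, nat_lit 153120, nat_lit 151008, nat_lit 146064, nat_lit 140640, nat_lit 138136, nat_lit 132515, nat_lit 1814, nat_lit 4396, nat_lit 8928, nat_lit 13536, nat_lit 17120, nat_lit 21184, nat_lit 26496, nat_lit 33792, nat_lit 37888, nat_lit 41141, nat_lit 37310, nat_lit 32854, nat_lit 28726, nat_lit 24609, nat_lit 20508, nat_lit 16387, nat_lit 12322, nat_lit 8194, nat_lit 4100, nat_lit 16]⟩⟩⟩, ⟨[nat_lit 288, nat_lit 354, nat_lit 357, nat_lit 352, nat_lit 352, nat_lit 287], [], (nat_lit 760), ⟨[nat_lit 28], [nat_lit 0, nat_lit 88, nat_lit 57], ⟨[nat_lit 0x2b6cf8244c32977080f48b90395493], [nat_lit 174080,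 nat_lit 168448, nat_lit 167680, nat_lit 162816, nat_lit 158784, nat_lit 153280, nat_lit 147696, nat_lit 144816, nat_lit 141392, nat_lit 138092, nat_lit 131354, nat_lit 1928, nat_lit 5588, nat_lit 9384, nat_lit 22336, nat_lit 25728, nat_lit 29184, nat_lit 37888, nat_lit 41742, nat_lit 37246, nat_lit 33010, nat_lit 29024, nat_lit 24842, nat_lit 20506, nat_lit 16394, nat_lit 12304, nat_lit 8193]⟩⟩⟩⟩]

theorem dcMr391 : Rng dcM 391 393 := Rng.of (l := dcMc391) (by decide +kernel)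

def dcMc393 : List Cert := [.edge tw0 ⟨(nat_lit 1), ⟨[nat_lit 355, nat_lit 285, nat_lit 287, nat_lit 353], [], (nat_lit 658), ⟨[nat_lit 55], [nat_lit 29, nat_lit 50], ⟨[nat_lit 0x748d53cecc011255b46f8c04a0de88], [nat_lit 171008, nat_lit 164864, nat_lit 159872, nat_lit 159616, nat_lit 153088, nat_lit 147744, nat_lit 145952, nat_lit 142516, nat_lit 137228, nat_lit 134010, nat_lit 846, nat_lit 5912, nat_lit 9336, nat_lit 13840, nat_lit 16864, nat_lit 20736, nat_lit 25856, nat_lit 30208, nat_lit 34304, nat_lit 37888, nat_lit 41025, nat_lit 36982, nat_lit 32921, nat_lit 29044, nat_lit 24591, nat_lit 20500, nat_lit 16416, nat_lit 12291, nat_lit 8210, nat_lit 4101]⟩⟩⟩, ⟨[nat_lit 149, nat_lit 146, nat_lit 150, nat_lit 149, nat_lit 140, nat_lit 139], [nat_lit 145, nat_lit 150, nat_lit 145, nat_lit 140, nat_lit 145, nat_lit 139], (nat_lit 659), ⟨[nat_lit 0, nat_lit 88, nat_lit 56], [nat_lit 0, nat_lit 41, nat_lit 50], ⟨[nat_lit 0x3a0d528dd0005366aeec55271909e4],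 [nat_lit 173056, nat_lit 169472, nat_lit 164096, nat_lit 160384, nat_lit 157120, nat_lit 153472, nat_lit 148080, nat_lit 146824, nat_lit 140220, nat_lit 135326, nat_lit 133028, nat_lit 1778, nat_lit 5716, nat_lit 8200, nat_lit 16896, nat_lit 21632, nat_lit 28928, nat_lit 33280, nat_lit 41896, nat_lit 37172, nat_lit 33494, nat_lit 29023, nat_lit 24584, nat_lit 20612, nat_lit 16417, nat_lit 4352, nat_lit 32]⟩⟩⟩⟩,
  .edge tw0 ⟨(nat_lit 1), ⟨[], [nat_lit 353, nat_lit 284], (nat_lit 721), ⟨[nat_lit 19, nat_lit 55], [nat_lit 0, nat_lit 33, nat_lit 49], ⟨[nat_lit 0x48d9623a4d08a66a21e0bd6078954b], [nat_lit 174080, nat_lit 171520, nat_lit 167680, nat_lit 163456, nat_lit 156416, nat_lit 154336, nat_lit 150784, nat_lit 143792, nat_lit 141644, nat_lit 135704, nat_lit 132213, nat_lit 1224, nat_lit 5228, nat_lit 10032, nat_lit 13872, nat_lit 17504, nat_lit 21568, nat_lit 25088, nat_lit 29184, nat_lit 41875, nat_lit 36996, nat_lit 33934, nat_lit 28740,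 nat_lit 24757, nat_lit 20548, nat_lit 16426, nat_lit 12307, nat_lit 4097, nat_lit 2]⟩⟩⟩, ⟨[nat_lit 131, nat_lit 133, nat_lit 112, nat_lit 136], [], (nat_lit 720), ⟨[nat_lit 42, nat_lit 58], [nat_lit 39, nat_lit 62], ⟨[nat_lit 0x48d4c981b0bba8123ce235648896cb], [nat_lit 173056, nat_lit 169472, nat_lit 164608, nat_lit 159872, nat_lit 152448, nat_lit 147824, nat_lit 144672, nat_lit 139872, nat_lit 135918, nat_lit 134954, nat_lit 986, nat_lit 4576, nat_lit 8280, nat_lit 12336, nat_lit 17056, nat_lit 20672, nat_lit 25088, nat_lit 41730, nat_lit 37140, nat_lit 33459, nat_lit 28972, nat_lit 24587, nat_lit 20746, nat_lit 16911, nat_lit 12291, nat_lit 8226, nat_lit 4101]⟩⟩⟩⟩]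

theorem dcMr393 : Rng dcM 393 395 := Rng.of (l := dcMc393) (by decide +kernel)

def dcMc395 : List Cert := [.edge ⟨[nat_lit 45], [nat_lit 85, nat_lit 46], ⟨[nat_lit 0x34e42d62865e83958cb78a7053921], [nat_lit 174080, nat_lit 171008, nat_lit 165120, nat_lit 162944, nat_lit 158592, nat_lit 155168, nat_lit 148112, nat_lit 145072, nat_lit 140040, nat_lit 138678, nat_lit 133522, nat_lit 1760, nat_lit 4720, nat_lit 9664, nat_lit 12432, nat_lit 16928, nat_lit 21056, nat_lit 24832, nat_lit 29184, nat_lit 41879, nat_lit 37203, nat_lit 33306, nat_lit 28764, nat_lit 24595, nat_lit 20483, nat_lit 16387, nat_lit 12420, nat_lit 8195, nat_lit 4100]⟩⟩ ⟨(nat_lit 2), ⟨[nat_lit 354, nat_lit 286, nat_lit 285, nat_lit 357, nat_lit 356], [nat_lit 356, nat_lit 285, nat_lit 355, nat_lit 352, nat_lit 287, nat_lit 286], (nat_lit 757), ⟨[nat_lit 0, nat_lit 37], [nat_lit 32, nat_lit 52], ⟨[nat_lit 0x4a9c7a9aef9160cb0d135d05168024], [nat_lit 175104, nat_lit 168960,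 nat_lit 164608, nat_lit 160384, nat_lit 155840, nat_lit 152768, nat_lit 148288, nat_lit 145296, nat_lit 140968, nat_lit 136680, nat_lit 133114, nat_lit 16, nat_lit 5120, nat_lit 8680, nat_lit 14192, nat_lit 16896, nat_lit 21824, nat_lit 25216, nat_lit 34304, nat_lit 37888, nat_lit 41440, nat_lit 37309, nat_lit 33482, nat_lit 28700, nat_lit 24879, nat_lit 20487, nat_lit 16456, nat_lit 12357, nat_lit 8200, nat_lit 4]⟩⟩⟩, ⟨[nat_lit 261, nat_lit 223, nat_lit 222, nat_lit 222, nat_lit 266, nat_lit 259], [], (nat_lit 640), ⟨[nat_lit 32, nat_lit 94], [nat_lit 0, nat_lit 86, nat_lit 67], ⟨[nat_lit 0x311d5b8c4c5c4279c1f42a4126a2ca], [nat_lit 173056, nat_lit 168448, nat_lit 165632, nat_lit 160896, nat_lit 156992, nat_lit 153536, nat_lit 148016, nat_lit 146232, nat_lit 139476, nat_lit 135496, nat_lit 131815, nat_lit 1818, nat_lit 5544, nat_lit 8792, nat_lit 12544, nat_lit 16608, nat_lit 26240, nat_lit 29952, nat_lit 37888, nat_lit 41310, nat_lit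 37300, nat_lit 32808, nat_lit 28763, nat_lit 24582, nat_lit 20761, nat_lit 16425, nat_lit 12295, nat_lit 8203, nat_lit 4097]⟩⟩⟩⟩]

theorem dcMr395 : Rng dcM 395 396 := Rng.of (l := dcMc395) (by decide +kernel)

def dcMc396 : List Cert := [.edge tw0 ⟨(nat_lit 1), ⟨[nat_lit 354, nat_lit 284, nat_lit 356, nat_lit 356, nat_lit 284], [], (nat_lit 678), ⟨[nat_lit 44, nat_lit 67], [nat_lit 0, nat_lit 81, nat_lit 57], ⟨[nat_lit 0x9cac28a4aeaa141599f01dc87a300d], [nat_lit 174080, nat_lit 166400, nat_lit 161920, nat_lit 159616, nat_lit 151872, nat_lit 148016, nat_lit 143960, nat_lit 142332, nat_lit 137528, nat_lit 131745, nat_lit 1066, nat_lit 5128, nat_lit 9488, nat_lit 13552, nat_lit 16544, nat_lit 21952, nat_lit 26496, nat_lit 33792, nat_lit 41129, nat_lit 37102, nat_lit 32942, nat_lit 28702, nat_lit 25124, nat_lit 20756, nat_lit 16417, nat_lit 12294, nat_lit 8202, nat_lit 4105]⟩⟩⟩, ⟨[nat_lit 171, nat_lit 173, nat_lit 172, nat_lit 219, nat_lit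 212, nat_lit 170], [nat_lit 216, nat_lit 214, nat_lit 216, nat_lit 219, nat_lit 212, nat_lit 172, nat_lit 170], (nat_lit 679), ⟨[nat_lit 45, nat_lit 65], [nat_lit 0, nat_lit 10, nat_lit 59], ⟨[nat_lit 0x820a25aace349218d5f365c87a0da0], [nat_lit 174080, nat_lit 171520, nat_lit 166912, nat_lit 160256, nat_lit 157184, nat_lit 153472, nat_lit 151472, nat_lit 144768, nat_lit 140144, nat_lit 137978, nat_lit 134973, nat_lit 8, nat_lit 5884, nat_lit 8680, nat_lit 12320, nat_lit 17440, nat_lit 20928, nat_lit 25728, nat_lit 29696, nat_lit 33280, nat_lit 41882, nat_lit 37988, nat_lit 33386, nat_lit 28939, nat_lit 25101, nat_lit 20483, nat_lit 16455, nat_lit 12295, nat_lit 8195, nat_lit 4]⟩⟩⟩⟩]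

theorem dcMr396 : Rng dcM 396 397 := Rng.of (l := dcMc396) (by decide +kernel)

def dcMc397 : List Cert := [.edge tw0 ⟨(nat_lit 1), ⟨[], [nat_lit 357, nat_lit 355, nat_lit 284], (nat_lit 723), ⟨[nat_lit 19, nat_lit 65], [nat_lit 0, nat_lit 7, nat_lit 64], ⟨[nat_lit 0x8d827bc0046ad0a625cf1cea511a92], [nat_lit 168448, nat_lit 160768, nat_lit 159488, nat_lit 153312, nat_lit 148048, nat_lit 144432, nat_lit 140468, nat_lit 136212, nat_lit 132980, nat_lit 1182, nat_lit 5308, nat_lit 9216, nat_lit 12912, nat_lit 16512, nat_lit 24704, nat_lit 29696, nat_lit 33792, nat_lit 41489, nat_lit 38130, nat_lit 32856, nat_lit 28749, nat_lit 24592, nat_lit 20994, nat_lit 16448, nat_lit 12417, nat_lit 8200, nat_lit 4609, nat_lit 32]⟩⟩⟩, ⟨[nat_lit 132, nat_lit 133, nat_lit 112, nat_lit 111, nat_lit 132], [], (nat_lit 722), ⟨[nat_lit 1, nat_lit 55], [nat_lit 0, nat_lit 44, nat_lit 58], ⟨[nat_lit 0x84c03944226254d439eb25ea539a96], [nat_lit 173056, nat_lit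 170496, nat_lit 164096, nat_lit 161152, nat_lit 156672, nat_lit 153472, nat_lit 149488, nat_lit 144168, nat_lit 140300, nat_lit 136766, nat_lit 132775, nat_lit 184, nat_lit 5124, nat_lit 9216, nat_lit 12320, nat_lit 18144, nat_lit 20992, nat_lit 26240, nat_lit 29184, nat_lit 34304, nat_lit 41581, nat_lit 36870, nat_lit 32798, nat_lit 28703, nat_lit 25641, nat_lit 20488, nat_lit 16527, nat_lit 12323, nat_lit 8256, nat_lit 4105]⟩⟩⟩⟩,
  .edge tw0 ⟨(nat_lit 1), ⟨[], [nat_lit 356, nat_lit 286, nat_lit 352, nat_lit 284], (nat_lit 753), ⟨[nat_lit 0, nat_lit 76], [nat_lit 81, nat_lit 52], ⟨[nat_lit 0x4955711ec178e08981cb8ca86ab1a4], [nat_lit 175104, nat_lit 169472, nat_lit 164352, nat_lit 163456, nat_lit 157312, nat_lit 153056, nat_lit 149904, nat_lit 145704, nat_lit 141440, nat_lit 138276, nat_lit 133248, nat_lit 1166, nat_lit 5488, nat_lit 9304, nat_lit 13232, nat_lit 17408, nat_lit 22016, nat_lit 25344, nat_lit 29696, nat_lit 33792, nat_lit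 40977, nat_lit 37054, nat_lit 32779, nat_lit 29199, nat_lit 24611, nat_lit 20490, nat_lit 16385, nat_lit 12326, nat_lit 8195]⟩⟩⟩, ⟨[nat_lit 173, nat_lit 219, nat_lit 173, nat_lit 219], [], (nat_lit 752), ⟨[nat_lit 0, nat_lit 73, nat_lit 68], [nat_lit 0, nat_lit 45, nat_lit 53], ⟨[nat_lit 0x3155761e6370604b35eb8d249a8808], [nat_lit 174080, nat_lit 169472, nat_lit 164096, nat_lit 162944, nat_lit 156736, nat_lit 151680, nat_lit 149808, nat_lit 146264, nat_lit 141864, nat_lit 138458, nat_lit 133280, nat_lit 1438, nat_lit 5276, nat_lit 8448, nat_lit 13168, nat_lit 17984, nat_lit 21248, nat_lit 28928, nat_lit 34304, nat_lit 37888, nat_lit 41505, nat_lit 37264, nat_lit 32839, nat_lit 29201, nat_lit 24894, nat_lit 20502, nat_lit 16429, nat_lit 12292, nat_lit 8193]⟩⟩⟩⟩]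

theorem dcMr397 : Rng dcM 397 399 := Rng.of (l := dcMc397) (by decide +kernel)

def dcMc399 : List Cert := [.edge tw0 ⟨(nat_lit 1), ⟨[nat_lit 357, nat_lit 351, nat_lit 286, nat_lit 354], [], (nat_lit 621), ⟨[nat_lit 0, nat_lit 28, nat_lit 60], [nat_lit 0, nat_lit 34, nat_lit 62], ⟨[nat_lit 0x8b6822d9553a1ec75e4322c0132670], [nat_lit 173056, nat_lit 171520, nat_lit 164352, nat_lit 162176, nat_lit 156736, nat_lit 155264, nat_lit 149824, nat_lit 147400, nat_lit 140560, nat_lit 135258, nat_lit 134051, nat_lit 760, nat_lit 4340, nat_lit 9664, nat_lit 13600, nat_lit 17760, nat_lit 22336, nat_lit 25600, nat_lit 29952, nat_lit 33280, nat_lit 41615, nat_lit 37342, nat_lit 33527, nat_lit 28728, nat_lit 24590, nat_lit 20637, nat_lit 16391, nat_lit 12359, nat_lit 8208]⟩⟩⟩, ⟨[nat_lit 223, nat_lit 224, nat_lit 223, nat_lit 224], [], (nat_lit 620), ⟨[nat_lit 15, nat_lit 90], [nat_lit 0, nat_lit 9, nat_lit 47], ⟨[nat_lit 0x22932d9d53b52b55c722323033c41],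 [nat_lit 173056, nat_lit 171520, nat_lit 164352, nat_lit 162176, nat_lit 157056, nat_lit 154656, nat_lit 150512, nat_lit 146056, nat_lit 140672, nat_lit 136100, nat_lit 133960, nat_lit 698, nat_lit 4100, nat_lit 10088, nat_lit 13152, nat_lit 17568, nat_lit 22144, nat_lit 25472, nat_lit 28928, nat_lit 34304, nat_lit 41717, nat_lit 38374, nat_lit 33308, nat_lit 29818, nat_lit 25635, nat_lit 21511, nat_lit 16429, nat_lit 12295, nat_lit 8195, nat_lit 4097]⟩⟩⟩⟩,
  .edge ⟨[nat_lit 87, nat_lit 49], [nat_lit 0, nat_lit 39, nat_lit 93], ⟨[nat_lit 0x938ed04c653251162e81ac09778aca], [nat_lit 169984, nat_lit 164608, nat_lit 160896, nat_lit 157824, nat_lit 153376, nat_lit 149280, nat_lit 147448, nat_lit 142248, nat_lit 139044, nat_lit 133733, nat_lit 1814, nat_lit 4340, nat_lit 9560, nat_lit 13360, nat_lit 17280, nat_lit 20864, nat_lit 28928, nat_lit 33280, nat_lit 37888, nat_lit 41897, nat_lit 38008, nat_lit 33015, nat_lit 28942, nat_lit 24617, nat_lit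 20510, nat_lit 16390, nat_lit 12327, nat_lit 8193, nat_lit 4]⟩⟩ ⟨(nat_lit 2), ⟨[nat_lit 287, nat_lit 357, nat_lit 353, nat_lit 285, nat_lit 284, nat_lit 354], [], (nat_lit 698), ⟨[nat_lit 37, nat_lit 46], [nat_lit 0, nat_lit 79, nat_lit 60], ⟨[nat_lit 0xb1c4942e4c2a83788c0d7ceb433890], [nat_lit 171520, nat_lit 166400, nat_lit 162688, nat_lit 159232, nat_lit 152768, nat_lit 149872, nat_lit 146640, nat_lit 140384, nat_lit 138698, nat_lit 132788, nat_lit 1698, nat_lit 5064, nat_lit 10144, nat_lit 13728, nat_lit 16416, nat_lit 21504, nat_lit 25856, nat_lit 29184, nat_lit 33280, nat_lit 37888, nat_lit 41951, nat_lit 38381, nat_lit 32789, nat_lit 29740, nat_lit 24580, nat_lit 20508, nat_lit 16386, nat_lit 12326, nat_lit 8194, nat_lit 128]⟩⟩⟩, ⟨[nat_lit 225, nat_lit 222, nat_lit 222, nat_lit 266, nat_lit 263], [], (nat_lit 638), ⟨[nat_lit 0, nat_lit 11, nat_lit 68], [nat_lit 0, nat_lit 85, nat_lit 89], ⟨[nat_lit 0x256ce2c22c0cee919de03290d58a54],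 [nat_lit 173056, nat_lit 168960, nat_lit 165120, nat_lit 160128, nat_lit 158080, nat_lit 153152, nat_lit 149040, nat_lit 143976, nat_lit 140712, nat_lit 136968, nat_lit 131998, nat_lit 460, nat_lit 5080, nat_lit 8256, nat_lit 12672, nat_lit 18368, nat_lit 20544, nat_lit 25472, nat_lit 29184, nat_lit 41223, nat_lit 37312, nat_lit 32973, nat_lit 28736, nat_lit 24742, nat_lit 20500, nat_lit 16421, nat_lit 12551, nat_lit 4104, nat_lit 16]⟩⟩⟩⟩]

theorem dcMr399 : Rng dcM 399 401 := Rng.of (l := dcMc399) (by decide +kernel)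

def dcMc401 : List Cert := [.edge ⟨[nat_lit 29, nat_lit 91], [nat_lit 0, nat_lit 26, nat_lit 55], ⟨[nat_lit 0x228ed025c11c0b615cd17ae959a192], [nat_lit 175104, nat_lit 168960, nat_lit 166144, nat_lit 163072, nat_lit 159680, nat_lit 152832, nat_lit 147584, nat_lit 144776, nat_lit 142540, nat_lit 137282, nat_lit 132838, nat_lit 590, nat_lit 4156, nat_lit 9640, nat_lit 13808, nat_lit 18208, nat_lit 21376, nat_lit 25856, nat_lit 29440, nat_lit 33280, nat_lit 41364, nat_lit 37222, nat_lit 33388, nat_lit 28714, nat_lit 25114, nat_lit 20545, nat_lit 16418, nat_lit 12291, nat_lit 8209, nat_lit 4100, nat_lit 8]⟩⟩ ⟨(nat_lit 2), ⟨[nat_lit 284, nat_lit 287, nat_lit 353, nat_lit 287, nat_lit 285, nat_lit 285], [], (nat_lit 646), ⟨[nat_lit 81, nat_lit 60], [nat_lit 0, nat_lit 7, nat_lit 54], ⟨[nat_lit 0xa59a95c64f31d8a01215405c298ee5], [nat_lit 170496, nat_lit 165376, nat_lit 160128, nat_lit 156544, nat_lit 152832, nat_lit 147616, nat_lit 144016,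 nat_lit 140692, nat_lit 136238, nat_lit 131623, nat_lit 1268, nat_lit 5688, nat_lit 8200, nat_lit 12416, nat_lit 17248, nat_lit 22336, nat_lit 25728, nat_lit 29184, nat_lit 34304, nat_lit 41306, nat_lit 32999, nat_lit 28764, nat_lit 24756, nat_lit 20574, nat_lit 16426, nat_lit 12311, nat_lit 8208, nat_lit 4104, nat_lit 2]⟩⟩⟩, ⟨[nat_lit 286, nat_lit 357, nat_lit 285, nat_lit 286, nat_lit 352, nat_lit 351], [], (nat_lit 670), ⟨[nat_lit 0, nat_lit 86, nat_lit 67], [nat_lit 32, nat_lit 69], ⟨[nat_lit 0xbbd00b05ca1107164da5ad20792d26], [nat_lit 164864, nat_lit 159872, nat_lit 157632, nat_lit 151680, nat_lit 147840, nat_lit 143488, nat_lit 139404, nat_lit 139068, nat_lit 131174, nat_lit 158, nat_lit 5572, nat_lit 9752, nat_lit 13264, nat_lit 17792, nat_lit 20800, nat_lit 25600, nat_lit 29696, nat_lit 41326, nat_lit 37042, nat_lit 34016, nat_lit 28992, nat_lit 24725, nat_lit 21015, nat_lit 16452, nat_lit 12294, nat_lit 8202, nat_lit 4104, nat_lit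 16]⟩⟩⟩⟩,
  .edge tw0 ⟨(nat_lit 1), ⟨[], [nat_lit 354, nat_lit 286, nat_lit 351, nat_lit 286, nat_lit 284], (nat_lit 727), ⟨[nat_lit 10, nat_lit 52], [nat_lit 2, nat_lit 92], ⟨[nat_lit 0x35a8c0900e2be713b52aaa0501caeb], [nat_lit 169472, nat_lit 165632, nat_lit 161280, nat_lit 157504, nat_lit 151936, nat_lit 149712, nat_lit 144600, nat_lit 139924, nat_lit 137086, nat_lit 132773, nat_lit 1966, nat_lit 5064, nat_lit 8944, nat_lit 12304, nat_lit 16448, nat_lit 21120, nat_lit 25856, nat_lit 29440, nat_lit 34304, nat_lit 41040, nat_lit 37255, nat_lit 32845, nat_lit 29283, nat_lit 24752, nat_lit 20626, nat_lit 8226, nat_lit 4097, nat_lit 2]⟩⟩⟩, ⟨[nat_lit 150, nat_lit 146, nat_lit 144, nat_lit 140], [], (nat_lit 726), ⟨[nat_lit 0, nat_lit 80, nat_lit 56], [nat_lit 0, nat_lit 75, nat_lit 52], ⟨[nat_lit 0x5da4e2bc0c9dda83052a152a43c603], [nat_lit 174080, nat_lit 170496, nat_lit 166912, nat_lit 161664, nat_lit 159168, nat_lit 155200, nat_lit 149360,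 nat_lit 145952, nat_lit 141076, nat_lit 135386, nat_lit 131879, nat_lit 1174, nat_lit 4476, nat_lit 9648, nat_lit 12304, nat_lit 16896, nat_lit 22336, nat_lit 25088, nat_lit 30464, nat_lit 33280, nat_lit 37888, nat_lit 41304, nat_lit 37251, nat_lit 32845, nat_lit 28797, nat_lit 24634, nat_lit 20508, nat_lit 16420, nat_lit 12305, nat_lit 8224, nat_lit 4160, nat_lit 8]⟩⟩⟩⟩]

theorem dcMr401 : Rng dcM 401 403 := Rng.of (l := dcMc401) (by decide +kernel)

def dcMc403 : List Cert := [.edge ⟨[nat_lit 0, nat_lit 15, nat_lit 60], [nat_lit 0, nat_lit 77, nat_lit 51], ⟨[nat_lit 0x1ccd0a58e0095af4ba576457522848], [nat_lit 169984, nat_lit 165632, nat_lit 162816, nat_lit 156352, nat_lit 154880, nat_lit 151024, nat_lit 145472, nat_lit 141224, nat_lit 136710, nat_lit 134565, nat_lit 952, nat_lit 5292, nat_lit 8448, nat_lit 13216, nat_lit 16864, nat_lit 20864, nat_lit 24832, nat_lit 30208, nat_lit 37888, nat_lit 41729, nat_lit 37034, nat_lit 34029, nat_lit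 28695, nat_lit 24632, nat_lit 20569, nat_lit 16390, nat_lit 12353, nat_lit 8194, nat_lit 4101]⟩⟩ ⟨(nat_lit 2), ⟨[nat_lit 285, nat_lit 287, nat_lit 286, nat_lit 352, nat_lit 284, nat_lit 287], [], (nat_lit 690), ⟨[nat_lit 0, nat_lit 2, nat_lit 56], [nat_lit 71, nat_lit 55], ⟨[nat_lit 0x156c364a2f4a0a46ce0eb803451ccb], [nat_lit 173056, nat_lit 168960, nat_lit 164864, nat_lit 161024, nat_lit 156416, nat_lit 152672, nat_lit 149312, nat_lit 143784, nat_lit 139788, nat_lit 136670, nat_lit 132682, nat_lit 1860, nat_lit 6104, nat_lit 9096, nat_lit 13312, nat_lit 17376, nat_lit 22336, nat_lit 25344, nat_lit 29696, nat_lit 33280, nat_lit 41421, nat_lit 33809, nat_lit 28966, nat_lit 24722, nat_lit 20544, nat_lit 16522, nat_lit 12327, nat_lit 8200, nat_lit 4101, nat_lit 4]⟩⟩⟩, ⟨[nat_lit 147, nat_lit 139, nat_lit 140, nat_lit 149, nat_lit 139, nat_lit 143], [nat_lit 148, nat_lit 142, nat_lit 140, nat_lit 141, nat_lit 141], (nat_lit 691), ⟨[nat_lit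 0, nat_lit 9, nat_lit 66], [nat_lit 0, nat_lit 88, nat_lit 91], ⟨[nat_lit 0x304b11b9924b6c43a1f7a541058a6a], [nat_lit 174080, nat_lit 170496, nat_lit 166144, nat_lit 162432, nat_lit 156096, nat_lit 154688, nat_lit 150192, nat_lit 145240, nat_lit 141332, nat_lit 135848, nat_lit 131806, nat_lit 166, nat_lit 4400, nat_lit 8936, nat_lit 12960, nat_lit 18336, nat_lit 21568, nat_lit 29440, nat_lit 34304, nat_lit 41553, nat_lit 37370, nat_lit 33285, nat_lit 28956, nat_lit 24604, nat_lit 20639, nat_lit 16396, nat_lit 12306, nat_lit 8202, nat_lit 4105]⟩⟩⟩⟩]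

theorem dcMr403 : Rng dcM 403 404 := Rng.of (l := dcMc403) (by decide +kernel)

def dcMc404 : List Cert := [.edge tw0 ⟨(nat_lit 1), ⟨[], [nat_lit 356, nat_lit 357, nat_lit 356, nat_lit 353], (nat_lit 725), ⟨[nat_lit 45, nat_lit 68], [nat_lit 0, nat_lit 74, nat_lit 57], ⟨[nat_lit 0x44ed2d4885beeeb0869a495009993], [nat_lit 174080, nat_lit 170496, nat_lit 165120, nat_lit 162816, nat_lit 159552, nat_lit 155552, nat_lit 147728, nat_lit 143904, nat_lit 139404, nat_lit 138922, nat_lit 134836, nat_lit 880, nat_lit 5436, nat_lit 9384, nat_lit 12640, nat_lit 18016, nat_lit 22400, nat_lit 24832, nat_lit 30464, nat_lit 33792, nat_lit 37888, nat_lit 40967, nat_lit 37367, nat_lit 32893, nat_lit 28688, nat_lit 24890, nat_lit 20751, nat_lit 16421, nat_lit 12548, nat_lit 8195, nat_lit 4100, nat_lit 2]⟩⟩⟩, ⟨[nat_lit 149, nat_lit 144, nat_lit 149, nat_lit 150, nat_lit 141], [], (nat_lit 724), ⟨[nat_lit 0, nat_lit 84, nat_lit 90], [nat_lit 26, nat_lit 61],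 ⟨[nat_lit 0x4d1c5384d38b00d85ea292c6853c96], [nat_lit 165376, nat_lit 160256, nat_lit 156928, nat_lit 151872, nat_lit 147696, nat_lit 144808, nat_lit 141084, nat_lit 139004, nat_lit 132494, nat_lit 698, nat_lit 4112, nat_lit 10136, nat_lit 13744, nat_lit 16640, nat_lit 21504, nat_lit 25216, nat_lit 28928, nat_lit 34304, nat_lit 41960, nat_lit 37138, nat_lit 32830, nat_lit 28714, nat_lit 24591, nat_lit 20632, nat_lit 16386, nat_lit 12291, nat_lit 8257]⟩⟩⟩⟩,
  .edge tw0 ⟨(nat_lit 1), ⟨[nat_lit 352, nat_lit 352], [], (nat_lit 567), ⟨[nat_lit 13, nat_lit 50], [nat_lit 0, nat_lit 38, nat_lit 56], ⟨[nat_lit 0x73cc0b4d2d80647a5ca322962622b1], [nat_lit 171008, nat_lit 164352, nat_lit 158144, nat_lit 151680, nat_lit 147680, nat_lit 146552, nat_lit 141856, nat_lit 138238, nat_lit 133237, nat_lit 78, nat_lit 6032, nat_lit 10152, nat_lit 13984, nat_lit 16736, nat_lit 21440, nat_lit 25856, nat_lit 29952, nat_lit 41620, nat_lit 37375, nat_lit 33430,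 nat_lit 29268, nat_lit 24594, nat_lit 20637, nat_lit 16427, nat_lit 12306, nat_lit 8202, nat_lit 4105]⟩⟩⟩, ⟨[nat_lit 69, nat_lit 69, nat_lit 69, nat_lit 69], [], (nat_lit 566), ⟨[nat_lit 0, nat_lit 73, nat_lit 55], [nat_lit 88, nat_lit 53], ⟨[nat_lit 0x73cc0b4d2d80647a5ca322962622b1], [nat_lit 171520, nat_lit 164608, nat_lit 158144, nat_lit 151680, nat_lit 147680, nat_lit 146544, nat_lit 141856, nat_lit 138236, nat_lit 133237, nat_lit 78, nat_lit 6032, nat_lit 10152, nat_lit 13984, nat_lit 16736, nat_lit 21440, nat_lit 25856, nat_lit 29952, nat_lit 41620, nat_lit 37375, nat_lit 33430, nat_lit 29268, nat_lit 24594, nat_lit 20637, nat_lit 16427, nat_lit 12306, nat_lit 8202, nat_lit 4105]⟩⟩⟩⟩]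

theorem dcMr404 : Rng dcM 404 406 := Rng.of (l := dcMc404) (by decide +kernel)

def dcMc406 : List Cert := [.edge tw0 ⟨(nat_lit 1), ⟨[], [nat_lit 354, nat_lit 356, nat_lit 285, nat_lit 353, nat_lit 286], (nat_lit 773), ⟨[nat_lit 15, nat_lit 55], [nat_lit 0, nat_lit 42, nat_lit 46], ⟨[nat_lit 0x2aed7a062e926046bcca19d009b055], [nat_lit 173056, nat_lit 164096, nat_lit 160512, nat_lit 156096, nat_lit 151712, nat_lit 147616, nat_lit 144240, nat_lit 139988, nat_lit 137896, nat_lit 132063, nat_lit 1760, nat_lit 4100, nat_lit 8504, nat_lit 12864, nat_lit 17792, nat_lit 21760, nat_lit 25984, nat_lit 29440, nat_lit 34304, nat_lit 37888, nat_lit 41925, nat_lit 38331, nat_lit 33009, nat_lit 28943, nat_lit 24716, nat_lit 20545, nat_lit 16399, nat_lit 12306]⟩⟩⟩, ⟨[nat_lit 356, nat_lit 356, nat_lit 353, nat_lit 287], [], (nat_lit 688), ⟨[nat_lit 45, nat_lit 67], [nat_lit 0, nat_lit 44, nat_lit 64], ⟨[nat_lit 0xbcc41501843c0d58d9afa2d3240cae], [nat_lit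 173056, nat_lit 168448, nat_lit 164608, nat_lit 161024, nat_lit 157504, nat_lit 152224, nat_lit 147856, nat_lit 144088, nat_lit 139660, nat_lit 136792, nat_lit 133208, nat_lit 1972, nat_lit 4224, nat_lit 10168, nat_lit 12544, nat_lit 21312, nat_lit 25088, nat_lit 28928, nat_lit 33280, nat_lit 37888, nat_lit 41815, nat_lit 37980, nat_lit 33326, nat_lit 28723, nat_lit 25610, nat_lit 20636, nat_lit 16448, nat_lit 12293, nat_lit 8193, nat_lit 4128]⟩⟩⟩⟩,
  .edge tw0 ⟨(nat_lit 1), ⟨[nat_lit 287, nat_lit 357, nat_lit 288, nat_lit 357], [], (nat_lit 694), ⟨[nat_lit 0, nat_lit 79, nat_lit 63], [nat_lit 85, nat_lit 51], ⟨[nat_lit 0x25831abe8805e0710dca92d932b526], [nat_lit 175104, nat_lit 171520, nat_lit 166400, nat_lit 161408, nat_lit 158016, nat_lit 154368, nat_lit 149264, nat_lit 145848, nat_lit 140124, nat_lit 135926, nat_lit 132202, nat_lit 1516, nat_lit 4780, nat_lit 8456, nat_lit 14304, nat_lit 18304, nat_lit 20992, nat_lit 26240, nat_lit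 29696, nat_lit 33792, nat_lit 37888, nat_lit 41110, nat_lit 37032, nat_lit 32987, nat_lit 28698, nat_lit 24851, nat_lit 20992, nat_lit 16517, nat_lit 8210, nat_lit 4]⟩⟩⟩, ⟨[nat_lit 264, nat_lit 262, nat_lit 261, nat_lit 263], [], (nat_lit 622), ⟨[nat_lit 0, nat_lit 75, nat_lit 53], [nat_lit 29, nat_lit 68], ⟨[nat_lit 0x496c293a33635f0b9d4135160a9103], [nat_lit 174080, nat_lit 171008, nat_lit 166656, nat_lit 162304, nat_lit 156800, nat_lit 153920, nat_lit 150304, nat_lit 143432, nat_lit 142412, nat_lit 135600, nat_lit 132240, nat_lit 1770, nat_lit 6120, nat_lit 10144, nat_lit 12304, nat_lit 16640, nat_lit 22144, nat_lit 25344, nat_lit 29184, nat_lit 41396, nat_lit 37140, nat_lit 33402, nat_lit 28710, nat_lit 24895, nat_lit 20496, nat_lit 16391, nat_lit 12293, nat_lit 4113, nat_lit 8]⟩⟩⟩⟩]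

theorem dcMr406 : Rng dcM 406 408 := Rng.of (l := dcMc406) (by decide +kernel)

def dcMc408 : List Cert := [.edge ⟨[nat_lit 0, nat_lit 6, nat_lit 69], [nat_lit 0, nat_lit 6, nat_lit 94], ⟨[nat_lit 0x1151634da78b0018296ea9123a49f7], [nat_lit 171520, nat_lit 160640, nat_lit 158144, nat_lit 152896, nat_lit 148704, nat_lit 146560, nat_lit 142400, nat_lit 138226, nat_lit 134451, nat_lit 796, nat_lit 5688, nat_lit 8608, nat_lit 14144, nat_lit 16800, nat_lit 26368, nat_lit 29696, nat_lit 33280, nat_lit 41883, nat_lit 38369, nat_lit 32927, nat_lit 28693, nat_lit 24624, nat_lit 20494, nat_lit 16451, nat_lit 12291, nat_lit 8225, nat_lit 4097, nat_lit 2]⟩⟩ ⟨(nat_lit 2), ⟨[nat_lit 288, nat_lit 354, nat_lit 287, nat_lit 352, nat_lit 285, nat_lit 287], [], (nat_lit 690), ⟨[nat_lit 0, nat_lit 44, nat_lit 50], [nat_lit 0, nat_lit 44, nat_lit 56], ⟨[nat_lit 0x1cc04930cf43436ac0b71512e52cf1], [nat_lit 173056, nat_lit 168448, nat_lit 167168, nat_lit 161536,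 nat_lit 155904, nat_lit 155264, nat_lit 151248, nat_lit 145784, nat_lit 142204, nat_lit 138976, nat_lit 132771, nat_lit 1694, nat_lit 4924, nat_lit 8928, nat_lit 12640, nat_lit 18240, nat_lit 21248, nat_lit 26240, nat_lit 30464, nat_lit 33792, nat_lit 37888, nat_lit 41250, nat_lit 36866, nat_lit 34007, nat_lit 28973, nat_lit 24722, nat_lit 20743, nat_lit 16390, nat_lit 12295, nat_lit 4097, nat_lit 2]⟩⟩⟩, ⟨[nat_lit 139, nat_lit 146, nat_lit 150, nat_lit 148, nat_lit 148], [nat_lit 148, nat_lit 142, nat_lit 140, nat_lit 141, nat_lit 141], (nat_lit 691), ⟨[nat_lit 0, nat_lit 12, nat_lit 68], [nat_lit 72, nat_lit 46], ⟨[nat_lit 0xb8263732360bd27216b0551126984b], [nat_lit 168448, nat_lit 166144, nat_lit 160256, nat_lit 156608, nat_lit 153984, nat_lit 150224, nat_lit 147040, nat_lit 142236, nat_lit 137874, nat_lit 131935, nat_lit 566, nat_lit 4408, nat_lit 9216, nat_lit 13024, nat_lit 17824, nat_lit 22208, nat_lit 30464, nat_lit 37888, nat_lit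 41446, nat_lit 36870, nat_lit 33952, nat_lit 29792, nat_lit 24855, nat_lit 20494, nat_lit 16455, nat_lit 12323, nat_lit 8194, nat_lit 8]⟩⟩⟩⟩,
  .defn,
  .stab (nat_lit 818) tw0 ⟨(nat_lit 0), ⟨[nat_lit 72, nat_lit 46, nat_lit 71, nat_lit 68, nat_lit 49, nat_lit 72, nat_lit 67, nat_lit 70, nat_lit 49], [], (nat_lit 818), ⟨[nat_lit 0, nat_lit 81, nat_lit 91], [nat_lit 0, nat_lit 7, nat_lit 52], ⟨[nat_lit 0xbd55480da6648475d9287cca174404], [nat_lit 169472, nat_lit 164096, nat_lit 161280, nat_lit 155968, nat_lit 153056, nat_lit 147904, nat_lit 145464, nat_lit 140080, nat_lit 136728, nat_lit 131092, nat_lit 16, nat_lit 4112, nat_lit 9648, nat_lit 12800, nat_lit 16896, nat_lit 20992, nat_lit 25088, nat_lit 29184, nat_lit 33280, nat_lit 37888, nat_lit 41463, nat_lit 36933, nat_lit 32776, nat_lit 28680, nat_lit 25101, nat_lit 20488, nat_lit 16394, nat_lit 12292, nat_lit 8200, nat_lit 4113, nat_lit 2]⟩⟩⟩, ap0⟩]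

theorem dcMr408 : Rng dcM 408 411 := Rng.of (l := dcMc408) (by decide +kernel)

def dcMc411 : List Cert := [.stab (nat_lit 818) tw0 ⟨(nat_lit 0), ⟨[nat_lit 48, nat_lit 48, nat_lit 47, nat_lit 73, nat_lit 48, nat_lit 72, nat_lit 46, nat_lit 49, nat_lit 66], [], (nat_lit 818), ⟨[nat_lit 84, nat_lit 48], [nat_lit 1, nat_lit 66], ⟨[nat_lit 0xbd514905c67c0074d96a644a36cc44], [nat_lit 173056, nat_lit 168448, nat_lit 164096, nat_lit 161408, nat_lit 157120, nat_lit 152544, nat_lit 148960, nat_lit 144048, nat_lit 140164, nat_lit 137396, nat_lit 132230, nat_lit 606, nat_lit 4100, nat_lit 8208, nat_lit 13216, nat_lit 17312, nat_lit 21504, nat_lit 24832, nat_lit 29696, nat_lit 34304, nat_lit 41910, nat_lit 38308, nat_lit 33003, nat_lit 29021, nat_lit 24861, nat_lit 20544, nat_lit 16398, nat_lit 12311, nat_lit 8195, nat_lit 4]⟩⟩⟩, ap0⟩,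
  .stab (nat_lit 818) tw0 ⟨(nat_lit 0), ⟨[nat_lit 69, nat_lit 47, nat_lit 73, nat_lit 71, nat_lit 48, nat_lit 46, nat_lit 67, nat_lit 70, nat_lit 67], [], (nat_lit 818), ⟨[nat_lit 0, nat_lit 31, nat_lit 57], [nat_lit 0, nat_lit 4, nat_lit 92], ⟨[nat_lit 0xbaeb48048c70e6752516680b23444f], [nat_lit 168448, nat_lit 160640, nat_lit 155712, nat_lit 153248, nat_lit 148960, nat_lit 144280, nat_lit 139440, nat_lit 137654, nat_lit 131090, nat_lit 1488, nat_lit 4100, nat_lit 8704, nat_lit 13616, nat_lit 16960, nat_lit 20992, nat_lit 26112, nat_lit 29184, nat_lit 33792, nat_lit 37888, nat_lit 41879, nat_lit 36950, nat_lit 33928, nat_lit 28678, nat_lit 25114, nat_lit 20486, nat_lit 16649, nat_lit 12354, nat_lit 8194, nat_lit 256]⟩⟩⟩, ap0⟩]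

theorem dcMr411 : Rng dcM 411 413 := Rng.of (l := dcMc411) (by decide +kernel)

def dcMc413 : List Cert := [.stab (nat_lit 818) tw0 ⟨(nat_lit 0), ⟨[nat_lit 69, nat_lit 66, nat_lit 71, nat_lit 49, nat_lit 70, nat_lit 73, nat_lit 48, nat_lit 71, nat_lit 68, nat_lit 46], [], (nat_lit 818), ⟨[nat_lit 0, nat_lit 77, nat_lit 60], [nat_lit 41, nat_lit 91], ⟨[nat_lit 0xba6b43019323e435d948140ae884ed], [nat_lit 173056, nat_lit 165632, nat_lit 160256, nat_lit 157312, nat_lit 152608, nat_lit 147744, nat_lit 143456, nat_lit 140900, nat_lit 136228, nat_lit 134168, nat_lit 494, nat_lit 5276, nat_lit 8680, nat_lit 13392, nat_lit 18272, nat_lit 20992, nat_lit 24960, nat_lit 29184, nat_lit 33280, nat_lit 37888, nat_lit 41939, nat_lit 37986, nat_lit 32787, nat_lit 28691, nat_lit 25633, nat_lit 20499, nat_lit 16399, nat_lit 12308, nat_lit 8193, nat_lit 4]⟩⟩⟩, ap0⟩,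
  .stab (nat_lit 818) tw0 ⟨(nat_lit 0), ⟨[nat_lit 48, nat_lit 69, nat_lit 66, nat_lit 46, nat_lit 72, nat_lit 47, nat_lit 47, nat_lit 46, nat_lit 68], [], (nat_lit 818), ⟨[nat_lit 26, nat_lit 70], [nat_lit 26, nat_lit 56], ⟨[nat_lit 0xa59378904c33c304297598cad71e40], [nat_lit 168960, nat_lit 165376, nat_lit 159872, nat_lit 157568, nat_lit 152896, nat_lit 150096, nat_lit 144696, nat_lit 140836, nat_lit 135740, nat_lit 132856, nat_lit 16, nat_lit 5260, nat_lit 10160, nat_lit 13888, nat_lit 22080, nat_lit 25472, nat_lit 33280, nat_lit 41944, nat_lit 36964, nat_lit 32927, nat_lit 28688, nat_lit 24610, nat_lit 20551, nat_lit 16397, nat_lit 12305, nat_lit 8203, nat_lit 4101]⟩⟩⟩, ap0⟩,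
  .prod [] [nat_lit 412, nat_lit 412, nat_lit 412, nat_lit 410],
  .prod [] [nat_lit 414, nat_lit 411, nat_lit 412, nat_lit 414]]

theorem dcMr413 : Rng dcM 413 417 := Rng.of (l := dcMc413) (by decide +kernel)

def dcMc417 : List Cert := [.prod [] [nat_lit 412, nat_lit 416, nat_lit 415, nat_lit 415],
  .prod [] [nat_lit 412, nat_lit 414, nat_lit 415, nat_lit 413],
  .prod [] [nat_lit 413, nat_lit 412, nat_lit 412, nat_lit 416],
  .prod [] [nat_lit 418, nat_lit 411, nat_lit 415, nat_lit 419],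
  .prod [] [nat_lit 417, nat_lit 418, nat_lit 412, nat_lit 414],
  .edge ⟨[nat_lit 0, nat_lit 35, nat_lit 56], [nat_lit 1, nat_lit 46], ⟨[nat_lit 0x136a73500e8214994e2b796e32582c], [nat_lit 169472, nat_lit 164864, nat_lit 160640, nat_lit 156928, nat_lit 154240, nat_lit 148560, nat_lit 144720, nat_lit 139724, nat_lit 136836, nat_lit 132684, nat_lit 902, nat_lit 4128, nat_lit 8504, nat_lit 12304, nat_lit 16416, nat_lit 22272, nat_lit 24832, nat_lit 30208, nat_lit 34304, nat_lit 41888, nat_lit 37903, nat_lit 33381, nat_lit 28755, nat_lit 24719, nat_lit 20489, nat_lit 16392, nat_lit 12304, nat_lit 8195, nat_lit 4]⟩⟩ ⟨(nat_lit 2), ⟨[nat_lit 79, nat_lit 77, nat_lit 107, nat_lit 103, nat_lit 76], [], (nat_lit 182), ⟨[nat_lit 0, nat_lit 72, nat_lit 93], [nat_lit 71, nat_lit 67], ⟨[nat_lit 0x1264c05c652427541d765062d7d1c6], [nat_lit 174080, nat_lit 165376, nat_lit 160128, nat_lit 157888, nat_lit 154688, nat_lit 150320, nat_lit 144936, nat_lit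 142856, nat_lit 135304, nat_lit 134221, nat_lit 116, nat_lit 5768, nat_lit 10128, nat_lit 13152, nat_lit 18144, nat_lit 21504, nat_lit 29184, nat_lit 33792, nat_lit 37888, nat_lit 41963, nat_lit 37225, nat_lit 33461, nat_lit 29021, nat_lit 24861, nat_lit 20487, nat_lit 16392, nat_lit 12289, nat_lit 8226, nat_lit 4128]⟩⟩⟩, ⟨[nat_lit 68, nat_lit 73, nat_lit 66, nat_lit 68], [], (nat_lit 818), ⟨[nat_lit 1, nat_lit 68], [nat_lit 40, nat_lit 48], ⟨[nat_lit 0xb44649d6f652e5a8d1124a6e502d0], [nat_lit 175104, nat_lit 168960, nat_lit 165376, nat_lit 163456, nat_lit 155968, nat_lit 151968, nat_lit 150640, nat_lit 146264, nat_lit 142924, nat_lit 138160, nat_lit 133782, nat_lit 1246, nat_lit 5668, nat_lit 8496, nat_lit 12976, nat_lit 17216, nat_lit 20736, nat_lit 26240, nat_lit 29952, nat_lit 37888, nat_lit 41921, nat_lit 37375, nat_lit 32961, nat_lit 28688, nat_lit 24601, nat_lit 21022, nat_lit 16460, nat_lit 12292, nat_lit 8202]⟩⟩⟩⟩]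

theorem dcMr417 : Rng dcM 417 423 := Rng.of (l := dcMc417) (by decide +kernel)

def dcMc423 : List Cert := [.edge ⟨[nat_lit 0, nat_lit 10, nat_lit 47], [nat_lit 37, nat_lit 62], ⟨[nat_lit 0x488e073d0522ef51b6366403434953], [nat_lit 175104, nat_lit 169984, nat_lit 166400, nat_lit 160896, nat_lit 158784, nat_lit 154944, nat_lit 147488, nat_lit 146760, nat_lit 136578, nat_lit 131122, nat_lit 1318, nat_lit 5904, nat_lit 8752, nat_lit 13152, nat_lit 18208, nat_lit 26112, nat_lit 37888, nat_lit 41544, nat_lit 38208, nat_lit 33535, nat_lit 29005, nat_lit 24895, nat_lit 20629, nat_lit 16514, nat_lit 8227, nat_lit 4128]⟩⟩ ⟨(nat_lit 2), ⟨[nat_lit 112, nat_lit 135, nat_lit 111, nat_lit 109, nat_lit 110], [], (nat_lit 250), ⟨[nat_lit 87, nat_lit 51], [nat_lit 20, nat_lit 57], ⟨[nat_lit 0x980a449ecc921626a8d473c3185477], [nat_lit 175104, nat_lit 168960, nat_lit 165120, nat_lit 162688, nat_lit 156160, nat_lit 153248, nat_lit 150656, nat_lit 145912,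 nat_lit 142720, nat_lit 137678, nat_lit 133654, nat_lit 1148, nat_lit 4328, nat_lit 8824, nat_lit 12352, nat_lit 16896, nat_lit 20928, nat_lit 25088, nat_lit 41635, nat_lit 38357, nat_lit 32939, nat_lit 28938, nat_lit 24613, nat_lit 20574, nat_lit 16416, nat_lit 12291, nat_lit 4097, nat_lit 2]⟩⟩⟩, ⟨[nat_lit 49, nat_lit 69, nat_lit 46, nat_lit 46, nat_lit 73, nat_lit 71], [], (nat_lit 818), ⟨[nat_lit 2, nat_lit 70], [nat_lit 0, nat_lit 88, nat_lit 63], ⟨[nat_lit 0xabe611ac44435c79262665a00baa85], [nat_lit 173056, nat_lit 171520, nat_lit 167424, nat_lit 163072, nat_lit 157824, nat_lit 153248, nat_lit 149904, nat_lit 145768, nat_lit 139944, nat_lit 138578, nat_lit 131629, nat_lit 1938, nat_lit 5112, nat_lit 8344, nat_lit 13536, nat_lit 18304, nat_lit 20608, nat_lit 26496, nat_lit 29440, nat_lit 34304, nat_lit 41585, nat_lit 37935, nat_lit 32930, nat_lit 28992, nat_lit 24720, nat_lit 20504, nat_lit 16417, nat_lit 12308, nat_lit 8202, nat_lit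 4]⟩⟩⟩⟩,
  .edge ⟨[nat_lit 38, nat_lit 54], [nat_lit 0, nat_lit 85, nat_lit 94], ⟨[nat_lit 0x6b2309be4e591270d874adc02518a8], [nat_lit 174080, nat_lit 171520, nat_lit 166144, nat_lit 161536, nat_lit 158464, nat_lit 153728, nat_lit 149056, nat_lit 146336, nat_lit 140132, nat_lit 132001, nat_lit 1554, nat_lit 5776, nat_lit 9216, nat_lit 13920, nat_lit 18336, nat_lit 20544, nat_lit 25600, nat_lit 28928, nat_lit 33792, nat_lit 37888, nat_lit 41567, nat_lit 38231, nat_lit 32872, nat_lit 28683, nat_lit 24884, nat_lit 20736, nat_lit 16448, nat_lit 12289, nat_lit 8208, nat_lit 4225, nat_lit 8]⟩⟩ ⟨(nat_lit 2), ⟨[nat_lit 148, nat_lit 139], [nat_lit 143, nat_lit 146, nat_lit 140], (nat_lit 313), ⟨[nat_lit 26, nat_lit 46], [nat_lit 16, nat_lit 89], ⟨[nat_lit 0x75d0babc8503282b4a6d0a4f01c546], [nat_lit 175104, nat_lit 171008, nat_lit 166144, nat_lit 160384, nat_lit 158208, nat_lit 154304, nat_lit 149104, nat_lit 145776, nat_lit 140516, nat_lit 136500,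 nat_lit 131974, nat_lit 786, nat_lit 6104, nat_lit 9608, nat_lit 12352, nat_lit 16448, nat_lit 21248, nat_lit 25344, nat_lit 29184, nat_lit 37888, nat_lit 41726, nat_lit 37240, nat_lit 33471, nat_lit 29034, nat_lit 24879, nat_lit 20490, nat_lit 16896, nat_lit 12304, nat_lit 8321, nat_lit 4129, nat_lit 2]⟩⟩⟩, ⟨[nat_lit 134, nat_lit 111, nat_lit 135, nat_lit 135, nat_lit 131], [], (nat_lit 846), ⟨[nat_lit 0, nat_lit 78, nat_lit 70], [nat_lit 79, nat_lit 60], ⟨[nat_lit 0x9d86d349512d1374040462de775602], [nat_lit 173056, nat_lit 165632, nat_lit 161152, nat_lit 156416, nat_lit 151648, nat_lit 148768, nat_lit 144896, nat_lit 141096, nat_lit 135522, nat_lit 131923, nat_lit 1766, nat_lit 5960, nat_lit 13760, nat_lit 18336, nat_lit 21184, nat_lit 25088, nat_lit 28928, nat_lit 34304, nat_lit 37888, nat_lit 41714, nat_lit 38055, nat_lit 32880, nat_lit 29722, nat_lit 24744, nat_lit 20619, nat_lit 16393, nat_lit 12309, nat_lit 8193, nat_lit 4129,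 nat_lit 4]⟩⟩⟩⟩]

theorem dcMr423 : Rng dcM 423 425 := Rng.of (l := dcMc423) (by decide +kernel)

def dcMc425 : List Cert := [.edge ⟨[nat_lit 0, nat_lit 73, nat_lit 58], [nat_lit 0, nat_lit 40, nat_lit 65], ⟨[nat_lit 0x65eab8a64e9d845a402403c6a3a0cd], [nat_lit 175104, nat_lit 168448, nat_lit 166144, nat_lit 163456, nat_lit 158528, nat_lit 152672, nat_lit 148576, nat_lit 144312, nat_lit 141512, nat_lit 137588, nat_lit 133038, nat_lit 1066, nat_lit 4548, nat_lit 8624, nat_lit 12848, nat_lit 16512, nat_lit 21376, nat_lit 25472, nat_lit 28928, nat_lit 33792, nat_lit 37888, nat_lit 41562, nat_lit 37976, nat_lit 32914, nat_lit 28968, nat_lit 25628, nat_lit 20614, nat_lit 16423, nat_lit 12308, nat_lit 8201]⟩⟩ ⟨(nat_lit 2), ⟨[nat_lit 148, nat_lit 142, nat_lit 147, nat_lit 149, nat_lit 144, nat_lit 141], [], (nat_lit 328), ⟨[nat_lit 0, nat_lit 32, nat_lit 46], [nat_lit 0, nat_lit 1, nat_lit 55], ⟨[nat_lit 0x751eabc9704949661c13122a38b4c1], [nat_lit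 168448, nat_lit 160640, nat_lit 157376, nat_lit 151680, nat_lit 149488, nat_lit 143552, nat_lit 139816, nat_lit 136438, nat_lit 131770, nat_lit 494, nat_lit 5120, nat_lit 8952, nat_lit 12800, nat_lit 18400, nat_lit 22400, nat_lit 30464, nat_lit 33792, nat_lit 41216, nat_lit 37050, nat_lit 33825, nat_lit 29231, nat_lit 20740, nat_lit 16525, nat_lit 12304, nat_lit 8226, nat_lit 4101, nat_lit 4]⟩⟩⟩, ⟨[nat_lit 144, nat_lit 147, nat_lit 141, nat_lit 145, nat_lit 139], [], (nat_lit 848), ⟨[nat_lit 0, nat_lit 23, nat_lit 94], [nat_lit 0, nat_lit 11, nat_lit 63], ⟨[nat_lit 0xa5e0a355a3b3005990e993d6e0a222], [nat_lit 175104, nat_lit 169984, nat_lit 165376, nat_lit 162816, nat_lit 158400, nat_lit 154432, nat_lit 148224, nat_lit 144704, nat_lit 139356, nat_lit 138776, nat_lit 135041, nat_lit 1766, nat_lit 4608, nat_lit 8448, nat_lit 12800, nat_lit 18336, nat_lit 21248, nat_lit 25856, nat_lit 28928, nat_lit 33280, nat_lit 37888, nat_lit 41581, nat_lit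 36878, nat_lit 32963, nat_lit 28988, nat_lit 24754, nat_lit 20623, nat_lit 16385, nat_lit 12354, nat_lit 8193, nat_lit 4104]⟩⟩⟩⟩,
  .edge ⟨[nat_lit 15, nat_lit 50], [nat_lit 26, nat_lit 47], ⟨[nat_lit 0x8a966a50e00ef58166462dea8c8e6], [nat_lit 175104, nat_lit 168448, nat_lit 166400, nat_lit 163456, nat_lit 158848, nat_lit 153056, nat_lit 147760, nat_lit 145336, nat_lit 143320, nat_lit 138106, nat_lit 132714, nat_lit 158, nat_lit 4548, nat_lit 10120, nat_lit 12848, nat_lit 17728, nat_lit 22464, nat_lit 26368, nat_lit 30464, nat_lit 33280, nat_lit 37888, nat_lit 41172, nat_lit 37122, nat_lit 33360, nat_lit 29774, nat_lit 24860, nat_lit 20481, nat_lit 16525, nat_lit 12356, nat_lit 8209, nat_lit 4097, nat_lit 2]⟩⟩ ⟨(nat_lit 2), ⟨[nat_lit 146, nat_lit 139], [nat_lit 148, nat_lit 140, nat_lit 141], (nat_lit 309), ⟨[nat_lit 0, nat_lit 74, nat_lit 90], [nat_lit 11, nat_lit 54], ⟨[nat_lit 0xb644640a089de3bda8a30a6e4d568], [nat_lit 169472, nat_lit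 160896, nat_lit 158464, nat_lit 151680, nat_lit 147504, nat_lit 143448, nat_lit 140152, nat_lit 136630, nat_lit 131434, nat_lit 2018, nat_lit 5016, nat_lit 10072, nat_lit 12768, nat_lit 16640, nat_lit 21184, nat_lit 25728, nat_lit 29952, nat_lit 34304, nat_lit 37888, nat_lit 41788, nat_lit 38268, nat_lit 33997, nat_lit 28789, nat_lit 24603, nat_lit 20613, nat_lit 16428, nat_lit 12306, nat_lit 8203, nat_lit 4]⟩⟩⟩, ⟨[nat_lit 101, nat_lit 105, nat_lit 79, nat_lit 103, nat_lit 106, nat_lit 78], [], (nat_lit 844), ⟨[nat_lit 40, nat_lit 94], [nat_lit 0, nat_lit 41, nat_lit 48], ⟨[nat_lit 0x78068bc44451da67426b954a165136], [nat_lit 169984, nat_lit 165120, nat_lit 160000, nat_lit 156032, nat_lit 152640, nat_lit 149248, nat_lit 143808, nat_lit 139964, nat_lit 135358, nat_lit 132127, nat_lit 184, nat_lit 6084, nat_lit 10208, nat_lit 13552, nat_lit 16416, nat_lit 20736, nat_lit 26496, nat_lit 29184, nat_lit 33792, nat_lit 37888, nat_lit 41615, nat_lit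 37220, nat_lit 32782, nat_lit 25108, nat_lit 20560, nat_lit 16454, nat_lit 12290, nat_lit 8210]⟩⟩⟩⟩]

theorem dcMr425 : Rng dcM 425 427 := Rng.of (l := dcMc425) (by decide +kernel)

def dcMc427 : List Cert := [.edge ⟨[nat_lit 0, nat_lit 80, nat_lit 89], [nat_lit 0, nat_lit 10, nat_lit 56], ⟨[nat_lit 0x14487595f673240a0eb035daa98509], [nat_lit 169472, nat_lit 165120, nat_lit 163200, nat_lit 156224, nat_lit 151616, nat_lit 148096, nat_lit 145040, nat_lit 139476, nat_lit 136424, nat_lit 131564, nat_lit 1928, nat_lit 4352, nat_lit 9664, nat_lit 12432, nat_lit 18112, nat_lit 21184, nat_lit 28928, nat_lit 41453, nat_lit 37240, nat_lit 32960, nat_lit 28773, nat_lit 24724, nat_lit 20550, nat_lit 16428, nat_lit 12308, nat_lit 8201, nat_lit 4100, nat_lit 8]⟩⟩ ⟨(nat_lit 2), ⟨[nat_lit 212, nat_lit 217, nat_lit 173, nat_lit 215, nat_lit 171], [], (nat_lit 386), ⟨[nat_lit 71, nat_lit 94], [nat_lit 29, nat_lit 92], ⟨[nat_lit 0x313023aef53663a950bb4a26a0447],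 [nat_lit 175104, nat_lit 171520, nat_lit 165888, nat_lit 162816, nat_lit 155776, nat_lit 155456, nat_lit 149936, nat_lit 145272, nat_lit 142220, nat_lit 136106, nat_lit 132063, nat_lit 810, nat_lit 4100, nat_lit 8224, nat_lit 14144, nat_lit 17280, nat_lit 20544, nat_lit 25600, nat_lit 28928, nat_lit 34304, nat_lit 37888, nat_lit 40980, nat_lit 37007, nat_lit 32874, nat_lit 29211, nat_lit 24636, nat_lit 20552, nat_lit 16388, nat_lit 12352, nat_lit 8202, nat_lit 4100]⟩⟩⟩, ⟨[nat_lit 139, nat_lit 150, nat_lit 139, nat_lit 143, nat_lit 140], [], (nat_lit 852), ⟨[nat_lit 0, nat_lit 7], [nat_lit 61], ⟨[nat_lit 0x1da3323e0963817a9427919aa42c54], [nat_lit 174080, nat_lit 171520, nat_lit 166400, nat_lit 160128, nat_lit 159488, nat_lit 155296, nat_lit 148208, nat_lit 145768, nat_lit 139392, nat_lit 137130, nat_lit 132031, nat_lit 1842, nat_lit 5084, nat_lit 10088, nat_lit 13920, nat_lit 16928, nat_lit 20736, nat_lit 25344, nat_lit 29184, nat_lit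 41224, nat_lit 36936, nat_lit 33989, nat_lit 28998, nat_lit 24594, nat_lit 20509, nat_lit 16420, nat_lit 8194, nat_lit 4100, nat_lit 16]⟩⟩⟩⟩,
  .edge ⟨[nat_lit 0, nat_lit 86, nat_lit 62], [nat_lit 0, nat_lit 34, nat_lit 67], ⟨[nat_lit 0x69e6c78ecbad20548aee221520c4c0], [nat_lit 168960, nat_lit 164864, nat_lit 159872, nat_lit 155712, nat_lit 152352, nat_lit 147696, nat_lit 147184, nat_lit 139780, nat_lit 136118, nat_lit 132610, nat_lit 8, nat_lit 5120, nat_lit 10040, nat_lit 13312, nat_lit 17344, nat_lit 21312, nat_lit 25728, nat_lit 29696, nat_lit 37888, nat_lit 41224, nat_lit 36921, nat_lit 33932, nat_lit 29015, nat_lit 24705, nat_lit 21015, nat_lit 16458, nat_lit 12290, nat_lit 8226, nat_lit 4104]⟩⟩ ⟨(nat_lit 2), ⟨[nat_lit 171, nat_lit 213, nat_lit 215, nat_lit 213, nat_lit 212], [], (nat_lit 386), ⟨[nat_lit 34, nat_lit 54], [nat_lit 0, nat_lit 20, nat_lit 69], ⟨[nat_lit 0x3130bbc8ea950b6a8733d02235a51], [nat_lit 174080, nat_lit 171520,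 nat_lit 166144, nat_lit 160256, nat_lit 159040, nat_lit 155392, nat_lit 148864, nat_lit 147248, nat_lit 139340, nat_lit 136460, nat_lit 132922, nat_lit 184, nat_lit 8704, nat_lit 13152, nat_lit 18336, nat_lit 22464, nat_lit 25856, nat_lit 29184, nat_lit 34304, nat_lit 37888, nat_lit 41192, nat_lit 37240, nat_lit 33319, nat_lit 29794, nat_lit 24835, nat_lit 21008, nat_lit 16448, nat_lit 8209, nat_lit 4224, nat_lit 4]⟩⟩⟩, ⟨[nat_lit 143, nat_lit 145, nat_lit 141, nat_lit 141, nat_lit 139], [], (nat_lit 852), ⟨[nat_lit 22, nat_lit 90], [nat_lit 16, nat_lit 64], ⟨[nat_lit 0x4a8b219033641c7a89eb6d8088d2e6], [nat_lit 165632, nat_lit 157248, nat_lit 152832, nat_lit 150160, nat_lit 144664, nat_lit 139280, nat_lit 135934, nat_lit 132878, nat_lit 116, nat_lit 5688, nat_lit 8272, nat_lit 13360, nat_lit 16640, nat_lit 24960, nat_lit 30208, nat_lit 33792, nat_lit 37888, nat_lit 41405, nat_lit 37146, nat_lit 32882, nat_lit 29704, nat_lit 24865, nat_lit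 20613, nat_lit 12802, nat_lit 8321, nat_lit 4160, nat_lit 2]⟩⟩⟩⟩]

theorem dcMr427 : Rng dcM 427 429 := Rng.of (l := dcMc427) (by decide +kernel)

def dcMc429 : List Cert := [.edge ⟨[nat_lit 78, nat_lit 58], [nat_lit 45, nat_lit 46], ⟨[nat_lit 0x25035882a24a076d6ee65a8f8ccc5], [nat_lit 168960, nat_lit 164096, nat_lit 157056, nat_lit 151776, nat_lit 149456, nat_lit 144800, nat_lit 143156, nat_lit 135732, nat_lit 131752, nat_lit 718, nat_lit 5120, nat_lit 8320, nat_lit 13664, nat_lit 16928, nat_lit 21952, nat_lit 26496, nat_lit 29184, nat_lit 34304, nat_lit 37888, nat_lit 41427, nat_lit 36998, nat_lit 32912, nat_lit 28772, nat_lit 24765, nat_lit 20492, nat_lit 16453, nat_lit 12304, nat_lit 8193, nat_lit 4608, nat_lit 4]⟩⟩ ⟨(nat_lit 2), ⟨[nat_lit 216, nat_lit 214, nat_lit 214, nat_lit 173, nat_lit 170], [], (nat_lit 415), ⟨[nat_lit 0, nat_lit 37, nat_lit 92], [nat_lit 0, nat_lit 81, nat_lit 54], ⟨[nat_lit 0xb14060cef2544ee1b595792085a454],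 [nat_lit 173056, nat_lit 169984, nat_lit 164864, nat_lit 160384, nat_lit 159488, nat_lit 152864, nat_lit 148736, nat_lit 147168, nat_lit 142944, nat_lit 137388, nat_lit 133598, nat_lit 622, nat_lit 5568, nat_lit 8224, nat_lit 13872, nat_lit 17280, nat_lit 21504, nat_lit 28928, nat_lit 33792, nat_lit 41649, nat_lit 38011, nat_lit 32828, nat_lit 29227, nat_lit 24704, nat_lit 20481, nat_lit 16653, nat_lit 12291, nat_lit 8195, nat_lit 4100]⟩⟩⟩, ⟨[nat_lit 216, nat_lit 171, nat_lit 172, nat_lit 219, nat_lit 172], [], (nat_lit 854), ⟨[nat_lit 0, nat_lit 77, nat_lit 89], [nat_lit 0, nat_lit 3, nat_lit 91], ⟨[nat_lit 0xba06a72cd12c12f3d48104e54132cd], [nat_lit 173056, nat_lit 171008, nat_lit 165888, nat_lit 161792, nat_lit 158720, nat_lit 152160, nat_lit 150272, nat_lit 146400, nat_lit 140680, nat_lit 138830, nat_lit 132320, nat_lit 566, nat_lit 4232, nat_lit 8928, nat_lit 12896, nat_lit 17248, nat_lit 22464, nat_lit 25984, nat_lit 30208, nat_lit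 34304, nat_lit 37888, nat_lit 41675, nat_lit 36978, nat_lit 32856, nat_lit 29753, nat_lit 24626, nat_lit 20503, nat_lit 16386, nat_lit 12550, nat_lit 4105]⟩⟩⟩⟩,
  .edge ⟨[nat_lit 79, nat_lit 61], [nat_lit 0, nat_lit 2, nat_lit 55], ⟨[nat_lit 0x41c575bd53036412b09049a838d5d6], [nat_lit 174080, nat_lit 169984, nat_lit 166656, nat_lit 161408, nat_lit 157696, nat_lit 155072, nat_lit 148112, nat_lit 145664, nat_lit 140784, nat_lit 136520, nat_lit 132911, nat_lit 1488, nat_lit 5252, nat_lit 8408, nat_lit 13664, nat_lit 16736, nat_lit 22336, nat_lit 29952, nat_lit 34304, nat_lit 41480, nat_lit 37271, nat_lit 33503, nat_lit 29311, nat_lit 24763, nat_lit 20501, nat_lit 16421, nat_lit 8195, nat_lit 4101]⟩⟩ ⟨(nat_lit 2), ⟨[nat_lit 214, nat_lit 216, nat_lit 219], [], (nat_lit 396), ⟨[nat_lit 0, nat_lit 1, nat_lit 91], [nat_lit 0, nat_lit 1, nat_lit 61], ⟨[nat_lit 0xa89659b2d788c0e450275492f69890], [nat_lit 168960, nat_lit 166144, nat_lit 160896,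 nat_lit 156800, nat_lit 154048, nat_lit 151424, nat_lit 145640, nat_lit 143296, nat_lit 137970, nat_lit 132121, nat_lit 428, nat_lit 4396, nat_lit 8216, nat_lit 14112, nat_lit 16448, nat_lit 20992, nat_lit 24704, nat_lit 29440, nat_lit 34304, nat_lit 41426, nat_lit 37375, nat_lit 32981, nat_lit 28696, nat_lit 24619, nat_lit 20569, nat_lit 16394, nat_lit 12305, nat_lit 8451, nat_lit 8]⟩⟩⟩, ⟨[nat_lit 73, nat_lit 73, nat_lit 48, nat_lit 69, nat_lit 69, nat_lit 49], [], (nat_lit 818), ⟨[nat_lit 0, nat_lit 83, nat_lit 46], [nat_lit 30, nat_lit 62], ⟨[nat_lit 0x52c264ba561b1a47c2a828a3305cf4], [nat_lit 175104, nat_lit 170496, nat_lit 166912, nat_lit 162688, nat_lit 157376, nat_lit 154688, nat_lit 149776, nat_lit 145016, nat_lit 141896, nat_lit 137146, nat_lit 132936, nat_lit 1214, nat_lit 4328, nat_lit 10128, nat_lit 12976, nat_lit 18112, nat_lit 21504, nat_lit 26496, nat_lit 29696, nat_lit 33792, nat_lit 41712, nat_lit 38100, nat_lit 32804,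 nat_lit 29780, nat_lit 24619, nat_lit 20484, nat_lit 16389, nat_lit 12352, nat_lit 8195, nat_lit 4100, nat_lit 2]⟩⟩⟩⟩]

theorem dcMr429 : Rng dcM 429 431 := Rng.of (l := dcMc429) (by decide +kernel)

def dcMc431 : List Cert := [.edge ⟨[nat_lit 0, nat_lit 62], [nat_lit 0, nat_lit 19, nat_lit 56], ⟨[nat_lit 0x4d1162c0f134a640306f556eb685c2], [nat_lit 173056, nat_lit 168448, nat_lit 160128, nat_lit 159232, nat_lit 152128, nat_lit 148112, nat_lit 145368, nat_lit 141100, nat_lit 137148, nat_lit 132903, nat_lit 488, nat_lit 6068, nat_lit 10224, nat_lit 13408, nat_lit 18336, nat_lit 21632, nat_lit 25088, nat_lit 30208, nat_lit 37888, nat_lit 41967, nat_lit 38252, nat_lit 32840, nat_lit 29262, nat_lit 20497, nat_lit 16398, nat_lit 12307, nat_lit 8194, nat_lit 4100, nat_lit 8]⟩⟩ ⟨(nat_lit 2), ⟨[nat_lit 259, nat_lit 261, nat_lit 265], [], (nat_lit 485), ⟨[nat_lit 0, nat_lit 36, nat_lit 89], [nat_lit 26, nat_lit 92], ⟨[nat_lit 0x28d628b8153ce09512f40b6d2331e8],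 [nat_lit 174080, nat_lit 171520, nat_lit 167680, nat_lit 162176, nat_lit 156288, nat_lit 154432, nat_lit 150704, nat_lit 143912, nat_lit 141340, nat_lit 135426, nat_lit 132582, nat_lit 2018, nat_lit 5716, nat_lit 8408, nat_lit 13152, nat_lit 17312, nat_lit 20544, nat_lit 24832, nat_lit 33792, nat_lit 37888, nat_lit 41111, nat_lit 36867, nat_lit 32876, nat_lit 29740, nat_lit 24865, nat_lit 20619, nat_lit 16428, nat_lit 12292, nat_lit 8194, nat_lit 4100, nat_lit 64]⟩⟩⟩, ⟨[nat_lit 170, nat_lit 215, nat_lit 217, nat_lit 215, nat_lit 172], [], (nat_lit 860), ⟨[nat_lit 2, nat_lit 48], [nat_lit 0, nat_lit 26, nat_lit 61], ⟨[nat_lit 0x7c50e2d86dab0c0a5d330897282887], [nat_lit 171008, nat_lit 165632, nat_lit 162176, nat_lit 156928, nat_lit 154656, nat_lit 151264, nat_lit 145568, nat_lit 141028, nat_lit 135778, nat_lit 134101, nat_lit 1166, nat_lit 5668, nat_lit 9096, nat_lit 13424, nat_lit 21696, nat_lit 29184, nat_lit 34304, nat_lit 41263, nat_lit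 37035, nat_lit 34045, nat_lit 28709, nat_lit 24620, nat_lit 20563, nat_lit 16387, nat_lit 12324, nat_lit 8194, nat_lit 4097, nat_lit 2]⟩⟩⟩⟩,
  .edge ⟨[nat_lit 0, nat_lit 73, nat_lit 63], [nat_lit 0, nat_lit 33, nat_lit 70], ⟨[nat_lit 0x54e30a0dc57dc0642572092ad11d96], [nat_lit 173056, nat_lit 168960, nat_lit 159872, nat_lit 157504, nat_lit 148480, nat_lit 147296, nat_lit 141000, nat_lit 135310, nat_lit 131092, nat_lit 688, nat_lit 4404, nat_lit 10008, nat_lit 13136, nat_lit 18176, nat_lit 20800, nat_lit 25728, nat_lit 29696, nat_lit 37888, nat_lit 41928, nat_lit 38060, nat_lit 33468, nat_lit 29039, nat_lit 24600, nat_lit 20623, nat_lit 16397, nat_lit 12305, nat_lit 8203]⟩⟩ ⟨(nat_lit 2), ⟨[nat_lit 265, nat_lit 225, nat_lit 260, nat_lit 223], [], (nat_lit 483), ⟨[nat_lit 0, nat_lit 25, nat_lit 66], [nat_lit 3, nat_lit 90], ⟨[nat_lit 0x2b861236953a96f919919dc484c016], [nat_lit 168448, nat_lit 166400, nat_lit 161920, nat_lit 159296, nat_lit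 155072, nat_lit 148192, nat_lit 146320, nat_lit 142332, nat_lit 136704, nat_lit 133537, nat_lit 760, nat_lit 5948, nat_lit 9040, nat_lit 12976, nat_lit 18368, nat_lit 22144, nat_lit 24832, nat_lit 29952, nat_lit 33280, nat_lit 41128, nat_lit 37093, nat_lit 32837, nat_lit 28753, nat_lit 24626, nat_lit 20553, nat_lit 16430, nat_lit 12295, nat_lit 8193, nat_lit 4105, nat_lit 4]⟩⟩⟩, ⟨[nat_lit 217, nat_lit 214, nat_lit 171, nat_lit 212], [], (nat_lit 860), ⟨[nat_lit 57], [nat_lit 28, nat_lit 51], ⟨[nat_lit 0xad0e453d6d00672b9ac54258e18a11], [nat_lit 175104, nat_lit 170496, nat_lit 166656, nat_lit 160000, nat_lit 158976, nat_lit 154208, nat_lit 147712, nat_lit 147040, nat_lit 140844, nat_lit 137084, nat_lit 131292, nat_lit 1004, nat_lit 4476, nat_lit 10088, nat_lit 12304, nat_lit 18336, nat_lit 22336, nat_lit 25216, nat_lit 33792, nat_lit 41778, nat_lit 37222, nat_lit 33470, nat_lit 28698, nat_lit 24601, nat_lit 20488, nat_lit 16388, nat_lit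 12320, nat_lit 4224, nat_lit 64]⟩⟩⟩⟩]

theorem dcMr431 : Rng dcM 431 433 := Rng.of (l := dcMc431) (by decide +kernel)

def dcMc433 : List Cert := [.edge ⟨[nat_lit 28, nat_lit 60], [nat_lit 38, nat_lit 69], ⟨[nat_lit 0xa46cd2aaa2185903cdc47c92b022e6], [nat_lit 175104, nat_lit 169984, nat_lit 167168, nat_lit 161536, nat_lit 157248, nat_lit 152544, nat_lit 151344, nat_lit 143624, nat_lit 139324, nat_lit 137362, nat_lit 133633, nat_lit 786, nat_lit 4964, nat_lit 8560, nat_lit 12480, nat_lit 16448, nat_lit 24832, nat_lit 29184, nat_lit 33792, nat_lit 37888, nat_lit 40961, nat_lit 37296, nat_lit 32849, nat_lit 28707, nat_lit 24868, nat_lit 20559, nat_lit 16421, nat_lit 12305, nat_lit 8203]⟩⟩ ⟨(nat_lit 2), ⟨[nat_lit 264, nat_lit 263, nat_lit 223, nat_lit 225, nat_lit 224, nat_lit 260], [], (nat_lit 516), ⟨[nat_lit 15, nat_lit 63], [nat_lit 41, nat_lit 62], ⟨[nat_lit 0x3484559eee0a608a4c75b31440362f], [nat_lit 175104, nat_lit 168960, nat_lit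 164864, nat_lit 163456, nat_lit 156992, nat_lit 152832, nat_lit 151232, nat_lit 145592, nat_lit 142008, nat_lit 138418, nat_lit 133625, nat_lit 1014, nat_lit 4120, nat_lit 8680, nat_lit 13664, nat_lit 16896, nat_lit 20864, nat_lit 24832, nat_lit 29184, nat_lit 33280, nat_lit 41511, nat_lit 36978, nat_lit 32916, nat_lit 28772, nat_lit 24721, nat_lit 20572, nat_lit 16393, nat_lit 12294, nat_lit 8200, nat_lit 4101]⟩⟩⟩, ⟨[nat_lit 224, nat_lit 259, nat_lit 264, nat_lit 260], [], (nat_lit 862), ⟨[nat_lit 45, nat_lit 56], [nat_lit 0, nat_lit 82, nat_lit 90], ⟨[nat_lit 0x5c0671153362154746566803521aef], [nat_lit 173056, nat_lit 168448, nat_lit 165632, nat_lit 163072, nat_lit 157632, nat_lit 152576, nat_lit 147488, nat_lit 144200, nat_lit 141108, nat_lit 135210, nat_lit 131925, nat_lit 796, nat_lit 4756, nat_lit 8464, nat_lit 14192, nat_lit 16512, nat_lit 21504, nat_lit 25216, nat_lit 30464, nat_lit 33280, nat_lit 41213, nat_lit 37074, nat_lit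 32949, nat_lit 28979, nat_lit 24599, nat_lit 20754, nat_lit 16395, nat_lit 12307, nat_lit 8227, nat_lit 4112, nat_lit 2]⟩⟩⟩⟩,
  .edge tw0 ⟨(nat_lit 1), ⟨[], [nat_lit 355, nat_lit 352, nat_lit 351], (nat_lit 755), ⟨[nat_lit 0, nat_lit 79, nat_lit 90], [nat_lit 8, nat_lit 60], ⟨[nat_lit 0x28123132f2706d089a68a1d55791ab], [nat_lit 173056, nat_lit 167424, nat_lit 160640, nat_lit 155904, nat_lit 155456, nat_lit 151232, nat_lit 146056, nat_lit 142164, nat_lit 137318, nat_lit 131654, nat_lit 566, nat_lit 5064, nat_lit 8928, nat_lit 14192, nat_lit 17952, nat_lit 22336, nat_lit 24832, nat_lit 30208, nat_lit 41679, nat_lit 37293, nat_lit 32886, nat_lit 28723, nat_lit 24630, nat_lit 20494, nat_lit 16453, nat_lit 12294, nat_lit 8194, nat_lit 4101, nat_lit 2]⟩⟩⟩, ⟨[], [], (nat_lit 854), ⟨[nat_lit 3, nat_lit 46], [nat_lit 0, nat_lit 30, nat_lit 92], ⟨[nat_lit 0x7b46b452e1aba46024a49b0f682a22], [nat_lit 173056, nat_lit 168960, nat_lit 164352, nat_lit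 161152, nat_lit 155840, nat_lit 154944, nat_lit 148464, nat_lit 143648, nat_lit 140936, nat_lit 135322, nat_lit 132022, nat_lit 1814, nat_lit 6060, nat_lit 8224, nat_lit 14272, nat_lit 17984, nat_lit 20992, nat_lit 25088, nat_lit 29696, nat_lit 33792, nat_lit 37888, nat_lit 41202, nat_lit 37135, nat_lit 33407, nat_lit 29723, nat_lit 24622, nat_lit 20502, nat_lit 16421, nat_lit 12358, nat_lit 8193, nat_lit 4113, nat_lit 4]⟩⟩⟩⟩]

theorem dcMr433 : Rng dcM 433 435 := Rng.of (l := dcMc433) (by decide +kernel)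

def dcMc435 : List Cert := [.edge ⟨[nat_lit 0, nat_lit 73, nat_lit 94], [nat_lit 22, nat_lit 59], ⟨[nat_lit 0x22ed470ab2430ad08ce93460a03ef3], [nat_lit 173056, nat_lit 169472, nat_lit 164608, nat_lit 161152, nat_lit 157248, nat_lit 152576, nat_lit 148960, nat_lit 144168, nat_lit 142648, nat_lit 136882, nat_lit 132246, nat_lit 586, nat_lit 5688, nat_lit 10088, nat_lit 13072, nat_lit 16928, nat_lit 22080, nat_lit 26112, nat_lit 33280, nat_lit 37888, nat_lit 41564, nat_lit 37317, nat_lit 33391, nat_lit 28982, nat_lit 24604, nat_lit 20508, nat_lit 16389, nat_lit 12295, nat_lit 4097]⟩⟩ ⟨(nat_lit 2), ⟨[nat_lit 353, nat_lit 354, nat_lit 287, nat_lit 352, nat_lit 351, nat_lit 287], [], (nat_lit 680), ⟨[nat_lit 0, nat_lit 7, nat_lit 50], [nat_lit 0, nat_lit 86, nat_lit 52], ⟨[nat_lit 0x9b8c43dd00196cb8568f909a18a92c], [nat_lit 174080, nat_lit 164096, nat_lit 160768, nat_lit 158336, nat_lit 153792, nat_lit 151088, nat_lit 143944, nat_lit 141612,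 nat_lit 135686, nat_lit 134952, nat_lit 1354, nat_lit 6044, nat_lit 9664, nat_lit 12368, nat_lit 16896, nat_lit 21632, nat_lit 25216, nat_lit 29696, nat_lit 34304, nat_lit 37888, nat_lit 41831, nat_lit 37956, nat_lit 32923, nat_lit 29011, nat_lit 24764, nat_lit 20499, nat_lit 16430, nat_lit 12310, nat_lit 8211, nat_lit 4101]⟩⟩⟩, ⟨[nat_lit 265, nat_lit 259, nat_lit 259, nat_lit 265, nat_lit 223], [], (nat_lit 864), ⟨[nat_lit 0, nat_lit 44, nat_lit 61], [nat_lit 0, nat_lit 85, nat_lit 54], ⟨[nat_lit 0x83465999e1ac532a01025588772eec], [nat_lit 175104, nat_lit 168448, nat_lit 164096, nat_lit 160384, nat_lit 156096, nat_lit 153056, nat_lit 148032, nat_lit 144840, nat_lit 141044, nat_lit 135872, nat_lit 133070, nat_lit 1354, nat_lit 5436, nat_lit 8928, nat_lit 12928, nat_lit 18208, nat_lit 21184, nat_lit 25856, nat_lit 29696, nat_lit 34304, nat_lit 41839, nat_lit 37959, nat_lit 33292, nat_lit 28784, nat_lit 24718, nat_lit 20574, nat_lit 16389,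 nat_lit 12354, nat_lit 8194, nat_lit 4097, nat_lit 2]⟩⟩⟩⟩,
  .edge ⟨[nat_lit 0, nat_lit 35, nat_lit 49], [nat_lit 33, nat_lit 58], ⟨[nat_lit 0x7010f55c36395229c06b3562c93494], [nat_lit 175104, nat_lit 168448, nat_lit 164096, nat_lit 160640, nat_lit 157952, nat_lit 154208, nat_lit 151424, nat_lit 143856, nat_lit 142980, nat_lit 135632, nat_lit 133211, nat_lit 1108, nat_lit 4396, nat_lit 9040, nat_lit 14176, nat_lit 16416, nat_lit 25216, nat_lit 29440, nat_lit 34304, nat_lit 41594, nat_lit 37151, nat_lit 33432, nat_lit 28966, nat_lit 24604, nat_lit 20489, nat_lit 16387, nat_lit 12320, nat_lit 8256, nat_lit 4112]⟩⟩ ⟨(nat_lit 2), ⟨[nat_lit 287, nat_lit 352, nat_lit 288, nat_lit 285, nat_lit 354, nat_lit 351], [], (nat_lit 656), ⟨[nat_lit 34, nat_lit 90], [nat_lit 0, nat_lit 23, nat_lit 59], ⟨[nat_lit 0xaa6f62be200cdc4640e3119b25a914], [nat_lit 175104, nat_lit 169984, nat_lit 167680, nat_lit 160512, nat_lit 158272, nat_lit 153600, nat_lit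 147488, nat_lit 145864, nat_lit 139268, nat_lit 136994, nat_lit 131369, nat_lit 1842, nat_lit 4824, nat_lit 9248, nat_lit 13920, nat_lit 18240, nat_lit 25984, nat_lit 29440, nat_lit 41224, nat_lit 37128, nat_lit 32992, nat_lit 29007, nat_lit 24867, nat_lit 20628, nat_lit 16419, nat_lit 12290, nat_lit 8322, nat_lit 4104, nat_lit 4]⟩⟩⟩, ⟨[nat_lit 224, nat_lit 263, nat_lit 225, nat_lit 265], [], (nat_lit 862), ⟨[nat_lit 0, nat_lit 40, nat_lit 46], [nat_lit 0, nat_lit 34, nat_lit 49], ⟨[nat_lit 0x85945a5c0c3566993c3142c4e20ced], [nat_lit 174080, nat_lit 168448, nat_lit 164864, nat_lit 160640, nat_lit 158592, nat_lit 154560, nat_lit 151232, nat_lit 144800, nat_lit 143052, nat_lit 135870, nat_lit 133426, nat_lit 484, nat_lit 4328, nat_lit 10168, nat_lit 12304, nat_lit 16512, nat_lit 22080, nat_lit 24832, nat_lit 29952, nat_lit 34304, nat_lit 41187, nat_lit 36956, nat_lit 32785, nat_lit 28797, nat_lit 24722, nat_lit 20574, nat_lit 16428, nat_lit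 12308, nat_lit 8208, nat_lit 4]⟩⟩⟩⟩]

theorem dcMr435 : Rng dcM 435 437 := Rng.of (l := dcMc435) (by decide +kernel)

def dcMc437 : List Cert := [.edge ⟨[nat_lit 0, nat_lit 1, nat_lit 59], [nat_lit 41, nat_lit 56], ⟨[nat_lit 0xbc80182aa9a322f1b964409a735a65], [nat_lit 175104, nat_lit 170496, nat_lit 167168, nat_lit 161024, nat_lit 155712, nat_lit 152608, nat_lit 151296, nat_lit 144392, nat_lit 141164, nat_lit 137282, nat_lit 133408, nat_lit 1938, nat_lit 4340, nat_lit 9560, nat_lit 12704, nat_lit 18112, nat_lit 22464, nat_lit 25728, nat_lit 29696, nat_lit 33280, nat_lit 41981, nat_lit 38285, nat_lit 33836, nat_lit 28778, nat_lit 24729, nat_lit 20572, nat_lit 16388, nat_lit 12326, nat_lit 8194, nat_lit 4100]⟩⟩ ⟨(nat_lit 2), ⟨[nat_lit 355, nat_lit 285, nat_lit 285, nat_lit 357, nat_lit 286], [], (nat_lit 670), ⟨[nat_lit 0, nat_lit 17, nat_lit 66], [nat_lit 0, nat_lit 35, nat_lit 64], ⟨[nat_lit 0x5a9af04e41844623d2a472189b94d6], [nat_lit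 171008, nat_lit 160000, nat_lit 158656, nat_lit 152864, nat_lit 147872, nat_lit 145408, nat_lit 142136, nat_lit 137804, nat_lit 134229, nat_lit 1720, nat_lit 4340, nat_lit 8776, nat_lit 14304, nat_lit 16672, nat_lit 21696, nat_lit 25088, nat_lit 29696, nat_lit 34304, nat_lit 37888, nat_lit 41731, nat_lit 38144, nat_lit 33011, nat_lit 28777, nat_lit 24724, nat_lit 20566, nat_lit 16385, nat_lit 12325, nat_lit 8201, nat_lit 4097, nat_lit 2]⟩⟩⟩, ⟨[nat_lit 355, nat_lit 355, nat_lit 355], [], (nat_lit 870), ⟨[nat_lit 15, nat_lit 63], [nat_lit 72, nat_lit 47], ⟨[nat_lit 0x7b88a119602a696606b23c1111cdb7], [nat_lit 175104, nat_lit 168960, nat_lit 164096, nat_lit 161536, nat_lit 156352, nat_lit 152736, nat_lit 149008, nat_lit 144752, nat_lit 141208, nat_lit 136372, nat_lit 131302, nat_lit 116, nat_lit 5024, nat_lit 9560, nat_lit 13312, nat_lit 18304, nat_lit 21248, nat_lit 25216, nat_lit 29440, nat_lit 37888, nat_lit 41408, nat_lit 36986, nat_lit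 33984, nat_lit 29760, nat_lit 25111, nat_lit 20562, nat_lit 16431, nat_lit 8224, nat_lit 4100]⟩⟩⟩⟩,
  .edge tw0 ⟨(nat_lit 1), ⟨[], [nat_lit 284, nat_lit 285, nat_lit 288], (nat_lit 729), ⟨[nat_lit 0, nat_lit 45], [nat_lit 42, nat_lit 48], ⟨[nat_lit 0x916cf0c151a205730ce96d664601cb], [nat_lit 164096, nat_lit 160896, nat_lit 159616, nat_lit 151680, nat_lit 149408, nat_lit 144888, nat_lit 139660, nat_lit 135756, nat_lit 131674, nat_lit 986, nat_lit 5228, nat_lit 10224, nat_lit 12848, nat_lit 16448, nat_lit 21312, nat_lit 25088, nat_lit 29696, nat_lit 34304, nat_lit 37888, nat_lit 41801, nat_lit 37305, nat_lit 32922, nat_lit 29055, nat_lit 20637, nat_lit 12322, nat_lit 8195, nat_lit 4101, nat_lit 4]⟩⟩⟩, ⟨[], [], (nat_lit 848), ⟨[nat_lit 72, nat_lit 48], [nat_lit 16, nat_lit 92], ⟨[nat_lit 0x6292e24cd105aa21dc346ade891e05], [nat_lit 173056, nat_lit 170496, nat_lit 160640, nat_lit 158656, nat_lit 153184, nat_lit 147712, nat_lit 146768, nat_lit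 142668, nat_lit 137570, nat_lit 134158, nat_lit 718, nat_lit 5016, nat_lit 8672, nat_lit 14176, nat_lit 18240, nat_lit 20736, nat_lit 25088, nat_lit 37888, nat_lit 41667, nat_lit 37954, nat_lit 32929, nat_lit 28681, nat_lit 25602, nat_lit 20756, nat_lit 16420, nat_lit 12416, nat_lit 8225, nat_lit 5120]⟩⟩⟩⟩]

theorem dcMr437 : Rng dcM 437 439 := Rng.of (l := dcMc437) (by decide +kernel)

theorem dcMR2 : Rng dcM 324 439 := (dcMr324.trans (dcMr325.trans (dcMr326.trans (dcMr328.trans (dcMr329.trans (dcMr330.trans (dcMr331.trans (dcMr332.trans (dcMr333.trans (dcMr334.trans (dcMr335.trans (dcMr336.trans (dcMr337.trans (dcMr338.trans (dcMr339.trans (dcMr340.trans (dcMr341.trans (dcMr342.trans (dcMr344.trans (dcMr345.trans (dcMr346.trans (dcMr347.trans (dcMr348.trans (dcMr349.trans (dcMr350.trans (dcMr353.trans (dcMr359.trans (dcMr360.trans (dcMr361.trans (dcMr363.trans (dcMr365.trans (dcMr367.trans (dcMr369.trans (dcMr371.trans (dcMr372.trans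 (dcMr373.trans (dcMr375.trans (dcMr377.trans (dcMr379.trans (dcMr381.trans (dcMr383.trans (dcMr385.trans (dcMr387.trans (dcMr389.trans (dcMr391.trans (dcMr393.trans (dcMr395.trans (dcMr396.trans (dcMr397.trans (dcMr399.trans (dcMr401.trans (dcMr403.trans (dcMr404.trans (dcMr406.trans (dcMr408.trans (dcMr411.trans (dcMr413.trans (dcMr417.trans (dcMr423.trans (dcMr425.trans (dcMr427.trans (dcMr429.trans (dcMr431.trans (dcMr433.trans (dcMr435.trans dcMr437)))))))))))))))))))))))))))))))))))))))))))))))))))))))))))))))))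

end

end CF.Mon
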