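import Cfsg.Agent.Mon.DcMC

set_option autoImplicit false
set_option maxRecDepth 100000

namespace CF.Mon

open CF.Comp

noncomputable section

def dcMc439 : List Cert := [.edge ⟨[nat_lit 0, nat_lit 22, nat_lit 47], [nat_lit 30, nat_lit 46], ⟨[nat_lit 0x68c2583e66ad1c44a187502f158ad2], [nat_lit 175104, nat_lit 170496, nat_lit 165888, nat_lit 160128, nat_lit 158336, nat_lit 154752, nat_lit 147824, nat_lit 147344, nat_lit 140260, nat_lit 136686, nat_lit 131755, nat_lit 696, nat_lit 5080, nat_lit 10088, nat_lit 14176, nat_lit 16512, nat_lit 20736, nat_lit 34304, nat_lit 37888, nat_lit 41809, nat_lit 38174, nat_lit 33870, nat_lit 28717, nat_lit 25095, nat_lit 20613, nat_lit 16647, nat_lit 12290, nat_lit 4105, nat_lit 2]⟩⟩ ⟨(nat_lit 2), ⟨[nat_lit 353, nat_lit 285, nat_lit 354, nat_lit 353, nat_lit 357, nat_lit 351], [], (nat_lit 682), ⟨[nat_lit 12, nat_lit 93], [nat_lit 7, nat_lit 63], ⟨[nat_lit 0x2ac756cd48b51f070222249870dcc9],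 [nat_lit 173056, nat_lit 170496, nat_lit 164352, nat_lit 160256, nat_lit 158208, nat_lit 148992, nat_lit 147288, nat_lit 141996, nat_lit 137318, nat_lit 133166, nat_lit 1928, nat_lit 4548, nat_lit 10232, nat_lit 12848, nat_lit 18112, nat_lit 22272, nat_lit 25472, nat_lit 34304, nat_lit 40963, nat_lit 37284, nat_lit 33515, nat_lit 29293, nat_lit 24714, nat_lit 21008, nat_lit 12293, nat_lit 8194, nat_lit 4097]⟩⟩⟩, ⟨[nat_lit 264, nat_lit 262, nat_lit 265, nat_lit 222], [], (nat_lit 862), ⟨[nat_lit 34, nat_lit 54], [nat_lit 24, nat_lit 48], ⟨[nat_lit 0x6aaab9321613ae134520790f419668], [nat_lit 173056, nat_lit 166144, nat_lit 160640, nat_lit 156352, nat_lit 154016, nat_lit 150352, nat_lit 146680, nat_lit 141556, nat_lit 137640, nat_lit 131437, nat_lit 846, nat_lit 4156, nat_lit 9056, nat_lit 12544, nat_lit 18400, nat_lit 20608, nat_lit 24960, nat_lit 28928, nat_lit 33792, nat_lit 41714, nat_lit 38192, nat_lit 33363, nat_lit 28723,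 nat_lit 24585, nat_lit 20631, nat_lit 16513, nat_lit 12290, nat_lit 8226, nat_lit 4097, nat_lit 2]⟩⟩⟩⟩,
  .edge ⟨[nat_lit 0, nat_lit 79, nat_lit 91], [nat_lit 28, nat_lit 52], ⟨[nat_lit 0x2c6ac7409694d401a2f449c467ada1], [nat_lit 169472, nat_lit 165376, nat_lit 160512, nat_lit 158208, nat_lit 152736, nat_lit 148304, nat_lit 144256, nat_lit 139748, nat_lit 135228, nat_lit 131589, nat_lit 494, nat_lit 4160, nat_lit 8928, nat_lit 14112, nat_lit 16544, nat_lit 22208, nat_lit 25856, nat_lit 30464, nat_lit 37888, nat_lit 41617, nat_lit 36912, nat_lit 32928, nat_lit 28996, nat_lit 24755, nat_lit 20634, nat_lit 16430, nat_lit 8224, nat_lit 4097, nat_lit 2]⟩⟩ ⟨(nat_lit 2), ⟨[nat_lit 355, nat_lit 355, nat_lit 351, nat_lit 356], [nat_lit 353, nat_lit 357, nat_lit 285, nat_lit 286, nat_lit 284], (nat_lit 743), ⟨[nat_lit 0, nat_lit 27, nat_lit 56], [nat_lit 0, nat_lit 80, nat_lit 90], ⟨[nat_lit 0x3923365df54a0412c8d0736965a860], [nat_lit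 175104, nat_lit 168448, nat_lit 165120, nat_lit 160000, nat_lit 158272, nat_lit 155328, nat_lit 149504, nat_lit 143640, nat_lit 143312, nat_lit 135920, nat_lit 133961, nat_lit 8, nat_lit 5904, nat_lit 9328, nat_lit 13936, nat_lit 17280, nat_lit 22144, nat_lit 25728, nat_lit 33280, nat_lit 37888, nat_lit 41960, nat_lit 37221, nat_lit 32829, nat_lit 29749, nat_lit 24630, nat_lit 20556, nat_lit 16422, nat_lit 12307, nat_lit 8194, nat_lit 4101, nat_lit 2]⟩⟩⟩, ⟨[nat_lit 141, nat_lit 143, nat_lit 145, nat_lit 150], [], (nat_lit 852), ⟨[nat_lit 78, nat_lit 59], [nat_lit 0, nat_lit 80, nat_lit 90], ⟨[nat_lit 0x5d64461c6515a8e8be0099aea0a5a8], [nat_lit 174080, nat_lit 168448, nat_lit 165120, nat_lit 161920, nat_lit 156672, nat_lit 151584, nat_lit 150528, nat_lit 146680, nat_lit 143072, nat_lit 137490, nat_lit 133542, nat_lit 1438, nat_lit 5488, nat_lit 8624, nat_lit 13888, nat_lit 17504, nat_lit 21824, nat_lit 25344, nat_lit 28928,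 nat_lit 34304, nat_lit 37888, nat_lit 41729, nat_lit 38216, nat_lit 32830, nat_lit 28794, nat_lit 24763, nat_lit 20497, nat_lit 16396, nat_lit 12311, nat_lit 8195]⟩⟩⟩⟩]

theorem dcMr439 : Rng dcM 439 441 := Rng.of (l := dcMc439) (by decide +kernel)

def dcMc441 : List Cert := [.edge tw0 ⟨(nat_lit 1), ⟨[nat_lit 288, nat_lit 287, nat_lit 356, nat_lit 354], [], (nat_lit 605), ⟨[nat_lit 22, nat_lit 65], [nat_lit 0, nat_lit 6, nat_lit 55], ⟨[nat_lit 0xaddb1a1d214494f6400234dc525963], [nat_lit 174080, nat_lit 165376, nat_lit 163200, nat_lit 157440, nat_lit 152352, nat_lit 151072, nat_lit 146008, nat_lit 141852, nat_lit 138316, nat_lit 133726, nat_lit 1174, nat_lit 5072, nat_lit 9712, nat_lit 12304, nat_lit 16512, nat_lit 22336, nat_lit 25472, nat_lit 29440, nat_lit 41680, nat_lit 38127, nat_lit 32941, nat_lit 29040, nat_lit 24587, nat_lit 20756, nat_lit 16393, nat_lit 12289, nat_lit 8194, nat_lit 4097]⟩⟩⟩, ⟨[], [], (nat_lit 862),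 ⟨[nat_lit 10, nat_lit 64], [nat_lit 0, nat_lit 26, nat_lit 47], ⟨[nat_lit 0x5a1ae280c14bd4ca56119ded2110e3], [nat_lit 168448, nat_lit 164864, nat_lit 161664, nat_lit 151584, nat_lit 148464, nat_lit 144312, nat_lit 141156, nat_lit 135436, nat_lit 134101, nat_lit 8, nat_lit 5276, nat_lit 8208, nat_lit 12304, nat_lit 22400, nat_lit 26368, nat_lit 28928, nat_lit 34304, nat_lit 37888, nat_lit 41956, nat_lit 38397, nat_lit 34045, nat_lit 29772, nat_lit 25635, nat_lit 20509, nat_lit 16393, nat_lit 12293, nat_lit 8200]⟩⟩⟩⟩,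
  .edge ⟨[nat_lit 39, nat_lit 67], [nat_lit 0, nat_lit 30, nat_lit 57], ⟨[nat_lit 0x1a0b364a16482265d54da1de4089d7], [nat_lit 168448, nat_lit 164096, nat_lit 160512, nat_lit 155968, nat_lit 152416, nat_lit 149296, nat_lit 144320, nat_lit 140772, nat_lit 136664, nat_lit 132583, nat_lit 1140, nat_lit 6068, nat_lit 13872, nat_lit 22400, nat_lit 26368, nat_lit 30464, nat_lit 33280, nat_lit 41711, nat_lit 38319, nat_lit 33385, nat_lit 29751, nat_lit 24637, nat_lit 20511, nat_lit 12321, nat_lit 4104]⟩⟩ ⟨(nat_lit 2), ⟨[nat_lit 355, nat_lit 352, nat_lit 285, nat_lit 284, nat_lit 352], [], (nat_lit 674), ⟨[nat_lit 0, nat_lit 33, nat_lit 59], [nat_lit 87, nat_lit 90], ⟨[nat_lit 0x92e6e3bc891a98288286ba1b60d4b0], [nat_lit 175104, nat_lit 171520, nat_lit 167168, nat_lit 161152, nat_lit 158656, nat_lit 153824, nat_lit 148208, nat_lit 146448, nat_lit 141224, nat_lit 136744, nat_lit 132007, nat_lit 1698, nat_lit 4224, nat_lit 10224, nat_lit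 14304, nat_lit 17376, nat_lit 21568, nat_lit 24960, nat_lit 29952, nat_lit 37888, nat_lit 41096, nat_lit 37176, nat_lit 32904, nat_lit 29055, nat_lit 24606, nat_lit 20635, nat_lit 16387, nat_lit 12290, nat_lit 8225, nat_lit 4104, nat_lit 4]⟩⟩⟩, ⟨[nat_lit 286, nat_lit 352, nat_lit 356, nat_lit 356], [], (nat_lit 874), ⟨[nat_lit 71, nat_lit 62], [nat_lit 71, nat_lit 90], ⟨[nat_lit 0x8d2123a80d4848e60965adaf3419e3], [nat_lit 175104, nat_lit 170496, nat_lit 167424, nat_lit 160128, nat_lit 155968, nat_lit 153568, nat_lit 150320, nat_lit 145264, nat_lit 140076, nat_lit 137778, nat_lit 133668, nat_lit 1818, nat_lit 4508, nat_lit 8528, nat_lit 12544, nat_lit 18144, nat_lit 22080, nat_lit 26368, nat_lit 29696, nat_lit 33792, nat_lit 41766, nat_lit 37976, nat_lit 32905, nat_lit 28947, nat_lit 25116, nat_lit 20555, nat_lit 16518, nat_lit 12289, nat_lit 8209, nat_lit 4161]⟩⟩⟩⟩]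

theorem dcMr441 : Rng dcM 441 443 := Rng.of (l := dcMc441) (by decide +kernel)

def dcMc443 : List Cert := [.edge ⟨[nat_lit 27, nat_lit 52], [nat_lit 1, nat_lit 50], ⟨[nat_lit 0x4040b524623b08fb4a90315cd9deb1], [nat_lit 175104, nat_lit 169472, nat_lit 166400, nat_lit 162176, nat_lit 159552, nat_lit 152256, nat_lit 147520, nat_lit 143592, nat_lit 142632, nat_lit 138114, nat_lit 132519, nat_lit 1250, nat_lit 6084, nat_lit 8696, nat_lit 13712, nat_lit 17728, nat_lit 22464, nat_lit 25472, nat_lit 29696, nat_lit 33792, nat_lit 41602, nat_lit 38360, nat_lit 32962, nat_lit 28702, nat_lit 24876, nat_lit 20484, nat_lit 16393, nat_lit 12310, nat_lit 8202, nat_lit 4097, nat_lit 2]⟩⟩ ⟨(nat_lit 2), ⟨[nat_lit 418, nat_lit 412, nat_lit 416], [nat_lit 412, nat_lit 420, nat_lit 413, nat_lit 415, nat_lit 412], (nat_lit 881), ⟨[nat_lit 10, nat_lit 66], [nat_lit 0, nat_lit 44, nat_lit 92], ⟨[nat_lit 0xb5c8315608b2e4159343be7554a03], [nat_lit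 173056, nat_lit 168960, nat_lit 165376, nat_lit 162560, nat_lit 156992, nat_lit 153536, nat_lit 149344, nat_lit 144984, nat_lit 135752, nat_lit 131642, nat_lit 1818, nat_lit 5976, nat_lit 9552, nat_lit 12416, nat_lit 16864, nat_lit 20736, nat_lit 24704, nat_lit 41704, nat_lit 38122, nat_lit 32928, nat_lit 28677, nat_lit 24579, nat_lit 20736, nat_lit 16393, nat_lit 12289, nat_lit 8321, nat_lit 4161, nat_lit 8]⟩⟩⟩, ⟨[nat_lit 356, nat_lit 284, nat_lit 357, nat_lit 285, nat_lit 351, nat_lit 284], [], (nat_lit 666), ⟨[nat_lit 0, nat_lit 71, nat_lit 46], [nat_lit 0, nat_lit 45, nat_lit 93], ⟨[nat_lit 0x692300d66a700c3796974b0eb44856], [nat_lit 174080, nat_lit 171520, nat_lit 164096, nat_lit 162048, nat_lit 157760, nat_lit 154336, nat_lit 147744, nat_lit 144408, nat_lit 140080, nat_lit 137532, nat_lit 135019, nat_lit 700, nat_lit 5208, nat_lit 13168, nat_lit 18016, nat_lit 20928, nat_lit 25600, nat_lit 30208, nat_lit 37888, nat_lit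 41633, nat_lit 38109, nat_lit 32990, nat_lit 29010, nat_lit 24846, nat_lit 21019, nat_lit 16453, nat_lit 12419, nat_lit 8195, nat_lit 4097, nat_lit 2]⟩⟩⟩⟩,
  .edge ⟨[nat_lit 40, nat_lit 93], [nat_lit 0, nat_lit 9, nat_lit 90], ⟨[nat_lit 0xd914d4812c1e735142b5dd392da8], [nat_lit 174080, nat_lit 171520, nat_lit 165120, nat_lit 161792, nat_lit 159488, nat_lit 153888, nat_lit 147792, nat_lit 143504, nat_lit 140100, nat_lit 137736, nat_lit 134705, nat_lit 2018, nat_lit 5900, nat_lit 9680, nat_lit 12400, nat_lit 17856, nat_lit 20608, nat_lit 24704, nat_lit 30208, nat_lit 37888, nat_lit 41962, nat_lit 38331, nat_lit 32789, nat_lit 29711, nat_lit 24714, nat_lit 20558, nat_lit 16649, nat_lit 12309, nat_lit 8195]⟩⟩ ⟨(nat_lit 2), ⟨[nat_lit 415, nat_lit 416, nat_lit 411, nat_lit 419], [], (nat_lit 886), ⟨[nat_lit 88, nat_lit 55], [nat_lit 83, nat_lit 94], ⟨[nat_lit 0x58c4fa0247430a6092b35460db3937], [nat_lit 173056, nat_lit 165376, nat_lit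 160896, nat_lit 157120, nat_lit 153056, nat_lit 149184, nat_lit 144240, nat_lit 140716, nat_lit 136908, nat_lit 134826, nat_lit 434, nat_lit 4720, nat_lit 9328, nat_lit 12976, nat_lit 16672, nat_lit 22272, nat_lit 24704, nat_lit 29440, nat_lit 34304, nat_lit 41795, nat_lit 37888, nat_lit 32862, nat_lit 28675, nat_lit 24880, nat_lit 20507, nat_lit 16423, nat_lit 8195, nat_lit 4100, nat_lit 2]⟩⟩⟩, ⟨[nat_lit 287, nat_lit 353, nat_lit 352, nat_lit 284, nat_lit 286], [], (nat_lit 685), ⟨[nat_lit 0, nat_lit 73, nat_lit 68], [nat_lit 0, nat_lit 7, nat_lit 52], ⟨[nat_lit 0xa08c885995981e1714915357248ee7], [nat_lit 171008, nat_lit 165120, nat_lit 162816, nat_lit 155712, nat_lit 153888, nat_lit 149984, nat_lit 145840, nat_lit 141164, nat_lit 136678, nat_lit 134826, nat_lit 1174, nat_lit 4328, nat_lit 9928, nat_lit 13280, nat_lit 18240, nat_lit 21184, nat_lit 24832, nat_lit 30464, nat_lit 33280, nat_lit 41980, nat_lit 37201, nat_lit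 32815, nat_lit 28701, nat_lit 25123, nat_lit 20495, nat_lit 16461, nat_lit 12289, nat_lit 8195, nat_lit 4101, nat_lit 4]⟩⟩⟩⟩]

theorem dcMr443 : Rng dcM 443 445 := Rng.of (l := dcMc443) (by decide +kernel)

def dcMc445 : List Cert := [.edge ⟨[nat_lit 0, nat_lit 35, nat_lit 70], [nat_lit 41, nat_lit 56], ⟨[nat_lit 0xa2cc20c1c36a24a015367d6f199d84], [nat_lit 173056, nat_lit 169472, nat_lit 161280, nat_lit 159680, nat_lit 152768, nat_lit 147856, nat_lit 143672, nat_lit 139564, nat_lit 136342, nat_lit 132057, nat_lit 1166, nat_lit 4476, nat_lit 8208, nat_lit 14016, nat_lit 16896, nat_lit 21888, nat_lit 25856, nat_lit 30208, nat_lit 33792, nat_lit 41597, nat_lit 37220, nat_lit 33455, nat_lit 28759, nat_lit 24735, nat_lit 21008, nat_lit 16420, nat_lit 12353, nat_lit 8225, nat_lit 4]⟩⟩ ⟨(nat_lit 2), ⟨[nat_lit 416, nat_lit 420, nat_lit 417, nat_lit 410], [nat_lit 410, nat_lit 415, nat_lit 412, nat_lit 412], (nat_lit 873), ⟨[nat_lit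 73, nat_lit 49], [nat_lit 0, nat_lit 4, nat_lit 90], ⟨[nat_lit 0xbceaf1d9064c16d0d0aa70a408b087], [nat_lit 173056, nat_lit 171520, nat_lit 164096, nat_lit 162560, nat_lit 156352, nat_lit 155360, nat_lit 150128, nat_lit 146384, nat_lit 140968, nat_lit 137018, nat_lit 134637, nat_lit 1166, nat_lit 5668, nat_lit 9344, nat_lit 12448, nat_lit 16896, nat_lit 21056, nat_lit 25472, nat_lit 29696, nat_lit 33792, nat_lit 37888, nat_lit 41623, nat_lit 37139, nat_lit 33405, nat_lit 29700, nat_lit 24893, nat_lit 20757, nat_lit 16392, nat_lit 12307, nat_lit 8451, nat_lit 4097, nat_lit 2]⟩⟩⟩, ⟨[nat_lit 286, nat_lit 286, nat_lit 284, nat_lit 357, nat_lit 351, nat_lit 284], [], (nat_lit 690), ⟨[nat_lit 0, nat_lit 7, nat_lit 56], [nat_lit 22, nat_lit 70], ⟨[nat_lit 0x2880f1aad3b860bad08c425c7944cd], [nat_lit 175104, nat_lit 171520, nat_lit 166400, nat_lit 159872, nat_lit 156288, nat_lit 149824, nat_lit 143792, nat_lit 140736, nat_lit 137926,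 nat_lit 133715, nat_lit 1516, nat_lit 5884, nat_lit 9608, nat_lit 14176, nat_lit 18112, nat_lit 21312, nat_lit 25984, nat_lit 30464, nat_lit 34304, nat_lit 41881, nat_lit 38311, nat_lit 34008, nat_lit 28703, nat_lit 24853, nat_lit 21013, nat_lit 16448, nat_lit 12320, nat_lit 8211, nat_lit 4097, nat_lit 2]⟩⟩⟩⟩]

theorem dcMr445 : Rng dcM 445 446 := Rng.of (l := dcMc445) (by decide +kernel)

def dcMc446 : List Cert := [.edge ⟨[nat_lit 0, nat_lit 41, nat_lit 63], [nat_lit 0, nat_lit 76, nat_lit 60], ⟨[nat_lit 0x31e2a059c5931eb111b7a55131c029], [nat_lit 173056, nat_lit 170496, nat_lit 164352, nat_lit 161792, nat_lit 157184, nat_lit 154880, nat_lit 150128, nat_lit 145600, nat_lit 139956, nat_lit 135408, nat_lit 134394, nat_lit 1918, nat_lit 4160, nat_lit 9664, nat_lit 12352, nat_lit 17760, nat_lit 21888, nat_lit 24704, nat_lit 28928, nat_lit 34304, nat_lit 37888, nat_lit 41914, nat_lit 37075, nat_lit 33910, nat_lit 28743, nat_lit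 24583, nat_lit 20490, nat_lit 16390, nat_lit 12295, nat_lit 8195, nat_lit 4100]⟩⟩ ⟨(nat_lit 2), ⟨[nat_lit 413, nat_lit 413, nat_lit 414, nat_lit 412], [nat_lit 410, nat_lit 415, nat_lit 412, nat_lit 412], (nat_lit 873), ⟨[nat_lit 0, nat_lit 10, nat_lit 89], [nat_lit 17, nat_lit 59], ⟨[nat_lit 0x25476039e781a414890554d94bc56d], [nat_lit 174080, nat_lit 171520, nat_lit 165888, nat_lit 163712, nat_lit 154752, nat_lit 150080, nat_lit 144768, nat_lit 143144, nat_lit 135894, nat_lit 131338, nat_lit 1624, nat_lit 5228, nat_lit 9648, nat_lit 13712, nat_lit 17152, nat_lit 22208, nat_lit 25728, nat_lit 34304, nat_lit 41775, nat_lit 37180, nat_lit 33464, nat_lit 28758, nat_lit 24639, nat_lit 20485, nat_lit 16459, nat_lit 12289]⟩⟩⟩, ⟨[nat_lit 285, nat_lit 356, nat_lit 351, nat_lit 356, nat_lit 284, nat_lit 285], [], (nat_lit 670), ⟨[nat_lit 0, nat_lit 35, nat_lit 49], [nat_lit 34, nat_lit 89], ⟨[nat_lit 0x4c0cb73cb140db63d6546285701261],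 [nat_lit 174080, nat_lit 169984, nat_lit 165888, nat_lit 161664, nat_lit 159552, nat_lit 154976, nat_lit 148368, nat_lit 145448, nat_lit 140720, nat_lit 136702, nat_lit 131222, nat_lit 588, nat_lit 5992, nat_lit 8792, nat_lit 14192, nat_lit 16704, nat_lit 21632, nat_lit 25344, nat_lit 29440, nat_lit 33792, nat_lit 37888, nat_lit 41735, nat_lit 38111, nat_lit 33016, nat_lit 28788, nat_lit 24600, nat_lit 20490, nat_lit 16385, nat_lit 12293, nat_lit 8201, nat_lit 4097, nat_lit 2]⟩⟩⟩⟩]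

theorem dcMr446 : Rng dcM 446 447 := Rng.of (l := dcMc446) (by decide +kernel)

def dcMc447 : List Cert := [.edge ⟨[nat_lit 18, nat_lit 57], [nat_lit 2, nat_lit 59], ⟨[nat_lit 0x30ab13b1255424e6a0237ae97b0264], [nat_lit 167680, nat_lit 161280, nat_lit 156288, nat_lit 154432, nat_lit 150592, nat_lit 147104, nat_lit 142736, nat_lit 138774, nat_lit 131124, nat_lit 606, nat_lit 4396, nat_lit 9328, nat_lit 12752, nat_lit 16736, nat_lit 21312, nat_lit 25472, nat_lit 29184, nat_lit 33792, nat_lit 41652, nat_lit 37352, nat_lit 33442, nat_lit 28754, nat_lit 24736, nat_lit 20498, nat_lit 16423, nat_lit 12289, nat_lit 8208, nat_lit 4097, nat_lit 2]⟩⟩ ⟨(nat_lit 2), ⟨[nat_lit 420, nat_lit 417, nat_lit 416, nat_lit 412], [], (nat_lit 892), ⟨[nat_lit 0, nat_lit 18, nat_lit 56], [nat_lit 0, nat_lit 34, nat_lit 63], ⟨[nat_lit 0x19af2652cb4ba704148d3c4157844a], [nat_lit 173056, nat_lit 169472, nat_lit 164096, nat_lit 155776, nat_lit 155072,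 nat_lit 147872, nat_lit 144816, nat_lit 141024, nat_lit 137020, nat_lit 131348, nat_lit 1842, nat_lit 4100, nat_lit 8224, nat_lit 14144, nat_lit 16864, nat_lit 25856, nat_lit 29440, nat_lit 33792, nat_lit 37888, nat_lit 41504, nat_lit 38127, nat_lit 32859, nat_lit 28759, nat_lit 24638, nat_lit 16385, nat_lit 8194, nat_lit 4100]⟩⟩⟩, ⟨[nat_lit 357, nat_lit 356, nat_lit 355, nat_lit 357], [nat_lit 288, nat_lit 286, nat_lit 356, nat_lit 286, nat_lit 284], (nat_lit 737), ⟨[nat_lit 0, nat_lit 16, nat_lit 64], [nat_lit 19, nat_lit 59], ⟨[nat_lit 0x1845b2574aaae819c247c64d9ba0c], [nat_lit 175104, nat_lit 169472, nat_lit 166144, nat_lit 163072, nat_lit 159168, nat_lit 152352, nat_lit 149312, nat_lit 145328, nat_lit 141436, nat_lit 138100, nat_lit 131680, nat_lit 880, nat_lit 5508, nat_lit 10224, nat_lit 13552, nat_lit 16832, nat_lit 20608, nat_lit 24704, nat_lit 37888, nat_lit 41666, nat_lit 38046, nat_lit 32914, nat_lit 28738, nat_lit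 24610, nat_lit 20544, nat_lit 16399, nat_lit 12289, nat_lit 8194, nat_lit 8]⟩⟩⟩⟩,
  .edge ⟨[nat_lit 32, nat_lit 46], [nat_lit 0, nat_lit 33, nat_lit 94], ⟨[nat_lit 0x251b6788c3506f274667854095a185], [nat_lit 173056, nat_lit 168448, nat_lit 165120, nat_lit 160000, nat_lit 155968, nat_lit 152576, nat_lit 148416, nat_lit 144064, nat_lit 141756, nat_lit 136390, nat_lit 132961, nat_lit 568, nat_lit 4408, nat_lit 8448, nat_lit 14096, nat_lit 17888, nat_lit 21056, nat_lit 26496, nat_lit 28928, nat_lit 41895, nat_lit 38051, nat_lit 32907, nat_lit 28781, nat_lit 24721, nat_lit 20569, nat_lit 16454, nat_lit 12308, nat_lit 32]⟩⟩ ⟨(nat_lit 2), ⟨[nat_lit 410, nat_lit 417, nat_lit 411, nat_lit 411], [], (nat_lit 888), ⟨[nat_lit 0, nat_lit 73, nat_lit 62], [nat_lit 31, nat_lit 48], ⟨[nat_lit 0xa898f838eb050a448517536668cac3], [nat_lit 174080, nat_lit 169984, nat_lit 167168, nat_lit 162432, nat_lit 155776, nat_lit 154880, nat_lit 150304,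 nat_lit 144792, nat_lit 143260, nat_lit 135452, nat_lit 131707, nat_lit 688, nat_lit 5072, nat_lit 10160, nat_lit 13664, nat_lit 17888, nat_lit 22336, nat_lit 25088, nat_lit 33792, nat_lit 41353, nat_lit 36971, nat_lit 33816, nat_lit 28938, nat_lit 25093, nat_lit 20546, nat_lit 16527, nat_lit 12320, nat_lit 4161, nat_lit 2]⟩⟩⟩, ⟨[nat_lit 354, nat_lit 285, nat_lit 353, nat_lit 356, nat_lit 288, nat_lit 284], [], (nat_lit 648), ⟨[nat_lit 24, nat_lit 69], [nat_lit 1, nat_lit 67], ⟨[nat_lit 0x8552450d6e345170369614e4c285e7], [nat_lit 169472, nat_lit 165632, nat_lit 160128, nat_lit 157120, nat_lit 152992, nat_lit 147856, nat_lit 145520, nat_lit 140100, nat_lit 136674, nat_lit 132945, nat_lit 1174, nat_lit 5992, nat_lit 8504, nat_lit 12416, nat_lit 18400, nat_lit 22336, nat_lit 25856, nat_lit 34304, nat_lit 37888, nat_lit 41329, nat_lit 37082, nat_lit 32919, nat_lit 28680, nat_lit 25118, nat_lit 20504, nat_lit 16430, nat_lit 8208,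 nat_lit 4100]⟩⟩⟩⟩]

theorem dcMr447 : Rng dcM 447 449 := Rng.of (l := dcMc447) (by decide +kernel)

def dcMc449 : List Cert := [.edge ⟨[nat_lit 0, nat_lit 42, nat_lit 63], [nat_lit 12, nat_lit 65], ⟨[nat_lit 0x700617898d4da05a20f19a8d595c8b], [nat_lit 173056, nat_lit 168960, nat_lit 164608, nat_lit 161152, nat_lit 156736, nat_lit 152064, nat_lit 147664, nat_lit 145120, nat_lit 143080, nat_lit 136290, nat_lit 131532, nat_lit 1966, nat_lit 5064, nat_lit 8208, nat_lit 12624, nat_lit 20544, nat_lit 25728, nat_lit 30208, nat_lit 33792, nat_lit 37888, nat_lit 41897, nat_lit 38171, nat_lit 33981, nat_lit 29222, nat_lit 24591, nat_lit 21020, nat_lit 16393, nat_lit 12309, nat_lit 8195, nat_lit 4101, nat_lit 4]⟩⟩ ⟨(nat_lit 2), ⟨[nat_lit 411, nat_lit 416, nat_lit 415, nat_lit 421], [], (nat_lit 886), ⟨[nat_lit 0, nat_lit 76, nat_lit 61], [nat_lit 0, nat_lit 31, nat_lit 70], ⟨[nat_lit 0x1c2275c9d60a8c9031e59a2ed25055], [nat_lit 169472,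 nat_lit 165632, nat_lit 160896, nat_lit 156224, nat_lit 152160, nat_lit 148960, nat_lit 144752, nat_lit 140844, nat_lit 136780, nat_lit 132348, nat_lit 1762, nat_lit 5896, nat_lit 8224, nat_lit 12864, nat_lit 16416, nat_lit 25344, nat_lit 29696, nat_lit 34304, nat_lit 41728, nat_lit 38068, nat_lit 33332, nat_lit 28767, nat_lit 24627, nat_lit 20509, nat_lit 16426, nat_lit 12325, nat_lit 8211, nat_lit 4113]⟩⟩⟩, ⟨[nat_lit 355, nat_lit 351, nat_lit 352, nat_lit 285], [], (nat_lit 603), ⟨[nat_lit 30, nat_lit 56], [nat_lit 3, nat_lit 91], ⟨[nat_lit 0x2990b4a88785e938d6d26840e10d8f], [nat_lit 175104, nat_lit 171008, nat_lit 166144, nat_lit 161536, nat_lit 156544, nat_lit 153376, nat_lit 149968, nat_lit 144200, nat_lit 141180, nat_lit 138264, nat_lit 135023, nat_lit 122, nat_lit 5716, nat_lit 8200, nat_lit 13696, nat_lit 16576, nat_lit 22336, nat_lit 26368, nat_lit 29440, nat_lit 33280, nat_lit 41911, nat_lit 36985, nat_lit 33822,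 nat_lit 28750, nat_lit 24714, nat_lit 20495, nat_lit 16389, nat_lit 12322, nat_lit 8200, nat_lit 4097]⟩⟩⟩⟩,
  .edge ⟨[nat_lit 23, nat_lit 47], [nat_lit 0, nat_lit 2, nat_lit 47], ⟨[nat_lit 0xbd96c4b401710ea4460f98aa51d246], [nat_lit 167168, nat_lit 161920, nat_lit 157824, nat_lit 154272, nat_lit 147952, nat_lit 145520, nat_lit 143192, nat_lit 137198, nat_lit 133439, nat_lit 1516, nat_lit 4412, nat_lit 8472, nat_lit 13312, nat_lit 17056, nat_lit 25344, nat_lit 29696, nat_lit 33792, nat_lit 37888, nat_lit 41917, nat_lit 38121, nat_lit 33341, nat_lit 28690, nat_lit 24846, nat_lit 20548, nat_lit 16515, nat_lit 12289, nat_lit 8258, nat_lit 4128]⟩⟩ ⟨(nat_lit 2), ⟨[nat_lit 415, nat_lit 418, nat_lit 416, nat_lit 412], [], (nat_lit 896), ⟨[nat_lit 19, nat_lit 59], [nat_lit 0, nat_lit 73, nat_lit 69], ⟨[nat_lit 0x6821774c345a9048b2a2b486f498a7], [nat_lit 173056, nat_lit 171008, nat_lit 161664, nat_lit 158912, nat_lit 151936, nat_lit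 148064, nat_lit 146216, nat_lit 142892, nat_lit 137460, nat_lit 134009, nat_lit 1054, nat_lit 5444, nat_lit 8488, nat_lit 14304, nat_lit 18112, nat_lit 21504, nat_lit 26496, nat_lit 29696, nat_lit 33792, nat_lit 37888, nat_lit 41105, nat_lit 37151, nat_lit 32989, nat_lit 28793, nat_lit 24712, nat_lit 20551, nat_lit 16393, nat_lit 12306, nat_lit 8227, nat_lit 4104, nat_lit 2]⟩⟩⟩, ⟨[nat_lit 261, nat_lit 264, nat_lit 224, nat_lit 222, nat_lit 223, nat_lit 222], [], (nat_lit 504), ⟨[nat_lit 0, nat_lit 9, nat_lit 49], [nat_lit 0, nat_lit 21, nat_lit 52], ⟨[nat_lit 0x31d36454016d14c9aef123a0293c65], [nat_lit 175104, nat_lit 171520, nat_lit 165376, nat_lit 163712, nat_lit 158912, nat_lit 155488, nat_lit 147472, nat_lit 144448, nat_lit 139532, nat_lit 137522, nat_lit 135006, nat_lit 1634, nat_lit 5328, nat_lit 10088, nat_lit 14176, nat_lit 17600, nat_lit 22464, nat_lit 33280, nat_lit 41021, nat_lit 37170, nat_lit 33459, nat_lit 28737,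 nat_lit 24722, nat_lit 20490, nat_lit 16462, nat_lit 12308, nat_lit 8208, nat_lit 4129]⟩⟩⟩⟩]

theorem dcMr449 : Rng dcM 449 451 := Rng.of (l := dcMc449) (by decide +kernel)

def dcMc451 : List Cert := [.edge ⟨[nat_lit 0, nat_lit 78, nat_lit 91], [nat_lit 38, nat_lit 46], ⟨[nat_lit 0x2ba283b26bbca00506a9110d41d9ed], [nat_lit 173056, nat_lit 169472, nat_lit 167680, nat_lit 160256, nat_lit 157632, nat_lit 154944, nat_lit 150464, nat_lit 147272, nat_lit 142972, nat_lit 138000, nat_lit 131691, nat_lit 210, nat_lit 5716, nat_lit 9040, nat_lit 12320, nat_lit 18112, nat_lit 20736, nat_lit 26112, nat_lit 29184, nat_lit 34304, nat_lit 41370, nat_lit 37287, nat_lit 33471, nat_lit 29293, nat_lit 24628, nat_lit 20574, nat_lit 16462, nat_lit 12304, nat_lit 8193]⟩⟩ ⟨(nat_lit 2), ⟨[nat_lit 417, nat_lit 414, nat_lit 415, nat_lit 410, nat_lit 411], [nat_lit 416, nat_lit 414, nat_lit 419], (nat_lit 885), ⟨[nat_lit 5, nat_lit 58], [nat_lit 43,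 nat_lit 59], ⟨[nat_lit 0x78db762626728933d4a2802d20ae88], [nat_lit 175104, nat_lit 168960, nat_lit 166400, nat_lit 162688, nat_lit 158016, nat_lit 152864, nat_lit 149216, nat_lit 145344, nat_lit 141840, nat_lit 138174, nat_lit 132825, nat_lit 1396, nat_lit 5604, nat_lit 9752, nat_lit 13264, nat_lit 16832, nat_lit 20736, nat_lit 24960, nat_lit 28928, nat_lit 33792, nat_lit 37888, nat_lit 41439, nat_lit 37154, nat_lit 32878, nat_lit 29800, nat_lit 24844, nat_lit 20483, nat_lit 16517, nat_lit 12292, nat_lit 32]⟩⟩⟩, ⟨[nat_lit 286, nat_lit 351, nat_lit 284, nat_lit 357, nat_lit 285, nat_lit 284], [], (nat_lit 698), ⟨[nat_lit 0, nat_lit 44, nat_lit 90], [nat_lit 0, nat_lit 16, nat_lit 64], ⟨[nat_lit 0x49604721b360e865ded2a9de154402], [nat_lit 173056, nat_lit 166656, nat_lit 159872, nat_lit 156928, nat_lit 147936, nat_lit 144384, nat_lit 140292, nat_lit 136000, nat_lit 132432, nat_lit 4, nat_lit 5904, nat_lit 8704, nat_lit 14160,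 nat_lit 17920, nat_lit 24704, nat_lit 30208, nat_lit 37888, nat_lit 41819, nat_lit 37305, nat_lit 29185, nat_lit 25616, nat_lit 20616, nat_lit 16386, nat_lit 12356, nat_lit 8203, nat_lit 4104, nat_lit 2]⟩⟩⟩⟩,
  .edge ⟨[nat_lit 0, nat_lit 71, nat_lit 58], [nat_lit 72, nat_lit 54], ⟨[nat_lit 0x384d180d2aa58527dca8a91cb68193], [nat_lit 173056, nat_lit 169472, nat_lit 164352, nat_lit 160768, nat_lit 157568, nat_lit 152896, nat_lit 145696, nat_lit 140896, nat_lit 136120, nat_lit 131685, nat_lit 582, nat_lit 4404, nat_lit 8680, nat_lit 13168, nat_lit 16480, nat_lit 22272, nat_lit 25728, nat_lit 30208, nat_lit 33280, nat_lit 41704, nat_lit 37258, nat_lit 33426, nat_lit 29246, nat_lit 24597, nat_lit 20620, nat_lit 16398, nat_lit 12295, nat_lit 8200]⟩⟩ ⟨(nat_lit 2), ⟨[nat_lit 412, nat_lit 412, nat_lit 418, nat_lit 410], [], (nat_lit 886), ⟨[nat_lit 0, nat_lit 21, nat_lit 91], [nat_lit 16, nat_lit 53], ⟨[nat_lit 0x3c2a3c6a2bd90e92db3624c51c284],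 [nat_lit 171520, nat_lit 165376, nat_lit 160512, nat_lit 157440, nat_lit 152832, nat_lit 148544, nat_lit 143576, nat_lit 141156, nat_lit 136082, nat_lit 132792, nat_lit 1794, nat_lit 5604, nat_lit 8256, nat_lit 12800, nat_lit 16512, nat_lit 20800, nat_lit 25088, nat_lit 29696, nat_lit 33792, nat_lit 37888, nat_lit 41314, nat_lit 37025, nat_lit 32781, nat_lit 29217, nat_lit 24580, nat_lit 21008, nat_lit 16417, nat_lit 8256, nat_lit 5120, nat_lit 32]⟩⟩⟩, ⟨[nat_lit 286, nat_lit 285, nat_lit 353, nat_lit 351], [], (nat_lit 678), ⟨[nat_lit 0, nat_lit 8, nat_lit 50], [nat_lit 32, nat_lit 52], ⟨[nat_lit 0xa9d2e106435d9a56228455ccf04670], [nat_lit 168448, nat_lit 164608, nat_lit 160384, nat_lit 156864, nat_lit 152064, nat_lit 144328, nat_lit 140984, nat_lit 138878, nat_lit 131479, nat_lit 526, nat_lit 4160, nat_lit 8264, nat_lit 13664, nat_lit 16512, nat_lit 22336, nat_lit 25088, nat_lit 29696, nat_lit 41881, nat_lit 36930, nat_lit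 33867, nat_lit 28944, nat_lit 24618, nat_lit 20564, nat_lit 16420, nat_lit 12311, nat_lit 8203, nat_lit 4097, nat_lit 2]⟩⟩⟩⟩]

theorem dcMr451 : Rng dcM 451 453 := Rng.of (l := dcMc451) (by decide +kernel)

def dcMc453 : List Cert := [.edge ⟨[nat_lit 0, nat_lit 21, nat_lit 54], [nat_lit 0, nat_lit 36, nat_lit 65], ⟨[nat_lit 0x5853155de41b5d3ada023219401cb2], [nat_lit 174080, nat_lit 168448, nat_lit 160128, nat_lit 157760, nat_lit 155424, nat_lit 151280, nat_lit 145088, nat_lit 141752, nat_lit 135706, nat_lit 133179, nat_lit 1140, nat_lit 4200, nat_lit 9456, nat_lit 14304, nat_lit 16416, nat_lit 20992, nat_lit 26240, nat_lit 30464, nat_lit 33792, nat_lit 41217, nat_lit 37257, nat_lit 33500, nat_lit 28711, nat_lit 24868, nat_lit 20560, nat_lit 16448, nat_lit 12805, nat_lit 8202, nat_lit 4101]⟩⟩ ⟨(nat_lit 2), ⟨[nat_lit 415, nat_lit 421, nat_lit 415, nat_lit 415, nat_lit 410], [], (nat_lit 902), ⟨[nat_lit 0, nat_lit 45, nat_lit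 53], [nat_lit 0, nat_lit 24, nat_lit 94], ⟨[nat_lit 0x3288589d7686aa91ca6b3d2381271], [nat_lit 164352, nat_lit 160128, nat_lit 157184, nat_lit 153184, nat_lit 148576, nat_lit 143832, nat_lit 142192, nat_lit 135704, nat_lit 131958, nat_lit 78, nat_lit 5688, nat_lit 8208, nat_lit 12352, nat_lit 16448, nat_lit 21120, nat_lit 25088, nat_lit 29696, nat_lit 37888, nat_lit 41980, nat_lit 37232, nat_lit 33316, nat_lit 29702, nat_lit 24599, nat_lit 20622, nat_lit 16396, nat_lit 12304, nat_lit 4160, nat_lit 2]⟩⟩⟩, ⟨[nat_lit 265, nat_lit 266, nat_lit 263, nat_lit 263, nat_lit 224], [], (nat_lit 506), ⟨[nat_lit 41, nat_lit 92], [nat_lit 0, nat_lit 11, nat_lit 51], ⟨[nat_lit 0xa046d32412ab8a49a84743eeb64616], [nat_lit 175104, nat_lit 165888, nat_lit 162432, nat_lit 159488, nat_lit 151872, nat_lit 148752, nat_lit 143424, nat_lit 142160, nat_lit 137404, nat_lit 132020, nat_lit 1918, nat_lit 5508, nat_lit 9304, nat_lit 13552, nat_lit 16800,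 nat_lit 20800, nat_lit 37888, nat_lit 41786, nat_lit 36937, nat_lit 34009, nat_lit 28950, nat_lit 24578, nat_lit 20616, nat_lit 16425, nat_lit 8210]⟩⟩⟩⟩,
  .edge ⟨[nat_lit 83, nat_lit 90], [nat_lit 0, nat_lit 18, nat_lit 46], ⟨[nat_lit 0x931ee582c5a9141498543a0779c1b1], [nat_lit 164352, nat_lit 161536, nat_lit 156672, nat_lit 152384, nat_lit 147664, nat_lit 144560, nat_lit 139480, nat_lit 135170, nat_lit 133604, nat_lit 512, nat_lit 5024, nat_lit 9128, nat_lit 13712, nat_lit 17856, nat_lit 20864, nat_lit 24704, nat_lit 29184, nat_lit 37888, nat_lit 41729, nat_lit 38313, nat_lit 32929, nat_lit 28761, nat_lit 24728, nat_lit 20748, nat_lit 16517, nat_lit 12306, nat_lit 8203, nat_lit 4104]⟩⟩ ⟨(nat_lit 2), ⟨[nat_lit 420, nat_lit 410, nat_lit 419, nat_lit 414, nat_lit 410], [], (nat_lit 902), ⟨[nat_lit 34, nat_lit 59], [nat_lit 45, nat_lit 53], ⟨[nat_lit 0xa8c5652cc7736702a4888bd92a0417], [nat_lit 173056, nat_lit 169984, nat_lit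 167168, nat_lit 162176, nat_lit 159488, nat_lit 152224, nat_lit 150304, nat_lit 146736, nat_lit 140028, nat_lit 137600, nat_lit 131861, nat_lit 1966, nat_lit 6028, nat_lit 10152, nat_lit 13264, nat_lit 17184, nat_lit 20800, nat_lit 24832, nat_lit 29952, nat_lit 37888, nat_lit 41718, nat_lit 38040, nat_lit 32878, nat_lit 28796, nat_lit 24639, nat_lit 20485, nat_lit 16449, nat_lit 12294, nat_lit 8202, nat_lit 4105]⟩⟩⟩, ⟨[nat_lit 259, nat_lit 222, nat_lit 262, nat_lit 263, nat_lit 224], [], (nat_lit 636), ⟨[nat_lit 0, nat_lit 74, nat_lit 68], [nat_lit 0, nat_lit 27, nat_lit 69], ⟨[nat_lit 0x5aa2719260b3428349eca25c22de15], [nat_lit 173056, nat_lit 168960, nat_lit 164864, nat_lit 160384, nat_lit 155904, nat_lit 152480, nat_lit 150368, nat_lit 143752, nat_lit 140208, nat_lit 136412, nat_lit 131630, nat_lit 1778, nat_lit 4804, nat_lit 8256, nat_lit 12960, nat_lit 16448, nat_lit 21632, nat_lit 24704, nat_lit 29440, nat_lit 34304,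 nat_lit 41170, nat_lit 37325, nat_lit 33287, nat_lit 28772, nat_lit 24615, nat_lit 20570, nat_lit 16388, nat_lit 12325, nat_lit 8211, nat_lit 4101]⟩⟩⟩⟩]

theorem dcMr453 : Rng dcM 453 455 := Rng.of (l := dcMc453) (by decide +kernel)

def dcMc455 : List Cert := [.edge ⟨[nat_lit 5, nat_lit 46], [nat_lit 0, nat_lit 28, nat_lit 64], ⟨[nat_lit 0x24a75bad4680989696cfa04074446e], [nat_lit 171008, nat_lit 166656, nat_lit 162688, nat_lit 158592, nat_lit 152000, nat_lit 149792, nat_lit 145824, nat_lit 139440, nat_lit 137922, nat_lit 132515, nat_lit 810, nat_lit 5072, nat_lit 9648, nat_lit 12544, nat_lit 17376, nat_lit 21120, nat_lit 24704, nat_lit 33792, nat_lit 41912, nat_lit 37203, nat_lit 32866, nat_lit 29737, nat_lit 24872, nat_lit 20737, nat_lit 16526, nat_lit 12290, nat_lit 8209, nat_lit 16]⟩⟩ ⟨(nat_lit 2), ⟨[nat_lit 410, nat_lit 421, nat_lit 421, nat_lit 418], [], (nat_lit 892), ⟨[nat_lit 18, nat_lit 49], [nat_lit 75], ⟨[nat_lit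 0x30135bb274910ae8b54b83c43406c7], [nat_lit 169472, nat_lit 167424, nat_lit 156928, nat_lit 154176, nat_lit 150096, nat_lit 146936, nat_lit 141468, nat_lit 139190, nat_lit 132678, nat_lit 1440, nat_lit 5668, nat_lit 8504, nat_lit 13840, nat_lit 18176, nat_lit 21056, nat_lit 25344, nat_lit 28928, nat_lit 34304, nat_lit 37888, nat_lit 41778, nat_lit 38115, nat_lit 32972, nat_lit 28970, nat_lit 24618, nat_lit 20559, nat_lit 16386, nat_lit 12290, nat_lit 4097]⟩⟩⟩, ⟨[nat_lit 288, nat_lit 356, nat_lit 285, nat_lit 288], [], (nat_lit 872), ⟨[nat_lit 0, nat_lit 35, nat_lit 48], [nat_lit 0, nat_lit 20, nat_lit 69], ⟨[nat_lit 0xb31d2a29113d666225a35940f106f0], [nat_lit 174080, nat_lit 171008, nat_lit 166912, nat_lit 161536, nat_lit 157184, nat_lit 152064, nat_lit 150416, nat_lit 143456, nat_lit 141292, nat_lit 138492, nat_lit 134851, nat_lit 1874, nat_lit 4964, nat_lit 8992, nat_lit 13376, nat_lit 17440, nat_lit 21248, nat_lit 25088,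 nat_lit 34304, nat_lit 37888, nat_lit 41665, nat_lit 38272, nat_lit 33352, nat_lit 29751, nat_lit 24577, nat_lit 20631, nat_lit 16527, nat_lit 12308, nat_lit 8195]⟩⟩⟩⟩,
  .edge ⟨[nat_lit 0, nat_lit 22, nat_lit 54], [nat_lit 0, nat_lit 4, nat_lit 68], ⟨[nat_lit 0xb18f19dd2b7c1b5620641065453805], [nat_lit 175104, nat_lit 168448, nat_lit 164864, nat_lit 160512, nat_lit 158912, nat_lit 155488, nat_lit 150128, nat_lit 144464, nat_lit 142332, nat_lit 136452, nat_lit 134136, nat_lit 1268, nat_lit 5904, nat_lit 10032, nat_lit 14080, nat_lit 16416, nat_lit 20992, nat_lit 25344, nat_lit 34304, nat_lit 37888, nat_lit 41907, nat_lit 38356, nat_lit 33794, nat_lit 28673, nat_lit 24587, nat_lit 20752, nat_lit 16640, nat_lit 12357, nat_lit 8193, nat_lit 4104]⟩⟩ ⟨(nat_lit 2), ⟨[nat_lit 420, nat_lit 415, nat_lit 418, nat_lit 420, nat_lit 410], [], (nat_lit 896), ⟨[nat_lit 39, nat_lit 91], [nat_lit 85, nat_lit 70], ⟨[nat_lit 0x90c254a893bc28713576345cc455e0],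 [nat_lit 175104, nat_lit 169984, nat_lit 167424, nat_lit 155840, nat_lit 152320, nat_lit 149984, nat_lit 143936, nat_lit 139676, nat_lit 137354, nat_lit 133541, nat_lit 1896, nat_lit 5904, nat_lit 8368, nat_lit 13920, nat_lit 16864, nat_lit 21632, nat_lit 26496, nat_lit 30464, nat_lit 33792, nat_lit 41739, nat_lit 38384, nat_lit 33969, nat_lit 28981, nat_lit 25143, nat_lit 20753, nat_lit 16389, nat_lit 12291, nat_lit 8209, nat_lit 4097, nat_lit 2]⟩⟩⟩, ⟨[nat_lit 225, nat_lit 261, nat_lit 263, nat_lit 223, nat_lit 261], [], (nat_lit 626), ⟨[nat_lit 0, nat_lit 42, nat_lit 65], [nat_lit 33, nat_lit 55], ⟨[nat_lit 0x4c98e44c20514f0bae35b0da4351e2], [nat_lit 173056, nat_lit 171008, nat_lit 164864, nat_lit 160640, nat_lit 158848, nat_lit 151680, nat_lit 147504, nat_lit 145856, nat_lit 141380, nat_lit 138216, nat_lit 133566, nat_lit 586, nat_lit 5408, nat_lit 8224, nat_lit 13152, nat_lit 16416, nat_lit 21376, nat_lit 25472, nat_lit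 30208, nat_lit 41677, nat_lit 38346, nat_lit 33004, nat_lit 28674, nat_lit 24834, nat_lit 20575, nat_lit 16389, nat_lit 12355, nat_lit 8193, nat_lit 4161]⟩⟩⟩⟩]

theorem dcMr455 : Rng dcM 455 457 := Rng.of (l := dcMc455) (by decide +kernel)

def dcMc457 : List Cert := [.edge ⟨[nat_lit 43, nat_lit 89], [nat_lit 85, nat_lit 48], ⟨[nat_lit 0x98c50520c459d25b55ae8c80163e97], [nat_lit 169472, nat_lit 167680, nat_lit 161152, nat_lit 157568, nat_lit 153056, nat_lit 148944, nat_lit 143448, nat_lit 139948, nat_lit 135218, nat_lit 133066, nat_lit 1396, nat_lit 4380, nat_lit 9840, nat_lit 14144, nat_lit 16416, nat_lit 20544, nat_lit 24832, nat_lit 29440, nat_lit 34304, nat_lit 41728, nat_lit 37120, nat_lit 33476, nat_lit 28993, nat_lit 24624, nat_lit 20560, nat_lit 16462, nat_lit 12308, nat_lit 8210, nat_lit 4104]⟩⟩ ⟨(nat_lit 2), ⟨[nat_lit 414, nat_lit 415, nat_lit 412, nat_lit 410], [nat_lit 414, nat_lit 418, nat_lit 414, nat_lit 414,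 nat_lit 410], (nat_lit 865), ⟨[nat_lit 0, nat_lit 31, nat_lit 54], [nat_lit 0, nat_lit 74, nat_lit 57], ⟨[nat_lit 0x8352433d5218ae1716683ad91b5680], [nat_lit 174080, nat_lit 171520, nat_lit 166144, nat_lit 160512, nat_lit 158528, nat_lit 154560, nat_lit 148160, nat_lit 146624, nat_lit 135592, nat_lit 131633, nat_lit 1896, nat_lit 4520, nat_lit 8368, nat_lit 12976, nat_lit 18368, nat_lit 22464, nat_lit 26496, nat_lit 29952, nat_lit 33280, nat_lit 37888, nat_lit 41706, nat_lit 38113, nat_lit 32792, nat_lit 29716, nat_lit 24742, nat_lit 20630, nat_lit 16392, nat_lit 12289, nat_lit 8321, nat_lit 4101]⟩⟩⟩, ⟨[nat_lit 265, nat_lit 224, nat_lit 264, nat_lit 259, nat_lit 225], [], (nat_lit 504), ⟨[nat_lit 0, nat_lit 33, nat_lit 50], [nat_lit 0, nat_lit 16, nat_lit 64], ⟨[nat_lit 0x1c1f510126a2ec5221ac0ddd19c947], [nat_lit 164352, nat_lit 161664, nat_lit 156352, nat_lit 152608, nat_lit 149328, nat_lit 145368, nat_lit 141232, nat_lit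 135602, nat_lit 133145, nat_lit 1182, nat_lit 5904, nat_lit 9096, nat_lit 13024, nat_lit 17376, nat_lit 22272, nat_lit 25600, nat_lit 34304, nat_lit 37888, nat_lit 41980, nat_lit 38309, nat_lit 33885, nat_lit 28954, nat_lit 25118, nat_lit 20617, nat_lit 16421, nat_lit 12421, nat_lit 8195, nat_lit 4]⟩⟩⟩⟩]

theorem dcMr457 : Rng dcM 457 458 := Rng.of (l := dcMc457) (by decide +kernel)

def dcMc458 : List Cert := [.edge ⟨[nat_lit 84, nat_lit 94], [nat_lit 24, nat_lit 91], ⟨[nat_lit 0x5c6a57006285cea7858d2526945a46], [nat_lit 165376, nat_lit 161664, nat_lit 157632, nat_lit 151648, nat_lit 147472, nat_lit 143464, nat_lit 139372, nat_lit 135438, nat_lit 133538, nat_lit 1024, nat_lit 5572, nat_lit 9912, nat_lit 14256, nat_lit 17440, nat_lit 22464, nat_lit 26240, nat_lit 33280, nat_lit 41825, nat_lit 38136, nat_lit 33325, nat_lit 28974, nat_lit 25644, nat_lit 20757, nat_lit 16521, nat_lit 12356, nat_lit 8257, nat_lit 4112]⟩⟩ ⟨(nat_lit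 2), ⟨[nat_lit 419, nat_lit 417, nat_lit 410, nat_lit 416, nat_lit 410], [], (nat_lit 896), ⟨[nat_lit 0, nat_lit 33, nat_lit 64], [nat_lit 29, nat_lit 94], ⟨[nat_lit 0xbd015728910d843331335b4b283ce8], [nat_lit 175104, nat_lit 171008, nat_lit 166656, nat_lit 160128, nat_lit 156160, nat_lit 152608, nat_lit 149696, nat_lit 145112, nat_lit 139476, nat_lit 138218, nat_lit 134042, nat_lit 1554, nat_lit 5488, nat_lit 9008, nat_lit 14112, nat_lit 16608, nat_lit 20672, nat_lit 25088, nat_lit 28928, nat_lit 33280, nat_lit 41662, nat_lit 37169, nat_lit 32844, nat_lit 28673, nat_lit 24845, nat_lit 20993, nat_lit 16417, nat_lit 12549, nat_lit 8449, nat_lit 5120]⟩⟩⟩, ⟨[nat_lit 259, nat_lit 264, nat_lit 225, nat_lit 260, nat_lit 262, nat_lit 222], [], (nat_lit 756), ⟨[nat_lit 0, nat_lit 32, nat_lit 58], [nat_lit 29, nat_lit 90], ⟨[nat_lit 0x4b1cda0225988f70d4d042d4fb0e44], [nat_lit 173056, nat_lit 160640, nat_lit 155776, nat_lit 153440, nat_lit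 148960, nat_lit 143392, nat_lit 135176, nat_lit 133652, nat_lit 16, nat_lit 5888, nat_lit 8688, nat_lit 12976, nat_lit 17728, nat_lit 21120, nat_lit 25984, nat_lit 33792, nat_lit 41403, nat_lit 37073, nat_lit 32785, nat_lit 28754, nat_lit 24593, nat_lit 20492, nat_lit 16456, nat_lit 8225, nat_lit 4225]⟩⟩⟩⟩,
  .edge ⟨[nat_lit 0, nat_lit 14, nat_lit 90], [nat_lit 44, nat_lit 57], ⟨[nat_lit 0x19e801496f4a8b58b82865c8d34276], [nat_lit 173056, nat_lit 168960, nat_lit 164864, nat_lit 161536, nat_lit 156288, nat_lit 153504, nat_lit 149008, nat_lit 143544, nat_lit 139600, nat_lit 136658, nat_lit 132193, nat_lit 696, nat_lit 4340, nat_lit 8976, nat_lit 14000, nat_lit 16768, nat_lit 22336, nat_lit 28928, nat_lit 37888, nat_lit 41005, nat_lit 37262, nat_lit 28688, nat_lit 24600, nat_lit 21508, nat_lit 16461, nat_lit 12321, nat_lit 8209, nat_lit 4097]⟩⟩ ⟨(nat_lit 2), ⟨[nat_lit 413, nat_lit 415, nat_lit 421, nat_lit 415], [nat_lit 410,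 nat_lit 415, nat_lit 412, nat_lit 412], (nat_lit 873), ⟨[nat_lit 27, nat_lit 70], [nat_lit 8, nat_lit 91], ⟨[nat_lit 0x9a01748ad0548746958f8d56121dc6], [nat_lit 173056, nat_lit 168448, nat_lit 165632, nat_lit 160768, nat_lit 156544, nat_lit 152416, nat_lit 149456, nat_lit 143664, nat_lit 141636, nat_lit 135970, nat_lit 131378, nat_lit 158, nat_lit 6068, nat_lit 9216, nat_lit 14144, nat_lit 18336, nat_lit 21376, nat_lit 25600, nat_lit 34304, nat_lit 41625, nat_lit 37303, nat_lit 32940, nat_lit 28714, nat_lit 24580, nat_lit 20507, nat_lit 16386, nat_lit 12327, nat_lit 8193, nat_lit 4112, nat_lit 4]⟩⟩⟩, ⟨[nat_lit 285, nat_lit 351, nat_lit 352, nat_lit 288, nat_lit 284], [], (nat_lit 644), ⟨[nat_lit 4, nat_lit 62], [nat_lit 16, nat_lit 92], ⟨[nat_lit 0x521357cc807062519a4cb2ef46c0e2], [nat_lit 171520, nat_lit 164352, nat_lit 160256, nat_lit 158592, nat_lit 153440, nat_lit 147984, nat_lit 146816, nat_lit 143180, nat_lit 138070,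 nat_lit 134517, nat_lit 586, nat_lit 5488, nat_lit 8256, nat_lit 12848, nat_lit 18080, nat_lit 20544, nat_lit 25856, nat_lit 29184, nat_lit 34304, nat_lit 37888, nat_lit 41535, nat_lit 38026, nat_lit 32987, nat_lit 28762, nat_lit 24590, nat_lit 20508, nat_lit 16425, nat_lit 12326, nat_lit 8193, nat_lit 4104]⟩⟩⟩⟩]

theorem dcMr458 : Rng dcM 458 460 := Rng.of (l := dcMc458) (by decide +kernel)

def dcMc460 : List Cert := [.edge ⟨[nat_lit 0, nat_lit 6, nat_lit 58], [nat_lit 5, nat_lit 50], ⟨[nat_lit 0x5a2f6180e520446556898322f9b9b2], [nat_lit 164608, nat_lit 161152, nat_lit 157632, nat_lit 153376, nat_lit 147504, nat_lit 145376, nat_lit 140112, nat_lit 136466, nat_lit 133183, nat_lit 5024, nat_lit 10160, nat_lit 13904, nat_lit 16672, nat_lit 21696, nat_lit 25216, nat_lit 29184, nat_lit 34304, nat_lit 37888, nat_lit 41695, nat_lit 38369, nat_lit 33289, nat_lit 29790, nat_lit 25630, nat_lit 20488, nat_lit 16393, nat_lit 12294,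 nat_lit 8193, nat_lit 4104]⟩⟩ ⟨(nat_lit 2), ⟨[nat_lit 416, nat_lit 420, nat_lit 412, nat_lit 415], [], (nat_lit 898), ⟨[nat_lit 0, nat_lit 42, nat_lit 65], [nat_lit 81, nat_lit 56], ⟨[nat_lit 0x4a83122eef6c982a5a6081cc3754a8], [nat_lit 171520, nat_lit 165888, nat_lit 163072, nat_lit 159104, nat_lit 153280, nat_lit 150160, nat_lit 145480, nat_lit 140644, nat_lit 137574, nat_lit 132632, nat_lit 2018, nat_lit 4952, nat_lit 9904, nat_lit 12544, nat_lit 17568, nat_lit 21568, nat_lit 24960, nat_lit 29696, nat_lit 33792, nat_lit 37888, nat_lit 41423, nat_lit 37085, nat_lit 32921, nat_lit 28674, nat_lit 25143, nat_lit 20552, nat_lit 16643, nat_lit 12308, nat_lit 8201, nat_lit 4]⟩⟩⟩, ⟨[nat_lit 223, nat_lit 224], [], (nat_lit 471), ⟨[nat_lit 27, nat_lit 89], [nat_lit 0, nat_lit 72, nat_lit 50], ⟨[nat_lit 0x6d68ebd98f018474cd52214235c608], [nat_lit 170496, nat_lit 165632, nat_lit 162816, nat_lit 155776, nat_lit 154336, nat_lit 149904,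 nat_lit 147320, nat_lit 139392, nat_lit 136158, nat_lit 133473, nat_lit 952, nat_lit 5016, nat_lit 9648, nat_lit 12352, nat_lit 17280, nat_lit 21760, nat_lit 25088, nat_lit 30208, nat_lit 41857, nat_lit 37271, nat_lit 32769, nat_lit 29260, nat_lit 24754, nat_lit 20556, nat_lit 16514, nat_lit 12306, nat_lit 8224, nat_lit 4104]⟩⟩⟩⟩,
  .edge ⟨[nat_lit 0, nat_lit 43, nat_lit 62], [nat_lit 0, nat_lit 72, nat_lit 93], ⟨[nat_lit 0x33c69b48a76c6ec72024a8a00a2973], [nat_lit 173056, nat_lit 169472, nat_lit 164864, nat_lit 161024, nat_lit 156992, nat_lit 151584, nat_lit 147968, nat_lit 144024, nat_lit 140884, nat_lit 136756, nat_lit 131782, nat_lit 590, nat_lit 5080, nat_lit 9560, nat_lit 13536, nat_lit 18144, nat_lit 21312, nat_lit 25344, nat_lit 30208, nat_lit 33280, nat_lit 37888, nat_lit 41052, nat_lit 36992, nat_lit 32944, nat_lit 29040, nat_lit 24625, nat_lit 20567, nat_lit 16462, nat_lit 12311, nat_lit 8193]⟩⟩ ⟨(nat_lit 2), ⟨[nat_lit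 413, nat_lit 415, nat_lit 421, nat_lit 412], [], (nat_lit 896), ⟨[nat_lit 0, nat_lit 81, nat_lit 66], [nat_lit 0, nat_lit 19], ⟨[nat_lit 0x985a553acc1be064d4028d1123dd64], [nat_lit 174080, nat_lit 169984, nat_lit 167168, nat_lit 161920, nat_lit 155904, nat_lit 155296, nat_lit 151088, nat_lit 144696, nat_lit 142896, nat_lit 135878, nat_lit 131126, nat_lit 1124, nat_lit 5228, nat_lit 10144, nat_lit 12864, nat_lit 22272, nat_lit 25856, nat_lit 28928, nat_lit 41780, nat_lit 38173, nat_lit 32944, nat_lit 28964, nat_lit 24582, nat_lit 20740, nat_lit 16388, nat_lit 12802, nat_lit 8193, nat_lit 4]⟩⟩⟩, ⟨[nat_lit 261, nat_lit 260, nat_lit 260, nat_lit 225, nat_lit 264, nat_lit 222], [], (nat_lit 612), ⟨[nat_lit 43, nat_lit 69], [nat_lit 0, nat_lit 10, nat_lit 50], ⟨[nat_lit 0x1ca36cdd2aa68a5dae87c590208c1], [nat_lit 173056, nat_lit 171008, nat_lit 164608, nat_lit 160384, nat_lit 158912, nat_lit 151648, nat_lit 147376, nat_lit 142420,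 nat_lit 137718, nat_lit 134530, nat_lit 588, nat_lit 5120, nat_lit 9216, nat_lit 12304, nat_lit 16448, nat_lit 20800, nat_lit 29184, nat_lit 33792, nat_lit 41475, nat_lit 38068, nat_lit 32771, nat_lit 29274, nat_lit 24750, nat_lit 20630, nat_lit 16424, nat_lit 12320, nat_lit 8195, nat_lit 4097]⟩⟩⟩⟩]

theorem dcMr460 : Rng dcM 460 462 := Rng.of (l := dcMc460) (by decide +kernel)

def dcMc462 : List Cert := [.stab (nat_lit 844) tw0 ⟨(nat_lit 0), ⟨[nat_lit 78, nat_lit 104, nat_lit 100, nat_lit 76, nat_lit 102, nat_lit 105, nat_lit 78, nat_lit 101], [], (nat_lit 844), ⟨[nat_lit 93], [nat_lit 78, nat_lit 92], ⟨[nat_lit 0xb096a180e92e334aa08389b51bee5], [nat_lit 175104, nat_lit 168448, nat_lit 165376, nat_lit 161024, nat_lit 155712, nat_lit 152736, nat_lit 149344, nat_lit 143864, nat_lit 139612, nat_lit 135170, nat_lit 131261, nat_lit 1268, nat_lit 4756, nat_lit 8480, nat_lit 13312, nat_lit 17920, nat_lit 22336, nat_lit 25344, nat_lit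 30464, nat_lit 33792, nat_lit 37888, nat_lit 41316, nat_lit 37333, nat_lit 29260, nat_lit 25089, nat_lit 20493, nat_lit 16455, nat_lit 8225, nat_lit 4112, nat_lit 2]⟩⟩⟩, ap0⟩,
  .prod [] [nat_lit 412, nat_lit 412, nat_lit 412, nat_lit 414],
  .prod [] [nat_lit 411, nat_lit 462, nat_lit 412, nat_lit 414],
  .prod [] [nat_lit 410, nat_lit 411, nat_lit 410, nat_lit 414],
  .prod [] [nat_lit 464, nat_lit 413, nat_lit 413, nat_lit 413],
  .prod [] [nat_lit 414, nat_lit 462, nat_lit 465, nat_lit 466],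
  .prod [] [nat_lit 467, nat_lit 462, nat_lit 410, nat_lit 467]]

theorem dcMr462 : Rng dcM 462 469 := Rng.of (l := dcMc462) (by decide +kernel)

def dcMc469 : List Cert := [.edge ⟨[nat_lit 0, nat_lit 28, nat_lit 63], [nat_lit 0, nat_lit 78, nat_lit 89], ⟨[nat_lit 0x515a7954c17c6690096c80ec4a21d7], [nat_lit 174080, nat_lit 171520, nat_lit 165120, nat_lit 163200, nat_lit 158912, nat_lit 154144, nat_lit 147552, nat_lit 140480, nat_lit 138760, nat_lit 134596, nat_lit 960, nat_lit 4756, nat_lit 9904, nat_lit 13792, nat_lit 16640, nat_lit 20736, nat_lit 25344, nat_lit 29696, nat_lit 37888, nat_lit 41711, nat_lit 38376, nat_lit 33354, nat_lit 28702, nat_lit 24876, nat_lit 20492, nat_lit 16391, nat_lit 12323, nat_lit 8195, nat_lit 4097, nat_lit 2]⟩⟩ ⟨(nat_lit 2), ⟨[nat_lit 137, nat_lit 135, nat_lit 112, nat_lit 132, nat_lit 130, nat_lit 136], [], (nat_lit 312), ⟨[nat_lit 85, nat_lit 60], [nat_lit 26, nat_lit 93], ⟨[nat_lit 0xb1d058d130b8163629f50b89211a6d],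 [nat_lit 173056, nat_lit 168960, nat_lit 164352, nat_lit 161408, nat_lit 156416, nat_lit 153696, nat_lit 149072, nat_lit 144400, nat_lit 140244, nat_lit 136150, nat_lit 131161, nat_lit 460, nat_lit 5024, nat_lit 9216, nat_lit 13440, nat_lit 20608, nat_lit 24704, nat_lit 34304, nat_lit 41364, nat_lit 37062, nat_lit 33851, nat_lit 28720, nat_lit 24608, nat_lit 16512, nat_lit 12547, nat_lit 8200, nat_lit 4097]⟩⟩⟩, ⟨[nat_lit 150, nat_lit 150, nat_lit 149, nat_lit 139, nat_lit 141], [nat_lit 147, nat_lit 144, nat_lit 140, nat_lit 150, nat_lit 144], (nat_lit 895), ⟨[nat_lit 81, nat_lit 60], [nat_lit 0, nat_lit 21, nat_lit 50], ⟨[nat_lit 0x8e56a98bbce34725e8184c495616], [nat_lit 174080, nat_lit 170496, nat_lit 167168, nat_lit 160768, nat_lit 155840, nat_lit 151840, nat_lit 149968, nat_lit 145288, nat_lit 139764, nat_lit 137226, nat_lit 134664, nat_lit 760, nat_lit 5544, nat_lit 9504, nat_lit 13728, nat_lit 16448, nat_lit 22144, nat_lit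 24704, nat_lit 29696, nat_lit 33792, nat_lit 41161, nat_lit 37173, nat_lit 32963, nat_lit 28739, nat_lit 24625, nat_lit 20562, nat_lit 16387, nat_lit 13314, nat_lit 8705, nat_lit 4097, nat_lit 2]⟩⟩⟩⟩,
  .edge tw0 ⟨(nat_lit 1), ⟨[nat_lit 463, nat_lit 410, nat_lit 413, nat_lit 468], [], (nat_lit 859), ⟨[nat_lit 0, nat_lit 71, nat_lit 89], [nat_lit 39, nat_lit 67], ⟨[nat_lit 0x8a057b54ee34d92695690aa1479060], [nat_lit 175104, nat_lit 170496, nat_lit 162560, nat_lit 159168, nat_lit 155264, nat_lit 149360, nat_lit 143400, nat_lit 139332, nat_lit 138644, nat_lit 134729, nat_lit 8, nat_lit 5856, nat_lit 9320, nat_lit 14144, nat_lit 16416, nat_lit 22336, nat_lit 25472, nat_lit 29440, nat_lit 34304, nat_lit 37888, nat_lit 41552, nat_lit 37364, nat_lit 32965, nat_lit 29006, nat_lit 24882, nat_lit 20510, nat_lit 16421, nat_lit 12304, nat_lit 8225, nat_lit 4097, nat_lit 2]⟩⟩⟩, ⟨[nat_lit 215, nat_lit 213, nat_lit 215, nat_lit 172], [],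 (nat_lit 858), ⟨[nat_lit 0, nat_lit 31, nat_lit 65], [nat_lit 36, nat_lit 69], ⟨[nat_lit 0x62c45b56f37248178d06846926a8e0], [nat_lit 175104, nat_lit 169984, nat_lit 164352, nat_lit 162688, nat_lit 158464, nat_lit 155520, nat_lit 147616, nat_lit 144856, nat_lit 139812, nat_lit 139206, nat_lit 133367, nat_lit 5488, nat_lit 9096, nat_lit 13712, nat_lit 17280, nat_lit 22400, nat_lit 25856, nat_lit 30464, nat_lit 33280, nat_lit 37888, nat_lit 41491, nat_lit 38381, nat_lit 33517, nat_lit 28723, nat_lit 25114, nat_lit 20567, nat_lit 16387, nat_lit 12800, nat_lit 8202, nat_lit 4104, nat_lit 16]⟩⟩⟩⟩]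

theorem dcMr469 : Rng dcM 469 471 := Rng.of (l := dcMc469) (by decide +kernel)

def dcMc471 : List Cert := [.edge tw0 ⟨(nat_lit 1), ⟨[nat_lit 464, nat_lit 414, nat_lit 466, nat_lit 467], [], (nat_lit 845), ⟨[nat_lit 8, nat_lit 55], [nat_lit 0, nat_lit 35, nat_lit 58], ⟨[nat_lit 0xbc4c35a90e625ed0d264a82472c2c2], [nat_lit 175104, nat_lit 171520, nat_lit 165888, nat_lit 160128, nat_lit 153120, nat_lit 151264, nat_lit 144696, nat_lit 140168, nat_lit 137494, nat_lit 133418, nat_lit 1814, nat_lit 5544, nat_lit 8256, nat_lit 13056, nat_lit 18272, nat_lit 21568, nat_lit 24704, nat_lit 33280, nat_lit 41562, nat_lit 37317, nat_lit 33013, nat_lit 28741, nat_lit 24593, nat_lit 20760, nat_lit 16461, nat_lit 12305, nat_lit 8193]⟩⟩⟩, ⟨[nat_lit 104, nat_lit 105, nat_lit 106, nat_lit 78, nat_lit 105], [], (nat_lit 844), ⟨[nat_lit 0, nat_lit 87, nat_lit 50], [nat_lit 16, nat_lit 47], ⟨[nat_lit 0x31ca44a14b639af9427100861ada97], [nat_lit 173056,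 nat_lit 169472, nat_lit 166656, nat_lit 161152, nat_lit 156672, nat_lit 152736, nat_lit 148704, nat_lit 144464, nat_lit 140064, nat_lit 137006, nat_lit 132072, nat_lit 1396, nat_lit 5044, nat_lit 9928, nat_lit 13648, nat_lit 16416, nat_lit 20736, nat_lit 25472, nat_lit 30208, nat_lit 33280, nat_lit 41916, nat_lit 36979, nat_lit 28792, nat_lit 24734, nat_lit 20496, nat_lit 16430, nat_lit 12309, nat_lit 8193, nat_lit 4105]⟩⟩⟩⟩,
  .edge tw0 ⟨(nat_lit 1), ⟨[nat_lit 464, nat_lit 464, nat_lit 464, nat_lit 411], [], (nat_lit 847), ⟨[nat_lit 79, nat_lit 55], [nat_lit 0, nat_lit 7, nat_lit 52], ⟨[nat_lit 0x6ce3251ac325d20416817c1cca8967], [nat_lit 175104, nat_lit 168960, nat_lit 164352, nat_lit 161024, nat_lit 155968, nat_lit 153440, nat_lit 148336, nat_lit 144504, nat_lit 140964, nat_lit 137134, nat_lit 131174, nat_lit 158, nat_lit 6104, nat_lit 9216, nat_lit 13936, nat_lit 17536, nat_lit 21184, nat_lit 25984, nat_lit 30208, nat_lit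 41920, nat_lit 37967, nat_lit 33381, nat_lit 28958, nat_lit 24716, nat_lit 20568, nat_lit 16462, nat_lit 12293]⟩⟩⟩, ⟨[nat_lit 111, nat_lit 135, nat_lit 134, nat_lit 109], [], (nat_lit 846), ⟨[nat_lit 0, nat_lit 27, nat_lit 56], [nat_lit 8, nat_lit 67], ⟨[nat_lit 0x44af3a952702a83805e47596d60a26], [nat_lit 173056, nat_lit 168960, nat_lit 164352, nat_lit 162688, nat_lit 155776, nat_lit 151616, nat_lit 149360, nat_lit 144336, nat_lit 141252, nat_lit 136012, nat_lit 131458, nat_lit 1516, nat_lit 4924, nat_lit 8320, nat_lit 13840, nat_lit 16576, nat_lit 21056, nat_lit 25728, nat_lit 29184, nat_lit 33280, nat_lit 41877, nat_lit 36906, nat_lit 33861, nat_lit 28710, nat_lit 24847, nat_lit 20617, nat_lit 16462, nat_lit 12325, nat_lit 4104, nat_lit 16]⟩⟩⟩⟩]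

theorem dcMr471 : Rng dcM 471 473 := Rng.of (l := dcMc471) (by decide +kernel)

def dcMc473 : List Cert := [.edge tw0 ⟨(nat_lit 1), ⟨[], [nat_lit 466, nat_lit 468, nat_lit 462, nat_lit 410], (nat_lit 939), ⟨[nat_lit 23, nat_lit 91], [nat_lit 0, nat_lit 74, nat_lit 64], ⟨[nat_lit 0x2918a438600d22714ac64d6ed9c16f], [nat_lit 175104, nat_lit 169984, nat_lit 165888, nat_lit 163712, nat_lit 155712, nat_lit 153696, nat_lit 150656, nat_lit 143600, nat_lit 141768, nat_lit 135422, nat_lit 131306, nat_lit 1318, nat_lit 5228, nat_lit 10224, nat_lit 14112, nat_lit 18176, nat_lit 21376, nat_lit 24960, nat_lit 29440, nat_lit 33280, nat_lit 37888, nat_lit 41841, nat_lit 37228, nat_lit 33448, nat_lit 29039, nat_lit 24875, nat_lit 20558, nat_lit 16387, nat_lit 12293, nat_lit 8]⟩⟩⟩, ⟨[nat_lit 130, nat_lit 109, nat_lit 110, nat_lit 133], [], (nat_lit 938), ⟨[nat_lit 8, nat_lit 66], [nat_lit 84, nat_lit 66], ⟨[nat_lit 0x9ade46c4c8939271d441b82d4530b0],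 [nat_lit 170496, nat_lit 165120, nat_lit 160512, nat_lit 155712, nat_lit 152320, nat_lit 148176, nat_lit 144896, nat_lit 135482, nat_lit 133034, nat_lit 1874, nat_lit 4540, nat_lit 9424, nat_lit 13600, nat_lit 16416, nat_lit 20992, nat_lit 24832, nat_lit 29184, nat_lit 33280, nat_lit 37888, nat_lit 41279, nat_lit 32846, nat_lit 28679, nat_lit 24846, nat_lit 20496, nat_lit 16416, nat_lit 12551, nat_lit 8321, nat_lit 4100, nat_lit 8]⟩⟩⟩⟩,
  .edge ⟨[nat_lit 80, nat_lit 55], [nat_lit 0, nat_lit 5, nat_lit 66], ⟨[nat_lit 0xa1d6183e3301957122a5192c97364c], [nat_lit 175104, nat_lit 171008, nat_lit 167680, nat_lit 161024, nat_lit 158848, nat_lit 155168, nat_lit 148240, nat_lit 147184, nat_lit 139900, nat_lit 136362, nat_lit 132328, nat_lit 210, nat_lit 4412, nat_lit 10160, nat_lit 14176, nat_lit 17280, nat_lit 20928, nat_lit 25088, nat_lit 29952, nat_lit 33792, nat_lit 41624, nat_lit 36872, nat_lit 32904, nat_lit 28967, nat_lit 24581,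 nat_lit 20486, nat_lit 16386, nat_lit 12292, nat_lit 8203, nat_lit 4101, nat_lit 4]⟩⟩ ⟨(nat_lit 2), ⟨[nat_lit 465, nat_lit 464, nat_lit 463, nat_lit 464, nat_lit 411, nat_lit 462], [], (nat_lit 890), ⟨[nat_lit 44, nat_lit 49], [nat_lit 0, nat_lit 28, nat_lit 56], ⟨[nat_lit 0x3153b20cbac4b20dc82a38ef48db0], [nat_lit 173056, nat_lit 168960, nat_lit 166144, nat_lit 160000, nat_lit 157184, nat_lit 152960, nat_lit 147952, nat_lit 145304, nat_lit 139928, nat_lit 136896, nat_lit 132211, nat_lit 428, nat_lit 5508, nat_lit 9832, nat_lit 14112, nat_lit 16480, nat_lit 22016, nat_lit 24832, nat_lit 41884, nat_lit 38044, nat_lit 32844, nat_lit 28703, nat_lit 24598, nat_lit 20495, nat_lit 16462, nat_lit 12306, nat_lit 8227, nat_lit 4105, nat_lit 2]⟩⟩⟩, ⟨[nat_lit 145, nat_lit 143, nat_lit 142, nat_lit 147], [], (nat_lit 852), ⟨[nat_lit 0, nat_lit 39, nat_lit 48], [nat_lit 20, nat_lit 62], ⟨[nat_lit 0x496af3c081882f66a2869096a63873], [nat_lit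 173056, nat_lit 164864, nat_lit 160768, nat_lit 158336, nat_lit 152928, nat_lit 148896, nat_lit 143712, nat_lit 140204, nat_lit 135536, nat_lit 132166, nat_lit 526, nat_lit 4404, nat_lit 10224, nat_lit 12352, nat_lit 18400, nat_lit 22336, nat_lit 25216, nat_lit 29952, nat_lit 33280, nat_lit 41428, nat_lit 36976, nat_lit 32960, nat_lit 28734, nat_lit 24838, nat_lit 20488, nat_lit 16515, nat_lit 12290, nat_lit 4104]⟩⟩⟩⟩]

theorem dcMr473 : Rng dcM 473 475 := Rng.of (l := dcMc473) (by decide +kernel)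

def dcMc475 : List Cert := [.edge tw0 ⟨(nat_lit 1), ⟨[nat_lit 467, nat_lit 412, nat_lit 410, nat_lit 414, nat_lit 468], [], (nat_lit 904), ⟨[nat_lit 72, nat_lit 49], [nat_lit 0, nat_lit 5, nat_lit 53], ⟨[nat_lit 0xb8ea073528240b35a9ecb0a8131e32], [nat_lit 173056, nat_lit 166912, nat_lit 162048, nat_lit 157760, nat_lit 154912, nat_lit 148480, nat_lit 146704, nat_lit 141868, nat_lit 136338, nat_lit 133134, nat_lit 492, nat_lit 6000, nat_lit 9192, nat_lit 13648, nat_lit 18272, nat_lit 20992, nat_lit 24704, nat_lit 29952, nat_lit 33280, nat_lit 37888, nat_lit 41821, nat_lit 38226, nat_lit 34042, nat_lit 28934, nat_lit 25628, nat_lit 20613, nat_lit 16387, nat_lit 12806, nat_lit 8226, nat_lit 4101]⟩⟩⟩, ⟨[nat_lit 214, nat_lit 171, nat_lit 173, nat_lit 170], [], (nat_lit 856), ⟨[nat_lit 41, nat_lit 53], [nat_lit 25, nat_lit 91], ⟨[nat_lit 0x1cc0585497444c96502b3b9b27a856], [nat_lit 175104, nat_lit 171520, nat_lit 164352, nat_lit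 162304, nat_lit 158400, nat_lit 153824, nat_lit 147696, nat_lit 144656, nat_lit 140708, nat_lit 139154, nat_lit 134797, nat_lit 700, nat_lit 5208, nat_lit 9880, nat_lit 14176, nat_lit 16864, nat_lit 20736, nat_lit 29440, nat_lit 34304, nat_lit 41555, nat_lit 38332, nat_lit 33394, nat_lit 28718, nat_lit 25113, nat_lit 20553, nat_lit 16399, nat_lit 12304, nat_lit 8203, nat_lit 4097, nat_lit 2]⟩⟩⟩⟩,
  .edge tw0 ⟨(nat_lit 1), ⟨[nat_lit 412, nat_lit 410, nat_lit 468, nat_lit 413, nat_lit 464], [], (nat_lit 819), ⟨[nat_lit 0, nat_lit 80, nat_lit 94], [nat_lit 0, nat_lit 3, nat_lit 49], ⟨[nat_lit 0x21d728a297508304b9f3301b61b0b5], [nat_lit 168960, nat_lit 166656, nat_lit 157504, nat_lit 152576, nat_lit 149328, nat_lit 145056, nat_lit 140036, nat_lit 135528, nat_lit 132255, nat_lit 2018, nat_lit 4540, nat_lit 9312, nat_lit 12544, nat_lit 18208, nat_lit 21248, nat_lit 24704, nat_lit 28928, nat_lit 41247, nat_lit 36896, nat_lit 32845,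 nat_lit 28691, nat_lit 24870, nat_lit 20555, nat_lit 16516, nat_lit 8209, nat_lit 4100]⟩⟩⟩, ⟨[nat_lit 46, nat_lit 46, nat_lit 46, nat_lit 46], [], (nat_lit 818), ⟨[nat_lit 0, nat_lit 16, nat_lit 46], [nat_lit 0, nat_lit 36, nat_lit 68], ⟨[nat_lit 0x21d728a297508304b9f3301b61b0b5], [nat_lit 173056, nat_lit 168960, nat_lit 166656, nat_lit 159872, nat_lit 157440, nat_lit 152608, nat_lit 149312, nat_lit 145056, nat_lit 140036, nat_lit 135530, nat_lit 132255, nat_lit 2018, nat_lit 4540, nat_lit 9312, nat_lit 12544, nat_lit 18208, nat_lit 21248, nat_lit 24704, nat_lit 28928, nat_lit 41247, nat_lit 36896, nat_lit 32845, nat_lit 28691, nat_lit 24870, nat_lit 20555, nat_lit 16516, nat_lit 8209, nat_lit 4100]⟩⟩⟩⟩,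
  .defn]

theorem dcMr475 : Rng dcM 475 478 := Rng.of (l := dcMc475) (by decide +kernel)

def dcMc478 : List Cert := [.stab (nat_lit 954) tw0 ⟨(nat_lit 0), ⟨[nat_lit 107, nat_lit 100, nat_lit 100, nat_lit 76, nat_lit 106, nat_lit 77], [], (nat_lit 954), ⟨[nat_lit 0, nat_lit 35, nat_lit 67], [nat_lit 85, nat_lit 66], ⟨[nat_lit 0x356677940b68c898d10a73256106f0], [nat_lit 173056, nat_lit 165632, nat_lit 162688, nat_lit 157568, nat_lit 153472, nat_lit 147632, nat_lit 143944, nat_lit 140048, nat_lit 136190, nat_lit 132154, nat_lit 1076, nat_lit 4160, nat_lit 8256, nat_lit 13952, nat_lit 17728, nat_lit 22208, nat_lit 24704, nat_lit 33792, nat_lit 41150, nat_lit 37365, nat_lit 32999, nat_lit 24602, nat_lit 20491, nat_lit 16455, nat_lit 12305, nat_lit 8202, nat_lit 4101, nat_lit 2]⟩⟩⟩, ap0⟩,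
  .stab (nat_lit 954) tw0 ⟨(nat_lit 0), ⟨[nat_lit 100, nat_lit 79, nat_lit 102, nat_lit 100, nat_lit 76, nat_lit 101], [], (nat_lit 954), ⟨[nat_lit 24, nat_lit 91], [nat_lit 77, nat_lit 54], ⟨[nat_lit 0x4148294d60785aaa19d11a6b6640f7], [nat_lit 169984, nat_lit 164352, nat_lit 161664, nat_lit 158208, nat_lit 152544, nat_lit 148112, nat_lit 145720, nat_lit 141604, nat_lit 138360, nat_lit 134041, nat_lit 1076, nat_lit 4328, nat_lit 8592, nat_lit 14160, nat_lit 18112, nat_lit 21184, nat_lit 25856, nat_lit 34304, nat_lit 41085, nat_lit 36961, nat_lit 32851, nat_lit 28716, nat_lit 24869, nat_lit 20561, nat_lit 16398, nat_lit 12307, nat_lit 8202, nat_lit 4101, nat_lit 4]⟩⟩⟩, ap0⟩,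
  .stab (nat_lit 954) tw0 ⟨(nat_lit 0), ⟨[nat_lit 79, nat_lit 107, nat_lit 104, nat_lit 101, nat_lit 79, nat_lit 102, nat_lit 79, nat_lit 78], [], (nat_lit 954), ⟨[nat_lit 0, nat_lit 3, nat_lit 48], [nat_lit 0, nat_lit 16, nat_lit 70], ⟨[nat_lit 0x3d5a69142a98c8965d0b845f61028e], [nat_lit 173056, nat_lit 169472, nat_lit 163712, nat_lit 157440, nat_lit 152096, nat_lit 148736, nat_lit 140980, nat_lit 135804, nat_lit 131847, nat_lit 1972, nat_lit 4228, nat_lit 10032, nat_lit 13568, nat_lit 18336, nat_lit 21504, nat_lit 25088, nat_lit 29696, nat_lit 33280, nat_lit 41600, nat_lit 37910, nat_lit 33006, nat_lit 28776, nat_lit 24715, nat_lit 20547, nat_lit 16397, nat_lit 12305, nat_lit 8193, nat_lit 4161, nat_lit 4]⟩⟩⟩, ap0⟩]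

theorem dcMr478 : Rng dcM 478 481 := Rng.of (l := dcMc478) (by decide +kernel)

def dcMc481 : List Cert := [.stab (nat_lit 954) tw0 ⟨(nat_lit 0), ⟨[nat_lit 78, nat_lit 76, nat_lit 102, nat_lit 107, nat_lit 79, nat_lit 101, nat_lit 78, nat_lit 77], [], (nat_lit 954), ⟨[nat_lit 0, nat_lit 23, nat_lit 60], [nat_lit 25, nat_lit 53], ⟨[nat_lit 0x1cc899142a7c2d145d6c39aad03a82], [nat_lit 169472, nat_lit 165376, nat_lit 163328, nat_lit 157568, nat_lit 152576, nat_lit 148640, nat_lit 145328, nat_lit 141088, nat_lit 135572, nat_lit 132079, nat_lit 4, nat_lit 5604, nat_lit 10032, nat_lit 14032, nat_lit 18336, nat_lit 20608, nat_lit 25984, nat_lit 29440, nat_lit 41856, nat_lit 37366, nat_lit 32906, nat_lit 28675, nat_lit 24595, nat_lit 20482, nat_lit 16393, nat_lit 12308, nat_lit 4128, nat_lit 8]⟩⟩⟩, ap0⟩,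
  .prod [] [nat_lit 479, nat_lit 479, nat_lit 481, nat_lit 480],
  .prod [] [nat_lit 481, nat_lit 481, nat_lit 480, nat_lit 481],
  .prod [] [nat_lit 483, nat_lit 483, nat_lit 480, nat_lit 482],
  .prod [] [nat_lit 480, nat_lit 479, nat_lit 478, nat_lit 479],
  .prod [] [nat_lit 482, nat_lit 479, nat_lit 485, nat_lit 479],
  .prod [] [nat_lit 485, nat_lit 481, nat_lit 481, nat_lit 481]]

theorem dcMr481 : Rng dcM 481 488 := Rng.of (l := dcMc481) (by decide +kernel)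

def dcMc488 : List Cert := [.prod [] [nat_lit 483, nat_lit 484, nat_lit 487, nat_lit 483],
  .prod [] [nat_lit 487, nat_lit 479, nat_lit 487, nat_lit 486],
  .edge tw0 ⟨(nat_lit 1), ⟨[], [], (nat_lit 955), tw0⟩, ⟨[nat_lit 76, nat_lit 76, nat_lit 76, nat_lit 79, nat_lit 79], [], (nat_lit 954), ⟨[], [nat_lit 0, nat_lit 71, nat_lit 46], ⟨[nat_lit 0x3ca66ad98e2c49050049a5ded40d61], [nat_lit 169984, nat_lit 163712, nat_lit 157504, nat_lit 153728, nat_lit 151520, nat_lit 145568, nat_lit 139428, nat_lit 135490, nat_lit 133522, nat_lit 698, nat_lit 5072, nat_lit 8328, nat_lit 12544, nat_lit 17088, nat_lit 20672, nat_lit 24832, nat_lit 30464, nat_lit 33792, nat_lit 37888, nat_lit 41796, nat_lit 38385, nat_lit 32845, nat_lit 28731, nat_lit 24866, nat_lit 20572, nat_lit 16396, nat_lit 12311, nat_lit 8211, nat_lit 4100]⟩⟩⟩⟩,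
  .edge ⟨[nat_lit 0, nat_lit 36, nat_lit 50], [nat_lit 31, nat_lit 49], ⟨[nat_lit 0x218e55a50a184029ca306bd8ebd2b6], [nat_lit 175104, nat_lit 169472, nat_lit 166912, nat_lit 163072, nat_lit 159360, nat_lit 151648, nat_lit 149280, nat_lit 144088, nat_lit 142048, nat_lit 137742, nat_lit 131923, nat_lit 1918, nat_lit 5208, nat_lit 8632, nat_lit 12624, nat_lit 18272, nat_lit 20608, nat_lit 26112, nat_lit 29440, nat_lit 33792, nat_lit 41214, nat_lit 37030, nat_lit 32998, nat_lit 29006, nat_lit 24885, nat_lit 20486, nat_lit 16394, nat_lit 12311, nat_lit 8194, nat_lit 4097]⟩⟩ ⟨(nat_lit 2), ⟨[], [], (nat_lit 955), ⟨[nat_lit 1, nat_lit 46], [nat_lit 0, nat_lit 36, nat_lit 56], ⟨[nat_lit 0x1592f3d674899485ddc3082446b205], [nat_lit 175104, nat_lit 171520, nat_lit 162688, nat_lit 158336, nat_lit 154176, nat_lit 148752, nat_lit 144608, nat_lit 139824, nat_lit 137264, nat_lit 133921, nat_lit 1634, nat_lit 4476, nat_lit 9320, nat_lit 12688,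 nat_lit 16512, nat_lit 22208, nat_lit 26112, nat_lit 37888, nat_lit 41398, nat_lit 37060, nat_lit 32921, nat_lit 28673, nat_lit 24609, nat_lit 20505, nat_lit 16385, nat_lit 12323, nat_lit 8707, nat_lit 4100]⟩⟩⟩, ⟨[nat_lit 101, nat_lit 107, nat_lit 104, nat_lit 100, nat_lit 76, nat_lit 79, nat_lit 107], [], (nat_lit 534), ⟨[nat_lit 0, nat_lit 79, nat_lit 49], [nat_lit 0, nat_lit 15, nat_lit 70], ⟨[nat_lit 0xd2c864ee72a8c3801722562f4b44e], [nat_lit 173056, nat_lit 169984, nat_lit 165376, nat_lit 160768, nat_lit 158720, nat_lit 151712, nat_lit 147936, nat_lit 145704, nat_lit 142752, nat_lit 138114, nat_lit 134614, nat_lit 1530, nat_lit 5136, nat_lit 10088, nat_lit 14256, nat_lit 18336, nat_lit 22080, nat_lit 25344, nat_lit 29440, nat_lit 37888, nat_lit 41924, nat_lit 37242, nat_lit 32813, nat_lit 29801, nat_lit 25098, nat_lit 20493, nat_lit 16389, nat_lit 12326, nat_lit 8211, nat_lit 4101]⟩⟩⟩⟩]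

theorem dcMr488 : Rng dcM 488 492 := Rng.of (l := dcMc488) (by decide +kernel)

def dcMc492 : List Cert := [.edge ⟨[nat_lit 0, nat_lit 36, nat_lit 50], [nat_lit 31, nat_lit 49], ⟨[nat_lit 0x218e55a50a184029ca306bd8ebd2b6], [nat_lit 175104, nat_lit 169472, nat_lit 166912, nat_lit 163072, nat_lit 159360, nat_lit 151648, nat_lit 149280, nat_lit 144088, nat_lit 142048, nat_lit 137742, nat_lit 131923, nat_lit 1918, nat_lit 5208, nat_lit 8632, nat_lit 12624, nat_lit 18272, nat_lit 20608, nat_lit 26112, nat_lit 29440, nat_lit 33792, nat_lit 41214, nat_lit 37030, nat_lit 32998, nat_lit 29006, nat_lit 24885, nat_lit 20486, nat_lit 16394, nat_lit 12311, nat_lit 8194, nat_lit 4097]⟩⟩ ⟨(nat_lit 2), ⟨[nat_lit 488, nat_lit 481, nat_lit 478], [], (nat_lit 982), ⟨[nat_lit 0, nat_lit 86, nat_lit 67], [nat_lit 0, nat_lit 23, nat_lit 89], ⟨[nat_lit 0xa02cf385a534aaa22ef360d09809d1], [nat_lit 168448, nat_lit 161280, nat_lit 157632, nat_lit 151904,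 nat_lit 147472, nat_lit 143648, nat_lit 140204, nat_lit 138190, nat_lit 132558, nat_lit 78, nat_lit 6068, nat_lit 8256, nat_lit 14112, nat_lit 16928, nat_lit 21504, nat_lit 25856, nat_lit 28928, nat_lit 33280, nat_lit 37888, nat_lit 41726, nat_lit 37983, nat_lit 32983, nat_lit 28758, nat_lit 24598, nat_lit 21023, nat_lit 16426, nat_lit 12320, nat_lit 8200, nat_lit 256]⟩⟩⟩, ⟨[nat_lit 222, nat_lit 261, nat_lit 225, nat_lit 264, nat_lit 265, nat_lit 225], [], (nat_lit 542), ⟨[nat_lit 0, nat_lit 5, nat_lit 59], [nat_lit 0, nat_lit 7, nat_lit 93], ⟨[nat_lit 0x64956aadb04cdf7a3a282184519c01], [nat_lit 173056, nat_lit 171520, nat_lit 166400, nat_lit 162816, nat_lit 158336, nat_lit 152576, nat_lit 150656, nat_lit 146440, nat_lit 139680, nat_lit 139126, nat_lit 132417, nat_lit 2, nat_lit 5276, nat_lit 9360, nat_lit 13264, nat_lit 17216, nat_lit 20800, nat_lit 24704, nat_lit 30464, nat_lit 37888, nat_lit 41878, nat_lit 37221, nat_lit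 33523, nat_lit 28738, nat_lit 24598, nat_lit 20481, nat_lit 16390, nat_lit 12294, nat_lit 8201, nat_lit 4100, nat_lit 2]⟩⟩⟩⟩,
  .edge ⟨[nat_lit 0, nat_lit 34, nat_lit 52], [nat_lit 10, nat_lit 52], ⟨[nat_lit 0x58ef1720ca94de58268010587236b6], [nat_lit 173056, nat_lit 169472, nat_lit 165888, nat_lit 159872, nat_lit 157440, nat_lit 148128, nat_lit 143376, nat_lit 140816, nat_lit 135306, nat_lit 131093, nat_lit 952, nat_lit 5208, nat_lit 9040, nat_lit 12336, nat_lit 16640, nat_lit 21440, nat_lit 26240, nat_lit 28928, nat_lit 33280, nat_lit 37888, nat_lit 41386, nat_lit 37120, nat_lit 32905, nat_lit 29055, nat_lit 24709, nat_lit 20563, nat_lit 16399, nat_lit 12311, nat_lit 8193, nat_lit 4097]⟩⟩ ⟨(nat_lit 2), ⟨[nat_lit 480, nat_lit 482, nat_lit 489, nat_lit 485, nat_lit 478], [], (nat_lit 984), ⟨[nat_lit 0, nat_lit 5, nat_lit 52], [nat_lit 0, nat_lit 73, nat_lit 92], ⟨[nat_lit 0x2d97009ccc1be950466dbc8891290e], [nat_lit 175104,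 nat_lit 169472, nat_lit 165120, nat_lit 162432, nat_lit 157440, nat_lit 151872, nat_lit 150352, nat_lit 145648, nat_lit 142456, nat_lit 137978, nat_lit 134854, nat_lit 810, nat_lit 5316, nat_lit 9096, nat_lit 12928, nat_lit 18336, nat_lit 22464, nat_lit 24960, nat_lit 34304, nat_lit 41757, nat_lit 37149, nat_lit 32798, nat_lit 28781, nat_lit 24583, nat_lit 20624, nat_lit 16399, nat_lit 12310, nat_lit 4112]⟩⟩⟩, ⟨[nat_lit 266, nat_lit 260, nat_lit 262, nat_lit 225, nat_lit 223], [], (nat_lit 506), ⟨[nat_lit 0, nat_lit 27, nat_lit 60], [nat_lit 81, nat_lit 90], ⟨[nat_lit 0x9caed79a875b91654045245201b2a1], [nat_lit 174080, nat_lit 168448, nat_lit 164096, nat_lit 160000, nat_lit 157120, nat_lit 153088, nat_lit 147488, nat_lit 145000, nat_lit 140900, nat_lit 136208, nat_lit 132897, nat_lit 1760, nat_lit 5120, nat_lit 8504, nat_lit 13312, nat_lit 16576, nat_lit 21184, nat_lit 25344, nat_lit 28928, nat_lit 33792, nat_lit 41472, nat_lit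 38112, nat_lit 32896, nat_lit 28798, nat_lit 24583, nat_lit 20501, nat_lit 16420, nat_lit 8194, nat_lit 4097, nat_lit 2]⟩⟩⟩⟩]

theorem dcMr492 : Rng dcM 492 494 := Rng.of (l := dcMc492) (by decide +kernel)

def dcMc494 : List Cert := [.edge ⟨[nat_lit 14, nat_lit 62], [nat_lit 32, nat_lit 92], ⟨[nat_lit 0x55c0f0a1d6ab16329c92342334b454], [nat_lit 173056, nat_lit 168448, nat_lit 167168, nat_lit 155776, nat_lit 151808, nat_lit 148928, nat_lit 145064, nat_lit 140036, nat_lit 135422, nat_lit 131618, nat_lit 460, nat_lit 5568, nat_lit 8224, nat_lit 14144, nat_lit 17664, nat_lit 20736, nat_lit 26368, nat_lit 41536, nat_lit 37268, nat_lit 29204, nat_lit 24597, nat_lit 20488, nat_lit 16454, nat_lit 12326, nat_lit 8203, nat_lit 4104, nat_lit 4]⟩⟩ ⟨(nat_lit 2), ⟨[nat_lit 483, nat_lit 483, nat_lit 487, nat_lit 479, nat_lit 487], [], (nat_lit 984), ⟨[nat_lit 81, nat_lit 62], [nat_lit 13, nat_lit 53], ⟨[nat_lit 0x9a4c7147155270392e96d9e8582a2],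 [nat_lit 168960, nat_lit 164864, nat_lit 162816, nat_lit 156544, nat_lit 152864, nat_lit 148960, nat_lit 143632, nat_lit 141260, nat_lit 135482, nat_lit 131332, nat_lit 1766, nat_lit 5856, nat_lit 8320, nat_lit 13744, nat_lit 17344, nat_lit 21056, nat_lit 25472, nat_lit 28928, nat_lit 33280, nat_lit 37888, nat_lit 41231, nat_lit 37304, nat_lit 32998, nat_lit 28696, nat_lit 24870, nat_lit 20494, nat_lit 16520, nat_lit 12290, nat_lit 8195, nat_lit 4100, nat_lit 2]⟩⟩⟩, ⟨[nat_lit 225, nat_lit 225, nat_lit 262, nat_lit 260, nat_lit 224, nat_lit 225], [], (nat_lit 640), ⟨[nat_lit 22, nat_lit 68], [nat_lit 0, nat_lit 27, nat_lit 92], ⟨[nat_lit 0x74c466c881bd156aa1690320538df1], [nat_lit 168448, nat_lit 164864, nat_lit 161280, nat_lit 156544, nat_lit 153152, nat_lit 148608, nat_lit 145160, nat_lit 140120, nat_lit 135666, nat_lit 1694, nat_lit 5992, nat_lit 8864, nat_lit 13664, nat_lit 16512, nat_lit 20800, nat_lit 25088, nat_lit 29184,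 nat_lit 41270, nat_lit 37008, nat_lit 33816, nat_lit 29264, nat_lit 24714, nat_lit 20750, nat_lit 16896, nat_lit 12355, nat_lit 8450, nat_lit 4160, nat_lit 8]⟩⟩⟩⟩,
  .edge ⟨[nat_lit 0, nat_lit 36, nat_lit 89], [nat_lit 0, nat_lit 1, nat_lit 67], ⟨[nat_lit 0x83dac59a802550351ee193a33b0925], [nat_lit 174080, nat_lit 168448, nat_lit 164096, nat_lit 161152, nat_lit 156608, nat_lit 152064, nat_lit 149072, nat_lit 144904, nat_lit 140492, nat_lit 136074, nat_lit 132278, nat_lit 568, nat_lit 4548, nat_lit 9216, nat_lit 12400, nat_lit 17824, nat_lit 20608, nat_lit 26112, nat_lit 28928, nat_lit 33280, nat_lit 37888, nat_lit 41492, nat_lit 37280, nat_lit 33382, nat_lit 28998, nat_lit 24585, nat_lit 21002, nat_lit 16387, nat_lit 12323, nat_lit 8]⟩⟩ ⟨(nat_lit 2), ⟨[nat_lit 489, nat_lit 486, nat_lit 484, nat_lit 479, nat_lit 486, nat_lit 479], [], (nat_lit 984), ⟨[nat_lit 28, nat_lit 68], [nat_lit 0, nat_lit 39, nat_lit 89], ⟨[nat_lit 0x6b8f74b0537822b2a15430ec185492],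 [nat_lit 168448, nat_lit 166912, nat_lit 160128, nat_lit 153920, nat_lit 151200, nat_lit 146176, nat_lit 142120, nat_lit 138178, nat_lit 131122, nat_lit 1762, nat_lit 4396, nat_lit 8488, nat_lit 13296, nat_lit 22464, nat_lit 25984, nat_lit 29952, nat_lit 33792, nat_lit 41002, nat_lit 37198, nat_lit 33340, nat_lit 28797, nat_lit 24746, nat_lit 20612, nat_lit 16388, nat_lit 12323, nat_lit 8211, nat_lit 4]⟩⟩⟩, ⟨[nat_lit 265, nat_lit 225, nat_lit 264, nat_lit 223, nat_lit 224, nat_lit 223], [], (nat_lit 498), ⟨[nat_lit 87, nat_lit 58], [nat_lit 0, nat_lit 7, nat_lit 91], ⟨[nat_lit 0x3a19094435112e5a0d4b7a4d3b01ae], [nat_lit 170496, nat_lit 165120, nat_lit 156864, nat_lit 151616, nat_lit 149264, nat_lit 143528, nat_lit 140220, nat_lit 137068, nat_lit 133012, nat_lit 1624, nat_lit 5024, nat_lit 8680, nat_lit 12976, nat_lit 16832, nat_lit 20928, nat_lit 25088, nat_lit 29696, nat_lit 41790, nat_lit 36962, nat_lit 34036, nat_lit 29002,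 nat_lit 24619, nat_lit 20555, nat_lit 17409, nat_lit 12310, nat_lit 8210, nat_lit 4112, nat_lit 2]⟩⟩⟩⟩]

theorem dcMr494 : Rng dcM 494 496 := Rng.of (l := dcMc494) (by decide +kernel)

def dcMc496 : List Cert := [.edge ⟨[nat_lit 0, nat_lit 31, nat_lit 57], [nat_lit 0, nat_lit 42, nat_lit 68], ⟨[nat_lit 0x39a8a02c37b312d712437c0459d511], [nat_lit 173056, nat_lit 171520, nat_lit 166656, nat_lit 162944, nat_lit 157760, nat_lit 152064, nat_lit 150656, nat_lit 147400, nat_lit 139480, nat_lit 138304, nat_lit 131976, nat_lit 1250, nat_lit 4824, nat_lit 9384, nat_lit 13984, nat_lit 17248, nat_lit 22080, nat_lit 29184, nat_lit 33280, nat_lit 37888, nat_lit 41794, nat_lit 36888, nat_lit 33002, nat_lit 29028, nat_lit 24847, nat_lit 20566, nat_lit 16417, nat_lit 12417, nat_lit 8200, nat_lit 4]⟩⟩ ⟨(nat_lit 2), ⟨[nat_lit 485, nat_lit 486, nat_lit 487, nat_lit 478, nat_lit 482, nat_lit 482], [], (nat_lit 984), ⟨[nat_lit 0, nat_lit 33, nat_lit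 50], [nat_lit 2, nat_lit 55], ⟨[nat_lit 0x24cc5b2dc35500db892fa85883c251], [nat_lit 173056, nat_lit 170496, nat_lit 165888, nat_lit 162432, nat_lit 157952, nat_lit 152192, nat_lit 150976, nat_lit 145824, nat_lit 139976, nat_lit 138050, nat_lit 1694, nat_lit 5080, nat_lit 8864, nat_lit 12800, nat_lit 17408, nat_lit 21952, nat_lit 25088, nat_lit 29184, nat_lit 33280, nat_lit 41944, nat_lit 37142, nat_lit 33468, nat_lit 29038, nat_lit 24718, nat_lit 20744, nat_lit 16900, nat_lit 12353, nat_lit 8322, nat_lit 8]⟩⟩⟩, ⟨[nat_lit 261, nat_lit 259, nat_lit 225, nat_lit 259, nat_lit 264, nat_lit 222], [], (nat_lit 608), ⟨[nat_lit 36], [nat_lit 6, nat_lit 59], ⟨[nat_lit 0x20295984f272af163ca2b260d1a0cb], [nat_lit 165120, nat_lit 161024, nat_lit 156480, nat_lit 151808, nat_lit 148480, nat_lit 143680, nat_lit 140368, nat_lit 138212, nat_lit 131520, nat_lit 566, nat_lit 5120, nat_lit 9680, nat_lit 13312, nat_lit 18368, nat_lit 21376, nat_lit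 29440, nat_lit 33280, nat_lit 37888, nat_lit 41172, nat_lit 37163, nat_lit 33341, nat_lit 29718, nat_lit 24704, nat_lit 21004, nat_lit 16393, nat_lit 12290, nat_lit 8225, nat_lit 16]⟩⟩⟩⟩]

theorem dcMr496 : Rng dcM 496 497 := Rng.of (l := dcMc496) (by decide +kernel)

def dcMc497 : List Cert := [.edge ⟨[nat_lit 0, nat_lit 14, nat_lit 59], [nat_lit 0, nat_lit 79, nat_lit 64], ⟨[nat_lit 0x14aaa819d1a30f71808d2bd690a276], [nat_lit 174080, nat_lit 168960, nat_lit 164096, nat_lit 161024, nat_lit 156800, nat_lit 152608, nat_lit 148992, nat_lit 144136, nat_lit 139492, nat_lit 136570, nat_lit 132924, nat_lit 1720, nat_lit 4340, nat_lit 8688, nat_lit 12704, nat_lit 16672, nat_lit 22400, nat_lit 29696, nat_lit 33792, nat_lit 41672, nat_lit 36932, nat_lit 32805, nat_lit 29718, nat_lit 24734, nat_lit 20746, nat_lit 16386, nat_lit 12321, nat_lit 8202, nat_lit 4097]⟩⟩ ⟨(nat_lit 2), ⟨[nat_lit 485, nat_lit 482, nat_lit 488, nat_lit 489, nat_lit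 489], [], (nat_lit 992), ⟨[nat_lit 0, nat_lit 17, nat_lit 66], [nat_lit 0, nat_lit 81, nat_lit 48], ⟨[nat_lit 0x448aa0b2eb059a934dcfa5604188f1], [nat_lit 168448, nat_lit 166144, nat_lit 159872, nat_lit 155776, nat_lit 155392, nat_lit 149504, nat_lit 145760, nat_lit 143212, nat_lit 138290, nat_lit 131595, nat_lit 1694, nat_lit 4924, nat_lit 8704, nat_lit 12800, nat_lit 16896, nat_lit 21312, nat_lit 24960, nat_lit 29440, nat_lit 34304, nat_lit 41279, nat_lit 36949, nat_lit 33813, nat_lit 28738, nat_lit 24742, nat_lit 20555, nat_lit 16386, nat_lit 12290, nat_lit 8194, nat_lit 4097, nat_lit 2]⟩⟩⟩, ⟨[nat_lit 288, nat_lit 355, nat_lit 284, nat_lit 288], [nat_lit 286, nat_lit 286, nat_lit 287, nat_lit 352, nat_lit 352], (nat_lit 993), ⟨[nat_lit 0, nat_lit 36, nat_lit 52], [nat_lit 14, nat_lit 57], ⟨[nat_lit 0x9b4b59588fb9a2e1a16aa40ec10121], [nat_lit 171008, nat_lit 165120, nat_lit 162048, nat_lit 156480, nat_lit 153824, nat_lit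 150176, nat_lit 146880, nat_lit 139776, nat_lit 135204, nat_lit 133612, nat_lit 698, nat_lit 5568, nat_lit 10104, nat_lit 12976, nat_lit 17984, nat_lit 21248, nat_lit 26112, nat_lit 28928, nat_lit 33792, nat_lit 41091, nat_lit 37011, nat_lit 32922, nat_lit 28980, nat_lit 24603, nat_lit 20490, nat_lit 16462, nat_lit 12295, nat_lit 8203, nat_lit 4104]⟩⟩⟩⟩]

theorem dcMr497 : Rng dcM 497 498 := Rng.of (l := dcMc497) (by decide +kernel)

def dcMc498 : List Cert := [.edge ⟨[nat_lit 0, nat_lit 88, nat_lit 64], [nat_lit 24, nat_lit 49], ⟨[nat_lit 0x5be47530d1b86d510c1423933815a8], [nat_lit 168960, nat_lit 166400, nat_lit 160256, nat_lit 156736, nat_lit 155616, nat_lit 151360, nat_lit 147416, nat_lit 141496, nat_lit 138228, nat_lit 131740, nat_lit 236, nat_lit 4156, nat_lit 8728, nat_lit 13744, nat_lit 18112, nat_lit 20608, nat_lit 25088, nat_lit 29184, nat_lit 33280, nat_lit 37888, nat_lit 41438, nat_lit 37122, nat_lit 32930, nat_lit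 29034, nat_lit 24714, nat_lit 20759, nat_lit 16416, nat_lit 12418, nat_lit 8211, nat_lit 4097, nat_lit 2]⟩⟩ ⟨(nat_lit 2), ⟨[nat_lit 485, nat_lit 483, nat_lit 488, nat_lit 483, nat_lit 478, nat_lit 484], [], (nat_lit 984), ⟨[nat_lit 43, nat_lit 53], [nat_lit 30, nat_lit 51], ⟨[nat_lit 0xa8b591ccda5e6f8a50e202cb14183], [nat_lit 175104, nat_lit 168960, nat_lit 165632, nat_lit 163072, nat_lit 157440, nat_lit 153504, nat_lit 150288, nat_lit 145456, nat_lit 142812, nat_lit 138928, nat_lit 133611, nat_lit 1174, nat_lit 4404, nat_lit 8256, nat_lit 12352, nat_lit 16576, nat_lit 21120, nat_lit 25472, nat_lit 29440, nat_lit 41962, nat_lit 38179, nat_lit 33943, nat_lit 29211, nat_lit 24724, nat_lit 20508, nat_lit 16427, nat_lit 12293, nat_lit 8200, nat_lit 4097]⟩⟩⟩, ⟨[nat_lit 261, nat_lit 222, nat_lit 264, nat_lit 263, nat_lit 224], [], (nat_lit 616), ⟨[nat_lit 0, nat_lit 74, nat_lit 49], [nat_lit 39, nat_lit 50], ⟨[nat_lit 0x5946d350f183997aa26a78124906c2],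 [nat_lit 169472, nat_lit 165120, nat_lit 161280, nat_lit 156800, nat_lit 155424, nat_lit 148000, nat_lit 143952, nat_lit 140068, nat_lit 136002, nat_lit 131947, nat_lit 700, nat_lit 4100, nat_lit 8224, nat_lit 13728, nat_lit 16416, nat_lit 20800, nat_lit 25344, nat_lit 29696, nat_lit 34304, nat_lit 37888, nat_lit 41853, nat_lit 38170, nat_lit 33814, nat_lit 28706, nat_lit 24608, nat_lit 20561, nat_lit 12547, nat_lit 8194, nat_lit 4101, nat_lit 2]⟩⟩⟩⟩,
  .edge ⟨[nat_lit 0, nat_lit 74, nat_lit 68], [nat_lit 0, nat_lit 16, nat_lit 62], ⟨[nat_lit 0xb10020be49696ee641638ccd545147], [nat_lit 175104, nat_lit 169984, nat_lit 166656, nat_lit 160768, nat_lit 158208, nat_lit 155520, nat_lit 148032, nat_lit 147400, nat_lit 140044, nat_lit 137146, nat_lit 131347, nat_lit 1014, nat_lit 4384, nat_lit 9520, nat_lit 13920, nat_lit 17664, nat_lit 20736, nat_lit 25984, nat_lit 30208, nat_lit 33792, nat_lit 41553, nat_lit 38233, nat_lit 32992,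 nat_lit 29032, nat_lit 24606, nat_lit 20508, nat_lit 16417, nat_lit 8209, nat_lit 4161]⟩⟩ ⟨(nat_lit 2), ⟨[nat_lit 489, nat_lit 488, nat_lit 484, nat_lit 485, nat_lit 482, nat_lit 478], [], (nat_lit 996), ⟨[nat_lit 0, nat_lit 19, nat_lit 50], [nat_lit 77, nat_lit 67], ⟨[nat_lit 0x7a68e9dd111c1a7a840b22ac530a4c], [nat_lit 175104, nat_lit 169472, nat_lit 165376, nat_lit 158464, nat_lit 155296, nat_lit 150448, nat_lit 145392, nat_lit 142384, nat_lit 136128, nat_lit 133220, nat_lit 1354, nat_lit 4412, nat_lit 12992, nat_lit 18208, nat_lit 21056, nat_lit 26496, nat_lit 29696, nat_lit 33792, nat_lit 37888, nat_lit 41594, nat_lit 38265, nat_lit 33446, nat_lit 28969, nat_lit 25657, nat_lit 20754, nat_lit 16420, nat_lit 12423, nat_lit 8195, nat_lit 4097]⟩⟩⟩, ⟨[nat_lit 285, nat_lit 357, nat_lit 352, nat_lit 286, nat_lit 356, nat_lit 284], [], (nat_lit 686), ⟨[nat_lit 28, nat_lit 49], [nat_lit 71, nat_lit 68], ⟨[nat_lit 0x9a20d6082bac8c089c777aa96710a9],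 [nat_lit 168960, nat_lit 165120, nat_lit 159872, nat_lit 157056, nat_lit 152160, nat_lit 148512, nat_lit 143832, nat_lit 143100, nat_lit 136310, nat_lit 131812, nat_lit 1918, nat_lit 5444, nat_lit 8208, nat_lit 12576, nat_lit 16512, nat_lit 21568, nat_lit 25344, nat_lit 30464, nat_lit 33280, nat_lit 37888, nat_lit 41545, nat_lit 36930, nat_lit 32811, nat_lit 28788, nat_lit 24634, nat_lit 20553, nat_lit 16391, nat_lit 12354, nat_lit 4113, nat_lit 16]⟩⟩⟩⟩]

theorem dcMr498 : Rng dcM 498 500 := Rng.of (l := dcMc498) (by decide +kernel)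

def dcMc500 : List Cert := [.edge ⟨[nat_lit 78, nat_lit 58], [nat_lit 45, nat_lit 46], ⟨[nat_lit 0x25035882a24a076d6ee65a8f8ccc5], [nat_lit 168960, nat_lit 164096, nat_lit 157056, nat_lit 151776, nat_lit 149456, nat_lit 144800, nat_lit 143156, nat_lit 135732, nat_lit 131752, nat_lit 718, nat_lit 5120, nat_lit 8320, nat_lit 13664, nat_lit 16928, nat_lit 21952, nat_lit 26496, nat_lit 29184, nat_lit 34304, nat_lit 37888, nat_lit 41427, nat_lit 36998, nat_lit 32912, nat_lit 28772, nat_lit 24765, nat_lit 20492, nat_lit 16453, nat_lit 12304, nat_lit 8193, nat_lit 4608, nat_lit 4]⟩⟩ ⟨(nat_lit 2), ⟨[nat_lit 479, nat_lit 481, nat_lit 483, nat_lit 486, nat_lit 478], [], (nat_lit 988), ⟨[nat_lit 90], [nat_lit 0, nat_lit 31, nat_lit 63], ⟨[nat_lit 0x8d690bce56014c16ad0e7a92c21c62], [nat_lit 173056, nat_lit 171520, nat_lit 165120, nat_lit 160128, nat_lit 158912, nat_lit 152704, nat_lit 147968, nat_lit 146424, nat_lit 141420, nat_lit 137540,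 nat_lit 133843, nat_lit 586, nat_lit 4404, nat_lit 9920, nat_lit 12304, nat_lit 18112, nat_lit 21056, nat_lit 24960, nat_lit 30208, nat_lit 33280, nat_lit 41868, nat_lit 38089, nat_lit 32817, nat_lit 28727, nat_lit 24578, nat_lit 20626, nat_lit 16399, nat_lit 12306, nat_lit 8201, nat_lit 4112]⟩⟩⟩, ⟨[nat_lit 351, nat_lit 357, nat_lit 354, nat_lit 351, nat_lit 351], [], (nat_lit 646), ⟨[nat_lit 0, nat_lit 48], [nat_lit 38, nat_lit 94], ⟨[nat_lit 0xa3d8a3826e322e482635586c21c9a5], [nat_lit 173056, nat_lit 168960, nat_lit 165632, nat_lit 157632, nat_lit 152160, nat_lit 148656, nat_lit 145336, nat_lit 140260, nat_lit 136432, nat_lit 134349, nat_lit 128, nat_lit 5884, nat_lit 12416, nat_lit 18336, nat_lit 20800, nat_lit 26240, nat_lit 29952, nat_lit 33792, nat_lit 37888, nat_lit 41695, nat_lit 37138, nat_lit 33022, nat_lit 28696, nat_lit 24875, nat_lit 20494, nat_lit 16448, nat_lit 12289, nat_lit 8208, nat_lit 4128]⟩⟩⟩⟩]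

theorem dcMr500 : Rng dcM 500 501 := Rng.of (l := dcMc500) (by decide +kernel)

def dcMc501 : List Cert := [.edge ⟨[nat_lit 0, nat_lit 18, nat_lit 61], [nat_lit 0, nat_lit 84, nat_lit 51], ⟨[nat_lit 0x24d260402b289f76d46745a54645ca], [nat_lit 173056, nat_lit 169472, nat_lit 164608, nat_lit 161280, nat_lit 158016, nat_lit 152832, nat_lit 147568, nat_lit 145032, nat_lit 139976, nat_lit 135536, nat_lit 132092, nat_lit 1874, nat_lit 5768, nat_lit 9648, nat_lit 13424, nat_lit 17760, nat_lit 21504, nat_lit 25600, nat_lit 30464, nat_lit 41763, nat_lit 38393, nat_lit 33902, nat_lit 29210, nat_lit 24626, nat_lit 20562, nat_lit 16450, nat_lit 12547, nat_lit 8202, nat_lit 4104]⟩⟩ ⟨(nat_lit 2), ⟨[nat_lit 486, nat_lit 481, nat_lit 487, nat_lit 487, nat_lit 478], [], (nat_lit 988), ⟨[nat_lit 0, nat_lit 33, nat_lit 58], [nat_lit 0, nat_lit 67], ⟨[nat_lit 0x65aed91e2540d420a56099206aba8f], [nat_lit 175104, nat_lit 168960, nat_lit 165376,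 nat_lit 161920, nat_lit 156352, nat_lit 152640, nat_lit 150816, nat_lit 146344, nat_lit 141764, nat_lit 137346, nat_lit 134902, nat_lit 1014, nat_lit 4664, nat_lit 8408, nat_lit 12736, nat_lit 17664, nat_lit 20608, nat_lit 24704, nat_lit 30208, nat_lit 37888, nat_lit 41785, nat_lit 38160, nat_lit 33799, nat_lit 28777, nat_lit 24704, nat_lit 20547, nat_lit 16647, nat_lit 12309, nat_lit 8193, nat_lit 4129]⟩⟩⟩, ⟨[nat_lit 285, nat_lit 351, nat_lit 357, nat_lit 351, nat_lit 285], [nat_lit 355, nat_lit 357, nat_lit 352, nat_lit 357, nat_lit 353], (nat_lit 989), ⟨[nat_lit 0, nat_lit 6, nat_lit 62], [nat_lit 0, nat_lit 23, nat_lit 50], ⟨[nat_lit 0x12903944a70ac09bb1b684c86aba8f], [nat_lit 171520, nat_lit 161408, nat_lit 156544, nat_lit 152576, nat_lit 147536, nat_lit 143424, nat_lit 139668, nat_lit 136766, nat_lit 132212, nat_lit 394, nat_lit 4880, nat_lit 9648, nat_lit 13664, nat_lit 17408, nat_lit 22336, nat_lit 25984, nat_lit 30208,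 nat_lit 41781, nat_lit 38325, nat_lit 34006, nat_lit 29043, nat_lit 24613, nat_lit 20488, nat_lit 16512, nat_lit 12289, nat_lit 4353, nat_lit 8]⟩⟩⟩⟩,
  .edge ⟨[nat_lit 0, nat_lit 43, nat_lit 69], [nat_lit 0, nat_lit 1, nat_lit 68], ⟨[nat_lit 0xa4dae2bc4b60d06246c70c017aa932], [nat_lit 175104, nat_lit 170496, nat_lit 166144, nat_lit 161152, nat_lit 157824, nat_lit 153760, nat_lit 148576, nat_lit 145648, nat_lit 140344, nat_lit 136844, nat_lit 132096, nat_lit 1810, nat_lit 4780, nat_lit 10160, nat_lit 13968, nat_lit 18240, nat_lit 22144, nat_lit 26240, nat_lit 29952, nat_lit 37888, nat_lit 41976, nat_lit 37940, nat_lit 33497, nat_lit 29227, nat_lit 24638, nat_lit 20508, nat_lit 16431, nat_lit 12289, nat_lit 8225, nat_lit 4]⟩⟩ ⟨(nat_lit 2), ⟨[nat_lit 478, nat_lit 485, nat_lit 483, nat_lit 478, nat_lit 480], [], (nat_lit 1000), ⟨[nat_lit 6, nat_lit 47], [nat_lit 0, nat_lit 78, nat_lit 69], ⟨[nat_lit 0x6b023846d4ace577804e2a4e832964],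 [nat_lit 169984, nat_lit 164864, nat_lit 160384, nat_lit 157312, nat_lit 153472, nat_lit 148800, nat_lit 144000, nat_lit 141140, nat_lit 136958, nat_lit 131533, nat_lit 1794, nat_lit 4568, nat_lit 9096, nat_lit 13312, nat_lit 16640, nat_lit 21504, nat_lit 25600, nat_lit 30464, nat_lit 34304, nat_lit 37888, nat_lit 41366, nat_lit 36963, nat_lit 32828, nat_lit 29699, nat_lit 25091, nat_lit 20552, nat_lit 16517, nat_lit 12320, nat_lit 8320, nat_lit 4]⟩⟩⟩, ⟨[nat_lit 355, nat_lit 351, nat_lit 284, nat_lit 288], [], (nat_lit 770), ⟨[nat_lit 44, nat_lit 94], [nat_lit 0, nat_lit 37, nat_lit 61], ⟨[nat_lit 0x9b52b512c2618b2a1d007c2b71b831], [nat_lit 165632, nat_lit 160128, nat_lit 156928, nat_lit 152736, nat_lit 149952, nat_lit 143640, nat_lit 140276, nat_lit 136944, nat_lit 131799, nat_lit 1652, nat_lit 4112, nat_lit 10144, nat_lit 12304, nat_lit 16896, nat_lit 22080, nat_lit 25472, nat_lit 34304, nat_lit 41936, nat_lit 37165, nat_lit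 33384, nat_lit 28791, nat_lit 24628, nat_lit 20574, nat_lit 16385, nat_lit 16]⟩⟩⟩⟩]

theorem dcMr501 : Rng dcM 501 503 := Rng.of (l := dcMc501) (by decide +kernel)

def dcMc503 : List Cert := [.edge ⟨[nat_lit 35, nat_lit 89], [nat_lit 0, nat_lit 75, nat_lit 51], ⟨[nat_lit 0x6364858c112d44ea5e097983699d44], [nat_lit 168960, nat_lit 164352, nat_lit 160512, nat_lit 157440, nat_lit 151584, nat_lit 149072, nat_lit 146640, nat_lit 140568, nat_lit 135224, nat_lit 132631, nat_lit 1794, nat_lit 5544, nat_lit 9104, nat_lit 14016, nat_lit 18112, nat_lit 21056, nat_lit 25728, nat_lit 33280, nat_lit 41544, nat_lit 37931, nat_lit 33014, nat_lit 28948, nat_lit 24584, nat_lit 20618, nat_lit 16395, nat_lit 12310, nat_lit 8193, nat_lit 4112, nat_lit 2]⟩⟩ ⟨(nat_lit 2), ⟨[nat_lit 481, nat_lit 486, nat_lit 478, nat_lit 478, nat_lit 486, nat_lit 480], [], (nat_lit 986), ⟨[nat_lit 0, nat_lit 88, nat_lit 66], [nat_lit 0, nat_lit 72, nat_lit 46],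 ⟨[nat_lit 0x64df73d491925565b8c1a08702b500], [nat_lit 174080, nat_lit 169984, nat_lit 164608, nat_lit 161920, nat_lit 159296, nat_lit 154112, nat_lit 145144, nat_lit 140188, nat_lit 137606, nat_lit 134088, nat_lit 256, nat_lit 5856, nat_lit 8680, nat_lit 13328, nat_lit 17472, nat_lit 22080, nat_lit 25088, nat_lit 29184, nat_lit 33280, nat_lit 41727, nat_lit 38316, nat_lit 32929, nat_lit 29050, nat_lit 24728, nat_lit 20751, nat_lit 16520, nat_lit 12325, nat_lit 8194, nat_lit 4097, nat_lit 2]⟩⟩⟩, ⟨[nat_lit 224, nat_lit 264, nat_lit 224, nat_lit 260], [], (nat_lit 626), ⟨[nat_lit 24, nat_lit 62], [nat_lit 0, nat_lit 11, nat_lit 51], ⟨[nat_lit 0xba12271152a18e3042d30beac8b4ab], [nat_lit 173056, nat_lit 168448, nat_lit 165632, nat_lit 161024, nat_lit 157376, nat_lit 152800, nat_lit 151312, nat_lit 144552, nat_lit 139372, nat_lit 135742, nat_lit 132873, nat_lit 566, nat_lit 4952, nat_lit 8928, nat_lit 12912, nat_lit 16512, nat_lit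 21056, nat_lit 25728, nat_lit 41224, nat_lit 37333, nat_lit 33356, nat_lit 28773, nat_lit 24757, nat_lit 20500, nat_lit 16390, nat_lit 12545, nat_lit 8209, nat_lit 4101, nat_lit 4]⟩⟩⟩⟩,
  .edge ⟨[nat_lit 42, nat_lit 53], [nat_lit 28, nat_lit 66], ⟨[nat_lit 0x41cf5cd032aaad15a3431e4122597], [nat_lit 170496, nat_lit 164864, nat_lit 160512, nat_lit 158080, nat_lit 152896, nat_lit 147776, nat_lit 146560, nat_lit 143336, nat_lit 138042, nat_lit 133270, nat_lit 1354, nat_lit 5688, nat_lit 9192, nat_lit 13552, nat_lit 17088, nat_lit 22336, nat_lit 24832, nat_lit 29440, nat_lit 34304, nat_lit 37888, nat_lit 40976, nat_lit 37341, nat_lit 33376, nat_lit 28765, nat_lit 24760, nat_lit 20544, nat_lit 16391, nat_lit 12293, nat_lit 8202, nat_lit 4097, nat_lit 2]⟩⟩ ⟨(nat_lit 2), ⟨[nat_lit 482, nat_lit 478, nat_lit 480, nat_lit 487], [], (nat_lit 988), ⟨[nat_lit 0, nat_lit 18, nat_lit 62], [nat_lit 19, nat_lit 67], ⟨[nat_lit 0x84cc49162740943bb2cda55cf02561],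 [nat_lit 173056, nat_lit 168960, nat_lit 162176, nat_lit 157248, nat_lit 153536, nat_lit 149056, nat_lit 145040, nat_lit 140912, nat_lit 136254, nat_lit 131942, nat_lit 2, nat_lit 4952, nat_lit 9752, nat_lit 13264, nat_lit 17440, nat_lit 21632, nat_lit 25728, nat_lit 34304, nat_lit 41569, nat_lit 36992, nat_lit 32863, nat_lit 29276, nat_lit 24729, nat_lit 20496, nat_lit 16392, nat_lit 12291, nat_lit 8194, nat_lit 8]⟩⟩⟩, ⟨[nat_lit 356, nat_lit 284, nat_lit 284], [nat_lit 355, nat_lit 286, nat_lit 354, nat_lit 284], (nat_lit 719), ⟨[nat_lit 36, nat_lit 63], [nat_lit 19, nat_lit 90], ⟨[nat_lit 0x6bd699c2b76214ea4a3600ca4388c1], [nat_lit 164864, nat_lit 159168, nat_lit 152800, nat_lit 149072, nat_lit 144936, nat_lit 140968, nat_lit 136390, nat_lit 132365, nat_lit 1180, nat_lit 5120, nat_lit 8256, nat_lit 13536, nat_lit 16448, nat_lit 22464, nat_lit 25600, nat_lit 29696, nat_lit 41832, nat_lit 37087, nat_lit 32997, nat_lit 28736,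 nat_lit 24585, nat_lit 20739, nat_lit 12354, nat_lit 4105, nat_lit 8]⟩⟩⟩⟩]

theorem dcMr503 : Rng dcM 503 505 := Rng.of (l := dcMc503) (by decide +kernel)

def dcMc505 : List Cert := [.edge ⟨[nat_lit 0, nat_lit 31, nat_lit 58], [nat_lit 0, nat_lit 75, nat_lit 61], ⟨[nat_lit 0xbb48b931e275126401508d47639433], [nat_lit 173056, nat_lit 166912, nat_lit 160000, nat_lit 157184, nat_lit 154656, nat_lit 151056, nat_lit 146536, nat_lit 142964, nat_lit 138614, nat_lit 132987, nat_lit 880, nat_lit 4224, nat_lit 8504, nat_lit 14224, nat_lit 18112, nat_lit 21056, nat_lit 25600, nat_lit 29952, nat_lit 41813, nat_lit 38059, nat_lit 32966, nat_lit 28766, nat_lit 24618, nat_lit 20550, nat_lit 16399, nat_lit 12310, nat_lit 8194, nat_lit 4100]⟩⟩ ⟨(nat_lit 2), ⟨[nat_lit 478, nat_lit 483, nat_lit 486, nat_lit 488], [], (nat_lit 994), ⟨[nat_lit 0, nat_lit 35, nat_lit 65], [nat_lit 0, nat_lit 9, nat_lit 62], ⟨[nat_lit 0xac0499126ca3ae53a14d1bc060da2b],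 [nat_lit 173056, nat_lit 168960, nat_lit 164096, nat_lit 161408, nat_lit 156288, nat_lit 153568, nat_lit 151216, nat_lit 143664, nat_lit 139272, nat_lit 135400, nat_lit 132982, nat_lit 354, nat_lit 4568, nat_lit 9752, nat_lit 12736, nat_lit 17408, nat_lit 20736, nat_lit 26112, nat_lit 29696, nat_lit 41912, nat_lit 38301, nat_lit 33831, nat_lit 29044, nat_lit 24709, nat_lit 20568, nat_lit 12290, nat_lit 8225, nat_lit 4101, nat_lit 4]⟩⟩⟩, ⟨[nat_lit 479, nat_lit 489, nat_lit 479, nat_lit 483, nat_lit 489], [], (nat_lit 1006), ⟨[nat_lit 87, nat_lit 62], [nat_lit 0, nat_lit 23, nat_lit 91], ⟨[nat_lit 0x1bd842dec1455b03a922918135c5d4], [nat_lit 175104, nat_lit 169472, nat_lit 164864, nat_lit 160256, nat_lit 158592, nat_lit 155264, nat_lit 150368, nat_lit 144816, nat_lit 142240, nat_lit 136680, nat_lit 133252, nat_lit 1108, nat_lit 5228, nat_lit 9648, nat_lit 13264, nat_lit 18368, nat_lit 22464, nat_lit 25984, nat_lit 29440, nat_lit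 33792, nat_lit 41569, nat_lit 38285, nat_lit 33337, nat_lit 28945, nat_lit 24623, nat_lit 20497, nat_lit 16423, nat_lit 12352, nat_lit 8202, nat_lit 4104]⟩⟩⟩⟩,
  .edge ⟨[nat_lit 43, nat_lit 63], [nat_lit 11, nat_lit 51], ⟨[nat_lit 0x638896da43a9d1485de08cd46588a1], [nat_lit 171520, nat_lit 164864, nat_lit 162688, nat_lit 156864, nat_lit 153728, nat_lit 150576, nat_lit 145480, nat_lit 140352, nat_lit 135818, nat_lit 133305, nat_lit 698, nat_lit 4224, nat_lit 8320, nat_lit 13264, nat_lit 18368, nat_lit 21568, nat_lit 24960, nat_lit 29696, nat_lit 33792, nat_lit 41718, nat_lit 38005, nat_lit 32808, nat_lit 28794, nat_lit 24737, nat_lit 20639, nat_lit 16456, nat_lit 12289, nat_lit 8195, nat_lit 4097]⟩⟩ ⟨(nat_lit 2), ⟨[nat_lit 483, nat_lit 487, nat_lit 489, nat_lit 487], [], (nat_lit 1010), ⟨[nat_lit 86, nat_lit 70], [nat_lit 41, nat_lit 58], ⟨[nat_lit 0x73dac390a6bd6d41882052d288c272], [nat_lit 173056, nat_lit 168960, nat_lit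 160000, nat_lit 156800, nat_lit 152160, nat_lit 149600, nat_lit 144312, nat_lit 141240, nat_lit 137088, nat_lit 131135, nat_lit 590, nat_lit 4412, nat_lit 8864, nat_lit 14064, nat_lit 16640, nat_lit 21056, nat_lit 25600, nat_lit 29184, nat_lit 41302, nat_lit 37264, nat_lit 32803, nat_lit 29194, nat_lit 25606, nat_lit 20753, nat_lit 12418, nat_lit 9218, nat_lit 4129, nat_lit 2]⟩⟩⟩, ⟨[nat_lit 285, nat_lit 351, nat_lit 284], [nat_lit 355, nat_lit 286, nat_lit 354, nat_lit 284], (nat_lit 719), ⟨[nat_lit 84, nat_lit 68], [nat_lit 50], ⟨[nat_lit 0x9c941b0aa8a1a0c781ab215233de2e], [nat_lit 173056, nat_lit 168960, nat_lit 164608, nat_lit 161664, nat_lit 156032, nat_lit 153568, nat_lit 148688, nat_lit 144784, nat_lit 143288, nat_lit 136364, nat_lit 132334, nat_lit 960, nat_lit 5468, nat_lit 9648, nat_lit 12800, nat_lit 18336, nat_lit 20672, nat_lit 25728, nat_lit 29952, nat_lit 33280, nat_lit 41364, nat_lit 37211, nat_lit 32898, nat_lit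 29036, nat_lit 24762, nat_lit 20506, nat_lit 16396, nat_lit 12307, nat_lit 8202, nat_lit 4105, nat_lit 4]⟩⟩⟩⟩]

theorem dcMr505 : Rng dcM 505 507 := Rng.of (l := dcMc505) (by decide +kernel)

def dcMc507 : List Cert := [.stab (nat_lit 983) tw0 ⟨(nat_lit 0), ⟨[nat_lit 225, nat_lit 223, nat_lit 266, nat_lit 262, nat_lit 259, nat_lit 264], [nat_lit 222, nat_lit 259, nat_lit 225], (nat_lit 983), ⟨[nat_lit 0, nat_lit 57], [nat_lit 79, nat_lit 49], ⟨[nat_lit 0x426b4044525dd56391cc794cd80473], [nat_lit 173056, nat_lit 170496, nat_lit 164352, nat_lit 156288, nat_lit 151584, nat_lit 147520, nat_lit 145392, nat_lit 139676, nat_lit 135262, nat_lit 132030, nat_lit 78, nat_lit 4104, nat_lit 8504, nat_lit 12768, nat_lit 16512, nat_lit 20992, nat_lit 25472, nat_lit 30464, nat_lit 34304, nat_lit 37888, nat_lit 41856, nat_lit 37084, nat_lit 34030, nat_lit 29276, nat_lit 24878, nat_lit 16903, nat_lit 12307, nat_lit 8448, nat_lit 4100]⟩⟩⟩, ap0⟩,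
  .prod [] [nat_lit 479, nat_lit 481, nat_lit 481, nat_lit 481],
  .prod [] [nat_lit 508, nat_lit 479, nat_lit 507, nat_lit 480],
  .prod [] [nat_lit 507, nat_lit 480, nat_lit 507, nat_lit 480],
  .prod [] [nat_lit 508, nat_lit 510, nat_lit 508, nat_lit 478],
  .prod [] [nat_lit 479, nat_lit 510, nat_lit 508, nat_lit 511],
  .prod [] [nat_lit 478, nat_lit 509, nat_lit 481, nat_lit 507]]

theorem dcMr507 : Rng dcM 507 514 := Rng.of (l := dcMc507) (by decide +kernel)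

def dcMc514 : List Cert := [.prod [] [nat_lit 481, nat_lit 510, nat_lit 507, nat_lit 513],
  .edge tw0 ⟨(nat_lit 0), ⟨[nat_lit 11, nat_lit 11, nat_lit 7, nat_lit 9, nat_lit 4, nat_lit 3, nat_lit 0], [], (nat_lit 26), ⟨[nat_lit 24, nat_lit 90], [nat_lit 0, nat_lit 14, nat_lit 94], ⟨[nat_lit 0x8a2f61890196896ced7a9d405c90e], [nat_lit 175104, nat_lit 169472, nat_lit 164096, nat_lit 159872, nat_lit 157632, nat_lit 152448, nat_lit 149040, nat_lit 144216, nat_lit 139472, nat_lit 135362, nat_lit 132222, nat_lit 1972, nat_lit 4824, nat_lit 10160, nat_lit 13920, nat_lit 21120, nat_lit 25600, nat_lit 30208, nat_lit 33792, nat_lit 41843, nat_lit 38243, nat_lit 32961, nat_lit 29038, nat_lit 20615, nat_lit 16901, nat_lit 12322, nat_lit 8209, nat_lit 4104, nat_lit 16]⟩⟩⟩, ap0⟩,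
  .edge tw0 ⟨(nat_lit 0), ⟨[], [], (nat_lit 27), tw0⟩, ap0⟩,
  .edge tw0 ⟨(nat_lit 0), ⟨[], [], (nat_lit 41), tw0⟩, ap0⟩]

theorem dcMr514 : Rng dcM 514 518 := Rng.of (l := dcMc514) (by decide +kernel)

def dcMc518 : List Cert := [.edge tw0 ⟨(nat_lit 0), ⟨[nat_lit 27, nat_lit 24, nat_lit 21, nat_lit 22], [nat_lit 27, nat_lit 24, nat_lit 21, nat_lit 22], (nat_lit 71), tw0⟩, ap0⟩,
  .edge tw0 ⟨(nat_lit 0), ⟨[], [], (nat_lit 117), tw0⟩, ap0⟩,
  .edge tw0 ⟨(nat_lit 0), ⟨[], [], (nat_lit 119), tw0⟩, ap0⟩]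

theorem dcMr518 : Rng dcM 518 521 := Rng.of (l := dcMc518) (by decide +kernel)

def dcMc521 : List Cert := [.edge tw0 ⟨(nat_lit 0), ⟨[nat_lit 47, nat_lit 71, nat_lit 68, nat_lit 46, nat_lit 67, nat_lit 72, nat_lit 46], [nat_lit 47, nat_lit 71, nat_lit 68, nat_lit 46, nat_lit 67, nat_lit 72, nat_lit 46], (nat_lit 307), tw0⟩, ap0⟩,
  .edge tw0 ⟨(nat_lit 0), ⟨[nat_lit 49, nat_lit 73, nat_lit 69, nat_lit 46], [nat_lit 49, nat_lit 73, nat_lit 69, nat_lit 46], (nat_lit 181), tw0⟩, ap0⟩]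

theorem dcMr521 : Rng dcM 521 523 := Rng.of (l := dcMc521) (by decide +kernel)

def dcMc523 : List Cert := [.edge tw0 ⟨(nat_lit 0), ⟨[nat_lit 73, nat_lit 69, nat_lit 48, nat_lit 69, nat_lit 46], [nat_lit 73, nat_lit 69, nat_lit 48, nat_lit 69, nat_lit 46], (nat_lit 397), tw0⟩, ap0⟩,
  .edge tw0 ⟨(nat_lit 0), ⟨[nat_lit 104, nat_lit 79, nat_lit 106, nat_lit 76, nat_lit 77, nat_lit 77], [nat_lit 104, nat_lit 79, nat_lit 106, nat_lit 76, nat_lit 77, nat_lit 77], (nat_lit 1009), tw0⟩, ap0⟩]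

theorem dcMr523 : Rng dcM 523 525 := Rng.of (l := dcMc523) (by decide +kernel)

def dcMc525 : List Cert := [.edge tw0 ⟨(nat_lit 0), ⟨[nat_lit 131, nat_lit 135, nat_lit 110, nat_lit 111, nat_lit 136], [nat_lit 131, nat_lit 135, nat_lit 110, nat_lit 111, nat_lit 136], (nat_lit 365), tw0⟩, ap0⟩,
  .edge tw0 ⟨(nat_lit 0), ⟨[], [], (nat_lit 277), tw0⟩, ap0⟩,
  .edge tw0 ⟨(nat_lit 0), ⟨[nat_lit 145, nat_lit 150, nat_lit 145, nat_lit 140, nat_lit 145, nat_lit 139], [nat_lit 145, nat_lit 150, nat_lit 145, nat_lit 140, nat_lit 145, nat_lit 139], (nat_lit 659), tw0⟩, ap0⟩]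

theorem dcMr525 : Rng dcM 525 528 := Rng.of (l := dcMc525) (by decide +kernel)

def dcMc528 : List Cert := [.edge tw0 ⟨(nat_lit 0), ⟨[nat_lit 140, nat_lit 147, nat_lit 146, nat_lit 143, nat_lit 140], [nat_lit 140, nat_lit 147, nat_lit 146, nat_lit 143, nat_lit 140], (nat_lit 491), tw0⟩, ap0⟩,
  .edge tw0 ⟨(nat_lit 0), ⟨[nat_lit 148, nat_lit 142, nat_lit 140, nat_lit 141, nat_lit 141], [nat_lit 148, nat_lit 142, nat_lit 140, nat_lit 141, nat_lit 141], (nat_lit 691), tw0⟩, ap0⟩]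

theorem dcMr528 : Rng dcM 528 530 := Rng.of (l := dcMc528) (by decide +kernel)

def dcMc530 : List Cert := [.edge tw0 ⟨(nat_lit 0), ⟨[nat_lit 148, nat_lit 140, nat_lit 140, nat_lit 146, nat_lit 147], [nat_lit 148, nat_lit 140, nat_lit 140, nat_lit 146, nat_lit 147], (nat_lit 991), tw0⟩, ap0⟩,
  .edge tw0 ⟨(nat_lit 0), ⟨[], [], (nat_lit 655), tw0⟩, ap0⟩,
  .edge tw0 ⟨(nat_lit 0), ⟨[nat_lit 139, nat_lit 144, nat_lit 143, nat_lit 141, nat_lit 140], [nat_lit 139, nat_lit 144, nat_lit 143, nat_lit 141, nat_lit 140], (nat_lit 921), tw0⟩, ap0⟩]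

theorem dcMr530 : Rng dcM 530 533 := Rng.of (l := dcMc530) (by decide +kernel)

def dcMc533 : List Cert := [.edge tw0 ⟨(nat_lit 0), ⟨[nat_lit 145, nat_lit 150, nat_lit 148, nat_lit 143, nat_lit 139], [nat_lit 145, nat_lit 150, nat_lit 148, nat_lit 143, nat_lit 139], (nat_lit 645), tw0⟩, ap0⟩,
  .edge tw0 ⟨(nat_lit 0), ⟨[nat_lit 147, nat_lit 144, nat_lit 140, nat_lit 150, nat_lit 144], [nat_lit 147, nat_lit 144, nat_lit 140, nat_lit 150, nat_lit 144], (nat_lit 895), tw0⟩, ap0⟩]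

theorem dcMr533 : Rng dcM 533 535 := Rng.of (l := dcMc533) (by decide +kernel)

def dcMc535 : List Cert := [.edge tw0 ⟨(nat_lit 0), ⟨[nat_lit 142, nat_lit 147, nat_lit 148, nat_lit 141, nat_lit 139, nat_lit 139], [nat_lit 142, nat_lit 147, nat_lit 148, nat_lit 141, nat_lit 139, nat_lit 139], (nat_lit 317), tw0⟩, ap0⟩,
  .edge tw0 ⟨(nat_lit 0), ⟨[nat_lit 148, nat_lit 144, nat_lit 143, nat_lit 146], [nat_lit 148, nat_lit 144, nat_lit 143, nat_lit 146], (nat_lit 395), tw0⟩, ap0⟩]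

theorem dcMr535 : Rng dcM 535 537 := Rng.of (l := dcMc535) (by decide +kernel)

def dcMc537 : List Cert := [.edge tw0 ⟨(nat_lit 0), ⟨[nat_lit 144, nat_lit 150, nat_lit 146, nat_lit 142], [nat_lit 144, nat_lit 150, nat_lit 146, nat_lit 142], (nat_lit 385), tw0⟩, ap0⟩,
  .edge tw0 ⟨(nat_lit 0), ⟨[nat_lit 147, nat_lit 143, nat_lit 147, nat_lit 139], [nat_lit 147, nat_lit 143, nat_lit 147, nat_lit 139], (nat_lit 915), tw0⟩, ap0⟩]

theorem dcMr537 : Rng dcM 537 539 := Rng.of (l := dcMc537) (by decide +kernel)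

def dcMc539 : List Cert := [.edge tw0 ⟨(nat_lit 0), ⟨[nat_lit 141, nat_lit 140, nat_lit 149, nat_lit 144, nat_lit 148], [nat_lit 141, nat_lit 140, nat_lit 149, nat_lit 144, nat_lit 148], (nat_lit 331), tw0⟩, ap0⟩,
  .edge tw0 ⟨(nat_lit 0), ⟨[nat_lit 140, nat_lit 143, nat_lit 149, nat_lit 141, nat_lit 150, nat_lit 139], [nat_lit 140, nat_lit 143, nat_lit 149, nat_lit 141, nat_lit 150, nat_lit 139], (nat_lit 891), tw0⟩, ap0⟩]

theorem dcMr539 : Rng dcM 539 541 := Rng.of (l := dcMc539) (by decide +kernel)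

def dcMc541 : List Cert := [.edge tw0 ⟨(nat_lit 0), ⟨[nat_lit 149, nat_lit 143, nat_lit 145], [nat_lit 149, nat_lit 143, nat_lit 145], (nat_lit 311), tw0⟩, ap0⟩,
  .edge tw0 ⟨(nat_lit 0), ⟨[nat_lit 143, nat_lit 146, nat_lit 140], [nat_lit 143, nat_lit 146, nat_lit 140], (nat_lit 313), tw0⟩, ap0⟩,
  .edge tw0 ⟨(nat_lit 0), ⟨[nat_lit 148, nat_lit 140, nat_lit 141], [nat_lit 148, nat_lit 140, nat_lit 141], (nat_lit 309), tw0⟩, ap0⟩]

theorem dcMr541 : Rng dcM 541 544 := Rng.of (l := dcMc541) (by decide +kernel)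

def dcMc544 : List Cert := [.edge tw0 ⟨(nat_lit 0), ⟨[], [], (nat_lit 369), tw0⟩, ap0⟩,
  .edge tw0 ⟨(nat_lit 0), ⟨[], [], (nat_lit 415), tw0⟩, ap0⟩,
  .edge tw0 ⟨(nat_lit 0), ⟨[nat_lit 216, nat_lit 214, nat_lit 216, nat_lit 219, nat_lit 212, nat_lit 172, nat_lit 170], [nat_lit 216, nat_lit 214, nat_lit 216, nat_lit 219, nat_lit 212, nat_lit 172, nat_lit 170], (nat_lit 679), tw0⟩, ap0⟩]

theorem dcMr544 : Rng dcM 544 547 := Rng.of (l := dcMc544) (by decide +kernel)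

def dcMc547 : List Cert := [.edge tw0 ⟨(nat_lit 0), ⟨[], [], (nat_lit 469), tw0⟩, ap0⟩,
  .edge tw0 ⟨(nat_lit 0), ⟨[], [], (nat_lit 471), tw0⟩, ap0⟩,
  .edge tw0 ⟨(nat_lit 0), ⟨[], [], (nat_lit 473), tw0⟩, ap0⟩,
  .edge tw0 ⟨(nat_lit 0), ⟨[], [], (nat_lit 483), tw0⟩, ap0⟩,
  .edge tw0 ⟨(nat_lit 0), ⟨[], [], (nat_lit 485), tw0⟩, ap0⟩]

theorem dcMr547 : Rng dcM 547 552 := Rng.of (l := dcMc547) (by decide +kernel)

def dcMc552 : List Cert := [.edge tw0 ⟨(nat_lit 0), ⟨[], [], (nat_lit 487), tw0⟩, ap0⟩,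
  .edge tw0 ⟨(nat_lit 0), ⟨[], [], (nat_lit 507), tw0⟩, ap0⟩,
  .edge tw0 ⟨(nat_lit 0), ⟨[nat_lit 260, nat_lit 225, nat_lit 224, nat_lit 262, nat_lit 261], [nat_lit 260, nat_lit 225, nat_lit 224, nat_lit 262, nat_lit 261], (nat_lit 999), tw0⟩, ap0⟩]

theorem dcMr552 : Rng dcM 552 555 := Rng.of (l := dcMc552) (by decide +kernel)

def dcMc555 : List Cert := [.edge tw0 ⟨(nat_lit 0), ⟨[nat_lit 261, nat_lit 259, nat_lit 224, nat_lit 222, nat_lit 266], [nat_lit 261, nat_lit 259, nat_lit 224, nat_lit 222, nat_lit 266], (nat_lit 543), tw0⟩, ap0⟩,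
  .edge tw0 ⟨(nat_lit 0), ⟨[nat_lit 223, nat_lit 225, nat_lit 225, nat_lit 222, nat_lit 259], [nat_lit 223, nat_lit 225, nat_lit 225, nat_lit 222, nat_lit 259], (nat_lit 539), tw0⟩, ap0⟩]

theorem dcMr555 : Rng dcM 555 557 := Rng.of (l := dcMc555) (by decide +kernel)

def dcMc557 : List Cert := [.edge tw0 ⟨(nat_lit 0), ⟨[nat_lit 223, nat_lit 225, nat_lit 225, nat_lit 222, nat_lit 259], [nat_lit 223, nat_lit 225, nat_lit 225, nat_lit 222, nat_lit 259], (nat_lit 537), tw0⟩, ap0⟩,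
  .edge tw0 ⟨(nat_lit 0), ⟨[nat_lit 259, nat_lit 260, nat_lit 262, nat_lit 222, nat_lit 266], [nat_lit 259, nat_lit 260, nat_lit 262, nat_lit 222, nat_lit 266], (nat_lit 985), tw0⟩, ap0⟩]

theorem dcMr557 : Rng dcM 557 559 := Rng.of (l := dcMc557) (by decide +kernel)

def dcMc559 : List Cert := [.edge tw0 ⟨(nat_lit 0), ⟨[nat_lit 265, nat_lit 260, nat_lit 224, nat_lit 265, nat_lit 259], [nat_lit 265, nat_lit 260, nat_lit 224, nat_lit 265, nat_lit 259], (nat_lit 903), tw0⟩, ap0⟩,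
  .edge tw0 ⟨(nat_lit 0), ⟨[nat_lit 224, nat_lit 225, nat_lit 222], [nat_lit 224, nat_lit 225, nat_lit 222], (nat_lit 535), tw0⟩, ap0⟩,
  .edge tw0 ⟨(nat_lit 0), ⟨[nat_lit 222, nat_lit 259, nat_lit 225], [nat_lit 222, nat_lit 259, nat_lit 225], (nat_lit 983), tw0⟩, ap0⟩]

theorem dcMr559 : Rng dcM 559 562 := Rng.of (l := dcMc559) (by decide +kernel)

def dcMc562 : List Cert := [.edge tw0 ⟨(nat_lit 0), ⟨[], [], (nat_lit 567), tw0⟩, ap0⟩,
  .edge tw0 ⟨(nat_lit 0), ⟨[], [], (nat_lit 595), tw0⟩, ap0⟩,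
  .edge tw0 ⟨(nat_lit 0), ⟨[], [], (nat_lit 599), tw0⟩, ap0⟩,
  .edge tw0 ⟨(nat_lit 0), ⟨[], [], (nat_lit 603), tw0⟩, ap0⟩,
  .edge tw0 ⟨(nat_lit 0), ⟨[], [], (nat_lit 605), tw0⟩, ap0⟩]

theorem dcMr562 : Rng dcM 562 567 := Rng.of (l := dcMc562) (by decide +kernel)

def dcMc567 : List Cert := [.edge tw0 ⟨(nat_lit 0), ⟨[], [], (nat_lit 607), tw0⟩, ap0⟩,
  .edge tw0 ⟨(nat_lit 0), ⟨[], [], (nat_lit 609), tw0⟩, ap0⟩,
  .edge tw0 ⟨(nat_lit 0), ⟨[], [], (nat_lit 611), tw0⟩, ap0⟩,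
  .edge tw0 ⟨(nat_lit 0), ⟨[], [], (nat_lit 615), tw0⟩, ap0⟩,
  .edge tw0 ⟨(nat_lit 0), ⟨[], [], (nat_lit 619), tw0⟩, ap0⟩]

theorem dcMr567 : Rng dcM 567 572 := Rng.of (l := dcMc567) (by decide +kernel)

def dcMc572 : List Cert := [.edge tw0 ⟨(nat_lit 0), ⟨[], [], (nat_lit 621), tw0⟩, ap0⟩,
  .edge tw0 ⟨(nat_lit 0), ⟨[], [], (nat_lit 627), tw0⟩, ap0⟩,
  .edge tw0 ⟨(nat_lit 0), ⟨[], [], (nat_lit 633), tw0⟩, ap0⟩,
  .edge tw0 ⟨(nat_lit 0), ⟨[], [], (nat_lit 637), tw0⟩, ap0⟩,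
  .edge tw0 ⟨(nat_lit 0), ⟨[], [], (nat_lit 639), tw0⟩, ap0⟩]

theorem dcMr572 : Rng dcM 572 577 := Rng.of (l := dcMc572) (by decide +kernel)

def dcMc577 : List Cert := [.edge tw0 ⟨(nat_lit 0), ⟨[], [], (nat_lit 643), tw0⟩, ap0⟩,
  .edge tw0 ⟨(nat_lit 0), ⟨[], [], (nat_lit 665), tw0⟩, ap0⟩,
  .edge tw0 ⟨(nat_lit 0), ⟨[], [], (nat_lit 669), tw0⟩, ap0⟩,
  .edge tw0 ⟨(nat_lit 0), ⟨[], [], (nat_lit 675), tw0⟩, ap0⟩,
  .edge tw0 ⟨(nat_lit 0), ⟨[], [], (nat_lit 677), tw0⟩, ap0⟩]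

theorem dcMr577 : Rng dcM 577 582 := Rng.of (l := dcMc577) (by decide +kernel)

def dcMc582 : List Cert := [.edge tw0 ⟨(nat_lit 0), ⟨[], [], (nat_lit 685), tw0⟩, ap0⟩,
  .edge tw0 ⟨(nat_lit 0), ⟨[], [], (nat_lit 689), tw0⟩, ap0⟩,
  .edge tw0 ⟨(nat_lit 0), ⟨[nat_lit 285, nat_lit 284, nat_lit 352, nat_lit 286], [nat_lit 285, nat_lit 284, nat_lit 352, nat_lit 286], (nat_lit 749), tw0⟩, ap0⟩]

theorem dcMr582 : Rng dcM 582 585 := Rng.of (l := dcMc582) (by decide +kernel)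

def dcMc585 : List Cert := [.edge tw0 ⟨(nat_lit 0), ⟨[nat_lit 357, nat_lit 351, nat_lit 355, nat_lit 357, nat_lit 284], [nat_lit 357, nat_lit 351, nat_lit 355, nat_lit 357, nat_lit 284], (nat_lit 747), tw0⟩, ap0⟩,
  .edge tw0 ⟨(nat_lit 0), ⟨[nat_lit 356, nat_lit 285, nat_lit 355, nat_lit 352, nat_lit 287, nat_lit 286], [nat_lit 356, nat_lit 285, nat_lit 355, nat_lit 352, nat_lit 287, nat_lit 286], (nat_lit 757), tw0⟩, ap0⟩]

theorem dcMr585 : Rng dcM 585 587 := Rng.of (l := dcMc585) (by decide +kernel)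

def dcMc587 : List Cert := [.edge tw0 ⟨(nat_lit 0), ⟨[nat_lit 353, nat_lit 357, nat_lit 285, nat_lit 286, nat_lit 284], [nat_lit 353, nat_lit 357, nat_lit 285, nat_lit 286, nat_lit 284], (nat_lit 743), tw0⟩, ap0⟩,
  .edge tw0 ⟨(nat_lit 0), ⟨[nat_lit 288, nat_lit 286, nat_lit 356, nat_lit 286, nat_lit 284], [nat_lit 288, nat_lit 286, nat_lit 356, nat_lit 286, nat_lit 284], (nat_lit 737), tw0⟩, ap0⟩]

theorem dcMr587 : Rng dcM 587 589 := Rng.of (l := dcMc587) (by decide +kernel)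

def dcMc589 : List Cert := [.edge tw0 ⟨(nat_lit 0), ⟨[nat_lit 355, nat_lit 284, nat_lit 284, nat_lit 285], [nat_lit 355, nat_lit 284, nat_lit 284, nat_lit 285], (nat_lit 731), tw0⟩, ap0⟩,
  .edge tw0 ⟨(nat_lit 0), ⟨[nat_lit 286, nat_lit 286, nat_lit 287, nat_lit 352, nat_lit 352], [nat_lit 286, nat_lit 286, nat_lit 287, nat_lit 352, nat_lit 352], (nat_lit 993), tw0⟩, ap0⟩]

theorem dcMr589 : Rng dcM 589 591 := Rng.of (l := dcMc589) (by decide +kernel)

def dcMc591 : List Cert := [.edge tw0 ⟨(nat_lit 0), ⟨[nat_lit 356, nat_lit 357, nat_lit 356, nat_lit 353], [nat_lit 356, nat_lit 357, nat_lit 356, nat_lit 353], (nat_lit 725), tw0⟩, ap0⟩,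
  .edge tw0 ⟨(nat_lit 0), ⟨[nat_lit 284, nat_lit 286, nat_lit 352, nat_lit 288], [nat_lit 284, nat_lit 286, nat_lit 352, nat_lit 288], (nat_lit 733), tw0⟩, ap0⟩]

theorem dcMr591 : Rng dcM 591 593 := Rng.of (l := dcMc591) (by decide +kernel)

def dcMc593 : List Cert := [.edge tw0 ⟨(nat_lit 0), ⟨[nat_lit 355, nat_lit 357, nat_lit 352, nat_lit 357, nat_lit 353], [nat_lit 355, nat_lit 357, nat_lit 352, nat_lit 357, nat_lit 353], (nat_lit 989), tw0⟩, ap0⟩,
  .edge tw0 ⟨(nat_lit 0), ⟨[nat_lit 352, nat_lit 356, nat_lit 287, nat_lit 284], [nat_lit 352, nat_lit 356, nat_lit 287, nat_lit 284], (nat_lit 739), tw0⟩, ap0⟩]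

theorem dcMr593 : Rng dcM 593 595 := Rng.of (l := dcMc593) (by decide +kernel)

def dcMc595 : List Cert := [.edge tw0 ⟨(nat_lit 0), ⟨[nat_lit 354, nat_lit 286, nat_lit 351, nat_lit 286, nat_lit 284], [nat_lit 354, nat_lit 286, nat_lit 351, nat_lit 286, nat_lit 284], (nat_lit 727), tw0⟩, ap0⟩,
  .edge tw0 ⟨(nat_lit 0), ⟨[nat_lit 352, nat_lit 286, nat_lit 351], [nat_lit 352, nat_lit 286, nat_lit 351], (nat_lit 765), tw0⟩, ap0⟩]

theorem dcMr595 : Rng dcM 595 597 := Rng.of (l := dcMc595) (by decide +kernel)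

theorem dcMR3 : Rng dcM 439 597 := (dcMr439.trans (dcMr441.trans (dcMr443.trans (dcMr445.trans (dcMr446.trans (dcMr447.trans (dcMr449.trans (dcMr451.trans (dcMr453.trans (dcMr455.trans (dcMr457.trans (dcMr458.trans (dcMr460.trans (dcMr462.trans (dcMr469.trans (dcMr471.trans (dcMr473.trans (dcMr475.trans (dcMr478.trans (dcMr481.trans (dcMr488.trans (dcMr492.trans (dcMr494.trans (dcMr496.trans (dcMr497.trans (dcMr498.trans (dcMr500.trans (dcMr501.trans (dcMr503.trans (dcMr505.trans (dcMr507.trans (dcMr514.trans (dcMr518.trans (dcMr521.trans (dcMr523.trans (dcMr525.trans (dcMr528.trans (dcMr530.trans (dcMr533.trans (dcMr535.trans (dcMr537.trans (dcMr539.trans (dcMr541.trans (dcMr544.trans (dcMr547.trans (dcMr552.trans (dcMr555.trans (dcMr557.trans (dcMr559.trans (dcMr562.trans (dcMr567.trans (dcMr572.trans (dcMr577.trans (dcMr582.trans (dcMr585.trans (dcMr587.trans (dcMr589.trans (dcMr591.trans (dcMr593.trans dcMr595)))))))))))))))))))))))))))))))))))))))))))))))))))))))))))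

end

end CF.Mon
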