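import Cfsg.Agent.Mon.DcMC

set_option autoImplicit false
set_option maxRecDepth 100000

namespace CF.Mon

open CF.Comp

noncomputable section

def dcMc597 : List Cert := [.edge tw0 ⟨(nat_lit 0), ⟨[nat_lit 354, nat_lit 356, nat_lit 285, nat_lit 353, nat_lit 286], [nat_lit 354, nat_lit 356, nat_lit 285, nat_lit 353, nat_lit 286], (nat_lit 773), tw0⟩, ap0⟩,
  .edge tw0 ⟨(nat_lit 0), ⟨[nat_lit 355, nat_lit 357, nat_lit 287, nat_lit 356, nat_lit 285], [nat_lit 355, nat_lit 357, nat_lit 287, nat_lit 356, nat_lit 285], (nat_lit 791), tw0⟩, ap0⟩]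

theorem dcMr597 : Rng dcM 597 599 := Rng.of (l := dcMc597) (by decide +kernel)

def dcMc599 : List Cert := [.edge tw0 ⟨(nat_lit 0), ⟨[nat_lit 354, nat_lit 351, nat_lit 356, nat_lit 287, nat_lit 284], [nat_lit 354, nat_lit 351, nat_lit 356, nat_lit 287, nat_lit 284], (nat_lit 745), tw0⟩, ap0⟩,
  .edge tw0 ⟨(nat_lit 0), ⟨[nat_lit 354, nat_lit 351, nat_lit 356, nat_lit 287, nat_lit 284], [nat_lit 354, nat_lit 351, nat_lit 356, nat_lit 287, nat_lit 284], (nat_lit 759), tw0⟩, ap0⟩]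

theorem dcMr599 : Rng dcM 599 601 := Rng.of (l := dcMc599) (by decide +kernel)

def dcMc601 : List Cert := [.edge tw0 ⟨(nat_lit 0), ⟨[nat_lit 285, nat_lit 287, nat_lit 357, nat_lit 284, nat_lit 285], [nat_lit 285, nat_lit 287, nat_lit 357, nat_lit 284, nat_lit 285], (nat_lit 1005), tw0⟩, ap0⟩,
  .edge tw0 ⟨(nat_lit 0), ⟨[nat_lit 356, nat_lit 286, nat_lit 352, nat_lit 284], [nat_lit 356, nat_lit 286, nat_lit 352, nat_lit 284], (nat_lit 753), tw0⟩, ap0⟩]

theorem dcMr601 : Rng dcM 601 603 := Rng.of (l := dcMc601) (by decide +kernel)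

def dcMc603 : List Cert := [.edge tw0 ⟨(nat_lit 0), ⟨[nat_lit 355, nat_lit 286, nat_lit 287, nat_lit 357], [nat_lit 355, nat_lit 286, nat_lit 287, nat_lit 357], (nat_lit 735), tw0⟩, ap0⟩,
  .edge tw0 ⟨(nat_lit 0), ⟨[nat_lit 351, nat_lit 285, nat_lit 285, nat_lit 288, nat_lit 287], [nat_lit 351, nat_lit 285, nat_lit 285, nat_lit 288, nat_lit 287], (nat_lit 813), tw0⟩, ap0⟩,
  .edge tw0 ⟨(nat_lit 0), ⟨[nat_lit 353, nat_lit 285, nat_lit 351], [nat_lit 353, nat_lit 285, nat_lit 351], (nat_lit 751), tw0⟩, ap0⟩]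

theorem dcMr603 : Rng dcM 603 606 := Rng.of (l := dcMc603) (by decide +kernel)

def dcMc606 : List Cert := [.edge tw0 ⟨(nat_lit 0), ⟨[nat_lit 357, nat_lit 355, nat_lit 285], [nat_lit 357, nat_lit 355, nat_lit 285], (nat_lit 741), tw0⟩, ap0⟩,
  .edge tw0 ⟨(nat_lit 0), ⟨[nat_lit 355, nat_lit 352, nat_lit 351], [nat_lit 355, nat_lit 352, nat_lit 351], (nat_lit 755), tw0⟩, ap0⟩,
  .edge tw0 ⟨(nat_lit 0), ⟨[nat_lit 353, nat_lit 284], [nat_lit 353, nat_lit 284], (nat_lit 721), tw0⟩, ap0⟩]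

theorem dcMr606 : Rng dcM 606 609 := Rng.of (l := dcMc606) (by decide +kernel)

def dcMc609 : List Cert := [.edge tw0 ⟨(nat_lit 0), ⟨[nat_lit 355, nat_lit 286, nat_lit 354, nat_lit 284], [nat_lit 355, nat_lit 286, nat_lit 354, nat_lit 284], (nat_lit 719), tw0⟩, ap0⟩,
  .edge tw0 ⟨(nat_lit 0), ⟨[nat_lit 284, nat_lit 285, nat_lit 288], [nat_lit 284, nat_lit 285, nat_lit 288], (nat_lit 729), tw0⟩, ap0⟩,
  .edge tw0 ⟨(nat_lit 0), ⟨[nat_lit 284, nat_lit 288], [nat_lit 284, nat_lit 288], (nat_lit 717), tw0⟩, ap0⟩]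

theorem dcMr609 : Rng dcM 609 612 := Rng.of (l := dcMc609) (by decide +kernel)

def dcMc612 : List Cert := [.edge tw0 ⟨(nat_lit 0), ⟨[nat_lit 357, nat_lit 355, nat_lit 284], [nat_lit 357, nat_lit 355, nat_lit 284], (nat_lit 723), tw0⟩, ap0⟩,
  .edge tw0 ⟨(nat_lit 0), ⟨[], [], (nat_lit 819), tw0⟩, ap0⟩,
  .edge tw0 ⟨(nat_lit 0), ⟨[], [], (nat_lit 845), tw0⟩, ap0⟩,
  .edge tw0 ⟨(nat_lit 0), ⟨[], [], (nat_lit 847), tw0⟩, ap0⟩]

theorem dcMr612 : Rng dcM 612 616 := Rng.of (l := dcMc612) (by decide +kernel)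

def dcMc616 : List Cert := [.edge tw0 ⟨(nat_lit 0), ⟨[], [], (nat_lit 851), tw0⟩, ap0⟩,
  .edge tw0 ⟨(nat_lit 0), ⟨[], [], (nat_lit 855), tw0⟩, ap0⟩,
  .edge tw0 ⟨(nat_lit 0), ⟨[], [], (nat_lit 859), tw0⟩, ap0⟩,
  .edge tw0 ⟨(nat_lit 0), ⟨[], [], (nat_lit 861), tw0⟩, ap0⟩,
  .edge tw0 ⟨(nat_lit 0), ⟨[], [], (nat_lit 869), tw0⟩, ap0⟩]

theorem dcMr616 : Rng dcM 616 621 := Rng.of (l := dcMc616) (by decide +kernel)

def dcMc621 : List Cert := [.edge tw0 ⟨(nat_lit 0), ⟨[], [], (nat_lit 873), tw0⟩, ap0⟩,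
  .edge tw0 ⟨(nat_lit 0), ⟨[], [], (nat_lit 877), tw0⟩, ap0⟩,
  .edge tw0 ⟨(nat_lit 0), ⟨[nat_lit 466, nat_lit 468, nat_lit 462, nat_lit 410], [nat_lit 466, nat_lit 468, nat_lit 462, nat_lit 410], (nat_lit 939), tw0⟩, ap0⟩,
  .prod [] [nat_lit 11, nat_lit 8, nat_lit 9, nat_lit 3, nat_lit 6],
  .prod [] [nat_lit 5, nat_lit 11, nat_lit 8, nat_lit 11, nat_lit 1]]

theorem dcMr621 : Rng dcM 621 626 := Rng.of (l := dcMc621) (by decide +kernel)

def dcMc626 : List Cert := [.prod [] [nat_lit 3, nat_lit 8, nat_lit 5, nat_lit 0, nat_lit 1],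
  .prod [] [nat_lit 4, nat_lit 1, nat_lit 7, nat_lit 5, nat_lit 0],
  .prod [] [nat_lit 9, nat_lit 8, nat_lit 2, nat_lit 10, nat_lit 8],
  .prod [] [nat_lit 41, nat_lit 37, nat_lit 17, nat_lit 39, nat_lit 38],
  .prod [] [nat_lit 14, nat_lit 36, nat_lit 39, nat_lit 41, nat_lit 37],
  .prod [] [nat_lit 14, nat_lit 17, nat_lit 16, nat_lit 17, nat_lit 17],
  .prod [] [nat_lit 38, nat_lit 16, nat_lit 43, nat_lit 40, nat_lit 42],
  .prod [] [nat_lit 17, nat_lit 16, nat_lit 39, nat_lit 17, nat_lit 38]]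

theorem dcMr626 : Rng dcM 626 634 := Rng.of (l := dcMc626) (by decide +kernel)

def dcMc634 : List Cert := [.prod [] [nat_lit 27, nat_lit 29, nat_lit 30, nat_lit 29, nat_lit 29],
  .prod [] [nat_lit 31, nat_lit 32, nat_lit 27, nat_lit 25, nat_lit 22],
  .prod [] [nat_lit 31, nat_lit 27, nat_lit 25, nat_lit 25, nat_lit 28],
  .prod [] [nat_lit 31, nat_lit 24, nat_lit 24, nat_lit 28, nat_lit 30],
  .prod [] [nat_lit 26, nat_lit 28, nat_lit 31, nat_lit 22, nat_lit 32],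
  .prod [] [nat_lit 49, nat_lit 49, nat_lit 49, nat_lit 49, nat_lit 47],
  .prod [] [nat_lit 70, nat_lit 72, nat_lit 69, nat_lit 66, nat_lit 49],
  .prod [] [nat_lit 67, nat_lit 49, nat_lit 66, nat_lit 71, nat_lit 46]]

theorem dcMr634 : Rng dcM 634 642 := Rng.of (l := dcMc634) (by decide +kernel)

def dcMc642 : List Cert := [.prod [] [nat_lit 73, nat_lit 72, nat_lit 71, nat_lit 72, nat_lit 46],
  .prod [] [nat_lit 49, nat_lit 72, nat_lit 66, nat_lit 67, nat_lit 49],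
  .prod [] [nat_lit 104, nat_lit 106, nat_lit 78, nat_lit 104, nat_lit 79],
  .prod [] [nat_lit 105, nat_lit 105, nat_lit 105, nat_lit 78, nat_lit 106],
  .prod [] [nat_lit 101, nat_lit 105, nat_lit 104, nat_lit 104, nat_lit 101],
  .prod [] [nat_lit 76, nat_lit 100, nat_lit 77, nat_lit 105, nat_lit 100],
  .prod [] [nat_lit 104, nat_lit 101, nat_lit 101, nat_lit 101, nat_lit 102],
  .prod [] [nat_lit 133, nat_lit 132, nat_lit 130, nat_lit 131, nat_lit 130]]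

theorem dcMr642 : Rng dcM 642 650 := Rng.of (l := dcMc642) (by decide +kernel)

def dcMc650 : List Cert := [.prod [] [nat_lit 132, nat_lit 131, nat_lit 133, nat_lit 111, nat_lit 131],
  .prod [] [nat_lit 136, nat_lit 110, nat_lit 133, nat_lit 110, nat_lit 112],
  .prod [] [nat_lit 132, nat_lit 130, nat_lit 132, nat_lit 135, nat_lit 136],
  .prod [] [nat_lit 137, nat_lit 133, nat_lit 132, nat_lit 136, nat_lit 136],
  .prod [] [nat_lit 148, nat_lit 148, nat_lit 150, nat_lit 147, nat_lit 142],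
  .prod [] [nat_lit 141, nat_lit 141, nat_lit 145, nat_lit 148, nat_lit 144],
  .prod [] [nat_lit 142, nat_lit 141, nat_lit 144, nat_lit 146, nat_lit 144],
  .prod [] [nat_lit 146, nat_lit 142, nat_lit 140, nat_lit 149, nat_lit 140]]

theorem dcMr650 : Rng dcM 650 658 := Rng.of (l := dcMc650) (by decide +kernel)

def dcMc658 : List Cert := [.prod [] [nat_lit 149, nat_lit 140, nat_lit 140, nat_lit 149, nat_lit 143],
  .prod [] [nat_lit 218, nat_lit 212, nat_lit 170, nat_lit 216, nat_lit 215],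
  .prod [] [nat_lit 212, nat_lit 218, nat_lit 219, nat_lit 173, nat_lit 217],
  .prod [] [nat_lit 171, nat_lit 213, nat_lit 172, nat_lit 217, nat_lit 213],
  .prod [] [nat_lit 172, nat_lit 213, nat_lit 214, nat_lit 171, nat_lit 173],
  .prod [] [nat_lit 172, nat_lit 173, nat_lit 216, nat_lit 218, nat_lit 170],
  .prod [] [nat_lit 222, nat_lit 263, nat_lit 222, nat_lit 259, nat_lit 265],
  .prod [] [nat_lit 265, nat_lit 261, nat_lit 263, nat_lit 224, nat_lit 262]]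

theorem dcMr658 : Rng dcM 658 666 := Rng.of (l := dcMc658) (by decide +kernel)

def dcMc666 : List Cert := [.prod [] [nat_lit 225, nat_lit 261, nat_lit 224, nat_lit 223, nat_lit 266],
  .prod [] [nat_lit 266, nat_lit 223, nat_lit 263, nat_lit 260, nat_lit 222],
  .prod [] [nat_lit 260, nat_lit 225, nat_lit 265, nat_lit 263, nat_lit 223],
  .prod [] [nat_lit 355, nat_lit 285, nat_lit 286, nat_lit 356, nat_lit 351],
  .prod [] [nat_lit 351, nat_lit 284, nat_lit 352, nat_lit 354, nat_lit 351],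
  .prod [] [nat_lit 287, nat_lit 353, nat_lit 353, nat_lit 351, nat_lit 285],
  .prod [] [nat_lit 288, nat_lit 357, nat_lit 286, nat_lit 356, nat_lit 355],
  .prod [] [nat_lit 287, nat_lit 355, nat_lit 352, nat_lit 353, nat_lit 286]]

theorem dcMr666 : Rng dcM 666 674 := Rng.of (l := dcMc666) (by decide +kernel)

def dcMc674 : List Cert := [.prod [] [nat_lit 467, nat_lit 411, nat_lit 412, nat_lit 413, nat_lit 462],
  .prod [] [nat_lit 412, nat_lit 466, nat_lit 464, nat_lit 412, nat_lit 411],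
  .prod [] [nat_lit 411, nat_lit 463, nat_lit 414, nat_lit 414, nat_lit 462],
  .prod [] [nat_lit 464, nat_lit 464, nat_lit 413, nat_lit 410, nat_lit 464],
  .prod [] [nat_lit 412, nat_lit 466, nat_lit 462, nat_lit 467, nat_lit 465],
  .prod [] [nat_lit 513, nat_lit 510, nat_lit 479, nat_lit 481, nat_lit 480],
  .prod [] [nat_lit 509, nat_lit 514, nat_lit 514, nat_lit 508, nat_lit 512],
  .prod [] [nat_lit 507, nat_lit 513, nat_lit 507, nat_lit 508, nat_lit 479]]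

theorem dcMr674 : Rng dcM 674 682 := Rng.of (l := dcMc674) (by decide +kernel)

def dcMc682 : List Cert := [.prod [] [nat_lit 508, nat_lit 513, nat_lit 514, nat_lit 514, nat_lit 513],
  .prod [] [nat_lit 509, nat_lit 507, nat_lit 511, nat_lit 479, nat_lit 478]]

theorem dcMr682 : Rng dcM 682 684 := Rng.of (l := dcMc682) (by decide +kernel)

theorem dcMR4 : Rng dcM 597 684 := (dcMr597.trans (dcMr599.trans (dcMr601.trans (dcMr603.trans (dcMr606.trans (dcMr609.trans (dcMr612.trans (dcMr616.trans (dcMr621.trans (dcMr626.trans (dcMr634.trans (dcMr642.trans (dcMr650.trans (dcMr658.trans (dcMr666.trans (dcMr674.trans dcMr682))))))))))))))))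

end

end CF.Mon
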