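import Cfsg.Agent.Mon.DcMC

set_option autoImplicit false
set_option maxRecDepth 100000

namespace CF.Mon

open CF.Comp

noncomputable section

def dcMc0 : List Cert := [.init,
  .init,
  .init,
  .init,
  .init,
  .init,
  .init,
  .init,
  .init,
  .init,
  .init,
  .init,
  .base,
  .defn,
  .stab (nat_lit 26) tw0 ⟨(nat_lit 0), ⟨[nat_lit 3, nat_lit 5, nat_lit 4, nat_lit 6, nat_lit 10, nat_lit 6, nat_lit 6, nat_lit 2, nat_lit 9, nat_lit 5], [], (nat_lit 26), ⟨[nat_lit 0, nat_lit 1, nat_lit 69], [nat_lit 6, nat_lit 52], ⟨[nat_lit 0x48c41a9dd27d0b152160242ed34d96], [nat_lit 174080, nat_lit 169472, nat_lit 165120, nat_lit 162816, nat_lit 156160, nat_lit 152736, nat_lit 149888, nat_lit 147424, nat_lit 143228, nat_lit 137226, nat_lit 133944, nat_lit 902, nat_lit 5668, nat_lit 9600, nat_lit 13072, nat_lit 18112, nat_lit 22400, nat_lit 25344, nat_lit 30208, nat_lit 41801, nat_lit 38196, nat_lit 33891, nat_lit 28702, nat_lit 25140, nat_lit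 20495, nat_lit 16390, nat_lit 12289, nat_lit 8210, nat_lit 4097, nat_lit 2]⟩⟩⟩, ap0⟩]

theorem dcMr0 : Rng dcM 0 15 := Rng.of (l := dcMc0) (by decide +kernel)

def dcMc15 : List Cert := [.stab (nat_lit 26) tw0 ⟨(nat_lit 0), ⟨[nat_lit 11, nat_lit 1, nat_lit 2, nat_lit 3, nat_lit 4, nat_lit 8, nat_lit 1, nat_lit 6, nat_lit 0, nat_lit 3], [], (nat_lit 26), ⟨[nat_lit 2, nat_lit 93], [nat_lit 0, nat_lit 12, nat_lit 54], ⟨[nat_lit 0x59c2c9a6aa951ae011e829ad018a37], [nat_lit 174080, nat_lit 168448, nat_lit 165888, nat_lit 162688, nat_lit 158784, nat_lit 152288, nat_lit 147600, nat_lit 144808, nat_lit 143332, nat_lit 138492, nat_lit 131962, nat_lit 434, nat_lit 6084, nat_lit 8704, nat_lit 12800, nat_lit 17568, nat_lit 22208, nat_lit 25088, nat_lit 29696, nat_lit 33280, nat_lit 41474, nat_lit 38193, nat_lit 32770, nat_lit 28749, nat_lit 24611, nat_lit 20571, nat_lit 16426, nat_lit 12290, nat_lit 8194]⟩⟩⟩, ap0⟩,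
  .stab (nat_lit 26) tw0 ⟨(nat_lit 0), ⟨[nat_lit 2, nat_lit 1, nat_lit 9, nat_lit 6, nat_lit 10, nat_lit 1, nat_lit 0, nat_lit 3, nat_lit 3, nat_lit 0], [], (nat_lit 26), ⟨[nat_lit 0, nat_lit 1, nat_lit 67], [nat_lit 0, nat_lit 21, nat_lit 89], ⟨[nat_lit 0x52eb309d89b39f11a1a53125705050], [nat_lit 174080, nat_lit 169472, nat_lit 162304, nat_lit 156672, nat_lit 151744, nat_lit 151232, nat_lit 145960, nat_lit 142300, nat_lit 139002, nat_lit 133825, nat_lit 1246, nat_lit 5336, nat_lit 8224, nat_lit 12560, nat_lit 17440, nat_lit 21184, nat_lit 25216, nat_lit 29184, nat_lit 33792, nat_lit 41137, nat_lit 37255, nat_lit 33478, nat_lit 28737, nat_lit 24750, nat_lit 20496, nat_lit 16386, nat_lit 12353, nat_lit 8203, nat_lit 4105]⟩⟩⟩, ap0⟩]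

theorem dcMr15 : Rng dcM 15 17 := Rng.of (l := dcMc15) (by decide +kernel)

def dcMc17 : List Cert := [.stab (nat_lit 26) tw0 ⟨(nat_lit 0), ⟨[nat_lit 6, nat_lit 2, nat_lit 0, nat_lit 8, nat_lit 11, nat_lit 0, nat_lit 11, nat_lit 11, nat_lit 0], [], (nat_lit 26), ⟨[nat_lit 0, nat_lit 81, nat_lit 90], [nat_lit 21, nat_lit 90], ⟨[nat_lit 0x82274149c70448c6a9f635d65486a3], [nat_lit 173056, nat_lit 169472, nat_lit 165120, nat_lit 160128, nat_lit 156672, nat_lit 152000, nat_lit 149264, nat_lit 144408, nat_lit 139720, nat_lit 135344, nat_lit 132756, nat_lit 1770, nat_lit 4104, nat_lit 9664, nat_lit 18208, nat_lit 25600, nat_lit 34304, nat_lit 37888, nat_lit 41079, nat_lit 37204, nat_lit 32891, nat_lit 28786, nat_lit 24743, nat_lit 16453, nat_lit 12294, nat_lit 8200, nat_lit 4101, nat_lit 2]⟩⟩⟩, ap0⟩,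
  .edge tw0 ⟨(nat_lit 1), ⟨[], [], (nat_lit 27), tw0⟩, ⟨[nat_lit 1, nat_lit 1, nat_lit 9, nat_lit 2, nat_lit 9, nat_lit 2, nat_lit 1], [], (nat_lit 26), ⟨[nat_lit 72], [nat_lit 0, nat_lit 26, nat_lit 90], ⟨[nat_lit 0x3be8161aa320aee015b64c94884e2b], [nat_lit 175104, nat_lit 169472, nat_lit 164352, nat_lit 160640, nat_lit 156416, nat_lit 151808, nat_lit 147520, nat_lit 144464, nat_lit 136928, nat_lit 131225, nat_lit 404, nat_lit 4568, nat_lit 9560, nat_lit 12688, nat_lit 16512, nat_lit 22144, nat_lit 24832, nat_lit 30208, nat_lit 33792, nat_lit 37888, nat_lit 37111, nat_lit 32885, nat_lit 29296, nat_lit 24877, nat_lit 20767, nat_lit 16456, nat_lit 12322, nat_lit 8320, nat_lit 4101, nat_lit 4]⟩⟩⟩⟩]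

theorem dcMr17 : Rng dcM 17 19 := Rng.of (l := dcMc17) (by decide +kernel)

def dcMc19 : List Cert := [.edge ⟨[nat_lit 0, nat_lit 36, nat_lit 50], [nat_lit 31, nat_lit 49], ⟨[nat_lit 0x218e55a50a184029ca306bd8ebd2b6], [nat_lit 175104, nat_lit 169472, nat_lit 166912, nat_lit 163072, nat_lit 159360, nat_lit 151648, nat_lit 149280, nat_lit 144088, nat_lit 142048, nat_lit 137742, nat_lit 131923, nat_lit 1918, nat_lit 5208, nat_lit 8632, nat_lit 12624, nat_lit 18272, nat_lit 20608, nat_lit 26112, nat_lit 29440, nat_lit 33792, nat_lit 41214, nat_lit 37030, nat_lit 32998, nat_lit 29006, nat_lit 24885, nat_lit 20486, nat_lit 16394, nat_lit 12311, nat_lit 8194, nat_lit 4097]⟩⟩ ⟨(nat_lit 2), ⟨[], [], (nat_lit 27), ⟨[nat_lit 25, nat_lit 91], [nat_lit 80, nat_lit 93], ⟨[nat_lit 0xb11e969ee8a154e846636197510640], [nat_lit 174080, nat_lit 165632, nat_lit 163712, nat_lit 157184, nat_lit 153152, nat_lit 150992, nat_lit 146408, nat_lit 141624,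 nat_lit 138106, nat_lit 133546, nat_lit 5276, nat_lit 9368, nat_lit 13456, nat_lit 16992, nat_lit 21248, nat_lit 26112, nat_lit 29184, nat_lit 37888, nat_lit 40963, nat_lit 36894, nat_lit 33019, nat_lit 28982, nat_lit 24718, nat_lit 20754, nat_lit 16655, nat_lit 12295, nat_lit 8193, nat_lit 4097, nat_lit 2]⟩⟩⟩, ⟨[nat_lit 0, nat_lit 7, nat_lit 7, nat_lit 2, nat_lit 3, nat_lit 10, nat_lit 0], [], (nat_lit 26), ⟨[nat_lit 41, nat_lit 54], [nat_lit 0, nat_lit 74, nat_lit 63], ⟨[nat_lit 0xb99b67acaa84d8408cee8a01415649], [nat_lit 173056, nat_lit 171008, nat_lit 167680, nat_lit 162816, nat_lit 158464, nat_lit 152160, nat_lit 150688, nat_lit 145504, nat_lit 140820, nat_lit 137842, nat_lit 131666, nat_lit 804, nat_lit 5080, nat_lit 9752, nat_lit 13840, nat_lit 16832, nat_lit 22400, nat_lit 26112, nat_lit 29696, nat_lit 33280, nat_lit 37888, nat_lit 41730, nat_lit 38272, nat_lit 33022, nat_lit 28719, nat_lit 24843, nat_lit 20562, nat_lit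 16455, nat_lit 12294, nat_lit 8193, nat_lit 4]⟩⟩⟩⟩,
  .defn,
  .stab (nat_lit 40) tw0 ⟨(nat_lit 0), ⟨[nat_lit 6, nat_lit 7, nat_lit 7, nat_lit 11, nat_lit 5, nat_lit 2, nat_lit 8, nat_lit 3, nat_lit 8, nat_lit 4], [], (nat_lit 40), ⟨[nat_lit 75, nat_lit 58], [nat_lit 0, nat_lit 53], ⟨[nat_lit 0x7c1d754a8b88ea1996c76a04622580], [nat_lit 173056, nat_lit 169472, nat_lit 164864, nat_lit 156800, nat_lit 152768, nat_lit 147808, nat_lit 143408, nat_lit 141200, nat_lit 136198, nat_lit 132554, nat_lit 4412, nat_lit 8328, nat_lit 13536, nat_lit 17408, nat_lit 20544, nat_lit 25344, nat_lit 29184, nat_lit 34304, nat_lit 41728, nat_lit 37984, nat_lit 33411, nat_lit 29007, nat_lit 24877, nat_lit 20625, nat_lit 16429, nat_lit 12325, nat_lit 8227]⟩⟩⟩, ap0⟩]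

theorem dcMr19 : Rng dcM 19 22 := Rng.of (l := dcMc19) (by decide +kernel)

def dcMc22 : List Cert := [.stab (nat_lit 40) tw0 ⟨(nat_lit 0), ⟨[nat_lit 5, nat_lit 3, nat_lit 7, nat_lit 3, nat_lit 1, nat_lit 4, nat_lit 8], [], (nat_lit 40), ⟨[nat_lit 0, nat_lit 38, nat_lit 91], [nat_lit 0, nat_lit 77, nat_lit 58], ⟨[nat_lit 0x785325b0709c6a66bae5a20eab0880], [nat_lit 173056, nat_lit 168960, nat_lit 167680, nat_lit 161280, nat_lit 157184, nat_lit 153792, nat_lit 149840, nat_lit 146128, nat_lit 142676, nat_lit 138802, nat_lit 133071, nat_lit 318, nat_lit 4396, nat_lit 8208, nat_lit 12976, nat_lit 17536, nat_lit 21888, nat_lit 25728, nat_lit 29696, nat_lit 33280, nat_lit 37888, nat_lit 41874, nat_lit 38072, nat_lit 33336, nat_lit 28723, nat_lit 24594, nat_lit 20609, nat_lit 16399, nat_lit 12289, nat_lit 8194]⟩⟩⟩, ap0⟩,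
  .stab (nat_lit 40) tw0 ⟨(nat_lit 0), ⟨[nat_lit 1, nat_lit 1, nat_lit 11, nat_lit 11, nat_lit 7, nat_lit 0, nat_lit 1, nat_lit 5, nat_lit 3], [], (nat_lit 40), ⟨[nat_lit 0, nat_lit 23, nat_lit 93], [nat_lit 2], ⟨[nat_lit 0x99d1493a020b2d7ac54678ca45a5a0], [nat_lit 174080, nat_lit 171520, nat_lit 166912, nat_lit 162816, nat_lit 156800, nat_lit 154656, nat_lit 150976, nat_lit 144776, nat_lit 142656, nat_lit 135590, nat_lit 132201, nat_lit 1972, nat_lit 5020, nat_lit 8680, nat_lit 12720, nat_lit 18400, nat_lit 20608, nat_lit 30464, nat_lit 33280, nat_lit 37888, nat_lit 41780, nat_lit 37912, nat_lit 32876, nat_lit 28780, nat_lit 24592, nat_lit 20608, nat_lit 16396, nat_lit 12310, nat_lit 8194, nat_lit 4101]⟩⟩⟩, ap0⟩]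

theorem dcMr22 : Rng dcM 22 24 := Rng.of (l := dcMc22) (by decide +kernel)

def dcMc24 : List Cert := [.stab (nat_lit 40) tw0 ⟨(nat_lit 0), ⟨[nat_lit 7, nat_lit 1, nat_lit 0, nat_lit 4, nat_lit 9, nat_lit 0, nat_lit 5, nat_lit 10, nat_lit 5, nat_lit 2], [], (nat_lit 40), ⟨[nat_lit 0, nat_lit 76, nat_lit 49], [nat_lit 83, nat_lit 52], ⟨[nat_lit 0x626264502b24d4e11ea5bbc6d942c0], [nat_lit 169472, nat_lit 165632, nat_lit 161536, nat_lit 157184, nat_lit 153760, nat_lit 148512, nat_lit 143992, nat_lit 139268, nat_lit 135864, nat_lit 131235, nat_lit 32, nat_lit 4416, nat_lit 8584, nat_lit 12944, nat_lit 17088, nat_lit 21504, nat_lit 41752, nat_lit 38010, nat_lit 33474, nat_lit 29016, nat_lit 24722, nat_lit 16525, nat_lit 12354, nat_lit 8209, nat_lit 4161]⟩⟩⟩, ap0⟩,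
  .prod [] [nat_lit 23, nat_lit 22, nat_lit 22, nat_lit 24],
  .prod [] [nat_lit 21, nat_lit 22, nat_lit 22, nat_lit 22],
  .prod [] [nat_lit 24, nat_lit 22, nat_lit 23, nat_lit 25],
  .prod [] [nat_lit 25, nat_lit 24, nat_lit 26, nat_lit 23],
  .prod [] [nat_lit 26, nat_lit 23, nat_lit 23, nat_lit 21],
  .prod [] [nat_lit 25, nat_lit 24, nat_lit 23, nat_lit 27]]

theorem dcMr24 : Rng dcM 24 31 := Rng.of (l := dcMc24) (by decide +kernel)

def dcMc31 : List Cert := [.prod [] [nat_lit 24, nat_lit 29, nat_lit 30, nat_lit 25],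
  .prod [] [nat_lit 29, nat_lit 31, nat_lit 28, nat_lit 28],
  .edge tw0 ⟨(nat_lit 1), ⟨[], [], (nat_lit 41), tw0⟩, ⟨[nat_lit 7, nat_lit 0, nat_lit 9, nat_lit 11, nat_lit 11, nat_lit 9, nat_lit 2], [], (nat_lit 40), ⟨[nat_lit 79, nat_lit 66], [nat_lit 1, nat_lit 56], ⟨[nat_lit 0xa4895636261dd2f828a858ace09e60], [nat_lit 173056, nat_lit 168448, nat_lit 167680, nat_lit 161920, nat_lit 157952, nat_lit 154144, nat_lit 148976, nat_lit 145416, nat_lit 143268, nat_lit 135182, nat_lit 134098, nat_lit 2, nat_lit 5024, nat_lit 10040, nat_lit 13088, nat_lit 18112, nat_lit 21184, nat_lit 25856, nat_lit 28928, nat_lit 33792, nat_lit 37888, nat_lit 41643, nat_lit 36983, nat_lit 32887, nat_lit 29799, nat_lit 24631, nat_lit 20545, nat_lit 16395, nat_lit 12310, nat_lit 8203, nat_lit 8]⟩⟩⟩⟩]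

theorem dcMr31 : Rng dcM 31 34 := Rng.of (l := dcMc31) (by decide +kernel)

def dcMc34 : List Cert := [.edge ⟨[nat_lit 0, nat_lit 36, nat_lit 50], [nat_lit 31, nat_lit 49], ⟨[nat_lit 0x218e55a50a184029ca306bd8ebd2b6], [nat_lit 175104, nat_lit 169472, nat_lit 166912, nat_lit 163072, nat_lit 159360, nat_lit 151648, nat_lit 149280, nat_lit 144088, nat_lit 142048, nat_lit 137742, nat_lit 131923, nat_lit 1918, nat_lit 5208, nat_lit 8632, nat_lit 12624, nat_lit 18272, nat_lit 20608, nat_lit 26112, nat_lit 29440, nat_lit 33792, nat_lit 41214, nat_lit 37030, nat_lit 32998, nat_lit 29006, nat_lit 24885, nat_lit 20486, nat_lit 16394, nat_lit 12311, nat_lit 8194, nat_lit 4097]⟩⟩ ⟨(nat_lit 2), ⟨[], [], (nat_lit 41), ⟨[nat_lit 0, nat_lit 25, nat_lit 91], [nat_lit 45, nat_lit 91], ⟨[nat_lit 0xb11e91ce30a38aa5b2a6bb50714801], [nat_lit 173056, nat_lit 170496, nat_lit 164096, nat_lit 159040, nat_lit 152160, nat_lit 147472, nat_lit 145568, nat_lit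 142156, nat_lit 137992, nat_lit 134435, nat_lit 588, nat_lit 4684, nat_lit 8776, nat_lit 12864, nat_lit 18112, nat_lit 22080, nat_lit 29696, nat_lit 33792, nat_lit 41446, nat_lit 36871, nat_lit 34017, nat_lit 29793, nat_lit 24583, nat_lit 21515, nat_lit 12291, nat_lit 8195]⟩⟩⟩, ⟨[nat_lit 8, nat_lit 6, nat_lit 0, nat_lit 6, nat_lit 5, nat_lit 7, nat_lit 0], [], (nat_lit 40), ⟨[nat_lit 0, nat_lit 26, nat_lit 61], [nat_lit 0, nat_lit 39, nat_lit 91], ⟨[nat_lit 0x111cc5520d09569b9aa37d9138c8e0], [nat_lit 160128, nat_lit 156224, nat_lit 154368, nat_lit 147952, nat_lit 145248, nat_lit 139524, nat_lit 135492, nat_lit 131908, nat_lit 32, nat_lit 5276, nat_lit 8648, nat_lit 12800, nat_lit 18112, nat_lit 21888, nat_lit 29696, nat_lit 33280, nat_lit 41465, nat_lit 37344, nat_lit 32936, nat_lit 28704, nat_lit 25093, nat_lit 20551, nat_lit 16387, nat_lit 12544, nat_lit 8257, nat_lit 4097]⟩⟩⟩⟩,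
  .edge ⟨[nat_lit 0, nat_lit 36, nat_lit 50], [nat_lit 31, nat_lit 49], ⟨[nat_lit 0x218e55a50a184029ca306bd8ebd2b6], [nat_lit 175104, nat_lit 169472, nat_lit 166912, nat_lit 163072, nat_lit 159360, nat_lit 151648, nat_lit 149280, nat_lit 144088, nat_lit 142048, nat_lit 137742, nat_lit 131923, nat_lit 1918, nat_lit 5208, nat_lit 8632, nat_lit 12624, nat_lit 18272, nat_lit 20608, nat_lit 26112, nat_lit 29440, nat_lit 33792, nat_lit 41214, nat_lit 37030, nat_lit 32998, nat_lit 29006, nat_lit 24885, nat_lit 20486, nat_lit 16394, nat_lit 12311, nat_lit 8194, nat_lit 4097]⟩⟩ ⟨(nat_lit 2), ⟨[], [], (nat_lit 27), ⟨[nat_lit 36, nat_lit 46], [nat_lit 84, nat_lit 93], ⟨[nat_lit 0x98a1108c12bac8e79515a192d3a996], [nat_lit 168448, nat_lit 160000, nat_lit 155712, nat_lit 152224, nat_lit 148288, nat_lit 146728, nat_lit 140728, nat_lit 136666, nat_lit 131792, nat_lit 688, nat_lit 4404, nat_lit 9368, nat_lit 12496, nat_lit 18176, nat_lit 20928,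 nat_lit 26496, nat_lit 28928, nat_lit 34304, nat_lit 41048, nat_lit 37033, nat_lit 32823, nat_lit 29251, nat_lit 24600, nat_lit 20626, nat_lit 16397, nat_lit 12310, nat_lit 8195]⟩⟩⟩, ⟨[nat_lit 4, nat_lit 2, nat_lit 10, nat_lit 11, nat_lit 1, nat_lit 9, nat_lit 0], [], (nat_lit 40), ⟨[nat_lit 0, nat_lit 40, nat_lit 58], [nat_lit 0, nat_lit 88, nat_lit 89], ⟨[nat_lit 0x3b414754c27d8a14cd0b94550b9183], [nat_lit 175104, nat_lit 170496, nat_lit 164608, nat_lit 161792, nat_lit 158976, nat_lit 155264, nat_lit 149296, nat_lit 145240, nat_lit 139832, nat_lit 137350, nat_lit 135064, nat_lit 1770, nat_lit 4404, nat_lit 8208, nat_lit 13280, nat_lit 16448, nat_lit 20544, nat_lit 25472, nat_lit 29952, nat_lit 41129, nat_lit 37033, nat_lit 32887, nat_lit 29273, nat_lit 24637, nat_lit 20564, nat_lit 16452, nat_lit 12307, nat_lit 8256, nat_lit 4097]⟩⟩⟩⟩]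

theorem dcMr34 : Rng dcM 34 36 := Rng.of (l := dcMc34) (by decide +kernel)

def dcMc36 : List Cert := [.stab (nat_lit 26) ⟨[nat_lit 0, nat_lit 20, nat_lit 91], [nat_lit 0, nat_lit 3, nat_lit 55], ⟨[nat_lit 0x5247783d05010d691d6d8cc55651c1], [nat_lit 175104, nat_lit 169984, nat_lit 167680, nat_lit 160256, nat_lit 159616, nat_lit 154464, nat_lit 147952, nat_lit 146960, nat_lit 141292, nat_lit 136956, nat_lit 131265, nat_lit 1760, nat_lit 5768, nat_lit 10128, nat_lit 14144, nat_lit 17984, nat_lit 21760, nat_lit 24832, nat_lit 29952, nat_lit 41951, nat_lit 38391, nat_lit 32949, nat_lit 28796, nat_lit 24724, nat_lit 20493, nat_lit 16527, nat_lit 12294, nat_lit 8202, nat_lit 4104, nat_lit 16]⟩⟩ ⟨(nat_lit 2), ⟨[nat_lit 7, nat_lit 4, nat_lit 11, nat_lit 1], [], (nat_lit 24), ⟨[nat_lit 80, nat_lit 53], [nat_lit 33, nat_lit 90], ⟨[nat_lit 0xb298868877a9de57469202e6680524], [nat_lit 173056, nat_lit 168960, nat_lit 165376, nat_lit 160640,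 nat_lit 157568, nat_lit 152608, nat_lit 148880, nat_lit 143744, nat_lit 141612, nat_lit 136428, nat_lit 132551, nat_lit 1124, nat_lit 5568, nat_lit 9664, nat_lit 13216, nat_lit 17408, nat_lit 21120, nat_lit 24960, nat_lit 29952, nat_lit 41854, nat_lit 37906, nat_lit 33320, nat_lit 28687, nat_lit 24597, nat_lit 21000, nat_lit 16449, nat_lit 12419, nat_lit 8194, nat_lit 64]⟩⟩⟩, ⟨[nat_lit 7, nat_lit 5, nat_lit 4, nat_lit 0, nat_lit 1, nat_lit 6, nat_lit 1], [], (nat_lit 26), ⟨[nat_lit 33, nat_lit 52], [nat_lit 37, nat_lit 69], ⟨[nat_lit 0x4ac6d322163de4a790a08ba61652a2], [nat_lit 173056, nat_lit 168960, nat_lit 166400, nat_lit 161152, nat_lit 156416, nat_lit 153088, nat_lit 147840, nat_lit 145128, nat_lit 140828, nat_lit 136228, nat_lit 131088, nat_lit 1766, nat_lit 4408, nat_lit 8224, nat_lit 12560, nat_lit 17920, nat_lit 20736, nat_lit 25600, nat_lit 29440, nat_lit 37888, nat_lit 41876, nat_lit 38100, nat_lit 33007, nat_lit 28729,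 nat_lit 24583, nat_lit 20499, nat_lit 16425, nat_lit 12308, nat_lit 8202, nat_lit 4105, nat_lit 2]⟩⟩⟩⟩,
  .prod [] [nat_lit 15, nat_lit 14, nat_lit 14, nat_lit 36],
  .prod [] [nat_lit 36, nat_lit 16, nat_lit 15, nat_lit 14],
  .prod [] [nat_lit 38, nat_lit 38, nat_lit 36, nat_lit 15],
  .prod [] [nat_lit 36, nat_lit 36, nat_lit 16, nat_lit 14],
  .prod [] [nat_lit 17, nat_lit 17, nat_lit 36, nat_lit 39]]

theorem dcMr36 : Rng dcM 36 42 := Rng.of (l := dcMc36) (by decide +kernel)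

def dcMc42 : List Cert := [.prod [] [nat_lit 38, nat_lit 39, nat_lit 36, nat_lit 38],
  .prod [] [nat_lit 41, nat_lit 16, nat_lit 37, nat_lit 14],
  .edge ⟨[nat_lit 17], [nat_lit 0, nat_lit 36, nat_lit 61], ⟨[nat_lit 0x21d2a681c1946b641965189eca5e13], [nat_lit 173056, nat_lit 169472, nat_lit 160000, nat_lit 155712, nat_lit 152544, nat_lit 148944, nat_lit 143520, nat_lit 139876, nat_lit 135832, nat_lit 134709, nat_lit 526, nat_lit 4684, nat_lit 9328, nat_lit 12608, nat_lit 17184, nat_lit 20544, nat_lit 25728, nat_lit 29952, nat_lit 33280, nat_lit 37888, nat_lit 41239, nat_lit 36999, nat_lit 33876, nat_lit 29228, nat_lit 24862, nat_lit 20494, nat_lit 16385, nat_lit 12325, nat_lit 4097, nat_lit 2]⟩⟩ ⟨(nat_lit 2), ⟨[nat_lit 29, nat_lit 31, nat_lit 22], [nat_lit 27, nat_lit 24, nat_lit 21, nat_lit 22], (nat_lit 71), ⟨[nat_lit 87, nat_lit 47], [nat_lit 0, nat_lit 76, nat_lit 59], ⟨[nat_lit 0x83575298828ba8892996080e39bee9], [nat_lit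 175104, nat_lit 169472, nat_lit 160128, nat_lit 156032, nat_lit 151808, nat_lit 148144, nat_lit 144576, nat_lit 139400, nat_lit 137178, nat_lit 131523, nat_lit 434, nat_lit 4548, nat_lit 9360, nat_lit 13152, nat_lit 17440, nat_lit 22336, nat_lit 25472, nat_lit 29952, nat_lit 33792, nat_lit 37888, nat_lit 41639, nat_lit 38231, nat_lit 32799, nat_lit 28733, nat_lit 24628, nat_lit 20497, nat_lit 16425, nat_lit 12293, nat_lit 8201, nat_lit 4097, nat_lit 2]⟩⟩⟩, ⟨[nat_lit 17, nat_lit 36, nat_lit 42, nat_lit 14, nat_lit 14, nat_lit 14], [], (nat_lit 70), ⟨[nat_lit 0, nat_lit 84, nat_lit 63], [nat_lit 39, nat_lit 90], ⟨[nat_lit 0x4aa9714c488a88542e1634efb2e63], [nat_lit 173056, nat_lit 169472, nat_lit 162304, nat_lit 155776, nat_lit 153440, nat_lit 149488, nat_lit 143616, nat_lit 139724, nat_lit 137086, nat_lit 131949, nat_lit 582, nat_lit 5072, nat_lit 8992, nat_lit 12416, nat_lit 17088, nat_lit 22336, nat_lit 25088, nat_lit 29952, nat_lit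 33792, nat_lit 37888, nat_lit 41723, nat_lit 38267, nat_lit 33298, nat_lit 28939, nat_lit 24592, nat_lit 20502, nat_lit 16430, nat_lit 12295, nat_lit 8201, nat_lit 4101, nat_lit 2]⟩⟩⟩⟩,
  .defn]

theorem dcMr42 : Rng dcM 42 46 := Rng.of (l := dcMc42) (by decide +kernel)

def dcMc46 : List Cert := [.stab (nat_lit 90) tw0 ⟨(nat_lit 0), ⟨[nat_lit 36, nat_lit 14, nat_lit 41, nat_lit 17, nat_lit 14, nat_lit 42, nat_lit 14, nat_lit 14, nat_lit 14], [], (nat_lit 90), ⟨[nat_lit 81, nat_lit 51], [nat_lit 42, nat_lit 51], ⟨[nat_lit 0x2da617a169539ac8d4e320a9001af2], [nat_lit 173056, nat_lit 169472, nat_lit 166400, nat_lit 160768, nat_lit 155776, nat_lit 152768, nat_lit 148688, nat_lit 143424, nat_lit 139932, nat_lit 136544, nat_lit 132166, nat_lit 1140, nat_lit 8304, nat_lit 13312, nat_lit 17888, nat_lit 24832, nat_lit 29952, nat_lit 33792, nat_lit 37888, nat_lit 41364, nat_lit 37178, nat_lit 32776, nat_lit 29748, nat_lit 24598, nat_lit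 20610, nat_lit 16454, nat_lit 12549, nat_lit 8201, nat_lit 4129, nat_lit 2]⟩⟩⟩, ap0⟩,
  .stab (nat_lit 90) tw0 ⟨(nat_lit 0), ⟨[nat_lit 39, nat_lit 40, nat_lit 41, nat_lit 36, nat_lit 38, nat_lit 42, nat_lit 40, nat_lit 41, nat_lit 17, nat_lit 36], [], (nat_lit 90), ⟨[nat_lit 0, nat_lit 39, nat_lit 55], [nat_lit 13, nat_lit 70], ⟨[nat_lit 0x9ded010109219ac5854379cae95691], [nat_lit 173056, nat_lit 168960, nat_lit 164608, nat_lit 160384, nat_lit 156800, nat_lit 152768, nat_lit 147760, nat_lit 143624, nat_lit 139508, nat_lit 135872, nat_lit 135053, nat_lit 512, nat_lit 5312, nat_lit 10128, nat_lit 18080, nat_lit 20544, nat_lit 25088, nat_lit 29184, nat_lit 41934, nat_lit 37121, nat_lit 33288, nat_lit 28673, nat_lit 24631, nat_lit 20566, nat_lit 16450, nat_lit 12544, nat_lit 8211, nat_lit 4101]⟩⟩⟩, ap0⟩]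

theorem dcMr46 : Rng dcM 46 48 := Rng.of (l := dcMc46) (by decide +kernel)

def dcMc48 : List Cert := [.stab (nat_lit 90) tw0 ⟨(nat_lit 0), ⟨[nat_lit 16, nat_lit 16, nat_lit 17, nat_lit 37, nat_lit 37, nat_lit 40, nat_lit 39, nat_lit 17, nat_lit 36, nat_lit 14], [], (nat_lit 90), ⟨[nat_lit 0, nat_lit 29, nat_lit 52], [nat_lit 0, nat_lit 4, nat_lit 70], ⟨[nat_lit 0xb9a161446524d8d428f24d1e103aab], [nat_lit 171520, nat_lit 164352, nat_lit 161280, nat_lit 156160, nat_lit 151616, nat_lit 148368, nat_lit 144784, nat_lit 135690, nat_lit 132258, nat_lit 1336, nat_lit 4568, nat_lit 9648, nat_lit 14128, nat_lit 18080, nat_lit 20800, nat_lit 24960, nat_lit 29952, nat_lit 33792, nat_lit 37888, nat_lit 41952, nat_lit 37016, nat_lit 34016, nat_lit 28728, nat_lit 25632, nat_lit 20633, nat_lit 16514, nat_lit 12289, nat_lit 4097, nat_lit 2]⟩⟩⟩, ap0⟩,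
  .stab (nat_lit 90) tw0 ⟨(nat_lit 0), ⟨[nat_lit 37, nat_lit 14, nat_lit 38, nat_lit 15, nat_lit 43, nat_lit 37, nat_lit 38, nat_lit 36, nat_lit 37], [], (nat_lit 90), ⟨[nat_lit 0, nat_lit 5, nat_lit 46], [nat_lit 30, nat_lit 60], ⟨[nat_lit 0xa39507c977111ac019280d4f61ccb1], [nat_lit 164864, nat_lit 161280, nat_lit 156032, nat_lit 152640, nat_lit 149280, nat_lit 144136, nat_lit 141020, nat_lit 136580, nat_lit 131497, nat_lit 78, nat_lit 4724, nat_lit 9288, nat_lit 17472, nat_lit 21888, nat_lit 25088, nat_lit 41317, nat_lit 36966, nat_lit 28689, nat_lit 25121, nat_lit 20998, nat_lit 16514, nat_lit 8258, nat_lit 4113, nat_lit 4]⟩⟩⟩, ap0⟩,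
  .prod [] [nat_lit 46, nat_lit 46, nat_lit 46, nat_lit 46],
  .prod [] [nat_lit 50, nat_lit 47, nat_lit 48, nat_lit 48]]

theorem dcMr48 : Rng dcM 48 52 := Rng.of (l := dcMc48) (by decide +kernel)

def dcMc52 : List Cert := [.prod [] [nat_lit 47, nat_lit 49, nat_lit 48, nat_lit 47],
  .prod [] [nat_lit 52, nat_lit 52, nat_lit 47, nat_lit 47],
  .prod [] [nat_lit 46, nat_lit 52, nat_lit 47, nat_lit 49],
  .prod [] [nat_lit 53, nat_lit 51, nat_lit 54, nat_lit 51],
  .prod [] [nat_lit 46, nat_lit 47, nat_lit 52, nat_lit 55],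
  .prod [] [nat_lit 52, nat_lit 52, nat_lit 53, nat_lit 52]]

theorem dcMr52 : Rng dcM 52 58 := Rng.of (l := dcMc52) (by decide +kernel)

def dcMc58 : List Cert := [.edge ⟨[nat_lit 0, nat_lit 9, nat_lit 92], [nat_lit 0, nat_lit 36, nat_lit 51], ⟨[nat_lit 0x644445d5487c0c11b4b3b26f401e4e], [nat_lit 175104, nat_lit 171008, nat_lit 164352, nat_lit 162432, nat_lit 157952, nat_lit 153760, nat_lit 148160, nat_lit 144792, nat_lit 139736, nat_lit 138854, nat_lit 134330, nat_lit 342, nat_lit 4436, nat_lit 8824, nat_lit 13760, nat_lit 16416, nat_lit 25216, nat_lit 29952, nat_lit 34304, nat_lit 41919, nat_lit 38127, nat_lit 33316, nat_lit 29821, nat_lit 24719, nat_lit 20509, nat_lit 16416, nat_lit 12294, nat_lit 4105]⟩⟩ ⟨(nat_lit 2), ⟨[nat_lit 31, nat_lit 21, nat_lit 30, nat_lit 23], [nat_lit 27, nat_lit 24, nat_lit 21, nat_lit 22], (nat_lit 71), ⟨[nat_lit 81, nat_lit 51], [nat_lit 15, nat_lit 61], ⟨[nat_lit 0xab82582e5301d9779ac24a22a20e8d],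 [nat_lit 173056, nat_lit 170496, nat_lit 166400, nat_lit 162432, nat_lit 158656, nat_lit 151936, nat_lit 150016, nat_lit 146568, nat_lit 139440, nat_lit 137650, nat_lit 131661, nat_lit 566, nat_lit 5112, nat_lit 9512, nat_lit 12304, nat_lit 16416, nat_lit 20608, nat_lit 29184, nat_lit 34304, nat_lit 41378, nat_lit 37026, nat_lit 32958, nat_lit 28706, nat_lit 24587, nat_lit 20482, nat_lit 16399, nat_lit 12309, nat_lit 8209]⟩⟩⟩, ⟨[nat_lit 16, nat_lit 43, nat_lit 39, nat_lit 41, nat_lit 15, nat_lit 41, nat_lit 14], [], (nat_lit 90), ⟨[nat_lit 74, nat_lit 63], [nat_lit 0, nat_lit 2, nat_lit 68], ⟨[nat_lit 0x794f042e4dbcece4d4816440330a8a], [nat_lit 171008, nat_lit 166656, nat_lit 162432, nat_lit 157888, nat_lit 152448, nat_lit 150432, nat_lit 147040, nat_lit 141072, nat_lit 138756, nat_lit 133109, nat_lit 1224, nat_lit 5112, nat_lit 8224, nat_lit 13312, nat_lit 17376, nat_lit 20544, nat_lit 25856, nat_lit 41826, nat_lit 37888, nat_lit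 32888, nat_lit 28715, nat_lit 24615, nat_lit 20482, nat_lit 16642, nat_lit 12304, nat_lit 8194]⟩⟩⟩⟩]

theorem dcMr58 : Rng dcM 58 59 := Rng.of (l := dcMc58) (by decide +kernel)

def dcMc59 : List Cert := [.edge ⟨[nat_lit 0, nat_lit 29, nat_lit 55], [nat_lit 31, nat_lit 92], ⟨[nat_lit 0x5082b994d1910f0736f5a59ec42403], [nat_lit 165376, nat_lit 161920, nat_lit 156800, nat_lit 151776, nat_lit 149376, nat_lit 145400, nat_lit 141156, nat_lit 135566, nat_lit 131927, nat_lit 8, nat_lit 5580, nat_lit 9752, nat_lit 12544, nat_lit 17504, nat_lit 22336, nat_lit 25088, nat_lit 28928, nat_lit 33280, nat_lit 37888, nat_lit 41041, nat_lit 37248, nat_lit 32991, nat_lit 28712, nat_lit 24863, nat_lit 20614, nat_lit 16386, nat_lit 12326, nat_lit 8224, nat_lit 4101, nat_lit 2]⟩⟩ ⟨(nat_lit 2), ⟨[nat_lit 30, nat_lit 26, nat_lit 21, nat_lit 24], [nat_lit 27, nat_lit 24, nat_lit 21, nat_lit 22], (nat_lit 71), ⟨[nat_lit 0, nat_lit 4, nat_lit 56], [nat_lit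 0, nat_lit 39, nat_lit 54], ⟨[nat_lit 0x188cb05d498df2596f1854ea13528], [nat_lit 165632, nat_lit 160128, nat_lit 157184, nat_lit 152992, nat_lit 147968, nat_lit 144008, nat_lit 139924, nat_lit 139090, nat_lit 132176, nat_lit 236, nat_lit 5316, nat_lit 9664, nat_lit 14064, nat_lit 16544, nat_lit 21248, nat_lit 26240, nat_lit 30464, nat_lit 33280, nat_lit 37888, nat_lit 41629, nat_lit 37202, nat_lit 32774, nat_lit 29772, nat_lit 24759, nat_lit 20554, nat_lit 16524, nat_lit 12311, nat_lit 8195, nat_lit 4101, nat_lit 4]⟩⟩⟩, ⟨[nat_lit 39, nat_lit 36, nat_lit 36, nat_lit 41, nat_lit 17, nat_lit 40, nat_lit 16], [], (nat_lit 90), ⟨[nat_lit 23, nat_lit 63], [nat_lit 16, nat_lit 90], ⟨[nat_lit 0x2358f8aac095c4b395c69d121ac103], [nat_lit 175104, nat_lit 171520, nat_lit 167680, nat_lit 161536, nat_lit 156224, nat_lit 152448, nat_lit 149520, nat_lit 145264, nat_lit 139268, nat_lit 137322, nat_lit 134338, nat_lit 1818, nat_lit 4352, nat_lit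 9344, nat_lit 12528, nat_lit 16864, nat_lit 22336, nat_lit 24960, nat_lit 33792, nat_lit 37888, nat_lit 41977, nat_lit 37242, nat_lit 32793, nat_lit 28767, nat_lit 24749, nat_lit 20481, nat_lit 16395, nat_lit 12307, nat_lit 8322, nat_lit 4112]⟩⟩⟩⟩]

theorem dcMr59 : Rng dcM 59 60 := Rng.of (l := dcMc59) (by decide +kernel)

def dcMc60 : List Cert := [.edge ⟨[nat_lit 0, nat_lit 94], [nat_lit 35, nat_lit 48], ⟨[nat_lit 0xb469219480ac2f311c265390c4adaf], [nat_lit 168448, nat_lit 164864, nat_lit 162048, nat_lit 156224, nat_lit 153536, nat_lit 147888, nat_lit 143984, nat_lit 140704, nat_lit 135644, nat_lit 131472, nat_lit 1668, nat_lit 5296, nat_lit 9752, nat_lit 14304, nat_lit 17152, nat_lit 21568, nat_lit 26112, nat_lit 28928, nat_lit 33792, nat_lit 41420, nat_lit 37008, nat_lit 32896, nat_lit 25649, nat_lit 20573, nat_lit 16390, nat_lit 12294, nat_lit 8200, nat_lit 4101, nat_lit 2]⟩⟩ ⟨(nat_lit 2), ⟨[nat_lit 48, nat_lit 52, nat_lit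 47], [nat_lit 49, nat_lit 49, nat_lit 46], (nat_lit 119), ⟨[nat_lit 0, nat_lit 83, nat_lit 66], [nat_lit 79, nat_lit 57], ⟨[nat_lit 0xb1e85256e65c9538a209005af1b982], [nat_lit 174080, nat_lit 170496, nat_lit 165376, nat_lit 162560, nat_lit 159488, nat_lit 154592, nat_lit 147568, nat_lit 143536, nat_lit 138700, nat_lit 133566, nat_lit 1766, nat_lit 4408, nat_lit 10168, nat_lit 12416, nat_lit 16576, nat_lit 22336, nat_lit 26368, nat_lit 29952, nat_lit 37888, nat_lit 41863, nat_lit 37078, nat_lit 33019, nat_lit 29045, nat_lit 24838, nat_lit 20509, nat_lit 16389, nat_lit 12320, nat_lit 8200, nat_lit 4097]⟩⟩⟩, ⟨[nat_lit 24, nat_lit 28, nat_lit 31, nat_lit 27, nat_lit 30, nat_lit 23], [], (nat_lit 118), ⟨[nat_lit 0, nat_lit 4, nat_lit 49], [nat_lit 15, nat_lit 52], ⟨[nat_lit 0x5b474059ca344a78125348aacb850f], [nat_lit 170496, nat_lit 165120, nat_lit 162176, nat_lit 156480, nat_lit 154848, nat_lit 150784, nat_lit 146512, nat_lit 139844,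 nat_lit 135458, nat_lit 133902, nat_lit 1488, nat_lit 4352, nat_lit 8352, nat_lit 13920, nat_lit 18400, nat_lit 20736, nat_lit 25216, nat_lit 28928, nat_lit 34304, nat_lit 41901, nat_lit 36989, nat_lit 33819, nat_lit 29036, nat_lit 24586, nat_lit 20489, nat_lit 16391, nat_lit 12292, nat_lit 8203, nat_lit 4100]⟩⟩⟩⟩,
  .edge ⟨[nat_lit 0, nat_lit 39, nat_lit 51], [nat_lit 84, nat_lit 69], ⟨[nat_lit 0x291699c6b473041681e395af031d48], [nat_lit 171520, nat_lit 164864, nat_lit 160768, nat_lit 157376, nat_lit 151584, nat_lit 149456, nat_lit 144488, nat_lit 139276, nat_lit 135808, nat_lit 132126, nat_lit 1554, nat_lit 5316, nat_lit 8328, nat_lit 13312, nat_lit 16544, nat_lit 20736, nat_lit 24832, nat_lit 29952, nat_lit 33792, nat_lit 37888, nat_lit 41959, nat_lit 37201, nat_lit 33369, nat_lit 28707, nat_lit 25137, nat_lit 20546, nat_lit 16897, nat_lit 12544, nat_lit 8193, nat_lit 4129, nat_lit 2]⟩⟩ ⟨(nat_lit 2), ⟨[nat_lit 46], [nat_lit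 52, nat_lit 55], (nat_lit 117), ⟨[nat_lit 40, nat_lit 65], [nat_lit 0, nat_lit 84, nat_lit 67], ⟨[nat_lit 0x4256a6b1ee290c700c2284672bd2b6], [nat_lit 173056, nat_lit 169472, nat_lit 167424, nat_lit 161408, nat_lit 157312, nat_lit 155232, nat_lit 151136, nat_lit 145784, nat_lit 143112, nat_lit 138990, nat_lit 131892, nat_lit 902, nat_lit 5208, nat_lit 9536, nat_lit 13184, nat_lit 16832, nat_lit 24832, nat_lit 30208, nat_lit 34304, nat_lit 37888, nat_lit 41510, nat_lit 38376, nat_lit 33452, nat_lit 29217, nat_lit 24765, nat_lit 20499, nat_lit 16421, nat_lit 12293, nat_lit 8194, nat_lit 4097]⟩⟩⟩, ⟨[nat_lit 21, nat_lit 24, nat_lit 21, nat_lit 21], [nat_lit 27, nat_lit 24, nat_lit 21, nat_lit 22], (nat_lit 71), ⟨[nat_lit 74, nat_lit 93], [nat_lit 82, nat_lit 55], ⟨[nat_lit 0x5ca7111eadbbc65038d4604964a20a], [nat_lit 174080, nat_lit 168960, nat_lit 165376, nat_lit 162304, nat_lit 157632, nat_lit 151936, nat_lit 149952, nat_lit 147336,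 nat_lit 141372, nat_lit 137906, nat_lit 133729, nat_lit 1874, nat_lit 5508, nat_lit 8904, nat_lit 13168, nat_lit 17056, nat_lit 20608, nat_lit 24832, nat_lit 29184, nat_lit 33280, nat_lit 41883, nat_lit 36884, nat_lit 32933, nat_lit 28944, nat_lit 24590, nat_lit 20624, nat_lit 16519, nat_lit 12353, nat_lit 8193, nat_lit 4104, nat_lit 2]⟩⟩⟩⟩]

theorem dcMr60 : Rng dcM 60 62 := Rng.of (l := dcMc60) (by decide +kernel)

def dcMc62 : List Cert := [.edge ⟨[nat_lit 0, nat_lit 32, nat_lit 46], [nat_lit 0, nat_lit 38, nat_lit 90], ⟨[nat_lit 0x104e6ace175b52f00c857214ca46d2], [nat_lit 170496, nat_lit 161024, nat_lit 158784, nat_lit 153568, nat_lit 148976, nat_lit 145544, nat_lit 143256, nat_lit 139144, nat_lit 133476, nat_lit 590, nat_lit 4340, nat_lit 9416, nat_lit 12768, nat_lit 16800, nat_lit 21504, nat_lit 25088, nat_lit 29696, nat_lit 33792, nat_lit 41217, nat_lit 36929, nat_lit 33920, nat_lit 28981, nat_lit 25095, nat_lit 20629, nat_lit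 16527, nat_lit 12306, nat_lit 8259]⟩⟩ ⟨(nat_lit 2), ⟨[nat_lit 52, nat_lit 55], [nat_lit 52, nat_lit 55], (nat_lit 117), ⟨[nat_lit 25, nat_lit 69], [nat_lit 23, nat_lit 58], ⟨[nat_lit 0x68492bda8a3be23138d3616005a6a8], [nat_lit 173056, nat_lit 170496, nat_lit 164352, nat_lit 162560, nat_lit 156544, nat_lit 154016, nat_lit 149520, nat_lit 147280, nat_lit 139992, nat_lit 136578, nat_lit 133630, nat_lit 952, nat_lit 5208, nat_lit 8344, nat_lit 13360, nat_lit 18272, nat_lit 26496, nat_lit 30208, nat_lit 33280, nat_lit 41345, nat_lit 37153, nat_lit 33527, nat_lit 28737, nat_lit 24723, nat_lit 20992, nat_lit 16458, nat_lit 12307, nat_lit 8195]⟩⟩⟩, ⟨[nat_lit 29, nat_lit 26, nat_lit 23, nat_lit 28, nat_lit 22], [], (nat_lit 116), ⟨[nat_lit 0, nat_lit 7, nat_lit 92], [nat_lit 77, nat_lit 68], ⟨[nat_lit 0x731afaded418022298878465352169], [nat_lit 174080, nat_lit 165120, nat_lit 160256, nat_lit 158528, nat_lit 154240, nat_lit 151344, nat_lit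 144056, nat_lit 141928, nat_lit 135212, nat_lit 134829, nat_lit 434, nat_lit 4824, nat_lit 9752, nat_lit 12736, nat_lit 18112, nat_lit 22400, nat_lit 25984, nat_lit 30464, nat_lit 37888, nat_lit 41735, nat_lit 36884, nat_lit 33010, nat_lit 29045, nat_lit 24853, nat_lit 20495, nat_lit 16640, nat_lit 12321, nat_lit 8195, nat_lit 4100]⟩⟩⟩⟩,
  .edge ⟨[nat_lit 0, nat_lit 30, nat_lit 69], [nat_lit 0, nat_lit 31, nat_lit 93], ⟨[nat_lit 0x48c01255916d246b9e6f42d422d9d0], [nat_lit 174080, nat_lit 171520, nat_lit 162432, nat_lit 158528, nat_lit 154400, nat_lit 148208, nat_lit 145160, nat_lit 139660, nat_lit 137600, nat_lit 133676, nat_lit 1698, nat_lit 5036, nat_lit 10224, nat_lit 13520, nat_lit 18336, nat_lit 21888, nat_lit 25088, nat_lit 30208, nat_lit 33792, nat_lit 41927, nat_lit 38196, nat_lit 33950, nat_lit 29219, nat_lit 24577, nat_lit 21020, nat_lit 16389, nat_lit 12326, nat_lit 8194, nat_lit 4101]⟩⟩ ⟨(nat_lit 2), ⟨[nat_lit 49, nat_lit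 49, nat_lit 47, nat_lit 52], [nat_lit 53, nat_lit 56, nat_lit 49, nat_lit 49], (nat_lit 121), ⟨[nat_lit 0, nat_lit 2, nat_lit 48], [nat_lit 44, nat_lit 92], ⟨[nat_lit 0x35ea7525cf88072250b68066262d0d], [nat_lit 175104, nat_lit 169472, nat_lit 165888, nat_lit 162944, nat_lit 158080, nat_lit 151968, nat_lit 149392, nat_lit 144648, nat_lit 141980, nat_lit 138568, nat_lit 132235, nat_lit 1066, nat_lit 5316, nat_lit 9752, nat_lit 13552, nat_lit 16544, nat_lit 21440, nat_lit 24960, nat_lit 29952, nat_lit 37888, nat_lit 41324, nat_lit 37182, nat_lit 32797, nat_lit 28687, nat_lit 24634, nat_lit 20511, nat_lit 16417]⟩⟩⟩, ⟨[nat_lit 55, nat_lit 50, nat_lit 54, nat_lit 49], [], (nat_lit 120), ⟨[nat_lit 39, nat_lit 65], [nat_lit 18, nat_lit 93], ⟨[nat_lit 0xa9cd77a9c99883088e40a16c45b50c], [nat_lit 175104, nat_lit 170496, nat_lit 166400, nat_lit 161536, nat_lit 151872, nat_lit 149584, nat_lit 144216, nat_lit 140112, nat_lit 138596, nat_lit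 134515, nat_lit 1580, nat_lit 4156, nat_lit 9248, nat_lit 13712, nat_lit 16640, nat_lit 22400, nat_lit 26240, nat_lit 34304, nat_lit 41859, nat_lit 37908, nat_lit 32926, nat_lit 28968, nat_lit 24617, nat_lit 20547, nat_lit 16387, nat_lit 12327, nat_lit 8203, nat_lit 4097]⟩⟩⟩⟩]

theorem dcMr62 : Rng dcM 62 64 := Rng.of (l := dcMc62) (by decide +kernel)

def dcMc64 : List Cert := [.edge tw0 ⟨(nat_lit 1), ⟨[], [nat_lit 49, nat_lit 49, nat_lit 46], (nat_lit 119), ⟨[nat_lit 0, nat_lit 86, nat_lit 55], [nat_lit 29, nat_lit 54], ⟨[nat_lit 0xbb9b5248f040c0958941b328f89a65], [nat_lit 173056, nat_lit 168448, nat_lit 165120, nat_lit 161152, nat_lit 157056, nat_lit 151776, nat_lit 149232, nat_lit 145032, nat_lit 139396, nat_lit 136362, nat_lit 132886, nat_lit 718, nat_lit 4224, nat_lit 8232, nat_lit 13664, nat_lit 17472, nat_lit 21504, nat_lit 29696, nat_lit 33792, nat_lit 41430, nat_lit 36881, nat_lit 33876, nat_lit 28962, nat_lit 20613,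 nat_lit 16905, nat_lit 12304, nat_lit 8225, nat_lit 4353, nat_lit 2]⟩⟩⟩, ⟨[nat_lit 25, nat_lit 25, nat_lit 25, nat_lit 25, nat_lit 25], [], (nat_lit 118), ⟨[nat_lit 0, nat_lit 53], [nat_lit 22, nat_lit 46], ⟨[nat_lit 0xbb9b5248f040c0958941b328f89a65], [nat_lit 164864, nat_lit 161024, nat_lit 157120, nat_lit 151744, nat_lit 149232, nat_lit 145032, nat_lit 139392, nat_lit 136362, nat_lit 132886, nat_lit 718, nat_lit 4224, nat_lit 8232, nat_lit 13664, nat_lit 17472, nat_lit 21504, nat_lit 29696, nat_lit 33792, nat_lit 41430, nat_lit 36881, nat_lit 33876, nat_lit 28962, nat_lit 20613, nat_lit 16905, nat_lit 12304, nat_lit 8225, nat_lit 4353, nat_lit 2]⟩⟩⟩⟩,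
  .edge ⟨[nat_lit 27, nat_lit 60], [nat_lit 9, nat_lit 94], ⟨[nat_lit 0x6044f89a04396537340352e96bd509], [nat_lit 175104, nat_lit 169472, nat_lit 165376, nat_lit 160000, nat_lit 156608, nat_lit 152832, nat_lit 148192, nat_lit 143888, nat_lit 140564, nat_lit 136496, nat_lit 131413, nat_lit 804, nat_lit 5316, nat_lit 8344, nat_lit 12336, nat_lit 17984, nat_lit 20736, nat_lit 25088, nat_lit 30208, nat_lit 37888, nat_lit 41350, nat_lit 36928, nat_lit 32888, nat_lit 29734, nat_lit 24592, nat_lit 20632, nat_lit 16429, nat_lit 12321, nat_lit 8210, nat_lit 4101, nat_lit 4]⟩⟩ ⟨(nat_lit 2), ⟨[nat_lit 51, nat_lit 46, nat_lit 57], [], (nat_lit 120), ⟨[nat_lit 0, nat_lit 44, nat_lit 66], [nat_lit 20, nat_lit 53], ⟨[nat_lit 0x118f3745e39012a0c2b7b150d5b284], [nat_lit 169984, nat_lit 165120, nat_lit 157440, nat_lit 153504, nat_lit 148128, nat_lit 143984, nat_lit 140776, nat_lit 135676, nat_lit 132771, nat_lit 508, nat_lit 4380, nat_lit 8928,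 nat_lit 12384, nat_lit 16896, nat_lit 20992, nat_lit 30208, nat_lit 33280, nat_lit 37888, nat_lit 41088, nat_lit 37128, nat_lit 33001, nat_lit 29033, nat_lit 24616, nat_lit 20495, nat_lit 16385, nat_lit 12321, nat_lit 8200, nat_lit 4100, nat_lit 16]⟩⟩⟩, ⟨[nat_lit 51, nat_lit 56, nat_lit 55, nat_lit 46], [nat_lit 53, nat_lit 56, nat_lit 49, nat_lit 49], (nat_lit 121), ⟨[nat_lit 27], [nat_lit 0, nat_lit 82, nat_lit 56], ⟨[nat_lit 0x15ce1791d42d94984cd5436401c58b], [nat_lit 168448, nat_lit 165376, nat_lit 161280, nat_lit 156992, nat_lit 153536, nat_lit 150112, nat_lit 144328, nat_lit 140492, nat_lit 135810, nat_lit 131879, nat_lit 986, nat_lit 4396, nat_lit 8432, nat_lit 12304, nat_lit 16896, nat_lit 20928, nat_lit 25472, nat_lit 29696, nat_lit 33792, nat_lit 41243, nat_lit 37076, nat_lit 32889, nat_lit 29252, nat_lit 24624, nat_lit 20558, nat_lit 16391, nat_lit 8211, nat_lit 16]⟩⟩⟩⟩]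

theorem dcMr64 : Rng dcM 64 66 := Rng.of (l := dcMc64) (by decide +kernel)

def dcMc66 : List Cert := [.stab (nat_lit 116) tw0 ⟨(nat_lit 0), ⟨[nat_lit 32, nat_lit 29, nat_lit 32, nat_lit 28, nat_lit 32, nat_lit 21, nat_lit 25], [], (nat_lit 116), ⟨[nat_lit 0, nat_lit 3, nat_lit 59], [nat_lit 5, nat_lit 69], ⟨[nat_lit 0x5a2a93c46f6c881a5957830a0309d3], [nat_lit 171520, nat_lit 164608, nat_lit 161024, nat_lit 156416, nat_lit 153280, nat_lit 148624, nat_lit 144496, nat_lit 141224, nat_lit 136330, nat_lit 131166, nat_lit 78, nat_lit 6136, nat_lit 8704, nat_lit 13360, nat_lit 18336, nat_lit 20672, nat_lit 26496, nat_lit 29184, nat_lit 33792, nat_lit 37888, nat_lit 41286, nat_lit 37272, nat_lit 33499, nat_lit 24891, nat_lit 20566, nat_lit 16391, nat_lit 12326, nat_lit 4113]⟩⟩⟩, ap0⟩,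
  .prod [] [nat_lit 66, nat_lit 46, nat_lit 47, nat_lit 49],
  .prod [] [nat_lit 47, nat_lit 48, nat_lit 46, nat_lit 66],
  .prod [] [nat_lit 66, nat_lit 66, nat_lit 68, nat_lit 68],
  .prod [] [nat_lit 66, nat_lit 47, nat_lit 68, nat_lit 67],
  .prod [] [nat_lit 66, nat_lit 69, nat_lit 66, nat_lit 69],
  .prod [] [nat_lit 66, nat_lit 70, nat_lit 66, nat_lit 70]]

theorem dcMr66 : Rng dcM 66 73 := Rng.of (l := dcMc66) (by decide +kernel)

def dcMc73 : List Cert := [.prod [] [nat_lit 70, nat_lit 70, nat_lit 72, nat_lit 48],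
  .edge ⟨[nat_lit 0, nat_lit 22, nat_lit 68], [nat_lit 0, nat_lit 37, nat_lit 62], ⟨[nat_lit 0xa94f3b0623019eb72882641b4926e8], [nat_lit 164608, nat_lit 160384, nat_lit 156800, nat_lit 152160, nat_lit 143968, nat_lit 140460, nat_lit 137698, nat_lit 132673, nat_lit 1396, nat_lit 4352, nat_lit 9664, nat_lit 13872, nat_lit 17920, nat_lit 25984, nat_lit 29440, nat_lit 41922, nat_lit 37122, nat_lit 32838, nat_lit 28715, nat_lit 24892, nat_lit 20563, nat_lit 16456, nat_lit 12323, nat_lit 4097, nat_lit 2]⟩⟩ ⟨(nat_lit 2), ⟨[nat_lit 49, nat_lit 46, nat_lit 67, nat_lit 48], [], (nat_lit 119), ⟨[nat_lit 0, nat_lit 15, nat_lit 54], [nat_lit 0, nat_lit 43, nat_lit 52], ⟨[nat_lit 0x12ce1450b5b01d3b8e2c6a5e692a04], [nat_lit 168448, nat_lit 165376, nat_lit 160256, nat_lit 157120, nat_lit 154752, nat_lit 149296, nat_lit 143864, nat_lit 139424, nat_lit 136722, nat_lit 131216, nat_lit 1794, nat_lit 4160, nat_lit 8552, nat_lit 14176, nat_lit 17408,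 nat_lit 20544, nat_lit 24960, nat_lit 28928, nat_lit 33792, nat_lit 37888, nat_lit 41582, nat_lit 38158, nat_lit 33430, nat_lit 28776, nat_lit 24577, nat_lit 20482, nat_lit 16646, nat_lit 12416, nat_lit 8451, nat_lit 4128, nat_lit 4]⟩⟩⟩, ⟨[nat_lit 30, nat_lit 25, nat_lit 29, nat_lit 23, nat_lit 24, nat_lit 23], [], (nat_lit 118), ⟨[nat_lit 0, nat_lit 37, nat_lit 47], [nat_lit 41, nat_lit 64], ⟨[nat_lit 0x9d62bc5837a5a6a15159d80e92a04], [nat_lit 169984, nat_lit 165376, nat_lit 161024, nat_lit 157632, nat_lit 152160, nat_lit 149392, nat_lit 144896, nat_lit 140828, nat_lit 136596, nat_lit 132002, nat_lit 1794, nat_lit 5952, nat_lit 10144, nat_lit 16896, nat_lit 21888, nat_lit 29440, nat_lit 41851, nat_lit 37086, nat_lit 33818, nat_lit 29213, nat_lit 24715, nat_lit 20484, nat_lit 16388, nat_lit 12352, nat_lit 8209, nat_lit 4225, nat_lit 4]⟩⟩⟩⟩,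
  .defn,
  .stab (nat_lit 150) tw0 ⟨(nat_lit 0), ⟨[nat_lit 39, nat_lit 43, nat_lit 36, nat_lit 37, nat_lit 14, nat_lit 14, nat_lit 39, nat_lit 40, nat_lit 39, nat_lit 16], [], (nat_lit 150), ⟨[nat_lit 0, nat_lit 84, nat_lit 91], [nat_lit 0, nat_lit 13, nat_lit 89], ⟨[nat_lit 0x44a09a32ed52e717bad5114c120c07], [nat_lit 173056, nat_lit 169472, nat_lit 167680, nat_lit 161536, nat_lit 156672, nat_lit 155424, nat_lit 150976, nat_lit 145680, nat_lit 142076, nat_lit 138640, nat_lit 131728, nat_lit 1440, nat_lit 5276, nat_lit 9360, nat_lit 12304, nat_lit 17824, nat_lit 21696, nat_lit 25728, nat_lit 28928, nat_lit 33280, nat_lit 41826, nat_lit 38213, nat_lit 33983, nat_lit 28770, nat_lit 24717, nat_lit 20488, nat_lit 16396, nat_lit 12310, nat_lit 8210, nat_lit 4097]⟩⟩⟩, ap0⟩]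

theorem dcMr73 : Rng dcM 73 77 := Rng.of (l := dcMc73) (by decide +kernel)

def dcMc77 : List Cert := [.stab (nat_lit 150) tw0 ⟨(nat_lit 0), ⟨[nat_lit 39, nat_lit 14, nat_lit 36, nat_lit 37, nat_lit 14, nat_lit 14, nat_lit 43, nat_lit 43, nat_lit 14, nat_lit 14], [], (nat_lit 150), ⟨[nat_lit 27, nat_lit 89], [nat_lit 0, nat_lit 13, nat_lit 65], ⟨[nat_lit 0xb3dd56d197426505aa7138c80284c2], [nat_lit 160384, nat_lit 154880, nat_lit 148592, nat_lit 144608, nat_lit 140864, nat_lit 135948, nat_lit 131385, nat_lit 4, nat_lit 5120, nat_lit 9216, nat_lit 12720, nat_lit 16480, nat_lit 21184, nat_lit 26240, nat_lit 30208, nat_lit 33792, nat_lit 41784, nat_lit 37102, nat_lit 33880, nat_lit 28752, nat_lit 24625, nat_lit 20566, nat_lit 16452, nat_lit 12806, nat_lit 8211, nat_lit 4100, nat_lit 16]⟩⟩⟩, ap0⟩,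
  .stab (nat_lit 150) tw0 ⟨(nat_lit 0), ⟨[nat_lit 43, nat_lit 42, nat_lit 39, nat_lit 17, nat_lit 42, nat_lit 36, nat_lit 17, nat_lit 41, nat_lit 37, nat_lit 17], [], (nat_lit 150), ⟨[nat_lit 0, nat_lit 86, nat_lit 90], [nat_lit 38, nat_lit 67], ⟨[nat_lit 0x4c248759f5a5dac52e71104a621c60], [nat_lit 173056, nat_lit 169984, nat_lit 163200, nat_lit 155712, nat_lit 155136, nat_lit 150144, nat_lit 145984, nat_lit 135570, nat_lit 134546, nat_lit 8, nat_lit 5276, nat_lit 8824, nat_lit 12304, nat_lit 18080, nat_lit 22400, nat_lit 24704, nat_lit 29696, nat_lit 33280, nat_lit 37888, nat_lit 41975, nat_lit 37193, nat_lit 33368, nat_lit 28689, nat_lit 25127, nat_lit 20575, nat_lit 16385, nat_lit 12359, nat_lit 8256, nat_lit 4101, nat_lit 2]⟩⟩⟩, ap0⟩]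

theorem dcMr77 : Rng dcM 77 79 := Rng.of (l := dcMc77) (by decide +kernel)

def dcMc79 : List Cert := [.stab (nat_lit 150) tw0 ⟨(nat_lit 0), ⟨[nat_lit 38, nat_lit 42, nat_lit 39, nat_lit 41, nat_lit 41, nat_lit 39, nat_lit 38, nat_lit 40, nat_lit 38], [], (nat_lit 150), ⟨[nat_lit 0, nat_lit 10, nat_lit 56], [nat_lit 14, nat_lit 67], ⟨[nat_lit 0x6bdccbd6965a9099427131ca400462], [nat_lit 174080, nat_lit 171008, nat_lit 165376, nat_lit 162048, nat_lit 159104, nat_lit 155616, nat_lit 147504, nat_lit 144744, nat_lit 139440, nat_lit 139032, nat_lit 133669, nat_lit 1766, nat_lit 4104, nat_lit 8200, nat_lit 14048, nat_lit 18144, nat_lit 21824, nat_lit 26496, nat_lit 29184, nat_lit 33280, nat_lit 41620, nat_lit 37197, nat_lit 32941, nat_lit 28928, nat_lit 24626, nat_lit 20545, nat_lit 16397, nat_lit 12290, nat_lit 8195, nat_lit 4100]⟩⟩⟩, ap0⟩,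
  .prod [] [nat_lit 79, nat_lit 76, nat_lit 76, nat_lit 78],
  .prod [] [nat_lit 80, nat_lit 80, nat_lit 77, nat_lit 76],
  .prod [] [nat_lit 78, nat_lit 76, nat_lit 81, nat_lit 77],
  .prod [] [nat_lit 81, nat_lit 79, nat_lit 79, nat_lit 81],
  .prod [] [nat_lit 83, nat_lit 83, nat_lit 81, nat_lit 82],
  .prod [] [nat_lit 83, nat_lit 81, nat_lit 84, nat_lit 80]]

theorem dcMr79 : Rng dcM 79 86 := Rng.of (l := dcMc79) (by decide +kernel)

def dcMc86 : List Cert := [.prod [] [nat_lit 76, nat_lit 84, nat_lit 85, nat_lit 79],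
  .prod [] [nat_lit 80, nat_lit 85, nat_lit 81, nat_lit 82],
  .edge ⟨[nat_lit 75, nat_lit 60], [nat_lit 42, nat_lit 92], ⟨[nat_lit 0x9ded0124088ca955a86133584794ee], [nat_lit 174080, nat_lit 166912, nat_lit 162048, nat_lit 158528, nat_lit 151776, nat_lit 149136, nat_lit 144488, nat_lit 141848, nat_lit 137504, nat_lit 133012, nat_lit 810, nat_lit 4720, nat_lit 10032, nat_lit 14304, nat_lit 16512, nat_lit 21120, nat_lit 24832, nat_lit 29440, nat_lit 33792, nat_lit 37888, nat_lit 41729, nat_lit 38204, nat_lit 34037, nat_lit 28696, nat_lit 24882, nat_lit 20754, nat_lit 16390, nat_lit 12294, nat_lit 8194, nat_lit 4097, nat_lit 2]⟩⟩ ⟨(nat_lit 2), ⟨[nat_lit 22, nat_lit 30, nat_lit 23], [nat_lit 27, nat_lit 24, nat_lit 21, nat_lit 22], (nat_lit 71), ⟨[nat_lit 0, nat_lit 20, nat_lit 58], [nat_lit 15, nat_lit 67], ⟨[nat_lit 0x98177b3e84406b1848ec199a2515c9], [nat_lit 174080, nat_lit 171008, nat_lit 166656, nat_lit 160640, nat_lit 158208,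 nat_lit 154368, nat_lit 148144, nat_lit 146184, nat_lit 141084, nat_lit 136636, nat_lit 132782, nat_lit 724, nat_lit 4720, nat_lit 10032, nat_lit 14304, nat_lit 18336, nat_lit 22016, nat_lit 25728, nat_lit 29440, nat_lit 41864, nat_lit 37920, nat_lit 32950, nat_lit 28999, nat_lit 24713, nat_lit 20489, nat_lit 16396, nat_lit 12295, nat_lit 8203, nat_lit 4105, nat_lit 8]⟩⟩⟩, ⟨[nat_lit 36, nat_lit 16, nat_lit 17, nat_lit 39, nat_lit 14, nat_lit 40, nat_lit 17], [], (nat_lit 150), ⟨[nat_lit 79, nat_lit 50], [nat_lit 83, nat_lit 69], ⟨[nat_lit 0x855aa489075c9962063335e83780ae], [nat_lit 173056, nat_lit 160512, nat_lit 157376, nat_lit 152832, nat_lit 147488, nat_lit 144008, nat_lit 141592, nat_lit 136410, nat_lit 131797, nat_lit 1972, nat_lit 4132, nat_lit 8408, nat_lit 14304, nat_lit 16576, nat_lit 22336, nat_lit 25600, nat_lit 29440, nat_lit 41853, nat_lit 37052, nat_lit 33990, nat_lit 28764, nat_lit 24759, nat_lit 20511, nat_lit 16388,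 nat_lit 12323, nat_lit 8201, nat_lit 4129, nat_lit 4]⟩⟩⟩⟩]

theorem dcMr86 : Rng dcM 86 89 := Rng.of (l := dcMc86) (by decide +kernel)

def dcMc89 : List Cert := [.edge ⟨[nat_lit 73, nat_lit 66], [nat_lit 0, nat_lit 2, nat_lit 66], ⟨[nat_lit 0x8548255aef8d0e37010164d326aca6], [nat_lit 171008, nat_lit 165632, nat_lit 162560, nat_lit 157248, nat_lit 154560, nat_lit 151392, nat_lit 145840, nat_lit 140352, nat_lit 136610, nat_lit 133286, nat_lit 1720, nat_lit 4952, nat_lit 10192, nat_lit 14304, nat_lit 18368, nat_lit 22144, nat_lit 25856, nat_lit 33280, nat_lit 37888, nat_lit 41822, nat_lit 38114, nat_lit 33351, nat_lit 29012, nat_lit 24882, nat_lit 20634, nat_lit 16420, nat_lit 12357, nat_lit 8203, nat_lit 4100]⟩⟩ ⟨(nat_lit 2), ⟨[nat_lit 69, nat_lit 67, nat_lit 68], [], (nat_lit 119), ⟨[nat_lit 72, nat_lit 52], [nat_lit 0, nat_lit 37, nat_lit 56], ⟨[nat_lit 0x2306d988b1050f75854683d15926ce], [nat_lit 164352, nat_lit 161664, nat_lit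 156672, nat_lit 153024, nat_lit 147984, nat_lit 143776, nat_lit 143196, nat_lit 136196, nat_lit 132182, nat_lit 1292, nat_lit 4720, nat_lit 10160, nat_lit 13856, nat_lit 18336, nat_lit 21696, nat_lit 25344, nat_lit 28928, nat_lit 33792, nat_lit 37888, nat_lit 41564, nat_lit 38344, nat_lit 33408, nat_lit 29184, nat_lit 25608, nat_lit 20501, nat_lit 16395, nat_lit 12311, nat_lit 8202, nat_lit 4101, nat_lit 2]⟩⟩⟩, ⟨[nat_lit 29, nat_lit 24, nat_lit 26, nat_lit 25, nat_lit 32, nat_lit 21], [], (nat_lit 176), ⟨[nat_lit 16, nat_lit 90], [nat_lit 16, nat_lit 56], ⟨[nat_lit 0xa2e62715af5401539984906e940ed1], [nat_lit 173056, nat_lit 168448, nat_lit 165632, nat_lit 161792, nat_lit 156032, nat_lit 152512, nat_lit 149456, nat_lit 145328, nat_lit 139700, nat_lit 136674, nat_lit 132937, nat_lit 184, nat_lit 6084, nat_lit 8200, nat_lit 12544, nat_lit 16896, nat_lit 22336, nat_lit 25984, nat_lit 28928, nat_lit 33280, nat_lit 37888, nat_lit 41678,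 nat_lit 38291, nat_lit 32912, nat_lit 28741, nat_lit 24749, nat_lit 20548, nat_lit 16642, nat_lit 12324, nat_lit 8224, nat_lit 4113, nat_lit 2]⟩⟩⟩⟩,
  .edge ⟨[nat_lit 0, nat_lit 13, nat_lit 57], [nat_lit 0, nat_lit 28, nat_lit 56], ⟨[nat_lit 0x9be835994993836bc04c3a085a81b1], [nat_lit 175104, nat_lit 168448, nat_lit 165120, nat_lit 160896, nat_lit 156928, nat_lit 153568, nat_lit 149184, nat_lit 144112, nat_lit 141300, nat_lit 137050, nat_lit 132840, nat_lit 1004, nat_lit 5900, nat_lit 10216, nat_lit 12800, nat_lit 16512, nat_lit 21632, nat_lit 25728, nat_lit 29696, nat_lit 37888, nat_lit 41216, nat_lit 37235, nat_lit 33345, nat_lit 28688, nat_lit 24586, nat_lit 20762, nat_lit 16512, nat_lit 12323, nat_lit 8193, nat_lit 4104, nat_lit 2]⟩⟩ ⟨(nat_lit 2), ⟨[nat_lit 85, nat_lit 77, nat_lit 79, nat_lit 77], [nat_lit 79, nat_lit 76, nat_lit 83, nat_lit 77], (nat_lit 179), ⟨[nat_lit 0, nat_lit 34, nat_lit 50], [nat_lit 17, nat_lit 57],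 ⟨[nat_lit 0x6422b5002eacc66690e9bbd16a1452], [nat_lit 173056, nat_lit 168448, nat_lit 164352, nat_lit 157504, nat_lit 153408, nat_lit 147584, nat_lit 145304, nat_lit 139300, nat_lit 136092, nat_lit 133805, nat_lit 5084, nat_lit 8320, nat_lit 12944, nat_lit 18176, nat_lit 20608, nat_lit 24832, nat_lit 29952, nat_lit 37888, nat_lit 41849, nat_lit 38070, nat_lit 32907, nat_lit 28938, nat_lit 25146, nat_lit 20562, nat_lit 16461, nat_lit 12305, nat_lit 8226, nat_lit 4128]⟩⟩⟩, ⟨[nat_lit 71, nat_lit 49, nat_lit 67, nat_lit 49, nat_lit 46], [], (nat_lit 148), ⟨[nat_lit 0, nat_lit 2, nat_lit 93], [nat_lit 0, nat_lit 14, nat_lit 67], ⟨[nat_lit 0x2358b2d2c8055d3199413c22990aef], [nat_lit 173056, nat_lit 169472, nat_lit 164608, nat_lit 160896, nat_lit 155968, nat_lit 154368, nat_lit 148624, nat_lit 143712, nat_lit 140216, nat_lit 136690, nat_lit 132498, nat_lit 796, nat_lit 4780, nat_lit 8224, nat_lit 14176, nat_lit 16704, nat_lit 25728, nat_lit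 29440, nat_lit 41952, nat_lit 37029, nat_lit 32846, nat_lit 29189, nat_lit 24878, nat_lit 20502, nat_lit 16428, nat_lit 12306, nat_lit 4113, nat_lit 2]⟩⟩⟩⟩]

theorem dcMr89 : Rng dcM 89 91 := Rng.of (l := dcMc89) (by decide +kernel)

def dcMc91 : List Cert := [.edge ⟨[nat_lit 43, nat_lit 89], [nat_lit 85, nat_lit 48], ⟨[nat_lit 0x98c50520c459d25b55ae8c80163e97], [nat_lit 169472, nat_lit 167680, nat_lit 161152, nat_lit 157568, nat_lit 153056, nat_lit 148944, nat_lit 143448, nat_lit 139948, nat_lit 135218, nat_lit 133066, nat_lit 1396, nat_lit 4380, nat_lit 9840, nat_lit 14144, nat_lit 16416, nat_lit 20544, nat_lit 24832, nat_lit 29440, nat_lit 34304, nat_lit 41728, nat_lit 37120, nat_lit 33476, nat_lit 28993, nat_lit 24624, nat_lit 20560, nat_lit 16462, nat_lit 12308, nat_lit 8210, nat_lit 4104]⟩⟩ ⟨(nat_lit 2), ⟨[nat_lit 85, nat_lit 85, nat_lit 81], [], (nat_lit 180), ⟨[nat_lit 0, nat_lit 85, nat_lit 67], [nat_lit 84, nat_lit 51],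 ⟨[nat_lit 0x6c64cb5ca7a9a8442c607ba1308949], [nat_lit 175104, nat_lit 169472, nat_lit 159872, nat_lit 157696, nat_lit 155424, nat_lit 150208, nat_lit 144744, nat_lit 142100, nat_lit 136300, nat_lit 133538, nat_lit 434, nat_lit 4964, nat_lit 9888, nat_lit 12432, nat_lit 18112, nat_lit 21568, nat_lit 25856, nat_lit 29184, nat_lit 33280, nat_lit 41783, nat_lit 37972, nat_lit 33399, nat_lit 28707, nat_lit 25117, nat_lit 20489, nat_lit 16448, nat_lit 12307, nat_lit 8195]⟩⟩⟩, ⟨[nat_lit 69, nat_lit 69, nat_lit 72, nat_lit 48, nat_lit 49], [], (nat_lit 130), ⟨[nat_lit 0, nat_lit 32, nat_lit 64], [nat_lit 0, nat_lit 15, nat_lit 61], ⟨[nat_lit 0x71aeda11698d66578910b1c616024a], [nat_lit 173056, nat_lit 168448, nat_lit 165120, nat_lit 156288, nat_lit 152800, nat_lit 149808, nat_lit 143528, nat_lit 140852, nat_lit 136192, nat_lit 132347, nat_lit 1794, nat_lit 5888, nat_lit 9784, nat_lit 13552, nat_lit 18176, nat_lit 21248, nat_lit 24704, nat_lit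 34304, nat_lit 41909, nat_lit 38287, nat_lit 32976, nat_lit 28984, nat_lit 24758, nat_lit 20623, nat_lit 16386, nat_lit 12352, nat_lit 8201, nat_lit 4101]⟩⟩⟩⟩,
  .edge ⟨[nat_lit 0, nat_lit 25, nat_lit 59], [nat_lit 0, nat_lit 6, nat_lit 49], ⟨[nat_lit 0xa12a71c6022dcd6982415b54f73128], [nat_lit 173056, nat_lit 169984, nat_lit 165376, nat_lit 161664, nat_lit 157568, nat_lit 152992, nat_lit 149200, nat_lit 143712, nat_lit 139572, nat_lit 135944, nat_lit 133007, nat_lit 1438, nat_lit 6084, nat_lit 8520, nat_lit 13552, nat_lit 16768, nat_lit 21760, nat_lit 25216, nat_lit 29440, nat_lit 33792, nat_lit 37888, nat_lit 40975, nat_lit 37312, nat_lit 33470, nat_lit 29189, nat_lit 24761, nat_lit 20573, nat_lit 16392, nat_lit 12292, nat_lit 8202, nat_lit 32]⟩⟩ ⟨(nat_lit 2), ⟨[nat_lit 79, nat_lit 78], [], (nat_lit 180), ⟨[nat_lit 8, nat_lit 94], [nat_lit 76, nat_lit 58], ⟨[nat_lit 0x986424d2eb88e0045955699c47b0a7], [nat_lit 168960, nat_lit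 164352, nat_lit 160384, nat_lit 157120, nat_lit 155200, nat_lit 149120, nat_lit 145288, nat_lit 139636, nat_lit 136264, nat_lit 131476, nat_lit 1214, nat_lit 4540, nat_lit 8320, nat_lit 14144, nat_lit 16416, nat_lit 20608, nat_lit 25216, nat_lit 30464, nat_lit 37888, nat_lit 41888, nat_lit 38231, nat_lit 33853, nat_lit 28724, nat_lit 24582, nat_lit 20484, nat_lit 8226, nat_lit 4100]⟩⟩⟩, ⟨[nat_lit 47, nat_lit 73, nat_lit 73, nat_lit 47], [nat_lit 49, nat_lit 73, nat_lit 69, nat_lit 46], (nat_lit 181), ⟨[nat_lit 0, nat_lit 1, nat_lit 57], [nat_lit 0, nat_lit 7, nat_lit 69], ⟨[nat_lit 0x80a407256d0c47343d4c2d8f5bd0c4], [nat_lit 175104, nat_lit 165888, nat_lit 163584, nat_lit 158464, nat_lit 153472, nat_lit 148272, nat_lit 144048, nat_lit 142220, nat_lit 139070, nat_lit 132817, nat_lit 1124, nat_lit 4548, nat_lit 9280, nat_lit 13712, nat_lit 17216, nat_lit 21504, nat_lit 26368, nat_lit 30464, nat_lit 33792, nat_lit 41743, nat_lit 37324,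 nat_lit 33444, nat_lit 28781, nat_lit 24603, nat_lit 20487, nat_lit 16458, nat_lit 12352, nat_lit 8225, nat_lit 8]⟩⟩⟩⟩]

theorem dcMr91 : Rng dcM 91 93 := Rng.of (l := dcMc91) (by decide +kernel)

def dcMc93 : List Cert := [.edge ⟨[nat_lit 0, nat_lit 23, nat_lit 46], [nat_lit 0, nat_lit 83, nat_lit 61], ⟨[nat_lit 0x4306ea19b35140493ee74c051586b6], [nat_lit 174080, nat_lit 168448, nat_lit 164096, nat_lit 156608, nat_lit 152512, nat_lit 147808, nat_lit 144064, nat_lit 140616, nat_lit 136334, nat_lit 131765, nat_lit 1720, nat_lit 5208, nat_lit 9192, nat_lit 13264, nat_lit 16928, nat_lit 26368, nat_lit 29952, nat_lit 33792, nat_lit 41792, nat_lit 38189, nat_lit 34039, nat_lit 28971, nat_lit 24583, nat_lit 20763, nat_lit 16524, nat_lit 12326, nat_lit 8226, nat_lit 4097]⟩⟩ ⟨(nat_lit 2), ⟨[nat_lit 82, nat_lit 84, nat_lit 86], [nat_lit 79, nat_lit 76, nat_lit 83, nat_lit 77], (nat_lit 179), ⟨[nat_lit 0, nat_lit 91], [nat_lit 0, nat_lit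 19, nat_lit 92], ⟨[nat_lit 0x13a88214d17d5439c24768536b816c], [nat_lit 168448, nat_lit 165632, nat_lit 163584, nat_lit 156416, nat_lit 152416, nat_lit 147632, nat_lit 144480, nat_lit 140376, nat_lit 136756, nat_lit 131941, nat_lit 318, nat_lit 4952, nat_lit 8928, nat_lit 13344, nat_lit 18048, nat_lit 21632, nat_lit 25728, nat_lit 29184, nat_lit 33280, nat_lit 37888, nat_lit 41850, nat_lit 36992, nat_lit 32929, nat_lit 28766, nat_lit 24734, nat_lit 20737, nat_lit 16399, nat_lit 12308, nat_lit 8195, nat_lit 4]⟩⟩⟩, ⟨[nat_lit 71, nat_lit 67, nat_lit 67, nat_lit 69], [], (nat_lit 130), ⟨[nat_lit 0, nat_lit 73, nat_lit 61], [nat_lit 62], ⟨[nat_lit 0x53e6ca38071c4286d446ba6d25c085], [nat_lit 174080, nat_lit 171520, nat_lit 167680, nat_lit 162176, nat_lit 156736, nat_lit 153664, nat_lit 149840, nat_lit 144536, nat_lit 141888, nat_lit 135412, nat_lit 132772, nat_lit 1054, nat_lit 5064, nat_lit 10224, nat_lit 12928, nat_lit 21760, nat_lit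 24704, nat_lit 41530, nat_lit 38361, nat_lit 33319, nat_lit 28763, nat_lit 24581, nat_lit 20993, nat_lit 16527, nat_lit 12421, nat_lit 4104, nat_lit 64]⟩⟩⟩⟩,
  .edge ⟨[nat_lit 79, nat_lit 69], [nat_lit 74, nat_lit 90], ⟨[nat_lit 0xb46f07292d39020194c2a5672431eb], [nat_lit 175104, nat_lit 171520, nat_lit 167680, nat_lit 156416, nat_lit 152672, nat_lit 150384, nat_lit 145200, nat_lit 139952, nat_lit 138344, nat_lit 134815, nat_lit 1224, nat_lit 5296, nat_lit 8928, nat_lit 13920, nat_lit 16576, nat_lit 21120, nat_lit 26240, nat_lit 30208, nat_lit 41392, nat_lit 37085, nat_lit 33007, nat_lit 29043, nat_lit 24590, nat_lit 20740, nat_lit 16519, nat_lit 12291, nat_lit 8193, nat_lit 4097]⟩⟩ ⟨(nat_lit 2), ⟨[nat_lit 78, nat_lit 81, nat_lit 86], [], (nat_lit 182), ⟨[nat_lit 0, nat_lit 72, nat_lit 67], [nat_lit 35, nat_lit 48], ⟨[nat_lit 0x8264b6804e216f63d2a642a717846c], [nat_lit 173056, nat_lit 164096, nat_lit 161280, nat_lit 157184, nat_lit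 153472, nat_lit 148064, nat_lit 143832, nat_lit 139732, nat_lit 136994, nat_lit 133258, nat_lit 318, nat_lit 4404, nat_lit 8504, nat_lit 13664, nat_lit 16832, nat_lit 22336, nat_lit 24832, nat_lit 30208, nat_lit 34304, nat_lit 37888, nat_lit 41470, nat_lit 37303, nat_lit 33436, nat_lit 28762, nat_lit 24733, nat_lit 20509, nat_lit 16422, nat_lit 12304, nat_lit 8193, nat_lit 4097]⟩⟩⟩, ⟨[nat_lit 70, nat_lit 69, nat_lit 66, nat_lit 48, nat_lit 66], [], (nat_lit 178), ⟨[nat_lit 29, nat_lit 61], [nat_lit 3, nat_lit 53], ⟨[nat_lit 0x920af82da7a0af61803572a6623131], [nat_lit 173056, nat_lit 170496, nat_lit 166912, nat_lit 162432, nat_lit 159552, nat_lit 152064, nat_lit 150864, nat_lit 147336, nat_lit 140644, nat_lit 138604, nat_lit 132527, nat_lit 1694, nat_lit 5588, nat_lit 8928, nat_lit 13552, nat_lit 17408, nat_lit 20928, nat_lit 25216, nat_lit 29952, nat_lit 33792, nat_lit 37888, nat_lit 41603, nat_lit 37337, nat_lit 33386, nat_lit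 29052, nat_lit 24720, nat_lit 20757, nat_lit 16398, nat_lit 12294, nat_lit 4104, nat_lit 64]⟩⟩⟩⟩]

theorem dcMr93 : Rng dcM 93 95 := Rng.of (l := dcMc93) (by decide +kernel)

def dcMc95 : List Cert := [.edge ⟨[nat_lit 0, nat_lit 37, nat_lit 47], [nat_lit 30, nat_lit 46], ⟨[nat_lit 0x6013184ac6184952ba8dba9079ac4f], [nat_lit 173056, nat_lit 159872, nat_lit 156608, nat_lit 153088, nat_lit 147616, nat_lit 143464, nat_lit 140500, nat_lit 135902, nat_lit 131298, nat_lit 1318, nat_lit 5084, nat_lit 14176, nat_lit 18112, nat_lit 22208, nat_lit 25984, nat_lit 33792, nat_lit 37888, nat_lit 41525, nat_lit 38390, nat_lit 33428, nat_lit 29251, nat_lit 24855, nat_lit 21525, nat_lit 16393, nat_lit 12289, nat_lit 8194, nat_lit 4100, nat_lit 8]⟩⟩ ⟨(nat_lit 2), ⟨[nat_lit 76, nat_lit 84, nat_lit 87, nat_lit 77], [], (nat_lit 186), ⟨[nat_lit 24, nat_lit 65], [nat_lit 74], ⟨[nat_lit 0xad2121818e21548499676882f8ced7], [nat_lit 173056, nat_lit 164608,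 nat_lit 161664, nat_lit 157120, nat_lit 153408, nat_lit 148272, nat_lit 144768, nat_lit 140888, nat_lit 136096, nat_lit 133965, nat_lit 1652, nat_lit 4340, nat_lit 9928, nat_lit 12976, nat_lit 18368, nat_lit 21632, nat_lit 24960, nat_lit 30208, nat_lit 41265, nat_lit 36919, nat_lit 32794, nat_lit 28675, nat_lit 24577, nat_lit 21018, nat_lit 16389, nat_lit 12293, nat_lit 8203, nat_lit 4100, nat_lit 8]⟩⟩⟩, ⟨[nat_lit 69, nat_lit 49, nat_lit 69], [], (nat_lit 119), ⟨[nat_lit 0, nat_lit 38, nat_lit 46], [nat_lit 0, nat_lit 39, nat_lit 46], ⟨[nat_lit 0x82536bd6aa5487b96c66250e18a30], [nat_lit 174080, nat_lit 169984, nat_lit 166400, nat_lit 160512, nat_lit 158528, nat_lit 154176, nat_lit 148592, nat_lit 146224, nat_lit 140708, nat_lit 136424, nat_lit 132486, nat_lit 526, nat_lit 4568, nat_lit 10088, nat_lit 12352, nat_lit 18336, nat_lit 22336, nat_lit 25728, nat_lit 29952, nat_lit 33792, nat_lit 37888, nat_lit 41406, nat_lit 37354, nat_lit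 33000, nat_lit 28776, nat_lit 24725, nat_lit 20489, nat_lit 16388, nat_lit 12321, nat_lit 4608, nat_lit 32]⟩⟩⟩⟩,
  .edge ⟨[nat_lit 19, nat_lit 48], [nat_lit 33, nat_lit 58], ⟨[nat_lit 0x5d90fa89a033a8722872bc60c2cc29], [nat_lit 173056, nat_lit 168448, nat_lit 164352, nat_lit 156800, nat_lit 152064, nat_lit 145160, nat_lit 142568, nat_lit 135810, nat_lit 132292, nat_lit 1928, nat_lit 4100, nat_lit 9664, nat_lit 12720, nat_lit 17984, nat_lit 20672, nat_lit 25856, nat_lit 29952, nat_lit 33792, nat_lit 37888, nat_lit 41924, nat_lit 37281, nat_lit 32964, nat_lit 28676, nat_lit 24637, nat_lit 20545, nat_lit 16418, nat_lit 12306, nat_lit 8195, nat_lit 4]⟩⟩ ⟨(nat_lit 2), ⟨[nat_lit 86, nat_lit 80, nat_lit 76], [nat_lit 85, nat_lit 80, nat_lit 84, nat_lit 83, nat_lit 76], (nat_lit 189), ⟨[nat_lit 9, nat_lit 56], [nat_lit 0, nat_lit 40, nat_lit 60], ⟨[nat_lit 0x7b9ac4292b08860a5af58ce50390c5], [nat_lit 174080, nat_lit 171520, nat_lit 167424,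 nat_lit 160384, nat_lit 156224, nat_lit 152736, nat_lit 151504, nat_lit 143784, nat_lit 141112, nat_lit 138962, nat_lit 133805, nat_lit 1938, nat_lit 5436, nat_lit 8984, nat_lit 13792, nat_lit 16448, nat_lit 21760, nat_lit 24704, nat_lit 41668, nat_lit 38303, nat_lit 33515, nat_lit 28673, nat_lit 24607, nat_lit 20755, nat_lit 16462, nat_lit 12355, nat_lit 8201, nat_lit 4128]⟩⟩⟩, ⟨[nat_lit 81, nat_lit 86, nat_lit 79, nat_lit 76], [], (nat_lit 188), ⟨[nat_lit 0, nat_lit 23, nat_lit 89], [nat_lit 0, nat_lit 18, nat_lit 64], ⟨[nat_lit 0x390a65a548ada970804384a71635ee], [nat_lit 175104, nat_lit 169472, nat_lit 166400, nat_lit 162560, nat_lit 157952, nat_lit 151648, nat_lit 147936, nat_lit 144744, nat_lit 142436, nat_lit 139118, nat_lit 132542, nat_lit 1624, nat_lit 4780, nat_lit 8408, nat_lit 13552, nat_lit 16768, nat_lit 20800, nat_lit 25344, nat_lit 29952, nat_lit 33792, nat_lit 37888, nat_lit 41498, nat_lit 37333, nat_lit 33527,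 nat_lit 29188, nat_lit 24715, nat_lit 20760, nat_lit 16394, nat_lit 8195, nat_lit 4]⟩⟩⟩⟩]

theorem dcMr95 : Rng dcM 95 97 := Rng.of (l := dcMc95) (by decide +kernel)

def dcMc97 : List Cert := [.edge tw0 ⟨(nat_lit 1), ⟨[], [nat_lit 79, nat_lit 76, nat_lit 83, nat_lit 77], (nat_lit 179), ⟨[nat_lit 0, nat_lit 80, nat_lit 64], [nat_lit 18, nat_lit 92], ⟨[nat_lit 0x994436b09175d010594f352b25a607], [nat_lit 173056, nat_lit 169472, nat_lit 167424, nat_lit 157056, nat_lit 154176, nat_lit 150800, nat_lit 145680, nat_lit 141368, nat_lit 139154, nat_lit 132485, nat_lit 1440, nat_lit 4476, nat_lit 9752, nat_lit 13552, nat_lit 17632, nat_lit 21504, nat_lit 25088, nat_lit 29184, nat_lit 33280, nat_lit 41570, nat_lit 37042, nat_lit 32826, nat_lit 29271, nat_lit 24578, nat_lit 20639, nat_lit 16424, nat_lit 12292, nat_lit 8200]⟩⟩⟩, ⟨[nat_lit 46, nat_lit 46, nat_lit 46, nat_lit 46], [], (nat_lit 178), ⟨[nat_lit 0, nat_lit 25, nat_lit 92], [nat_lit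 0, nat_lit 43, nat_lit 53], ⟨[nat_lit 0x994436b09175d010594f352b25a607], [nat_lit 173056, nat_lit 169472, nat_lit 167424, nat_lit 157056, nat_lit 154208, nat_lit 150800, nat_lit 145688, nat_lit 141372, nat_lit 139152, nat_lit 132485, nat_lit 1440, nat_lit 4476, nat_lit 9752, nat_lit 13552, nat_lit 17632, nat_lit 21504, nat_lit 25088, nat_lit 29184, nat_lit 33280, nat_lit 41570, nat_lit 37042, nat_lit 32826, nat_lit 29271, nat_lit 24578, nat_lit 20639, nat_lit 16424, nat_lit 12292, nat_lit 8200]⟩⟩⟩⟩,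
  .edge ⟨[nat_lit 0, nat_lit 85, nat_lit 49], [nat_lit 0, nat_lit 77, nat_lit 90], ⟨[nat_lit 0x2b4c44c6c15c2a21a2f2a4d40638ef], [nat_lit 171520, nat_lit 165120, nat_lit 160128, nat_lit 157312, nat_lit 152736, nat_lit 148736, nat_lit 145120, nat_lit 139900, nat_lit 135656, nat_lit 132490, nat_lit 1014, nat_lit 5716, nat_lit 9648, nat_lit 13664, nat_lit 17824, nat_lit 22400, nat_lit 26112, nat_lit 29696, nat_lit 33792, nat_lit 41721, nat_lit 37339, nat_lit 33499, nat_lit 29230, nat_lit 24614, nat_lit 20496, nat_lit 16419, nat_lit 12290, nat_lit 4105, nat_lit 2]⟩⟩ ⟨(nat_lit 2), ⟨[nat_lit 87, nat_lit 85, nat_lit 79, nat_lit 76], [nat_lit 79, nat_lit 76, nat_lit 83, nat_lit 77], (nat_lit 179), ⟨[nat_lit 23, nat_lit 56], [nat_lit 0, nat_lit 12, nat_lit 60], ⟨[nat_lit 0xd817a8c542c8d381e244ad8d53dc8], [nat_lit 164608, nat_lit 161280, nat_lit 157568, nat_lit 153088, nat_lit 147824, nat_lit 147448, nat_lit 140204, nat_lit 136870, nat_lit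 132686, nat_lit 1554, nat_lit 4168, nat_lit 8408, nat_lit 12544, nat_lit 17536, nat_lit 22336, nat_lit 26112, nat_lit 33792, nat_lit 41498, nat_lit 36948, nat_lit 32920, nat_lit 28774, nat_lit 24616, nat_lit 20511, nat_lit 16424, nat_lit 12289, nat_lit 8211, nat_lit 4113, nat_lit 8]⟩⟩⟩, ⟨[nat_lit 66, nat_lit 47], [], (nat_lit 122), ⟨[nat_lit 32, nat_lit 68], [nat_lit 8, nat_lit 67], ⟨[nat_lit 0x481819b9121d62438a905b6d7514cf], [nat_lit 175104, nat_lit 169984, nat_lit 166656, nat_lit 162560, nat_lit 157504, nat_lit 153984, nat_lit 151040, nat_lit 144200, nat_lit 141940, nat_lit 135598, nat_lit 132126, nat_lit 122, nat_lit 4108, nat_lit 10032, nat_lit 14304, nat_lit 17600, nat_lit 22144, nat_lit 26240, nat_lit 34304, nat_lit 37888, nat_lit 41151, nat_lit 37252, nat_lit 33472, nat_lit 28763, nat_lit 24735, nat_lit 21509, nat_lit 16429, nat_lit 12293, nat_lit 4113, nat_lit 8]⟩⟩⟩⟩]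

theorem dcMr97 : Rng dcM 97 99 := Rng.of (l := dcMc97) (by decide +kernel)

def dcMc99 : List Cert := [.edge tw0 ⟨(nat_lit 1), ⟨[], [nat_lit 81, nat_lit 77], (nat_lit 177), ⟨[nat_lit 80, nat_lit 90], [nat_lit 5, nat_lit 94], ⟨[nat_lit 0x9de166988c0212252c617b8a7a4a35], [nat_lit 174080, nat_lit 168960, nat_lit 165632, nat_lit 160512, nat_lit 152960, nat_lit 148800, nat_lit 144184, nat_lit 140316, nat_lit 135808, nat_lit 131083, nat_lit 738, nat_lit 4696, nat_lit 9848, nat_lit 13616, nat_lit 20992, nat_lit 26368, nat_lit 29696, nat_lit 34304, nat_lit 41980, nat_lit 38380, nat_lit 33942, nat_lit 24836, nat_lit 20557, nat_lit 16901, nat_lit 12358, nat_lit 8209, nat_lit 4129]⟩⟩⟩, ⟨[nat_lit 28, nat_lit 32, nat_lit 25, nat_lit 26, nat_lit 23, nat_lit 25], [], (nat_lit 176), ⟨[nat_lit 0, nat_lit 45, nat_lit 58], [nat_lit 0, nat_lit 41, nat_lit 47], ⟨[nat_lit 0xbdab45212b7b58e18402310a784a71], [nat_lit 168960, nat_lit 166656, nat_lit 156992,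 nat_lit 152416, nat_lit 148672, nat_lit 144296, nat_lit 140408, nat_lit 136850, nat_lit 132030, nat_lit 78, nat_lit 4568, nat_lit 13392, nat_lit 17856, nat_lit 20736, nat_lit 25088, nat_lit 28928, nat_lit 41936, nat_lit 37198, nat_lit 32772, nat_lit 25100, nat_lit 16385, nat_lit 12806, nat_lit 8448, nat_lit 4161, nat_lit 2]⟩⟩⟩⟩,
  .stab (nat_lit 176) tw0 ⟨(nat_lit 0), ⟨[nat_lit 24, nat_lit 23, nat_lit 29, nat_lit 30, nat_lit 25, nat_lit 32, nat_lit 21, nat_lit 28], [], (nat_lit 176), ⟨[nat_lit 22, nat_lit 53], [nat_lit 11, nat_lit 90], ⟨[nat_lit 0x8d692bced04a0025a861234cc3bcae], [nat_lit 173056, nat_lit 171008, nat_lit 164608, nat_lit 159872, nat_lit 159040, nat_lit 153440, nat_lit 148336, nat_lit 147224, nat_lit 141956, nat_lit 137838, nat_lit 133506, nat_lit 1530, nat_lit 4540, nat_lit 8408, nat_lit 12592, nat_lit 18112, nat_lit 20800, nat_lit 24704, nat_lit 29696, nat_lit 33280, nat_lit 37888, nat_lit 41542, nat_lit 38204,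 nat_lit 33473, nat_lit 28701, nat_lit 24605, nat_lit 20742, nat_lit 16399, nat_lit 12311, nat_lit 8193, nat_lit 4112]⟩⟩⟩, ap0⟩,
  .prod [] [nat_lit 77, nat_lit 79, nat_lit 77, nat_lit 76],
  .prod [] [nat_lit 100, nat_lit 79, nat_lit 77, nat_lit 101]]

theorem dcMr99 : Rng dcM 99 103 := Rng.of (l := dcMc99) (by decide +kernel)

def dcMc103 : List Cert := [.prod [] [nat_lit 102, nat_lit 76, nat_lit 79, nat_lit 76],
  .prod [] [nat_lit 78, nat_lit 102, nat_lit 77, nat_lit 79],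
  .prod [] [nat_lit 76, nat_lit 77, nat_lit 79, nat_lit 101],
  .prod [] [nat_lit 105, nat_lit 100, nat_lit 104, nat_lit 105],
  .prod [] [nat_lit 104, nat_lit 104, nat_lit 101, nat_lit 100],
  .defn,
  .stab (nat_lit 216) tw0 ⟨(nat_lit 0), ⟨[nat_lit 28, nat_lit 21, nat_lit 22, nat_lit 25, nat_lit 28, nat_lit 25, nat_lit 23, nat_lit 21, nat_lit 22], [], (nat_lit 216), ⟨[nat_lit 73, nat_lit 94], [nat_lit 0, nat_lit 41, nat_lit 57], ⟨[nat_lit 0x1eec788d6191b482e53706a54a151], [nat_lit 173056, nat_lit 169472, nat_lit 165632, nat_lit 160000, nat_lit 155776, nat_lit 153312, nat_lit 148752, nat_lit 143480, nat_lit 143272, nat_lit 135420, nat_lit 132135, nat_lit 1298, nat_lit 6084, nat_lit 8448, nat_lit 13552, nat_lit 17664, nat_lit 21696, nat_lit 26240, nat_lit 29184, nat_lit 33280, nat_lit 37888, nat_lit 41794, nat_lit 37124, nat_lit 33001, nat_lit 29020, nat_lit 24882, nat_lit 20635, nat_lit 16463, nat_lit 12320, nat_lit 4105, nat_lit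 2]⟩⟩⟩, ap0⟩]

theorem dcMr103 : Rng dcM 103 110 := Rng.of (l := dcMc103) (by decide +kernel)

def dcMc110 : List Cert := [.stab (nat_lit 216) tw0 ⟨(nat_lit 0), ⟨[nat_lit 29, nat_lit 26, nat_lit 26, nat_lit 24, nat_lit 25, nat_lit 25, nat_lit 26, nat_lit 28], [], (nat_lit 216), ⟨[nat_lit 5, nat_lit 64], [nat_lit 31, nat_lit 68], ⟨[nat_lit 0x15a745a071901acaa4ef51aee81424], [nat_lit 168448, nat_lit 165888, nat_lit 161280, nat_lit 157248, nat_lit 151680, nat_lit 148784, nat_lit 144312, nat_lit 140104, nat_lit 1124, nat_lit 4352, nat_lit 10032, nat_lit 14112, nat_lit 16512, nat_lit 20736, nat_lit 25088, nat_lit 28928, nat_lit 33280, nat_lit 41728, nat_lit 37928, nat_lit 32840, nat_lit 28689, nat_lit 24840, nat_lit 16517, nat_lit 12544, nat_lit 8208, nat_lit 128]⟩⟩⟩, ap0⟩,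
  .stab (nat_lit 216) tw0 ⟨(nat_lit 0), ⟨[nat_lit 32, nat_lit 31, nat_lit 30, nat_lit 24, nat_lit 31, nat_lit 30, nat_lit 32, nat_lit 28, nat_lit 24], [], (nat_lit 216), ⟨[nat_lit 0, nat_lit 18, nat_lit 69], [nat_lit 77, nat_lit 49], ⟨[nat_lit 0x341ec0c44402db4b96b299d2875943], [nat_lit 171008, nat_lit 164352, nat_lit 161408, nat_lit 151840, nat_lit 148688, nat_lit 143792, nat_lit 140684, nat_lit 136872, nat_lit 131336, nat_lit 1818, nat_lit 5544, nat_lit 10168, nat_lit 12800, nat_lit 16640, nat_lit 21248, nat_lit 26496, nat_lit 30208, nat_lit 41533, nat_lit 37308, nat_lit 33468, nat_lit 29290, nat_lit 24710, nat_lit 20494, nat_lit 16448, nat_lit 12292, nat_lit 8203, nat_lit 4100, nat_lit 2]⟩⟩⟩, ap0⟩]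

theorem dcMr110 : Rng dcM 110 112 := Rng.of (l := dcMc110) (by decide +kernel)

def dcMc112 : List Cert := [.stab (nat_lit 216) tw0 ⟨(nat_lit 0), ⟨[nat_lit 25, nat_lit 29, nat_lit 27, nat_lit 29, nat_lit 23, nat_lit 31, nat_lit 26, nat_lit 21, nat_lit 23], [], (nat_lit 216), ⟨[nat_lit 17, nat_lit 55], [nat_lit 77, nat_lit 49], ⟨[nat_lit 0x341ec20a2102db4acae54a267b386a], [nat_lit 173056, nat_lit 168960, nat_lit 165376, nat_lit 161280, nat_lit 155712, nat_lit 152448, nat_lit 148032, nat_lit 144688, nat_lit 141624, nat_lit 135214, nat_lit 133005, nat_lit 1814, nat_lit 5540, nat_lit 10168, nat_lit 12416, nat_lit 17440, nat_lit 21248, nat_lit 26368, nat_lit 30208, nat_lit 33792, nat_lit 37888, nat_lit 41500, nat_lit 38144, nat_lit 32924, nat_lit 28773, nat_lit 24711, nat_lit 20486, nat_lit 16389, nat_lit 12547, nat_lit 8203, nat_lit 4105]⟩⟩⟩, ap0⟩,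
  .prod [] [nat_lit 110, nat_lit 110, nat_lit 110, nat_lit 110],
  .prod [] [nat_lit 112, nat_lit 111, nat_lit 110, nat_lit 113],
  .prod [] [nat_lit 114, nat_lit 111, nat_lit 109, nat_lit 111],
  .prod [] [nat_lit 111, nat_lit 111, nat_lit 110, nat_lit 109],
  .prod [] [nat_lit 110, nat_lit 111, nat_lit 114, nat_lit 114],
  .prod [] [nat_lit 117, nat_lit 112, nat_lit 109, nat_lit 113]]

theorem dcMr112 : Rng dcM 112 119 := Rng.of (l := dcMc112) (by decide +kernel)

def dcMc119 : List Cert := [.prod [] [nat_lit 113, nat_lit 111, nat_lit 112, nat_lit 116],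
  .prod [] [nat_lit 112, nat_lit 113, nat_lit 117, nat_lit 114],
  .edge ⟨[nat_lit 13], [nat_lit 72, nat_lit 66], ⟨[nat_lit 0x5b1cab90f6a18b58c02018a53425ed], [nat_lit 173056, nat_lit 169472, nat_lit 165120, nat_lit 160896, nat_lit 155904, nat_lit 151680, nat_lit 149712, nat_lit 145192, nat_lit 139896, nat_lit 137090, nat_lit 131984, nat_lit 508, nat_lit 4780, nat_lit 9840, nat_lit 13920, nat_lit 16640, nat_lit 20544, nat_lit 25856, nat_lit 28928, nat_lit 41508, nat_lit 37327, nat_lit 32957, nat_lit 28973, nat_lit 24613, nat_lit 20566, nat_lit 16399, nat_lit 12311, nat_lit 8209, nat_lit 4100]⟩⟩ ⟨(nat_lit 2), ⟨[nat_lit 46, nat_lit 49, nat_lit 47], [], (nat_lit 119), ⟨[nat_lit 76, nat_lit 62], [nat_lit 0, nat_lit 20, nat_lit 91], ⟨[nat_lit 0x1ccc51215885b348d6e7d8572ca88], [nat_lit 173056, nat_lit 169472, nat_lit 164096, nat_lit 160768, nat_lit 156736, nat_lit 151744, nat_lit 150304, nat_lit 145056, nat_lit 139620, nat_lit 136122,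 nat_lit 131979, nat_lit 1396, nat_lit 4380, nat_lit 12800, nat_lit 16640, nat_lit 20736, nat_lit 24704, nat_lit 30464, nat_lit 37888, nat_lit 41053, nat_lit 37072, nat_lit 32932, nat_lit 28976, nat_lit 25099, nat_lit 20498, nat_lit 16385, nat_lit 12355, nat_lit 8320, nat_lit 4128, nat_lit 16]⟩⟩⟩, ⟨[nat_lit 26, nat_lit 27, nat_lit 21, nat_lit 26, nat_lit 23, nat_lit 22], [], (nat_lit 216), ⟨[nat_lit 0, nat_lit 22, nat_lit 61], [nat_lit 1, nat_lit 68], ⟨[nat_lit 0x201135c8a2832914d5ea1b6c1bb8e6], [nat_lit 164608, nat_lit 160000, nat_lit 156288, nat_lit 153440, nat_lit 147792, nat_lit 145376, nat_lit 140016, nat_lit 136342, nat_lit 131522, nat_lit 158, nat_lit 4328, nat_lit 10160, nat_lit 13536, nat_lit 18112, nat_lit 21824, nat_lit 25344, nat_lit 29696, nat_lit 33280, nat_lit 37888, nat_lit 41979, nat_lit 38267, nat_lit 34022, nat_lit 29279, nat_lit 24747, nat_lit 20549, nat_lit 16427, nat_lit 12305, nat_lit 4104, nat_lit 2]⟩⟩⟩⟩]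

theorem dcMr119 : Rng dcM 119 122 := Rng.of (l := dcMc119) (by decide +kernel)

def dcMc122 : List Cert := [.edge ⟨[nat_lit 81, nat_lit 68], [nat_lit 38, nat_lit 64], ⟨[nat_lit 0x824241dda29ac068ba542d4ef42996], [nat_lit 175104, nat_lit 168448, nat_lit 164096, nat_lit 161536, nat_lit 159488, nat_lit 154816, nat_lit 150224, nat_lit 144632, nat_lit 142588, nat_lit 137040, nat_lit 133625, nat_lit 902, nat_lit 5544, nat_lit 9928, nat_lit 13136, nat_lit 17696, nat_lit 21504, nat_lit 24704, nat_lit 29952, nat_lit 33792, nat_lit 37888, nat_lit 41046, nat_lit 36936, nat_lit 32811, nat_lit 28738, nat_lit 24757, nat_lit 20507, nat_lit 16387, nat_lit 12291, nat_lit 8194, nat_lit 4101, nat_lit 2]⟩⟩ ⟨(nat_lit 2), ⟨[nat_lit 71, nat_lit 67, nat_lit 67, nat_lit 73, nat_lit 48], [], (nat_lit 120), ⟨[nat_lit 0, nat_lit 8, nat_lit 53], [nat_lit 9, nat_lit 68], ⟨[nat_lit 0x7358b3d0327a909bc065b185124ea0], [nat_lit 168960, nat_lit 165376, nat_lit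 161664, nat_lit 157056, nat_lit 155200, nat_lit 148624, nat_lit 144040, nat_lit 140448, nat_lit 136556, nat_lit 132131, nat_lit 32, nat_lit 5856, nat_lit 9384, nat_lit 13600, nat_lit 16896, nat_lit 20992, nat_lit 25728, nat_lit 29440, nat_lit 41504, nat_lit 36930, nat_lit 32928, nat_lit 28716, nat_lit 25122, nat_lit 20506, nat_lit 16426, nat_lit 12322, nat_lit 8195, nat_lit 4097]⟩⟩⟩, ⟨[nat_lit 46, nat_lit 67, nat_lit 66], [], (nat_lit 242), ⟨[nat_lit 0, nat_lit 8, nat_lit 64], [nat_lit 2, nat_lit 62], ⟨[nat_lit 0xa94626dcef352535c5c04d90462830], [nat_lit 175104, nat_lit 168448, nat_lit 165120, nat_lit 158208, nat_lit 155424, nat_lit 150032, nat_lit 144960, nat_lit 142316, nat_lit 136744, nat_lit 133511, nat_lit 1076, nat_lit 4160, nat_lit 8992, nat_lit 12816, nat_lit 16448, nat_lit 21312, nat_lit 26368, nat_lit 30464, nat_lit 34304, nat_lit 37888, nat_lit 41212, nat_lit 37050, nat_lit 32788, nat_lit 29307, nat_lit 24760, nat_lit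 20485, nat_lit 16385, nat_lit 12295, nat_lit 8194, nat_lit 4097]⟩⟩⟩⟩,
  .edge ⟨[nat_lit 15, nat_lit 48], [nat_lit 0, nat_lit 2, nat_lit 65], ⟨[nat_lit 0x8c8602d2c46ad88106707254fa9ee6], [nat_lit 173056, nat_lit 164352, nat_lit 161664, nat_lit 155904, nat_lit 153920, nat_lit 148544, nat_lit 144208, nat_lit 140136, nat_lit 136200, nat_lit 131402, nat_lit 116, nat_lit 4328, nat_lit 8824, nat_lit 13152, nat_lit 17408, nat_lit 21824, nat_lit 24832, nat_lit 33792, nat_lit 41526, nat_lit 38051, nat_lit 32800, nat_lit 28759, nat_lit 24624, nat_lit 20573, nat_lit 16456, nat_lit 12311, nat_lit 8200, nat_lit 4100, nat_lit 2]⟩⟩ ⟨(nat_lit 2), ⟨[nat_lit 115, nat_lit 120, nat_lit 111], [nat_lit 109, nat_lit 116, nat_lit 111], (nat_lit 243), ⟨[nat_lit 86], [nat_lit 0, nat_lit 3, nat_lit 53], ⟨[nat_lit 0x2594c8b5e0a0eb3b9dcb918a282029], [nat_lit 173056, nat_lit 169472, nat_lit 166144, nat_lit 162048, nat_lit 159168, nat_lit 153952, nat_lit 147792,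 nat_lit 145504, nat_lit 142824, nat_lit 135588, nat_lit 134496, nat_lit 1066, nat_lit 4352, nat_lit 9664, nat_lit 13744, nat_lit 17728, nat_lit 22272, nat_lit 25728, nat_lit 28928, nat_lit 33280, nat_lit 41735, nat_lit 38040, nat_lit 33394, nat_lit 28679, nat_lit 24604, nat_lit 20740, nat_lit 16463, nat_lit 12326, nat_lit 8195, nat_lit 4100]⟩⟩⟩, ⟨[nat_lit 69, nat_lit 49, nat_lit 73], [], (nat_lit 119), ⟨[nat_lit 39], [nat_lit 88, nat_lit 55], ⟨[nat_lit 0x1ceb2744881168651df0bb42cb012b], [nat_lit 173056, nat_lit 169984, nat_lit 164608, nat_lit 160512, nat_lit 155840, nat_lit 151968, nat_lit 144520, nat_lit 139844, nat_lit 136020, nat_lit 131260, nat_lit 986, nat_lit 6084, nat_lit 9752, nat_lit 12976, nat_lit 17472, nat_lit 21312, nat_lit 24832, nat_lit 29440, nat_lit 33280, nat_lit 37888, nat_lit 41715, nat_lit 38307, nat_lit 32832, nat_lit 29789, nat_lit 24832, nat_lit 20622, nat_lit 16906, nat_lit 12295, nat_lit 8195, nat_lit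 4]⟩⟩⟩⟩]

theorem dcMr122 : Rng dcM 122 124 := Rng.of (l := dcMc122) (by decide +kernel)

def dcMc124 : List Cert := [.edge ⟨[nat_lit 0, nat_lit 35, nat_lit 52], [nat_lit 9, nat_lit 57], ⟨[nat_lit 0xbc10660061b48ea9968b13dcd8d524], [nat_lit 165632, nat_lit 159872, nat_lit 156160, nat_lit 153152, nat_lit 149296, nat_lit 144896, nat_lit 140476, nat_lit 136778, nat_lit 134576, nat_lit 16, nat_lit 5588, nat_lit 9008, nat_lit 12480, nat_lit 16896, nat_lit 21184, nat_lit 25728, nat_lit 30208, nat_lit 34304, nat_lit 37888, nat_lit 41977, nat_lit 36953, nat_lit 32815, nat_lit 28693, nat_lit 25134, nat_lit 20550, nat_lit 16396, nat_lit 12309, nat_lit 8194, nat_lit 4097]⟩⟩ ⟨(nat_lit 2), ⟨[nat_lit 110, nat_lit 118], [nat_lit 109, nat_lit 116, nat_lit 111], (nat_lit 243), ⟨[nat_lit 12, nat_lit 60], [nat_lit 0, nat_lit 40, nat_lit 47], ⟨[nat_lit 0xbb42c94ea37448805969a144679e0a], [nat_lit 171008, nat_lit 165120, nat_lit 161152, nat_lit 158016,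 nat_lit 151968, nat_lit 148656, nat_lit 147136, nat_lit 142708, nat_lit 137452, nat_lit 134203, nat_lit 1874, nat_lit 4476, nat_lit 9376, nat_lit 13152, nat_lit 18112, nat_lit 21248, nat_lit 25600, nat_lit 29440, nat_lit 33792, nat_lit 37888, nat_lit 41885, nat_lit 38385, nat_lit 32775, nat_lit 28729, nat_lit 24629, nat_lit 20554, nat_lit 16397, nat_lit 12304, nat_lit 8201, nat_lit 4128, nat_lit 2]⟩⟩⟩, ⟨[nat_lit 46, nat_lit 72, nat_lit 66, nat_lit 49], [], (nat_lit 244), ⟨[nat_lit 0, nat_lit 8, nat_lit 89], [nat_lit 0, nat_lit 79, nat_lit 91], ⟨[nat_lit 0xa44b5080d0749e760d174ac93b29a2], [nat_lit 168448, nat_lit 164608, nat_lit 159872, nat_lit 156096, nat_lit 153184, nat_lit 147984, nat_lit 144128, nat_lit 140456, nat_lit 135512, nat_lit 133355, nat_lit 4, nat_lit 5884, nat_lit 8680, nat_lit 12976, nat_lit 17568, nat_lit 21184, nat_lit 25856, nat_lit 30208, nat_lit 34304, nat_lit 37888, nat_lit 41187, nat_lit 37181, nat_lit 33489,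 nat_lit 28961, nat_lit 24637, nat_lit 20555, nat_lit 16386, nat_lit 8194, nat_lit 4100]⟩⟩⟩⟩,
  .edge ⟨[nat_lit 0, nat_lit 36, nat_lit 50], [nat_lit 31, nat_lit 49], ⟨[nat_lit 0x218e55a50a184029ca306bd8ebd2b6], [nat_lit 175104, nat_lit 169472, nat_lit 166912, nat_lit 163072, nat_lit 159360, nat_lit 151648, nat_lit 149280, nat_lit 144088, nat_lit 142048, nat_lit 137742, nat_lit 131923, nat_lit 1918, nat_lit 5208, nat_lit 8632, nat_lit 12624, nat_lit 18272, nat_lit 20608, nat_lit 26112, nat_lit 29440, nat_lit 33792, nat_lit 41214, nat_lit 37030, nat_lit 32998, nat_lit 29006, nat_lit 24885, nat_lit 20486, nat_lit 16394, nat_lit 12311, nat_lit 8194, nat_lit 4097]⟩⟩ ⟨(nat_lit 2), ⟨[nat_lit 116, nat_lit 109, nat_lit 110], [nat_lit 109, nat_lit 116, nat_lit 111], (nat_lit 243), ⟨[nat_lit 9, nat_lit 90], [nat_lit 44, nat_lit 59], ⟨[nat_lit 0x84af31154d30dc978504600eba46b6], [nat_lit 168448, nat_lit 165376, nat_lit 163200, nat_lit 155712,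 nat_lit 153152, nat_lit 148160, nat_lit 144296, nat_lit 140504, nat_lit 135912, nat_lit 132779, nat_lit 568, nat_lit 5208, nat_lit 9768, nat_lit 13776, nat_lit 17216, nat_lit 20992, nat_lit 24832, nat_lit 29952, nat_lit 34304, nat_lit 41065, nat_lit 37299, nat_lit 32976, nat_lit 28999, nat_lit 24893, nat_lit 20554, nat_lit 16517, nat_lit 12357, nat_lit 8227, nat_lit 4097]⟩⟩⟩, ⟨[nat_lit 69, nat_lit 70, nat_lit 73, nat_lit 67, nat_lit 48], [], (nat_lit 120), ⟨[nat_lit 8, nat_lit 60], [nat_lit 0, nat_lit 85, nat_lit 66], ⟨[nat_lit 0x7d9144b003536132cae2ac42432cee], [nat_lit 169472, nat_lit 166656, nat_lit 160640, nat_lit 154528, nat_lit 150736, nat_lit 146960, nat_lit 142008, nat_lit 138938, nat_lit 132770, nat_lit 810, nat_lit 5768, nat_lit 8928, nat_lit 13312, nat_lit 16416, nat_lit 21504, nat_lit 25856, nat_lit 30208, nat_lit 41590, nat_lit 37333, nat_lit 32914, nat_lit 28796, nat_lit 24638, nat_lit 20552, nat_lit 16416, nat_lit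 12352, nat_lit 4097, nat_lit 2]⟩⟩⟩⟩]

theorem dcMr124 : Rng dcM 124 126 := Rng.of (l := dcMc124) (by decide +kernel)

def dcMc126 : List Cert := [.edge ⟨[nat_lit 23, nat_lit 48], [nat_lit 0, nat_lit 35, nat_lit 48], ⟨[nat_lit 0x12a21ba2144b592b38837d4079acc5], [nat_lit 169472, nat_lit 166656, nat_lit 161152, nat_lit 157632, nat_lit 151840, nat_lit 149136, nat_lit 144768, nat_lit 139968, nat_lit 136908, nat_lit 132688, nat_lit 718, nat_lit 6104, nat_lit 8464, nat_lit 14160, nat_lit 18240, nat_lit 20608, nat_lit 24704, nat_lit 29696, nat_lit 37888, nat_lit 41837, nat_lit 38061, nat_lit 32792, nat_lit 29255, nat_lit 25120, nat_lit 20554, nat_lit 16385, nat_lit 12323, nat_lit 8321, nat_lit 4100, nat_lit 8]⟩⟩ ⟨(nat_lit 2), ⟨[nat_lit 119, nat_lit 118, nat_lit 120], [], (nat_lit 250), ⟨[nat_lit 38, nat_lit 69], [nat_lit 10, nat_lit 57], ⟨[nat_lit 0xb82d51506169e6a8a5e54124c72cd0], [nat_lit 168448, nat_lit 165632, nat_lit 160128, nat_lit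 156224, nat_lit 155616, nat_lit 148336, nat_lit 144072, nat_lit 140308, nat_lit 136134, nat_lit 132128, nat_lit 1698, nat_lit 6104, nat_lit 9136, nat_lit 13264, nat_lit 17760, nat_lit 20544, nat_lit 25600, nat_lit 33792, nat_lit 37888, nat_lit 41296, nat_lit 37016, nat_lit 33968, nat_lit 28928, nat_lit 24618, nat_lit 20481, nat_lit 16390, nat_lit 12358, nat_lit 8202, nat_lit 4100, nat_lit 32]⟩⟩⟩, ⟨[nat_lit 70, nat_lit 70, nat_lit 72, nat_lit 49, nat_lit 49], [], (nat_lit 120), ⟨[nat_lit 85, nat_lit 67], [nat_lit 0, nat_lit 10], ⟨[nat_lit 0x5d4ce9892821e2168df285ec0550ac], [nat_lit 169472, nat_lit 165376, nat_lit 160768, nat_lit 157568, nat_lit 152640, nat_lit 148480, nat_lit 143528, nat_lit 141812, nat_lit 135996, nat_lit 132654, nat_lit 1580, nat_lit 4540, nat_lit 8224, nat_lit 13952, nat_lit 18176, nat_lit 20608, nat_lit 25600, nat_lit 29440, nat_lit 33280, nat_lit 41341, nat_lit 37086, nat_lit 32932, nat_lit 28689, nat_lit 25146,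 nat_lit 20496, nat_lit 16425, nat_lit 12310, nat_lit 4105, nat_lit 8]⟩⟩⟩⟩,
  .edge tw0 ⟨(nat_lit 1), ⟨[], [], (nat_lit 246), ⟨[nat_lit 34, nat_lit 63], [nat_lit 83, nat_lit 51], ⟨[nat_lit 0xbda95314e473dac5a12a8ce5010c20], [nat_lit 173056, nat_lit 163072, nat_lit 156672, nat_lit 151712, nat_lit 148176, nat_lit 144960, nat_lit 140944, nat_lit 136718, nat_lit 132620, nat_lit 128, nat_lit 4224, nat_lit 8200, nat_lit 12416, nat_lit 16448, nat_lit 22080, nat_lit 24704, nat_lit 34304, nat_lit 37888, nat_lit 41543, nat_lit 38032, nat_lit 32851, nat_lit 24592, nat_lit 20483, nat_lit 16448, nat_lit 12292, nat_lit 8200]⟩⟩⟩, ⟨[nat_lit 27, nat_lit 28, nat_lit 27, nat_lit 30, nat_lit 31, nat_lit 23, nat_lit 21], [], (nat_lit 216), ⟨[nat_lit 72, nat_lit 63], [nat_lit 23, nat_lit 56], ⟨[nat_lit 0x51ac94444f85665a31a75c82eb8c80], [nat_lit 169984, nat_lit 164352, nat_lit 161280, nat_lit 157056, nat_lit 153280, nat_lit 147680, nat_lit 144392, nat_lit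 140828, nat_lit 135944, nat_lit 132939, nat_lit 512, nat_lit 5588, nat_lit 9848, nat_lit 12800, nat_lit 17344, nat_lit 22144, nat_lit 24960, nat_lit 30464, nat_lit 33792, nat_lit 37888, nat_lit 41472, nat_lit 37180, nat_lit 32971, nat_lit 29029, nat_lit 24616, nat_lit 20570, nat_lit 16430, nat_lit 12293, nat_lit 8201, nat_lit 4128]⟩⟩⟩⟩]

theorem dcMr126 : Rng dcM 126 128 := Rng.of (l := dcMc126) (by decide +kernel)

def dcMc128 : List Cert := [.edge ⟨[nat_lit 0, nat_lit 11, nat_lit 54], [nat_lit 71, nat_lit 65], ⟨[nat_lit 0x610e8b88b05840f9b64aa3aa9b44c3], [nat_lit 173056, nat_lit 168960, nat_lit 165120, nat_lit 160768, nat_lit 156224, nat_lit 153504, nat_lit 148880, nat_lit 144448, nat_lit 141672, nat_lit 136438, nat_lit 132803, nat_lit 688, nat_lit 4548, nat_lit 8704, nat_lit 12800, nat_lit 17280, nat_lit 22336, nat_lit 25088, nat_lit 29696, nat_lit 33280, nat_lit 37888, nat_lit 41840, nat_lit 36996, nat_lit 32803, nat_lit 29207,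 nat_lit 24580, nat_lit 20743, nat_lit 16517, nat_lit 12293, nat_lit 4112, nat_lit 8]⟩⟩ ⟨(nat_lit 2), ⟨[nat_lit 119, nat_lit 109, nat_lit 109, nat_lit 109], [], (nat_lit 252), ⟨[nat_lit 4, nat_lit 49], [nat_lit 16, nat_lit 48], ⟨[nat_lit 0x95200308977546c9bd254582b6a8f1], [nat_lit 164096, nat_lit 160640, nat_lit 156224, nat_lit 153440, nat_lit 148368, nat_lit 144640, nat_lit 141952, nat_lit 136022, nat_lit 132424, nat_lit 1694, nat_lit 5488, nat_lit 9096, nat_lit 12672, nat_lit 16672, nat_lit 21056, nat_lit 26368, nat_lit 29440, nat_lit 37888, nat_lit 41523, nat_lit 36988, nat_lit 32908, nat_lit 29010, nat_lit 24631, nat_lit 20491, nat_lit 16449, nat_lit 12295, nat_lit 8202, nat_lit 4104, nat_lit 2]⟩⟩⟩, ⟨[nat_lit 49, nat_lit 66, nat_lit 49, nat_lit 66, nat_lit 46], [], (nat_lit 120), ⟨[nat_lit 0, nat_lit 27, nat_lit 47], [nat_lit 0, nat_lit 21, nat_lit 55], ⟨[nat_lit 0x2dc7072dac146c6a48e1521e998095], [nat_lit 171520, nat_lit 167168,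 nat_lit 162688, nat_lit 159296, nat_lit 152992, nat_lit 151408, nat_lit 146560, nat_lit 140576, nat_lit 138330, nat_lit 132264, nat_lit 1336, nat_lit 5064, nat_lit 8576, nat_lit 13600, nat_lit 17056, nat_lit 21184, nat_lit 25984, nat_lit 29440, nat_lit 41970, nat_lit 37319, nat_lit 33311, nat_lit 29026, nat_lit 24892, nat_lit 20498, nat_lit 16396, nat_lit 12293, nat_lit 8202]⟩⟩⟩⟩,
  .edge ⟨[nat_lit 44, nat_lit 90], [nat_lit 0, nat_lit 15, nat_lit 56], ⟨[nat_lit 0x214159c077b296178a8c41e2d4b8d2], [nat_lit 173056, nat_lit 164608, nat_lit 161024, nat_lit 157760, nat_lit 152480, nat_lit 149040, nat_lit 144984, nat_lit 140960, nat_lit 136082, nat_lit 131284, nat_lit 492, nat_lit 4548, nat_lit 10224, nat_lit 12992, nat_lit 18240, nat_lit 20800, nat_lit 34304, nat_lit 41223, nat_lit 37000, nat_lit 33917, nat_lit 29256, nat_lit 24601, nat_lit 20753, nat_lit 16456, nat_lit 12321, nat_lit 4104, nat_lit 16]⟩⟩ ⟨(nat_lit 2), ⟨[nat_lit 113,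 nat_lit 117, nat_lit 111, nat_lit 114, nat_lit 109], [], (nat_lit 256), ⟨[nat_lit 0, nat_lit 34, nat_lit 93], [nat_lit 15, nat_lit 64], ⟨[nat_lit 0xbd5c37c601608c459e744b500b164a], [nat_lit 169984, nat_lit 164352, nat_lit 160000, nat_lit 155712, nat_lit 151648, nat_lit 147520, nat_lit 145272, nat_lit 139448, nat_lit 135848, nat_lit 131229, nat_lit 1298, nat_lit 6056, nat_lit 9168, nat_lit 12976, nat_lit 17056, nat_lit 22400, nat_lit 30208, nat_lit 33280, nat_lit 41095, nat_lit 36928, nat_lit 32928, nat_lit 28960, nat_lit 25146, nat_lit 20546, nat_lit 16419, nat_lit 12304, nat_lit 9219, nat_lit 4105]⟩⟩⟩, ⟨[nat_lit 68, nat_lit 72, nat_lit 67, nat_lit 49, nat_lit 47], [], (nat_lit 244), ⟨[nat_lit 0, nat_lit 76, nat_lit 63], [nat_lit 0, nat_lit 38, nat_lit 54], ⟨[nat_lit 0x6848603ef581e88b45255b06a94dc2], [nat_lit 174080, nat_lit 170496, nat_lit 165888, nat_lit 160640, nat_lit 158464, nat_lit 153600, nat_lit 148160, nat_lit 146840,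 nat_lit 139556, nat_lit 136282, nat_lit 133112, nat_lit 586, nat_lit 4488, nat_lit 10088, nat_lit 14176, nat_lit 16928, nat_lit 21312, nat_lit 25472, nat_lit 29696, nat_lit 33792, nat_lit 41622, nat_lit 38145, nat_lit 33311, nat_lit 28968, nat_lit 24577, nat_lit 20616, nat_lit 16385, nat_lit 8193, nat_lit 4609, nat_lit 4]⟩⟩⟩⟩]

theorem dcMr128 : Rng dcM 128 130 := Rng.of (l := dcMc128) (by decide +kernel)

def dcMc130 : List Cert := [.stab (nat_lit 242) tw0 ⟨(nat_lit 0), ⟨[nat_lit 72, nat_lit 46, nat_lit 67, nat_lit 67, nat_lit 49, nat_lit 70, nat_lit 46, nat_lit 66], [], (nat_lit 242), ⟨[nat_lit 36, nat_lit 52], [nat_lit 0, nat_lit 35, nat_lit 60], ⟨[nat_lit 0x236b41942e042c93adea8c8cc14d17], [nat_lit 168448, nat_lit 164608, nat_lit 162432, nat_lit 155776, nat_lit 152896, nat_lit 149328, nat_lit 145304, nat_lit 140056, nat_lit 135838, nat_lit 132448, nat_lit 1268, nat_lit 6072, nat_lit 8448, nat_lit 13392, nat_lit 16672, nat_lit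 20608, nat_lit 25728, nat_lit 29696, nat_lit 33792, nat_lit 41088, nat_lit 37226, nat_lit 32911, nat_lit 25150, nat_lit 16450, nat_lit 12547, nat_lit 8203, nat_lit 4101]⟩⟩⟩, ap0⟩,
  .prod [] [nat_lit 111, nat_lit 109, nat_lit 111, nat_lit 111],
  .prod [] [nat_lit 111, nat_lit 112, nat_lit 112, nat_lit 109],
  .prod [] [nat_lit 112, nat_lit 111, nat_lit 132, nat_lit 110],
  .prod [] [nat_lit 132, nat_lit 110, nat_lit 131, nat_lit 132],
  .prod [] [nat_lit 132, nat_lit 130, nat_lit 111, nat_lit 109],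
  .prod [] [nat_lit 131, nat_lit 133, nat_lit 111, nat_lit 133]]

theorem dcMr130 : Rng dcM 130 137 := Rng.of (l := dcMc130) (by decide +kernel)

def dcMc137 : List Cert := [.prod [] [nat_lit 130, nat_lit 130, nat_lit 110, nat_lit 131],
  .defn,
  .stab (nat_lit 276) tw0 ⟨(nat_lit 0), ⟨[nat_lit 29, nat_lit 28, nat_lit 25, nat_lit 26, nat_lit 28, nat_lit 26, nat_lit 30, nat_lit 27, nat_lit 22], [], (nat_lit 276), ⟨[nat_lit 0, nat_lit 13, nat_lit 46], [nat_lit 72, nat_lit 49], ⟨[nat_lit 0x895e39aef23c00cb390d228d54d041], [nat_lit 170496, nat_lit 167680, nat_lit 163200, nat_lit 159680, nat_lit 151904, nat_lit 151216, nat_lit 147280, nat_lit 140996, nat_lit 138210, nat_lit 132574, nat_lit 1760, nat_lit 5084, nat_lit 8224, nat_lit 13872, nat_lit 17376, nat_lit 21952, nat_lit 25984, nat_lit 34304, nat_lit 37888, nat_lit 41529, nat_lit 38026, nat_lit 32859, nat_lit 29269, nat_lit 24614, nat_lit 20510, nat_lit 16423, nat_lit 12292, nat_lit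 8194, nat_lit 16]⟩⟩⟩, ap0⟩,
  .stab (nat_lit 276) tw0 ⟨(nat_lit 0), ⟨[nat_lit 26, nat_lit 22, nat_lit 29, nat_lit 24, nat_lit 28, nat_lit 30, nat_lit 31, nat_lit 28, nat_lit 29, nat_lit 21], [], (nat_lit 276), ⟨[nat_lit 0, nat_lit 29, nat_lit 59], [nat_lit 37, nat_lit 50], ⟨[nat_lit 0xa56489ad8f33ae13d9a38148a10131], [nat_lit 173056, nat_lit 170496, nat_lit 166912, nat_lit 162176, nat_lit 158336, nat_lit 153024, nat_lit 150096, nat_lit 145800, nat_lit 140564, nat_lit 138780, nat_lit 133079, nat_lit 512, nat_lit 6084, nat_lit 9752, nat_lit 13328, nat_lit 17088, nat_lit 20608, nat_lit 25472, nat_lit 34304, nat_lit 37888, nat_lit 41606, nat_lit 38250, nat_lit 32862, nat_lit 29242, nat_lit 24744, nat_lit 20568, nat_lit 16393, nat_lit 12290, nat_lit 8195, nat_lit 4101, nat_lit 4]⟩⟩⟩, ap0⟩]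

theorem dcMr137 : Rng dcM 137 141 := Rng.of (l := dcMc137) (by decide +kernel)

def dcMc141 : List Cert := [.stab (nat_lit 276) tw0 ⟨(nat_lit 0), ⟨[nat_lit 21, nat_lit 25, nat_lit 22, nat_lit 24, nat_lit 26, nat_lit 31, nat_lit 28, nat_lit 25, nat_lit 21, nat_lit 21], [], (nat_lit 276), ⟨[nat_lit 0, nat_lit 81, nat_lit 70], [nat_lit 44, nat_lit 94], ⟨[nat_lit 0xa160d9d58752d2123ef193ac618900], [nat_lit 174080, nat_lit 171520, nat_lit 164352, nat_lit 162688, nat_lit 158464, nat_lit 153600, nat_lit 147968, nat_lit 144936, nat_lit 139532, nat_lit 137718, nat_lit 134088, nat_lit 256, nat_lit 5856, nat_lit 8448, nat_lit 12544, nat_lit 18272, nat_lit 20928, nat_lit 24960, nat_lit 29696, nat_lit 33280, nat_lit 37888, nat_lit 41815, nat_lit 37373, nat_lit 32771, nat_lit 29223, nat_lit 24710, nat_lit 20494, nat_lit 16463, nat_lit 12291, nat_lit 8195, nat_lit 4097, nat_lit 2]⟩⟩⟩, ap0⟩,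
  .stab (nat_lit 276) tw0 ⟨(nat_lit 0), ⟨[nat_lit 29, nat_lit 24, nat_lit 26, nat_lit 22, nat_lit 32, nat_lit 26, nat_lit 32, nat_lit 27, nat_lit 29, nat_lit 24], [], (nat_lit 276), ⟨[nat_lit 91], [nat_lit 0, nat_lit 26, nat_lit 91], ⟨[nat_lit 0xc8d49a99075517b1e22590af68123], [nat_lit 174080, nat_lit 169984, nat_lit 166400, nat_lit 156096, nat_lit 152128, nat_lit 149936, nat_lit 143488, nat_lit 141088, nat_lit 139122, nat_lit 133277, nat_lit 1818, nat_lit 5580, nat_lit 8920, nat_lit 13072, nat_lit 17472, nat_lit 22336, nat_lit 24704, nat_lit 28928, nat_lit 34304, nat_lit 37888, nat_lit 41225, nat_lit 37291, nat_lit 32917, nat_lit 29004, nat_lit 24704, nat_lit 20505, nat_lit 16424, nat_lit 12323, nat_lit 8194, nat_lit 4097]⟩⟩⟩, ap0⟩,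
  .prod [] [nat_lit 139, nat_lit 141, nat_lit 141, nat_lit 140],
  .prod [] [nat_lit 142, nat_lit 143, nat_lit 142, nat_lit 142]]

theorem dcMr141 : Rng dcM 141 145 := Rng.of (l := dcMc141) (by decide +kernel)

def dcMc145 : List Cert := [.prod [] [nat_lit 139, nat_lit 140, nat_lit 140, nat_lit 142],
  .prod [] [nat_lit 141, nat_lit 141, nat_lit 139, nat_lit 141],
  .prod [] [nat_lit 144, nat_lit 146, nat_lit 146, nat_lit 143],
  .prod [] [nat_lit 144, nat_lit 139, nat_lit 141, nat_lit 139],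
  .prod [] [nat_lit 144, nat_lit 142, nat_lit 142, nat_lit 148],
  .prod [] [nat_lit 144, nat_lit 145, nat_lit 142, nat_lit 142],
  .edge tw0 ⟨(nat_lit 1), ⟨[], [], (nat_lit 277), tw0⟩, ⟨[nat_lit 25, nat_lit 25, nat_lit 25, nat_lit 25, nat_lit 25], [], (nat_lit 276), ⟨[nat_lit 0, nat_lit 8, nat_lit 52], [], ⟨[], [nat_lit 173056, nat_lit 168448, nat_lit 164096, nat_lit 159872, nat_lit 147472, nat_lit 143368, nat_lit 135170]⟩⟩⟩⟩]

theorem dcMr145 : Rng dcM 145 152 := Rng.of (l := dcMc145) (by decide +kernel)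

def dcMc152 : List Cert := [.edge ⟨[nat_lit 0, nat_lit 36, nat_lit 50], [nat_lit 31, nat_lit 49], ⟨[nat_lit 0x218e55a50a184029ca306bd8ebd2b6], [nat_lit 175104, nat_lit 169472, nat_lit 166912, nat_lit 163072, nat_lit 159360, nat_lit 151648, nat_lit 149280, nat_lit 144088, nat_lit 142048, nat_lit 137742, nat_lit 131923, nat_lit 1918, nat_lit 5208, nat_lit 8632, nat_lit 12624, nat_lit 18272, nat_lit 20608, nat_lit 26112, nat_lit 29440, nat_lit 33792, nat_lit 41214, nat_lit 37030, nat_lit 32998, nat_lit 29006, nat_lit 24885, nat_lit 20486, nat_lit 16394, nat_lit 12311, nat_lit 8194, nat_lit 4097]⟩⟩ ⟨(nat_lit 2), ⟨[], [], (nat_lit 277), ⟨[nat_lit 1, nat_lit 46], [nat_lit 4, nat_lit 47], ⟨[nat_lit 0x2b08d144733bdc6526b70c24045a8b], [nat_lit 170496, nat_lit 165120, nat_lit 161664, nat_lit 156864, nat_lit 152320, nat_lit 149168, nat_lit 143976, nat_lit 139480, nat_lit 136480, nat_lit 131194, nat_lit 354, nat_lit 5112, nat_lit 9040, nat_lit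 13200, nat_lit 17024, nat_lit 20992, nat_lit 25472, nat_lit 29440, nat_lit 33792, nat_lit 37888, nat_lit 41664, nat_lit 37144, nat_lit 33335, nat_lit 29760, nat_lit 24621, nat_lit 20487, nat_lit 16899, nat_lit 12307, nat_lit 8224, nat_lit 4101, nat_lit 4]⟩⟩⟩, ⟨[nat_lit 29, nat_lit 23, nat_lit 29, nat_lit 25, nat_lit 22, nat_lit 22, nat_lit 21], [], (nat_lit 276), ⟨[nat_lit 0, nat_lit 2, nat_lit 51], [nat_lit 17, nat_lit 46], ⟨[nat_lit 0x305e07424740a935c6c35258525ead], [nat_lit 173056, nat_lit 165120, nat_lit 161024, nat_lit 158720, nat_lit 153056, nat_lit 147744, nat_lit 143552, nat_lit 141308, nat_lit 136392, nat_lit 131419, nat_lit 428, nat_lit 5900, nat_lit 9328, nat_lit 13760, nat_lit 16512, nat_lit 22016, nat_lit 25472, nat_lit 30208, nat_lit 33280, nat_lit 37888, nat_lit 41674, nat_lit 37312, nat_lit 32904, nat_lit 29050, nat_lit 24591, nat_lit 20623, nat_lit 16429, nat_lit 12325, nat_lit 8224, nat_lit 4097]⟩⟩⟩⟩,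
  .edge ⟨[nat_lit 0, nat_lit 36, nat_lit 50], [nat_lit 31, nat_lit 49], ⟨[nat_lit 0x218e55a50a184029ca306bd8ebd2b6], [nat_lit 175104, nat_lit 169472, nat_lit 166912, nat_lit 163072, nat_lit 159360, nat_lit 151648, nat_lit 149280, nat_lit 144088, nat_lit 142048, nat_lit 137742, nat_lit 131923, nat_lit 1918, nat_lit 5208, nat_lit 8632, nat_lit 12624, nat_lit 18272, nat_lit 20608, nat_lit 26112, nat_lit 29440, nat_lit 33792, nat_lit 41214, nat_lit 37030, nat_lit 32998, nat_lit 29006, nat_lit 24885, nat_lit 20486, nat_lit 16394, nat_lit 12311, nat_lit 8194, nat_lit 4097]⟩⟩ ⟨(nat_lit 2), ⟨[], [], (nat_lit 277), ⟨[nat_lit 0, nat_lit 27, nat_lit 46], [nat_lit 82, nat_lit 50], ⟨[nat_lit 0x390c54ad48731af8ce50ada9710023], [nat_lit 171520, nat_lit 166400, nat_lit 163712, nat_lit 158400, nat_lit 152800, nat_lit 150544, nat_lit 145864, nat_lit 140184, nat_lit 138964, nat_lit 131901, nat_lit 8, nat_lit 4104, nat_lit 8200, nat_lit 13264, nat_lit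 17632, nat_lit 22400, nat_lit 24832, nat_lit 30208, nat_lit 34304, nat_lit 41955, nat_lit 37922, nat_lit 33010, nat_lit 29024, nat_lit 24832, nat_lit 20498, nat_lit 16421, nat_lit 12294, nat_lit 8201, nat_lit 4101, nat_lit 4]⟩⟩⟩, ⟨[nat_lit 23, nat_lit 28, nat_lit 24, nat_lit 23, nat_lit 30, nat_lit 28], [], (nat_lit 118), ⟨[nat_lit 22, nat_lit 47], [nat_lit 15, nat_lit 67], ⟨[nat_lit 0x988685d2d14bdb275c2501d9582886], [nat_lit 173056, nat_lit 165120, nat_lit 160640, nat_lit 157632, nat_lit 154432, nat_lit 147744, nat_lit 144944, nat_lit 141056, nat_lit 135182, nat_lit 131278, nat_lit 786, nat_lit 4396, nat_lit 9344, nat_lit 13120, nat_lit 17856, nat_lit 20736, nat_lit 26496, nat_lit 29184, nat_lit 33280, nat_lit 37888, nat_lit 41197, nat_lit 37159, nat_lit 32928, nat_lit 29010, nat_lit 24722, nat_lit 16385, nat_lit 13317, nat_lit 8706, nat_lit 4224, nat_lit 4]⟩⟩⟩⟩]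

theorem dcMr152 : Rng dcM 152 154 := Rng.of (l := dcMc152) (by decide +kernel)

def dcMc154 : List Cert := [.edge ⟨[nat_lit 0, nat_lit 15, nat_lit 47], [nat_lit 79, nat_lit 56], ⟨[nat_lit 0x1ce42b9c9643d2d0c220352a55316e], [nat_lit 175104, nat_lit 168960, nat_lit 165120, nat_lit 162432, nat_lit 157184, nat_lit 153504, nat_lit 151232, nat_lit 145680, nat_lit 141584, nat_lit 138692, nat_lit 135084, nat_lit 810, nat_lit 5228, nat_lit 8928, nat_lit 12640, nat_lit 17856, nat_lit 21056, nat_lit 24832, nat_lit 29696, nat_lit 41973, nat_lit 38320, nat_lit 33927, nat_lit 29705, nat_lit 24618, nat_lit 20497, nat_lit 16389, nat_lit 12292, nat_lit 8195, nat_lit 4097]⟩⟩ ⟨(nat_lit 2), ⟨[nat_lit 79, nat_lit 78, nat_lit 100], [], (nat_lit 182), ⟨[nat_lit 86, nat_lit 61], [nat_lit 88, nat_lit 63], ⟨[nat_lit 0x4b28238030799d21d5ab4166abc6c4], [nat_lit 173056, nat_lit 164608, nat_lit 160128, nat_lit 155904, nat_lit 152992, nat_lit 148848, nat_lit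 144768, nat_lit 140912, nat_lit 136670, nat_lit 134136, nat_lit 16, nat_lit 5544, nat_lit 9824, nat_lit 12448, nat_lit 16896, nat_lit 21568, nat_lit 25088, nat_lit 28928, nat_lit 33792, nat_lit 41873, nat_lit 37147, nat_lit 33336, nat_lit 28678, nat_lit 24593, nat_lit 20501, nat_lit 16394, nat_lit 12310, nat_lit 8201, nat_lit 4112]⟩⟩⟩, ⟨[nat_lit 69, nat_lit 73, nat_lit 71, nat_lit 66, nat_lit 71, nat_lit 46, nat_lit 46], [nat_lit 47, nat_lit 71, nat_lit 68, nat_lit 46, nat_lit 67, nat_lit 72, nat_lit 46], (nat_lit 307), ⟨[nat_lit 0, nat_lit 36, nat_lit 63], [nat_lit 84, nat_lit 61], ⟨[nat_lit 0x7046f2a9679d256031a232124bc2b1], [nat_lit 174080, nat_lit 170496, nat_lit 165888, nat_lit 161280, nat_lit 156544, nat_lit 152992, nat_lit 150864, nat_lit 144632, nat_lit 141220, nat_lit 138976, nat_lit 133239, nat_lit 1298, nat_lit 4756, nat_lit 8648, nat_lit 13456, nat_lit 16896, nat_lit 21440, nat_lit 25088, nat_lit 30464, nat_lit 34304,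 nat_lit 41217, nat_lit 37255, nat_lit 32861, nat_lit 29268, nat_lit 24580, nat_lit 20505, nat_lit 16385, nat_lit 12323, nat_lit 8257, nat_lit 4104]⟩⟩⟩⟩]

theorem dcMr154 : Rng dcM 154 155 := Rng.of (l := dcMc154) (by decide +kernel)

def dcMc155 : List Cert := [.edge ⟨[nat_lit 0, nat_lit 77, nat_lit 48], [nat_lit 32, nat_lit 52], ⟨[nat_lit 0x70ed79822c12de9450909554569cc1], [nat_lit 173056, nat_lit 168960, nat_lit 165376, nat_lit 160768, nat_lit 155776, nat_lit 152160, nat_lit 148672, nat_lit 145088, nat_lit 140484, nat_lit 135636, nat_lit 133824, nat_lit 2, nat_lit 5120, nat_lit 8344, nat_lit 13712, nat_lit 17888, nat_lit 21760, nat_lit 26368, nat_lit 29696, nat_lit 33280, nat_lit 37888, nat_lit 41186, nat_lit 36867, nat_lit 32835, nat_lit 28786, nat_lit 24727, nat_lit 20569, nat_lit 16431, nat_lit 12320, nat_lit 8194, nat_lit 4097]⟩⟩ ⟨(nat_lit 2), ⟨[nat_lit 137, nat_lit 130, nat_lit 132, nat_lit 109, nat_lit 110], [], (nat_lit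 256), ⟨[nat_lit 79, nat_lit 63], [nat_lit 4, nat_lit 66], ⟨[nat_lit 0x38a24424339380c7aec580e95536e6], [nat_lit 175104, nat_lit 168448, nat_lit 166912, nat_lit 163584, nat_lit 157888, nat_lit 153376, nat_lit 148640, nat_lit 144168, nat_lit 141956, nat_lit 138444, nat_lit 131944, nat_lit 116, nat_lit 4548, nat_lit 8800, nat_lit 14128, nat_lit 17216, nat_lit 21952, nat_lit 26368, nat_lit 30208, nat_lit 34304, nat_lit 41402, nat_lit 37220, nat_lit 33510, nat_lit 28770, nat_lit 24621, nat_lit 20575, nat_lit 16385, nat_lit 12356, nat_lit 8258, nat_lit 4097, nat_lit 2]⟩⟩⟩, ⟨[nat_lit 73, nat_lit 68, nat_lit 70, nat_lit 47, nat_lit 67, nat_lit 49, nat_lit 46], [nat_lit 47, nat_lit 71, nat_lit 68, nat_lit 46, nat_lit 67, nat_lit 72, nat_lit 46], (nat_lit 307), ⟨[nat_lit 20, nat_lit 91], [nat_lit 36, nat_lit 68], ⟨[nat_lit 0xb382848a8d78157aac6c34670390b2], [nat_lit 160512, nat_lit 155840, nat_lit 151744, nat_lit 148256, nat_lit 144672,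 nat_lit 141976, nat_lit 135508, nat_lit 131236, nat_lit 1182, nat_lit 5616, nat_lit 8208, nat_lit 13520, nat_lit 16448, nat_lit 20736, nat_lit 24704, nat_lit 30208, nat_lit 37888, nat_lit 41172, nat_lit 37364, nat_lit 33326, nat_lit 28959, nat_lit 24599, nat_lit 20992, nat_lit 16388, nat_lit 12551, nat_lit 4161, nat_lit 8]⟩⟩⟩⟩]

theorem dcMr155 : Rng dcM 155 156 := Rng.of (l := dcMc155) (by decide +kernel)

def dcMc156 : List Cert := [.edge ⟨[nat_lit 0, nat_lit 16, nat_lit 50], [nat_lit 42, nat_lit 52], ⟨[nat_lit 0x83e6e3dae5a9286645b20a9221a00b], [nat_lit 173056, nat_lit 169984, nat_lit 164608, nat_lit 163072, nat_lit 155904, nat_lit 154016, nat_lit 150368, nat_lit 146144, nat_lit 140016, nat_lit 136202, nat_lit 133959, nat_lit 354, nat_lit 4192, nat_lit 8448, nat_lit 12544, nat_lit 17312, nat_lit 20864, nat_lit 26368, nat_lit 29952, nat_lit 41674, nat_lit 37894, nat_lit 32795, nat_lit 29297, nat_lit 25111, nat_lit 20626, nat_lit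 16399, nat_lit 12308, nat_lit 8208, nat_lit 4101]⟩⟩ ⟨(nat_lit 2), ⟨[nat_lit 135, nat_lit 109, nat_lit 130, nat_lit 131, nat_lit 130], [], (nat_lit 256), ⟨[nat_lit 32, nat_lit 90], [nat_lit 0, nat_lit 29, nat_lit 59], ⟨[nat_lit 0x81a87aa64b646ee234281da6013caa], [nat_lit 175104, nat_lit 168448, nat_lit 165888, nat_lit 162176, nat_lit 157952, nat_lit 153504, nat_lit 147728, nat_lit 143672, nat_lit 142736, nat_lit 138670, nat_lit 131973, nat_lit 724, nat_lit 5444, nat_lit 10088, nat_lit 14304, nat_lit 17088, nat_lit 21696, nat_lit 26368, nat_lit 29952, nat_lit 37888, nat_lit 41607, nat_lit 38149, nat_lit 33280, nat_lit 28983, nat_lit 24628, nat_lit 20485, nat_lit 16399, nat_lit 12294, nat_lit 8200]⟩⟩⟩, ⟨[nat_lit 48, nat_lit 67, nat_lit 73, nat_lit 67, nat_lit 73, nat_lit 70], [nat_lit 47, nat_lit 71, nat_lit 68, nat_lit 46, nat_lit 67, nat_lit 72, nat_lit 46], (nat_lit 307), ⟨[nat_lit 30, nat_lit 59], [nat_lit 42, nat_lit 55], ⟨[nat_lit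 0x12029940a621e71759b4ab1f71ac0a], [nat_lit 161408, nat_lit 159488, nat_lit 152672, nat_lit 149184, nat_lit 144336, nat_lit 140248, nat_lit 135294, nat_lit 131305, nat_lit 1874, nat_lit 5904, nat_lit 8440, nat_lit 12352, nat_lit 16960, nat_lit 20992, nat_lit 25600, nat_lit 29952, nat_lit 34304, nat_lit 37888, nat_lit 41942, nat_lit 37312, nat_lit 33440, nat_lit 29224, nat_lit 20494, nat_lit 17417, nat_lit 8209, nat_lit 4097]⟩⟩⟩⟩]

theorem dcMr156 : Rng dcM 156 157 := Rng.of (l := dcMc156) (by decide +kernel)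

def dcMc157 : List Cert := [.edge tw0 ⟨(nat_lit 1), ⟨[], [nat_lit 149, nat_lit 143, nat_lit 145], (nat_lit 311), ⟨[nat_lit 0, nat_lit 17, nat_lit 58], [nat_lit 0, nat_lit 88, nat_lit 59], ⟨[nat_lit 0x1ad376aa478d010b3c4e284d59a184], [nat_lit 175104, nat_lit 169984, nat_lit 166656, nat_lit 160000, nat_lit 157056, nat_lit 151616, nat_lit 150080, nat_lit 144800, nat_lit 139500, nat_lit 137676, nat_lit 134623, nat_lit 1794, nat_lit 4396, nat_lit 9288, nat_lit 13136, nat_lit 16864, nat_lit 20672, nat_lit 26496, nat_lit 29440, nat_lit 33792, nat_lit 37888, nat_lit 41879, nat_lit 38054, nat_lit 32989, nat_lit 29036, nat_lit 24580, nat_lit 20506, nat_lit 12326, nat_lit 8201, nat_lit 4097]⟩⟩⟩, ⟨[nat_lit 131, nat_lit 134, nat_lit 110, nat_lit 131, nat_lit 132, nat_lit 110], [], (nat_lit 310), ⟨[nat_lit 0, nat_lit 32, nat_lit 61], [nat_lit 35, nat_lit 94], ⟨[nat_lit 0x1ad376aa478d010b3c4e284d59a184], [nat_lit 174080, nat_lit 170496, nat_lit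 166400, nat_lit 160000, nat_lit 157056, nat_lit 151648, nat_lit 150096, nat_lit 144808, nat_lit 139496, nat_lit 137676, nat_lit 134622, nat_lit 1794, nat_lit 4396, nat_lit 9288, nat_lit 13136, nat_lit 16864, nat_lit 20672, nat_lit 26496, nat_lit 29440, nat_lit 33792, nat_lit 37888, nat_lit 41879, nat_lit 38054, nat_lit 32989, nat_lit 29036, nat_lit 24580, nat_lit 20506, nat_lit 12326, nat_lit 8201, nat_lit 4097]⟩⟩⟩⟩,
  .edge ⟨[nat_lit 71, nat_lit 93], [nat_lit 0, nat_lit 41, nat_lit 49], ⟨[nat_lit 0x10d90582c49be973b4d2aa82574509], [nat_lit 173056, nat_lit 168448, nat_lit 164608, nat_lit 160256, nat_lit 155712, nat_lit 153376, nat_lit 149248, nat_lit 143872, nat_lit 140560, nat_lit 135874, nat_lit 133743, nat_lit 1478, nat_lit 5316, nat_lit 9648, nat_lit 12720, nat_lit 16512, nat_lit 20864, nat_lit 24704, nat_lit 28928, nat_lit 41830, nat_lit 37128, nat_lit 32771, nat_lit 28789, nat_lit 24742, nat_lit 20630, nat_lit 16448, nat_lit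 12807, nat_lit 8200, nat_lit 4097]⟩⟩ ⟨(nat_lit 2), ⟨[nat_lit 141, nat_lit 146], [nat_lit 149, nat_lit 143, nat_lit 145], (nat_lit 311), ⟨[nat_lit 0, nat_lit 75], [nat_lit 87, nat_lit 70], ⟨[nat_lit 0x54991192f0489a101675a22ce31d6f], [nat_lit 169472, nat_lit 164096, nat_lit 156992, nat_lit 152448, nat_lit 151024, nat_lit 144640, nat_lit 140080, nat_lit 136310, nat_lit 132102, nat_lit 1014, nat_lit 5064, nat_lit 8408, nat_lit 13152, nat_lit 17408, nat_lit 22272, nat_lit 25600, nat_lit 29440, nat_lit 33280, nat_lit 41744, nat_lit 38187, nat_lit 33965, nat_lit 28946, nat_lit 24592, nat_lit 20639, nat_lit 16396, nat_lit 12308, nat_lit 8209, nat_lit 4]⟩⟩⟩, ⟨[nat_lit 109, nat_lit 137, nat_lit 134, nat_lit 133, nat_lit 111, nat_lit 110], [], (nat_lit 312), ⟨[nat_lit 76, nat_lit 66], [nat_lit 84, nat_lit 64], ⟨[nat_lit 0x6b0e5485039c2b433c8e0094bbda32], [nat_lit 173056, nat_lit 165120, nat_lit 161152, nat_lit 156992, nat_lit 152864, nat_lit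 147504, nat_lit 144744, nat_lit 140224, nat_lit 137954, nat_lit 132715, nat_lit 696, nat_lit 4608, nat_lit 9928, nat_lit 12752, nat_lit 16832, nat_lit 22272, nat_lit 26240, nat_lit 29184, nat_lit 34304, nat_lit 37888, nat_lit 41566, nat_lit 38236, nat_lit 32942, nat_lit 28729, nat_lit 25604, nat_lit 20635, nat_lit 16450, nat_lit 12311, nat_lit 8200, nat_lit 4]⟩⟩⟩⟩]

theorem dcMr157 : Rng dcM 157 159 := Rng.of (l := dcMc157) (by decide +kernel)

def dcMc159 : List Cert := [.edge ⟨[nat_lit 0, nat_lit 25, nat_lit 68], [nat_lit 0, nat_lit 40, nat_lit 91], ⟨[nat_lit 0x49c8814c31752ac7ddb65994580e40], [nat_lit 173056, nat_lit 169984, nat_lit 157824, nat_lit 152160, nat_lit 147968, nat_lit 145648, nat_lit 141992, nat_lit 137472, nat_lit 133320, nat_lit 4684, nat_lit 9552, nat_lit 12352, nat_lit 16992, nat_lit 21504, nat_lit 25088, nat_lit 29184, nat_lit 33280, nat_lit 40963, nat_lit 37181, nat_lit 33447, nat_lit 29014, nat_lit 24719,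 nat_lit 21022, nat_lit 16649, nat_lit 12423, nat_lit 8323, nat_lit 4097, nat_lit 2]⟩⟩ ⟨(nat_lit 2), ⟨[nat_lit 142, nat_lit 145, nat_lit 143], [nat_lit 149, nat_lit 143, nat_lit 145], (nat_lit 311), ⟨[nat_lit 0, nat_lit 83, nat_lit 51], [nat_lit 0, nat_lit 72, nat_lit 48], ⟨[nat_lit 0x6de9019aaa59ec274c014a24c7c485], [nat_lit 175104, nat_lit 165376, nat_lit 159872, nat_lit 156672, nat_lit 152864, nat_lit 148688, nat_lit 144904, nat_lit 136634, nat_lit 132984, nat_lit 1938, nat_lit 4396, nat_lit 9000, nat_lit 13152, nat_lit 17408, nat_lit 21760, nat_lit 24704, nat_lit 33280, nat_lit 41728, nat_lit 38385, nat_lit 33798, nat_lit 29297, nat_lit 25136, nat_lit 21009, nat_lit 16386, nat_lit 8450, nat_lit 4112, nat_lit 64]⟩⟩⟩, ⟨[nat_lit 137, nat_lit 112, nat_lit 133, nat_lit 110, nat_lit 133], [], (nat_lit 310), ⟨[nat_lit 0, nat_lit 24, nat_lit 67], [nat_lit 46], ⟨[nat_lit 0xb24c26de557aa28810ee0cc6c02e85], [nat_lit 174080, nat_lit 165632,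 nat_lit 160640, nat_lit 158912, nat_lit 154176, nat_lit 151488, nat_lit 143560, nat_lit 141532, nat_lit 136038, nat_lit 135028, nat_lit 1268, nat_lit 5112, nat_lit 9424, nat_lit 13584, nat_lit 18048, nat_lit 21056, nat_lit 25216, nat_lit 29184, nat_lit 33280, nat_lit 41282, nat_lit 36993, nat_lit 32933, nat_lit 28988, nat_lit 24622, nat_lit 20571, nat_lit 16391, nat_lit 12354, nat_lit 8203, nat_lit 4100]⟩⟩⟩⟩,
  .edge ⟨[nat_lit 38, nat_lit 54], [nat_lit 0, nat_lit 85, nat_lit 94], ⟨[nat_lit 0x6b2309be4e591270d874adc02518a8], [nat_lit 174080, nat_lit 171520, nat_lit 166144, nat_lit 161536, nat_lit 158464, nat_lit 153728, nat_lit 149056, nat_lit 146336, nat_lit 140132, nat_lit 132001, nat_lit 1554, nat_lit 5776, nat_lit 9216, nat_lit 13920, nat_lit 18336, nat_lit 20544, nat_lit 25600, nat_lit 28928, nat_lit 33792, nat_lit 37888, nat_lit 41567, nat_lit 38231, nat_lit 32872, nat_lit 28683, nat_lit 24884, nat_lit 20736, nat_lit 16448,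 nat_lit 12289, nat_lit 8208, nat_lit 4225, nat_lit 8]⟩⟩ ⟨(nat_lit 2), ⟨[nat_lit 145, nat_lit 150, nat_lit 143], [nat_lit 143, nat_lit 146, nat_lit 140], (nat_lit 313), ⟨[nat_lit 77, nat_lit 93], [nat_lit 14, nat_lit 52], ⟨[nat_lit 0xa1c51918367b10d2cee080c955a54e], [nat_lit 175104, nat_lit 164608, nat_lit 161536, nat_lit 157056, nat_lit 153056, nat_lit 149216, nat_lit 145344, nat_lit 139620, nat_lit 136208, nat_lit 131507, nat_lit 166, nat_lit 4720, nat_lit 9136, nat_lit 13728, nat_lit 16864, nat_lit 21440, nat_lit 24960, nat_lit 37888, nat_lit 41960, nat_lit 37266, nat_lit 33333, nat_lit 28951, nat_lit 25655, nat_lit 20624, nat_lit 16389, nat_lit 12290, nat_lit 8194, nat_lit 4101, nat_lit 2]⟩⟩⟩, ⟨[nat_lit 110, nat_lit 135, nat_lit 110, nat_lit 131, nat_lit 131, nat_lit 109], [], (nat_lit 312), ⟨[nat_lit 12, nat_lit 48], [nat_lit 25, nat_lit 61], ⟨[nat_lit 0x39a00b0e93749e12b6e9a918a12d11], [nat_lit 168960, nat_lit 165376, nat_lit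 160000, nat_lit 157504, nat_lit 153344, nat_lit 148144, nat_lit 146752, nat_lit 141004, nat_lit 137164, nat_lit 132755, nat_lit 1298, nat_lit 4824, nat_lit 8448, nat_lit 12544, nat_lit 17728, nat_lit 21504, nat_lit 25728, nat_lit 29696, nat_lit 33280, nat_lit 37888, nat_lit 41176, nat_lit 37160, nat_lit 32982, nat_lit 28984, nat_lit 24763, nat_lit 20621, nat_lit 16460, nat_lit 12292, nat_lit 8202, nat_lit 4100, nat_lit 16]⟩⟩⟩⟩]

theorem dcMr159 : Rng dcM 159 161 := Rng.of (l := dcMc159) (by decide +kernel)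

def dcMc161 : List Cert := [.edge ⟨[nat_lit 11, nat_lit 66], [nat_lit 6, nat_lit 61], ⟨[nat_lit 0x484365ca98c2615d1e7b38c82554d], [nat_lit 175104, nat_lit 164864, nat_lit 161664, nat_lit 158336, nat_lit 154336, nat_lit 149952, nat_lit 145112, nat_lit 142520, nat_lit 135320, nat_lit 134804, nat_lit 508, nat_lit 4964, nat_lit 8824, nat_lit 13712, nat_lit 16640, nat_lit 20992, nat_lit 26368, nat_lit 33792, nat_lit 37888, nat_lit 41797, nat_lit 38108, nat_lit 33014, nat_lit 29039, nat_lit 24845, nat_lit 20570, nat_lit 16393, nat_lit 12289, nat_lit 8448, nat_lit 8]⟩⟩ ⟨(nat_lit 2), ⟨[nat_lit 142, nat_lit 143], [], (nat_lit 306), ⟨[nat_lit 24], [nat_lit 0, nat_lit 72], ⟨[nat_lit 0x4516a148cd4daf52822f7103381c6c], [nat_lit 169472, nat_lit 164352, nat_lit 161152, nat_lit 156160, nat_lit 152224, nat_lit 148448, nat_lit 145392, nat_lit 140460, nat_lit 137140, nat_lit 131429, nat_lit 1440, nat_lit 4404, nat_lit 9096, nat_lit 13968, nat_lit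 18112, nat_lit 21568, nat_lit 26496, nat_lit 30464, nat_lit 33280, nat_lit 37888, nat_lit 41808, nat_lit 38224, nat_lit 33016, nat_lit 28782, nat_lit 24581, nat_lit 20625, nat_lit 16420, nat_lit 12307, nat_lit 8224, nat_lit 4101, nat_lit 4]⟩⟩⟩, ⟨[nat_lit 71, nat_lit 47, nat_lit 47, nat_lit 67, nat_lit 73, nat_lit 47, nat_lit 47], [nat_lit 47, nat_lit 71, nat_lit 68, nat_lit 46, nat_lit 67, nat_lit 72, nat_lit 46], (nat_lit 307), ⟨[nat_lit 39, nat_lit 54], [nat_lit 0, nat_lit 42, nat_lit 93], ⟨[nat_lit 0xb804359a6dad036541c72a64c2450f], [nat_lit 175104, nat_lit 165376, nat_lit 159872, nat_lit 157248, nat_lit 152928, nat_lit 147648, nat_lit 144136, nat_lit 140896, nat_lit 135540, nat_lit 132526, nat_lit 1668, nat_lit 4156, nat_lit 8224, nat_lit 12304, nat_lit 16640, nat_lit 22336, nat_lit 25728, nat_lit 29184, nat_lit 33280, nat_lit 37888, nat_lit 41130, nat_lit 37207, nat_lit 33360, nat_lit 29738, nat_lit 25134, nat_lit 20545, nat_lit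 16426, nat_lit 12320, nat_lit 8451, nat_lit 4112, nat_lit 64]⟩⟩⟩⟩]

theorem dcMr161 : Rng dcM 161 162 := Rng.of (l := dcMc161) (by decide +kernel)

def dcMc162 : List Cert := [.edge tw0 ⟨(nat_lit 1), ⟨[], [], (nat_lit 306), ⟨[nat_lit 38, nat_lit 61], [nat_lit 3, nat_lit 91], ⟨[nat_lit 0xbd2b61880184a33731ed298e452d28], [nat_lit 173056, nat_lit 164608, nat_lit 159872, nat_lit 155712, nat_lit 152768, nat_lit 149440, nat_lit 144416, nat_lit 141824, nat_lit 135342, nat_lit 132458, nat_lit 1554, nat_lit 5568, nat_lit 9752, nat_lit 14096, nat_lit 16640, nat_lit 22080, nat_lit 25728, nat_lit 29696, nat_lit 33280, nat_lit 41740, nat_lit 37971, nat_lit 33003, nat_lit 28697, nat_lit 24590, nat_lit 20503, nat_lit 16396, nat_lit 12293, nat_lit 8194, nat_lit 8]⟩⟩⟩, ⟨[nat_lit 46, nat_lit 46, nat_lit 47, nat_lit 71, nat_lit 71, nat_lit 71, nat_lit 46], [nat_lit 47, nat_lit 71, nat_lit 68, nat_lit 46, nat_lit 67, nat_lit 72, nat_lit 46], (nat_lit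 307), ⟨[nat_lit 17, nat_lit 49], [nat_lit 0, nat_lit 28, nat_lit 50], ⟨[nat_lit 0xbd2d54254b94670731af3948610c01], [nat_lit 174080, nat_lit 168960, nat_lit 166912, nat_lit 163584, nat_lit 158912, nat_lit 151584, nat_lit 147856, nat_lit 145184, nat_lit 142512, nat_lit 138102, nat_lit 132954, nat_lit 2, nat_lit 4104, nat_lit 9664, nat_lit 13760, nat_lit 18368, nat_lit 21248, nat_lit 24960, nat_lit 30464, nat_lit 34304, nat_lit 41422, nat_lit 37151, nat_lit 33529, nat_lit 29048, nat_lit 24604, nat_lit 20495, nat_lit 16450, nat_lit 12290, nat_lit 8194, nat_lit 4101, nat_lit 2]⟩⟩⟩⟩]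

theorem dcMr162 : Rng dcM 162 163 := Rng.of (l := dcMc162) (by decide +kernel)

def dcMc163 : List Cert := [.edge ⟨[nat_lit 17, nat_lit 69], [nat_lit 0, nat_lit 86, nat_lit 51], ⟨[nat_lit 0x20d960bcb74b64e3a0d11020bacd54], [nat_lit 174080, nat_lit 171520, nat_lit 166656, nat_lit 160384, nat_lit 158912, nat_lit 155616, nat_lit 149472, nat_lit 146768, nat_lit 139428, nat_lit 135272, nat_lit 131385, nat_lit 1842, nat_lit 5112, nat_lit 8720, nat_lit 14000, nat_lit 16864, nat_lit 22400, nat_lit 25984, nat_lit 30464, nat_lit 33792, nat_lit 40995, nat_lit 37176, nat_lit 33408, nat_lit 28992, nat_lit 24583, nat_lit 20491, nat_lit 16394, nat_lit 12289, nat_lit 8193, nat_lit 4113, nat_lit 2]⟩⟩ ⟨(nat_lit 2), ⟨[nat_lit 141, nat_lit 140, nat_lit 144, nat_lit 145, nat_lit 144, nat_lit 140], [], (nat_lit 318), ⟨[nat_lit 32, nat_lit 49], [nat_lit 0, nat_lit 23, nat_lit 55], ⟨[nat_lit 0xab4e97c9800de345404834c8372cb6], [nat_lit 173056, nat_lit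 168960, nat_lit 165376, nat_lit 159872, nat_lit 157504, nat_lit 151712, nat_lit 148128, nat_lit 144192, nat_lit 140564, nat_lit 136816, nat_lit 132334, nat_lit 696, nat_lit 4952, nat_lit 10032, nat_lit 12416, nat_lit 17056, nat_lit 20736, nat_lit 26112, nat_lit 29440, nat_lit 41151, nat_lit 37366, nat_lit 28720, nat_lit 25135, nat_lit 20494, nat_lit 16449, nat_lit 12308, nat_lit 8202, nat_lit 4100]⟩⟩⟩, ⟨[nat_lit 149, nat_lit 142, nat_lit 141, nat_lit 149, nat_lit 139], [], (nat_lit 318), ⟨[nat_lit 9, nat_lit 64], [nat_lit 0, nat_lit 34, nat_lit 55], ⟨[nat_lit 0x9a8954bc088c02d114ee9197765a83], [nat_lit 174080, nat_lit 171520, nat_lit 166656, nat_lit 160256, nat_lit 158976, nat_lit 155232, nat_lit 147936, nat_lit 146024, nat_lit 140124, nat_lit 136160, nat_lit 131448, nat_lit 688, nat_lit 4380, nat_lit 9928, nat_lit 14144, nat_lit 16736, nat_lit 21376, nat_lit 25088, nat_lit 29184, nat_lit 41384, nat_lit 36985, nat_lit 33884, nat_lit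 28774, nat_lit 24718, nat_lit 20495, nat_lit 16641, nat_lit 12290, nat_lit 8208, nat_lit 4104, nat_lit 4]⟩⟩⟩⟩,
  .edge ⟨[nat_lit 21, nat_lit 92], [nat_lit 30, nat_lit 89], ⟨[nat_lit 0x8004d3be64a14688deac7257209aca], [nat_lit 175104, nat_lit 171008, nat_lit 167680, nat_lit 160768, nat_lit 159616, nat_lit 155072, nat_lit 147872, nat_lit 145712, nat_lit 139376, nat_lit 137028, nat_lit 131599, nat_lit 122, nat_lit 5544, nat_lit 8248, nat_lit 13728, nat_lit 21056, nat_lit 25216, nat_lit 30208, nat_lit 37888, nat_lit 41118, nat_lit 37157, nat_lit 32838, nat_lit 29796, nat_lit 24600, nat_lit 20629, nat_lit 16448, nat_lit 12306, nat_lit 8227, nat_lit 4097]⟩⟩ ⟨(nat_lit 2), ⟨[nat_lit 142, nat_lit 145, nat_lit 144, nat_lit 144, nat_lit 142, nat_lit 139], [], (nat_lit 326), ⟨[nat_lit 16, nat_lit 46], [nat_lit 34, nat_lit 58], ⟨[nat_lit 0x92022d2766a6e343aa03322f92cea], [nat_lit 173056, nat_lit 169472, nat_lit 156672, nat_lit 154656, nat_lit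 147856, nat_lit 143632, nat_lit 141188, nat_lit 136318, nat_lit 131367, nat_lit 1842, nat_lit 4212, nat_lit 9096, nat_lit 14176, nat_lit 18016, nat_lit 21696, nat_lit 25728, nat_lit 28928, nat_lit 33280, nat_lit 41482, nat_lit 37365, nat_lit 33402, nat_lit 29039, nat_lit 24631, nat_lit 20571, nat_lit 16463, nat_lit 12304, nat_lit 8194, nat_lit 4101]⟩⟩⟩, ⟨[nat_lit 143, nat_lit 147, nat_lit 150, nat_lit 145, nat_lit 150, nat_lit 140], [], (nat_lit 326), ⟨[nat_lit 26, nat_lit 47], [nat_lit 40, nat_lit 58], ⟨[nat_lit 0xa3e6365e022910752d26ac40db3832], [nat_lit 175104, nat_lit 164608, nat_lit 160384, nat_lit 158528, nat_lit 155232, nat_lit 151056, nat_lit 145344, nat_lit 143200, nat_lit 135170, nat_lit 134576, nat_lit 1140, nat_lit 10160, nat_lit 12656, nat_lit 17792, nat_lit 21696, nat_lit 26240, nat_lit 29440, nat_lit 37888, nat_lit 41473, nat_lit 38336, nat_lit 33472, nat_lit 29189, nat_lit 24629, nat_lit 20505, nat_lit 16417, nat_lit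 12292, nat_lit 8193, nat_lit 4097]⟩⟩⟩⟩]

theorem dcMr163 : Rng dcM 163 165 := Rng.of (l := dcMc163) (by decide +kernel)

def dcMc165 : List Cert := [.edge ⟨[nat_lit 10, nat_lit 93], [nat_lit 72, nat_lit 90], ⟨[nat_lit 0x292c23ae2f3324a1a13575da0a4261], [nat_lit 169984, nat_lit 166400, nat_lit 162560, nat_lit 157760, nat_lit 153024, nat_lit 150944, nat_lit 147160, nat_lit 140204, nat_lit 137746, nat_lit 131352, nat_lit 588, nat_lit 4160, nat_lit 8712, nat_lit 13232, nat_lit 16864, nat_lit 20544, nat_lit 25472, nat_lit 29440, nat_lit 33792, nat_lit 41571, nat_lit 37098, nat_lit 32845, nat_lit 28683, nat_lit 24863, nat_lit 20502, nat_lit 16425, nat_lit 12290, nat_lit 8209, nat_lit 4101, nat_lit 2]⟩⟩ ⟨(nat_lit 2), ⟨[nat_lit 145, nat_lit 147, nat_lit 147, nat_lit 142, nat_lit 141, nat_lit 139], [], (nat_lit 328), ⟨[nat_lit 33, nat_lit 63], [nat_lit 0, nat_lit 56], ⟨[nat_lit 0x9ae37082a84d8e61408e78cb26a994], [nat_lit 173056, nat_lit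 161280, nat_lit 155712, nat_lit 151936, nat_lit 148864, nat_lit 144664, nat_lit 140316, nat_lit 136342, nat_lit 134098, nat_lit 32, nat_lit 4380, nat_lit 9736, nat_lit 13712, nat_lit 16832, nat_lit 22464, nat_lit 26240, nat_lit 28928, nat_lit 33792, nat_lit 37888, nat_lit 41657, nat_lit 38351, nat_lit 33403, nat_lit 28769, nat_lit 24609, nat_lit 20492, nat_lit 16903, nat_lit 12320, nat_lit 8194, nat_lit 4097]⟩⟩⟩, ⟨[nat_lit 150, nat_lit 140, nat_lit 139, nat_lit 141, nat_lit 139], [], (nat_lit 316), ⟨[nat_lit 0, nat_lit 13, nat_lit 69], [nat_lit 0, nat_lit 71, nat_lit 89], ⟨[nat_lit 0x58b310deabc8c1452ae5b630230e9], [nat_lit 168960, nat_lit 165120, nat_lit 160128, nat_lit 157440, nat_lit 148112, nat_lit 147376, nat_lit 140936, nat_lit 136712, nat_lit 131245, nat_lit 344, nat_lit 5580, nat_lit 10096, nat_lit 12304, nat_lit 16448, nat_lit 21056, nat_lit 25728, nat_lit 30208, nat_lit 33280, nat_lit 37888, nat_lit 41885, nat_lit 37152,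 nat_lit 33468, nat_lit 28760, nat_lit 24759, nat_lit 20572, nat_lit 16392, nat_lit 8257, nat_lit 4097, nat_lit 2]⟩⟩⟩⟩]

theorem dcMr165 : Rng dcM 165 166 := Rng.of (l := dcMc165) (by decide +kernel)

def dcMc166 : List Cert := [.edge ⟨[nat_lit 0, nat_lit 21, nat_lit 62], [nat_lit 83, nat_lit 55], ⟨[nat_lit 0x3346483811b3c54bc8a83a6b35a82c], [nat_lit 174080, nat_lit 170496, nat_lit 165888, nat_lit 162944, nat_lit 155840, nat_lit 154016, nat_lit 151104, nat_lit 144736, nat_lit 142352, nat_lit 135752, nat_lit 132428, nat_lit 1580, nat_lit 6068, nat_lit 8504, nat_lit 13264, nat_lit 17184, nat_lit 20736, nat_lit 25856, nat_lit 30464, nat_lit 33280, nat_lit 41518, nat_lit 38247, nat_lit 32892, nat_lit 28759, nat_lit 24636, nat_lit 20560, nat_lit 16463, nat_lit 12290, nat_lit 8195, nat_lit 4]⟩⟩ ⟨(nat_lit 2), ⟨[nat_lit 139, nat_lit 144, nat_lit 147, nat_lit 144, nat_lit 139, nat_lit 143], [], (nat_lit 326), ⟨[nat_lit 40, nat_lit 64], [nat_lit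 75, nat_lit 89], ⟨[nat_lit 0xa6553b86233e33b168c591a8bc140], [nat_lit 174080, nat_lit 170496, nat_lit 166400, nat_lit 161920, nat_lit 156032, nat_lit 154400, nat_lit 151296, nat_lit 145144, nat_lit 141324, nat_lit 136750, nat_lit 132869, nat_lit 1972, nat_lit 5904, nat_lit 10224, nat_lit 13712, nat_lit 16544, nat_lit 21504, nat_lit 26112, nat_lit 29440, nat_lit 33280, nat_lit 37888, nat_lit 41972, nat_lit 38024, nat_lit 33398, nat_lit 28685, nat_lit 25132, nat_lit 21007, nat_lit 16423, nat_lit 12416, nat_lit 4097]⟩⟩⟩, ⟨[nat_lit 150, nat_lit 143, nat_lit 148, nat_lit 143, nat_lit 144], [nat_lit 141, nat_lit 140, nat_lit 149, nat_lit 144, nat_lit 148], (nat_lit 331), ⟨[nat_lit 11, nat_lit 50], [nat_lit 86, nat_lit 56], ⟨[nat_lit 0x23a025518d5c6f30051528e4f4d8e6], [nat_lit 173056, nat_lit 168448, nat_lit 164608, nat_lit 160256, nat_lit 157120, nat_lit 154816, nat_lit 148496, nat_lit 143976, nat_lit 140148, nat_lit 135228, nat_lit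 131912, nat_lit 158, nat_lit 5668, nat_lit 9216, nat_lit 13440, nat_lit 16544, nat_lit 21504, nat_lit 25472, nat_lit 29952, nat_lit 34304, nat_lit 37888, nat_lit 41896, nat_lit 38066, nat_lit 33511, nat_lit 29021, nat_lit 24599, nat_lit 20484, nat_lit 16463, nat_lit 12306, nat_lit 8227, nat_lit 4100, nat_lit 2]⟩⟩⟩⟩]

theorem dcMr166 : Rng dcM 166 167 := Rng.of (l := dcMc166) (by decide +kernel)

def dcMc167 : List Cert := [.edge ⟨[nat_lit 18, nat_lit 66], [nat_lit 40, nat_lit 66], ⟨[nat_lit 0x302c964251a08ab9b5ee191570a0f5], [nat_lit 164608, nat_lit 160384, nat_lit 158400, nat_lit 152160, nat_lit 148256, nat_lit 143368, nat_lit 139424, nat_lit 136918, nat_lit 131091, nat_lit 1698, nat_lit 4668, nat_lit 9016, nat_lit 12768, nat_lit 18176, nat_lit 22400, nat_lit 25088, nat_lit 28928, nat_lit 33280, nat_lit 41808, nat_lit 36928, nat_lit 32940, nat_lit 29021, nat_lit 20619, nat_lit 16417, nat_lit 12309, nat_lit 8202, nat_lit 4105]⟩⟩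 ⟨(nat_lit 2), ⟨[nat_lit 144, nat_lit 140, nat_lit 139, nat_lit 147, nat_lit 139, nat_lit 140], [nat_lit 141, nat_lit 140, nat_lit 149, nat_lit 144, nat_lit 148], (nat_lit 331), ⟨[nat_lit 9, nat_lit 56], [nat_lit 8, nat_lit 69], ⟨[nat_lit 0x5cd4944a3003ae5688967987465427], [nat_lit 173056, nat_lit 165376, nat_lit 160640, nat_lit 157312, nat_lit 151872, nat_lit 148896, nat_lit 143712, nat_lit 140312, nat_lit 135368, nat_lit 131704, nat_lit 1182, nat_lit 8824, nat_lit 13552, nat_lit 17600, nat_lit 21312, nat_lit 33280, nat_lit 33007, nat_lit 28951, nat_lit 20630, nat_lit 16520, nat_lit 12320, nat_lit 8193]⟩⟩⟩, ⟨[nat_lit 146, nat_lit 146, nat_lit 148, nat_lit 140], [], (nat_lit 328), ⟨[nat_lit 27, nat_lit 57], [nat_lit 0, nat_lit 15, nat_lit 48], ⟨[nat_lit 0x552205bd0525dd591db01186cb0669], [nat_lit 175104, nat_lit 171008, nat_lit 167424, nat_lit 161664, nat_lit 158016, nat_lit 154464, nat_lit 149184, nat_lit 146848, nat_lit 140436,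 nat_lit 136890, nat_lit 132511, nat_lit 1928, nat_lit 4780, nat_lit 9664, nat_lit 12880, nat_lit 17152, nat_lit 20672, nat_lit 26112, nat_lit 30464, nat_lit 37888, nat_lit 41976, nat_lit 37112, nat_lit 32952, nat_lit 28704, nat_lit 24632, nat_lit 20481, nat_lit 16450, nat_lit 12289, nat_lit 8194, nat_lit 4097, nat_lit 2]⟩⟩⟩⟩]

theorem dcMr167 : Rng dcM 167 168 := Rng.of (l := dcMc167) (by decide +kernel)

def dcMc168 : List Cert := [.edge ⟨[nat_lit 21, nat_lit 92], [nat_lit 30, nat_lit 89], ⟨[nat_lit 0x8004d3be64a14688deac7257209aca], [nat_lit 175104, nat_lit 171008, nat_lit 167680, nat_lit 160768, nat_lit 159616, nat_lit 155072, nat_lit 147872, nat_lit 145712, nat_lit 139376, nat_lit 137028, nat_lit 131599, nat_lit 122, nat_lit 5544, nat_lit 8248, nat_lit 13728, nat_lit 21056, nat_lit 25216, nat_lit 30208, nat_lit 37888, nat_lit 41118, nat_lit 37157, nat_lit 32838, nat_lit 29796, nat_lit 24600, nat_lit 20629, nat_lit 16448, nat_lit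 12306, nat_lit 8227, nat_lit 4097]⟩⟩ ⟨(nat_lit 2), ⟨[nat_lit 148, nat_lit 147, nat_lit 144, nat_lit 143], [], (nat_lit 326), ⟨[nat_lit 74, nat_lit 67], [nat_lit 0, nat_lit 16, nat_lit 54], ⟨[nat_lit 0x3c646531eb00eb77250d24265a0456], [nat_lit 173056, nat_lit 168960, nat_lit 166144, nat_lit 160256, nat_lit 155776, nat_lit 153920, nat_lit 149840, nat_lit 145576, nat_lit 142648, nat_lit 138840, nat_lit 132110, nat_lit 902, nat_lit 4408, nat_lit 8504, nat_lit 12560, nat_lit 16448, nat_lit 21504, nat_lit 25216, nat_lit 29696, nat_lit 34304, nat_lit 37888, nat_lit 41710, nat_lit 36886, nat_lit 32829, nat_lit 28727, nat_lit 24588, nat_lit 20494, nat_lit 16521, nat_lit 12294]⟩⟩⟩, ⟨[nat_lit 147, nat_lit 144, nat_lit 147, nat_lit 142, nat_lit 148, nat_lit 140], [], (nat_lit 326), ⟨[nat_lit 0, nat_lit 45, nat_lit 64], [nat_lit 0, nat_lit 79, nat_lit 55], ⟨[nat_lit 0x4a968298e408c4073d8d94271a5ed5], [nat_lit 175104, nat_lit 164864, nat_lit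 159872, nat_lit 157568, nat_lit 152064, nat_lit 147856, nat_lit 143496, nat_lit 141112, nat_lit 136428, nat_lit 131137, nat_lit 738, nat_lit 5208, nat_lit 9928, nat_lit 12720, nat_lit 16896, nat_lit 22336, nat_lit 25856, nat_lit 28928, nat_lit 33280, nat_lit 37888, nat_lit 41792, nat_lit 37365, nat_lit 33434, nat_lit 29264, nat_lit 24895, nat_lit 20613, nat_lit 16448, nat_lit 12551, nat_lit 8195, nat_lit 4097]⟩⟩⟩⟩,
  .defn,
  .stab (nat_lit 338) tw0 ⟨(nat_lit 0), ⟨[nat_lit 21, nat_lit 28, nat_lit 24, nat_lit 28, nat_lit 23, nat_lit 31, nat_lit 26, nat_lit 25, nat_lit 27], [], (nat_lit 338), ⟨[nat_lit 43, nat_lit 52], [nat_lit 0, nat_lit 88, nat_lit 59], ⟨[nat_lit 0xba9d429da8246a05c9f0b1a620a583], [nat_lit 175104, nat_lit 168448, nat_lit 165120, nat_lit 162176, nat_lit 156928, nat_lit 152832, nat_lit 149792, nat_lit 145688, nat_lit 141992, nat_lit 138552, nat_lit 133406, nat_lit 1174, nat_lit 4404, nat_lit 9664, nat_lit 13552,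 nat_lit 16672, nat_lit 21952, nat_lit 25728, nat_lit 30464, nat_lit 34304, nat_lit 37888, nat_lit 41817, nat_lit 36998, nat_lit 33984, nat_lit 28969, nat_lit 24601, nat_lit 20505, nat_lit 16397, nat_lit 12295, nat_lit 8200, nat_lit 4097]⟩⟩⟩, ap0⟩]

theorem dcMr168 : Rng dcM 168 171 := Rng.of (l := dcMc168) (by decide +kernel)

def dcMc171 : List Cert := [.stab (nat_lit 338) tw0 ⟨(nat_lit 0), ⟨[nat_lit 24, nat_lit 28, nat_lit 28, nat_lit 21, nat_lit 32, nat_lit 27, nat_lit 22, nat_lit 32, nat_lit 26, nat_lit 22], [], (nat_lit 338), ⟨[nat_lit 0, nat_lit 18, nat_lit 91], [nat_lit 86, nat_lit 66], ⟨[nat_lit 0x346b3a28e8058825b070696ee0bd32], [nat_lit 174080, nat_lit 169984, nat_lit 167424, nat_lit 161664, nat_lit 157248, nat_lit 153216, nat_lit 149600, nat_lit 143552, nat_lit 140868, nat_lit 137858, nat_lit 133961, nat_lit 1810, nat_lit 5572, nat_lit 8872, nat_lit 14176, nat_lit 16992, nat_lit 21248, nat_lit 24832, nat_lit 29952, nat_lit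 41345, nat_lit 36900, nat_lit 32833, nat_lit 28706, nat_lit 24832, nat_lit 20630, nat_lit 16397, nat_lit 12295, nat_lit 8202, nat_lit 4097]⟩⟩⟩, ap0⟩,
  .stab (nat_lit 338) tw0 ⟨(nat_lit 0), ⟨[nat_lit 25, nat_lit 30, nat_lit 27, nat_lit 23, nat_lit 24, nat_lit 27, nat_lit 32, nat_lit 23, nat_lit 30, nat_lit 24], [], (nat_lit 338), ⟨[nat_lit 72, nat_lit 63], [nat_lit 78, nat_lit 91], ⟨[nat_lit 0x28ea6ba42b229f141dd014e92032cd], [nat_lit 174080, nat_lit 166144, nat_lit 162176, nat_lit 157760, nat_lit 152128, nat_lit 148480, nat_lit 145400, nat_lit 142316, nat_lit 137220, nat_lit 131211, nat_lit 1066, nat_lit 5776, nat_lit 9488, nat_lit 13552, nat_lit 16800, nat_lit 21504, nat_lit 26112, nat_lit 33792, nat_lit 37888, nat_lit 41107, nat_lit 37236, nat_lit 33394, nat_lit 29813, nat_lit 24604, nat_lit 20608, nat_lit 16458, nat_lit 12293, nat_lit 8201, nat_lit 4113]⟩⟩⟩, ap0⟩]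

theorem dcMr171 : Rng dcM 171 173 := Rng.of (l := dcMc171) (by decide +kernel)

def dcMc173 : List Cert := [.stab (nat_lit 338) tw0 ⟨(nat_lit 0), ⟨[nat_lit 23, nat_lit 23, nat_lit 23, nat_lit 32, nat_lit 21, nat_lit 28, nat_lit 32, nat_lit 30, nat_lit 25], [], (nat_lit 338), ⟨[nat_lit 82, nat_lit 46], [nat_lit 0, nat_lit 32, nat_lit 66], ⟨[nat_lit 0xa01e59a650b1da14454b1dcce20995], [nat_lit 174080, nat_lit 168960, nat_lit 166656, nat_lit 161792, nat_lit 159424, nat_lit 152128, nat_lit 148256, nat_lit 145208, nat_lit 142520, nat_lit 137218, nat_lit 131222, nat_lit 804, nat_lit 4408, nat_lit 8208, nat_lit 13552, nat_lit 18336, nat_lit 22272, nat_lit 24704, nat_lit 29696, nat_lit 37888, nat_lit 41935, nat_lit 38257, nat_lit 32988, nat_lit 28734, nat_lit 24638, nat_lit 20510, nat_lit 16394, nat_lit 12294, nat_lit 8200, nat_lit 4100]⟩⟩⟩, ap0⟩,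
  .prod [] [nat_lit 172, nat_lit 171, nat_lit 173, nat_lit 172],
  .prod [] [nat_lit 171, nat_lit 171, nat_lit 172, nat_lit 174],
  .prod [] [nat_lit 170, nat_lit 174, nat_lit 170, nat_lit 170],
  .prod [] [nat_lit 175, nat_lit 176, nat_lit 171, nat_lit 171],
  .prod [] [nat_lit 173, nat_lit 177, nat_lit 170, nat_lit 174],
  .prod [] [nat_lit 170, nat_lit 178, nat_lit 174, nat_lit 170]]

theorem dcMr173 : Rng dcM 173 180 := Rng.of (l := dcMc173) (by decide +kernel)

def dcMc180 : List Cert := [.prod [] [nat_lit 175, nat_lit 175, nat_lit 175, nat_lit 171],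
  .prod [] [nat_lit 176, nat_lit 172, nat_lit 171, nat_lit 178],
  .edge ⟨[nat_lit 0, nat_lit 36, nat_lit 50], [nat_lit 31, nat_lit 49], ⟨[nat_lit 0x218e55a50a184029ca306bd8ebd2b6], [nat_lit 175104, nat_lit 169472, nat_lit 166912, nat_lit 163072, nat_lit 159360, nat_lit 151648, nat_lit 149280, nat_lit 144088, nat_lit 142048, nat_lit 137742, nat_lit 131923, nat_lit 1918, nat_lit 5208, nat_lit 8632, nat_lit 12624, nat_lit 18272, nat_lit 20608, nat_lit 26112, nat_lit 29440, nat_lit 33792, nat_lit 41214, nat_lit 37030, nat_lit 32998, nat_lit 29006, nat_lit 24885, nat_lit 20486, nat_lit 16394, nat_lit 12311, nat_lit 8194, nat_lit 4097]⟩⟩ ⟨(nat_lit 2), ⟨[], [], (nat_lit 339), ⟨[nat_lit 0, nat_lit 27, nat_lit 50], [nat_lit 77, nat_lit 64], ⟨[nat_lit 0x826ca29ab3a48430b08879c0b8baed], [nat_lit 175104, nat_lit 168448, nat_lit 165120, nat_lit 160384, nat_lit 157312, nat_lit 152288, nat_lit 147600, nat_lit 143432, nat_lit 139464, nat_lit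 135444, nat_lit 131242, nat_lit 1516, nat_lit 4672, nat_lit 9136, nat_lit 13200, nat_lit 17024, nat_lit 22464, nat_lit 26496, nat_lit 29696, nat_lit 33792, nat_lit 37888, nat_lit 41459, nat_lit 37039, nat_lit 29282, nat_lit 24750, nat_lit 20572, nat_lit 16421, nat_lit 12306, nat_lit 4113]⟩⟩⟩, ⟨[nat_lit 22, nat_lit 23, nat_lit 22, nat_lit 21, nat_lit 24, nat_lit 22], [], (nat_lit 216), ⟨[nat_lit 0, nat_lit 44, nat_lit 48], [nat_lit 0, nat_lit 2, nat_lit 47], ⟨[nat_lit 0x8a0733ddb07a981018a9255d25d056], [nat_lit 174080, nat_lit 164352, nat_lit 160640, nat_lit 158976, nat_lit 154336, nat_lit 150320, nat_lit 144352, nat_lit 142888, nat_lit 136358, nat_lit 133848, nat_lit 700, nat_lit 5084, nat_lit 8224, nat_lit 14048, nat_lit 18304, nat_lit 21888, nat_lit 25984, nat_lit 29952, nat_lit 34304, nat_lit 37888, nat_lit 41514, nat_lit 37368, nat_lit 32979, nat_lit 28733, nat_lit 24617, nat_lit 20559, nat_lit 16516, nat_lit 12295, nat_lit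 8202, nat_lit 4104, nat_lit 2]⟩⟩⟩⟩]

theorem dcMr180 : Rng dcM 180 183 := Rng.of (l := dcMc180) (by decide +kernel)

def dcMc183 : List Cert := [.edge ⟨[nat_lit 33, nat_lit 90], [nat_lit 0, nat_lit 81, nat_lit 50], ⟨[nat_lit 0x88e4035ea77b9495b5889c041a10b6], [nat_lit 175104, nat_lit 168448, nat_lit 165376, nat_lit 160512, nat_lit 159040, nat_lit 153760, nat_lit 149600, nat_lit 144736, nat_lit 142296, nat_lit 136432, nat_lit 133558, nat_lit 568, nat_lit 4224, nat_lit 9816, nat_lit 12816, nat_lit 16512, nat_lit 20608, nat_lit 25088, nat_lit 30208, nat_lit 34304, nat_lit 41173, nat_lit 37086, nat_lit 32917, nat_lit 28761, nat_lit 24634, nat_lit 20508, nat_lit 16391, nat_lit 12321, nat_lit 8193, nat_lit 4112, nat_lit 2]⟩⟩ ⟨(nat_lit 2), ⟨[nat_lit 49, nat_lit 47, nat_lit 48, nat_lit 46], [], (nat_lit 119), ⟨[nat_lit 86, nat_lit 56], [nat_lit 44, nat_lit 61], ⟨[nat_lit 0x7802322a90ba667416557358232ed1], [nat_lit 175104, nat_lit 170496,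 nat_lit 166656, nat_lit 157440, nat_lit 153568, nat_lit 150544, nat_lit 144104, nat_lit 141192, nat_lit 138598, nat_lit 134331, nat_lit 1298, nat_lit 5544, nat_lit 9840, nat_lit 13312, nat_lit 17504, nat_lit 22208, nat_lit 25088, nat_lit 29440, nat_lit 33280, nat_lit 37888, nat_lit 41702, nat_lit 37345, nat_lit 33393, nat_lit 28983, nat_lit 24577, nat_lit 20622, nat_lit 16389, nat_lit 12320, nat_lit 8210]⟩⟩⟩, ⟨[nat_lit 29, nat_lit 28, nat_lit 26, nat_lit 29, nat_lit 22, nat_lit 22], [], (nat_lit 338), ⟨[nat_lit 0, nat_lit 78, nat_lit 49], [nat_lit 84, nat_lit 93], ⟨[nat_lit 0x819733b54e1d62cb0a4f45cb420520], [nat_lit 173056, nat_lit 168448, nat_lit 166400, nat_lit 162688, nat_lit 157952, nat_lit 155008, nat_lit 148880, nat_lit 146728, nat_lit 142228, nat_lit 135336, nat_lit 134415, nat_lit 1478, nat_lit 5588, nat_lit 9664, nat_lit 13344, nat_lit 16416, nat_lit 20928, nat_lit 25216, nat_lit 29440, nat_lit 37888, nat_lit 41624, nat_lit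 37130, nat_lit 32951, nat_lit 28799, nat_lit 24724, nat_lit 20573, nat_lit 16399, nat_lit 12295, nat_lit 8202, nat_lit 4104, nat_lit 2]⟩⟩⟩⟩]

theorem dcMr183 : Rng dcM 183 184 := Rng.of (l := dcMc183) (by decide +kernel)

def dcMc184 : List Cert := [.edge ⟨[nat_lit 20, nat_lit 59], [nat_lit 0, nat_lit 39, nat_lit 48], ⟨[nat_lit 0xbbc8d0d406b25071496c816911b953], [nat_lit 175104, nat_lit 171008, nat_lit 164864, nat_lit 163072, nat_lit 158144, nat_lit 153824, nat_lit 149360, nat_lit 144880, nat_lit 140844, nat_lit 139112, nat_lit 133598, nat_lit 1530, nat_lit 5884, nat_lit 9384, nat_lit 12800, nat_lit 17152, nat_lit 21184, nat_lit 26240, nat_lit 29952, nat_lit 33280, nat_lit 37888, nat_lit 41369, nat_lit 37110, nat_lit 32859, nat_lit 29199, nat_lit 24736, nat_lit 20498, nat_lit 16393, nat_lit 12304, nat_lit 8193, nat_lit 4128, nat_lit 4]⟩⟩ ⟨(nat_lit 2), ⟨[nat_lit 69, nat_lit 46, nat_lit 70, nat_lit 66], [], (nat_lit 244), ⟨[nat_lit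 0, nat_lit 83], [nat_lit 0, nat_lit 33, nat_lit 53], ⟨[nat_lit 0x784d62d5c23cd44a26176224d8ac60], [nat_lit 174080, nat_lit 170496, nat_lit 164608, nat_lit 161792, nat_lit 158720, nat_lit 154048, nat_lit 147680, nat_lit 144576, nat_lit 140136, nat_lit 139204, nat_lit 134248, nat_lit 8, nat_lit 5856, nat_lit 9432, nat_lit 12800, nat_lit 17696, nat_lit 21568, nat_lit 25344, nat_lit 30464, nat_lit 33792, nat_lit 41739, nat_lit 37159, nat_lit 33481, nat_lit 29029, nat_lit 24857, nat_lit 20557, nat_lit 16390, nat_lit 12291, nat_lit 8211, nat_lit 4097, nat_lit 2]⟩⟩⟩, ⟨[nat_lit 134, nat_lit 130, nat_lit 133, nat_lit 136, nat_lit 136, nat_lit 109], [nat_lit 131, nat_lit 135, nat_lit 110, nat_lit 111, nat_lit 136], (nat_lit 365), ⟨[nat_lit 76, nat_lit 56], [nat_lit 78, nat_lit 47], ⟨[nat_lit 0x4844829a121a80b656ef9c487a3acd], [nat_lit 175104, nat_lit 168960, nat_lit 164352, nat_lit 160384, nat_lit 157248, nat_lit 152704, nat_lit 148016,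 nat_lit 144224, nat_lit 140576, nat_lit 131849, nat_lit 1516, nat_lit 5668, nat_lit 9136, nat_lit 14144, nat_lit 17632, nat_lit 21952, nat_lit 25984, nat_lit 29696, nat_lit 41472, nat_lit 38336, nat_lit 33448, nat_lit 29296, nat_lit 24872, nat_lit 20624, nat_lit 16519, nat_lit 12544, nat_lit 4112]⟩⟩⟩⟩]

theorem dcMr184 : Rng dcM 184 185 := Rng.of (l := dcMc184) (by decide +kernel)

def dcMc185 : List Cert := [.edge ⟨[nat_lit 0, nat_lit 11, nat_lit 60], [nat_lit 29, nat_lit 54], ⟨[nat_lit 0xb01a9bb16110e27999eea12b02aa48], [nat_lit 173056, nat_lit 168960, nat_lit 167168, nat_lit 161024, nat_lit 156800, nat_lit 153792, nat_lit 150320, nat_lit 145672, nat_lit 141596, nat_lit 138182, nat_lit 132417, nat_lit 1554, nat_lit 4412, nat_lit 8248, nat_lit 13424, nat_lit 16544, nat_lit 22016, nat_lit 24832, nat_lit 28928, nat_lit 33280, nat_lit 41394, nat_lit 37292, nat_lit 33522, nat_lit 29311, nat_lit 24727, nat_lit 20996, nat_lit 16513,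 nat_lit 12322, nat_lit 8259, nat_lit 4]⟩⟩ ⟨(nat_lit 2), ⟨[nat_lit 103, nat_lit 107, nat_lit 103, nat_lit 102], [], (nat_lit 182), ⟨[nat_lit 84, nat_lit 90], [nat_lit 0, nat_lit 87, nat_lit 70], ⟨[nat_lit 0x12227548a3b5dd524c296bd9432e00], [nat_lit 165376, nat_lit 161280, nat_lit 156928, nat_lit 151776, nat_lit 149376, nat_lit 145368, nat_lit 140488, nat_lit 136930, nat_lit 132336, nat_lit 5016, nat_lit 10048, nat_lit 13312, nat_lit 17696, nat_lit 21888, nat_lit 25600, nat_lit 28928, nat_lit 33792, nat_lit 41960, nat_lit 37992, nat_lit 33342, nat_lit 29016, nat_lit 24750, nat_lit 20609, nat_lit 16654, nat_lit 12352, nat_lit 8225, nat_lit 4100]⟩⟩⟩, ⟨[nat_lit 49, nat_lit 68, nat_lit 66, nat_lit 49, nat_lit 47, nat_lit 47], [], (nat_lit 368), ⟨[nat_lit 25, nat_lit 93], [nat_lit 35, nat_lit 48], ⟨[nat_lit 0x3dea1a25b1818531a888601c57aed2], [nat_lit 175104, nat_lit 168960, nat_lit 166656, nat_lit 162176, nat_lit 158592, nat_lit 152736,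 nat_lit 147888, nat_lit 144568, nat_lit 142012, nat_lit 138486, nat_lit 131076, nat_lit 696, nat_lit 5572, nat_lit 9752, nat_lit 14176, nat_lit 17440, nat_lit 21120, nat_lit 25728, nat_lit 29184, nat_lit 41467, nat_lit 37039, nat_lit 32770, nat_lit 29281, nat_lit 24716, nat_lit 21011, nat_lit 16430, nat_lit 12290, nat_lit 4097, nat_lit 2]⟩⟩⟩⟩,
  .edge tw0 ⟨(nat_lit 1), ⟨[], [], (nat_lit 250), ⟨[nat_lit 0, nat_lit 64], [nat_lit 35, nat_lit 67], ⟨[nat_lit 0x799858d276ac2571ac483b9a40242a], [nat_lit 168960, nat_lit 165632, nat_lit 159872, nat_lit 157248, nat_lit 155264, nat_lit 149184, nat_lit 144456, nat_lit 140348, nat_lit 136398, nat_lit 131932, nat_lit 1842, nat_lit 4128, nat_lit 9664, nat_lit 12976, nat_lit 16416, nat_lit 20608, nat_lit 25984, nat_lit 41844, nat_lit 37037, nat_lit 32928, nat_lit 28943, nat_lit 25647, nat_lit 12352, nat_lit 8194]⟩⟩⟩, ⟨[nat_lit 47, nat_lit 48, nat_lit 72, nat_lit 67, nat_lit 47], [], (nat_lit 366),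 ⟨[nat_lit 38, nat_lit 63], [nat_lit 18, nat_lit 89], ⟨[nat_lit 0x7490225d4901ac38856f2b6aca4e07], [nat_lit 175104, nat_lit 168960, nat_lit 164096, nat_lit 160128, nat_lit 157888, nat_lit 154144, nat_lit 150704, nat_lit 145096, nat_lit 141868, nat_lit 135330, nat_lit 133224, nat_lit 1246, nat_lit 4328, nat_lit 10048, nat_lit 12864, nat_lit 18112, nat_lit 22336, nat_lit 24960, nat_lit 28928, nat_lit 33792, nat_lit 41240, nat_lit 37262, nat_lit 33445, nat_lit 29296, nat_lit 24723, nat_lit 20554, nat_lit 16389, nat_lit 12358, nat_lit 8211, nat_lit 4097, nat_lit 2]⟩⟩⟩⟩]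

theorem dcMr185 : Rng dcM 185 187 := Rng.of (l := dcMc185) (by decide +kernel)

def dcMc187 : List Cert := [.edge tw0 ⟨(nat_lit 1), ⟨[], [nat_lit 143, nat_lit 146, nat_lit 140], (nat_lit 313), ⟨[nat_lit 85, nat_lit 64], [nat_lit 0, nat_lit 21, nat_lit 52], ⟨[nat_lit 0x635490c4525b90fbd4a4a18f61c260], [nat_lit 170496, nat_lit 160256, nat_lit 157440, nat_lit 147472, nat_lit 143680, nat_lit 140244, nat_lit 136122, nat_lit 132105, nat_lit 512, nat_lit 4684, nat_lit 8256, nat_lit 12800, nat_lit 16544, nat_lit 20928, nat_lit 24832, nat_lit 30464, nat_lit 41472, nat_lit 37188, nat_lit 33332, nat_lit 28723, nat_lit 24880, nat_lit 20633, nat_lit 16393, nat_lit 8704, nat_lit 4097]⟩⟩⟩, ⟨[], [nat_lit 131, nat_lit 135, nat_lit 110, nat_lit 111, nat_lit 136], (nat_lit 365), ⟨[nat_lit 0, nat_lit 37, nat_lit 69], [nat_lit 39, nat_lit 50], ⟨[nat_lit 0x398a484e32ad2d7004435a12a735ec], [nat_lit 171008, nat_lit 164096, nat_lit 160000, nat_lit 158656,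 nat_lit 153312, nat_lit 148144, nat_lit 145944, nat_lit 141428, nat_lit 139184, nat_lit 133513, nat_lit 880, nat_lit 5716, nat_lit 9712, nat_lit 13600, nat_lit 18368, nat_lit 21184, nat_lit 25088, nat_lit 29440, nat_lit 34304, nat_lit 41803, nat_lit 36939, nat_lit 34024, nat_lit 28986, nat_lit 24587, nat_lit 20760, nat_lit 16423, nat_lit 12295, nat_lit 8194, nat_lit 4097]⟩⟩⟩⟩,
  .edge ⟨[nat_lit 0, nat_lit 14, nat_lit 65], [nat_lit 0, nat_lit 41, nat_lit 91], ⟨[nat_lit 0x3ce25a081772d8834a041daa16a9e9], [nat_lit 164096, nat_lit 160512, nat_lit 155712, nat_lit 152384, nat_lit 148176, nat_lit 143672, nat_lit 143272, nat_lit 136022, nat_lit 131368, nat_lit 724, nat_lit 4780, nat_lit 10088, nat_lit 14064, nat_lit 17472, nat_lit 22016, nat_lit 25856, nat_lit 29440, nat_lit 34304, nat_lit 41177, nat_lit 37265, nat_lit 33309, nat_lit 28727, nat_lit 24637, nat_lit 20545, nat_lit 16394, nat_lit 12311, nat_lit 8195, nat_lit 4101, nat_lit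 4]⟩⟩ ⟨(nat_lit 2), ⟨[nat_lit 144, nat_lit 141, nat_lit 140, nat_lit 139], [], (nat_lit 320), ⟨[nat_lit 8, nat_lit 67], [nat_lit 6, nat_lit 93], ⟨[nat_lit 0x3ad2415ea07c9d32a906a04766c191], [nat_lit 175104, nat_lit 168448, nat_lit 164352, nat_lit 161024, nat_lit 159104, nat_lit 154080, nat_lit 150768, nat_lit 144880, nat_lit 142000, nat_lit 136628, nat_lit 133777, nat_lit 1652, nat_lit 4924, nat_lit 9352, nat_lit 13712, nat_lit 16448, nat_lit 22272, nat_lit 25088, nat_lit 29952, nat_lit 34304, nat_lit 37888, nat_lit 41975, nat_lit 37242, nat_lit 33403, nat_lit 28761, nat_lit 24620, nat_lit 20573, nat_lit 16421, nat_lit 8209, nat_lit 4097]⟩⟩⟩, ⟨[nat_lit 143, nat_lit 146, nat_lit 140], [], (nat_lit 374), ⟨[nat_lit 19, nat_lit 64], [nat_lit 72, nat_lit 64], ⟨[nat_lit 0x6426e55ea8204e36c64fb2d34280c2], [nat_lit 175104, nat_lit 165120, nat_lit 160640, nat_lit 159232, nat_lit 153664, nat_lit 150656, nat_lit 144016, nat_lit 141576, nat_lit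 136138, nat_lit 133408, nat_lit 1136, nat_lit 4548, nat_lit 9328, nat_lit 14304, nat_lit 17472, nat_lit 21440, nat_lit 25216, nat_lit 29696, nat_lit 33792, nat_lit 41211, nat_lit 37138, nat_lit 33021, nat_lit 28938, nat_lit 24629, nat_lit 20497, nat_lit 16389, nat_lit 12544, nat_lit 4224]⟩⟩⟩⟩]

theorem dcMr187 : Rng dcM 187 189 := Rng.of (l := dcMc187) (by decide +kernel)

def dcMc189 : List Cert := [.edge ⟨[nat_lit 0, nat_lit 32, nat_lit 46], [nat_lit 0, nat_lit 38, nat_lit 90], ⟨[nat_lit 0x104e6ace175b52f00c857214ca46d2], [nat_lit 170496, nat_lit 161024, nat_lit 158784, nat_lit 153568, nat_lit 148976, nat_lit 145544, nat_lit 143256, nat_lit 139144, nat_lit 133476, nat_lit 590, nat_lit 4340, nat_lit 9416, nat_lit 12768, nat_lit 16800, nat_lit 21504, nat_lit 25088, nat_lit 29696, nat_lit 33792, nat_lit 41217, nat_lit 36929, nat_lit 33920, nat_lit 28981, nat_lit 25095, nat_lit 20629, nat_lit 16527, nat_lit 12306, nat_lit 8259]⟩⟩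 ⟨(nat_lit 2), ⟨[nat_lit 142, nat_lit 139, nat_lit 141], [], (nat_lit 320), ⟨[nat_lit 0, nat_lit 75, nat_lit 91], [nat_lit 0, nat_lit 4, nat_lit 53], ⟨[nat_lit 0x734024c24b350f51858f25ae59a22a], [nat_lit 169472, nat_lit 165632, nat_lit 157888, nat_lit 152768, nat_lit 147648, nat_lit 144536, nat_lit 140776, nat_lit 136154, nat_lit 131099, nat_lit 1874, nat_lit 4568, nat_lit 9240, nat_lit 13584, nat_lit 17120, nat_lit 22464, nat_lit 25088, nat_lit 28928, nat_lit 33280, nat_lit 41363, nat_lit 36928, nat_lit 32984, nat_lit 28991, nat_lit 24578, nat_lit 20619, nat_lit 16648, nat_lit 12321, nat_lit 8201, nat_lit 4160]⟩⟩⟩, ⟨[nat_lit 147, nat_lit 142, nat_lit 140], [], (nat_lit 374), ⟨[nat_lit 83, nat_lit 64], [nat_lit 0, nat_lit 85, nat_lit 60], ⟨[nat_lit 0x9eca94949ae29185ae54a08b9ac7], [nat_lit 173056, nat_lit 164096, nat_lit 161792, nat_lit 156992, nat_lit 152320, nat_lit 149392, nat_lit 144232, nat_lit 140512, nat_lit 137044, nat_lit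 131409, nat_lit 1054, nat_lit 5668, nat_lit 8776, nat_lit 13072, nat_lit 16640, nat_lit 21504, nat_lit 25600, nat_lit 29696, nat_lit 33280, nat_lit 37888, nat_lit 41088, nat_lit 37264, nat_lit 33532, nat_lit 28736, nat_lit 24736, nat_lit 20554, nat_lit 16896, nat_lit 12325, nat_lit 8203, nat_lit 4097]⟩⟩⟩⟩,
  .edge ⟨[nat_lit 0, nat_lit 18, nat_lit 53], [nat_lit 76, nat_lit 53], ⟨[nat_lit 0x455365dd54190a27424f01cc18cdac], [nat_lit 174080, nat_lit 165120, nat_lit 161536, nat_lit 158336, nat_lit 155520, nat_lit 150768, nat_lit 144416, nat_lit 143284, nat_lit 137096, nat_lit 134781, nat_lit 1354, nat_lit 5024, nat_lit 9472, nat_lit 13712, nat_lit 18400, nat_lit 20864, nat_lit 26112, nat_lit 29952, nat_lit 34304, nat_lit 37888, nat_lit 41914, nat_lit 37062, nat_lit 32791, nat_lit 29257, nat_lit 25129, nat_lit 20508, nat_lit 16417, nat_lit 12295, nat_lit 8201, nat_lit 4100]⟩⟩ ⟨(nat_lit 2), ⟨[nat_lit 140, nat_lit 140, nat_lit 139], [nat_lit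 149, nat_lit 143, nat_lit 145], (nat_lit 311), ⟨[nat_lit 85, nat_lit 58], [nat_lit 25, nat_lit 69], ⟨[nat_lit 0x4d9c25dc6f946653c086a05a85540c], [nat_lit 175104, nat_lit 168960, nat_lit 165376, nat_lit 157824, nat_lit 154784, nat_lit 150672, nat_lit 145376, nat_lit 143336, nat_lit 135402, nat_lit 134865, nat_lit 1354, nat_lit 5856, nat_lit 9328, nat_lit 13136, nat_lit 16864, nat_lit 22272, nat_lit 25728, nat_lit 30208, nat_lit 33792, nat_lit 41085, nat_lit 37031, nat_lit 32799, nat_lit 29295, nat_lit 24583, nat_lit 21004, nat_lit 16399, nat_lit 12305, nat_lit 8194, nat_lit 4100]⟩⟩⟩, ⟨[nat_lit 137, nat_lit 130, nat_lit 136, nat_lit 132, nat_lit 109, nat_lit 137, nat_lit 109], [nat_lit 131, nat_lit 135, nat_lit 110, nat_lit 111, nat_lit 136], (nat_lit 365), ⟨[nat_lit 41, nat_lit 65], [nat_lit 41, nat_lit 53], ⟨[nat_lit 0x355c47c274b886c048a959e21522cd], [nat_lit 173056, nat_lit 168448, nat_lit 164352, nat_lit 160896, nat_lit 159296,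 nat_lit 153536, nat_lit 147840, nat_lit 144560, nat_lit 139940, nat_lit 137198, nat_lit 131383, nat_lit 428, nat_lit 5544, nat_lit 8720, nat_lit 13472, nat_lit 16640, nat_lit 20736, nat_lit 24832, nat_lit 29696, nat_lit 33280, nat_lit 41851, nat_lit 38096, nat_lit 32926, nat_lit 29022, nat_lit 24608, nat_lit 20560, nat_lit 16426, nat_lit 12309, nat_lit 8203, nat_lit 4104]⟩⟩⟩⟩]

theorem dcMr189 : Rng dcM 189 191 := Rng.of (l := dcMc189) (by decide +kernel)

def dcMc191 : List Cert := [.edge ⟨[nat_lit 40, nat_lit 68], [nat_lit 0, nat_lit 1], ⟨[nat_lit 0xbb9b67d68c4c22a19cc10148294d0b], [nat_lit 174080, nat_lit 171008, nat_lit 165632, nat_lit 162560, nat_lit 158208, nat_lit 155168, nat_lit 148512, nat_lit 145056, nat_lit 140448, nat_lit 137392, nat_lit 134378, nat_lit 1336, nat_lit 4824, nat_lit 9384, nat_lit 13472, nat_lit 21568, nat_lit 25472, nat_lit 30464, nat_lit 33280, nat_lit 41603, nat_lit 37347, nat_lit 32825, nat_lit 29296,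 nat_lit 25102, nat_lit 20559, nat_lit 16524, nat_lit 12308, nat_lit 4097]⟩⟩ ⟨(nat_lit 2), ⟨[nat_lit 173, nat_lit 181, nat_lit 176], [nat_lit 173, nat_lit 171, nat_lit 173], (nat_lit 369), ⟨[nat_lit 0, nat_lit 84, nat_lit 66], [nat_lit 35, nat_lit 92], ⟨[nat_lit 0x641510ac0e192f2a3d3538a762990d], [nat_lit 171008, nat_lit 166912, nat_lit 162944, nat_lit 159552, nat_lit 153408, nat_lit 150416, nat_lit 146752, nat_lit 139580, nat_lit 138634, nat_lit 132838, nat_lit 566, nat_lit 4824, nat_lit 9808, nat_lit 12528, nat_lit 16960, nat_lit 21440, nat_lit 25600, nat_lit 28928, nat_lit 41238, nat_lit 37197, nat_lit 33482, nat_lit 28683, nat_lit 25131, nat_lit 20548, nat_lit 17411, nat_lit 12417, nat_lit 8211]⟩⟩⟩, ⟨[nat_lit 47, nat_lit 68, nat_lit 66, nat_lit 49, nat_lit 67], [], (nat_lit 178), ⟨[nat_lit 80, nat_lit 57], [nat_lit 0, nat_lit 42, nat_lit 61], ⟨[nat_lit 0x2cc8bad22910112b186e09db753e0c], [nat_lit 169472, nat_lit 164096, nat_lit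 161280, nat_lit 156800, nat_lit 154496, nat_lit 147984, nat_lit 145392, nat_lit 141012, nat_lit 135450, nat_lit 131672, nat_lit 1580, nat_lit 4476, nat_lit 9672, nat_lit 12816, nat_lit 17696, nat_lit 20544, nat_lit 26240, nat_lit 30464, nat_lit 41959, nat_lit 37344, nat_lit 32972, nat_lit 28705, nat_lit 24838, nat_lit 20510, nat_lit 16423, nat_lit 12306, nat_lit 8226, nat_lit 4105, nat_lit 8]⟩⟩⟩⟩]

theorem dcMr191 : Rng dcM 191 192 := Rng.of (l := dcMc191) (by decide +kernel)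

theorem dcMR0 : Rng dcM 0 192 := (dcMr0.trans (dcMr15.trans (dcMr17.trans (dcMr19.trans (dcMr22.trans (dcMr24.trans (dcMr31.trans (dcMr34.trans (dcMr36.trans (dcMr42.trans (dcMr46.trans (dcMr48.trans (dcMr52.trans (dcMr58.trans (dcMr59.trans (dcMr60.trans (dcMr62.trans (dcMr64.trans (dcMr66.trans (dcMr73.trans (dcMr77.trans (dcMr79.trans (dcMr86.trans (dcMr89.trans (dcMr91.trans (dcMr93.trans (dcMr95.trans (dcMr97.trans (dcMr99.trans (dcMr103.trans (dcMr110.trans (dcMr112.trans (dcMr119.trans (dcMr122.trans (dcMr124.trans (dcMr126.trans (dcMr128.trans (dcMr130.trans (dcMr137.trans (dcMr141.trans (dcMr145.trans (dcMr152.trans (dcMr154.trans (dcMr155.trans (dcMr156.trans (dcMr157.trans (dcMr159.trans (dcMr161.trans (dcMr162.trans (dcMr163.trans (dcMr165.trans (dcMr166.trans (dcMr167.trans (dcMr168.trans (dcMr171.trans (dcMr173.trans (dcMr180.trans (dcMr183.trans (dcMr184.trans (dcMr185.trans (dcMr187.trans (dcMr189.trans dcMr191))))))))))))))))))))))))))))))))))))))))))))))))))))))))))))))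

end

end CF.Mon
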