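import Cfsg.Agent.Mon.DcPE0
import Cfsg.Agent.Mon.YG

set_option autoImplicit false
set_option maxRecDepth 100000

namespace CF.Mon

open CF.Comp

noncomputable section

def dcPE : BT El := (BT.node (nat_lit 72) (BT.node (nat_lit 32) (BT.node (nat_lit 16) (BT.node (nat_lit 8) dcPE0 dcPE1) (BT.node (nat_lit 24) dcPE2 dcPE3)) (BT.node (nat_lit 48) (BT.node (nat_lit 40) dcPE4 dcPE5) (BT.node (nat_lit 56) dcPE6 (BT.node (nat_lit 64) dcPE7 dcPE8)))) (BT.node (nat_lit 104) (BT.node (nat_lit 88) (BT.node (nat_lit 80) dcPE9 dcPE10) (BT.node (nat_lit 96) dcPE11 dcPE12)) (BT.node (nat_lit 120) (BT.node (nat_lit 112) dcPE13 dcPE14) (BT.node (nat_lit 128) dcPE15 (BT.node (nat_lit 136) dcPE16 dcPE17)))))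

theorem dcPE_ok : dcPE.all (elB (nat_lit 87960930234368)) = true := (BT.all_node (BT.all_node (BT.all_node (BT.all_node dcPE0_ok dcPE1_ok) (BT.all_node dcPE2_ok dcPE3_ok)) (BT.all_node (BT.all_node dcPE4_ok dcPE5_ok) (BT.all_node dcPE6_ok (BT.all_node dcPE7_ok dcPE8_ok)))) (BT.all_node (BT.all_node (BT.all_node dcPE9_ok dcPE10_ok) (BT.all_node dcPE11_ok dcPE12_ok)) (BT.all_node (BT.all_node dcPE13_ok dcPE14_ok) (BT.all_node dcPE15_ok (BT.all_node dcPE16_ok dcPE17_ok)))))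

def dcPF : BT Fact := (.node (nat_lit 65) (.node (nat_lit 32) (.node (nat_lit 16) (.node (nat_lit 8) (.node (nat_lit 4) (.node (nat_lit 2) (.node (nat_lit 1) (.leaf ⟨(nat_lit 0), (nat_lit 0), (nat_lit 1), (nat_lit 0), (nat_lit 0)⟩)
 (.leaf ⟨(nat_lit 0), (nat_lit 0), (nat_lit 2), (nat_lit 0), (nat_lit 0)⟩))
 (.node (nat_lit 3) (.leaf ⟨(nat_lit 0), (nat_lit 0), (nat_lit 3), (nat_lit 0), (nat_lit 0)⟩)
 (.leaf ⟨(nat_lit 0), (nat_lit 0), (nat_lit 4), (nat_lit 0), (nat_lit 0)⟩)))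
 (.node (nat_lit 6) (.node (nat_lit 5) (.leaf ⟨(nat_lit 0), (nat_lit 0), (nat_lit 5), (nat_lit 0), (nat_lit 0)⟩)
 (.leaf ⟨(nat_lit 0), (nat_lit 0), (nat_lit 6), (nat_lit 0), (nat_lit 0)⟩))
 (.node (nat_lit 7) (.leaf ⟨(nat_lit 0), (nat_lit 0), (nat_lit 7), (nat_lit 0), (nat_lit 0)⟩)
 (.leaf ⟨(nat_lit 0), (nat_lit 0), (nat_lit 8), (nat_lit 0), (nat_lit 0)⟩))))
 (.node (nat_lit 12) (.node (nat_lit 10) (.node (nat_lit 9) (.leaf ⟨(nat_lit 0), (nat_lit 0), (nat_lit 9), (nat_lit 0), (nat_lit 0)⟩)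
 (.leaf ⟨(nat_lit 0), (nat_lit 0), (nat_lit 10), (nat_lit 0), (nat_lit 0)⟩))
 (.node (nat_lit 11) (.leaf ⟨(nat_lit 1), (nat_lit 0), (nat_lit 11), (nat_lit 1), (nat_lit 0)⟩)
 (.leaf ⟨(nat_lit 0), (nat_lit 1), (nat_lit 12), (nat_lit 0), (nat_lit 0)⟩)))
 (.node (nat_lit 14) (.node (nat_lit 13) (.leaf ⟨(nat_lit 0), (nat_lit 1), (nat_lit 13), (nat_lit 0), (nat_lit 0)⟩)
 (.leaf ⟨(nat_lit 0), (nat_lit 1), (nat_lit 14), (nat_lit 0), (nat_lit 0)⟩))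
 (.node (nat_lit 15) (.leaf ⟨(nat_lit 0), (nat_lit 1), (nat_lit 15), (nat_lit 0), (nat_lit 0)⟩)
 (.leaf ⟨(nat_lit 0), (nat_lit 1), (nat_lit 16), (nat_lit 0), (nat_lit 0)⟩)))))
 (.node (nat_lit 24) (.node (nat_lit 20) (.node (nat_lit 18) (.node (nat_lit 17) (.leaf ⟨(nat_lit 0), (nat_lit 1), (nat_lit 17), (nat_lit 0), (nat_lit 0)⟩)
 (.leaf ⟨(nat_lit 0), (nat_lit 1), (nat_lit 18), (nat_lit 0), (nat_lit 0)⟩))
 (.node (nat_lit 19) (.leaf ⟨(nat_lit 0), (nat_lit 1), (nat_lit 19), (nat_lit 0), (nat_lit 0)⟩)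
 (.leaf ⟨(nat_lit 0), (nat_lit 1), (nat_lit 20), (nat_lit 0), (nat_lit 0)⟩)))
 (.node (nat_lit 22) (.node (nat_lit 21) (.leaf ⟨(nat_lit 0), (nat_lit 1), (nat_lit 21), (nat_lit 0), (nat_lit 0)⟩)
 (.leaf ⟨(nat_lit 1), (nat_lit 1), (nat_lit 22), (nat_lit 1), (nat_lit 23)⟩))
 (.node (nat_lit 23) (.leaf ⟨(nat_lit 1), (nat_lit 1), (nat_lit 24), (nat_lit 2), (nat_lit 0)⟩)
 (.leaf ⟨(nat_lit 0), (nat_lit 2), (nat_lit 25), (nat_lit 0), (nat_lit 0)⟩))))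
 (.node (nat_lit 28) (.node (nat_lit 26) (.node (nat_lit 25) (.leaf ⟨(nat_lit 0), (nat_lit 2), (nat_lit 26), (nat_lit 0), (nat_lit 0)⟩)
 (.leaf ⟨(nat_lit 0), (nat_lit 2), (nat_lit 27), (nat_lit 0), (nat_lit 0)⟩))
 (.node (nat_lit 27) (.leaf ⟨(nat_lit 0), (nat_lit 2), (nat_lit 28), (nat_lit 0), (nat_lit 0)⟩)
 (.leaf ⟨(nat_lit 1), (nat_lit 2), (nat_lit 29), (nat_lit 1), (nat_lit 30)⟩)))
 (.node (nat_lit 30) (.node (nat_lit 29) (.leaf ⟨(nat_lit 0), (nat_lit 2), (nat_lit 31), (nat_lit 0), (nat_lit 0)⟩)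
 (.leaf ⟨(nat_lit 0), (nat_lit 2), (nat_lit 32), (nat_lit 0), (nat_lit 0)⟩))
 (.node (nat_lit 31) (.leaf ⟨(nat_lit 0), (nat_lit 2), (nat_lit 33), (nat_lit 0), (nat_lit 0)⟩)
 (.leaf ⟨(nat_lit 0), (nat_lit 2), (nat_lit 34), (nat_lit 0), (nat_lit 0)⟩))))))
 (.node (nat_lit 48) (.node (nat_lit 40) (.node (nat_lit 36) (.node (nat_lit 34) (.node (nat_lit 33) (.leaf ⟨(nat_lit 0), (nat_lit 2), (nat_lit 35), (nat_lit 0), (nat_lit 0)⟩)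
 (.leaf ⟨(nat_lit 0), (nat_lit 2), (nat_lit 36), (nat_lit 0), (nat_lit 0)⟩))
 (.node (nat_lit 35) (.leaf ⟨(nat_lit 1), (nat_lit 1), (nat_lit 37), (nat_lit 3), (nat_lit 0)⟩)
 (.leaf ⟨(nat_lit 0), (nat_lit 3), (nat_lit 38), (nat_lit 0), (nat_lit 0)⟩)))
 (.node (nat_lit 38) (.node (nat_lit 37) (.leaf ⟨(nat_lit 0), (nat_lit 3), (nat_lit 39), (nat_lit 0), (nat_lit 0)⟩)
 (.leaf ⟨(nat_lit 0), (nat_lit 3), (nat_lit 40), (nat_lit 0), (nat_lit 0)⟩))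
 (.node (nat_lit 39) (.leaf ⟨(nat_lit 0), (nat_lit 3), (nat_lit 41), (nat_lit 0), (nat_lit 0)⟩)
 (.leaf ⟨(nat_lit 0), (nat_lit 3), (nat_lit 42), (nat_lit 0), (nat_lit 0)⟩))))
 (.node (nat_lit 44) (.node (nat_lit 42) (.node (nat_lit 41) (.leaf ⟨(nat_lit 0), (nat_lit 3), (nat_lit 43), (nat_lit 0), (nat_lit 0)⟩)
 (.leaf ⟨(nat_lit 1), (nat_lit 3), (nat_lit 44), (nat_lit 1), (nat_lit 45)⟩))
 (.node (nat_lit 43) (.leaf ⟨(nat_lit 1), (nat_lit 3), (nat_lit 46), (nat_lit 3), (nat_lit 47)⟩)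
 (.leaf ⟨(nat_lit 0), (nat_lit 3), (nat_lit 48), (nat_lit 0), (nat_lit 0)⟩)))
 (.node (nat_lit 46) (.node (nat_lit 45) (.leaf ⟨(nat_lit 0), (nat_lit 3), (nat_lit 49), (nat_lit 0), (nat_lit 0)⟩)
 (.leaf ⟨(nat_lit 0), (nat_lit 3), (nat_lit 50), (nat_lit 0), (nat_lit 0)⟩))
 (.node (nat_lit 47) (.leaf ⟨(nat_lit 0), (nat_lit 3), (nat_lit 51), (nat_lit 0), (nat_lit 0)⟩)
 (.leaf ⟨(nat_lit 0), (nat_lit 3), (nat_lit 52), (nat_lit 0), (nat_lit 0)⟩)))))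
 (.node (nat_lit 56) (.node (nat_lit 52) (.node (nat_lit 50) (.node (nat_lit 49) (.leaf ⟨(nat_lit 0), (nat_lit 3), (nat_lit 53), (nat_lit 0), (nat_lit 0)⟩)
 (.leaf ⟨(nat_lit 1), (nat_lit 1), (nat_lit 54), (nat_lit 4), (nat_lit 0)⟩))
 (.node (nat_lit 51) (.leaf ⟨(nat_lit 0), (nat_lit 4), (nat_lit 55), (nat_lit 0), (nat_lit 0)⟩)
 (.leaf ⟨(nat_lit 0), (nat_lit 4), (nat_lit 56), (nat_lit 0), (nat_lit 0)⟩)))
 (.node (nat_lit 54) (.node (nat_lit 53) (.leaf ⟨(nat_lit 0), (nat_lit 4), (nat_lit 57), (nat_lit 0), (nat_lit 0)⟩)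
 (.leaf ⟨(nat_lit 0), (nat_lit 4), (nat_lit 58), (nat_lit 0), (nat_lit 0)⟩))
 (.node (nat_lit 55) (.leaf ⟨(nat_lit 0), (nat_lit 4), (nat_lit 59), (nat_lit 0), (nat_lit 0)⟩)
 (.leaf ⟨(nat_lit 0), (nat_lit 4), (nat_lit 60), (nat_lit 0), (nat_lit 0)⟩))))
 (.node (nat_lit 60) (.node (nat_lit 58) (.node (nat_lit 57) (.leaf ⟨(nat_lit 0), (nat_lit 4), (nat_lit 61), (nat_lit 0), (nat_lit 0)⟩)
 (.leaf ⟨(nat_lit 0), (nat_lit 4), (nat_lit 62), (nat_lit 0), (nat_lit 0)⟩))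
 (.node (nat_lit 59) (.leaf ⟨(nat_lit 0), (nat_lit 4), (nat_lit 63), (nat_lit 0), (nat_lit 0)⟩)
 (.leaf ⟨(nat_lit 1), (nat_lit 3), (nat_lit 64), (nat_lit 4), (nat_lit 65)⟩)))
 (.node (nat_lit 62) (.node (nat_lit 61) (.leaf ⟨(nat_lit 1), (nat_lit 4), (nat_lit 66), (nat_lit 3), (nat_lit 67)⟩)
 (.leaf ⟨(nat_lit 1), (nat_lit 4), (nat_lit 68), (nat_lit 1), (nat_lit 69)⟩))
 (.node (nat_lit 63) (.leaf ⟨(nat_lit 1), (nat_lit 4), (nat_lit 70), (nat_lit 4), (nat_lit 71)⟩)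
 (.node (nat_lit 64) (.leaf ⟨(nat_lit 0), (nat_lit 4), (nat_lit 72), (nat_lit 0), (nat_lit 0)⟩)
 (.leaf ⟨(nat_lit 0), (nat_lit 4), (nat_lit 73), (nat_lit 0), (nat_lit 0)⟩))))))))
 (.node (nat_lit 97) (.node (nat_lit 81) (.node (nat_lit 73) (.node (nat_lit 69) (.node (nat_lit 67) (.node (nat_lit 66) (.leaf ⟨(nat_lit 0), (nat_lit 4), (nat_lit 74), (nat_lit 0), (nat_lit 0)⟩)
 (.leaf ⟨(nat_lit 0), (nat_lit 4), (nat_lit 75), (nat_lit 0), (nat_lit 0)⟩))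
 (.node (nat_lit 68) (.leaf ⟨(nat_lit 0), (nat_lit 4), (nat_lit 76), (nat_lit 0), (nat_lit 0)⟩)
 (.leaf ⟨(nat_lit 0), (nat_lit 4), (nat_lit 77), (nat_lit 0), (nat_lit 0)⟩)))
 (.node (nat_lit 71) (.node (nat_lit 70) (.leaf ⟨(nat_lit 1), (nat_lit 3), (nat_lit 78), (nat_lit 5), (nat_lit 0)⟩)
 (.leaf ⟨(nat_lit 0), (nat_lit 5), (nat_lit 79), (nat_lit 0), (nat_lit 0)⟩))
 (.node (nat_lit 72) (.leaf ⟨(nat_lit 0), (nat_lit 5), (nat_lit 80), (nat_lit 0), (nat_lit 0)⟩)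
 (.leaf ⟨(nat_lit 0), (nat_lit 5), (nat_lit 81), (nat_lit 0), (nat_lit 0)⟩))))
 (.node (nat_lit 77) (.node (nat_lit 75) (.node (nat_lit 74) (.leaf ⟨(nat_lit 0), (nat_lit 5), (nat_lit 82), (nat_lit 0), (nat_lit 0)⟩)
 (.leaf ⟨(nat_lit 1), (nat_lit 5), (nat_lit 83), (nat_lit 3), (nat_lit 84)⟩))
 (.node (nat_lit 76) (.leaf ⟨(nat_lit 0), (nat_lit 5), (nat_lit 85), (nat_lit 0), (nat_lit 0)⟩)
 (.leaf ⟨(nat_lit 0), (nat_lit 5), (nat_lit 86), (nat_lit 0), (nat_lit 0)⟩)))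
 (.node (nat_lit 79) (.node (nat_lit 78) (.leaf ⟨(nat_lit 0), (nat_lit 5), (nat_lit 87), (nat_lit 0), (nat_lit 0)⟩)
 (.leaf ⟨(nat_lit 0), (nat_lit 5), (nat_lit 88), (nat_lit 0), (nat_lit 0)⟩))
 (.node (nat_lit 80) (.leaf ⟨(nat_lit 0), (nat_lit 5), (nat_lit 89), (nat_lit 0), (nat_lit 0)⟩)
 (.leaf ⟨(nat_lit 0), (nat_lit 5), (nat_lit 90), (nat_lit 0), (nat_lit 0)⟩)))))
 (.node (nat_lit 89) (.node (nat_lit 85) (.node (nat_lit 83) (.node (nat_lit 82) (.leaf ⟨(nat_lit 1), (nat_lit 3), (nat_lit 91), (nat_lit 6), (nat_lit 0)⟩)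
 (.leaf ⟨(nat_lit 0), (nat_lit 6), (nat_lit 92), (nat_lit 0), (nat_lit 0)⟩))
 (.node (nat_lit 84) (.leaf ⟨(nat_lit 0), (nat_lit 6), (nat_lit 93), (nat_lit 0), (nat_lit 0)⟩)
 (.leaf ⟨(nat_lit 0), (nat_lit 6), (nat_lit 94), (nat_lit 0), (nat_lit 0)⟩)))
 (.node (nat_lit 87) (.node (nat_lit 86) (.leaf ⟨(nat_lit 0), (nat_lit 6), (nat_lit 95), (nat_lit 0), (nat_lit 0)⟩)
 (.leaf ⟨(nat_lit 1), (nat_lit 6), (nat_lit 96), (nat_lit 3), (nat_lit 97)⟩))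
 (.node (nat_lit 88) (.leaf ⟨(nat_lit 0), (nat_lit 6), (nat_lit 98), (nat_lit 0), (nat_lit 0)⟩)
 (.leaf ⟨(nat_lit 0), (nat_lit 6), (nat_lit 99), (nat_lit 0), (nat_lit 0)⟩))))
 (.node (nat_lit 93) (.node (nat_lit 91) (.node (nat_lit 90) (.leaf ⟨(nat_lit 0), (nat_lit 6), (nat_lit 100), (nat_lit 0), (nat_lit 0)⟩)
 (.leaf ⟨(nat_lit 0), (nat_lit 6), (nat_lit 101), (nat_lit 0), (nat_lit 0)⟩))
 (.node (nat_lit 92) (.leaf ⟨(nat_lit 0), (nat_lit 6), (nat_lit 102), (nat_lit 0), (nat_lit 0)⟩)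
 (.leaf ⟨(nat_lit 0), (nat_lit 6), (nat_lit 103), (nat_lit 0), (nat_lit 0)⟩)))
 (.node (nat_lit 95) (.node (nat_lit 94) (.leaf ⟨(nat_lit 1), (nat_lit 1), (nat_lit 104), (nat_lit 0), (nat_lit 105)⟩)
 (.leaf ⟨(nat_lit 0), (nat_lit 0), (nat_lit 106), (nat_lit 0), (nat_lit 0)⟩))
 (.node (nat_lit 96) (.leaf ⟨(nat_lit 0), (nat_lit 0), (nat_lit 107), (nat_lit 0), (nat_lit 0)⟩)
 (.leaf ⟨(nat_lit 0), (nat_lit 0), (nat_lit 108), (nat_lit 0), (nat_lit 0)⟩))))))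
 (.node (nat_lit 113) (.node (nat_lit 105) (.node (nat_lit 101) (.node (nat_lit 99) (.node (nat_lit 98) (.leaf ⟨(nat_lit 0), (nat_lit 0), (nat_lit 109), (nat_lit 0), (nat_lit 0)⟩)
 (.leaf ⟨(nat_lit 0), (nat_lit 0), (nat_lit 110), (nat_lit 0), (nat_lit 0)⟩))
 (.node (nat_lit 100) (.leaf ⟨(nat_lit 0), (nat_lit 1), (nat_lit 111), (nat_lit 0), (nat_lit 0)⟩)
 (.leaf ⟨(nat_lit 0), (nat_lit 1), (nat_lit 112), (nat_lit 0), (nat_lit 0)⟩)))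
 (.node (nat_lit 103) (.node (nat_lit 102) (.leaf ⟨(nat_lit 0), (nat_lit 1), (nat_lit 113), (nat_lit 0), (nat_lit 0)⟩)
 (.leaf ⟨(nat_lit 0), (nat_lit 1), (nat_lit 114), (nat_lit 0), (nat_lit 0)⟩))
 (.node (nat_lit 104) (.leaf ⟨(nat_lit 0), (nat_lit 1), (nat_lit 115), (nat_lit 0), (nat_lit 0)⟩)
 (.leaf ⟨(nat_lit 0), (nat_lit 2), (nat_lit 116), (nat_lit 0), (nat_lit 0)⟩))))
 (.node (nat_lit 109) (.node (nat_lit 107) (.node (nat_lit 106) (.leaf ⟨(nat_lit 0), (nat_lit 2), (nat_lit 117), (nat_lit 0), (nat_lit 0)⟩)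
 (.leaf ⟨(nat_lit 0), (nat_lit 2), (nat_lit 118), (nat_lit 0), (nat_lit 0)⟩))
 (.node (nat_lit 108) (.leaf ⟨(nat_lit 0), (nat_lit 2), (nat_lit 119), (nat_lit 0), (nat_lit 0)⟩)
 (.leaf ⟨(nat_lit 0), (nat_lit 2), (nat_lit 120), (nat_lit 0), (nat_lit 0)⟩)))
 (.node (nat_lit 111) (.node (nat_lit 110) (.leaf ⟨(nat_lit 0), (nat_lit 2), (nat_lit 121), (nat_lit 0), (nat_lit 0)⟩)
 (.leaf ⟨(nat_lit 0), (nat_lit 3), (nat_lit 122), (nat_lit 0), (nat_lit 0)⟩))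
 (.node (nat_lit 112) (.leaf ⟨(nat_lit 0), (nat_lit 3), (nat_lit 123), (nat_lit 0), (nat_lit 0)⟩)
 (.leaf ⟨(nat_lit 0), (nat_lit 3), (nat_lit 124), (nat_lit 0), (nat_lit 0)⟩)))))
 (.node (nat_lit 121) (.node (nat_lit 117) (.node (nat_lit 115) (.node (nat_lit 114) (.leaf ⟨(nat_lit 0), (nat_lit 3), (nat_lit 125), (nat_lit 0), (nat_lit 0)⟩)
 (.leaf ⟨(nat_lit 0), (nat_lit 3), (nat_lit 126), (nat_lit 0), (nat_lit 0)⟩))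
 (.node (nat_lit 116) (.leaf ⟨(nat_lit 0), (nat_lit 4), (nat_lit 127), (nat_lit 0), (nat_lit 0)⟩)
 (.leaf ⟨(nat_lit 0), (nat_lit 4), (nat_lit 128), (nat_lit 0), (nat_lit 0)⟩)))
 (.node (nat_lit 119) (.node (nat_lit 118) (.leaf ⟨(nat_lit 0), (nat_lit 4), (nat_lit 129), (nat_lit 0), (nat_lit 0)⟩)
 (.leaf ⟨(nat_lit 0), (nat_lit 4), (nat_lit 130), (nat_lit 0), (nat_lit 0)⟩))
 (.node (nat_lit 120) (.leaf ⟨(nat_lit 0), (nat_lit 4), (nat_lit 131), (nat_lit 0), (nat_lit 0)⟩)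
 (.leaf ⟨(nat_lit 0), (nat_lit 5), (nat_lit 132), (nat_lit 0), (nat_lit 0)⟩))))
 (.node (nat_lit 125) (.node (nat_lit 123) (.node (nat_lit 122) (.leaf ⟨(nat_lit 0), (nat_lit 5), (nat_lit 133), (nat_lit 0), (nat_lit 0)⟩)
 (.leaf ⟨(nat_lit 0), (nat_lit 5), (nat_lit 134), (nat_lit 0), (nat_lit 0)⟩))
 (.node (nat_lit 124) (.leaf ⟨(nat_lit 0), (nat_lit 5), (nat_lit 135), (nat_lit 0), (nat_lit 0)⟩)
 (.leaf ⟨(nat_lit 0), (nat_lit 5), (nat_lit 136), (nat_lit 0), (nat_lit 0)⟩)))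
 (.node (nat_lit 127) (.node (nat_lit 126) (.leaf ⟨(nat_lit 0), (nat_lit 6), (nat_lit 137), (nat_lit 0), (nat_lit 0)⟩)
 (.leaf ⟨(nat_lit 0), (nat_lit 6), (nat_lit 138), (nat_lit 0), (nat_lit 0)⟩))
 (.node (nat_lit 128) (.leaf ⟨(nat_lit 0), (nat_lit 6), (nat_lit 139), (nat_lit 0), (nat_lit 0)⟩)
 (.node (nat_lit 129) (.leaf ⟨(nat_lit 0), (nat_lit 6), (nat_lit 140), (nat_lit 0), (nat_lit 0)⟩)
 (.leaf ⟨(nat_lit 0), (nat_lit 6), (nat_lit 141), (nat_lit 0), (nat_lit 0)⟩)))))))))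

def dcP : Ctx := ⟨dcPE, dcPF, [(nat_lit 0, nat_lit 0), (nat_lit 0, nat_lit 11), (nat_lit 1, nat_lit 24), (nat_lit 1, nat_lit 37), (nat_lit 1, nat_lit 54), (nat_lit 3, nat_lit 78), (nat_lit 3, nat_lit 91)], nat_lit 87960930234368, false⟩

def dcPs : El := ⟨[nat_lit 0x9095503add61c232ba984419f44d5a598820], [nat_lit 77824, nat_lit 81920, nat_lit 86016, nat_lit 90112, nat_lit 94208, nat_lit 178176, nat_lit 173056, nat_lit 168448, nat_lit 164096, nat_lit 159872, nat_lit 158272, nat_lit 147968, nat_lit 146560, nat_lit 140968, nat_lit 136196, nat_lit 131957, nat_lit 64, nat_lit 4160, nat_lit 8256, nat_lit 12864, nat_lit 16416, nat_lit 23296, nat_lit 30720, nat_lit 33280, nat_lit 43008, nat_lit 41891, nat_lit 36928, nat_lit 32864, nat_lit 28781, nat_lit 20628, nat_lit 16425, nat_lit 12295]⟩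

def dcPb : List (El × El) := [(bP, ⟨[nat_lit 0xf000f0b5e959ca306b1ee52d09214c718820], [nat_lit 98304, nat_lit 106496, nat_lit 178176, nat_lit 169984, nat_lit 160384, nat_lit 156352, nat_lit 151584, nat_lit 148032, nat_lit 146152, nat_lit 142952, nat_lit 138992, nat_lit 131191, nat_lit 19584, nat_lit 24256, nat_lit 30976, nat_lit 35840, nat_lit 43008, nat_lit 41344, nat_lit 33862, nat_lit 28998, nat_lit 20483, nat_lit 16399]⟩)]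

def dxP : D2.Cx (El × El) := ⟨dcP, D2.thG (nat_lit 87960930234368) gP, [], [dcPs], lmap (fun b => ([dcPs, b.1], [b.1], [b.1, b.2])) dcPb⟩

def dcPgi : List (List ℕ) := [[nat_lit 94, nat_lit 95, nat_lit 96, nat_lit 97, nat_lit 98],
  [nat_lit 99, nat_lit 100, nat_lit 101, nat_lit 102, nat_lit 103],
  [nat_lit 104, nat_lit 105, nat_lit 106, nat_lit 107, nat_lit 108, nat_lit 109],
  [nat_lit 110, nat_lit 111, nat_lit 112, nat_lit 113, nat_lit 114],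
  [nat_lit 115, nat_lit 116, nat_lit 117, nat_lit 118, nat_lit 119],
  [nat_lit 120, nat_lit 121, nat_lit 122, nat_lit 123, nat_lit 124],
  [nat_lit 125, nat_lit 126, nat_lit 127, nat_lit 128, nat_lit 129]]

def dcPri : List (List ℕ) := [[nat_lit 10],
  [nat_lit 93, nat_lit 49, nat_lit 21, nat_lit 34, nat_lit 22],
  [nat_lit 27],
  [nat_lit 41, nat_lit 42, nat_lit 59, nat_lit 81, nat_lit 69],
  [nat_lit 60, nat_lit 61, nat_lit 62],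
  [nat_lit 74],
  [nat_lit 86]]

theorem dcP_out : allFrom (outB dcP (nat_lit 130) gensP repsP dcPgi dcPri) 0 7 = true := by
  decide +kernel

end

end CF.Mon
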