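import Cfsg.Agent.Mon.Dc2
import Cfsg.Agent.Mon.NdP

set_option autoImplicit false
set_option maxRecDepth 100000

namespace CF.Mon

open CF.Comp

noncomputable section

def dcPE0 : BT El := (.node (nat_lit 4) (.node (nat_lit 2) (.node (nat_lit 1) (.leaf ⟨[], []⟩)
 (.leaf ⟨[nat_lit 0xe7b21291da015d0182a91aa5ec219761cdc5, nat_lit 0x4e42db045523c1b45dae20a0c464ea51bdc9, nat_lit 0xd887e18369654d0f1c42c224155dc4733a45, nat_lit 0x841ddd434b552c736484ea3d26244e085ec1], [nat_lit 65536, nat_lit 69632, nat_lit 73728, nat_lit 81920, nat_lit 86016, nat_lit 90112, nat_lit 94208, nat_lit 102400, nat_lit 106496, nat_lit 178176, nat_lit 174080, nat_lit 171520, nat_lit 165632, nat_lit 160384, nat_lit 158976, nat_lit 155488, nat_lit 145144, nat_lit 141032, nat_lit 138962, nat_lit 133208, nat_lit 3814, nat_lit 4100, nat_lit 12000, nat_lit 12672, nat_lit 18976, nat_lit 22208, nat_lit 27648, nat_lit 43008, nat_lit 45696, nat_lit 41083, nat_lit 37063, nat_lit 32967, nat_lit 29031, nat_lit 24839,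 nat_lit 20490, nat_lit 17422, nat_lit 12325, nat_lit 8195, nat_lit 4100, nat_lit 438282, nat_lit 430088, nat_lit 421894, nat_lit 413700, nat_lit 405504, nat_lit 164864, nat_lit 162560, nat_lit 151680, nat_lit 149088, nat_lit 143488, nat_lit 132896, nat_lit 8193, nat_lit 4097]⟩))
 (.node (nat_lit 3) (.leaf ⟨[nat_lit 0xcc0063a80b30a5a2649518107759ccf75116, nat_lit 0x1ee27875a0b1c4f2a4d8901ab77902d4144a, nat_lit 0x3399f04425724c2fa8c4b358ea6d1892b811, nat_lit 0xc60cfa34a006a275385eeb262c50cab152e4], [nat_lit 77824, nat_lit 81920, nat_lit 90112, nat_lit 98304, nat_lit 102400, nat_lit 106496, nat_lit 174080, nat_lit 168448, nat_lit 164864, nat_lit 160768, nat_lit 159168, nat_lit 155296, nat_lit 150784, nat_lit 145008, nat_lit 142744, nat_lit 135246, nat_lit 134357, nat_lit 3950, nat_lit 4100, nat_lit 12136, nat_lit 14464, nat_lit 17952, nat_lit 20992, nat_lit 27904, nat_lit 30464, nat_lit 35328, nat_lit 37888, nat_lit 43008, nat_lit 45555, nat_lit 41066, nat_lit 37354, nat_lit 33376,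 nat_lit 28730, nat_lit 24625, nat_lit 20571, nat_lit 16460, nat_lit 12311, nat_lit 8195, nat_lit 4100, nat_lit 438282, nat_lit 430088, nat_lit 421894, nat_lit 413700, nat_lit 405504, nat_lit 171008, nat_lit 164864, nat_lit 163328, nat_lit 156544, nat_lit 155264, nat_lit 150848, nat_lit 145712, nat_lit 134720, nat_lit 8193, nat_lit 4097, nat_lit 327680]⟩)
 (.leaf ⟨[nat_lit 0x27bb44bbaaf10253519278c061a36cc5a085, nat_lit 0xe2d8e874222ac94624d770b4e5a59e060d28, nat_lit 0x77828b359302d5536a16390191110ee0bef4, nat_lit 0x878284619eb3aa32226d5a020dbb83328d02], [nat_lit 81920, nat_lit 98304, nat_lit 106496, nat_lit 178176, nat_lit 173056, nat_lit 168448, nat_lit 164096, nat_lit 160384, nat_lit 151584, nat_lit 147472, nat_lit 146392, nat_lit 141428, nat_lit 137852, nat_lit 131107, nat_lit 3944, nat_lit 8040, nat_lit 12136, nat_lit 16320, nat_lit 20384, nat_lit 20672, nat_lit 30976, nat_lit 34816, nat_lit 37888, nat_lit 45666, nat_lit 41768, nat_lit 38278, nat_lit 32892, nat_lit 29202,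 nat_lit 24596, nat_lit 20506, nat_lit 16398, nat_lit 12308, nat_lit 8193, nat_lit 4097, nat_lit 438282, nat_lit 430088, nat_lit 421894, nat_lit 413700, nat_lit 405504, nat_lit 168960, nat_lit 164864, nat_lit 162816, nat_lit 158080, nat_lit 154880, nat_lit 151232, nat_lit 145648, nat_lit 132784, nat_lit 8193, nat_lit 4097, nat_lit 327680]⟩)))
 (.node (nat_lit 6) (.node (nat_lit 5) (.leaf ⟨[nat_lit 0xeeb7b11c5a9a208a954b0619f75b83315807, nat_lit 0x17182474ad4621516c0c55d44498de1482e7, nat_lit 0x217db243c869ae2d908f5551971852e802c5, nat_lit 0xa303c1b4265a9849c1e5122b1a2640758f7], [nat_lit 65536, nat_lit 69632, nat_lit 73728, nat_lit 77824, nat_lit 81920, nat_lit 86016, nat_lit 90112, nat_lit 98304, nat_lit 169472, nat_lit 160384, nat_lit 156352, nat_lit 151584, nat_lit 148032, nat_lit 144880, nat_lit 139320, nat_lit 136390, nat_lit 133360, nat_lit 3862, nat_lit 4100, nat_lit 12048, nat_lit 15024, nat_lit 17088, nat_lit 21312, nat_lit 27264, nat_lit 29696, nat_lit 33792, nat_lit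 39936, nat_lit 43008, nat_lit 45741, nat_lit 41173, nat_lit 37328, nat_lit 33282, nat_lit 28933, nat_lit 24714, nat_lit 20494, nat_lit 16389, nat_lit 12324, nat_lit 8195, nat_lit 4100, nat_lit 2, nat_lit 438282, nat_lit 430088, nat_lit 421894, nat_lit 413700, nat_lit 405504, nat_lit 171008, nat_lit 165376, nat_lit 163072, nat_lit 158080, nat_lit 154432, nat_lit 149792, nat_lit 144400, nat_lit 134152, nat_lit 8193, nat_lit 4097]⟩)
 (.leaf ⟨[nat_lit 0xaf6cf611c0873d25b508abc9a164c755c0d1, nat_lit 0xf95f65a2c0d3a133619f070d5614481a96f2, nat_lit 0x27781e8d55431e6892c2325c0eb08ad83d2c, nat_lit 0x305c9fb2628a40a708e5713cca5808e9b2ad], [nat_lit 86016, nat_lit 98304, nat_lit 106496, nat_lit 178176, nat_lit 173056, nat_lit 169472, nat_lit 165888, nat_lit 162304, nat_lit 156992, nat_lit 151968, nat_lit 147840, nat_lit 143688, nat_lit 141544, nat_lit 137926, nat_lit 132605, nat_lit 2070, nat_lit 4100, nat_lit 10256, nat_lit 14816, nat_lit 21376, nat_lit 25984, nat_lit 33792, nat_lit 39936,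 nat_lit 45458, nat_lit 41704, nat_lit 38110, nat_lit 32856, nat_lit 29823, nat_lit 24842, nat_lit 21014, nat_lit 16392, nat_lit 12304, nat_lit 8195, nat_lit 4100, nat_lit 438282, nat_lit 430088, nat_lit 421894, nat_lit 413700, nat_lit 405504, nat_lit 169984, nat_lit 166400, nat_lit 162304, nat_lit 158848, nat_lit 152000, nat_lit 147904, nat_lit 144064, nat_lit 133848, nat_lit 8193, nat_lit 4097, nat_lit 327680]⟩))
 (.node (nat_lit 7) (.leaf ⟨[nat_lit 0xf0696c4a890bd0f3335f2144a00d90c1baab, nat_lit 0xac95c3b49e30ba9383417a8991494e652d04, nat_lit 0x21e4213d5d62b56994d8680554bc50278c80], [nat_lit 65536, nat_lit 69632, nat_lit 73728, nat_lit 77824, nat_lit 81920, nat_lit 94208, nat_lit 98304, nat_lit 102400, nat_lit 173056, nat_lit 171008, nat_lit 165888, nat_lit 162048, nat_lit 155712, nat_lit 152736, nat_lit 149696, nat_lit 146720, nat_lit 142428, nat_lit 137044, nat_lit 134571, nat_lit 386, nat_lit 4100, nat_lit 10776, nat_lit 12304, nat_lit 17664, nat_lit 20928, nat_lit 25984,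 nat_lit 28928, nat_lit 34304, nat_lit 39936, nat_lit 43008, nat_lit 46467, nat_lit 43980, nat_lit 38309, nat_lit 32872, nat_lit 28738, nat_lit 24756, nat_lit 20555, nat_lit 16418, nat_lit 12307, nat_lit 8203, nat_lit 4100, nat_lit 2, nat_lit 434183, nat_lit 417797, nat_lit 405504, nat_lit 144608, nat_lit 132104, nat_lit 46176, nat_lit 36936, nat_lit 32808, nat_lit 16385, nat_lit 8193, nat_lit 4097, nat_lit 327680]⟩)
 (.leaf ⟨[nat_lit 0x35a0064dc3133802959032ce0c69eb422dea, nat_lit 0xc50a30bd1a655470089853cdf28d9002392b, nat_lit 0x717728a1a0763af169028b4c6092ea9788aa, nat_lit 0x4d8844b810b4c9e6ace2122a0d63a82196c7], [nat_lit 65536, nat_lit 69632, nat_lit 73728, nat_lit 106496, nat_lit 178176, nat_lit 173056, nat_lit 167680, nat_lit 162816, nat_lit 157376, nat_lit 155328, nat_lit 149264, nat_lit 146384, nat_lit 142984, nat_lit 136918, nat_lit 133745, nat_lit 2542, nat_lit 4100, nat_lit 10728, nat_lit 15312, nat_lit 18816, nat_lit 22848, nat_lit 26880, nat_lit 31744, nat_lit 36352,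 nat_lit 37888, nat_lit 43008, nat_lit 46745, nat_lit 41170, nat_lit 37055, nat_lit 33009, nat_lit 29006, nat_lit 24624, nat_lit 20558, nat_lit 16398, nat_lit 12292, nat_lit 8195, nat_lit 4100, nat_lit 2, nat_lit 438282, nat_lit 430088, nat_lit 421894, nat_lit 413700, nat_lit 405504, nat_lit 168960, nat_lit 164864, nat_lit 161024, nat_lit 156672, nat_lit 151680, nat_lit 150176, nat_lit 143632, nat_lit 132784, nat_lit 8193, nat_lit 4097]⟩))))

theorem dcPE0_ok : dcPE0.all (elB (nat_lit 87960930234368)) = true := by decide +kernel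

def dcPE1 : BT El := (.node (nat_lit 12) (.node (nat_lit 10) (.node (nat_lit 9) (.leaf ⟨[nat_lit 0x881417bc2c8251c3548c704d2263e2ba84ad, nat_lit 0x2b17b8bb9689b6d2216af30d51a098080527, nat_lit 0xbd78bb088aa1c2ac34e2b951c049ed72350f, nat_lit 0x6a6639559ac2866e9557023e20ba06249e86], [nat_lit 77824, nat_lit 102400, nat_lit 178176, nat_lit 175104, nat_lit 169984, nat_lit 166400, nat_lit 160512, nat_lit 159360, nat_lit 155104, nat_lit 149104, nat_lit 145296, nat_lit 140108, nat_lit 138234, nat_lit 133554, nat_lit 488, nat_lit 4584, nat_lit 8680, nat_lit 12864, nat_lit 18432, nat_lit 24448, nat_lit 26496, nat_lit 31488, nat_lit 39936, nat_lit 45419, nat_lit 41555, nat_lit 37992, nat_lit 32848, nat_lit 28779, nat_lit 24731, nat_lit 20504, nat_lit 16416, nat_lit 12290, nat_lit 8193, nat_lit 4097, nat_lit 438282, nat_lit 430088, nat_lit 421894, nat_lit 413700, nat_lit 405504, nat_lit 168960, nat_lit 156672, nat_lit 147520, nat_lit 147152, nat_lit 132896, nat_lit 8193, nat_lit 4097]⟩)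
 (.leaf ⟨[nat_lit 0xa3cf059244119eae03ec4341055322dbae74, nat_lit 0x778d8432a2114cab9208019d306ba8fab2d7, nat_lit 0x5aac3aa919792016525a55d2018bcf370c46], [nat_lit 65536, nat_lit 69632, nat_lit 73728, nat_lit 77824, nat_lit 90112, nat_lit 94208, nat_lit 110592, nat_lit 178176, nat_lit 175104, nat_lit 169984, nat_lit 164096, nat_lit 162944, nat_lit 158080, nat_lit 154432, nat_lit 149264, nat_lit 144768, nat_lit 140604, nat_lit 139078, nat_lit 133477, nat_lit 1492, nat_lit 5588, nat_lit 8896, nat_lit 13408, nat_lit 17856, nat_lit 24000, nat_lit 25600, nat_lit 28928, nat_lit 36352, nat_lit 37888, nat_lit 43008, nat_lit 46093, nat_lit 41631, nat_lit 38215, nat_lit 32775, nat_lit 29264, nat_lit 24630, nat_lit 20505, nat_lit 16398, nat_lit 12305, nat_lit 8202, nat_lit 4097, nat_lit 2, nat_lit 434182, nat_lit 413700, nat_lit 405504, nat_lit 156672, nat_lit 152576, nat_lit 143456, nat_lit 131096, nat_lit 45112, nat_lit 36921, nat_lit 32769, nat_lit 28729, nat_lit 8193, nat_lit 4097]⟩))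
 (.node (nat_lit 11) (.leaf ⟨[nat_lit 0x8122e13d58e006e5958d34128983c4b68e2a, nat_lit 0xa95f5aa1c305d2d605769c89153e8231607, nat_lit 0x82e771b94245b4f3b306f8194eac452a0109], [nat_lit 65536, nat_lit 69632, nat_lit 73728, nat_lit 86016, nat_lit 110592, nat_lit 178176, nat_lit 175104, nat_lit 170496, nat_lit 166656, nat_lit 162304, nat_lit 159360, nat_lit 155104, nat_lit 148048, nat_lit 145696, nat_lit 141756, nat_lit 137060, nat_lit 132823, nat_lit 1668, nat_lit 5764, nat_lit 8744, nat_lit 16272, nat_lit 18208, nat_lit 23936, nat_lit 24832, nat_lit 31232, nat_lit 33280, nat_lit 38912, nat_lit 43008, nat_lit 46941, nat_lit 41348, nat_lit 36895, nat_lit 33811, nat_lit 28740, nat_lit 24743, nat_lit 20487, nat_lit 16643, nat_lit 12804, nat_lit 8209, nat_lit 4097, nat_lit 2, nat_lit 421894, nat_lit 413700, nat_lit 405504, nat_lit 151616, nat_lit 131232, nat_lit 45185, nat_lit 41000, nat_lit 36936, nat_lit 32872, nat_lit 8193, nat_lit 4097, nat_lit 327680]⟩)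
 (.leaf ndPr0_0)))
 (.node (nat_lit 14) (.node (nat_lit 13) (.leaf ⟨[nat_lit 0x824d487b583822a492a85b2cf33453770820], [nat_lit 65536, nat_lit 69632, nat_lit 73728, nat_lit 81920, nat_lit 106496, nat_lit 178176, nat_lit 168448, nat_lit 166912, nat_lit 158528, nat_lit 155328, nat_lit 148592, nat_lit 146416, nat_lit 142716, nat_lit 136198, nat_lit 135155, nat_lit 256, nat_lit 4352, nat_lit 8448, nat_lit 16048, nat_lit 17760, nat_lit 24192, nat_lit 27264, nat_lit 32512, nat_lit 33792, nat_lit 38912, nat_lit 41728, nat_lit 38371, nat_lit 33951, nat_lit 29017, nat_lit 24624, nat_lit 20552, nat_lit 16389, nat_lit 12324]⟩)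
 (.leaf ⟨[nat_lit 0x412bb7b3e4943a15198e5a45ab9aaec20820], [nat_lit 65536, nat_lit 69632, nat_lit 73728, nat_lit 77824, nat_lit 86016, nat_lit 90112, nat_lit 102400, nat_lit 106496, nat_lit 178176, nat_lit 169472, nat_lit 166144, nat_lit 162304, nat_lit 158528, nat_lit 154912, nat_lit 149216, nat_lit 146336, nat_lit 139788, nat_lit 138050, nat_lit 133441, nat_lit 4020, nat_lit 8116, nat_lit 10256, nat_lit 13968, nat_lit 20384, nat_lit 23104, nat_lit 24832, nat_lit 29440, nat_lit 33280, nat_lit 37888, nat_lit 41239, nat_lit 37028, nat_lit 33885, nat_lit 29185, nat_lit 24583, nat_lit 20502, nat_lit 16398, nat_lit 12306, nat_lit 8200]⟩))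
 (.node (nat_lit 15) (.leaf ⟨[nat_lit 0xaa6f6f645051d6f43cd6e835469112fb0820], [nat_lit 77824, nat_lit 86016, nat_lit 94208, nat_lit 98304, nat_lit 102400, nat_lit 106496, nat_lit 178176, nat_lit 173056, nat_lit 170496, nat_lit 166144, nat_lit 162560, nat_lit 157056, nat_lit 152736, nat_lit 148976, nat_lit 144896, nat_lit 139268, nat_lit 138620, nat_lit 131323, nat_lit 2, nat_lit 7904, nat_lit 12000, nat_lit 12976, nat_lit 17184, nat_lit 22080, nat_lit 26240, nat_lit 31488, nat_lit 34304, nat_lit 39936, nat_lit 43008, nat_lit 41297, nat_lit 37238, nat_lit 32929, nat_lit 28775, nat_lit 24577, nat_lit 20481, nat_lit 16393, nat_lit 12290, nat_lit 8193, nat_lit 4097, nat_lit 2]⟩)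
 (.leaf ⟨[nat_lit 0xeeed78aae46444b6a24f01b9af54ee460820], [nat_lit 86016, nat_lit 102400, nat_lit 178176, nat_lit 174080, nat_lit 166144, nat_lit 160384, nat_lit 155840, nat_lit 154336, nat_lit 148560, nat_lit 147400, nat_lit 142900, nat_lit 136204, nat_lit 131434, nat_lit 2560, nat_lit 6656, nat_lit 10752, nat_lit 13104, nat_lit 16896, nat_lit 23104, nat_lit 25984, nat_lit 32512, nat_lit 33280, nat_lit 39936, nat_lit 43008, nat_lit 41791, nat_lit 37248, nat_lit 33368, nat_lit 29037, nat_lit 24849, nat_lit 20629, nat_lit 12294, nat_lit 327680]⟩))))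

theorem dcPE1_ok : dcPE1.all (elB (nat_lit 87960930234368)) = true := by decide +kernel

def dcPE2 : BT El := (.node (nat_lit 20) (.node (nat_lit 18) (.node (nat_lit 17) (.leaf ⟨[nat_lit 0x96330635c3bacb0a20d33aa359592478820], [nat_lit 86016, nat_lit 94208, nat_lit 98304, nat_lit 178176, nat_lit 175104, nat_lit 170496, nat_lit 164096, nat_lit 163584, nat_lit 158016, nat_lit 152320, nat_lit 151344, nat_lit 145264, nat_lit 140980, nat_lit 137062, nat_lit 131911, nat_lit 986, nat_lit 4100, nat_lit 10088, nat_lit 13264, nat_lit 16448, nat_lit 22336, nat_lit 27520, nat_lit 29952, nat_lit 34816, nat_lit 38912, nat_lit 43008, nat_lit 41513, nat_lit 37174, nat_lit 33321, nat_lit 28788, nat_lit 24630, nat_lit 20494, nat_lit 16448, nat_lit 12294, nat_lit 8200, nat_lit 4100, nat_lit 327680]⟩)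
 (.leaf ⟨[nat_lit 0xee1d774d66d8b2c85be1753a543906628820], [nat_lit 65536, nat_lit 69632, nat_lit 73728, nat_lit 77824, nat_lit 86016, nat_lit 90112, nat_lit 94208, nat_lit 106496, nat_lit 174080, nat_lit 171520, nat_lit 165376, nat_lit 163712, nat_lit 156736, nat_lit 154944, nat_lit 148944, nat_lit 146952, nat_lit 141188, nat_lit 138474, nat_lit 132441, nat_lit 318, nat_lit 4100, nat_lit 8504, nat_lit 14768, nat_lit 17472, nat_lit 22976, nat_lit 24704, nat_lit 31744, nat_lit 35840, nat_lit 37888, nat_lit 43008, nat_lit 41050, nat_lit 37129, nat_lit 33002, nat_lit 28722, nat_lit 24864, nat_lit 20615, nat_lit 16431, nat_lit 12290, nat_lit 8194, nat_lit 4100, nat_lit 327680]⟩))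
 (.node (nat_lit 19) (.leaf ⟨[nat_lit 0xf66c3fa587792ccc3be2a4966d2220ea8820], [nat_lit 81920, nat_lit 86016, nat_lit 90112, nat_lit 94208, nat_lit 98304, nat_lit 102400, nat_lit 106496, nat_lit 174080, nat_lit 170496, nat_lit 165888, nat_lit 162560, nat_lit 156160, nat_lit 152480, nat_lit 149408, nat_lit 145136, nat_lit 140124, nat_lit 135538, nat_lit 131855, nat_lit 986, nat_lit 4100, nat_lit 9528, nat_lit 13264, nat_lit 18336, nat_lit 21760, nat_lit 25088, nat_lit 29440, nat_lit 34304, nat_lit 37888, nat_lit 43008, nat_lit 41446, nat_lit 37094, nat_lit 33939, nat_lit 28710, nat_lit 24889, nat_lit 20509, nat_lit 16394, nat_lit 12295, nat_lit 8201, nat_lit 4100]⟩)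
 (.leaf ⟨[nat_lit 0x530c50ba1b2b3973214c3652098bd5538820], [nat_lit 65536, nat_lit 69632, nat_lit 73728, nat_lit 77824, nat_lit 90112, nat_lit 98304, nat_lit 102400, nat_lit 169472, nat_lit 166656, nat_lit 160000, nat_lit 156160, nat_lit 153632, nat_lit 148976, nat_lit 144368, nat_lit 141136, nat_lit 135762, nat_lit 133666, nat_lit 1972, nat_lit 6068, nat_lit 12000, nat_lit 13088, nat_lit 18336, nat_lit 22208, nat_lit 24960, nat_lit 32512, nat_lit 35840, nat_lit 37888, nat_lit 43008, nat_lit 41724, nat_lit 38182, nat_lit 33468, nat_lit 28743, nat_lit 24764, nat_lit 20500, nat_lit 16391, nat_lit 12291, nat_lit 8211, nat_lit 327680]⟩)))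
 (.node (nat_lit 22) (.node (nat_lit 21) (.leaf ⟨[nat_lit 0xfaa95f959248d4eaa20d32c2eb635c378820], [nat_lit 65536, nat_lit 69632, nat_lit 73728, nat_lit 77824, nat_lit 102400, nat_lit 171520, nat_lit 167424, nat_lit 162944, nat_lit 156544, nat_lit 154624, nat_lit 150304, nat_lit 146560, nat_lit 142088, nat_lit 135746, nat_lit 133665, nat_lit 2, nat_lit 7904, nat_lit 12000, nat_lit 14720, nat_lit 18816, nat_lit 22336, nat_lit 28160, nat_lit 29184, nat_lit 36352, nat_lit 37888, nat_lit 41102, nat_lit 37020, nat_lit 32987, nat_lit 28974, nat_lit 24709, nat_lit 20497, nat_lit 16424, nat_lit 12289, nat_lit 8193, nat_lit 4097, nat_lit 2]⟩)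
 (.leaf ⟨[nat_lit 0x66f6605c0af62a6469d12a56c34ba26b8820], [nat_lit 65536, nat_lit 69632, nat_lit 73728, nat_lit 77824, nat_lit 81920, nat_lit 86016, nat_lit 94208, nat_lit 98304, nat_lit 106496, nat_lit 175104, nat_lit 169472, nat_lit 167424, nat_lit 161152, nat_lit 155776, nat_lit 152768, nat_lit 148720, nat_lit 143592, nat_lit 140048, nat_lit 138454, nat_lit 133979, nat_lit 2, nat_lit 7952, nat_lit 12048, nat_lit 13072, nat_lit 19200, nat_lit 23360, nat_lit 27904, nat_lit 31744, nat_lit 33280, nat_lit 43008, nat_lit 41717, nat_lit 38313, nat_lit 33365, nat_lit 29796, nat_lit 25117, nat_lit 20489, nat_lit 16385, nat_lit 12327, nat_lit 8193, nat_lit 4097, nat_lit 2]⟩))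
 (.node (nat_lit 23) (.leaf ndPr1_2)
 (.leaf ⟨[nat_lit 0x30a39f8a2cc004459a5b585d6f31c64929d4, nat_lit 0x6533f080023ba0cc726c514653251ea6aea7, nat_lit 0x6003c31a841891d634aef854ac9d1a702d09], [nat_lit 77824, nat_lit 102400, nat_lit 168448, nat_lit 165888, nat_lit 162304, nat_lit 155904, nat_lit 152832, nat_lit 147920, nat_lit 146264, nat_lit 139736, nat_lit 137366, nat_lit 131734, nat_lit 2050, nat_lit 4100, nat_lit 10768, nat_lit 14608, nat_lit 19232, nat_lit 22912, nat_lit 25344, nat_lit 31744, nat_lit 36352, nat_lit 37888, nat_lit 46119, nat_lit 43782, nat_lit 38166, nat_lit 33891, nat_lit 28759, nat_lit 24708, nat_lit 20992, nat_lit 16418, nat_lit 12290, nat_lit 8210, nat_lit 4100, nat_lit 425991, nat_lit 413700, nat_lit 405504, nat_lit 160000, nat_lit 151808, nat_lit 147872, nat_lit 143744, nat_lit 131376, nat_lit 45480, nat_lit 41385, nat_lit 37048, nat_lit 24577, nat_lit 8193, nat_lit 4097]⟩))))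

theorem dcPE2_ok : dcPE2.all (elB (nat_lit 87960930234368)) = true := by decide +kernel

def dcPE3 : BT El := (.node (nat_lit 28) (.node (nat_lit 26) (.node (nat_lit 25) (.leaf ndPr1_4)
 (.leaf ⟨[nat_lit 0x59550f6da0665c93ac4ef2ba9242d2350820], [nat_lit 65536, nat_lit 69632, nat_lit 73728, nat_lit 81920, nat_lit 86016, nat_lit 98304, nat_lit 173056, nat_lit 169984, nat_lit 167424, nat_lit 163200, nat_lit 157248, nat_lit 152320, nat_lit 150832, nat_lit 146144, nat_lit 140352, nat_lit 135600, nat_lit 134095, nat_lit 2, nat_lit 4100, nat_lit 11376, nat_lit 16144, nat_lit 17152, nat_lit 23360, nat_lit 28160, nat_lit 30464, nat_lit 35328, nat_lit 41933, nat_lit 38126, nat_lit 33296, nat_lit 28785, nat_lit 24606, nat_lit 20499, nat_lit 16424, nat_lit 12305, nat_lit 8195, nat_lit 4100, nat_lit 2]⟩))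
 (.node (nat_lit 27) (.leaf ⟨[nat_lit 0x33660f231533a1b2b52a349a2e82de5b8820], [nat_lit 77824, nat_lit 81920, nat_lit 98304, nat_lit 102400, nat_lit 173056, nat_lit 171520, nat_lit 164352, nat_lit 160000, nat_lit 157120, nat_lit 154592, nat_lit 149728, nat_lit 145440, nat_lit 141296, nat_lit 136216, nat_lit 133193, nat_lit 2304, nat_lit 6400, nat_lit 10496, nat_lit 16176, nat_lit 19680, nat_lit 21504, nat_lit 27136, nat_lit 28928, nat_lit 34816, nat_lit 37888, nat_lit 41962, nat_lit 37181, nat_lit 32852, nat_lit 28728, nat_lit 24852, nat_lit 20615, nat_lit 16431, nat_lit 12322, nat_lit 327680]⟩)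
 (.leaf ⟨[nat_lit 0x36cfaf1daf42a5b39316689dea43a04a8820], [nat_lit 77824, nat_lit 81920, nat_lit 90112, nat_lit 94208, nat_lit 102400, nat_lit 174080, nat_lit 171520, nat_lit 164608, nat_lit 161920, nat_lit 156288, nat_lit 151840, nat_lit 148976, nat_lit 144832, nat_lit 139800, nat_lit 135776, nat_lit 134184, nat_lit 1478, nat_lit 4100, nat_lit 9664, nat_lit 14688, nat_lit 19904, nat_lit 21952, nat_lit 26240, nat_lit 29952, nat_lit 36352, nat_lit 39936, nat_lit 43008, nat_lit 41654, nat_lit 37069, nat_lit 32791, nat_lit 28674, nat_lit 24619, nat_lit 20482, nat_lit 16386, nat_lit 12356, nat_lit 8194, nat_lit 4100, nat_lit 327680]⟩)))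
 (.node (nat_lit 30) (.node (nat_lit 29) (.leaf ⟨[nat_lit 0x8b21777ccd42c596934f74ac6aab89040820], [nat_lit 65536, nat_lit 69632, nat_lit 73728, nat_lit 81920, nat_lit 90112, nat_lit 98304, nat_lit 178176, nat_lit 175104, nat_lit 169984, nat_lit 164608, nat_lit 160512, nat_lit 159552, nat_lit 152800, nat_lit 150240, nat_lit 145776, nat_lit 142368, nat_lit 138682, nat_lit 133142, nat_lit 2560, nat_lit 6656, nat_lit 10752, nat_lit 12720, nat_lit 16448, nat_lit 20992, nat_lit 26880, nat_lit 30976, nat_lit 34304, nat_lit 37888, nat_lit 41972, nat_lit 38010, nat_lit 33501, nat_lit 29278, nat_lit 24729, nat_lit 16512, nat_lit 12353, nat_lit 327680]⟩)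
 (.leaf ndPr2_0))
 (.node (nat_lit 31) (.leaf ⟨[nat_lit 0x88eb179d106b249285cab1b98daaa2778820], [nat_lit 81920, nat_lit 94208, nat_lit 106496, nat_lit 110592, nat_lit 178176, nat_lit 175104, nat_lit 164096, nat_lit 160128, nat_lit 157120, nat_lit 151776, nat_lit 150016, nat_lit 145248, nat_lit 142168, nat_lit 136258, nat_lit 132429, nat_lit 3526, nat_lit 4100, nat_lit 11712, nat_lit 12960, nat_lit 17952, nat_lit 20992, nat_lit 25984, nat_lit 31744, nat_lit 37888, nat_lit 41847, nat_lit 38149, nat_lit 34042, nat_lit 29007, nat_lit 24578, nat_lit 21008, nat_lit 16395, nat_lit 12290, nat_lit 8194, nat_lit 4100, nat_lit 327680]⟩)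
 (.leaf ⟨[nat_lit 0x7b7b4e8c8f61add004de82b59709854aa924, nat_lit 0xdbb27e85d2088d749542a7308f98ac83b4c5, nat_lit 0x65f9a736c9bc550a9d6504ccf93083a0828], [nat_lit 77824, nat_lit 81920, nat_lit 86016, nat_lit 90112, nat_lit 98304, nat_lit 106496, nat_lit 110592, nat_lit 175104, nat_lit 169472, nat_lit 165120, nat_lit 163200, nat_lit 156672, nat_lit 152096, nat_lit 147680, nat_lit 143880, nat_lit 143084, nat_lit 139208, nat_lit 131129, nat_lit 3694, nat_lit 4100, nat_lit 11880, nat_lit 15040, nat_lit 19712, nat_lit 23680, nat_lit 26880, nat_lit 30208, nat_lit 36352, nat_lit 39936, nat_lit 45827, nat_lit 41080, nat_lit 39211, nat_lit 34958, nat_lit 28675, nat_lit 25612, nat_lit 20561, nat_lit 16463, nat_lit 12306, nat_lit 8195, nat_lit 4100, nat_lit 2, nat_lit 434183, nat_lit 417797, nat_lit 405504, nat_lit 160768, nat_lit 151680, nat_lit 144544, nat_lit 45089, nat_lit 36896, nat_lit 33001, nat_lit 16385, nat_lit 8193, nat_lit 4097]⟩))))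

theorem dcPE3_ok : dcPE3.all (elB (nat_lit 87960930234368)) = true := by decide +kernel

def dcPE4 : BT El := (.node (nat_lit 36) (.node (nat_lit 34) (.node (nat_lit 33) (.leaf ⟨[nat_lit 0x56aa00b34d05a4682d24e89eaf25d9350820], [nat_lit 65536, nat_lit 69632, nat_lit 73728, nat_lit 81920, nat_lit 86016, nat_lit 102400, nat_lit 173056, nat_lit 166656, nat_lit 162176, nat_lit 156160, nat_lit 154848, nat_lit 148336, nat_lit 145752, nat_lit 141836, nat_lit 139248, nat_lit 131295, nat_lit 3526, nat_lit 4100, nat_lit 11712, nat_lit 14480, nat_lit 19136, nat_lit 20928, nat_lit 27776, nat_lit 29952, nat_lit 34816, nat_lit 43008, nat_lit 41909, nat_lit 37018, nat_lit 32826, nat_lit 28712, nat_lit 24578, nat_lit 20618, nat_lit 16395, nat_lit 12308, nat_lit 8194, nat_lit 4100, nat_lit 327680]⟩)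
 (.leaf ⟨[nat_lit 0x228b7771d765119733d148c870ab52598820], [nat_lit 65536, nat_lit 69632, nat_lit 73728, nat_lit 81920, nat_lit 86016, nat_lit 94208, nat_lit 102400, nat_lit 106496, nat_lit 175104, nat_lit 170496, nat_lit 167168, nat_lit 162944, nat_lit 158528, nat_lit 152160, nat_lit 148048, nat_lit 144400, nat_lit 140480, nat_lit 136130, nat_lit 133918, nat_lit 2064, nat_lit 6160, nat_lit 10256, nat_lit 14912, nat_lit 18560, nat_lit 22592, nat_lit 26880, nat_lit 29952, nat_lit 34304, nat_lit 37888, nat_lit 43008, nat_lit 41597, nat_lit 38227, nat_lit 33534, nat_lit 28934, nat_lit 24755, nat_lit 20505, nat_lit 12295, nat_lit 327680]⟩))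
 (.node (nat_lit 35) (.leaf ⟨[nat_lit 0x59a5001c65372095b194dbbcab49e8c80820], [nat_lit 65536, nat_lit 69632, nat_lit 73728, nat_lit 77824, nat_lit 81920, nat_lit 90112, nat_lit 94208, nat_lit 98304, nat_lit 178176, nat_lit 175104, nat_lit 168960, nat_lit 165888, nat_lit 162432, nat_lit 156800, nat_lit 152736, nat_lit 147696, nat_lit 144656, nat_lit 141776, nat_lit 138874, nat_lit 134987, nat_lit 256, nat_lit 4352, nat_lit 8448, nat_lit 12656, nat_lit 19040, nat_lit 24192, nat_lit 24832, nat_lit 32512, nat_lit 36352, nat_lit 39936, nat_lit 41583, nat_lit 38303, nat_lit 33498, nat_lit 28704, nat_lit 24611, nat_lit 20572, nat_lit 16417, nat_lit 12310, nat_lit 327680]⟩)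
 (.leaf ⟨[nat_lit 0x69f99f925e4541a6622255b8f31deb4b0820], [nat_lit 65536, nat_lit 69632, nat_lit 73728, nat_lit 77824, nat_lit 81920, nat_lit 98304, nat_lit 106496, nat_lit 169984, nat_lit 165632, nat_lit 161920, nat_lit 157760, nat_lit 155264, nat_lit 151008, nat_lit 143728, nat_lit 141168, nat_lit 136750, nat_lit 134677, nat_lit 2112, nat_lit 6208, nat_lit 10304, nat_lit 12976, nat_lit 18464, nat_lit 22592, nat_lit 27648, nat_lit 29184, nat_lit 34816, nat_lit 37888, nat_lit 43008, nat_lit 40981, nat_lit 37245, nat_lit 33442, nat_lit 28771, nat_lit 20496, nat_lit 16416, nat_lit 12289, nat_lit 327680]⟩)))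
 (.node (nat_lit 38) (.node (nat_lit 37) (.leaf ⟨[nat_lit 0xc05c90622c580e72591b4a9d4f75cc988820], [nat_lit 65536, nat_lit 69632, nat_lit 73728, nat_lit 86016, nat_lit 90112, nat_lit 94208, nat_lit 178176, nat_lit 159872, nat_lit 157248, nat_lit 152096, nat_lit 147384, nat_lit 140848, nat_lit 135306, nat_lit 131679, nat_lit 8, nat_lit 4104, nat_lit 8200, nat_lit 12800, nat_lit 18848, nat_lit 21952, nat_lit 25088, nat_lit 29696, nat_lit 36352, nat_lit 41949, nat_lit 36943, nat_lit 33917, nat_lit 28968, nat_lit 25095, nat_lit 20744, nat_lit 17411]⟩)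
 (.leaf ndPr1_3))
 (.node (nat_lit 39) (.leaf ⟨[nat_lit 0x2274882ba8a3dda88ce03b112f5d58690820], [nat_lit 77824, nat_lit 86016, nat_lit 90112, nat_lit 102400, nat_lit 106496, nat_lit 169984, nat_lit 166144, nat_lit 162432, nat_lit 157056, nat_lit 151648, nat_lit 150064, nat_lit 143496, nat_lit 143268, nat_lit 137744, nat_lit 131102, nat_lit 2, nat_lit 4100, nat_lit 9328, nat_lit 14640, nat_lit 16480, nat_lit 21312, nat_lit 27648, nat_lit 30464, nat_lit 33792, nat_lit 38912, nat_lit 43008, nat_lit 41650, nat_lit 37978, nat_lit 32875, nat_lit 29297, nat_lit 24888, nat_lit 20482, nat_lit 16387, nat_lit 12418, nat_lit 8195, nat_lit 4100, nat_lit 2, nat_lit 327680]⟩)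
 (.leaf ⟨[nat_lit 0x595aff432253414d3add393d24a8ef4b0820], [nat_lit 65536, nat_lit 69632, nat_lit 73728, nat_lit 77824, nat_lit 81920, nat_lit 86016, nat_lit 94208, nat_lit 173056, nat_lit 168960, nat_lit 165120, nat_lit 162944, nat_lit 159104, nat_lit 153376, nat_lit 148960, nat_lit 147040, nat_lit 142080, nat_lit 135840, nat_lit 131488, nat_lit 2112, nat_lit 6208, nat_lit 10304, nat_lit 12976, nat_lit 17248, nat_lit 20608, nat_lit 26752, nat_lit 30464, nat_lit 34304, nat_lit 38912, nat_lit 41624, nat_lit 38187, nat_lit 33283, nat_lit 28757, nat_lit 24637, nat_lit 20573, nat_lit 16461, nat_lit 12289]⟩))))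

theorem dcPE4_ok : dcPE4.all (elB (nat_lit 87960930234368)) = true := by decide +kernel

def dcPE5 : BT El := (.node (nat_lit 44) (.node (nat_lit 42) (.node (nat_lit 41) (.leaf ⟨[nat_lit 0x48b787bb6487d62a9bacb641341988538820], [nat_lit 86016, nat_lit 94208, nat_lit 106496, nat_lit 168448, nat_lit 167168, nat_lit 161536, nat_lit 158400, nat_lit 155328, nat_lit 150912, nat_lit 146856, nat_lit 139364, nat_lit 137236, nat_lit 134494, nat_lit 2, nat_lit 7904, nat_lit 12000, nat_lit 15504, nat_lit 18304, nat_lit 22464, nat_lit 28416, nat_lit 30208, nat_lit 34304, nat_lit 37888, nat_lit 41761, nat_lit 37888, nat_lit 32961, nat_lit 28721, nat_lit 24881, nat_lit 20481, nat_lit 16449, nat_lit 12292, nat_lit 8193, nat_lit 4097, nat_lit 2, nat_lit 327680]⟩)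
 (.leaf ⟨[nat_lit 0x41d4489c60361aab7168ab112f434f790820], [nat_lit 90112, nat_lit 94208, nat_lit 102400, nat_lit 178176, nat_lit 170496, nat_lit 163072, nat_lit 156864, nat_lit 154784, nat_lit 148928, nat_lit 146104, nat_lit 141836, nat_lit 137286, nat_lit 134496, nat_lit 1024, nat_lit 5120, nat_lit 9216, nat_lit 14336, nat_lit 16480, nat_lit 24448, nat_lit 28416, nat_lit 30464, nat_lit 34816, nat_lit 43008, nat_lit 41325, nat_lit 36963, nat_lit 33925, nat_lit 28951, nat_lit 24709, nat_lit 20562, nat_lit 16389, nat_lit 12320, nat_lit 327680]⟩))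
 (.node (nat_lit 43) (.leaf ⟨[nat_lit 0x1d271735a0aa122b95ce8acd251b98f68820], [nat_lit 65536, nat_lit 69632, nat_lit 73728, nat_lit 81920, nat_lit 90112, nat_lit 94208, nat_lit 102400, nat_lit 106496, nat_lit 178176, nat_lit 173056, nat_lit 170496, nat_lit 165632, nat_lit 161920, nat_lit 156096, nat_lit 153824, nat_lit 147920, nat_lit 147432, nat_lit 141048, nat_lit 136424, nat_lit 131743, nat_lit 16, nat_lit 4112, nat_lit 8208, nat_lit 14832, nat_lit 20032, nat_lit 23808, nat_lit 27008, nat_lit 32256, nat_lit 34304, nat_lit 37888, nat_lit 41844, nat_lit 38052, nat_lit 32848, nat_lit 28702, nat_lit 24890, nat_lit 20553, nat_lit 16518, nat_lit 12293, nat_lit 327680]⟩)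
 (.leaf ⟨[nat_lit 0xc0539f51e353511360dcd259322aef078820], [nat_lit 65536, nat_lit 69632, nat_lit 73728, nat_lit 81920, nat_lit 86016, nat_lit 94208, nat_lit 98304, nat_lit 102400, nat_lit 106496, nat_lit 178176, nat_lit 175104, nat_lit 168448, nat_lit 166656, nat_lit 160640, nat_lit 159424, nat_lit 155552, nat_lit 150400, nat_lit 147448, nat_lit 142124, nat_lit 135890, nat_lit 133582, nat_lit 2080, nat_lit 6176, nat_lit 10272, nat_lit 16192, nat_lit 19488, nat_lit 24192, nat_lit 25472, nat_lit 29440, nat_lit 33792, nat_lit 38912, nat_lit 43008, nat_lit 41530, nat_lit 38042, nat_lit 32928, nat_lit 29013, nat_lit 24762, nat_lit 20630, nat_lit 16517, nat_lit 327680]⟩)))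
 (.node (nat_lit 46) (.node (nat_lit 45) (.leaf ndPr3_0)
 (.leaf ⟨[nat_lit 0xbbd72eac1043da6b1b5ec8dd26038222c954, nat_lit 0xedeb4d4c6802b58e14aa882ee3986ca79cc4], [nat_lit 65536, nat_lit 69632, nat_lit 73728, nat_lit 81920, nat_lit 90112, nat_lit 106496, nat_lit 173056, nat_lit 164864, nat_lit 161920, nat_lit 158016, nat_lit 154176, nat_lit 149088, nat_lit 145856, nat_lit 142672, nat_lit 135908, nat_lit 135042, nat_lit 3274, nat_lit 4100, nat_lit 8536, nat_lit 13216, nat_lit 20224, nat_lit 21312, nat_lit 25856, nat_lit 30976, nat_lit 33280, nat_lit 39936, nat_lit 43008, nat_lit 45529, nat_lit 41856, nat_lit 37899, nat_lit 33458, nat_lit 28717, nat_lit 26674, nat_lit 20484, nat_lit 16646, nat_lit 12311, nat_lit 8208, nat_lit 4100, nat_lit 421893, nat_lit 409600, nat_lit 131104, nat_lit 40992, nat_lit 32800, nat_lit 8193, nat_lit 4097]⟩))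
 (.node (nat_lit 47) (.leaf ndPr3_1)
 (.leaf ⟨[nat_lit 0x56ffc6a15ac9c0f590d4f701313045742ec4, nat_lit 0xa6a0a742809b6e19546cb45e229d64424ca, nat_lit 0x5c9a3c1d196512b34bc08845a135d7271ca2], [nat_lit 77824, nat_lit 90112, nat_lit 94208, nat_lit 102400, nat_lit 178176, nat_lit 175104, nat_lit 168960, nat_lit 167424, nat_lit 160256, nat_lit 155712, nat_lit 153632, nat_lit 148560, nat_lit 146728, nat_lit 143192, nat_lit 138430, nat_lit 133593, nat_lit 2, nat_lit 4100, nat_lit 9328, nat_lit 15136, nat_lit 16608, nat_lit 23616, nat_lit 26752, nat_lit 29952, nat_lit 33792, nat_lit 39936, nat_lit 43008, nat_lit 46913, nat_lit 41684, nat_lit 38258, nat_lit 33396, nat_lit 28934, nat_lit 24631, nat_lit 20554, nat_lit 16425, nat_lit 12290, nat_lit 8195, nat_lit 4100, nat_lit 2, nat_lit 430087, nat_lit 417797, nat_lit 409603, nat_lit 156288, nat_lit 151616, nat_lit 148032, nat_lit 143376, nat_lit 45288, nat_lit 41072, nat_lit 33000]⟩))))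

theorem dcPE5_ok : dcPE5.all (elB (nat_lit 87960930234368)) = true := by decide +kernel

def dcPE6 : BT El := (.node (nat_lit 52) (.node (nat_lit 50) (.node (nat_lit 49) (.leaf ⟨[nat_lit 0xf503965320ba0ce82cc8fab65615d260442e, nat_lit 0x53fc37d93262af3080826ae91aba0839466, nat_lit 0xa9a50f91c116d150b4de8bd4664ac25209cc], [nat_lit 65536, nat_lit 69632, nat_lit 73728, nat_lit 77824, nat_lit 98304, nat_lit 106496, nat_lit 110592, nat_lit 173056, nat_lit 171008, nat_lit 164608, nat_lit 160000, nat_lit 158848, nat_lit 154784, nat_lit 151200, nat_lit 145904, nat_lit 143204, nat_lit 138950, nat_lit 132629, nat_lit 1970, nat_lit 4100, nat_lit 8520, nat_lit 14880, nat_lit 19808, nat_lit 21504, nat_lit 27264, nat_lit 29696, nat_lit 38912, nat_lit 43008, nat_lit 46013, nat_lit 41234, nat_lit 38987, nat_lit 33370, nat_lit 28796, nat_lit 24600, nat_lit 20617, nat_lit 16388, nat_lit 12359, nat_lit 8200, nat_lit 4100, nat_lit 2, nat_lit 430086, nat_lit 413700, nat_lit 405504, nat_lit 156160,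 nat_lit 151616, nat_lit 147552, nat_lit 143872, nat_lit 131688, nat_lit 45640, nat_lit 41568, nat_lit 32872, nat_lit 28673, nat_lit 8193, nat_lit 4097]⟩)
 (.leaf ⟨[nat_lit 0x609aaf2b236b9db2a4ccf52d23255d040820], [nat_lit 65536, nat_lit 69632, nat_lit 73728, nat_lit 77824, nat_lit 98304, nat_lit 102400, nat_lit 178176, nat_lit 171008, nat_lit 166144, nat_lit 160512, nat_lit 157376, nat_lit 151744, nat_lit 147568, nat_lit 147240, nat_lit 139784, nat_lit 136140, nat_lit 133125, nat_lit 2, nat_lit 7324, nat_lit 8448, nat_lit 15504, nat_lit 20192, nat_lit 22016, nat_lit 29440, nat_lit 35840, nat_lit 39936, nat_lit 41708, nat_lit 38258, nat_lit 32885, nat_lit 29255, nat_lit 24724, nat_lit 20490, nat_lit 16516, nat_lit 12293, nat_lit 8200, nat_lit 4097, nat_lit 2]⟩))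
 (.node (nat_lit 51) (.leaf ⟨[nat_lit 0x8e8727a3d0651197b1d6ea952d8c07298820], [nat_lit 65536, nat_lit 69632, nat_lit 73728, nat_lit 77824, nat_lit 81920, nat_lit 86016, nat_lit 90112, nat_lit 98304, nat_lit 102400, nat_lit 106496, nat_lit 178176, nat_lit 173056, nat_lit 171520, nat_lit 164352, nat_lit 161408, nat_lit 158016, nat_lit 154112, nat_lit 148512, nat_lit 144920, nat_lit 141088, nat_lit 138216, nat_lit 131508, nat_lit 16, nat_lit 4112, nat_lit 8208, nat_lit 14912, nat_lit 18432, nat_lit 22592, nat_lit 26112, nat_lit 30976, nat_lit 34304, nat_lit 41552, nat_lit 38270, nat_lit 33491, nat_lit 28965, nat_lit 24765, nat_lit 20565, nat_lit 12295]⟩)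
 (.leaf ⟨[nat_lit 0xaf363f54c8c93507a8ed48b92682de5b8820], [nat_lit 65536, nat_lit 69632, nat_lit 73728, nat_lit 77824, nat_lit 81920, nat_lit 86016, nat_lit 94208, nat_lit 98304, nat_lit 106496, nat_lit 175104, nat_lit 168960, nat_lit 167680, nat_lit 160000, nat_lit 159616, nat_lit 155360, nat_lit 151472, nat_lit 144520, nat_lit 141876, nat_lit 133334, nat_lit 2, nat_lit 4100, nat_lit 8680, nat_lit 13712, nat_lit 17632, nat_lit 23552, nat_lit 28416, nat_lit 30208, nat_lit 35840, nat_lit 38912, nat_lit 43008, nat_lit 41293, nat_lit 37275, nat_lit 33280, nat_lit 28675, nat_lit 25603, nat_lit 20497, nat_lit 16395, nat_lit 8195, nat_lit 4100, nat_lit 2, nat_lit 327680]⟩)))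
 (.node (nat_lit 54) (.node (nat_lit 53) (.leaf ⟨[nat_lit 0xa3f35f596ef3355698e323b134221d580820], [nat_lit 77824, nat_lit 86016, nat_lit 94208, nat_lit 106496, nat_lit 178176, nat_lit 174080, nat_lit 171008, nat_lit 164096, nat_lit 162432, nat_lit 157952, nat_lit 154112, nat_lit 150784, nat_lit 147256, nat_lit 141100, nat_lit 137476, nat_lit 131769, nat_lit 2, nat_lit 4100, nat_lit 10728, nat_lit 14752, nat_lit 19872, nat_lit 26240, nat_lit 29696, nat_lit 39936, nat_lit 43008, nat_lit 41931, nat_lit 38321, nat_lit 33824, nat_lit 29052, nat_lit 24855, nat_lit 20575, nat_lit 16454, nat_lit 12291, nat_lit 8195, nat_lit 4100, nat_lit 2, nat_lit 327680]⟩)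
 (.leaf ⟨[nat_lit 0x817828329b698e325dcaf6512723aa880820], [nat_lit 65536, nat_lit 69632, nat_lit 73728, nat_lit 77824, nat_lit 90112, nat_lit 98304, nat_lit 102400, nat_lit 106496, nat_lit 178176, nat_lit 173056, nat_lit 171008, nat_lit 165632, nat_lit 160896, nat_lit 156480, nat_lit 152704, nat_lit 148816, nat_lit 144784, nat_lit 140472, nat_lit 137582, nat_lit 134245, nat_lit 8, nat_lit 4104, nat_lit 8200, nat_lit 14400, nat_lit 17312, nat_lit 24512, nat_lit 30976, nat_lit 34816, nat_lit 38912, nat_lit 40980, nat_lit 36936, nat_lit 32959, nat_lit 29012, nat_lit 24584, nat_lit 20626, nat_lit 16417]⟩))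
 (.node (nat_lit 55) (.leaf ndPr1_1)
 (.leaf ⟨[nat_lit 0xfc3a6f4526f2146792d956c1568a6ee30820], [nat_lit 77824, nat_lit 90112, nat_lit 98304, nat_lit 102400, nat_lit 178176, nat_lit 175104, nat_lit 169984, nat_lit 166912, nat_lit 162816, nat_lit 156416, nat_lit 152864, nat_lit 151504, nat_lit 146312, nat_lit 140432, nat_lit 138000, nat_lit 132489, nat_lit 128, nat_lit 4224, nat_lit 8320, nat_lit 13152, nat_lit 20384, nat_lit 21184, nat_lit 32512, nat_lit 35328, nat_lit 43008, nat_lit 41798, nat_lit 37160, nat_lit 32953, nat_lit 29036, nat_lit 24607, nat_lit 20753, nat_lit 16388, nat_lit 12320, nat_lit 327680]⟩))))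

theorem dcPE6_ok : dcPE6.all (elB (nat_lit 87960930234368)) = true := by decide +kernel

def dcPE7 : BT El := (.node (nat_lit 60) (.node (nat_lit 58) (.node (nat_lit 57) (.leaf ⟨[nat_lit 0xfa565f536d0ab172726f129c649a28f30820], [nat_lit 65536, nat_lit 69632, nat_lit 73728, nat_lit 81920, nat_lit 175104, nat_lit 171520, nat_lit 161408, nat_lit 159232, nat_lit 153344, nat_lit 148256, nat_lit 144528, nat_lit 139744, nat_lit 136438, nat_lit 134715, nat_lit 2366, nat_lit 4100, nat_lit 10552, nat_lit 15664, nat_lit 20032, nat_lit 22592, nat_lit 26624, nat_lit 31232, nat_lit 36352, nat_lit 37888, nat_lit 43008, nat_lit 41738, nat_lit 38310, nat_lit 33872, nat_lit 29254, nat_lit 24736, nat_lit 20608, nat_lit 16386, nat_lit 12290, nat_lit 8194, nat_lit 4100, nat_lit 327680]⟩)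
 (.leaf ⟨[nat_lit 0x55609f791362b95441db732eac1c67090820], [nat_lit 65536, nat_lit 69632, nat_lit 73728, nat_lit 86016, nat_lit 90112, nat_lit 106496, nat_lit 174080, nat_lit 169472, nat_lit 164352, nat_lit 160128, nat_lit 155968, nat_lit 153056, nat_lit 147664, nat_lit 145648, nat_lit 141732, nat_lit 138490, nat_lit 134021, nat_lit 1972, nat_lit 6068, nat_lit 13568, nat_lit 18400, nat_lit 29696, nat_lit 36352, nat_lit 37888, nat_lit 43008, nat_lit 41556, nat_lit 38131, nat_lit 32990, nat_lit 28997, nat_lit 24628, nat_lit 20557, nat_lit 16388, nat_lit 12325, nat_lit 8200, nat_lit 327680]⟩))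
 (.node (nat_lit 59) (.leaf ⟨[nat_lit 0xf00f005a12a6b98f84a71bd2b6398a418820], [nat_lit 86016, nat_lit 90112, nat_lit 94208, nat_lit 106496, nat_lit 174080, nat_lit 171008, nat_lit 166912, nat_lit 162176, nat_lit 156416, nat_lit 154816, nat_lit 151024, nat_lit 146792, nat_lit 141000, nat_lit 136406, nat_lit 131085, nat_lit 1972, nat_lit 6068, nat_lit 8200, nat_lit 12304, nat_lit 18336, nat_lit 22592, nat_lit 32000, nat_lit 36352, nat_lit 41708, nat_lit 38266, nat_lit 33001, nat_lit 28933, nat_lit 24728, nat_lit 20555, nat_lit 16396, nat_lit 12304, nat_lit 8200, nat_lit 327680]⟩)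
 (.leaf ⟨[nat_lit 0xd14e17bcd4c7411519ca6b264f5b69120820], [nat_lit 65536, nat_lit 69632, nat_lit 73728, nat_lit 81920, nat_lit 94208, nat_lit 173056, nat_lit 171008, nat_lit 167680, nat_lit 162944, nat_lit 158912, nat_lit 155040, nat_lit 148960, nat_lit 144304, nat_lit 143072, nat_lit 136234, nat_lit 134825, nat_lit 2112, nat_lit 6208, nat_lit 10304, nat_lit 14624, nat_lit 18944, nat_lit 21696, nat_lit 27136, nat_lit 29696, nat_lit 33792, nat_lit 39936, nat_lit 43008, nat_lit 41101, nat_lit 37184, nat_lit 33352, nat_lit 28704, nat_lit 24611, nat_lit 20573, nat_lit 16430, nat_lit 12326, nat_lit 327680]⟩)))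
 (.node (nat_lit 62) (.node (nat_lit 61) (.leaf ⟨[nat_lit 0xd822286b98351eb1596f0a1a689249678820], [nat_lit 77824, nat_lit 86016, nat_lit 90112, nat_lit 98304, nat_lit 102400, nat_lit 178176, nat_lit 173056, nat_lit 169472, nat_lit 166144, nat_lit 161920, nat_lit 158016, nat_lit 153184, nat_lit 148496, nat_lit 144792, nat_lit 141316, nat_lit 137998, nat_lit 133273, nat_lit 2, nat_lit 5276, nat_lit 12136, nat_lit 13456, nat_lit 20416, nat_lit 22336, nat_lit 24832, nat_lit 29696, nat_lit 33280, nat_lit 37888, nat_lit 41663, nat_lit 38251, nat_lit 32885, nat_lit 28709, nat_lit 24629, nat_lit 20493, nat_lit 16463, nat_lit 12293, nat_lit 8200, nat_lit 4097, nat_lit 2]⟩)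
 (.leaf ⟨[nat_lit 0xe78eb7530972a6ad84472b38eb43cd498820], [nat_lit 77824, nat_lit 81920, nat_lit 86016, nat_lit 90112, nat_lit 106496, nat_lit 178176, nat_lit 175104, nat_lit 169984, nat_lit 164096, nat_lit 161920, nat_lit 159680, nat_lit 153696, nat_lit 148976, nat_lit 146504, nat_lit 139736, nat_lit 138466, nat_lit 133829, nat_lit 1478, nat_lit 4100, nat_lit 9664, nat_lit 14912, nat_lit 19520, nat_lit 21952, nat_lit 27136, nat_lit 31488, nat_lit 35328, nat_lit 43008, nat_lit 41770, nat_lit 38093, nat_lit 33339, nat_lit 28738, nat_lit 24751, nat_lit 20501, nat_lit 16423, nat_lit 12291, nat_lit 8194, nat_lit 4100]⟩))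
 (.node (nat_lit 63) (.leaf ⟨[nat_lit 0x595aff6d5335c2ef749546451631c6428820], [nat_lit 65536, nat_lit 69632, nat_lit 73728, nat_lit 77824, nat_lit 81920, nat_lit 90112, nat_lit 106496, nat_lit 178176, nat_lit 175104, nat_lit 171520, nat_lit 167168, nat_lit 163584, nat_lit 156480, nat_lit 154688, nat_lit 149456, nat_lit 146384, nat_lit 139708, nat_lit 138984, nat_lit 132973, nat_lit 2112, nat_lit 6208, nat_lit 10304, nat_lit 14976, nat_lit 18496, nat_lit 23872, nat_lit 26752, nat_lit 29696, nat_lit 33792, nat_lit 39936, nat_lit 41695, nat_lit 38378, nat_lit 32825, nat_lit 29719, nat_lit 24616, nat_lit 20551, nat_lit 12327]⟩)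
 (.leaf ⟨[nat_lit 0xacfc5f38c858bae964975829b69a28f30820], [nat_lit 65536, nat_lit 69632, nat_lit 73728, nat_lit 81920, nat_lit 98304, nat_lit 102400, nat_lit 178176, nat_lit 174080, nat_lit 169984, nat_lit 165120, nat_lit 160000, nat_lit 159104, nat_lit 152704, nat_lit 151312, nat_lit 145168, nat_lit 139756, nat_lit 136426, nat_lit 133828, nat_lit 1972, nat_lit 6068, nat_lit 9216, nat_lit 13152, nat_lit 18336, nat_lit 20608, nat_lit 27008, nat_lit 31744, nat_lit 34304, nat_lit 37888, nat_lit 41748, nat_lit 36949, nat_lit 32889, nat_lit 28724, nat_lit 24582, nat_lit 20608, nat_lit 16396, nat_lit 12304, nat_lit 8200]⟩))))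

theorem dcPE7_ok : dcPE7.all (elB (nat_lit 87960930234368)) = true := by decide +kernel

def dcPE8 : BT El := (.node (nat_lit 68) (.node (nat_lit 66) (.node (nat_lit 65) (.leaf ndPr3_2)
 (.leaf ⟨[nat_lit 0x8ebb7da4997389550062fb0d669948e441a9, nat_lit 0xfaa6500a0d6649ed1955458897381358466e, nat_lit 0x72dbdb5589289ea91ad0f6de812898670213], [nat_lit 77824, nat_lit 86016, nat_lit 90112, nat_lit 94208, nat_lit 98304, nat_lit 102400, nat_lit 106496, nat_lit 110592, nat_lit 178176, nat_lit 175104, nat_lit 171520, nat_lit 167168, nat_lit 161280, nat_lit 156544, nat_lit 152000, nat_lit 148608, nat_lit 146400, nat_lit 142108, nat_lit 135388, nat_lit 132186, nat_lit 3874, nat_lit 4100, nat_lit 8216, nat_lit 12736, nat_lit 16992, nat_lit 27904, nat_lit 30720, nat_lit 36352, nat_lit 38912, nat_lit 46751, nat_lit 41422, nat_lit 38965, nat_lit 32826, nat_lit 29192, nat_lit 24613, nat_lit 20545, nat_lit 16644, nat_lit 12306, nat_lit 8203, nat_lit 4100, nat_lit 2, nat_lit 421894, nat_lit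 413700, nat_lit 405504, nat_lit 155776, nat_lit 151680, nat_lit 147584, nat_lit 143488, nat_lit 131272, nat_lit 45089, nat_lit 40961, nat_lit 36969, nat_lit 32769, nat_lit 8193, nat_lit 4097]⟩))
 (.node (nat_lit 67) (.leaf ndPr4_0)
 (.leaf ⟨[nat_lit 0xe2d817891ec682caacee7915098082670d74, nat_lit 0x6fcf99b8da84d40e0d1eb918a46095681e71, nat_lit 0xcf0656bc48fa34b0958ce00c4899eac5a921], [nat_lit 65536, nat_lit 69632, nat_lit 73728, nat_lit 77824, nat_lit 86016, nat_lit 98304, nat_lit 102400, nat_lit 110592, nat_lit 178176, nat_lit 173056, nat_lit 168960, nat_lit 166144, nat_lit 161280, nat_lit 156608, nat_lit 153632, nat_lit 150480, nat_lit 144312, nat_lit 141512, nat_lit 139186, nat_lit 132111, nat_lit 2998, nat_lit 4100, nat_lit 11184, nat_lit 15696, nat_lit 17568, nat_lit 21760, nat_lit 26368, nat_lit 29696, nat_lit 34304, nat_lit 43008, nat_lit 46355, nat_lit 43037, nat_lit 37360, nat_lit 33374, nat_lit 29036, nat_lit 24624, nat_lit 20553, nat_lit 16428, nat_lit 12322, nat_lit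 8195, nat_lit 4100, nat_lit 425991, nat_lit 417797, nat_lit 409600, nat_lit 155776, nat_lit 152000, nat_lit 147488, nat_lit 131536, nat_lit 45313, nat_lit 41409, nat_lit 37329, nat_lit 12289, nat_lit 8193, nat_lit 4097, nat_lit 327680]⟩)))
 (.node (nat_lit 70) (.node (nat_lit 69) (.leaf ndPr4_1)
 (.leaf ⟨[nat_lit 0xb8e24e4b01443c76b9a7580447744ad52c92, nat_lit 0x42ee2782da8b0d267569129e4fb900a0cd82, nat_lit 0xe881486215232475991a7141e02ac37b3a91, nat_lit 0x478422aa5ca79cd782c64894289c9b4b080c], [nat_lit 65536, nat_lit 69632, nat_lit 73728, nat_lit 77824, nat_lit 81920, nat_lit 94208, nat_lit 98304, nat_lit 106496, nat_lit 178176, nat_lit 173056, nat_lit 168960, nat_lit 164864, nat_lit 161152, nat_lit 156736, nat_lit 151712, nat_lit 150176, nat_lit 143640, nat_lit 140608, nat_lit 136332, nat_lit 132991, nat_lit 2054, nat_lit 4100, nat_lit 10240, nat_lit 15808, nat_lit 16608, nat_lit 20928, nat_lit 25984, nat_lit 29696, nat_lit 33792, nat_lit 38912, nat_lit 43008, nat_lit 47087,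 nat_lit 41698, nat_lit 38181, nat_lit 33362, nat_lit 29040, nat_lit 24749, nat_lit 20608, nat_lit 16645, nat_lit 12352, nat_lit 8195, nat_lit 4100, nat_lit 2, nat_lit 438282, nat_lit 430088, nat_lit 421894, nat_lit 413700, nat_lit 405504, nat_lit 166912, nat_lit 162560, nat_lit 158464, nat_lit 154240, nat_lit 148512, nat_lit 147152, nat_lit 132896, nat_lit 8193, nat_lit 4097, nat_lit 327680]⟩))
 (.node (nat_lit 71) (.leaf ndPr4_2)
 (.leaf ⟨[nat_lit 0xe28d2e8da547b5697314801464098e2bceb0, nat_lit 0x65f0aa5a1256541074a83986cf328876dc51, nat_lit 0x33a555606af5c4adb02135124eba12219cd4], [nat_lit 65536, nat_lit 69632, nat_lit 73728, nat_lit 77824, nat_lit 86016, nat_lit 102400, nat_lit 106496, nat_lit 110592, nat_lit 178176, nat_lit 174080, nat_lit 169472, nat_lit 167168, nat_lit 162944, nat_lit 158400, nat_lit 152352, nat_lit 151328, nat_lit 146824, nat_lit 143300, nat_lit 137680, nat_lit 134274, nat_lit 1054, nat_lit 4100, nat_lit 9240, nat_lit 15696, nat_lit 20288, nat_lit 20544,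 nat_lit 27264, nat_lit 30208, nat_lit 34816, nat_lit 38912, nat_lit 46236, nat_lit 43989, nat_lit 38018, nat_lit 32973, nat_lit 28983, nat_lit 24721, nat_lit 20560, nat_lit 16423, nat_lit 12295, nat_lit 8195, nat_lit 4100, nat_lit 2, nat_lit 421894, nat_lit 413700, nat_lit 405504, nat_lit 147520, nat_lit 143488, nat_lit 131288, nat_lit 45176, nat_lit 41112, nat_lit 36865, nat_lit 32904, nat_lit 8193, nat_lit 4097, nat_lit 327680]⟩))))

theorem dcPE8_ok : dcPE8.all (elB (nat_lit 87960930234368)) = true := by decide +kernel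

def dcPE9 : BT El := (.node (nat_lit 76) (.node (nat_lit 74) (.node (nat_lit 73) (.leaf ⟨[nat_lit 0x9f56058bd90aaa8919c0509882459779366e, nat_lit 0xb8b788b9263b1c52816a0a06264b1686bd4e, nat_lit 0x3c960f1b2cf32a0ea2120a8a329ada7b9481], [nat_lit 65536, nat_lit 69632, nat_lit 73728, nat_lit 90112, nat_lit 98304, nat_lit 106496, nat_lit 174080, nat_lit 169984, nat_lit 165632, nat_lit 163584, nat_lit 158528, nat_lit 151744, nat_lit 148032, nat_lit 146136, nat_lit 141936, nat_lit 135740, nat_lit 132362, nat_lit 452, nat_lit 4548, nat_lit 8248, nat_lit 15408, nat_lit 17024, nat_lit 20928, nat_lit 26624, nat_lit 30976, nat_lit 33280, nat_lit 45261, nat_lit 41868, nat_lit 38110, nat_lit 32954, nat_lit 28763, nat_lit 24760, nat_lit 20484, nat_lit 16516, nat_lit 12307, nat_lit 8201, nat_lit 4097, nat_lit 421894, nat_lit 413700, nat_lit 405504, nat_lit 151680, nat_lit 147616, nat_lit 143504, nat_lit 131264, nat_lit 45073, nat_lit 41073, nat_lit 36953, nat_lit 32808, nat_lit 8193, nat_lit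 4097, nat_lit 327680]⟩)
 (.leaf ⟨[nat_lit 0x127221216f1a8452522763016c8368f49dc3, nat_lit 0x7d24d470a870bee42b07669aa05a93192270, nat_lit 0xaa5c3a5910e3424c881360aa932bef568867], [nat_lit 81920, nat_lit 98304, nat_lit 106496, nat_lit 110592, nat_lit 175104, nat_lit 169984, nat_lit 164608, nat_lit 160768, nat_lit 156864, nat_lit 153952, nat_lit 151008, nat_lit 146176, nat_lit 141544, nat_lit 136732, nat_lit 131948, nat_lit 2048, nat_lit 6144, nat_lit 10240, nat_lit 15008, nat_lit 17536, nat_lit 21312, nat_lit 26496, nat_lit 31232, nat_lit 37888, nat_lit 46874, nat_lit 43199, nat_lit 37149, nat_lit 32987, nat_lit 28732, nat_lit 24880, nat_lit 20549, nat_lit 16513, nat_lit 8193, nat_lit 4097, nat_lit 2, nat_lit 425990, nat_lit 413700, nat_lit 405504, nat_lit 155904, nat_lit 151872, nat_lit 147776, nat_lit 143728, nat_lit 131328, nat_lit 45408, nat_lit 41064, nat_lit 37160, nat_lit 28784, nat_lit 8193, nat_lit 4097, nat_lit 327680]⟩))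
 (.node (nat_lit 75) (.leaf ⟨[nat_lit 0x960660292537d5b6340f14a86102d02a31d7, nat_lit 0x663aca4580a75de1392821d6302b64961973, nat_lit 0xb278b4221b29b147b98a30a5757500f15a30, nat_lit 0x56995544855a01315583380eeb635c531de4], [nat_lit 77824, nat_lit 81920, nat_lit 90112, nat_lit 94208, nat_lit 106496, nat_lit 110592, nat_lit 168448, nat_lit 167680, nat_lit 162816, nat_lit 158912, nat_lit 155328, nat_lit 149264, nat_lit 145808, nat_lit 141524, nat_lit 138590, nat_lit 132584, nat_lit 2304, nat_lit 6400, nat_lit 10496, nat_lit 13808, nat_lit 18336, nat_lit 22016, nat_lit 25216, nat_lit 31744, nat_lit 38912, nat_lit 46832, nat_lit 41656, nat_lit 38246, nat_lit 32791, nat_lit 29278, nat_lit 25125, nat_lit 20554, nat_lit 16393, nat_lit 12309, nat_lit 8193, nat_lit 4097, nat_lit 438282, nat_lit 430088, nat_lit 421894, nat_lit 413700, nat_lit 405504, nat_lit 171008, nat_lit 166400, nat_lit 162304, nat_lit 158976, nat_lit 152512, nat_lit 147904, nat_lit 146096, nat_lit 134392, nat_lit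 8193, nat_lit 4097, nat_lit 327680]⟩)
 (.leaf ⟨[nat_lit 0x9ac3ff708908de6b3a4d60a2a0a314d90de5, nat_lit 0x2d8b876a2b05d1d12dc36791834a847980d2, nat_lit 0xf530c3a1dc65d9e8a89a0832370cca919152, nat_lit 0xbde1d73b4c9a8c93589e12c0178a24e62a96], [nat_lit 77824, nat_lit 110592, nat_lit 171008, nat_lit 164352, nat_lit 160384, nat_lit 155840, nat_lit 152128, nat_lit 147984, nat_lit 144448, nat_lit 140692, nat_lit 137962, nat_lit 133653, nat_lit 14, nat_lit 4100, nat_lit 8200, nat_lit 13264, nat_lit 16672, nat_lit 20672, nat_lit 27776, nat_lit 32512, nat_lit 43008, nat_lit 46275, nat_lit 41971, nat_lit 38202, nat_lit 33954, nat_lit 28711, nat_lit 24861, nat_lit 20497, nat_lit 12289, nat_lit 8195, nat_lit 4100, nat_lit 2, nat_lit 438282, nat_lit 430088, nat_lit 421894, nat_lit 413700, nat_lit 405504, nat_lit 174080, nat_lit 168960, nat_lit 164864, nat_lit 160768, nat_lit 159232, nat_lit 152704, nat_lit 148736, nat_lit 144448, nat_lit 132456, nat_lit 8193, nat_lit 4097, nat_lit 327680]⟩)))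
 (.node (nat_lit 78) (.node (nat_lit 77) (.leaf ⟨[nat_lit 0x7b7b4e518b3449cf19eec85536051a40c562, nat_lit 0x8728bd1b0d60cc49729f041c91a4aeb281b5, nat_lit 0xa590604d477b40ec8cd42285666b900a124f, nat_lit 0x1e21dd2b83392eb010d1749cd4201f153596], [nat_lit 77824, nat_lit 81920, nat_lit 86016, nat_lit 90112, nat_lit 94208, nat_lit 98304, nat_lit 102400, nat_lit 110592, nat_lit 169472, nat_lit 165120, nat_lit 160768, nat_lit 156992, nat_lit 155296, nat_lit 149328, nat_lit 143896, nat_lit 142736, nat_lit 137938, nat_lit 131629, nat_lit 3520, nat_lit 7616, nat_lit 11712, nat_lit 13312, nat_lit 18080, nat_lit 24064, nat_lit 27008, nat_lit 31232, nat_lit 33280, nat_lit 37888, nat_lit 43008, nat_lit 46577, nat_lit 41678, nat_lit 37336, nat_lit 33456, nat_lit 29208, nat_lit 24613, nat_lit 20569, nat_lit 16420, nat_lit 12304, nat_lit 8193, nat_lit 4097, nat_lit 438282, nat_lit 430088, nat_lit 421894, nat_lit 413700, nat_lit 405504, nat_lit 174080, nat_lit 171008, nat_lit 167424, nat_lit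 163072, nat_lit 158336, nat_lit 153920, nat_lit 150368, nat_lit 145984, nat_lit 134152, nat_lit 8193, nat_lit 4097, nat_lit 327680]⟩)
 (.leaf ⟨[nat_lit 0xbd11d86cc9652d22332f08b8f4796b200503, nat_lit 0x93f5f6325851c09453c0111e355ca6d45aee, nat_lit 0xff55c60526c79dca136d22ac61b993544224, nat_lit 0x65ff5a0dd4969913158e51b28e7ae24a8250], [nat_lit 86016, nat_lit 94208, nat_lit 98304, nat_lit 102400, nat_lit 106496, nat_lit 173056, nat_lit 171520, nat_lit 166656, nat_lit 162432, nat_lit 158976, nat_lit 152512, nat_lit 147904, nat_lit 146096, nat_lit 139796, nat_lit 139036, nat_lit 131574, nat_lit 2310, nat_lit 4100, nat_lit 10496, nat_lit 16352, nat_lit 16640, nat_lit 21568, nat_lit 27776, nat_lit 28928, nat_lit 35328, nat_lit 38912, nat_lit 43008, nat_lit 46395, nat_lit 41681, nat_lit 38361, nat_lit 32813, nat_lit 28775, nat_lit 24711, nat_lit 20567, nat_lit 16424, nat_lit 12309, nat_lit 8195, nat_lit 4100, nat_lit 438282, nat_lit 430088, nat_lit 421894, nat_lit 413700, nat_lit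 405504, nat_lit 174080, nat_lit 168960, nat_lit 162560, nat_lit 156928, nat_lit 152960, nat_lit 151072, nat_lit 147024, nat_lit 134720, nat_lit 8193, nat_lit 4097, nat_lit 327680]⟩))
 (.node (nat_lit 79) (.leaf ndPr3_4)
 (.leaf ⟨[nat_lit 0xb472171daf43a9f183904995a95b246a8820], [nat_lit 77824, nat_lit 81920, nat_lit 94208, nat_lit 173056, nat_lit 168448, nat_lit 165376, nat_lit 162304, nat_lit 157632, nat_lit 153120, nat_lit 150944, nat_lit 144384, nat_lit 139412, nat_lit 136506, nat_lit 134942, nat_lit 2, nat_lit 5904, nat_lit 10000, nat_lit 12672, nat_lit 17152, nat_lit 21504, nat_lit 26496, nat_lit 30464, nat_lit 34304, nat_lit 39936, nat_lit 43008, nat_lit 41135, nat_lit 37241, nat_lit 33326, nat_lit 29758, nat_lit 24838, nat_lit 20497, nat_lit 16385, nat_lit 12801, nat_lit 8193, nat_lit 4097, nat_lit 2]⟩))))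

theorem dcPE9_ok : dcPE9.all (elB (nat_lit 87960930234368)) = true := by decide +kernel

def dcPE10 : BT El := (.node (nat_lit 84) (.node (nat_lit 82) (.node (nat_lit 81) (.leaf ⟨[nat_lit 0x2418b87ae17b4588a39529a5b538cc428820], [nat_lit 65536, nat_lit 69632, nat_lit 73728, nat_lit 77824, nat_lit 94208, nat_lit 106496, nat_lit 169984, nat_lit 166144, nat_lit 160640, nat_lit 156352, nat_lit 153216, nat_lit 147568, nat_lit 146504, nat_lit 141336, nat_lit 136670, nat_lit 135009, nat_lit 2560, nat_lit 6656, nat_lit 10752, nat_lit 14768, nat_lit 16896, nat_lit 23616, nat_lit 26240, nat_lit 30208, nat_lit 35840, nat_lit 41848, nat_lit 38390, nat_lit 34011, nat_lit 28963, nat_lit 25656, nat_lit 20501, nat_lit 12806]⟩)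
 (.leaf ⟨[nat_lit 0x4e2b471a969658b1812ae9bcd4b9e4d40820], [nat_lit 65536, nat_lit 69632, nat_lit 73728, nat_lit 86016, nat_lit 90112, nat_lit 102400, nat_lit 106496, nat_lit 175104, nat_lit 171008, nat_lit 164864, nat_lit 161664, nat_lit 157376, nat_lit 155072, nat_lit 148336, nat_lit 146168, nat_lit 140328, nat_lit 138294, nat_lit 135103, nat_lit 2, nat_lit 4100, nat_lit 10496, nat_lit 12976, nat_lit 16960, nat_lit 24000, nat_lit 26496, nat_lit 30720, nat_lit 33280, nat_lit 43008, nat_lit 41058, nat_lit 37263, nat_lit 32879, nat_lit 29184, nat_lit 24864, nat_lit 20738, nat_lit 16388, nat_lit 12295, nat_lit 8200, nat_lit 4100, nat_lit 2, nat_lit 327680]⟩))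
 (.node (nat_lit 83) (.leaf ⟨[nat_lit 0xaa6f6f342cd3beb1bb26448d68a49c550820], [nat_lit 77824, nat_lit 81920, nat_lit 86016, nat_lit 98304, nat_lit 169984, nat_lit 165888, nat_lit 160768, nat_lit 157184, nat_lit 154176, nat_lit 150416, nat_lit 143992, nat_lit 142480, nat_lit 137346, nat_lit 132419, nat_lit 3944, nat_lit 8040, nat_lit 12136, nat_lit 14448, nat_lit 20352, nat_lit 24192, nat_lit 25088, nat_lit 30208, nat_lit 36352, nat_lit 38912, nat_lit 41624, nat_lit 37987, nat_lit 32920, nat_lit 28724, nat_lit 25123, nat_lit 20625, nat_lit 16392, nat_lit 12291, nat_lit 327680]⟩)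
 (.leaf ndPr5_0)))
 (.node (nat_lit 86) (.node (nat_lit 85) (.leaf ⟨[nat_lit 0x39593c48022bba2650d0b6967524acf830f4, nat_lit 0x812d110448e0bcb3336034d9683c98255697], [nat_lit 65536, nat_lit 69632, nat_lit 73728, nat_lit 77824, nat_lit 86016, nat_lit 90112, nat_lit 98304, nat_lit 173056, nat_lit 171520, nat_lit 162944, nat_lit 158336, nat_lit 154560, nat_lit 148784, nat_lit 146152, nat_lit 140584, nat_lit 135910, nat_lit 132578, nat_lit 948, nat_lit 5044, nat_lit 8376, nat_lit 13392, nat_lit 18496, nat_lit 20608, nat_lit 27392, nat_lit 29696, nat_lit 33280, nat_lit 38912, nat_lit 43008, nat_lit 47069, nat_lit 41472, nat_lit 38290, nat_lit 33452, nat_lit 28741, nat_lit 24630, nat_lit 20573, nat_lit 16455, nat_lit 12289, nat_lit 8259, nat_lit 4097, nat_lit 417796, nat_lit 405504, nat_lit 131160, nat_lit 41024, nat_lit 36953, nat_lit 32776, nat_lit 8193, nat_lit 4097]⟩)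
 (.leaf ⟨[nat_lit 0x955a9c311eb80cf7a4825b31351380a9a1b1, nat_lit 0x6f6aaf90d54695ec710c7bcc08b41220aeb1, nat_lit 0xa509f31d8ed099d7a5648828a4024515be6c], [nat_lit 77824, nat_lit 86016, nat_lit 94208, nat_lit 110592, nat_lit 178176, nat_lit 171520, nat_lit 167424, nat_lit 160768, nat_lit 159424, nat_lit 154624, nat_lit 147920, nat_lit 144440, nat_lit 140380, nat_lit 139256, nat_lit 132182, nat_lit 2798, nat_lit 4100, nat_lit 10984, nat_lit 15520, nat_lit 20192, nat_lit 23488, nat_lit 25856, nat_lit 33280, nat_lit 37888, nat_lit 43008, nat_lit 46974, nat_lit 43200, nat_lit 37161, nat_lit 32844, nat_lit 28775, nat_lit 24716, nat_lit 20559, nat_lit 17413, nat_lit 12311, nat_lit 8195, nat_lit 4100, nat_lit 2, nat_lit 434183, nat_lit 417797, nat_lit 405504, nat_lit 160768, nat_lit 151680, nat_lit 144544, nat_lit 45089, nat_lit 36896, nat_lit 33001, nat_lit 16385, nat_lit 8193, nat_lit 4097, nat_lit 327680]⟩))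
 (.node (nat_lit 87) (.leaf ⟨[nat_lit 0xca0ac06d1713946653277821d54bed220820], [nat_lit 77824, nat_lit 81920, nat_lit 86016, nat_lit 98304, nat_lit 102400, nat_lit 106496, nat_lit 178176, nat_lit 175104, nat_lit 168448, nat_lit 164864, nat_lit 160768, nat_lit 158656, nat_lit 155040, nat_lit 148672, nat_lit 144616, nat_lit 141056, nat_lit 138074, nat_lit 134730, nat_lit 128, nat_lit 4224, nat_lit 8320, nat_lit 12832, nat_lit 21696, nat_lit 27264, nat_lit 33792, nat_lit 37888, nat_lit 41800, nat_lit 38304, nat_lit 34027, nat_lit 28697, nat_lit 25128, nat_lit 20739, nat_lit 16521, nat_lit 12417, nat_lit 327680]⟩)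
 (.leaf ⟨[nat_lit 0x7b217849e149dc8a45a255d64673c6d60820], [nat_lit 77824, nat_lit 81920, nat_lit 94208, nat_lit 106496, nat_lit 178176, nat_lit 171008, nat_lit 163200, nat_lit 159424, nat_lit 154336, nat_lit 149920, nat_lit 145712, nat_lit 139876, nat_lit 135300, nat_lit 132712, nat_lit 2, nat_lit 4100, nat_lit 9328, nat_lit 15680, nat_lit 16576, nat_lit 22464, nat_lit 25472, nat_lit 31232, nat_lit 34304, nat_lit 37888, nat_lit 43008, nat_lit 41115, nat_lit 37283, nat_lit 33360, nat_lit 29000, nat_lit 24849, nat_lit 20561, nat_lit 16392, nat_lit 12289, nat_lit 8195, nat_lit 4100, nat_lit 2]⟩))))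

theorem dcPE10_ok : dcPE10.all (elB (nat_lit 87960930234368)) = true := by decide +kernel

def dcPE11 : BT El := (.node (nat_lit 92) (.node (nat_lit 90) (.node (nat_lit 89) (.leaf ⟨[nat_lit 0x56ffc64c26f900b4246c331d0c089caadd6d, nat_lit 0xe82481390d3402eeb05ea58a8c944b01a5b5, nat_lit 0xdeeb2e4c4160ce8a688e322dc8941867d6e5], [nat_lit 77824, nat_lit 86016, nat_lit 90112, nat_lit 106496, nat_lit 178176, nat_lit 169984, nat_lit 167168, nat_lit 161792, nat_lit 156672, nat_lit 153376, nat_lit 148672, nat_lit 143680, nat_lit 139484, nat_lit 138284, nat_lit 133494, nat_lit 2692, nat_lit 6788, nat_lit 11160, nat_lit 15360, nat_lit 20224, nat_lit 22848, nat_lit 25600, nat_lit 30208, nat_lit 35328, nat_lit 38912, nat_lit 46461, nat_lit 43856, nat_lit 37921, nat_lit 35055, nat_lit 28684, nat_lit 26675, nat_lit 21507, nat_lit 16653, nat_lit 12306, nat_lit 8200, nat_lit 4097, nat_lit 434183, nat_lit 417796, nat_lit 405504, nat_lit 160768, nat_lit 155776, nat_lit 143504, nat_lit 131216,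 nat_lit 45073, nat_lit 36880, nat_lit 32968, nat_lit 20481, nat_lit 8193, nat_lit 4097, nat_lit 327680]⟩)
 (.leaf ⟨[nat_lit 0xf5ac6512119d5a1438ef2a402a19761b257, nat_lit 0x953300884d368187741164d64f128aba12e3, nat_lit 0x3f90c5a22307c8c3128374d8a7ab5cb64c04, nat_lit 0x22ede46965148eb0b9d9644e8133c027288b], [nat_lit 65536, nat_lit 69632, nat_lit 73728, nat_lit 106496, nat_lit 173056, nat_lit 169984, nat_lit 164608, nat_lit 156224, nat_lit 154080, nat_lit 150480, nat_lit 145896, nat_lit 143224, nat_lit 136246, nat_lit 131772, nat_lit 3814, nat_lit 4100, nat_lit 12000, nat_lit 14080, nat_lit 19104, nat_lit 23744, nat_lit 25344, nat_lit 32000, nat_lit 34304, nat_lit 39936, nat_lit 45692, nat_lit 41833, nat_lit 37964, nat_lit 32945, nat_lit 28970, nat_lit 25618, nat_lit 20490, nat_lit 16451, nat_lit 12295, nat_lit 8195, nat_lit 4100, nat_lit 2, nat_lit 438282, nat_lit 430088, nat_lit 421894, nat_lit 413700, nat_lit 405504, nat_lit 166912, nat_lit 163072, nat_lit 159104, nat_lit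 154240, nat_lit 148128, nat_lit 145760, nat_lit 131216, nat_lit 8193, nat_lit 4097, nat_lit 327680]⟩))
 (.node (nat_lit 91) (.leaf ⟨[nat_lit 0x8e1e4b0c16f9c4f47349651915016e290d89, nat_lit 0x309c53343428aec73e2a92460220f05d676, nat_lit 0xe72b7e240c379eeb881ae9a902906b6650a9, nat_lit 0x221deb6562b93ae9520446bc251ccd0050f6], [nat_lit 65536, nat_lit 69632, nat_lit 73728, nat_lit 77824, nat_lit 81920, nat_lit 86016, nat_lit 90112, nat_lit 98304, nat_lit 106496, nat_lit 110592, nat_lit 175104, nat_lit 171520, nat_lit 166400, nat_lit 160128, nat_lit 159040, nat_lit 154688, nat_lit 148976, nat_lit 146976, nat_lit 140352, nat_lit 136014, nat_lit 131295, nat_lit 3078, nat_lit 4100, nat_lit 11264, nat_lit 15664, nat_lit 18336, nat_lit 23680, nat_lit 25600, nat_lit 29440, nat_lit 34816, nat_lit 43008, nat_lit 46796, nat_lit 41804, nat_lit 37991, nat_lit 33448, nat_lit 28759, nat_lit 24704, nat_lit 20995, nat_lit 16385, nat_lit 12293, nat_lit 8195, nat_lit 4100, nat_lit 2, nat_lit 438282,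 nat_lit 430088, nat_lit 421894, nat_lit 413700, nat_lit 405504, nat_lit 171008, nat_lit 164352, nat_lit 163328, nat_lit 156288, nat_lit 152128, nat_lit 151168, nat_lit 144016, nat_lit 132024, nat_lit 8193, nat_lit 4097, nat_lit 327680]⟩)
 (.leaf ndPr3_3)))
 (.node (nat_lit 94) (.node (nat_lit 93) (.leaf ⟨[nat_lit 0x6cafc021ca69ca3042d2a731afb52b718820], [nat_lit 65536, nat_lit 69632, nat_lit 73728, nat_lit 94208, nat_lit 98304, nat_lit 102400, nat_lit 106496, nat_lit 171008, nat_lit 164864, nat_lit 163200, nat_lit 158464, nat_lit 153760, nat_lit 147616, nat_lit 147376, nat_lit 139792, nat_lit 136776, nat_lit 132004, nat_lit 2048, nat_lit 6144, nat_lit 10240, nat_lit 14336, nat_lit 19552, nat_lit 21184, nat_lit 26624, nat_lit 28928, nat_lit 34304, nat_lit 38912, nat_lit 43008, nat_lit 41440, nat_lit 33864, nat_lit 28939, nat_lit 20611, nat_lit 16389]⟩)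
 (.leaf ⟨[nat_lit 0x48b888a21f3ba62e536169556c390a330820], [nat_lit 98304, nat_lit 178176, nat_lit 174080, nat_lit 168960, nat_lit 166912, nat_lit 162688, nat_lit 158528, nat_lit 152128, nat_lit 147520, nat_lit 144872, nat_lit 142948, nat_lit 138336, nat_lit 132748, nat_lit 1478, nat_lit 4100, nat_lit 9664, nat_lit 15360, nat_lit 20064, nat_lit 21952, nat_lit 27008, nat_lit 31744, nat_lit 39936, nat_lit 41970, nat_lit 36930, nat_lit 33898, nat_lit 28738, nat_lit 24598, nat_lit 21529, nat_lit 16460, nat_lit 12304, nat_lit 8194, nat_lit 4100, nat_lit 327680]⟩))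
 (.node (nat_lit 95) (.leaf ⟨[nat_lit 0x4b82e7711151ca33b194d3b1342dd6f80820], [nat_lit 86016, nat_lit 94208, nat_lit 98304, nat_lit 178176, nat_lit 175104, nat_lit 168448, nat_lit 167680, nat_lit 161280, nat_lit 158208, nat_lit 154784, nat_lit 148736, nat_lit 145440, nat_lit 140932, nat_lit 136458, nat_lit 132707, nat_lit 2048, nat_lit 6144, nat_lit 10240, nat_lit 14112, nat_lit 17568, nat_lit 22208, nat_lit 25472, nat_lit 29440, nat_lit 33792, nat_lit 38912, nat_lit 41813, nat_lit 32864, nat_lit 28762, nat_lit 24757, nat_lit 20483, nat_lit 16514, nat_lit 12304]⟩)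
 (.leaf ⟨[nat_lit 0x5f36cf60dae3aa35596f03511325a4978820], [nat_lit 77824, nat_lit 81920, nat_lit 106496, nat_lit 178176, nat_lit 173056, nat_lit 169472, nat_lit 167168, nat_lit 162176, nat_lit 156608, nat_lit 151680, nat_lit 148672, nat_lit 146544, nat_lit 142576, nat_lit 135282, nat_lit 131169, nat_lit 2, nat_lit 5904, nat_lit 10000, nat_lit 12400, nat_lit 19136, nat_lit 23872, nat_lit 26112, nat_lit 29440, nat_lit 34816, nat_lit 38912, nat_lit 41930, nat_lit 37073, nat_lit 33910, nat_lit 28753, nat_lit 24624, nat_lit 20501, nat_lit 16391, nat_lit 12289, nat_lit 8193, nat_lit 4097, nat_lit 2]⟩))))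

theorem dcPE11_ok : dcPE11.all (elB (nat_lit 87960930234368)) = true := by decide +kernel

def dcPE12 : BT El := (.node (nat_lit 100) (.node (nat_lit 98) (.node (nat_lit 97) (.leaf ndPr6_0)
 (.leaf ⟨[nat_lit 0x606a5f42c6a71a37959e43c194995b548820, nat_lit 0x50c6cf7d1136da0aaae4c8bae9214e330820], [nat_lit 65536, nat_lit 69632, nat_lit 73728, nat_lit 77824, nat_lit 90112, nat_lit 94208, nat_lit 110592, nat_lit 175104, nat_lit 170496, nat_lit 165632, nat_lit 161024, nat_lit 158016, nat_lit 153600, nat_lit 147760, nat_lit 146696, nat_lit 140052, nat_lit 138638, nat_lit 134326, nat_lit 1552, nat_lit 5648, nat_lit 9744, nat_lit 12768, nat_lit 16512, nat_lit 23616, nat_lit 26752, nat_lit 31232, nat_lit 39936, nat_lit 43008, nat_lit 45521, nat_lit 41613, nat_lit 35023, nat_lit 28718, nat_lit 24584, nat_lit 20608, nat_lit 16648, nat_lit 12291, nat_lit 8193, nat_lit 4097, nat_lit 2, nat_lit 417797, nat_lit 405504, nat_lit 40968, nat_lit 36896, nat_lit 32832, nat_lit 28680, nat_lit 16385,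 nat_lit 8193, nat_lit 4097, nat_lit 327680]⟩))
 (.node (nat_lit 99) (.leaf ⟨[nat_lit 0x4774d2bb1448c870495b5b2dc798022419f4, nat_lit 0xd48e2b0554c4bac28c8b321e06a35015bee3, nat_lit 0x417e8e00c4b241962c5d56cee6a1e4f0a909], [nat_lit 86016, nat_lit 106496, nat_lit 110592, nat_lit 174080, nat_lit 171008, nat_lit 165376, nat_lit 160000, nat_lit 155904, nat_lit 153824, nat_lit 151088, nat_lit 144168, nat_lit 140780, nat_lit 138950, nat_lit 131202, nat_lit 1980, nat_lit 6076, nat_lit 10304, nat_lit 13440, nat_lit 17184, nat_lit 23360, nat_lit 25728, nat_lit 33280, nat_lit 39936, nat_lit 46674, nat_lit 41337, nat_lit 39055, nat_lit 34031, nat_lit 28959, nat_lit 25149, nat_lit 20554, nat_lit 16397, nat_lit 12291, nat_lit 8208, nat_lit 4097, nat_lit 2, nat_lit 434183, nat_lit 417797, nat_lit 405504, nat_lit 156800, nat_lit 143488, nat_lit 131208, nat_lit 45089, nat_lit 36865, nat_lit 32968, nat_lit 16385, nat_lit 8193, nat_lit 4097]⟩)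
 (.leaf ⟨[nat_lit 0xb84888984524d1772b1e7238cd80223aa2ca, nat_lit 0xa95af02d2f59bc2a92da01260eb10e664503, nat_lit 0x8b84be6460558a9200cefba6616a90675aa4], [nat_lit 102400, nat_lit 106496, nat_lit 110592, nat_lit 175104, nat_lit 168448, nat_lit 165120, nat_lit 162176, nat_lit 156864, nat_lit 151680, nat_lit 150640, nat_lit 145760, nat_lit 142904, nat_lit 137140, nat_lit 131923, nat_lit 1464, nat_lit 5560, nat_lit 9656, nat_lit 15504, nat_lit 20096, nat_lit 20800, nat_lit 28288, nat_lit 28928, nat_lit 36352, nat_lit 37888, nat_lit 47089, nat_lit 43233, nat_lit 38137, nat_lit 33501, nat_lit 28684, nat_lit 25138, nat_lit 20489, nat_lit 16399, nat_lit 12309, nat_lit 8193, nat_lit 4097, nat_lit 434183, nat_lit 417796, nat_lit 405504, nat_lit 156672, nat_lit 147520, nat_lit 144512, nat_lit 131288, nat_lit 45073, nat_lit 36865, nat_lit 32985, nat_lit 20481, nat_lit 8193, nat_lit 4097]⟩)))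
 (.node (nat_lit 102) (.node (nat_lit 101) (.leaf ⟨[nat_lit 0x28ddd819ca4ba62e649756da0a44df430820], [nat_lit 65536, nat_lit 69632, nat_lit 73728, nat_lit 77824, nat_lit 81920, nat_lit 86016, nat_lit 90112, nat_lit 94208, nat_lit 102400, nat_lit 171520, nat_lit 167680, nat_lit 160384, nat_lit 158080, nat_lit 152160, nat_lit 147504, nat_lit 143392, nat_lit 140820, nat_lit 137950, nat_lit 133386, nat_lit 1478, nat_lit 4100, nat_lit 9664, nat_lit 15200, nat_lit 18464, nat_lit 24000, nat_lit 26112, nat_lit 32512, nat_lit 36352, nat_lit 39936, nat_lit 41963, nat_lit 37058, nat_lit 32823, nat_lit 28746, nat_lit 24732, nat_lit 20498, nat_lit 16416, nat_lit 12416, nat_lit 8194, nat_lit 4100, nat_lit 327680]⟩)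
 (.leaf ⟨[nat_lit 0x2141176d994594880c6039c840524e6bbdd5, nat_lit 0x71dd11112d3ac4c063dc84ad4da04b038ef2, nat_lit 0x39305f3b665309160486e8568c205778a9e9], [nat_lit 77824, nat_lit 81920, nat_lit 86016, nat_lit 90112, nat_lit 94208, nat_lit 110592, nat_lit 178176, nat_lit 174080, nat_lit 171520, nat_lit 165120, nat_lit 162560, nat_lit 157760, nat_lit 153824, nat_lit 149088, nat_lit 143744, nat_lit 142580, nat_lit 138078, nat_lit 132844, nat_lit 176, nat_lit 4272, nat_lit 8368, nat_lit 15328, nat_lit 16672, nat_lit 20928, nat_lit 27648, nat_lit 30976, nat_lit 34304, nat_lit 38912, nat_lit 43008, nat_lit 46190, nat_lit 43953, nat_lit 38222, nat_lit 33870, nat_lit 28728, nat_lit 25632, nat_lit 20494, nat_lit 16456, nat_lit 12321, nat_lit 8193, nat_lit 4097, nat_lit 434183, nat_lit 417796, nat_lit 405504, nat_lit 143376, nat_lit 131224, nat_lit 45185, nat_lit 36865, nat_lit 32769, nat_lit 20504, nat_lit 8193, nat_lit 4097]⟩))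
 (.node (nat_lit 103) (.leaf ⟨[nat_lit 0xccf06c6864772e8ca98aa45c404da1388c8f, nat_lit 0xe47782405a9194ec9a8d7a09d6881f022e55, nat_lit 0xc0f6a99d184b287559847bc8ae6a42f82220, nat_lit 0xac5996404c0989f4bb2035b8adb24f554891], [nat_lit 65536, nat_lit 69632, nat_lit 73728, nat_lit 77824, nat_lit 81920, nat_lit 90112, nat_lit 98304, nat_lit 102400, nat_lit 168448, nat_lit 160000, nat_lit 155520, nat_lit 148528, nat_lit 147272, nat_lit 141516, nat_lit 136530, nat_lit 134296, nat_lit 2070, nat_lit 4100, nat_lit 10256, nat_lit 14848, nat_lit 18944, nat_lit 21120, nat_lit 25088, nat_lit 31744, nat_lit 33792, nat_lit 38912, nat_lit 45683, nat_lit 41860, nat_lit 37174, nat_lit 32957, nat_lit 28700, nat_lit 24633, nat_lit 20494, nat_lit 16392, nat_lit 12311, nat_lit 8195, nat_lit 4100, nat_lit 2, nat_lit 438282, nat_lit 430088, nat_lit 421894, nat_lit 413700, nat_lit 405504, nat_lit 174080, nat_lit 169984, nat_lit 167424, nat_lit 162048, nat_lit 157312, nat_lit 152256, nat_lit 148512,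 nat_lit 143440, nat_lit 132896, nat_lit 8193, nat_lit 4097, nat_lit 327680]⟩)
 (.leaf ⟨[nat_lit 0x27e17230ecca81a5989218394fa5e4b410f1, nat_lit 0xd2b82dacc2e3b5e882e458d18225ec930d40, nat_lit 0x7b74419a426a38e56087604164435577c655, nat_lit 0xb427d1b15f5429878a4179126d80e8b70826], [nat_lit 65536, nat_lit 69632, nat_lit 73728, nat_lit 77824, nat_lit 90112, nat_lit 102400, nat_lit 106496, nat_lit 178176, nat_lit 175104, nat_lit 171008, nat_lit 164608, nat_lit 162944, nat_lit 159552, nat_lit 151616, nat_lit 149200, nat_lit 145384, nat_lit 141492, nat_lit 138578, nat_lit 132471, nat_lit 1030, nat_lit 4100, nat_lit 9216, nat_lit 14624, nat_lit 18912, nat_lit 21952, nat_lit 27008, nat_lit 30464, nat_lit 35840, nat_lit 43008, nat_lit 45751, nat_lit 41967, nat_lit 37152, nat_lit 32815, nat_lit 28753, nat_lit 24621, nat_lit 20573, nat_lit 16418, nat_lit 12354, nat_lit 8195, nat_lit 4100, nat_lit 2, nat_lit 438282, nat_lit 430088, nat_lit 421894, nat_lit 413700, nat_lit 405504, nat_lit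 168960, nat_lit 162048, nat_lit 155776, nat_lit 153472, nat_lit 149088, nat_lit 144160, nat_lit 132456, nat_lit 8193, nat_lit 4097]⟩))))

theorem dcPE12_ok : dcPE12.all (elB (nat_lit 87960930234368)) = true := by decide +kernel

def dcPE13 : BT El := (.node (nat_lit 108) (.node (nat_lit 106) (.node (nat_lit 105) (.leaf ndPr1_0)
 (.leaf ⟨[nat_lit 0x9095503add61c232ba984419f44d5a598820], [nat_lit 77824, nat_lit 81920, nat_lit 86016, nat_lit 90112, nat_lit 94208, nat_lit 178176, nat_lit 173056, nat_lit 168448, nat_lit 164096, nat_lit 159872, nat_lit 158272, nat_lit 147968, nat_lit 146560, nat_lit 140968, nat_lit 136196, nat_lit 131957, nat_lit 64, nat_lit 4160, nat_lit 8256, nat_lit 12864, nat_lit 16416, nat_lit 23296, nat_lit 30720, nat_lit 33280, nat_lit 43008, nat_lit 41891, nat_lit 36928, nat_lit 32864, nat_lit 28781, nat_lit 20628, nat_lit 16425, nat_lit 12295]⟩))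
 (.node (nat_lit 107) (.leaf ndPg0_0)
 (.leaf ndPg0_1)))
 (.node (nat_lit 110) (.node (nat_lit 109) (.leaf ndPg0_2)
 (.leaf ndPg0_3))
 (.node (nat_lit 111) (.leaf ndPg0_4)
 (.leaf ndPg1_0))))

theorem dcPE13_ok : dcPE13.all (elB (nat_lit 87960930234368)) = true := by decide +kernel

def dcPE14 : BT El := (.node (nat_lit 116) (.node (nat_lit 114) (.node (nat_lit 113) (.leaf ndPg1_1)
 (.leaf ndPg1_2))
 (.node (nat_lit 115) (.leaf ndPg1_3)
 (.leaf ndPg1_4)))
 (.node (nat_lit 118) (.node (nat_lit 117) (.leaf ndPg2_0)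
 (.leaf ndPg2_1))
 (.node (nat_lit 119) (.leaf ndPg2_2)
 (.leaf ndPg2_3))))

theorem dcPE14_ok : dcPE14.all (elB (nat_lit 87960930234368)) = true := by decide +kernel

def dcPE15 : BT El := (.node (nat_lit 124) (.node (nat_lit 122) (.node (nat_lit 121) (.leaf ndPg2_4)
 (.leaf ndPg2_5))
 (.node (nat_lit 123) (.leaf ndPg3_0)
 (.leaf ndPg3_1)))
 (.node (nat_lit 126) (.node (nat_lit 125) (.leaf ndPg3_2)
 (.leaf ndPg3_3))
 (.node (nat_lit 127) (.leaf ndPg3_4)
 (.leaf ndPg4_0))))

theorem dcPE15_ok : dcPE15.all (elB (nat_lit 87960930234368)) = true := by decide +kernel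

def dcPE16 : BT El := (.node (nat_lit 132) (.node (nat_lit 130) (.node (nat_lit 129) (.leaf ndPg4_1)
 (.leaf ndPg4_2))
 (.node (nat_lit 131) (.leaf ndPg4_3)
 (.leaf ndPg4_4)))
 (.node (nat_lit 134) (.node (nat_lit 133) (.leaf ndPg5_0)
 (.leaf ndPg5_1))
 (.node (nat_lit 135) (.leaf ndPg5_2)
 (.leaf ndPg5_3))))

theorem dcPE16_ok : dcPE16.all (elB (nat_lit 87960930234368)) = true := by decide +kernel

def dcPE17 : BT El := (.node (nat_lit 139) (.node (nat_lit 137) (.leaf ndPg5_4)
 (.node (nat_lit 138) (.leaf ndPg6_0)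
 (.leaf ndPg6_1)))
 (.node (nat_lit 140) (.leaf ndPg6_2)
 (.node (nat_lit 141) (.leaf ndPg6_3)
 (.leaf ndPg6_4))))

theorem dcPE17_ok : dcPE17.all (elB (nat_lit 87960930234368)) = true := by decide +kernel


end

end CF.Mon
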