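import Cfsg.Agent.Mon.DcPC

set_option autoImplicit false
set_option maxRecDepth 100000

namespace CF.Mon

open CF.Comp

noncomputable section

def dcPc0 : List (D2.Cert (El × El)) := [.init,
  .init,
  .init,
  .init,
  .init,
  .init,
  .init,
  .init,
  .init,
  .init,
  .defn,
  .stab (nat_lit 20) (idE, idE) ⟨(nat_lit 0), ⟨[nat_lit 0, nat_lit 8, nat_lit 3, nat_lit 9, nat_lit 7, nat_lit 8, nat_lit 2], [], (nat_lit 20), (⟨[nat_lit 0x9ac300934e854d8449a2eb52a382de5b8820], [nat_lit 77824, nat_lit 81920, nat_lit 90112, nat_lit 94208, nat_lit 102400, nat_lit 173056, nat_lit 170496, nat_lit 167680, nat_lit 162048, nat_lit 156608, nat_lit 153312, nat_lit 149696, nat_lit 147120, nat_lit 142208, nat_lit 138724, nat_lit 131976, nat_lit 2, nat_lit 4684, nat_lit 9784, nat_lit 12864, nat_lit 17632, nat_lit 24000, nat_lit 24960, nat_lit 30976, nat_lit 35328, nat_lit 39936, nat_lit 41915, nat_lit 38076, nat_lit 32861, nat_lit 28797, nat_lit 24728, nat_lit 20560, nat_lit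 16389, nat_lit 12294, nat_lit 8203, nat_lit 4097, nat_lit 2, nat_lit 327680]⟩, ⟨[nat_lit 0x824d487b583822a492a85b2cf33453770820], [nat_lit 65536, nat_lit 69632, nat_lit 73728, nat_lit 81920, nat_lit 106496, nat_lit 178176, nat_lit 168448, nat_lit 166912, nat_lit 158528, nat_lit 155328, nat_lit 148592, nat_lit 146416, nat_lit 142716, nat_lit 136198, nat_lit 135155, nat_lit 256, nat_lit 4352, nat_lit 8448, nat_lit 16048, nat_lit 17760, nat_lit 24192, nat_lit 27264, nat_lit 32512, nat_lit 33792, nat_lit 38912, nat_lit 41728, nat_lit 38371, nat_lit 33951, nat_lit 29017, nat_lit 24624, nat_lit 20552, nat_lit 16389, nat_lit 12324]⟩)⟩, ⟨[], [], nat_lit 0, (idE, idE)⟩⟩,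
  .stab (nat_lit 20) (idE, idE) ⟨(nat_lit 0), ⟨[nat_lit 1, nat_lit 3, nat_lit 6, nat_lit 6, nat_lit 1, nat_lit 0, nat_lit 0], [], (nat_lit 20), (⟨[nat_lit 0x963cf7cac965e6a398a3ab9105d22d20820], [nat_lit 65536, nat_lit 69632, nat_lit 73728, nat_lit 86016, nat_lit 102400, nat_lit 106496, nat_lit 175104, nat_lit 168448, nat_lit 167680, nat_lit 162944, nat_lit 159424, nat_lit 154912, nat_lit 151344, nat_lit 146376, nat_lit 143316, nat_lit 136830, nat_lit 131735, nat_lit 2, nat_lit 4100, nat_lit 11376, nat_lit 14832, nat_lit 19904, nat_lit 23616, nat_lit 24704, nat_lit 31232, nat_lit 34304, nat_lit 43008, nat_lit 41363, nat_lit 36926, nat_lit 32947, nat_lit 28992, nat_lit 24721, nat_lit 20497, nat_lit 16425, nat_lit 12307, nat_lit 8195, nat_lit 4100, nat_lit 2]⟩, ⟨[nat_lit 0x412bb7b3e4943a15198e5a45ab9aaec20820], [nat_lit 65536, nat_lit 69632, nat_lit 73728, nat_lit 77824, nat_lit 86016, nat_lit 90112, nat_lit 102400, nat_lit 106496, nat_lit 178176, nat_lit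 169472, nat_lit 166144, nat_lit 162304, nat_lit 158528, nat_lit 154912, nat_lit 149216, nat_lit 146336, nat_lit 139788, nat_lit 138050, nat_lit 133441, nat_lit 4020, nat_lit 8116, nat_lit 10256, nat_lit 13968, nat_lit 20384, nat_lit 23104, nat_lit 24832, nat_lit 29440, nat_lit 33280, nat_lit 37888, nat_lit 41239, nat_lit 37028, nat_lit 33885, nat_lit 29185, nat_lit 24583, nat_lit 20502, nat_lit 16398, nat_lit 12306, nat_lit 8200]⟩)⟩, ⟨[], [], nat_lit 0, (idE, idE)⟩⟩]

theorem dcPr0 : D2.Rng dxP 0 13 := D2.Rng.of (l := dcPc0) (by decide +kernel)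

def dcPc13 : List (D2.Cert (El × El)) := [.stab (nat_lit 20) (idE, idE) ⟨(nat_lit 0), ⟨[nat_lit 3, nat_lit 7, nat_lit 6, nat_lit 6, nat_lit 9, nat_lit 7, nat_lit 1], [], (nat_lit 20), (⟨[nat_lit 0x4472e768dee3c289991572a23632eb260820], [nat_lit 65536, nat_lit 69632, nat_lit 73728, nat_lit 81920, nat_lit 86016, nat_lit 94208, nat_lit 98304, nat_lit 102400, nat_lit 106496, nat_lit 174080, nat_lit 168448, nat_lit 166656, nat_lit 160896, nat_lit 159488, nat_lit 152128, nat_lit 150432, nat_lit 146512, nat_lit 143048, nat_lit 136790, nat_lit 133670, nat_lit 64, nat_lit 4160, nat_lit 8256, nat_lit 14704, nat_lit 18400, nat_lit 24256, nat_lit 25984, nat_lit 32000, nat_lit 35840, nat_lit 37888, nat_lit 43008, nat_lit 41194, nat_lit 37280, nat_lit 33513, nat_lit 28771, nat_lit 24741, nat_lit 20631, nat_lit 16420, nat_lit 12294, nat_lit 327680]⟩, ⟨[nat_lit 0xaa6f6f645051d6f43cd6e835469112fb0820], [nat_lit 77824, nat_lit 86016, nat_lit 94208, nat_lit 98304, nat_lit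 102400, nat_lit 106496, nat_lit 178176, nat_lit 173056, nat_lit 170496, nat_lit 166144, nat_lit 162560, nat_lit 157056, nat_lit 152736, nat_lit 148976, nat_lit 144896, nat_lit 139268, nat_lit 138620, nat_lit 131323, nat_lit 2, nat_lit 7904, nat_lit 12000, nat_lit 12976, nat_lit 17184, nat_lit 22080, nat_lit 26240, nat_lit 31488, nat_lit 34304, nat_lit 39936, nat_lit 43008, nat_lit 41297, nat_lit 37238, nat_lit 32929, nat_lit 28775, nat_lit 24577, nat_lit 20481, nat_lit 16393, nat_lit 12290, nat_lit 8193, nat_lit 4097, nat_lit 2]⟩)⟩, ⟨[], [], nat_lit 0, (idE, idE)⟩⟩,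
  .stab (nat_lit 20) (idE, idE) ⟨(nat_lit 0), ⟨[nat_lit 4, nat_lit 1, nat_lit 5, nat_lit 6, nat_lit 9, nat_lit 3], [], (nat_lit 20), (⟨[nat_lit 0x4d1ed8416cc4dcce84e43aa9e76d08b88820], [nat_lit 86016, nat_lit 90112, nat_lit 98304, nat_lit 102400, nat_lit 178176, nat_lit 169472, nat_lit 166912, nat_lit 159872, nat_lit 158400, nat_lit 153056, nat_lit 149248, nat_lit 145192, nat_lit 141856, nat_lit 137644, nat_lit 133708, nat_lit 2, nat_lit 4100, nat_lit 11376, nat_lit 15776, nat_lit 18016, nat_lit 20672, nat_lit 27008, nat_lit 31744, nat_lit 39936, nat_lit 41843, nat_lit 36883, nat_lit 33965, nat_lit 28707, nat_lit 24599, nat_lit 20489, nat_lit 16397, nat_lit 12310, nat_lit 8195, nat_lit 4100, nat_lit 2]⟩, ⟨[nat_lit 0xeeed78aae46444b6a24f01b9af54ee460820], [nat_lit 86016, nat_lit 102400, nat_lit 178176, nat_lit 174080, nat_lit 166144, nat_lit 160384, nat_lit 155840, nat_lit 154336, nat_lit 148560, nat_lit 147400, nat_lit 142900, nat_lit 136204, nat_lit 131434,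 nat_lit 2560, nat_lit 6656, nat_lit 10752, nat_lit 13104, nat_lit 16896, nat_lit 23104, nat_lit 25984, nat_lit 32512, nat_lit 33280, nat_lit 39936, nat_lit 43008, nat_lit 41791, nat_lit 37248, nat_lit 33368, nat_lit 29037, nat_lit 24849, nat_lit 20629, nat_lit 12294, nat_lit 327680]⟩)⟩, ⟨[], [], nat_lit 0, (idE, idE)⟩⟩,
  .prod [] [nat_lit 13, nat_lit 14, nat_lit 11, nat_lit 12],
  .prod [] [nat_lit 12, nat_lit 13, nat_lit 15, nat_lit 13],
  .prod [] [nat_lit 14, nat_lit 16, nat_lit 12, nat_lit 16]]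

theorem dcPr13 : D2.Rng dxP 13 18 := D2.Rng.of (l := dcPc13) (by decide +kernel)

def dcPc18 : List (D2.Cert (El × El)) := [.prod [] [nat_lit 15, nat_lit 16, nat_lit 15, nat_lit 16],
  .prod [] [nat_lit 17, nat_lit 11, nat_lit 18, nat_lit 15],
  .prod [] [nat_lit 13, nat_lit 12, nat_lit 18, nat_lit 11],
  .edge (⟨[nat_lit 0xe87eb7a19e84b6a555c8c71ecb88e5098820], [nat_lit 81920, nat_lit 86016, nat_lit 94208, nat_lit 98304, nat_lit 170496, nat_lit 165888, nat_lit 162560, nat_lit 156416, nat_lit 153632, nat_lit 148768, nat_lit 145824, nat_lit 139380, nat_lit 137376, nat_lit 132948, nat_lit 2, nat_lit 4100, nat_lit 10728, nat_lit 14912, nat_lit 16992, nat_lit 23168, nat_lit 26752, nat_lit 30720, nat_lit 34816, nat_lit 37888, nat_lit 41955, nat_lit 37929, nat_lit 33021, nat_lit 29014, nat_lit 24854, nat_lit 20491, nat_lit 16646, nat_lit 12294, nat_lit 8195, nat_lit 4100, nat_lit 2]⟩, ⟨[nat_lit 0x7814e779eb1341b648d6824d972ba5450820], [nat_lit 77824, nat_lit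 81920, nat_lit 90112, nat_lit 94208, nat_lit 102400, nat_lit 178176, nat_lit 169472, nat_lit 166144, nat_lit 160128, nat_lit 157952, nat_lit 152608, nat_lit 149744, nat_lit 143808, nat_lit 143168, nat_lit 138656, nat_lit 135099, nat_lit 2112, nat_lit 6208, nat_lit 10304, nat_lit 15840, nat_lit 18208, nat_lit 23040, nat_lit 27136, nat_lit 29184, nat_lit 33280, nat_lit 37888, nat_lit 41620, nat_lit 36941, nat_lit 32789, nat_lit 29780, nat_lit 24633, nat_lit 20569, nat_lit 16457, nat_lit 12354, nat_lit 327680]⟩) ⟨(nat_lit 1), ⟨[], [], (nat_lit 21), (⟨[nat_lit 0xbb72e7bcd4ca35714be5630ca7441d520820], [nat_lit 94208, nat_lit 98304, nat_lit 106496, nat_lit 170496, nat_lit 161792, nat_lit 157632, nat_lit 154496, nat_lit 149856, nat_lit 144640, nat_lit 139444, nat_lit 137554, nat_lit 131121, nat_lit 2, nat_lit 4100, nat_lit 10728, nat_lit 12784, nat_lit 18144, nat_lit 24064, nat_lit 25216, nat_lit 29440, nat_lit 39936, nat_lit 43008, nat_lit 41915, nat_lit 38294,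 nat_lit 33877, nat_lit 28759, nat_lit 24635, nat_lit 20497, nat_lit 16394, nat_lit 12291, nat_lit 8195, nat_lit 4100, nat_lit 2]⟩, ⟨[nat_lit 0xcc59faa8ef33937a348bb30a884c7288820], [nat_lit 65536, nat_lit 69632, nat_lit 73728, nat_lit 81920, nat_lit 90112, nat_lit 94208, nat_lit 178176, nat_lit 173056, nat_lit 169984, nat_lit 167168, nat_lit 161408, nat_lit 156800, nat_lit 151776, nat_lit 151280, nat_lit 145064, nat_lit 142624, nat_lit 135470, nat_lit 134238, nat_lit 1972, nat_lit 6068, nat_lit 8704, nat_lit 15712, nat_lit 17824, nat_lit 22336, nat_lit 27520, nat_lit 31488, nat_lit 37888, nat_lit 41723, nat_lit 38077, nat_lit 32788, nat_lit 29767, nat_lit 24597, nat_lit 20608, nat_lit 16388, nat_lit 12320, nat_lit 8200]⟩)⟩, ⟨[nat_lit 1, nat_lit 6, nat_lit 7, nat_lit 0], [], (nat_lit 20), (⟨[nat_lit 0x8e77288a2cc218e39d52d82df772a5428820], [nat_lit 65536, nat_lit 69632, nat_lit 73728, nat_lit 81920, nat_lit 98304, nat_lit 102400, nat_lit 173056, nat_lit 168960,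 nat_lit 167168, nat_lit 162432, nat_lit 157248, nat_lit 154656, nat_lit 148160, nat_lit 146792, nat_lit 142328, nat_lit 136690, nat_lit 133950, nat_lit 3072, nat_lit 7168, nat_lit 11264, nat_lit 14768, nat_lit 18816, nat_lit 22656, nat_lit 25984, nat_lit 34816, nat_lit 37888, nat_lit 41619, nat_lit 38204, nat_lit 33370, nat_lit 29045, nat_lit 24845, nat_lit 20566, nat_lit 16456, nat_lit 12326]⟩, ⟨[nat_lit 0xc63f50aaccc2aa8e45ced84c717d88990820], [nat_lit 77824, nat_lit 81920, nat_lit 98304, nat_lit 102400, nat_lit 178176, nat_lit 173056, nat_lit 168960, nat_lit 167680, nat_lit 158464, nat_lit 155392, nat_lit 149760, nat_lit 143816, nat_lit 141120, nat_lit 137612, nat_lit 131315, nat_lit 2, nat_lit 7952, nat_lit 12048, nat_lit 12592, nat_lit 17088, nat_lit 22656, nat_lit 28032, nat_lit 32512, nat_lit 33792, nat_lit 38912, nat_lit 41098, nat_lit 37361, nat_lit 33440, nat_lit 29296, nat_lit 24629, nat_lit 20554, nat_lit 16391, nat_lit 12326, nat_lit 8193, nat_lit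 4097, nat_lit 2]⟩)⟩⟩,
  .defn,
  .stab (nat_lit 44) (idE, idE) ⟨(nat_lit 0), ⟨[nat_lit 15, nat_lit 15, nat_lit 17], [], (nat_lit 44), (⟨[nat_lit 0xff0f0f1ded593945321f33c12c6ac91a0820], [nat_lit 81920, nat_lit 86016, nat_lit 90112, nat_lit 102400, nat_lit 106496, nat_lit 175104, nat_lit 170496, nat_lit 166912, nat_lit 160512, nat_lit 155776, nat_lit 153120, nat_lit 149840, nat_lit 145336, nat_lit 139832, nat_lit 135260, nat_lit 132937, nat_lit 1972, nat_lit 6068, nat_lit 8224, nat_lit 13984, nat_lit 19840, nat_lit 23744, nat_lit 27648, nat_lit 32512, nat_lit 33792, nat_lit 38912, nat_lit 43008, nat_lit 41018, nat_lit 37255, nat_lit 33022, nat_lit 28676, nat_lit 24874, nat_lit 20503, nat_lit 16388, nat_lit 12546, nat_lit 8200]⟩, ⟨[nat_lit 0x59550f6da0665c93ac4ef2ba9242d2350820], [nat_lit 65536, nat_lit 69632, nat_lit 73728, nat_lit 81920, nat_lit 86016, nat_lit 98304, nat_lit 173056, nat_lit 169984, nat_lit 167424, nat_lit 163200, nat_lit 157248, nat_lit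 152320, nat_lit 150832, nat_lit 146144, nat_lit 140352, nat_lit 135600, nat_lit 134095, nat_lit 2, nat_lit 4100, nat_lit 11376, nat_lit 16144, nat_lit 17152, nat_lit 23360, nat_lit 28160, nat_lit 30464, nat_lit 35328, nat_lit 41933, nat_lit 38126, nat_lit 33296, nat_lit 28785, nat_lit 24606, nat_lit 20499, nat_lit 16424, nat_lit 12305, nat_lit 8195, nat_lit 4100, nat_lit 2]⟩)⟩, ⟨[], [], nat_lit 0, (idE, idE)⟩⟩]

theorem dcPr18 : D2.Rng dxP 18 24 := D2.Rng.of (l := dcPc18) (by decide +kernel)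

def dcPc24 : List (D2.Cert (El × El)) := [.stab (nat_lit 44) (idE, idE) ⟨(nat_lit 0), ⟨[nat_lit 11, nat_lit 12, nat_lit 18], [], (nat_lit 44), (⟨[nat_lit 0xee128724d8a1dab45c1e5899c9921a7b8820], [nat_lit 77824, nat_lit 90112, nat_lit 94208, nat_lit 98304, nat_lit 106496, nat_lit 178176, nat_lit 174080, nat_lit 170496, nat_lit 165376, nat_lit 161152, nat_lit 157760, nat_lit 153504, nat_lit 149648, nat_lit 146968, nat_lit 140352, nat_lit 137026, nat_lit 132882, nat_lit 2, nat_lit 4100, nat_lit 11376, nat_lit 12976, nat_lit 19040, nat_lit 21312, nat_lit 27904, nat_lit 32512, nat_lit 34816, nat_lit 38912, nat_lit 43008, nat_lit 41759, nat_lit 38305, nat_lit 32989, nat_lit 28985, nat_lit 24639, nat_lit 20494, nat_lit 16461, nat_lit 12292, nat_lit 8203, nat_lit 4100, nat_lit 2, nat_lit 327680]⟩, ⟨[nat_lit 0x33660f231533a1b2b52a349a2e82de5b8820], [nat_lit 77824, nat_lit 81920, nat_lit 98304, nat_lit 102400, nat_lit 173056, nat_lit 171520, nat_lit 164352, nat_lit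 160000, nat_lit 157120, nat_lit 154592, nat_lit 149728, nat_lit 145440, nat_lit 141296, nat_lit 136216, nat_lit 133193, nat_lit 2304, nat_lit 6400, nat_lit 10496, nat_lit 16176, nat_lit 19680, nat_lit 21504, nat_lit 27136, nat_lit 28928, nat_lit 34816, nat_lit 37888, nat_lit 41962, nat_lit 37181, nat_lit 32852, nat_lit 28728, nat_lit 24852, nat_lit 20615, nat_lit 16431, nat_lit 12322, nat_lit 327680]⟩)⟩, ⟨[], [], nat_lit 0, (idE, idE)⟩⟩,
  .stab (nat_lit 44) (idE, idE) ⟨(nat_lit 0), ⟨[nat_lit 13, nat_lit 16, nat_lit 19], [], (nat_lit 44), (⟨[nat_lit 0xb748872ddf091aac8b494429233cece58820], [nat_lit 65536, nat_lit 69632, nat_lit 73728, nat_lit 77824, nat_lit 86016, nat_lit 90112, nat_lit 98304, nat_lit 106496, nat_lit 175104, nat_lit 168960, nat_lit 165376, nat_lit 161792, nat_lit 157440, nat_lit 153792, nat_lit 149264, nat_lit 144024, nat_lit 140248, nat_lit 137288, nat_lit 133132, nat_lit 1024, nat_lit 5120, nat_lit 9216, nat_lit 15312, nat_lit 20384, nat_lit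 23168, nat_lit 25600, nat_lit 32512, nat_lit 34816, nat_lit 39936, nat_lit 43008, nat_lit 41919, nat_lit 38364, nat_lit 33016, nat_lit 28777, nat_lit 24622, nat_lit 20558, nat_lit 16388, nat_lit 12290, nat_lit 327680]⟩, ⟨[nat_lit 0x36cfaf1daf42a5b39316689dea43a04a8820], [nat_lit 77824, nat_lit 81920, nat_lit 90112, nat_lit 94208, nat_lit 102400, nat_lit 174080, nat_lit 171520, nat_lit 164608, nat_lit 161920, nat_lit 156288, nat_lit 151840, nat_lit 148976, nat_lit 144832, nat_lit 139800, nat_lit 135776, nat_lit 134184, nat_lit 1478, nat_lit 4100, nat_lit 9664, nat_lit 14688, nat_lit 19904, nat_lit 21952, nat_lit 26240, nat_lit 29952, nat_lit 36352, nat_lit 39936, nat_lit 43008, nat_lit 41654, nat_lit 37069, nat_lit 32791, nat_lit 28674, nat_lit 24619, nat_lit 20482, nat_lit 16386, nat_lit 12356, nat_lit 8194, nat_lit 4100, nat_lit 327680]⟩)⟩, ⟨[], [], nat_lit 0, (idE, idE)⟩⟩,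
  .stab (nat_lit 44) (idE, idE) ⟨(nat_lit 0), ⟨[nat_lit 16, nat_lit 20, nat_lit 14], [], (nat_lit 44), (⟨[nat_lit 0xd27b772b2c8499d75d08d84e433a9f588820], [nat_lit 65536, nat_lit 69632, nat_lit 73728, nat_lit 81920, nat_lit 86016, nat_lit 94208, nat_lit 106496, nat_lit 178176, nat_lit 171520, nat_lit 165120, nat_lit 161536, nat_lit 158976, nat_lit 152544, nat_lit 149360, nat_lit 146376, nat_lit 142800, nat_lit 138154, nat_lit 133060, nat_lit 3072, nat_lit 7168, nat_lit 11264, nat_lit 15712, nat_lit 19072, nat_lit 22464, nat_lit 26496, nat_lit 35328, nat_lit 37888, nat_lit 43008, nat_lit 41875, nat_lit 37236, nat_lit 33500, nat_lit 28960, nat_lit 25089, nat_lit 20565, nat_lit 16454, nat_lit 12416]⟩, ⟨[nat_lit 0x8b21777ccd42c596934f74ac6aab89040820], [nat_lit 65536, nat_lit 69632, nat_lit 73728, nat_lit 81920, nat_lit 90112, nat_lit 98304, nat_lit 178176, nat_lit 175104, nat_lit 169984, nat_lit 164608, nat_lit 160512, nat_lit 159552, nat_lit 152800, nat_lit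 150240, nat_lit 145776, nat_lit 142368, nat_lit 138682, nat_lit 133142, nat_lit 2560, nat_lit 6656, nat_lit 10752, nat_lit 12720, nat_lit 16448, nat_lit 20992, nat_lit 26880, nat_lit 30976, nat_lit 34304, nat_lit 37888, nat_lit 41972, nat_lit 38010, nat_lit 33501, nat_lit 29278, nat_lit 24729, nat_lit 16512, nat_lit 12353, nat_lit 327680]⟩)⟩, ⟨[], [], nat_lit 0, (idE, idE)⟩⟩]

theorem dcPr24 : D2.Rng dxP 24 27 := D2.Rng.of (l := dcPc24) (by decide +kernel)

def dcPc27 : List (D2.Cert (El × El)) := [.edge (⟨[nat_lit 0xe87eb7a19e84b6a555c8c71ecb88e5098820], [nat_lit 81920, nat_lit 86016, nat_lit 94208, nat_lit 98304, nat_lit 170496, nat_lit 165888, nat_lit 162560, nat_lit 156416, nat_lit 153632, nat_lit 148768, nat_lit 145824, nat_lit 139380, nat_lit 137376, nat_lit 132948, nat_lit 2, nat_lit 4100, nat_lit 10728, nat_lit 14912, nat_lit 16992, nat_lit 23168, nat_lit 26752, nat_lit 30720, nat_lit 34816, nat_lit 37888, nat_lit 41955, nat_lit 37929, nat_lit 33021,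 nat_lit 29014, nat_lit 24854, nat_lit 20491, nat_lit 16646, nat_lit 12294, nat_lit 8195, nat_lit 4100, nat_lit 2]⟩, ⟨[nat_lit 0x7814e779eb1341b648d6824d972ba5450820], [nat_lit 77824, nat_lit 81920, nat_lit 90112, nat_lit 94208, nat_lit 102400, nat_lit 178176, nat_lit 169472, nat_lit 166144, nat_lit 160128, nat_lit 157952, nat_lit 152608, nat_lit 149744, nat_lit 143808, nat_lit 143168, nat_lit 138656, nat_lit 135099, nat_lit 2112, nat_lit 6208, nat_lit 10304, nat_lit 15840, nat_lit 18208, nat_lit 23040, nat_lit 27136, nat_lit 29184, nat_lit 33280, nat_lit 37888, nat_lit 41620, nat_lit 36941, nat_lit 32789, nat_lit 29780, nat_lit 24633, nat_lit 20569, nat_lit 16457, nat_lit 12354, nat_lit 327680]⟩) ⟨(nat_lit 1), ⟨[], [], (nat_lit 45), (⟨[nat_lit 0xbb72e7bcd4ca35714be5630ca7441d520820], [nat_lit 94208, nat_lit 98304, nat_lit 106496, nat_lit 170496, nat_lit 161792, nat_lit 157632, nat_lit 154496, nat_lit 149856, nat_lit 144640, nat_lit 139444, nat_lit 137554,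 nat_lit 131121, nat_lit 2, nat_lit 4100, nat_lit 10728, nat_lit 12784, nat_lit 18144, nat_lit 24064, nat_lit 25216, nat_lit 29440, nat_lit 39936, nat_lit 43008, nat_lit 41915, nat_lit 38294, nat_lit 33877, nat_lit 28759, nat_lit 24635, nat_lit 20497, nat_lit 16394, nat_lit 12291, nat_lit 8195, nat_lit 4100, nat_lit 2]⟩, ⟨[nat_lit 0xcc59faa8ef33937a348bb30a884c7288820], [nat_lit 65536, nat_lit 69632, nat_lit 73728, nat_lit 81920, nat_lit 90112, nat_lit 94208, nat_lit 178176, nat_lit 173056, nat_lit 169984, nat_lit 167168, nat_lit 161408, nat_lit 156800, nat_lit 151776, nat_lit 151280, nat_lit 145064, nat_lit 142624, nat_lit 135470, nat_lit 134238, nat_lit 1972, nat_lit 6068, nat_lit 8704, nat_lit 15712, nat_lit 17824, nat_lit 22336, nat_lit 27520, nat_lit 31488, nat_lit 37888, nat_lit 41723, nat_lit 38077, nat_lit 32788, nat_lit 29767, nat_lit 24597, nat_lit 20608, nat_lit 16388, nat_lit 12320, nat_lit 8200]⟩)⟩, ⟨[nat_lit 15, nat_lit 18, nat_lit 16], [],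 (nat_lit 42), (⟨[nat_lit 0xdb17b7a448ba966963dc33dd1251a1668820], [nat_lit 65536, nat_lit 69632, nat_lit 73728, nat_lit 77824, nat_lit 86016, nat_lit 94208, nat_lit 98304, nat_lit 102400, nat_lit 106496, nat_lit 175104, nat_lit 171520, nat_lit 164864, nat_lit 158464, nat_lit 154016, nat_lit 149456, nat_lit 146400, nat_lit 141332, nat_lit 136028, nat_lit 134455, nat_lit 2176, nat_lit 6272, nat_lit 10368, nat_lit 12640, nat_lit 17344, nat_lit 20800, nat_lit 27904, nat_lit 29952, nat_lit 35840, nat_lit 43008, nat_lit 41344, nat_lit 37231, nat_lit 32896, nat_lit 28736, nat_lit 24582, nat_lit 20506, nat_lit 16393, nat_lit 12293, nat_lit 327680]⟩, ⟨[nat_lit 0xe77e474be4451a0d99dcba8e978b0a8b0820], [nat_lit 86016, nat_lit 90112, nat_lit 98304, nat_lit 102400, nat_lit 106496, nat_lit 169472, nat_lit 166656, nat_lit 163328, nat_lit 156544, nat_lit 155552, nat_lit 147952, nat_lit 143528, nat_lit 140544, nat_lit 137676, nat_lit 131699, nat_lit 1024, nat_lit 5120, nat_lit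 9216, nat_lit 15024, nat_lit 16640, nat_lit 21568, nat_lit 28160, nat_lit 31744, nat_lit 35840, nat_lit 38912, nat_lit 41870, nat_lit 36928, nat_lit 32821, nat_lit 24605, nat_lit 20741, nat_lit 16416, nat_lit 12289, nat_lit 327680]⟩)⟩⟩,
  .stab (nat_lit 55) (idE, idE) ⟨(nat_lit 0), ⟨[nat_lit 19, nat_lit 12, nat_lit 20], [], (nat_lit 44), (⟨[nat_lit 0xff0ff0748b48d5e758d099dd84836c650820], [nat_lit 65536, nat_lit 69632, nat_lit 73728, nat_lit 77824, nat_lit 81920, nat_lit 86016, nat_lit 98304, nat_lit 102400, nat_lit 106496, nat_lit 170496, nat_lit 160896, nat_lit 156224, nat_lit 153440, nat_lit 150816, nat_lit 144896, nat_lit 141388, nat_lit 136210, nat_lit 135015, nat_lit 2, nat_lit 7904, nat_lit 12000, nat_lit 13664, nat_lit 19200, nat_lit 21504, nat_lit 26240, nat_lit 29184, nat_lit 36352, nat_lit 37888, nat_lit 41710, nat_lit 36969, nat_lit 32881, nat_lit 29748, nat_lit 24636, nat_lit 20573, nat_lit 16461, nat_lit 12356, nat_lit 8193, nat_lit 4097, nat_lit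 2, nat_lit 327680]⟩, ⟨[nat_lit 0xbde128bd6c3691717155249e0c9bcc8a0820], [nat_lit 65536, nat_lit 69632, nat_lit 73728, nat_lit 81920, nat_lit 90112, nat_lit 94208, nat_lit 98304, nat_lit 106496, nat_lit 178176, nat_lit 173056, nat_lit 170496, nat_lit 166144, nat_lit 162816, nat_lit 158848, nat_lit 154336, nat_lit 151024, nat_lit 144480, nat_lit 142544, nat_lit 138064, nat_lit 131123, nat_lit 2064, nat_lit 6160, nat_lit 10256, nat_lit 12320, nat_lit 18688, nat_lit 22784, nat_lit 26752, nat_lit 29440, nat_lit 38912, nat_lit 43008, nat_lit 41432, nat_lit 37242, nat_lit 32782, nat_lit 29768, nat_lit 25130, nat_lit 20504, nat_lit 12320, nat_lit 327680]⟩)⟩, ⟨[], [], nat_lit 0, (idE, idE)⟩⟩,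
  .prod [] [nat_lit 24, nat_lit 25, nat_lit 26, nat_lit 26],
  .prod [] [nat_lit 25, nat_lit 25, nat_lit 29, nat_lit 26],
  .prod [] [nat_lit 24, nat_lit 25, nat_lit 25, nat_lit 23],
  .prod [] [nat_lit 26, nat_lit 30, nat_lit 30, nat_lit 29]]

theorem dcPr27 : D2.Rng dxP 27 33 := D2.Rng.of (l := dcPc27) (by decide +kernel)

def dcPc33 : List (D2.Cert (El × El)) := [.prod [] [nat_lit 25, nat_lit 26, nat_lit 24, nat_lit 25],
  .defn,
  .stab (nat_lit 68) (idE, idE) ⟨(nat_lit 0), ⟨[nat_lit 16, nat_lit 12, nat_lit 12, nat_lit 18, nat_lit 13], [], (nat_lit 68), (⟨[nat_lit 0xe7714843e66bdaa34c1875b4912b952a0820], [nat_lit 77824, nat_lit 86016, nat_lit 90112, nat_lit 94208, nat_lit 102400, nat_lit 178176, nat_lit 175104, nat_lit 170496, nat_lit 160640, nat_lit 157952, nat_lit 152512, nat_lit 150176, nat_lit 143456, nat_lit 140052, nat_lit 135172, nat_lit 131423, nat_lit 2, nat_lit 4100, nat_lit 10272, nat_lit 15024, nat_lit 17056, nat_lit 23552, nat_lit 25216,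 nat_lit 32000, nat_lit 33280, nat_lit 38912, nat_lit 41755, nat_lit 38229, nat_lit 33844, nat_lit 28702, nat_lit 25145, nat_lit 20495, nat_lit 16456, nat_lit 12295, nat_lit 8200, nat_lit 4100, nat_lit 2, nat_lit 327680]⟩, ⟨[nat_lit 0x2274882ba8a3dda88ce03b112f5d58690820], [nat_lit 77824, nat_lit 86016, nat_lit 90112, nat_lit 102400, nat_lit 106496, nat_lit 169984, nat_lit 166144, nat_lit 162432, nat_lit 157056, nat_lit 151648, nat_lit 150064, nat_lit 143496, nat_lit 143268, nat_lit 137744, nat_lit 131102, nat_lit 2, nat_lit 4100, nat_lit 9328, nat_lit 14640, nat_lit 16480, nat_lit 21312, nat_lit 27648, nat_lit 30464, nat_lit 33792, nat_lit 38912, nat_lit 43008, nat_lit 41650, nat_lit 37978, nat_lit 32875, nat_lit 29297, nat_lit 24888, nat_lit 20482, nat_lit 16387, nat_lit 12418, nat_lit 8195, nat_lit 4100, nat_lit 2, nat_lit 327680]⟩)⟩, ⟨[], [], nat_lit 0, (idE, idE)⟩⟩,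
  .stab (nat_lit 68) (idE, idE) ⟨(nat_lit 0), ⟨[nat_lit 15, nat_lit 12, nat_lit 13, nat_lit 15, nat_lit 13], [], (nat_lit 68), (⟨[nat_lit 0xb8487753097ab4a91ca1159dd63510f98820], [nat_lit 65536, nat_lit 69632, nat_lit 73728, nat_lit 81920, nat_lit 94208, nat_lit 171520, nat_lit 164096, nat_lit 162560, nat_lit 156096, nat_lit 153024, nat_lit 150240, nat_lit 144256, nat_lit 139504, nat_lit 135290, nat_lit 133692, nat_lit 2, nat_lit 4100, nat_lit 10728, nat_lit 14912, nat_lit 18752, nat_lit 20672, nat_lit 27776, nat_lit 32256, nat_lit 35328, nat_lit 38912, nat_lit 43008, nat_lit 41867, nat_lit 38112, nat_lit 33020, nat_lit 28779, nat_lit 24706, nat_lit 20561, nat_lit 16427, nat_lit 12294, nat_lit 8195, nat_lit 4100, nat_lit 2, nat_lit 327680]⟩, ⟨[nat_lit 0x595aff432253414d3add393d24a8ef4b0820], [nat_lit 65536, nat_lit 69632, nat_lit 73728, nat_lit 77824, nat_lit 81920, nat_lit 86016, nat_lit 94208, nat_lit 173056, nat_lit 168960, nat_lit 165120, nat_lit 162944,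 nat_lit 159104, nat_lit 153376, nat_lit 148960, nat_lit 147040, nat_lit 142080, nat_lit 135840, nat_lit 131488, nat_lit 2112, nat_lit 6208, nat_lit 10304, nat_lit 12976, nat_lit 17248, nat_lit 20608, nat_lit 26752, nat_lit 30464, nat_lit 34304, nat_lit 38912, nat_lit 41624, nat_lit 38187, nat_lit 33283, nat_lit 28757, nat_lit 24637, nat_lit 20573, nat_lit 16461, nat_lit 12289]⟩)⟩, ⟨[], [], nat_lit 0, (idE, idE)⟩⟩,
  .stab (nat_lit 68) (idE, idE) ⟨(nat_lit 0), ⟨[nat_lit 19, nat_lit 20, nat_lit 11, nat_lit 12, nat_lit 17], [], (nat_lit 68), (⟨[nat_lit 0x8188273c1342a23673da359ab2baa6460820], [nat_lit 65536, nat_lit 69632, nat_lit 73728, nat_lit 77824, nat_lit 86016, nat_lit 90112, nat_lit 94208, nat_lit 102400, nat_lit 106496, nat_lit 178176, nat_lit 175104, nat_lit 168960, nat_lit 164864, nat_lit 160512, nat_lit 158144, nat_lit 153888, nat_lit 151184, nat_lit 144560, nat_lit 142948, nat_lit 135216, nat_lit 134500, nat_lit 2304, nat_lit 6400, nat_lit 10496,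 nat_lit 12336, nat_lit 16640, nat_lit 20736, nat_lit 24704, nat_lit 29184, nat_lit 41747, nat_lit 37120, nat_lit 28799, nat_lit 24758, nat_lit 12294, nat_lit 327680]⟩, ⟨[nat_lit 0x48b787bb6487d62a9bacb641341988538820], [nat_lit 86016, nat_lit 94208, nat_lit 106496, nat_lit 168448, nat_lit 167168, nat_lit 161536, nat_lit 158400, nat_lit 155328, nat_lit 150912, nat_lit 146856, nat_lit 139364, nat_lit 137236, nat_lit 134494, nat_lit 2, nat_lit 7904, nat_lit 12000, nat_lit 15504, nat_lit 18304, nat_lit 22464, nat_lit 28416, nat_lit 30208, nat_lit 34304, nat_lit 37888, nat_lit 41761, nat_lit 37888, nat_lit 32961, nat_lit 28721, nat_lit 24881, nat_lit 20481, nat_lit 16449, nat_lit 12292, nat_lit 8193, nat_lit 4097, nat_lit 2, nat_lit 327680]⟩)⟩, ⟨[], [], nat_lit 0, (idE, idE)⟩⟩]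

theorem dcPr33 : D2.Rng dxP 33 38 := D2.Rng.of (l := dcPc33) (by decide +kernel)

def dcPc38 : List (D2.Cert (El × El)) := [.stab (nat_lit 68) (idE, idE) ⟨(nat_lit 0), ⟨[nat_lit 12, nat_lit 17, nat_lit 18, nat_lit 11, nat_lit 15], [], (nat_lit 68), (⟨[nat_lit 0xd1411845cf27b983496b35d2248594668820], [nat_lit 65536, nat_lit 69632, nat_lit 73728, nat_lit 81920, nat_lit 86016, nat_lit 90112, nat_lit 94208, nat_lit 102400, nat_lit 178176, nat_lit 169472, nat_lit 164096, nat_lit 160768, nat_lit 159168, nat_lit 154912, nat_lit 149264, nat_lit 144104, nat_lit 140160, nat_lit 135432, nat_lit 134940, nat_lit 1972, nat_lit 6068, nat_lit 11864, nat_lit 12880, nat_lit 18336, nat_lit 21952, nat_lit 27904, nat_lit 32256, nat_lit 35328, nat_lit 38912, nat_lit 41769, nat_lit 38287, nat_lit 32876, nat_lit 29257, nat_lit 24715, nat_lit 20568, nat_lit 16396, nat_lit 12305, nat_lit 8201, nat_lit 327680]⟩, ⟨[nat_lit 0x41d4489c60361aab7168ab112f434f790820], [nat_lit 90112, nat_lit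 94208, nat_lit 102400, nat_lit 178176, nat_lit 170496, nat_lit 163072, nat_lit 156864, nat_lit 154784, nat_lit 148928, nat_lit 146104, nat_lit 141836, nat_lit 137286, nat_lit 134496, nat_lit 1024, nat_lit 5120, nat_lit 9216, nat_lit 14336, nat_lit 16480, nat_lit 24448, nat_lit 28416, nat_lit 30464, nat_lit 34816, nat_lit 43008, nat_lit 41325, nat_lit 36963, nat_lit 33925, nat_lit 28951, nat_lit 24709, nat_lit 20562, nat_lit 16389, nat_lit 12320, nat_lit 327680]⟩)⟩, ⟨[], [], nat_lit 0, (idE, idE)⟩⟩,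
  .prod [] [nat_lit 37, nat_lit 36, nat_lit 36, nat_lit 35],
  .prod [] [nat_lit 39, nat_lit 35, nat_lit 35, nat_lit 35],
  .edge (⟨[nat_lit 0x2b174735a0a41ef25c49463dc32a6b368820], [nat_lit 77824, nat_lit 86016, nat_lit 90112, nat_lit 94208, nat_lit 98304, nat_lit 106496, nat_lit 174080, nat_lit 166656, nat_lit 161792, nat_lit 155968, nat_lit 154496, nat_lit 148208, nat_lit 144552, nat_lit 139640, nat_lit 137110, nat_lit 133428, nat_lit 2, nat_lit 7324, nat_lit 9584, nat_lit 15504, nat_lit 18112, nat_lit 23104, nat_lit 27008, nat_lit 29696, nat_lit 34304, nat_lit 37888, nat_lit 43008, nat_lit 41015, nat_lit 37126, nat_lit 32933, nat_lit 28764, nat_lit 24637, nat_lit 20492, nat_lit 12294, nat_lit 8203, nat_lit 4097, nat_lit 2, nat_lit 327680]⟩, ⟨[nat_lit 0x6633f232eaa190f940714b6a53bacb98820], [nat_lit 65536, nat_lit 69632, nat_lit 73728, nat_lit 94208, nat_lit 98304, nat_lit 171520, nat_lit 167680, nat_lit 160768, nat_lit 158400, nat_lit 153184, nat_lit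 150048, nat_lit 145840, nat_lit 140292, nat_lit 136944, nat_lit 134474, nat_lit 1024, nat_lit 5120, nat_lit 9216, nat_lit 12864, nat_lit 16768, nat_lit 21376, nat_lit 26624, nat_lit 31232, nat_lit 35328, nat_lit 39936, nat_lit 43008, nat_lit 41396, nat_lit 37120, nat_lit 33408, nat_lit 28793, nat_lit 24721, nat_lit 20571, nat_lit 16394, nat_lit 12295]⟩) ⟨(nat_lit 1), ⟨[], [], (nat_lit 69), (⟨[nat_lit 0x8e77288110e2b669a0ed73be2a3498ba8820], [nat_lit 81920, nat_lit 86016, nat_lit 90112, nat_lit 94208, nat_lit 102400, nat_lit 173056, nat_lit 168960, nat_lit 167424, nat_lit 163456, nat_lit 158976, nat_lit 153056, nat_lit 150192, nat_lit 143568, nat_lit 141644, nat_lit 136302, nat_lit 133009, nat_lit 2, nat_lit 4100, nat_lit 10728, nat_lit 14080, nat_lit 17600, nat_lit 21312, nat_lit 26624, nat_lit 30976, nat_lit 35328, nat_lit 39936, nat_lit 41131, nat_lit 37198, nat_lit 33332, nat_lit 29754, nat_lit 24617, nat_lit 20503, nat_lit 16397, nat_lit 12290, nat_lit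 8195, nat_lit 4100, nat_lit 2, nat_lit 327680]⟩, ⟨[nat_lit 0xb7b778645053360a225f2bd68371e6bb0820], [nat_lit 65536, nat_lit 69632, nat_lit 73728, nat_lit 86016, nat_lit 98304, nat_lit 102400, nat_lit 106496, nat_lit 178176, nat_lit 173056, nat_lit 171520, nat_lit 167168, nat_lit 162560, nat_lit 159168, nat_lit 152800, nat_lit 148256, nat_lit 145640, nat_lit 141708, nat_lit 137158, nat_lit 131916, nat_lit 2, nat_lit 4100, nat_lit 10728, nat_lit 15024, nat_lit 19104, nat_lit 20800, nat_lit 27648, nat_lit 30208, nat_lit 35840, nat_lit 38912, nat_lit 43008, nat_lit 41838, nat_lit 37115, nat_lit 33997, nat_lit 29053, nat_lit 24586, nat_lit 20507, nat_lit 16422, nat_lit 12292, nat_lit 8195, nat_lit 4100, nat_lit 2, nat_lit 327680]⟩)⟩, ⟨[nat_lit 15, nat_lit 20, nat_lit 17], [], (nat_lit 42), (⟨[nat_lit 0x556f90b40ca2a675a2c91ba0f27b86c68820], [nat_lit 77824, nat_lit 86016, nat_lit 94208, nat_lit 98304, nat_lit 102400, nat_lit 171520, nat_lit 166656, nat_lit 162432,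 nat_lit 158592, nat_lit 152832, nat_lit 150912, nat_lit 147416, nat_lit 142596, nat_lit 137870, nat_lit 132251, nat_lit 3526, nat_lit 4100, nat_lit 11712, nat_lit 15392, nat_lit 18624, nat_lit 22784, nat_lit 25216, nat_lit 32512, nat_lit 34304, nat_lit 38912, nat_lit 43008, nat_lit 41462, nat_lit 37099, nat_lit 32834, nat_lit 29185, nat_lit 24717, nat_lit 20560, nat_lit 16392, nat_lit 12293, nat_lit 8194, nat_lit 4100, nat_lit 327680]⟩, ⟨[nat_lit 0x8421782522bb1a0a9d4a9bc9071b98f68820], [nat_lit 65536, nat_lit 69632, nat_lit 73728, nat_lit 77824, nat_lit 86016, nat_lit 106496, nat_lit 173056, nat_lit 171008, nat_lit 166912, nat_lit 160512, nat_lit 158656, nat_lit 152416, nat_lit 150784, nat_lit 146040, nat_lit 139616, nat_lit 136480, nat_lit 133223, nat_lit 3072, nat_lit 7168, nat_lit 11264, nat_lit 13792, nat_lit 16544, nat_lit 23808, nat_lit 27520, nat_lit 30208, nat_lit 33280, nat_lit 43008, nat_lit 41236, nat_lit 37312, nat_lit 33439, nat_lit 28798,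 nat_lit 24717, nat_lit 20553, nat_lit 16418, nat_lit 12293]⟩)⟩⟩]

theorem dcPr38 : D2.Rng dxP 38 42 := D2.Rng.of (l := dcPc38) (by decide +kernel)

def dcPc42 : List (D2.Cert (El × El)) := [.edge (⟨[nat_lit 0x412b484a14bbd2b67b58e946703948618820], [nat_lit 77824, nat_lit 81920, nat_lit 86016, nat_lit 90112, nat_lit 94208, nat_lit 98304, nat_lit 169472, nat_lit 165888, nat_lit 161280, nat_lit 157184, nat_lit 151648, nat_lit 149920, nat_lit 146304, nat_lit 142192, nat_lit 137762, nat_lit 132869, nat_lit 32, nat_lit 4128, nat_lit 8224, nat_lit 14368, nat_lit 20416, nat_lit 21504, nat_lit 27904, nat_lit 30208, nat_lit 37888, nat_lit 43008, nat_lit 41632, nat_lit 38243, nat_lit 32864, nat_lit 28784, nat_lit 24601, nat_lit 20506, nat_lit 16426]⟩, ⟨[nat_lit 0xc35904c194bc9a8194865ba767d55138820], [nat_lit 65536, nat_lit 69632, nat_lit 73728, nat_lit 77824, nat_lit 81920, nat_lit 90112, nat_lit 94208, nat_lit 106496, nat_lit 178176, nat_lit 174080, nat_lit 169472,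 nat_lit 165376, nat_lit 162048, nat_lit 156096, nat_lit 154624, nat_lit 148288, nat_lit 145680, nat_lit 141276, nat_lit 138030, nat_lit 132522, nat_lit 2048, nat_lit 6144, nat_lit 10240, nat_lit 13456, nat_lit 19712, nat_lit 22528, nat_lit 24832, nat_lit 29952, nat_lit 36352, nat_lit 37888, nat_lit 41699, nat_lit 37245, nat_lit 33364, nat_lit 29808, nat_lit 25149, nat_lit 16515, nat_lit 12295, nat_lit 327680]⟩) ⟨(nat_lit 1), ⟨[nat_lit 40, nat_lit 37], [], (nat_lit 82), (⟨[nat_lit 0x36cfaf52c69934f72560e6163633e7440820], [nat_lit 65536, nat_lit 69632, nat_lit 73728, nat_lit 90112, nat_lit 94208, nat_lit 98304, nat_lit 102400, nat_lit 106496, nat_lit 174080, nat_lit 171520, nat_lit 165120, nat_lit 162048, nat_lit 157120, nat_lit 151840, nat_lit 150464, nat_lit 145640, nat_lit 139952, nat_lit 137644, nat_lit 133721, nat_lit 2, nat_lit 4100, nat_lit 8680, nat_lit 12512, nat_lit 17472, nat_lit 24000, nat_lit 25728, nat_lit 31488, nat_lit 36352, nat_lit 37888,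 nat_lit 43008, nat_lit 41859, nat_lit 37246, nat_lit 33378, nat_lit 28782, nat_lit 24632, nat_lit 20561, nat_lit 16451, nat_lit 12291, nat_lit 8195, nat_lit 4100, nat_lit 2, nat_lit 327680]⟩, ⟨[nat_lit 0x82bd47b458533e933de4d742a448d6a40820], [nat_lit 77824, nat_lit 86016, nat_lit 90112, nat_lit 94208, nat_lit 98304, nat_lit 102400, nat_lit 106496, nat_lit 178176, nat_lit 171008, nat_lit 166912, nat_lit 159872, nat_lit 157824, nat_lit 153664, nat_lit 150960, nat_lit 147368, nat_lit 140004, nat_lit 139164, nat_lit 131077, nat_lit 3944, nat_lit 8040, nat_lit 12136, nat_lit 13920, nat_lit 17920, nat_lit 23936, nat_lit 25344, nat_lit 29184, nat_lit 36352, nat_lit 37888, nat_lit 43008, nat_lit 41440, nat_lit 37032, nat_lit 32792, nat_lit 29202, nat_lit 25615, nat_lit 20551, nat_lit 16395, nat_lit 327680]⟩)⟩, ⟨[nat_lit 17], [], (nat_lit 68), (⟨[nat_lit 0xdb1847298e3a45abbcd8a7c9364560e20820], [nat_lit 65536, nat_lit 69632, nat_lit 73728, nat_lit 77824, nat_lit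 81920, nat_lit 86016, nat_lit 90112, nat_lit 94208, nat_lit 98304, nat_lit 106496, nat_lit 178176, nat_lit 174080, nat_lit 169472, nat_lit 167168, nat_lit 160000, nat_lit 159296, nat_lit 152224, nat_lit 148224, nat_lit 144408, nat_lit 142460, nat_lit 138858, nat_lit 132765, nat_lit 2560, nat_lit 6656, nat_lit 10752, nat_lit 14352, nat_lit 20384, nat_lit 23936, nat_lit 27520, nat_lit 30976, nat_lit 36352, nat_lit 39936, nat_lit 43008, nat_lit 41443, nat_lit 37085, nat_lit 32809, nat_lit 28736, nat_lit 24586, nat_lit 20504, nat_lit 16388, nat_lit 12320, nat_lit 327680]⟩, ⟨[nat_lit 0x144bd79588f8b8d73b29040d6a2d5b348820], [nat_lit 77824, nat_lit 81920, nat_lit 94208, nat_lit 173056, nat_lit 171520, nat_lit 166656, nat_lit 161792, nat_lit 156032, nat_lit 151648, nat_lit 148256, nat_lit 145920, nat_lit 142208, nat_lit 135788, nat_lit 135140, nat_lit 1972, nat_lit 6068, nat_lit 10864, nat_lit 12864, nat_lit 18336, nat_lit 22720, nat_lit 26496, nat_lit 32256, nat_lit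 35328, nat_lit 37888, nat_lit 41063, nat_lit 36932, nat_lit 32951, nat_lit 28733, nat_lit 25089, nat_lit 20492, nat_lit 16395, nat_lit 12309, nat_lit 8202]⟩)⟩⟩,
  .stab (nat_lit 83) (idE, idE) ⟨(nat_lit 0), ⟨[nat_lit 19, nat_lit 19, nat_lit 16, nat_lit 18, nat_lit 17], [], (nat_lit 68), (⟨[nat_lit 0xf0ff0f6386d5c0b725932999143c55578820], [nat_lit 81920, nat_lit 94208, nat_lit 98304, nat_lit 102400, nat_lit 106496, nat_lit 170496, nat_lit 166400, nat_lit 160640, nat_lit 155776, nat_lit 154208, nat_lit 148480, nat_lit 144744, nat_lit 141964, nat_lit 137314, nat_lit 134488, nat_lit 2112, nat_lit 6208, nat_lit 10304, nat_lit 16160, nat_lit 17024, nat_lit 25344, nat_lit 30208, nat_lit 35328, nat_lit 39936, nat_lit 41792, nat_lit 37312, nat_lit 32864, nat_lit 28755, nat_lit 24742, nat_lit 20568, nat_lit 16454, nat_lit 327680]⟩, ⟨[nat_lit 0xe1ed7733e741ad49bb6477121565a2540820], [nat_lit 65536, nat_lit 69632, nat_lit 73728, nat_lit 77824, nat_lit 94208, nat_lit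 98304, nat_lit 106496, nat_lit 170496, nat_lit 166656, nat_lit 163712, nat_lit 158848, nat_lit 154816, nat_lit 147488, nat_lit 143392, nat_lit 139952, nat_lit 137932, nat_lit 131886, nat_lit 3034, nat_lit 4100, nat_lit 10496, nat_lit 15312, nat_lit 20352, nat_lit 20736, nat_lit 27776, nat_lit 29184, nat_lit 34816, nat_lit 41705, nat_lit 37271, nat_lit 33520, nat_lit 29209, nat_lit 24588, nat_lit 20494, nat_lit 16905, nat_lit 12294, nat_lit 8200, nat_lit 4100, nat_lit 327680]⟩)⟩, ⟨[], [], nat_lit 0, (idE, idE)⟩⟩,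
  .prod [] [nat_lit 35, nat_lit 37, nat_lit 38, nat_lit 35],
  .prod [] [nat_lit 37, nat_lit 35, nat_lit 37, nat_lit 36],
  .prod [] [nat_lit 37, nat_lit 36, nat_lit 37, nat_lit 35]]

theorem dcPr42 : D2.Rng dxP 42 47 := D2.Rng.of (l := dcPc42) (by decide +kernel)

def dcPc47 : List (D2.Cert (El × El)) := [.prod [] [nat_lit 46, nat_lit 45, nat_lit 35, nat_lit 37],
  .prod [] [nat_lit 38, nat_lit 38, nat_lit 36, nat_lit 47],
  .defn,
  .stab (nat_lit 98) (idE, idE) ⟨(nat_lit 0), ⟨[nat_lit 12, nat_lit 16, nat_lit 19, nat_lit 18, nat_lit 16, nat_lit 16], [], (nat_lit 98), (⟨[nat_lit 0xe871474c5d7b2a0dab172290e34526f30820], [nat_lit 81920, nat_lit 86016, nat_lit 94208, nat_lit 98304, nat_lit 178176, nat_lit 175104, nat_lit 169984, nat_lit 165888, nat_lit 160512, nat_lit 158080, nat_lit 152800, nat_lit 151136, nat_lit 147136, nat_lit 142380, nat_lit 137886, nat_lit 131591, nat_lit 2, nat_lit 7952, nat_lit 12048, nat_lit 13152, nat_lit 17152, nat_lit 21312, nat_lit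 27776, nat_lit 30208, nat_lit 34816, nat_lit 39936, nat_lit 43008, nat_lit 41457, nat_lit 37073, nat_lit 33992, nat_lit 28780, nat_lit 24754, nat_lit 20486, nat_lit 16393, nat_lit 12304, nat_lit 8193, nat_lit 4097, nat_lit 2]⟩, ⟨[nat_lit 0xfc3a6f4526f2146792d956c1568a6ee30820], [nat_lit 77824, nat_lit 90112, nat_lit 98304, nat_lit 102400, nat_lit 178176, nat_lit 175104, nat_lit 169984, nat_lit 166912, nat_lit 162816, nat_lit 156416, nat_lit 152864, nat_lit 151504, nat_lit 146312, nat_lit 140432, nat_lit 138000, nat_lit 132489, nat_lit 128, nat_lit 4224, nat_lit 8320, nat_lit 13152, nat_lit 20384, nat_lit 21184, nat_lit 32512, nat_lit 35328, nat_lit 43008, nat_lit 41798, nat_lit 37160, nat_lit 32953, nat_lit 29036, nat_lit 24607, nat_lit 20753, nat_lit 16388, nat_lit 12320, nat_lit 327680]⟩)⟩, ⟨[], [], nat_lit 0, (idE, idE)⟩⟩,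
  .stab (nat_lit 98) (idE, idE) ⟨(nat_lit 0), ⟨[nat_lit 14, nat_lit 13, nat_lit 14, nat_lit 15, nat_lit 16, nat_lit 12], [], (nat_lit 98), (⟨[nat_lit 0xe444d754a851b1ed346e9822a499ecb70820], [nat_lit 81920, nat_lit 86016, nat_lit 90112, nat_lit 106496, nat_lit 174080, nat_lit 167680, nat_lit 161792, nat_lit 156224, nat_lit 152544, nat_lit 150960, nat_lit 144032, nat_lit 140076, nat_lit 138636, nat_lit 132398, nat_lit 318, nat_lit 4100, nat_lit 8504, nat_lit 15456, nat_lit 20384, nat_lit 23104, nat_lit 26624, nat_lit 30720, nat_lit 35840, nat_lit 39936, nat_lit 43008, nat_lit 41819, nat_lit 37298, nat_lit 32842, nat_lit 29195, nat_lit 24895, nat_lit 20506, nat_lit 16396, nat_lit 12306, nat_lit 8194, nat_lit 4100]⟩, ⟨[nat_lit 0xfa565f536d0ab172726f129c649a28f30820], [nat_lit 65536, nat_lit 69632, nat_lit 73728, nat_lit 81920, nat_lit 175104, nat_lit 171520, nat_lit 161408, nat_lit 159232, nat_lit 153344, nat_lit 148256, nat_lit 144528, nat_lit 139744, nat_lit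 136438, nat_lit 134715, nat_lit 2366, nat_lit 4100, nat_lit 10552, nat_lit 15664, nat_lit 20032, nat_lit 22592, nat_lit 26624, nat_lit 31232, nat_lit 36352, nat_lit 37888, nat_lit 43008, nat_lit 41738, nat_lit 38310, nat_lit 33872, nat_lit 29254, nat_lit 24736, nat_lit 20608, nat_lit 16386, nat_lit 12290, nat_lit 8194, nat_lit 4100, nat_lit 327680]⟩)⟩, ⟨[], [], nat_lit 0, (idE, idE)⟩⟩]

theorem dcPr47 : D2.Rng dxP 47 52 := D2.Rng.of (l := dcPc47) (by decide +kernel)

def dcPc52 : List (D2.Cert (El × El)) := [.stab (nat_lit 98) (idE, idE) ⟨(nat_lit 0), ⟨[nat_lit 15, nat_lit 17, nat_lit 20, nat_lit 17, nat_lit 13, nat_lit 18], [], (nat_lit 98), (⟨[nat_lit 0x2d7b77742a8398a36d22b64d574c9f620820], [nat_lit 86016, nat_lit 90112, nat_lit 102400, nat_lit 178176, nat_lit 174080, nat_lit 170496, nat_lit 166400, nat_lit 160896, nat_lit 157248, nat_lit 152160, nat_lit 150864, nat_lit 144840, nat_lit 140092, nat_lit 139146, nat_lit 134939, nat_lit 1024, nat_lit 5120,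 nat_lit 9216, nat_lit 16032, nat_lit 19456, nat_lit 22400, nat_lit 24704, nat_lit 28928, nat_lit 35328, nat_lit 37888, nat_lit 37248, nat_lit 32885, nat_lit 29256, nat_lit 24736, nat_lit 20552, nat_lit 16393, nat_lit 12305, nat_lit 327680]⟩, ⟨[nat_lit 0x55609f791362b95441db732eac1c67090820], [nat_lit 65536, nat_lit 69632, nat_lit 73728, nat_lit 86016, nat_lit 90112, nat_lit 106496, nat_lit 174080, nat_lit 169472, nat_lit 164352, nat_lit 160128, nat_lit 155968, nat_lit 153056, nat_lit 147664, nat_lit 145648, nat_lit 141732, nat_lit 138490, nat_lit 134021, nat_lit 1972, nat_lit 6068, nat_lit 13568, nat_lit 18400, nat_lit 29696, nat_lit 36352, nat_lit 37888, nat_lit 43008, nat_lit 41556, nat_lit 38131, nat_lit 32990, nat_lit 28997, nat_lit 24628, nat_lit 20557, nat_lit 16388, nat_lit 12325, nat_lit 8200, nat_lit 327680]⟩)⟩, ⟨[], [], nat_lit 0, (idE, idE)⟩⟩,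
  .stab (nat_lit 98) (idE, idE) ⟨(nat_lit 0), ⟨[nat_lit 19, nat_lit 14, nat_lit 19, nat_lit 11, nat_lit 20], [], (nat_lit 98), (⟨[nat_lit 0x1881b84da4f455d0a45ab62af3298e320820], [nat_lit 65536, nat_lit 69632, nat_lit 73728, nat_lit 77824, nat_lit 90112, nat_lit 94208, nat_lit 98304, nat_lit 178176, nat_lit 168960, nat_lit 165376, nat_lit 162560, nat_lit 159104, nat_lit 155040, nat_lit 148384, nat_lit 144896, nat_lit 140708, nat_lit 137084, nat_lit 132815, nat_lit 2, nat_lit 5856, nat_lit 9952, nat_lit 12304, nat_lit 20192, nat_lit 22336, nat_lit 24960, nat_lit 31744, nat_lit 35328, nat_lit 37888, nat_lit 41889, nat_lit 38260, nat_lit 34013, nat_lit 28684, nat_lit 24609, nat_lit 20505, nat_lit 16393, nat_lit 12304, nat_lit 8193, nat_lit 4097, nat_lit 2]⟩, ⟨[nat_lit 0xf00f005a12a6b98f84a71bd2b6398a418820], [nat_lit 86016, nat_lit 90112, nat_lit 94208, nat_lit 106496, nat_lit 174080, nat_lit 171008, nat_lit 166912, nat_lit 162176, nat_lit 156416, nat_lit 154816,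 nat_lit 151024, nat_lit 146792, nat_lit 141000, nat_lit 136406, nat_lit 131085, nat_lit 1972, nat_lit 6068, nat_lit 8200, nat_lit 12304, nat_lit 18336, nat_lit 22592, nat_lit 32000, nat_lit 36352, nat_lit 41708, nat_lit 38266, nat_lit 33001, nat_lit 28933, nat_lit 24728, nat_lit 20555, nat_lit 16396, nat_lit 12304, nat_lit 8200, nat_lit 327680]⟩)⟩, ⟨[], [], nat_lit 0, (idE, idE)⟩⟩,
  .prod [] [nat_lit 50, nat_lit 53, nat_lit 51, nat_lit 51],
  .prod [] [nat_lit 50, nat_lit 52, nat_lit 54, nat_lit 54],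
  .prod [] [nat_lit 55, nat_lit 51, nat_lit 54, nat_lit 51],
  .prod [] [nat_lit 52, nat_lit 55, nat_lit 54, nat_lit 51]]

theorem dcPr52 : D2.Rng dxP 52 58 := D2.Rng.of (l := dcPc52) (by decide +kernel)

def dcPc58 : List (D2.Cert (El × El)) := [.prod [] [nat_lit 52, nat_lit 51, nat_lit 54, nat_lit 53],
  .edge (⟨[nat_lit 0xaa6a05c684ba0f26386f342ca4cea568820], [nat_lit 77824, nat_lit 81920, nat_lit 90112, nat_lit 178176, nat_lit 168448, nat_lit 166912, nat_lit 162816, nat_lit 152256, nat_lit 151008, nat_lit 145312, nat_lit 139936, nat_lit 136064, nat_lit 132646, nat_lit 256, nat_lit 4352, nat_lit 8448, nat_lit 12512, nat_lit 16512, nat_lit 24128, nat_lit 28032, nat_lit 28928, nat_lit 34304, nat_lit 41839, nat_lit 38096, nat_lit 32915, nat_lit 28707, nat_lit 25647, nat_lit 20627, nat_lit 16416, nat_lit 12293]⟩, ⟨[nat_lit 0x6f65a071d7679a8822aecab4a98ca0398820], [nat_lit 65536, nat_lit 69632, nat_lit 73728, nat_lit 81920, nat_lit 98304, nat_lit 106496, nat_lit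 171520, nat_lit 164864, nat_lit 160000, nat_lit 156224, nat_lit 154272, nat_lit 149552, nat_lit 145472, nat_lit 141696, nat_lit 138796, nat_lit 131796, nat_lit 3072, nat_lit 7168, nat_lit 11264, nat_lit 12864, nat_lit 20128, nat_lit 23104, nat_lit 24832, nat_lit 29952, nat_lit 33792, nat_lit 38912, nat_lit 43008, nat_lit 37216, nat_lit 32966, nat_lit 28934, nat_lit 24704, nat_lit 21017, nat_lit 16417, nat_lit 12295]⟩) ⟨(nat_lit 1), ⟨[nat_lit 47, nat_lit 36, nat_lit 35], [], (nat_lit 82), (⟨[nat_lit 0xbb72e74cac42ae17351137358351e3578820], [nat_lit 65536, nat_lit 69632, nat_lit 73728, nat_lit 77824, nat_lit 81920, nat_lit 86016, nat_lit 90112, nat_lit 94208, nat_lit 98304, nat_lit 102400, nat_lit 106496, nat_lit 178176, nat_lit 171520, nat_lit 165376, nat_lit 162048, nat_lit 156672, nat_lit 153696, nat_lit 148736, nat_lit 145112, nat_lit 140064, nat_lit 135986, nat_lit 133608, nat_lit 3034, nat_lit 4100, nat_lit 12136, nat_lit 15312, nat_lit 19008, nat_lit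 21632, nat_lit 24704, nat_lit 30720, nat_lit 33280, nat_lit 38912, nat_lit 41419, nat_lit 36918, nat_lit 32878, nat_lit 28790, nat_lit 24589, nat_lit 20486, nat_lit 16399, nat_lit 12294, nat_lit 8200, nat_lit 4100, nat_lit 327680]⟩, ⟨[nat_lit 0xafc6cf756044ac6a934f72c5969be8640820], [nat_lit 77824, nat_lit 81920, nat_lit 86016, nat_lit 98304, nat_lit 106496, nat_lit 178176, nat_lit 173056, nat_lit 169984, nat_lit 166656, nat_lit 163328, nat_lit 159232, nat_lit 153024, nat_lit 149760, nat_lit 145144, nat_lit 141548, nat_lit 135844, nat_lit 134563, nat_lit 986, nat_lit 4100, nat_lit 8448, nat_lit 13264, nat_lit 17408, nat_lit 21504, nat_lit 28416, nat_lit 29696, nat_lit 36352, nat_lit 43008, nat_lit 41910, nat_lit 37334, nat_lit 33471, nat_lit 29304, nat_lit 24894, nat_lit 20624, nat_lit 16416, nat_lit 12294, nat_lit 8200, nat_lit 4100, nat_lit 327680]⟩)⟩, ⟨[nat_lit 20, nat_lit 18, nat_lit 20], [], (nat_lit 98), (⟨[nat_lit 0x178eb85d4d22d911a24f06bc6e9a89760820],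 [nat_lit 77824, nat_lit 86016, nat_lit 175104, nat_lit 164608, nat_lit 161152, nat_lit 155840, nat_lit 151616, nat_lit 149168, nat_lit 146160, nat_lit 140368, nat_lit 135382, nat_lit 131292, nat_lit 2, nat_lit 4100, nat_lit 10552, nat_lit 15024, nat_lit 20448, nat_lit 24512, nat_lit 24960, nat_lit 31488, nat_lit 33280, nat_lit 43008, nat_lit 41398, nat_lit 37255, nat_lit 33372, nat_lit 28727, nat_lit 24860, nat_lit 20624, nat_lit 16388, nat_lit 12293, nat_lit 8202, nat_lit 4100, nat_lit 2, nat_lit 327680]⟩, ⟨[nat_lit 0x14bbd89c8703d5ea620b6bb8c96d08b88820], [nat_lit 77824, nat_lit 81920, nat_lit 90112, nat_lit 94208, nat_lit 102400, nat_lit 106496, nat_lit 178176, nat_lit 173056, nat_lit 170496, nat_lit 165120, nat_lit 161664, nat_lit 157760, nat_lit 152160, nat_lit 148304, nat_lit 144784, nat_lit 139452, nat_lit 135260, nat_lit 134628, nat_lit 2, nat_lit 7904, nat_lit 12000, nat_lit 16176, nat_lit 19712, nat_lit 22144, nat_lit 25088, nat_lit 29184, nat_lit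 34304, nat_lit 38912, nat_lit 43008, nat_lit 41665, nat_lit 37177, nat_lit 32935, nat_lit 29014, nat_lit 24624, nat_lit 20481, nat_lit 16459, nat_lit 12306, nat_lit 8193, nat_lit 4097, nat_lit 2, nat_lit 327680]⟩)⟩⟩,
  .edge (⟨[nat_lit 0x27d22733e743c9b74a963896ccac1c440820], [nat_lit 81920, nat_lit 86016, nat_lit 175104, nat_lit 168448, nat_lit 165888, nat_lit 160000, nat_lit 156480, nat_lit 154976, nat_lit 148096, nat_lit 143688, nat_lit 142240, nat_lit 135336, nat_lit 131916, nat_lit 12336, nat_lit 18432, nat_lit 22528, nat_lit 25600, nat_lit 30464, nat_lit 34816, nat_lit 38912, nat_lit 43008, nat_lit 41024, nat_lit 37085, nat_lit 32782, nat_lit 28724, nat_lit 24629, nat_lit 12550, nat_lit 327680]⟩, ⟨[nat_lit 0x6caf3fb9e4d9bcd4aba04b32255a46a40820], [nat_lit 77824, nat_lit 81920, nat_lit 86016, nat_lit 94208, nat_lit 102400, nat_lit 106496, nat_lit 178176, nat_lit 174080, nat_lit 169472, nat_lit 167424, nat_lit 161792, nat_lit 155776, nat_lit 154528,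 nat_lit 146992, nat_lit 139844, nat_lit 137720, nat_lit 134937, nat_lit 1896, nat_lit 5992, nat_lit 10088, nat_lit 13920, nat_lit 17920, nat_lit 22400, nat_lit 28160, nat_lit 32256, nat_lit 36352, nat_lit 43008, nat_lit 41166, nat_lit 37128, nat_lit 32904, nat_lit 28768, nat_lit 24712, nat_lit 20557, nat_lit 16395, nat_lit 327680]⟩) ⟨(nat_lit 1), ⟨[nat_lit 58, nat_lit 53], [nat_lit 56, nat_lit 53], (nat_lit 119), (⟨[nat_lit 0xa6a5006c4947c2e599eceab2465212358820], [nat_lit 65536, nat_lit 69632, nat_lit 73728, nat_lit 77824, nat_lit 86016, nat_lit 94208, nat_lit 98304, nat_lit 175104, nat_lit 169984, nat_lit 166912, nat_lit 163584, nat_lit 157632, nat_lit 152256, nat_lit 149088, nat_lit 144480, nat_lit 142336, nat_lit 137972, nat_lit 133485, nat_lit 2112, nat_lit 6208, nat_lit 10304, nat_lit 13264, nat_lit 19328, nat_lit 22592, nat_lit 26752, nat_lit 32000, nat_lit 39936, nat_lit 43008, nat_lit 41152, nat_lit 37237, nat_lit 32960, nat_lit 28678, nat_lit 16392,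 nat_lit 12290]⟩, ⟨[nat_lit 0x5fc6c0bcd841a50b2c9d4859a689df550820], [nat_lit 77824, nat_lit 94208, nat_lit 98304, nat_lit 175104, nat_lit 169984, nat_lit 167680, nat_lit 163584, nat_lit 158400, nat_lit 152384, nat_lit 148192, nat_lit 147056, nat_lit 139416, nat_lit 137412, nat_lit 132528, nat_lit 3526, nat_lit 4100, nat_lit 11712, nat_lit 12544, nat_lit 20192, nat_lit 23296, nat_lit 26240, nat_lit 36352, nat_lit 43008, nat_lit 41723, nat_lit 36930, nat_lit 32834, nat_lit 28714, nat_lit 24894, nat_lit 20498, nat_lit 16421, nat_lit 12355, nat_lit 8194, nat_lit 4100]⟩)⟩, ⟨[nat_lit 35, nat_lit 35, nat_lit 43], [], (nat_lit 84), (⟨[nat_lit 0x35053091db7896cc33e93ac08e5256340820], [nat_lit 77824, nat_lit 81920, nat_lit 90112, nat_lit 94208, nat_lit 98304, nat_lit 171520, nat_lit 163328, nat_lit 159296, nat_lit 155584, nat_lit 148912, nat_lit 145528, nat_lit 141832, nat_lit 138004, nat_lit 133605, nat_lit 2176, nat_lit 6272, nat_lit 10368, nat_lit 14592, nat_lit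 19808, nat_lit 22016, nat_lit 25984, nat_lit 30976, nat_lit 34304, nat_lit 41926, nat_lit 38047, nat_lit 32852, nat_lit 28730, nat_lit 24606, nat_lit 20623, nat_lit 16429, nat_lit 12304]⟩, ⟨[nat_lit 0x1e128843a0453cf1648cb2a5b3a5ec3a8820], [nat_lit 65536, nat_lit 69632, nat_lit 73728, nat_lit 81920, nat_lit 94208, nat_lit 168448, nat_lit 165888, nat_lit 162432, nat_lit 157056, nat_lit 153696, nat_lit 149200, nat_lit 146096, nat_lit 141504, nat_lit 136378, nat_lit 133416, nat_lit 3944, nat_lit 8040, nat_lit 12136, nat_lit 12672, nat_lit 18816, nat_lit 24384, nat_lit 26112, nat_lit 29440, nat_lit 37888, nat_lit 41757, nat_lit 37279, nat_lit 33360, nat_lit 28793, nat_lit 24721, nat_lit 20504, nat_lit 16424, nat_lit 12291, nat_lit 327680]⟩)⟩⟩]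

theorem dcPr58 : D2.Rng dxP 58 61 := D2.Rng.of (l := dcPc58) (by decide +kernel)

def dcPc61 : List (D2.Cert (El × El)) := [.edge (⟨[nat_lit 0x6cafc0b310590e1371ae9591b4aa8ef88820], [nat_lit 65536, nat_lit 69632, nat_lit 73728, nat_lit 77824, nat_lit 81920, nat_lit 86016, nat_lit 98304, nat_lit 106496, nat_lit 178176, nat_lit 174080, nat_lit 171008, nat_lit 160512, nat_lit 156992, nat_lit 153568, nat_lit 151088, nat_lit 145664, nat_lit 142188, nat_lit 136748, nat_lit 131459, nat_lit 2056, nat_lit 6152, nat_lit 10248, nat_lit 14848, nat_lit 16864, nat_lit 24000, nat_lit 26624, nat_lit 29184, nat_lit 35840, nat_lit 38912, nat_lit 43008, nat_lit 41275, nat_lit 36936, nat_lit 33000, nat_lit 28735, nat_lit 24591, nat_lit 20631, nat_lit 16527, nat_lit 327680]⟩, ⟨[nat_lit 0xf9933051acd94473bade565127aa08e80820], [nat_lit 65536, nat_lit 69632, nat_lit 73728, nat_lit 77824, nat_lit 86016, nat_lit 167168, nat_lit 163584, nat_lit 159360, nat_lit 154336, nat_lit 148192,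 nat_lit 146296, nat_lit 142460, nat_lit 136780, nat_lit 133385, nat_lit 512, nat_lit 4608, nat_lit 8704, nat_lit 14752, nat_lit 20384, nat_lit 20864, nat_lit 25088, nat_lit 32256, nat_lit 34304, nat_lit 38912, nat_lit 41216, nat_lit 36904, nat_lit 33951, nat_lit 28975, nat_lit 24623, nat_lit 20546, nat_lit 16388, nat_lit 12325]⟩) ⟨(nat_lit 1), ⟨[nat_lit 50, nat_lit 55], [], (nat_lit 120), (⟨[nat_lit 0x339600b29b043e74aae4c194e44baf130820], [nat_lit 65536, nat_lit 69632, nat_lit 73728, nat_lit 102400, nat_lit 178176, nat_lit 169984, nat_lit 164608, nat_lit 159872, nat_lit 159424, nat_lit 154816, nat_lit 150704, nat_lit 143584, nat_lit 139380, nat_lit 136710, nat_lit 133080, nat_lit 1896, nat_lit 5992, nat_lit 10088, nat_lit 13152, nat_lit 18016, nat_lit 20544, nat_lit 27648, nat_lit 31488, nat_lit 34304, nat_lit 41684, nat_lit 37231, nat_lit 33367, nat_lit 29769, nat_lit 24616, nat_lit 20544, nat_lit 16517]⟩, ⟨[nat_lit 0x3f53601d2b65960f744c96a24724d8ab8820],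 [nat_lit 94208, nat_lit 173056, nat_lit 165632, nat_lit 162176, nat_lit 157120, nat_lit 153984, nat_lit 148624, nat_lit 145304, nat_lit 141776, nat_lit 138204, nat_lit 131753, nat_lit 2176, nat_lit 6272, nat_lit 10368, nat_lit 13888, nat_lit 20352, nat_lit 21312, nat_lit 25216, nat_lit 31744, nat_lit 35328, nat_lit 43008, nat_lit 40975, nat_lit 36928, nat_lit 32991, nat_lit 29025, nat_lit 24616, nat_lit 20505, nat_lit 16387, nat_lit 12324, nat_lit 327680]⟩)⟩, ⟨[nat_lit 36, nat_lit 38, nat_lit 38], [], (nat_lit 82), (⟨[nat_lit 0xcfac90a1e0c35e2e912cf2cdb51ad4848820], [nat_lit 65536, nat_lit 69632, nat_lit 73728, nat_lit 86016, nat_lit 94208, nat_lit 102400, nat_lit 106496, nat_lit 174080, nat_lit 169984, nat_lit 167424, nat_lit 160512, nat_lit 158528, nat_lit 154752, nat_lit 150640, nat_lit 143824, nat_lit 143128, nat_lit 136594, nat_lit 132316, nat_lit 2, nat_lit 4100, nat_lit 11376, nat_lit 13552, nat_lit 17760, nat_lit 22400, nat_lit 27264, nat_lit 29696,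 nat_lit 33792, nat_lit 37888, nat_lit 41133, nat_lit 37139, nat_lit 33505, nat_lit 28944, nat_lit 24599, nat_lit 20635, nat_lit 16387, nat_lit 12320, nat_lit 8195, nat_lit 4100, nat_lit 2, nat_lit 327680]⟩, ⟨[nat_lit 0xbed448a997245a256bc6e99157a1d3060820], [nat_lit 77824, nat_lit 90112, nat_lit 94208, nat_lit 98304, nat_lit 175104, nat_lit 171520, nat_lit 167168, nat_lit 161664, nat_lit 155776, nat_lit 153440, nat_lit 150448, nat_lit 144624, nat_lit 143100, nat_lit 135600, nat_lit 133513, nat_lit 2, nat_lit 4100, nat_lit 10552, nat_lit 15024, nat_lit 17440, nat_lit 23936, nat_lit 25856, nat_lit 29952, nat_lit 33280, nat_lit 43008, nat_lit 41634, nat_lit 37925, nat_lit 32980, nat_lit 28945, nat_lit 24706, nat_lit 21509, nat_lit 16643, nat_lit 12293, nat_lit 8202, nat_lit 4100, nat_lit 2, nat_lit 327680]⟩)⟩⟩,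
  .edge (⟨[nat_lit 0xa595f74d6762225a5ea3534d02264fb0820], [nat_lit 65536, nat_lit 69632, nat_lit 73728, nat_lit 90112, nat_lit 94208, nat_lit 98304, nat_lit 102400, nat_lit 106496, nat_lit 173056, nat_lit 169984, nat_lit 166144, nat_lit 161024, nat_lit 158976, nat_lit 153024, nat_lit 148832, nat_lit 144808, nat_lit 139508, nat_lit 136348, nat_lit 133400, nat_lit 2304, nat_lit 6400, nat_lit 10496, nat_lit 12976, nat_lit 19648, nat_lit 24064, nat_lit 26752, nat_lit 38912, nat_lit 41030, nat_lit 37120, nat_lit 32960, nat_lit 28992, nat_lit 24832, nat_lit 20495, nat_lit 16392, nat_lit 12289, nat_lit 327680]⟩, ⟨[nat_lit 0xbb72e7a164e79e351ad28bcc8c836c650820], [nat_lit 65536, nat_lit 69632, nat_lit 73728, nat_lit 81920, nat_lit 90112, nat_lit 102400, nat_lit 178176, nat_lit 175104, nat_lit 170496, nat_lit 165120, nat_lit 162944, nat_lit 156928, nat_lit 151936, nat_lit 148752, nat_lit 145416, nat_lit 139528, nat_lit 137898, nat_lit 131960, nat_lit 2, nat_lit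 7324, nat_lit 12048, nat_lit 15504, nat_lit 17152, nat_lit 21632, nat_lit 28160, nat_lit 31232, nat_lit 35840, nat_lit 39936, nat_lit 43008, nat_lit 41710, nat_lit 36893, nat_lit 32831, nat_lit 28714, nat_lit 24636, nat_lit 20505, nat_lit 16397, nat_lit 12292, nat_lit 8201, nat_lit 4097, nat_lit 2, nat_lit 327680]⟩) ⟨(nat_lit 1), ⟨[nat_lit 57, nat_lit 54], [], (nat_lit 122), (⟨[nat_lit 0xc05c6fadae38b5648312743cd32c9caa0820], [nat_lit 77824, nat_lit 90112, nat_lit 98304, nat_lit 102400, nat_lit 178176, nat_lit 175104, nat_lit 169984, nat_lit 166144, nat_lit 161664, nat_lit 157824, nat_lit 155520, nat_lit 150208, nat_lit 145288, nat_lit 140628, nat_lit 138986, nat_lit 134380, nat_lit 2, nat_lit 4100, nat_lit 10728, nat_lit 14784, nat_lit 20256, nat_lit 20928, nat_lit 27520, nat_lit 30720, nat_lit 35328, nat_lit 37888, nat_lit 43008, nat_lit 41579, nat_lit 38166, nat_lit 32910, nat_lit 28695, nat_lit 25126, nat_lit 20483, nat_lit 16394, nat_lit 12291, nat_lit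 8195, nat_lit 4100, nat_lit 2, nat_lit 327680]⟩, ⟨[nat_lit 0xaa9f9f9168a35d31811151b1ed3da6b70820], [nat_lit 65536, nat_lit 69632, nat_lit 73728, nat_lit 77824, nat_lit 86016, nat_lit 90112, nat_lit 102400, nat_lit 106496, nat_lit 178176, nat_lit 173056, nat_lit 170496, nat_lit 166656, nat_lit 160128, nat_lit 159616, nat_lit 153888, nat_lit 149584, nat_lit 146048, nat_lit 139892, nat_lit 136242, nat_lit 133096, nat_lit 2, nat_lit 4100, nat_lit 11376, nat_lit 13408, nat_lit 18336, nat_lit 21312, nat_lit 24960, nat_lit 31744, nat_lit 33280, nat_lit 39936, nat_lit 41532, nat_lit 36881, nat_lit 32984, nat_lit 28782, nat_lit 24595, nat_lit 20482, nat_lit 16397, nat_lit 12306, nat_lit 8195, nat_lit 4100, nat_lit 2, nat_lit 327680]⟩)⟩, ⟨[nat_lit 14, nat_lit 17, nat_lit 19, nat_lit 11], [], (nat_lit 98), (⟨[nat_lit 0x9accf02beeb32acdaa1c498e32a312780820], [nat_lit 65536, nat_lit 69632, nat_lit 73728, nat_lit 81920, nat_lit 94208, nat_lit 173056, nat_lit 168448,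 nat_lit 167424, nat_lit 162304, nat_lit 159296, nat_lit 154080, nat_lit 149472, nat_lit 145136, nat_lit 142056, nat_lit 138302, nat_lit 132666, nat_lit 2, nat_lit 5904, nat_lit 10000, nat_lit 15296, nat_lit 18240, nat_lit 23808, nat_lit 26368, nat_lit 32000, nat_lit 34304, nat_lit 39936, nat_lit 43008, nat_lit 41711, nat_lit 38357, nat_lit 32849, nat_lit 28695, nat_lit 24638, nat_lit 20549, nat_lit 16396, nat_lit 12309, nat_lit 8193, nat_lit 4097, nat_lit 2, nat_lit 327680]⟩, ⟨[nat_lit 0xe881484c5d720ce59d10f6da0a5b2b230820], [nat_lit 86016, nat_lit 106496, nat_lit 178176, nat_lit 173056, nat_lit 168448, nat_lit 163072, nat_lit 158464, nat_lit 152096, nat_lit 147600, nat_lit 145184, nat_lit 139368, nat_lit 135238, nat_lit 132460, nat_lit 8, nat_lit 4104, nat_lit 8200, nat_lit 15360, nat_lit 17504, nat_lit 22208, nat_lit 24960, nat_lit 32000, nat_lit 35840, nat_lit 38912, nat_lit 43008, nat_lit 41430, nat_lit 36927, nat_lit 33901, nat_lit 28944, nat_lit 25630,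 nat_lit 20630, nat_lit 16421, nat_lit 327680]⟩)⟩⟩]

theorem dcPr61 : D2.Rng dxP 61 63 := D2.Rng.of (l := dcPc61) (by decide +kernel)

def dcPc63 : List (D2.Cert (El × El)) := [.stab (nat_lit 118) (idE, idE) ⟨(nat_lit 0), ⟨[nat_lit 37, nat_lit 47, nat_lit 47, nat_lit 46, nat_lit 46, nat_lit 46], [], (nat_lit 118), (⟨[nat_lit 0x906a505da6e214c344aed4d1907d55138820], [nat_lit 77824, nat_lit 86016, nat_lit 90112, nat_lit 94208, nat_lit 98304, nat_lit 178176, nat_lit 173056, nat_lit 168448, nat_lit 164864, nat_lit 162176, nat_lit 155712, nat_lit 151584, nat_lit 151408, nat_lit 143560, nat_lit 142652, nat_lit 136568, nat_lit 132120, nat_lit 128, nat_lit 4224, nat_lit 8320, nat_lit 13456, nat_lit 17696, nat_lit 23424, nat_lit 27136, nat_lit 29440, nat_lit 34816, nat_lit 39936, nat_lit 43008, nat_lit 41187, nat_lit 37248, nat_lit 32960, nat_lit 29043, nat_lit 24888, nat_lit 20556, nat_lit 16420, nat_lit 12295]⟩, ⟨[nat_lit 0x339600654cb550ae1c613792c93a1b790820],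 [nat_lit 86016, nat_lit 98304, nat_lit 106496, nat_lit 178176, nat_lit 175104, nat_lit 168960, nat_lit 167680, nat_lit 162432, nat_lit 155904, nat_lit 152832, nat_lit 151056, nat_lit 146336, nat_lit 142220, nat_lit 135248, nat_lit 133773, nat_lit 32, nat_lit 4128, nat_lit 8224, nat_lit 15344, nat_lit 17472, nat_lit 27520, nat_lit 29952, nat_lit 33280, nat_lit 39936, nat_lit 43008, nat_lit 41760, nat_lit 37280, nat_lit 33478, nat_lit 28797, nat_lit 24628, nat_lit 20490, nat_lit 16389, nat_lit 12322]⟩)⟩, ⟨[], [], nat_lit 0, (idE, idE)⟩⟩,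
  .prod [] [nat_lit 52, nat_lit 52, nat_lit 63, nat_lit 63],
  .prod [] [nat_lit 52, nat_lit 51, nat_lit 64, nat_lit 64],
  .prod [] [nat_lit 52, nat_lit 64, nat_lit 64, nat_lit 53],
  .prod [] [nat_lit 63, nat_lit 64, nat_lit 63, nat_lit 53],
  .prod [] [nat_lit 65, nat_lit 67, nat_lit 50, nat_lit 65],
  .defn]

theorem dcPr63 : D2.Rng dxP 63 70 := D2.Rng.of (l := dcPc63) (by decide +kernel)

def dcPc70 : List (D2.Cert (El × El)) := [.stab (nat_lit 138) (idE, idE) ⟨(nat_lit 0), ⟨[nat_lit 46, nat_lit 45, nat_lit 36], [], (nat_lit 138), (⟨[nat_lit 0xa6a5ff5bef08d90c929d4ab53338cc428820], [nat_lit 86016, nat_lit 94208, nat_lit 98304, nat_lit 102400, nat_lit 106496, nat_lit 171520, nat_lit 165120, nat_lit 161792, nat_lit 156800, nat_lit 153632, nat_lit 151280, nat_lit 143456, nat_lit 140944, nat_lit 136754, nat_lit 131196, nat_lit 2, nat_lit 4100, nat_lit 8320, nat_lit 12976, nat_lit 16512, nat_lit 22656, nat_lit 25472, nat_lit 29696, nat_lit 35328, nat_lit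 39936, nat_lit 41527, nat_lit 37263, nat_lit 32882, nat_lit 28687, nat_lit 24887, nat_lit 20765, nat_lit 16399, nat_lit 12295, nat_lit 8200, nat_lit 4100, nat_lit 2]⟩, ⟨[nat_lit 0xb472171daf43a9f183904995a95b246a8820], [nat_lit 77824, nat_lit 81920, nat_lit 94208, nat_lit 173056, nat_lit 168448, nat_lit 165376, nat_lit 162304, nat_lit 157632, nat_lit 153120, nat_lit 150944, nat_lit 144384, nat_lit 139412, nat_lit 136506, nat_lit 134942, nat_lit 2, nat_lit 5904, nat_lit 10000, nat_lit 12672, nat_lit 17152, nat_lit 21504, nat_lit 26496, nat_lit 30464, nat_lit 34304, nat_lit 39936, nat_lit 43008, nat_lit 41135, nat_lit 37241, nat_lit 33326, nat_lit 29758, nat_lit 24838, nat_lit 20497, nat_lit 16385, nat_lit 12801, nat_lit 8193, nat_lit 4097, nat_lit 2]⟩)⟩, ⟨[], [], nat_lit 0, (idE, idE)⟩⟩,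
  .stab (nat_lit 138) (idE, idE) ⟨(nat_lit 0), ⟨[nat_lit 37, nat_lit 45, nat_lit 35], [], (nat_lit 138), (⟨[nat_lit 0x447de8658a8ba5c690e13aa9e7a356488820], [nat_lit 86016, nat_lit 90112, nat_lit 94208, nat_lit 98304, nat_lit 102400, nat_lit 106496, nat_lit 178176, nat_lit 174080, nat_lit 171008, nat_lit 166400, nat_lit 161536, nat_lit 158592, nat_lit 153600, nat_lit 150144, nat_lit 145952, nat_lit 141980, nat_lit 138620, nat_lit 133080, nat_lit 3526, nat_lit 4100, nat_lit 11712, nat_lit 15376, nat_lit 19904, nat_lit 22144, nat_lit 27008, nat_lit 32256, nat_lit 35328, nat_lit 39936, nat_lit 41213, nat_lit 37238, nat_lit 33533, nat_lit 28999, nat_lit 24578, nat_lit 21012, nat_lit 16386, nat_lit 12422, nat_lit 8194, nat_lit 4100, nat_lit 327680]⟩, ⟨[nat_lit 0x2418b87ae17b4588a39529a5b538cc428820], [nat_lit 65536, nat_lit 69632, nat_lit 73728, nat_lit 77824, nat_lit 94208, nat_lit 106496, nat_lit 169984, nat_lit 166144, nat_lit 160640, nat_lit 156352, nat_lit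 153216, nat_lit 147568, nat_lit 146504, nat_lit 141336, nat_lit 136670, nat_lit 135009, nat_lit 2560, nat_lit 6656, nat_lit 10752, nat_lit 14768, nat_lit 16896, nat_lit 23616, nat_lit 26240, nat_lit 30208, nat_lit 35840, nat_lit 41848, nat_lit 38390, nat_lit 34011, nat_lit 28963, nat_lit 25656, nat_lit 20501, nat_lit 12806]⟩)⟩, ⟨[], [], nat_lit 0, (idE, idE)⟩⟩,
  .stab (nat_lit 138) (idE, idE) ⟨(nat_lit 0), ⟨[nat_lit 43, nat_lit 44, nat_lit 38], [], (nat_lit 138), (⟨[nat_lit 0xb47de73d1908b8d7912cf6d4b358d0a48820], [nat_lit 65536, nat_lit 69632, nat_lit 73728, nat_lit 81920, nat_lit 90112, nat_lit 94208, nat_lit 175104, nat_lit 171520, nat_lit 167680, nat_lit 162688, nat_lit 157888, nat_lit 151936, nat_lit 151280, nat_lit 146352, nat_lit 140712, nat_lit 137298, nat_lit 131680, nat_lit 1972, nat_lit 6068, nat_lit 10864, nat_lit 12864, nat_lit 17088, nat_lit 22720, nat_lit 27264, nat_lit 31488, nat_lit 35840, nat_lit 37888, nat_lit 41100, nat_lit 37188, nat_lit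 33535, nat_lit 29055, nat_lit 24705, nat_lit 20767, nat_lit 16391, nat_lit 12549, nat_lit 8202]⟩, ⟨[nat_lit 0x4e2b471a969658b1812ae9bcd4b9e4d40820], [nat_lit 65536, nat_lit 69632, nat_lit 73728, nat_lit 86016, nat_lit 90112, nat_lit 102400, nat_lit 106496, nat_lit 175104, nat_lit 171008, nat_lit 164864, nat_lit 161664, nat_lit 157376, nat_lit 155072, nat_lit 148336, nat_lit 146168, nat_lit 140328, nat_lit 138294, nat_lit 135103, nat_lit 2, nat_lit 4100, nat_lit 10496, nat_lit 12976, nat_lit 16960, nat_lit 24000, nat_lit 26496, nat_lit 30720, nat_lit 33280, nat_lit 43008, nat_lit 41058, nat_lit 37263, nat_lit 32879, nat_lit 29184, nat_lit 24864, nat_lit 20738, nat_lit 16388, nat_lit 12295, nat_lit 8200, nat_lit 4100, nat_lit 2, nat_lit 327680]⟩)⟩, ⟨[], [], nat_lit 0, (idE, idE)⟩⟩,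
  .stab (nat_lit 138) (idE, idE) ⟨(nat_lit 0), ⟨[nat_lit 44, nat_lit 43, nat_lit 35], [], (nat_lit 138), (⟨[nat_lit 0xf3ca6fb9e4d8d9855a86979a74a920e40820], [nat_lit 65536, nat_lit 69632, nat_lit 73728, nat_lit 77824, nat_lit 86016, nat_lit 90112, nat_lit 173056, nat_lit 164096, nat_lit 163712, nat_lit 158272, nat_lit 154144, nat_lit 148480, nat_lit 144760, nat_lit 140032, nat_lit 135408, nat_lit 132668, nat_lit 2, nat_lit 4100, nat_lit 8448, nat_lit 15024, nat_lit 20384, nat_lit 21952, nat_lit 24704, nat_lit 28928, nat_lit 34304, nat_lit 37888, nat_lit 43008, nat_lit 41727, nat_lit 38266, nat_lit 33514, nat_lit 28751, nat_lit 24704, nat_lit 20500, nat_lit 16395, nat_lit 12295, nat_lit 8200, nat_lit 4100, nat_lit 2, nat_lit 327680]⟩, ⟨[nat_lit 0xaa6f6f342cd3beb1bb26448d68a49c550820], [nat_lit 77824, nat_lit 81920, nat_lit 86016, nat_lit 98304, nat_lit 169984, nat_lit 165888, nat_lit 160768, nat_lit 157184, nat_lit 154176, nat_lit 150416, nat_lit 143992,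 nat_lit 142480, nat_lit 137346, nat_lit 132419, nat_lit 3944, nat_lit 8040, nat_lit 12136, nat_lit 14448, nat_lit 20352, nat_lit 24192, nat_lit 25088, nat_lit 30208, nat_lit 36352, nat_lit 38912, nat_lit 41624, nat_lit 37987, nat_lit 32920, nat_lit 28724, nat_lit 25123, nat_lit 20625, nat_lit 16392, nat_lit 12291, nat_lit 327680]⟩)⟩, ⟨[], [], nat_lit 0, (idE, idE)⟩⟩]

theorem dcPr70 : D2.Rng dxP 70 74 := D2.Rng.of (l := dcPc70) (by decide +kernel)

def dcPc74 : List (D2.Cert (El × El)) := [.edge (⟨[nat_lit 0x871b17b2cee2d5a9940717a0d4ba88c98820], [nat_lit 65536, nat_lit 69632, nat_lit 73728, nat_lit 86016, nat_lit 90112, nat_lit 178176, nat_lit 175104, nat_lit 168448, nat_lit 165376, nat_lit 161408, nat_lit 157056, nat_lit 152672, nat_lit 147504, nat_lit 143592, nat_lit 143136, nat_lit 137944, nat_lit 133171, nat_lit 2, nat_lit 5856, nat_lit 9952, nat_lit 14912, nat_lit 19840, nat_lit 20992, nat_lit 30464, nat_lit 38912, nat_lit 43008, nat_lit 41584, nat_lit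 38206, nat_lit 32961, nat_lit 28976, nat_lit 24726, nat_lit 20501, nat_lit 16399, nat_lit 12292, nat_lit 8193, nat_lit 4097, nat_lit 2]⟩, ⟨[nat_lit 0xe88e47616286c0cabd6839b9674c88fb0820], [nat_lit 65536, nat_lit 69632, nat_lit 73728, nat_lit 77824, nat_lit 81920, nat_lit 86016, nat_lit 90112, nat_lit 94208, nat_lit 178176, nat_lit 173056, nat_lit 169984, nat_lit 164096, nat_lit 162560, nat_lit 158848, nat_lit 152576, nat_lit 147888, nat_lit 146184, nat_lit 142348, nat_lit 138834, nat_lit 134518, nat_lit 2112, nat_lit 6208, nat_lit 10304, nat_lit 15024, nat_lit 19840, nat_lit 22336, nat_lit 27264, nat_lit 31744, nat_lit 34304, nat_lit 43008, nat_lit 41664, nat_lit 37056, nat_lit 33007, nat_lit 28991, nat_lit 24595, nat_lit 20751, nat_lit 16392, nat_lit 12289, nat_lit 327680]⟩) ⟨(nat_lit 1), ⟨[], [], (nat_lit 139), (⟨[nat_lit 0x66f96f624f02456d748aa7ccc8b5477a0820], [nat_lit 77824, nat_lit 81920, nat_lit 90112, nat_lit 169472, nat_lit 167168, nat_lit 161408,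 nat_lit 158208, nat_lit 151936, nat_lit 150800, nat_lit 145728, nat_lit 143348, nat_lit 138226, nat_lit 134361, nat_lit 512, nat_lit 4608, nat_lit 8704, nat_lit 14784, nat_lit 20064, nat_lit 22592, nat_lit 27136, nat_lit 28928, nat_lit 33280, nat_lit 43008, nat_lit 41891, nat_lit 38297, nat_lit 28744, nat_lit 24621, nat_lit 20557, nat_lit 16389, nat_lit 12357]⟩, ⟨[nat_lit 0x99f69f194878dd2e7a29364975b29b030820], [nat_lit 65536, nat_lit 69632, nat_lit 73728, nat_lit 77824, nat_lit 81920, nat_lit 86016, nat_lit 90112, nat_lit 173056, nat_lit 169472, nat_lit 167424, nat_lit 162048, nat_lit 157184, nat_lit 152416, nat_lit 149152, nat_lit 144656, nat_lit 141932, nat_lit 135606, nat_lit 133414, nat_lit 2, nat_lit 4100, nat_lit 11376, nat_lit 15584, nat_lit 19488, nat_lit 23232, nat_lit 28288, nat_lit 31488, nat_lit 37888, nat_lit 41634, nat_lit 37009, nat_lit 33010, nat_lit 28760, nat_lit 24719, nat_lit 20748, nat_lit 16387, nat_lit 12325, nat_lit 8195, nat_lit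 4100, nat_lit 2]⟩)⟩, ⟨[nat_lit 38, nat_lit 43, nat_lit 36, nat_lit 36], [], (nat_lit 84), (⟨[nat_lit 0xbe24b83c9a8a56c333a292c16f54c8cb8820], [nat_lit 86016, nat_lit 90112, nat_lit 94208, nat_lit 98304, nat_lit 102400, nat_lit 106496, nat_lit 178176, nat_lit 169984, nat_lit 167680, nat_lit 163072, nat_lit 155904, nat_lit 154496, nat_lit 149600, nat_lit 146920, nat_lit 139644, nat_lit 137002, nat_lit 131569, nat_lit 2, nat_lit 7904, nat_lit 12000, nat_lit 13632, nat_lit 17024, nat_lit 22464, nat_lit 27648, nat_lit 29440, nat_lit 33280, nat_lit 38912, nat_lit 41228, nat_lit 37306, nat_lit 32969, nat_lit 28721, nat_lit 24617, nat_lit 20481, nat_lit 16399, nat_lit 12305, nat_lit 8193, nat_lit 4097, nat_lit 2, nat_lit 327680]⟩, ⟨[nat_lit 0xac03a07a6c46a0f75d4cc2b9549c60390820], [nat_lit 65536, nat_lit 69632, nat_lit 73728, nat_lit 86016, nat_lit 98304, nat_lit 178176, nat_lit 174080, nat_lit 169984, nat_lit 166656, nat_lit 160256, nat_lit 158912, nat_lit 154688,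 nat_lit 150768, nat_lit 146272, nat_lit 141624, nat_lit 135224, nat_lit 134928, nat_lit 2304, nat_lit 6400, nat_lit 10496, nat_lit 21568, nat_lit 26624, nat_lit 32000, nat_lit 35840, nat_lit 41728, nat_lit 38047, nat_lit 32864, nat_lit 29279, nat_lit 24757, nat_lit 20549, nat_lit 16424, nat_lit 12304, nat_lit 327680]⟩)⟩⟩,
  .stab (nat_lit 149) (idE, idE) ⟨(nat_lit 0), ⟨[nat_lit 35, nat_lit 44, nat_lit 48], [], (nat_lit 138), (⟨[nat_lit 0x9a33f0b8eb69bd06748aa891ab81d2ca0820], [nat_lit 77824, nat_lit 90112, nat_lit 94208, nat_lit 102400, nat_lit 174080, nat_lit 169472, nat_lit 166912, nat_lit 161536, nat_lit 153376, nat_lit 147936, nat_lit 143568, nat_lit 142860, nat_lit 136312, nat_lit 131898, nat_lit 1896, nat_lit 5992, nat_lit 10088, nat_lit 14144, nat_lit 20032, nat_lit 21376, nat_lit 27008, nat_lit 30464, nat_lit 35328, nat_lit 37888, nat_lit 41631, nat_lit 37288, nat_lit 32858, nat_lit 28782, nat_lit 24710, nat_lit 20505, nat_lit 16390, nat_lit 327680]⟩,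 ⟨[nat_lit 0xdd8b88398835ddf04d5b365a2892a8e28820], [nat_lit 77824, nat_lit 86016, nat_lit 90112, nat_lit 94208, nat_lit 98304, nat_lit 169984, nat_lit 165632, nat_lit 163200, nat_lit 156608, nat_lit 153504, nat_lit 151200, nat_lit 143680, nat_lit 141904, nat_lit 137184, nat_lit 133927, nat_lit 2, nat_lit 4100, nat_lit 11376, nat_lit 12416, nat_lit 18336, nat_lit 22656, nat_lit 24704, nat_lit 29440, nat_lit 33792, nat_lit 41826, nat_lit 37307, nat_lit 33512, nat_lit 28787, nat_lit 24736, nat_lit 20616, nat_lit 16391, nat_lit 12320, nat_lit 8195, nat_lit 4100, nat_lit 2, nat_lit 327680]⟩)⟩, ⟨[], [], nat_lit 0, (idE, idE)⟩⟩,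
  .prod [] [nat_lit 71, nat_lit 71, nat_lit 70, nat_lit 73],
  .prod [] [nat_lit 76, nat_lit 73, nat_lit 73, nat_lit 76],
  .prod [] [nat_lit 77, nat_lit 75, nat_lit 72, nat_lit 76]]

theorem dcPr74 : D2.Rng dxP 74 79 := D2.Rng.of (l := dcPc74) (by decide +kernel)

def dcPc79 : List (D2.Cert (El × El)) := [.prod [] [nat_lit 78, nat_lit 75, nat_lit 75, nat_lit 72],
  .prod [] [nat_lit 70, nat_lit 75, nat_lit 75, nat_lit 73],
  .defn,
  .stab (nat_lit 162) (idE, idE) ⟨(nat_lit 0), ⟨[nat_lit 35, nat_lit 37, nat_lit 46], [], (nat_lit 162), (⟨[nat_lit 0x4482e84256a9ca30214e6ad2d76b1cf18820], [nat_lit 65536, nat_lit 69632, nat_lit 73728, nat_lit 81920, nat_lit 102400, nat_lit 106496, nat_lit 175104, nat_lit 170496, nat_lit 166144, nat_lit 160128, nat_lit 159296, nat_lit 155584, nat_lit 149024, nat_lit 146712, nat_lit 143316, nat_lit 137676, nat_lit 134245, nat_lit 2048, nat_lit 6144, nat_lit 10240, nat_lit 16480, nat_lit 24384, nat_lit 26624, nat_lit 30464, nat_lit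 33792, nat_lit 38912, nat_lit 43008, nat_lit 41310, nat_lit 33867, nat_lit 28756, nat_lit 20499, nat_lit 16427, nat_lit 327680]⟩, ⟨[nat_lit 0x6cafc021ca69ca3042d2a731afb52b718820], [nat_lit 65536, nat_lit 69632, nat_lit 73728, nat_lit 94208, nat_lit 98304, nat_lit 102400, nat_lit 106496, nat_lit 171008, nat_lit 164864, nat_lit 163200, nat_lit 158464, nat_lit 153760, nat_lit 147616, nat_lit 147376, nat_lit 139792, nat_lit 136776, nat_lit 132004, nat_lit 2048, nat_lit 6144, nat_lit 10240, nat_lit 14336, nat_lit 19552, nat_lit 21184, nat_lit 26624, nat_lit 28928, nat_lit 34304, nat_lit 38912, nat_lit 43008, nat_lit 41440, nat_lit 33864, nat_lit 28939, nat_lit 20611, nat_lit 16389]⟩)⟩, ⟨[], [], nat_lit 0, (idE, idE)⟩⟩,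
  .stab (nat_lit 162) (idE, idE) ⟨(nat_lit 0), ⟨[nat_lit 48, nat_lit 37, nat_lit 44], [], (nat_lit 162), (⟨[nat_lit 0x78141875a672522d1a5487c2e59199558820], [nat_lit 86016, nat_lit 94208, nat_lit 98304, nat_lit 168960, nat_lit 165888, nat_lit 162688, nat_lit 157056, nat_lit 155552, nat_lit 149888, nat_lit 145880, nat_lit 139444, nat_lit 137418, nat_lit 131192, nat_lit 32, nat_lit 4128, nat_lit 8224, nat_lit 15312, nat_lit 17600, nat_lit 22464, nat_lit 28288, nat_lit 32000, nat_lit 36352, nat_lit 37888, nat_lit 41824, nat_lit 37888, nat_lit 33408, nat_lit 28974, nat_lit 24605, nat_lit 20751, nat_lit 16462, nat_lit 12290, nat_lit 327680]⟩, ⟨[nat_lit 0x48b888a21f3ba62e536169556c390a330820], [nat_lit 98304, nat_lit 178176, nat_lit 174080, nat_lit 168960, nat_lit 166912, nat_lit 162688, nat_lit 158528, nat_lit 152128, nat_lit 147520, nat_lit 144872, nat_lit 142948, nat_lit 138336, nat_lit 132748, nat_lit 1478, nat_lit 4100, nat_lit 9664, nat_lit 15360, nat_lit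 20064, nat_lit 21952, nat_lit 27008, nat_lit 31744, nat_lit 39936, nat_lit 41970, nat_lit 36930, nat_lit 33898, nat_lit 28738, nat_lit 24598, nat_lit 21529, nat_lit 16460, nat_lit 12304, nat_lit 8194, nat_lit 4100, nat_lit 327680]⟩)⟩, ⟨[], [], nat_lit 0, (idE, idE)⟩⟩,
  .stab (nat_lit 162) (idE, idE) ⟨(nat_lit 0), ⟨[nat_lit 37, nat_lit 44, nat_lit 47], [], (nat_lit 162), (⟨[nat_lit 0x4e2b47398a494233b56975a14963dcd18820], [nat_lit 81920, nat_lit 86016, nat_lit 98304, nat_lit 178176, nat_lit 173056, nat_lit 170496, nat_lit 167168, nat_lit 162944, nat_lit 155968, nat_lit 154912, nat_lit 151232, nat_lit 143792, nat_lit 139972, nat_lit 138052, nat_lit 132452, nat_lit 64, nat_lit 4160, nat_lit 8256, nat_lit 14400, nat_lit 18848, nat_lit 20928, nat_lit 29440, nat_lit 35328, nat_lit 41896, nat_lit 36928, nat_lit 33838, nat_lit 28946, nat_lit 25103, nat_lit 20496, nat_lit 16429, nat_lit 327680]⟩, ⟨[nat_lit 0x4b82e7711151ca33b194d3b1342dd6f80820], [nat_lit 86016,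 nat_lit 94208, nat_lit 98304, nat_lit 178176, nat_lit 175104, nat_lit 168448, nat_lit 167680, nat_lit 161280, nat_lit 158208, nat_lit 154784, nat_lit 148736, nat_lit 145440, nat_lit 140932, nat_lit 136458, nat_lit 132707, nat_lit 2048, nat_lit 6144, nat_lit 10240, nat_lit 14112, nat_lit 17568, nat_lit 22208, nat_lit 25472, nat_lit 29440, nat_lit 33792, nat_lit 38912, nat_lit 41813, nat_lit 32864, nat_lit 28762, nat_lit 24757, nat_lit 20483, nat_lit 16514, nat_lit 12304]⟩)⟩, ⟨[], [], nat_lit 0, (idE, idE)⟩⟩]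

theorem dcPr79 : D2.Rng dxP 79 85 := D2.Rng.of (l := dcPc79) (by decide +kernel)

def dcPc85 : List (D2.Cert (El × El)) := [.stab (nat_lit 162) (idE, idE) ⟨(nat_lit 0), ⟨[nat_lit 46, nat_lit 46, nat_lit 47], [], (nat_lit 162), (⟨[nat_lit 0x5a606f92a8e65a286cd35bae0f20ce628820], [nat_lit 65536, nat_lit 69632, nat_lit 73728, nat_lit 77824, nat_lit 94208, nat_lit 102400, nat_lit 106496, nat_lit 169472, nat_lit 165632, nat_lit 163456, nat_lit 156992, nat_lit 155072, nat_lit 151312, nat_lit 143392, nat_lit 141612, nat_lit 137532, nat_lit 132809, nat_lit 2, nat_lit 4100, nat_lit 8320, nat_lit 15024, nat_lit 19232, nat_lit 21120, nat_lit 25856, nat_lit 31744, nat_lit 33792, nat_lit 39936, nat_lit 41239, nat_lit 37007, nat_lit 33015, nat_lit 28706, nat_lit 24888, nat_lit 20633, nat_lit 16420, nat_lit 12295, nat_lit 8200, nat_lit 4100, nat_lit 2, nat_lit 327680]⟩, ⟨[nat_lit 0x5f36cf60dae3aa35596f03511325a4978820], [nat_lit 77824, nat_lit 81920, nat_lit 106496, nat_lit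 178176, nat_lit 173056, nat_lit 169472, nat_lit 167168, nat_lit 162176, nat_lit 156608, nat_lit 151680, nat_lit 148672, nat_lit 146544, nat_lit 142576, nat_lit 135282, nat_lit 131169, nat_lit 2, nat_lit 5904, nat_lit 10000, nat_lit 12400, nat_lit 19136, nat_lit 23872, nat_lit 26112, nat_lit 29440, nat_lit 34816, nat_lit 38912, nat_lit 41930, nat_lit 37073, nat_lit 33910, nat_lit 28753, nat_lit 24624, nat_lit 20501, nat_lit 16391, nat_lit 12289, nat_lit 8193, nat_lit 4097, nat_lit 2]⟩)⟩, ⟨[], [], nat_lit 0, (idE, idE)⟩⟩,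
  .edge (⟨[nat_lit 0x30ac6fa25907d62a29066921b7b2dd338820], [nat_lit 65536, nat_lit 69632, nat_lit 73728, nat_lit 77824, nat_lit 90112, nat_lit 94208, nat_lit 102400, nat_lit 168448, nat_lit 165888, nat_lit 160384, nat_lit 158464, nat_lit 152736, nat_lit 148960, nat_lit 145096, nat_lit 142868, nat_lit 137472, nat_lit 133603, nat_lit 2, nat_lit 7904, nat_lit 12000, nat_lit 13456, nat_lit 20160, nat_lit 24192, nat_lit 26112, nat_lit 28928, nat_lit 35328, nat_lit 37888, nat_lit 43008, nat_lit 41803, nat_lit 38186, nat_lit 33821, nat_lit 28789, nat_lit 24709, nat_lit 20481, nat_lit 16396, nat_lit 12292, nat_lit 8193, nat_lit 4097, nat_lit 2, nat_lit 327680]⟩, ⟨[nat_lit 0x35f53f198a76d22b442ae53277b492f20820], [nat_lit 77824, nat_lit 86016, nat_lit 94208, nat_lit 98304, nat_lit 106496, nat_lit 178176, nat_lit 165120, nat_lit 162432, nat_lit 158144, nat_lit 151808, nat_lit 148784, nat_lit 146928, nat_lit 140920, nat_lit 137248, nat_lit 132010, nat_lit 32, nat_lit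 4128, nat_lit 8224, nat_lit 14192, nat_lit 16416, nat_lit 21440, nat_lit 26368, nat_lit 28928, nat_lit 34816, nat_lit 37888, nat_lit 41440, nat_lit 37344, nat_lit 33365, nat_lit 28947, nat_lit 24618, nat_lit 20495, nat_lit 16392, nat_lit 12304, nat_lit 327680]⟩) ⟨(nat_lit 1), ⟨[], [], (nat_lit 163), (⟨[nat_lit 0xd72dd77cac98d16d7411519ca69dd8a20820], [nat_lit 65536, nat_lit 69632, nat_lit 73728, nat_lit 77824, nat_lit 86016, nat_lit 90112, nat_lit 94208, nat_lit 102400, nat_lit 106496, nat_lit 171008, nat_lit 166656, nat_lit 161152, nat_lit 158144, nat_lit 154784, nat_lit 149408, nat_lit 143960, nat_lit 141500, nat_lit 138420, nat_lit 133965, nat_lit 32, nat_lit 4128, nat_lit 8224, nat_lit 14832, nat_lit 18208, nat_lit 21952, nat_lit 28288, nat_lit 29440, nat_lit 36352, nat_lit 39936, nat_lit 41909, nat_lit 37226, nat_lit 32864, nat_lit 29723, nat_lit 24893, nat_lit 20486, nat_lit 16387, nat_lit 12357, nat_lit 327680]⟩, ⟨[nat_lit 0xd4e847b29b0bb931290e36564b9bd1430820],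 [nat_lit 65536, nat_lit 69632, nat_lit 73728, nat_lit 77824, nat_lit 81920, nat_lit 94208, nat_lit 106496, nat_lit 170496, nat_lit 164096, nat_lit 163584, nat_lit 156672, nat_lit 152384, nat_lit 150608, nat_lit 145920, nat_lit 141364, nat_lit 137320, nat_lit 131380, nat_lit 1972, nat_lit 6068, nat_lit 11264, nat_lit 15456, nat_lit 17280, nat_lit 22592, nat_lit 27136, nat_lit 30720, nat_lit 33792, nat_lit 37888, nat_lit 41340, nat_lit 37318, nat_lit 33468, nat_lit 29234, nat_lit 24628, nat_lit 20500, nat_lit 16388, nat_lit 12550, nat_lit 8200, nat_lit 327680]⟩)⟩, ⟨[nat_lit 45, nat_lit 43, nat_lit 35, nat_lit 43], [], (nat_lit 84), (⟨[nat_lit 0xde4117548aeb0eb79bd062362b49d90a0820], [nat_lit 77824, nat_lit 94208, nat_lit 98304, nat_lit 106496, nat_lit 174080, nat_lit 169984, nat_lit 165632, nat_lit 162176, nat_lit 156864, nat_lit 155072, nat_lit 151168, nat_lit 145136, nat_lit 141052, nat_lit 137782, nat_lit 134290, nat_lit 8, nat_lit 4104, nat_lit 8200, nat_lit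 14368, nat_lit 20416, nat_lit 22592, nat_lit 26496, nat_lit 32256, nat_lit 33792, nat_lit 38912, nat_lit 43008, nat_lit 41791, nat_lit 38004, nat_lit 33018, nat_lit 28726, nat_lit 24871, nat_lit 20500, nat_lit 16428]⟩, ⟨[nat_lit 0x7e8827644b695da748d4b855c49be8640820], [nat_lit 77824, nat_lit 94208, nat_lit 98304, nat_lit 102400, nat_lit 173056, nat_lit 169472, nat_lit 167680, nat_lit 161536, nat_lit 159360, nat_lit 154688, nat_lit 147520, nat_lit 144224, nat_lit 143204, nat_lit 137926, nat_lit 131607, nat_lit 2, nat_lit 4100, nat_lit 9328, nat_lit 16320, nat_lit 18528, nat_lit 24064, nat_lit 26368, nat_lit 33792, nat_lit 39936, nat_lit 43008, nat_lit 41659, nat_lit 38019, nat_lit 32867, nat_lit 29704, nat_lit 24861, nat_lit 20546, nat_lit 16387, nat_lit 12327, nat_lit 8195, nat_lit 4100, nat_lit 2, nat_lit 327680]⟩)⟩⟩,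
  .stab (nat_lit 173) (idE, idE) ⟨(nat_lit 0), ⟨[nat_lit 37, nat_lit 46, nat_lit 48], [], (nat_lit 162), (⟨[nat_lit 0xb2ee28b95707306d45266926c4554f178820], [nat_lit 65536, nat_lit 69632, nat_lit 73728, nat_lit 77824, nat_lit 175104, nat_lit 168448, nat_lit 167680, nat_lit 160896, nat_lit 155712, nat_lit 154016, nat_lit 148464, nat_lit 145584, nat_lit 141172, nat_lit 137788, nat_lit 132406, nat_lit 318, nat_lit 4100, nat_lit 8504, nat_lit 15712, nat_lit 20032, nat_lit 21952, nat_lit 25728, nat_lit 32256, nat_lit 34304, nat_lit 38912, nat_lit 43008, nat_lit 41791, nat_lit 38285, nat_lit 34037, nat_lit 28795, nat_lit 24750, nat_lit 20609, nat_lit 16394, nat_lit 12304, nat_lit 8194, nat_lit 4100, nat_lit 327680]⟩, ⟨[nat_lit 0x724db819ca4aae4c745377d268541b630820], [nat_lit 81920, nat_lit 94208, nat_lit 98304, nat_lit 102400, nat_lit 106496, nat_lit 170496, nat_lit 166656, nat_lit 161408, nat_lit 156736, nat_lit 152704, nat_lit 149984, nat_lit 144552, nat_lit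 141192, nat_lit 136130, nat_lit 131922, nat_lit 986, nat_lit 4100, nat_lit 11264, nat_lit 13264, nat_lit 19808, nat_lit 22848, nat_lit 27776, nat_lit 30464, nat_lit 33792, nat_lit 37888, nat_lit 41934, nat_lit 38336, nat_lit 32782, nat_lit 28765, nat_lit 24761, nat_lit 20510, nat_lit 16423, nat_lit 12294, nat_lit 8200, nat_lit 4100]⟩)⟩, ⟨[], [], nat_lit 0, (idE, idE)⟩⟩,
  .prod [] [nat_lit 82, nat_lit 84, nat_lit 82, nat_lit 87]]

theorem dcPr85 : D2.Rng dxP 85 89 := D2.Rng.of (l := dcPc85) (by decide +kernel)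

def dcPc89 : List (D2.Cert (El × El)) := [.prod [] [nat_lit 85, nat_lit 83, nat_lit 85, nat_lit 82],
  .prod [] [nat_lit 89, nat_lit 82, nat_lit 84, nat_lit 87],
  .prod [] [nat_lit 84, nat_lit 87, nat_lit 90, nat_lit 84],
  .prod [] [nat_lit 85, nat_lit 91, nat_lit 88, nat_lit 88],
  .edge (idE, idE) ⟨(nat_lit 0), ⟨[], [], (nat_lit 21), (idE, idE)⟩, ⟨[], [], nat_lit 0, (idE, idE)⟩⟩,
  .prod [] [nat_lit 3, nat_lit 3, nat_lit 9, nat_lit 3, nat_lit 2],
  .prod [] [nat_lit 1, nat_lit 4, nat_lit 6, nat_lit 4, nat_lit 1],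
  .prod [] [nat_lit 9, nat_lit 0, nat_lit 8, nat_lit 0, nat_lit 6]]

theorem dcPr89 : D2.Rng dxP 89 97 := D2.Rng.of (l := dcPc89) (by decide +kernel)

def dcPc97 : List (D2.Cert (El × El)) := [.prod [] [nat_lit 7, nat_lit 7, nat_lit 5, nat_lit 5, nat_lit 8],
  .prod [] [nat_lit 5, nat_lit 1, nat_lit 9, nat_lit 1, nat_lit 7],
  .prod [] [nat_lit 12, nat_lit 13, nat_lit 17, nat_lit 13, nat_lit 18],
  .prod [] [nat_lit 12, nat_lit 18, nat_lit 17, nat_lit 15, nat_lit 15],
  .prod [] [nat_lit 16, nat_lit 19, nat_lit 13, nat_lit 14, nat_lit 17],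
  .prod [] [nat_lit 18, nat_lit 20, nat_lit 15, nat_lit 11, nat_lit 12],
  .prod [] [nat_lit 13, nat_lit 17, nat_lit 18, nat_lit 13, nat_lit 13],
  .prod [] [nat_lit 24, nat_lit 25, nat_lit 23, nat_lit 32, nat_lit 26]]

theorem dcPr97 : D2.Rng dxP 97 105 := D2.Rng.of (l := dcPc97) (by decide +kernel)

def dcPc105 : List (D2.Cert (El × El)) := [.prod [] [nat_lit 24, nat_lit 32, nat_lit 31, nat_lit 31, nat_lit 29],
  .prod [] [nat_lit 31, nat_lit 32, nat_lit 29, nat_lit 31, nat_lit 23],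
  .prod [] [nat_lit 31, nat_lit 33, nat_lit 28, nat_lit 25, nat_lit 28],
  .prod [] [nat_lit 29, nat_lit 29, nat_lit 23, nat_lit 25, nat_lit 24],
  .prod [] [nat_lit 31, nat_lit 29, nat_lit 32, nat_lit 32, nat_lit 33],
  .prod [] [nat_lit 47, nat_lit 44, nat_lit 45, nat_lit 48, nat_lit 44],
  .prod [] [nat_lit 37, nat_lit 37, nat_lit 37, nat_lit 46, nat_lit 44],
  .prod [] [nat_lit 43, nat_lit 37, nat_lit 45, nat_lit 44, nat_lit 44]]

theorem dcPr105 : D2.Rng dxP 105 113 := D2.Rng.of (l := dcPc105) (by decide +kernel)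

def dcPc113 : List (D2.Cert (El × El)) := [.prod [] [nat_lit 37, nat_lit 44, nat_lit 35, nat_lit 35, nat_lit 38],
  .prod [] [nat_lit 43, nat_lit 35, nat_lit 44, nat_lit 35, nat_lit 45],
  .prod [] [nat_lit 67, nat_lit 67, nat_lit 66, nat_lit 64, nat_lit 65],
  .prod [] [nat_lit 51, nat_lit 51, nat_lit 53, nat_lit 68, nat_lit 53],
  .prod [] [nat_lit 53, nat_lit 63, nat_lit 65, nat_lit 66, nat_lit 64],
  .prod [] [nat_lit 64, nat_lit 67, nat_lit 51, nat_lit 52, nat_lit 53],
  .prod [] [nat_lit 51, nat_lit 52, nat_lit 66, nat_lit 50, nat_lit 52],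
  .prod [] [nat_lit 71, nat_lit 75, nat_lit 72, nat_lit 77, nat_lit 79]]

theorem dcPr113 : D2.Rng dxP 113 121 := D2.Rng.of (l := dcPc113) (by decide +kernel)

def dcPc121 : List (D2.Cert (El × El)) := [.prod [] [nat_lit 71, nat_lit 80, nat_lit 76, nat_lit 73, nat_lit 80],
  .prod [] [nat_lit 71, nat_lit 76, nat_lit 73, nat_lit 70, nat_lit 79],
  .prod [] [nat_lit 77, nat_lit 78, nat_lit 76, nat_lit 76, nat_lit 76],
  .prod [] [nat_lit 73, nat_lit 75, nat_lit 75, nat_lit 76, nat_lit 71],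
  .prod [] [nat_lit 83, nat_lit 92, nat_lit 84, nat_lit 83, nat_lit 90],
  .prod [] [nat_lit 92, nat_lit 84, nat_lit 85, nat_lit 87, nat_lit 83],
  .prod [] [nat_lit 83, nat_lit 87, nat_lit 85, nat_lit 92, nat_lit 83],
  .prod [] [nat_lit 83, nat_lit 92, nat_lit 83, nat_lit 91, nat_lit 82]]

theorem dcPr121 : D2.Rng dxP 121 129 := D2.Rng.of (l := dcPc121) (by decide +kernel)

def dcPc129 : List (D2.Cert (El × El)) := [.prod [] [nat_lit 91, nat_lit 88, nat_lit 82, nat_lit 88, nat_lit 85]]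

theorem dcPr129 : D2.Rng dxP 129 130 := D2.Rng.of (l := dcPc129) (by decide +kernel)

theorem dcPR0 : D2.Rng dxP 0 130 := (dcPr0.trans (dcPr13.trans (dcPr18.trans (dcPr24.trans (dcPr27.trans (dcPr33.trans (dcPr38.trans (dcPr42.trans (dcPr47.trans (dcPr52.trans (dcPr58.trans (dcPr61.trans (dcPr63.trans (dcPr70.trans (dcPr74.trans (dcPr79.trans (dcPr85.trans (dcPr89.trans (dcPr97.trans (dcPr105.trans (dcPr113.trans (dcPr121.trans dcPr129))))))))))))))))))))))

end

end CF.Mon
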