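import Cfsg.Agent.Mon.Gt

/-! Explicit elements of `Gt` (semantics of the data) and the defining relations. -/

set_option autoImplicit false
set_option maxHeartbeats 400000

namespace CF.Mon

open Matrix Cfsg CF.Leech CF.Comp Lab

/-- bits as a vector -/
def toIx (l : ℕ) : Ix := fun k => if l.testBit k = true then 1 else 0

/-- one bit -/
def toZ (l k : ℕ) : ZMod 2 := if l.testBit k = true then 1 else 0

/-- the label of a number: bits 0-11 `a`, 12-23 `b`, 24 the sign -/
def lab (n : ℕ) : Lab := ⟨toIx n, toIx (n >>> 12), toZ n 24⟩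

/-- the gate of a number: kind `n >>> 17`, bit 16 the constant, bits 12-15 the target -/
def gate (n : ℕ) : Gate :=
  if n >>> 17 = 0 then .aff (Fin.ofNat 12 ((n >>> 12) &&& 15)) (toIx n) (toZ n 16)
  else if n >>> 17 = 1 then .quad (Fin.ofNat 12 ((n >>> 12) &&& 15)) (toIx n)
  else if n >>> 17 = 2 then .zg (toIx n) (toZ n 16)
  else .hh (Fin.ofNat 12 (n &&& 15)) (Fin.ofNat 12 ((n >>> 12) &&& 15))

/-- positions: the points in the order of the tetrads of the standard sextet -/
def ordC : ℕ := 0xbc5c5b2d26ad24d9c1e8628e418820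

/-- the point at a position -/
def Pos (p : ℕ) : Pt := pt (ap ordC p)

theorem ordC_check : permCheck ordC = true := by decide +kernel

theorem Pos_eq {p : ℕ} (h : p < 24) : Pos p = permOf ordC (pt p) := (permOf_pt ordC_check h).symm

theorem exists_Pos (i : Pt) : ∃ p < 24, Pos p = i :=
  ⟨idx ((permOf ordC)⁻¹ i), idx_lt _, by rw [Pos_eq (idx_lt _), pt_idx]; simp⟩

theorem Pos_inj {p q : ℕ} (hp : p < 24) (hq : q < 24) (h : Pos p = Pos q) : p = q := by
  rw [Pos_eq hp, Pos_eq hq] at h
  exact pt_inj hp hq ((permOf ordC).injective h)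

theorem sum_Pos {M : Type*} [AddCommMonoid M] (f : Pt → M) :
    ∑ i, f i = ∑ p ∈ Finset.range 24, f (Pos p) := by
  rw [← Equiv.sum_comp (permOf ordC), sum_pts]
  exact Finset.sum_congr rfl fun p hp => by rw [Pos_eq (Finset.mem_range.1 hp)]

/-- `g` is the monomial map coded by `m`: `(g x)_p = ± x_{m p}` in positions -/
def MonoSpec (m : ℕ) (g : Co0) : Prop := (∀ p < 24, ap m p < 24) ∧ ∀ (x : LL), ∀ p < 24,
  ((g • x : LL) : V) (Pos p) =
    if m.testBit (120 + p) = true then -(x : V) (Pos (ap m p)) else (x : V) (Pos (ap m p))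

open Classical in
noncomputable def monoV (m : ℕ) : Co0 := if h : ∃ g, MonoSpec m g then h.choose else 1

theorem monoV_spec {m : ℕ} (h : ∃ g, MonoSpec m g) : MonoSpec m (monoV m) := by
  rw [monoV, dif_pos h]; exact h.choose_spec

def xiL : List ℕ := [0x94210841d083a1084210841d094a4e, 0x94210841d083a1084210841d0739d2,
  0x7c6318c6718ce318c6318c6717bdef, 0x842108419083210842108421084210,
  0x941d2839d0839d084210841d084210, 0x93a10841d083a10941d0839d084210,
  0x842108421083210842108419084210, 0x94210741d273a108420e841d084210,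
  0x93a10841d083a10741d0849d084210, 0x941ce849d0839d084210841d084210,
  0x94210841d083a0e83a10741d284210, 0x94210841d083a0e83a10941ce84210,
  0x94210741ce73a1084212841d084210, 0x7420e83a0e8420e8420e741d084210,
  0x8420e839d0742108420e841d084a50, 0x8420e739d073a0e842107421084210,
  0x841d073a0e83a0e84210841ce84210, 0x73a108421083a108421073a0e94212,
  0x841d083a1083a1074210839d084a50, 0x841d084210839d084210741ce84a12,
  0x7bdf17be2d7bdef7be2f7bdf18c62f, 0x74210842107420e83a0e841d094a10,
  0x7bdf17be2f8bdef7bdef8b5ef8be31, 0x739d073a1073a108421083a1084210]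

theorem xiL_isL : allLt 24 (fun q => isL (nth 0 xiL q)) = true := by decide +kernel

theorem xiL_gram : gramOK xiL = true := by decide +kernel

theorem exists_xi : ∃ g : Co0, ∀ q, ((g • bv q : LL) : V) = vec (nth 0 xiL (idx q)) := by
  obtain ⟨g, hg⟩ := exists_co_of_gram (fun q => vl _ (allLt_iff.1 xiL_isL _ (idx_lt q)))
    fun q r => gram_eq xiL_gram q r
  exact ⟨g, fun q => by rw [hg]; rfl⟩

/-- Conway's element -/
noncomputable def xi : Co0 := exists_xi.choose

/-- the sum over the tetrad of a position -/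
def tsum (x : V) (p : ℕ) : ℤ :=
  x (Pos (4 * (p / 4))) + x (Pos (4 * (p / 4) + 1)) + x (Pos (4 * (p / 4) + 2)) +
    x (Pos (4 * (p / 4) + 3))

theorem xi_check : ∀ q < 24, ∀ p < 24, 2 * vec (nth 0 xiL q) (Pos p) =
    (if p < 4 then -1 else 1) * (2 * vec (nth 0 basL q) (Pos p) - tsum (vec (nth 0 basL q)) p) := by
  decide +kernel

theorem xi_spec (x : LL) {p : ℕ} (hp : p < 24) : 2 * ((xi • x : LL) : V) (Pos p) =
    (if p < 4 then -1 else 1) * (2 * (x : V) (Pos p) - tsum x p) := by
  have : x ∈ Submodule.span ℤ (Set.range bv) := span_bv trivial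
  induction this using Submodule.span_induction with
  | mem y hy =>
    obtain ⟨q, rfl⟩ := hy
    rw [xi, exists_xi.choose_spec, bv_coe]
    exact xi_check _ (idx_lt q) p hp
  | zero => rw [show xi • (0 : LL) = 0 by simpa using co_zsmul xi 0 0]; simp [tsum]
  | add y z _ _ hy hz =>
    rw [co_add]
    simp only [AddSubgroup.coe_add, Pi.add_apply, tsum] at hy hz ⊢
    linear_combination hy + hz
  | smul a y _ hy =>
    rw [co_zsmul]
    simp only [AddSubgroup.coe_zsmul, Pi.smul_apply, tsum, smul_eq_mul] at hy ⊢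
    linear_combination a * hy

/-- `… m₂ ξ m₁ ξ` -/
noncomputable def gv1 : List ℕ → Co0
  | [] => 1
  | m :: l => gv1 l * (monoV m * xi)

/-- `… m₂ ξ m₁ ξ m₀` -/
noncomputable def gval : List ℕ → Co0
  | [] => 1
  | m :: l => gv1 l * monoV m

/-- data of an element: a word for the lattice part, gates for the operator part -/
structure El where
  g : List ℕ
  h : List ℕ

noncomputable def hval (l : List ℕ) : Op := gatesE (l.map gate)

def El.Ok (e : El) : Prop := (∀ m ∈ e.g, ∃ g, MonoSpec m g) ∧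
  (∀ k, Cj (hval e.h) (X k) (cls (gval e.g • uV k))) ∧
    ∀ k, Cj (hval e.h) (Z k) (cls (gval e.g • wV k))

open Classical in
noncomputable def El.val (e : El) : Gt :=
  if h : e.Ok then Gt.mk' (gval e.g) (hval e.h) (orth_gatesE _) h.2.1 h.2.2 else 1

theorem El.Ok.g {e : El} (h : e.Ok) : gOf e.val = gval e.g := by rw [El.val, dif_pos h]; rfl

theorem El.Ok.h {e : El} (h : e.Ok) : hOf e.val = gatesE (e.h.map gate) := by
  rw [El.val, dif_pos h]; rfl

theorem El.Ok.smul {e : El} (h : e.Ok) (p : Lab) : e.val • p = gsconj (e.h.map gate) p :=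
  smul_gates h.h p

/-- basis states -/
def ket (w : Ix) : St := Pi.single w 1

/-- the elements commuting with the triality element -/
def C0 : Subgroup Gt where
  carrier := {γ | (∃ σ, gOf γ = permHom σ) ∧ hOf γ (ket 0) = ket 0 ∧
    hOf γ (ket (Pi.single 11 1)) = ket (Pi.single 11 1)}
  one_mem' := ⟨⟨1, by simp⟩, rfl, rfl⟩
  mul_mem' := fun ⟨⟨σ, a⟩, b, c⟩ ⟨⟨σ', a'⟩, b', c'⟩ =>
    ⟨⟨σ * σ', by simp [a, a']⟩, by simp [b, b'], by simp [c, c']⟩
  inv_mem' := fun {γ} ⟨⟨σ, a⟩, b, c⟩ => ⟨⟨σ⁻¹, by simp [a]⟩, by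
    rw [map_inv, LinearEquiv.coe_inv, LinearEquiv.symm_apply_eq, b], by
    rw [map_inv, LinearEquiv.coe_inv, LinearEquiv.symm_apply_eq, c]⟩

/-- `y_d` for the first basis octad `d` -/
def yE : El := ⟨[0xe82481bdab49ca307b9ac5a928398a418820],
  [65536, 165632, 160000, 155904, 152000, 148800, 144768, 140104, 136992, 2048]⟩

/-- the element `a` with `(τ a)³ = 1` -/
def aE : El := ⟨[0x6a09a946137b9aca5ed5214e608c0242d2a, 0x509c0663dcdbd2b68c272184025a90929c86],
  [65536, 69632, 73728, 77824, 90112, 94208, 98304, 102400, 106496, 178176, 167680, 163712, 159680,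
    152000, 147904, 147120, 142952, 135216, 131314, 318, 4100, 8504, 15936, 16672, 24064, 32512,
    33792, 43008, 45073, 41761, 36881, 33979, 28705, 24593, 20619, 16394, 12305, 8195, 4100, 425989,
    409600, 151808, 147744, 131088, 40976, 28688, 12289, 8193, 4097]⟩

/-- the relations between `Gt` and the triality element -/
structure Rels {Γ : Type*} [Group Γ] (ρ : Gt →* Γ) (τ : Γ) : Prop where
  kap : ρ kap = 1
  cube : τ ^ 3 = 1
  c0 : ∀ p ∈ C0, τ * ρ p = ρ p * τ
  odd : τ * ρ (pauli (X 11)) * τ = ρ (pauli (X 11))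
  xy : τ * ρ (pauli (X 0)) = ρ yE.val * τ
  rel : (τ * ρ aE.val) ^ 3 = 1

/-- the standard frame label `y` -/
def Y0 : Lab := xc * Z 11
/-- `x_{01}`, `x_{02}` -/
def tA : Lab := Z 0 * Z 1
def tB : Lab := Z 0 * Z 2

end CF.Mon
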