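import Cfsg.Agent.Mon.thC
import Cfsg.Agent.Mon.hnC
import Cfsg.Agent.Mon.Cert
import Cfsg.Agent.Dce.Th.Main
import Cfsg.Agent.Comp.HN.Main

/-! The Thompson, Harada–Norton and Fischer groups inside the Monster and the Baby Monster. -/

set_option autoImplicit false
set_option maxRecDepth 100000

namespace CF.Mon.Tr

open Cfsg Cfsg.Spor CF.Comp CF.MonY Subgroup Function
open Lab hiding induction

theorem inj_of {S K : Type*} [Group S] [Group K] [IsSimpleGroup S] {φ : S →* K} {s : S}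
    (h : φ s ≠ 1) : Injective φ :=
  (MonoidHom.ker_eq_bot_iff φ).1 ((IsSimpleGroup.eq_bot_or_eq_top_of_normal φ.ker
    inferInstance).resolve_right fun e => h (show s ∈ φ.ker from e ▸ mem_top s))

variable {Γ : Type*} [Group Γ] {ρ : Gt →* Γ} {τ : Γ}

/-- the conjugate of `iY` by a table element -/
noncomputable def ax (T : BT El) (g : ℕ) : Gt := (T.get g).val * iY.val * (T.get g).val⁻¹

theorem lift_comm {α : Type} [DecidableEq α] {gens : List α} {E : List (α × ℕ × α)}
    {X : List (FreeGroup α)} {rels : List (List ℕ)} (c : CoxOK gens E X rels) {f : ℕ → Γ}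
    (hr : ∀ r ∈ rels, ev f r = 1) {u : Γ} (hu : ∀ i < gens.length, Commute (f i) u) (s) :
    Commute (c.lift hr s) u :=
  mem_centralizer_singleton_iff.1 (PresentedGroup.generated_by _
    ((centralizer {u}).comap (c.lift hr)) (fun x => mem_centralizer_singleton_iff.2 (by
      rw [CoxOK.lift, PresentedGroup.toGroup.of]
      exact hu _ (List.idxOf_lt_length_of_mem (c.mem x)))) s)

variable (h : G.Out ρ τ)
include h

theorem ax_val {T : BT El} (b : Base T) {g t : ℕ}
    (e : eqW [T.get t, T.get g] [T.get g, iY] = true) : ρ (ax T g) = ρ (T.get t).val := by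
  have := eqW_map h.kap (AllOk.cons (b.okT t) (.cons (b.okT g) .nil))
    (AllOk.cons (b.okT g) (.cons iY_ok .nil)) e
  simp only [prodE_cons, prodE_nil, mul_one, map_mul] at this
  rw [ax, map_mul, map_mul, ← this, map_inv, mul_inv_cancel_right]

theorem ax_conj (T : BT El) (g : ℕ) : ∃ V : Γ, ρ (ax T g) = V * ρ (pauli tA) * V⁻¹ :=
  ⟨ρ (T.get g).val * τ * ρ iG.val, by
    rw [ax, map_mul, map_mul, iY_val h, ← iG_tA, ← G.rho_conj, map_inv]; group⟩

theorem th_emb : ∃ φ : Th →* Γ, Injective φ ∧ φ (.of .a) = ρ (pauli xc) ∧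
    ∀ s, Commute (φ s) (ρ (ax thT 4)) ∧ Commute (φ s) (ρ (ax thT 6)) := by
  have hr := rels_of h thT_base (P := thP) (m := 8) (rels := Dce.Th.rels) rfl rfl
    (by decide +kernel) thI_chk (by decide +kernel) thW_chk
  have a : Dce.Th.cox.lift hr (.of .a) = ρ (pauli xc) := by
    rw [CoxOK.lift, PresentedGroup.toGroup.of, ← xE_val]; exact one_mul _
  haveI := Dce.Th.isTh.1
  exact ⟨_, inj_of (a ▸ h.x_ne), a, fun s =>
    ⟨lift_comm Dce.Th.cox hr
      (fun i hi => (th_fix i hi).1.comm h thT_base (by decide +kernel)) s,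
    lift_comm Dce.Th.cox hr
      (fun i hi => (th_fix i hi).2.comm h thT_base (by decide +kernel)) s⟩⟩

theorem hn_emb : ∃ φ : HN →* Γ, Injective φ ∧ φ (.of .x) ^ 2 = ρ (pauli tA) ∧
    ∀ s, Commute (φ s) (ρ (ax hnT 4)) ∧ Commute (φ s) (ρ (ax hnT 6)) := by
  have hr := rels_of h hnT_base (P := hnP) (m := 4) (rels := Comp.HN.rels) rfl rfl
    (by decide +kernel) hnI_chk (by decide +kernel) hnW_chk
  have a : Comp.HN.cox.lift hr (.of .x) ^ 2 = ρ (pauli tA) := by
    have := eqW_map h.kap (AllOk.cons (hnT_base.okT 10) (.cons (hnT_base.okT 10) .nil))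
      (AllOk.cons tAE_ok .nil) (by decide +kernel)
    simp only [prodE_cons, prodE_nil, mul_one, map_mul, tAE_val] at this
    rw [CoxOK.lift, PresentedGroup.toGroup.of, ← this, pow_two]
    exact congrArg₂ _ (one_mul _) (one_mul _)
  haveI := Comp.HN.isHN.1
  exact ⟨_, inj_of (s := .of .x ^ 2) (by rw [map_pow, a]; exact h.t_ne), a, fun s =>
    ⟨lift_comm Comp.HN.cox hr
      (fun i hi => (hn_fix i hi).1.comm h hnT_base (by decide +kernel)) s,
    lift_comm Comp.HN.cox hr
      (fun i hi => (hn_fix i hi).2.comm h hnT_base (by decide +kernel)) s⟩⟩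

theorem order_ax {T : BT El} (b : Base T) {p : ℕ} (hp : p.Prime)
    (e1 : eqW [T.get 8, T.get 4] [T.get 4, iY] = true)
    (e2 : eqW [T.get 9, T.get 6] [T.get 6, iY] = true)
    (e3 : eqW (rep [T.get 8, T.get 9] p) [] = true)
    (e4 : lab (evL 1 [T.get 8, T.get 9] 1) ≠ lab 1) : orderOf (ρ (ax T 4) * ρ (ax T 6)) = p := by
  have o : AllOk [T.get 8, T.get 9] := .cons (b.okT 8) (.cons (b.okT 9) .nil)
  have e : ρ (ax T 4) * ρ (ax T 6) = ρ (prodE [T.get 8, T.get 9]) := by
    simp [ax_val h b e1, ax_val h b e2]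
  haveI := _root_.Fact.mk hp
  rw [e]
  refine orderOf_eq_prime (by
    simpa only [prodE_rep, map_pow, prodE_nil, map_one] using
      eqW_map h.kap (ok_rep o p) AllOk.nil e3) fun k => e4 ?_
  rw [lab_evL o, ← h.inj, ← G.rho_conj, k]; simp

theorem th_order : orderOf (ρ (ax thT 4) * ρ (ax thT 6)) = 3 :=
  order_ax h thT_base (by norm_num) (by decide +kernel) (by decide +kernel) (by decide +kernel)
    (by simp only [ne_eq, Lab.ext_iff]; decide +kernel)

theorem hn_order : orderOf (ρ (ax hnT 4) * ρ (ax hnT 6)) = 5 :=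
  order_ax h hnT_base (by norm_num) (by decide +kernel) (by decide +kernel) (by decide +kernel)
    (by simp only [ne_eq, Lab.ext_iff]; decide +kernel)

theorem to_baby {S : Type*} [Group S] [IsSimpleGroup S] (hS : ¬ (Nat.card S).Prime) {φ : S →* Γ}
    (hφ : Injective φ) {V : Γ} (hc : ∀ s, Commute (φ s) (V * ρ (pauli tA) * V⁻¹)) :
    ∃ ψ : S →* BabyMonster, Injective ψ := by
  obtain ⟨e⟩ := certs.equivB h
  let χ := ((MulAut.conj V⁻¹).toMonoidHom.comp φ).codRestrict (G.AA ρ τ) fun s => by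
    rw [← h.cA, mem_centralizer_singleton_iff]
    change V⁻¹ * φ s * V⁻¹⁻¹ * _ = _ * (V⁻¹ * φ s * V⁻¹⁻¹)
    calc _ = V⁻¹ * (φ s * (V * ρ (pauli tA) * V⁻¹)) * V := by group
      _ = _ := by rw [(hc s).eq]; group
  have iχ : Injective χ := fun a b e => hφ ((MulAut.conj V⁻¹).injective (congrArg Subtype.val e))
  by_contra! n
  have k : ∀ s, χ s ∈ center _ := fun s => by
    by_contra q
    exact n (e.toMonoidHom.comp ((QuotientGroup.mk' _).comp χ)) (inj_of (s := s) (by simpa using q))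
  have := perfect_of_card hS
  rw [(commutator_eq_bot_iff_center_eq_top S).2 (eq_top_iff.2 fun s _ => mem_center_iff.2 fun g =>
    iχ (by rw [map_mul, map_mul, mem_center_iff.1 (k s)]))] at this
  exact bot_ne_top this

omit h

theorem isB : IsB BabyMonster :=
  let ⟨_, _, h⟩ := certs.outM; let ⟨e⟩ := certs.equivB h; G.isB_of_equiv e h.isB_quot

theorem th_baby : ∃ ψ : Th →* BabyMonster, Injective ψ := by
  obtain ⟨_, _, h⟩ := certs.outM
  obtain ⟨φ, a, -, c⟩ := th_emb h
  obtain ⟨V, e⟩ := ax_conj h thT 4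
  haveI := Dce.Th.isTh.1
  exact to_baby h (by rw [Dce.Th.isTh.2]; norm_num) a fun s => e ▸ (c s).1

theorem hn_baby : ∃ ψ : HN →* BabyMonster, Injective ψ := by
  obtain ⟨_, _, h⟩ := certs.outM
  obtain ⟨φ, a, -, c⟩ := hn_emb h
  obtain ⟨V, e⟩ := ax_conj h hnT 4
  haveI := Comp.HN.isHN.1
  exact to_baby h (by rw [Comp.HN.isHN.2]; norm_num) a fun s => e ▸ (c s).1

theorem fi23_baby : ∃ ψ : Spor.Fi23 →* BabyMonster, Injective ψ := by
  obtain ⟨φ, e⟩ := exists_hom23 (baby_cox.mono le_rfl le_rfl (by decide)) baby_extra.1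
    baby_extra.2.1
  haveI := Comp.Fi23.simple
  haveI := isB.1
  by_contra! n
  have k : ∀ i, lt L23 baby i = 1 := fun i => by
    by_contra q
    exact n φ (inj_of (e i ▸ q))
  have k' : ∀ x ∈ L23, baby x = 1 := fun x hx =>
    (lets_lt (p := 5) (q := 5) (r := 5) L23 baby x hx (by revert x; decide)).symm.trans (k _)
  have d : baby .d3 = 1 := by
    have a := baby_cox.braid (x := .c3) (y := .d3) rfl rfl rfl
    have b := baby_cox.sq (x := .d3) rfl
    rwa [k' _ (by decide), one_mul, pow_three', b, one_mul] at a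
  refine bot_ne_top (α := Subgroup BabyMonster) (eq_top_iff.2 fun s _ =>
    PresentedGroup.generated_by _ _ (fun x => ?_) s)
  rw [← (nB_nB' x).1]
  cases x
  all_goals first | exact d | exact k' _ (by decide)

theorem sub_of_inj {S K : Type*} [Group S] [Group K] {φ : S →* K} (hφ : Injective φ) {n : ℕ}
    (h : IsSimpleGroup S ∧ Nat.card S = n) : IsSimpleGroup φ.range ∧ Nat.card φ.range = n :=
  haveI := h.1
  ⟨(MonoidHom.ofInjective hφ).symm.isSimpleGroup,
    (Nat.card_congr (MonoidHom.ofInjective hφ).toEquiv).symm.trans h.2⟩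

end CF.Mon.Tr
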