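import Cfsg.Agent.Mon.Tr

/-! Three involutions generating `Gt` modulo its centre. -/

set_option autoImplicit false
set_option maxRecDepth 100000

namespace CF.Mon.Tr

def iG : El := ⟨[nat_lit 0x5aca5662648a5db0b2ce27c485985c0a9943, nat_lit 0x3ac0c4152c3846da2a6205570bd9c68bc92, nat_lit 0x66066f9c0c71d0169162452dae6250fb8835], [nat_lit 65536, nat_lit 73728, nat_lit 77824, nat_lit 81920, nat_lit 86016, nat_lit 98304, nat_lit 106496, nat_lit 174080, nat_lit 168448, nat_lit 164864, nat_lit 162816, nat_lit 156352, nat_lit 152032, nat_lit 147696, nat_lit 146960, nat_lit 136458, nat_lit 133264, nat_lit 3406, nat_lit 5288, nat_lit 8920, nat_lit 15376, nat_lit 18560, nat_lit 22272, nat_lit 26240, nat_lit 29696, nat_lit 35328, nat_lit 46984, nat_lit 41112, nat_lit 39117, nat_lit 33349, nat_lit 29821, nat_lit 24632, nat_lit 20555, nat_lit 16397, nat_lit 12309, nat_lit 8211, nat_lit 4101, nat_lit 2, nat_lit 430088,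 nat_lit 421893, nat_lit 409602, nat_lit 397312, nat_lit 164352, nat_lit 160000, nat_lit 151808, nat_lit 148128, nat_lit 139408, nat_lit 135856, nat_lit 131744, nat_lit 45062, nat_lit 41605, nat_lit 12289, nat_lit 327680]⟩
def iX : El := ⟨[nat_lit 0xdb2bed7c1281955731d93885a058894ad9d2, nat_lit 0x2eeb21299cbb12638452f0a00dbc847a554c, nat_lit 0x36a6cc89688985b24d8f01dd95111c65a9e0, nat_lit 0x9c36a30b6c83aa2b2de15648cf98083a09c9], [nat_lit 65536, nat_lit 69632, nat_lit 73728, nat_lit 81920, nat_lit 86016, nat_lit 90112, nat_lit 94208, nat_lit 102400, nat_lit 106496, nat_lit 178176, nat_lit 173056, nat_lit 169472, nat_lit 166144, nat_lit 160256, nat_lit 156416, nat_lit 154560, nat_lit 150160, nat_lit 146008, nat_lit 139408, nat_lit 137570, nat_lit 134911, nat_lit 2080, nat_lit 7656, nat_lit 8704, nat_lit 14528, nat_lit 17920, nat_lit 20672, nat_lit 25216, nat_lit 28928, nat_lit 36352, nat_lit 39936, nat_lit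 46859, nat_lit 41191, nat_lit 39107, nat_lit 33502, nat_lit 29286, nat_lit 24632, nat_lit 20502, nat_lit 16399, nat_lit 12309, nat_lit 8211, nat_lit 16, nat_lit 438282, nat_lit 430088, nat_lit 421894, nat_lit 413700, nat_lit 405506, nat_lit 397312, nat_lit 168960, nat_lit 165376, nat_lit 156288, nat_lit 151936, nat_lit 147904, nat_lit 143680, nat_lit 140072, nat_lit 137020, nat_lit 132226, nat_lit 327680]⟩
def iY : El := ⟨[nat_lit 0x3a5006bdab49ca307b9ac5a928398a418820], [nat_lit 69632, nat_lit 73728, nat_lit 86016, nat_lit 102400, nat_lit 178176, nat_lit 175104, nat_lit 170496, nat_lit 167680, nat_lit 162176, nat_lit 158912, nat_lit 153696, nat_lit 151184, nat_lit 146296, nat_lit 140480, nat_lit 136592, nat_lit 134317, nat_lit 6144, nat_lit 10240, nat_lit 22528, nat_lit 38912, nat_lit 327680]⟩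
def iC2 : El := ⟨[nat_lit 0xde1bde74a67bc5414bc8bb32a628da082054, nat_lit 0x8de88e055473408ca24651062f9daed9216e, nat_lit 0x1bb4279156879e0db5626a0d2e9808260557, nat_lit 0xebeee10a0d56149313471482c78296f75257], [nat_lit 69632, nat_lit 86016, nat_lit 98304, nat_lit 110592, nat_lit 173056, nat_lit 168448, nat_lit 167680, nat_lit 161664, nat_lit 155712, nat_lit 151840, nat_lit 147744, nat_lit 144456, nat_lit 142664, nat_lit 135268, nat_lit 134694, nat_lit 296, nat_lit 4532, nat_lit 11960, nat_lit 14336, nat_lit 16736, nat_lit 20800, nat_lit 32000, nat_lit 38912, nat_lit 43008, nat_lit 47084, nat_lit 43084, nat_lit 37930, nat_lit 32786, nat_lit 29270, nat_lit 24592, nat_lit 20501, nat_lit 16416, nat_lit 12289, nat_lit 8193, nat_lit 4353, nat_lit 2, nat_lit 438282, nat_lit 430088, nat_lit 421894, nat_lit 413700, nat_lit 405506, nat_lit 397312, nat_lit 166912, nat_lit 160512, nat_lit 159232, nat_lit 155392, nat_lit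 149856, nat_lit 144992, nat_lit 140912, nat_lit 136456, nat_lit 133476]⟩
def iC3 : El := ⟨[nat_lit 0x2b71d4b365440cf5338b08a56f5049760a60, nat_lit 0x963a3a45c11191e2848ae6da86586b362547, nat_lit 0x7882845848d0468299cb795509b41cf30d8a, nat_lit 0xe842ed088e9ac9c37accd642809c488558b7], [nat_lit 65536, nat_lit 81920, nat_lit 86016, nat_lit 102400, nat_lit 106496, nat_lit 178176, nat_lit 175104, nat_lit 171008, nat_lit 164096, nat_lit 161152, nat_lit 157888, nat_lit 153824, nat_lit 148800, nat_lit 145064, nat_lit 142972, nat_lit 138728, nat_lit 131516, nat_lit 40, nat_lit 8028, nat_lit 11608, nat_lit 13296, nat_lit 17920, nat_lit 22848, nat_lit 24704, nat_lit 30976, nat_lit 39936, nat_lit 46151, nat_lit 43674, nat_lit 37367, nat_lit 32923, nat_lit 29052, nat_lit 24603, nat_lit 20636, nat_lit 16427, nat_lit 12293, nat_lit 8195, nat_lit 4097, nat_lit 430088, nat_lit 421894, nat_lit 413700, nat_lit 405506, nat_lit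 397312, nat_lit 164352, nat_lit 160000, nat_lit 156288, nat_lit 152064, nat_lit 147616, nat_lit 143824, nat_lit 140184, nat_lit 136064, nat_lit 131260, nat_lit 45186, nat_lit 41834, nat_lit 327680]⟩
def iD2 : El := ⟨[nat_lit 0x650951b28d8063671913b9c80549e5a892b, nat_lit 0x44282e01613b2db1339829512f520e125477, nat_lit 0xd4e7b7a216020cd5515f13a5b38065675d82, nat_lit 0xebe11113036bba505a9f42a01148cd33b495], [nat_lit 102400, nat_lit 110592, nat_lit 178176, nat_lit 168448, nat_lit 167168, nat_lit 160640, nat_lit 159232, nat_lit 155424, nat_lit 149856, nat_lit 145000, nat_lit 140912, nat_lit 136458, nat_lit 133476, nat_lit 2664, nat_lit 4352, nat_lit 11184, nat_lit 14720, nat_lit 20256, nat_lit 20544, nat_lit 26752, nat_lit 31232, nat_lit 33280, nat_lit 38912, nat_lit 43008, nat_lit 46732, nat_lit 41732, nat_lit 37888, nat_lit 32830, nat_lit 30728, nat_lit 24603, nat_lit 20751, nat_lit 16430, nat_lit 12309, nat_lit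 4104, nat_lit 16, nat_lit 438282, nat_lit 430088, nat_lit 421894, nat_lit 413700, nat_lit 405506, nat_lit 397312, nat_lit 167424, nat_lit 161536, nat_lit 151808, nat_lit 147744, nat_lit 144448, nat_lit 142664, nat_lit 135268, nat_lit 134694]⟩
def iD3 : El := ⟨[nat_lit 0x11d122750a1821ec9a4c70484ab4577192ad, nat_lit 0xfa95050d8d36aeb4282f260c49391ea8a20e, nat_lit 0x44e484546c62520b1ce4d7a5023b8050b2f5, nat_lit 0x995ca6a8593889d46de43220c53ad2a782d0], [nat_lit 65536, nat_lit 81920, nat_lit 90112, nat_lit 106496, nat_lit 110592, nat_lit 178176, nat_lit 174080, nat_lit 168960, nat_lit 166144, nat_lit 162560, nat_lit 157504, nat_lit 153504, nat_lit 147632, nat_lit 144184, nat_lit 140188, nat_lit 136418, nat_lit 131261, nat_lit 3084, nat_lit 7532, nat_lit 12000, nat_lit 14176, nat_lit 19168, nat_lit 24384, nat_lit 28416, nat_lit 32000, nat_lit 36352, nat_lit 45960, nat_lit 41638, nat_lit 38148, nat_lit 33008,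 nat_lit 28720, nat_lit 24840, nat_lit 20567, nat_lit 16462, nat_lit 12289, nat_lit 8194, nat_lit 4100, nat_lit 430088, nat_lit 421894, nat_lit 413700, nat_lit 405506, nat_lit 397312, nat_lit 164352, nat_lit 160000, nat_lit 156160, nat_lit 151616, nat_lit 147584, nat_lit 144080, nat_lit 139904, nat_lit 135864, nat_lit 131604, nat_lit 45366, nat_lit 41949]⟩
def iU2 : El := ⟨[nat_lit 0x48211b859c638924aaee069654985115306f, nat_lit 0xebddb410d54aa1cfb948bb4a096cce189980, nat_lit 0x248edb9920370587a94178d92f51848a2db2], [nat_lit 77824, nat_lit 86016, nat_lit 90112, nat_lit 94208, nat_lit 178176, nat_lit 173056, nat_lit 169984, nat_lit 164352, nat_lit 162560, nat_lit 152704, nat_lit 147664, nat_lit 143696, nat_lit 139828, nat_lit 139026, nat_lit 134330, nat_lit 3188, nat_lit 4564, nat_lit 11344, nat_lit 12784, nat_lit 18560, nat_lit 23040, nat_lit 26880, nat_lit 33792, nat_lit 38912, nat_lit 43008, nat_lit 46793,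 nat_lit 43433, nat_lit 38277, nat_lit 32969, nat_lit 28949, nat_lit 24615, nat_lit 20555, nat_lit 16520, nat_lit 8209, nat_lit 4161, nat_lit 430087, nat_lit 417797, nat_lit 405506, nat_lit 397312, nat_lit 151744, nat_lit 140000, nat_lit 135268, nat_lit 131722, nat_lit 45645, nat_lit 41056, nat_lit 32845, nat_lit 16388]⟩
def iU3 : El := ⟨[nat_lit 0xaa060c5980998490536b1a14563b1c344aef, nat_lit 0x814b7d515956a6e47a2c704e3208c50a2cce, nat_lit 0x1148b1234615998a48a17ad1c5982c87c4f2], [nat_lit 65536, nat_lit 69632, nat_lit 81920, nat_lit 86016, nat_lit 90112, nat_lit 106496, nat_lit 110592, nat_lit 178176, nat_lit 173056, nat_lit 169472, nat_lit 165120, nat_lit 161664, nat_lit 156608, nat_lit 155328, nat_lit 150464, nat_lit 144456, nat_lit 142652, nat_lit 136318, nat_lit 133584, nat_lit 2554, nat_lit 6740, nat_lit 9808, nat_lit 13216, nat_lit 20320, nat_lit 23488, nat_lit 25728, nat_lit 30464, nat_lit 39936,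 nat_lit 43008, nat_lit 47024, nat_lit 43883, nat_lit 38941, nat_lit 29236, nat_lit 24624, nat_lit 20548, nat_lit 16426, nat_lit 12309, nat_lit 8208, nat_lit 4100, nat_lit 8, nat_lit 421893, nat_lit 409603, nat_lit 401408, nat_lit 147616, nat_lit 143536, nat_lit 139304, nat_lit 131236, nat_lit 45072, nat_lit 41013, nat_lit 36877, nat_lit 24592, nat_lit 327680]⟩
def iH : El := ⟨[nat_lit 0xbd11273d58051890b942e6a5f25d23610d13, nat_lit 0x9599c6884853aa8c336c94406b03a6fa8a57, nat_lit 0xed418b195cc9d52f029045de0d11ed491a21, nat_lit 0x2ed87443e87856e0928295bac66444d19265], [nat_lit 65536, nat_lit 73728, nat_lit 81920, nat_lit 86016, nat_lit 94208, nat_lit 102400, nat_lit 110592, nat_lit 173056, nat_lit 168448, nat_lit 164096, nat_lit 162432, nat_lit 155904, nat_lit 152928, nat_lit 149968, nat_lit 145960, nat_lit 139620, nat_lit 135202, nat_lit 134051, nat_lit 2396, nat_lit 5032, nat_lit 10200, nat_lit 16320, nat_lit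 16544, nat_lit 22912, nat_lit 25728, nat_lit 31232, nat_lit 34304, nat_lit 39936, nat_lit 46100, nat_lit 43071, nat_lit 37181, nat_lit 33516, nat_lit 29014, nat_lit 24599, nat_lit 21015, nat_lit 16385, nat_lit 12325, nat_lit 8195, nat_lit 4101, nat_lit 438282, nat_lit 430088, nat_lit 421894, nat_lit 413700, nat_lit 405506, nat_lit 397312, nat_lit 165376, nat_lit 161024, nat_lit 159488, nat_lit 155520, nat_lit 151456, nat_lit 145968, nat_lit 142584, nat_lit 138460, nat_lit 131772]⟩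
def q0 : AP := ⟨[], [], (nat_lit 26), tw0⟩
def q1 : AP := ⟨[nat_lit 4, nat_lit 624, nat_lit 5, nat_lit 628, nat_lit 0, nat_lit 2], [], (nat_lit 40), ⟨[nat_lit 75, nat_lit 69], [nat_lit 33, nat_lit 62], ⟨[nat_lit 0x13eeda012a29c755b092820ceb4433], [nat_lit 173056, nat_lit 168960, nat_lit 165120, nat_lit 161280, nat_lit 156672, nat_lit 153088, nat_lit 148752, nat_lit 144656, nat_lit 140804, nat_lit 135396, nat_lit 133549, nat_lit 588, nat_lit 4684, nat_lit 8264, nat_lit 12976, nat_lit 16960, nat_lit 20864, nat_lit 26368, nat_lit 29952, nat_lit 37888, nat_lit 41733, nat_lit 37119, nat_lit 33792, nat_lit 29306, nat_lit 24598, nat_lit 20484, nat_lit 16463, nat_lit 8193, nat_lit 4097, nat_lit 2]⟩⟩⟩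
def iTW : TW := ⟨[nat_lit 0, nat_lit 31, nat_lit 52], [], ⟨[], [nat_lit 168448, nat_lit 151584]⟩⟩
def iW : List ℕ := [nat_lit 1, nat_lit 2, nat_lit 0, nat_lit 1, nat_lit 2, nat_lit 1, nat_lit 2, nat_lit 0, nat_lit 1, nat_lit 2, nat_lit 0, nat_lit 1, nat_lit 2, nat_lit 1, nat_lit 2, nat_lit 0, nat_lit 1, nat_lit 2, nat_lit 0, nat_lit 1, nat_lit 2, nat_lit 1, nat_lit 2, nat_lit 0, nat_lit 1, nat_lit 2, nat_lit 0, nat_lit 1, nat_lit 2, nat_lit 1, nat_lit 2, nat_lit 0, nat_lit 1, nat_lit 2, nat_lit 0, nat_lit 1, nat_lit 2, nat_lit 1, nat_lit 2, nat_lit 0, nat_lit 1, nat_lit 2, nat_lit 0, nat_lit 1, nat_lit 2, nat_lit 1, nat_lit 2, nat_lit 0, nat_lit 1, nat_lit 2, nat_lit 0, nat_lit 1, nat_lit 2, nat_lit 1, nat_lit 2, nat_lit 0, nat_lit 1, nat_lit 2, nat_lit 0, nat_lit 1, nat_lit 2, nat_lit 1, nat_lit 2, nat_lit 0, nat_lit 1, nat_lit 2, nat_lit 0, nat_lit 1, nat_lit 2, nat_lit 1, nat_lit 2, nat_lit 0]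
def iJ : List (ℕ × List ℕ) := [(nat_lit 4096, [nat_lit 1, nat_lit 2, nat_lit 0, nat_lit 1, nat_lit 0, nat_lit 1, nat_lit 0, nat_lit 2, nat_lit 1, nat_lit 0, nat_lit 2, nat_lit 1, nat_lit 2, nat_lit 0, nat_lit 2, nat_lit 1, nat_lit 0, nat_lit 1, nat_lit 0]),
  (nat_lit 8192, [nat_lit 0, nat_lit 1, nat_lit 0, nat_lit 1, nat_lit 2, nat_lit 1, nat_lit 2, nat_lit 0, nat_lit 2, nat_lit 0, nat_lit 1, nat_lit 2, nat_lit 1, nat_lit 2, nat_lit 0, nat_lit 1, nat_lit 2, nat_lit 0, nat_lit 2, nat_lit 0, nat_lit 1, nat_lit 0, nat_lit 1, nat_lit 2, nat_lit 0, nat_lit 1, nat_lit 2, nat_lit 0, nat_lit 1, nat_lit 0]),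
  (nat_lit 16384, [nat_lit 1, nat_lit 0, nat_lit 2, nat_lit 1, nat_lit 2, nat_lit 0, nat_lit 1, nat_lit 0, nat_lit 1, nat_lit 2, nat_lit 0, nat_lit 1, nat_lit 2, nat_lit 1, nat_lit 0, nat_lit 1, nat_lit 2, nat_lit 0, nat_lit 1, nat_lit 2, nat_lit 1, nat_lit 0, nat_lit 1, nat_lit 2, nat_lit 0, nat_lit 2, nat_lit 0, nat_lit 1, nat_lit 0, nat_lit 1]),
  (nat_lit 32768, [nat_lit 1, nat_lit 0, nat_lit 2, nat_lit 1, nat_lit 0, nat_lit 2, nat_lit 0, nat_lit 2, nat_lit 0, nat_lit 1, nat_lit 0, nat_lit 1, nat_lit 2, nat_lit 0, nat_lit 1, nat_lit 2, nat_lit 1, nat_lit 0, nat_lit 1, nat_lit 0, nat_lit 1, nat_lit 0, nat_lit 2, nat_lit 0, nat_lit 1]),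
  (nat_lit 65536, [nat_lit 2, nat_lit 1, nat_lit 2, nat_lit 0, nat_lit 1, nat_lit 2, nat_lit 0, nat_lit 2, nat_lit 1, nat_lit 2, nat_lit 1, nat_lit 2, nat_lit 0, nat_lit 1, nat_lit 2, nat_lit 0, nat_lit 1, nat_lit 2, nat_lit 0, nat_lit 2, nat_lit 1, nat_lit 0, nat_lit 1, nat_lit 0, nat_lit 1, nat_lit 2, nat_lit 1, nat_lit 0, nat_lit 1]),
  (nat_lit 131072, [nat_lit 0, nat_lit 1, nat_lit 2, nat_lit 1, nat_lit 2, nat_lit 0, nat_lit 2, nat_lit 1, nat_lit 2, nat_lit 1, nat_lit 2, nat_lit 0, nat_lit 1, nat_lit 2, nat_lit 1, nat_lit 2, nat_lit 1, nat_lit 0, nat_lit 2, nat_lit 0, nat_lit 1, nat_lit 0, nat_lit 1, nat_lit 2, nat_lit 1, nat_lit 2, nat_lit 0, nat_lit 1, nat_lit 0]),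
  (nat_lit 262144, [nat_lit 2, nat_lit 0, nat_lit 2, nat_lit 1, nat_lit 2, nat_lit 0, nat_lit 1, nat_lit 2, nat_lit 0, nat_lit 1, nat_lit 2, nat_lit 0, nat_lit 1, nat_lit 2, nat_lit 1, nat_lit 2, nat_lit 0, nat_lit 2, nat_lit 0, nat_lit 1, nat_lit 0, nat_lit 2, nat_lit 1, nat_lit 2, nat_lit 1, nat_lit 2, nat_lit 1, nat_lit 0, nat_lit 1, nat_lit 0]),
  (nat_lit 524288, [nat_lit 2, nat_lit 1, nat_lit 2, nat_lit 1, nat_lit 0, nat_lit 1, nat_lit 2, nat_lit 1, nat_lit 2, nat_lit 1, nat_lit 0, nat_lit 1, nat_lit 2, nat_lit 0, nat_lit 1, nat_lit 2, nat_lit 1, nat_lit 2, nat_lit 1, nat_lit 0, nat_lit 2, nat_lit 1, nat_lit 2, nat_lit 1, nat_lit 2, nat_lit 1, nat_lit 0, nat_lit 1, nat_lit 0]),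
  (nat_lit 1048576, [nat_lit 1, nat_lit 0, nat_lit 2, nat_lit 1, nat_lit 0, nat_lit 2, nat_lit 0, nat_lit 2, nat_lit 0, nat_lit 1, nat_lit 2, nat_lit 1, nat_lit 0, nat_lit 1, nat_lit 2, nat_lit 0]),
  (nat_lit 2097152, [nat_lit 0, nat_lit 1, nat_lit 2, nat_lit 1, nat_lit 2, nat_lit 0, nat_lit 2, nat_lit 1, nat_lit 2, nat_lit 1, nat_lit 2, nat_lit 1, nat_lit 0, nat_lit 1, nat_lit 2, nat_lit 1, nat_lit 2, nat_lit 1, nat_lit 0, nat_lit 1, nat_lit 0, nat_lit 2, nat_lit 1, nat_lit 2, nat_lit 1, nat_lit 2, nat_lit 1, nat_lit 0, nat_lit 1, nat_lit 0]),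
  (nat_lit 4194304, [nat_lit 1, nat_lit 2, nat_lit 1, nat_lit 0, nat_lit 1, nat_lit 0, nat_lit 2, nat_lit 1, nat_lit 0, nat_lit 1, nat_lit 0, nat_lit 2, nat_lit 0, nat_lit 2, nat_lit 1, nat_lit 0, nat_lit 2, nat_lit 1, nat_lit 2, nat_lit 1, nat_lit 0, nat_lit 2, nat_lit 0, nat_lit 2, nat_lit 1, nat_lit 2, nat_lit 0, nat_lit 1]),
  (nat_lit 8392704, [nat_lit 1, nat_lit 2, nat_lit 0, nat_lit 2, nat_lit 0, nat_lit 1, nat_lit 2, nat_lit 1, nat_lit 2, nat_lit 0, nat_lit 1, nat_lit 0, nat_lit 2, nat_lit 0, nat_lit 1, nat_lit 0, nat_lit 2, nat_lit 0]),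
  (nat_lit 2048, [nat_lit 0, nat_lit 2, nat_lit 0, nat_lit 1, nat_lit 2, nat_lit 1, nat_lit 2, nat_lit 0, nat_lit 1, nat_lit 2, nat_lit 1, nat_lit 0, nat_lit 1, nat_lit 2, nat_lit 1, nat_lit 0, nat_lit 2, nat_lit 0, nat_lit 2, nat_lit 1, nat_lit 2, nat_lit 0, nat_lit 1]),
  (nat_lit 2049, [nat_lit 1, nat_lit 0, nat_lit 2, nat_lit 1, nat_lit 2, nat_lit 0, nat_lit 1, nat_lit 0, nat_lit 1, nat_lit 0, nat_lit 2, nat_lit 0, nat_lit 2, nat_lit 1, nat_lit 2, nat_lit 0, nat_lit 2, nat_lit 1, nat_lit 0, nat_lit 1, nat_lit 2, nat_lit 1, nat_lit 2, nat_lit 1, nat_lit 0, nat_lit 1]),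
  (nat_lit 2050, [nat_lit 2, nat_lit 0, nat_lit 1, nat_lit 0, nat_lit 1, nat_lit 0, nat_lit 2, nat_lit 1, nat_lit 0, nat_lit 2, nat_lit 1, nat_lit 2, nat_lit 1, nat_lit 0, nat_lit 2, nat_lit 1, nat_lit 0, nat_lit 1, nat_lit 0, nat_lit 2, nat_lit 1, nat_lit 2, nat_lit 1, nat_lit 0, nat_lit 2, nat_lit 0, nat_lit 2, nat_lit 1, nat_lit 0, nat_lit 1, nat_lit 0]),
  (nat_lit 2052, [nat_lit 0, nat_lit 2, nat_lit 1, nat_lit 0, nat_lit 1, nat_lit 2, nat_lit 0, nat_lit 1, nat_lit 0, nat_lit 2, nat_lit 0, nat_lit 2, nat_lit 1, nat_lit 2, nat_lit 0, nat_lit 2, nat_lit 0, nat_lit 1, nat_lit 0, nat_lit 2, nat_lit 1, nat_lit 2, nat_lit 1, nat_lit 2, nat_lit 0, nat_lit 1, nat_lit 0]),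
  (nat_lit 2056, [nat_lit 0, nat_lit 1, nat_lit 0, nat_lit 1, nat_lit 2, nat_lit 1, nat_lit 0, nat_lit 2, nat_lit 0, nat_lit 2, nat_lit 0, nat_lit 1, nat_lit 2, nat_lit 1, nat_lit 2, nat_lit 0, nat_lit 2, nat_lit 1, nat_lit 2, nat_lit 1, nat_lit 2, nat_lit 1, nat_lit 0, nat_lit 1, nat_lit 0]),
  (nat_lit 2064, [nat_lit 1, nat_lit 2, nat_lit 0, nat_lit 1, nat_lit 0, nat_lit 2, nat_lit 1, nat_lit 2, nat_lit 0, nat_lit 1, nat_lit 2, nat_lit 0, nat_lit 1, nat_lit 2, nat_lit 0, nat_lit 1, nat_lit 2, nat_lit 1, nat_lit 0, nat_lit 1, nat_lit 2, nat_lit 1, nat_lit 0, nat_lit 2, nat_lit 1, nat_lit 2, nat_lit 0, nat_lit 1, nat_lit 0, nat_lit 1]),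
  (nat_lit 2080, [nat_lit 0, nat_lit 2, nat_lit 0, nat_lit 1, nat_lit 2, nat_lit 0, nat_lit 1, nat_lit 2, nat_lit 1, nat_lit 2, nat_lit 0, nat_lit 1, nat_lit 2, nat_lit 1, nat_lit 2, nat_lit 1, nat_lit 0, nat_lit 2, nat_lit 1, nat_lit 0, nat_lit 2, nat_lit 1, nat_lit 2, nat_lit 1, nat_lit 2, nat_lit 1, nat_lit 0, nat_lit 1]),
  (nat_lit 2112, [nat_lit 1, nat_lit 2, nat_lit 1, nat_lit 0, nat_lit 1, nat_lit 0, nat_lit 1, nat_lit 2, nat_lit 1, nat_lit 2, nat_lit 0, nat_lit 1, nat_lit 0, nat_lit 2, nat_lit 0, nat_lit 2, nat_lit 1, nat_lit 2, nat_lit 1, nat_lit 2, nat_lit 1, nat_lit 0, nat_lit 1]),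
  (nat_lit 2176, [nat_lit 0, nat_lit 1, nat_lit 0, nat_lit 2, nat_lit 1, nat_lit 2, nat_lit 1, nat_lit 2, nat_lit 1, nat_lit 0, nat_lit 2, nat_lit 1, nat_lit 0, nat_lit 1, nat_lit 0, nat_lit 1, nat_lit 0, nat_lit 2, nat_lit 0, nat_lit 1, nat_lit 2, nat_lit 0, nat_lit 1, nat_lit 0]),
  (nat_lit 2304, [nat_lit 1, nat_lit 0, nat_lit 2, nat_lit 0, nat_lit 1, nat_lit 0, nat_lit 1, nat_lit 2, nat_lit 1, nat_lit 0, nat_lit 2, nat_lit 0, nat_lit 2, nat_lit 1, nat_lit 2, nat_lit 0, nat_lit 1, nat_lit 0, nat_lit 1, nat_lit 2, nat_lit 0, nat_lit 2, nat_lit 1, nat_lit 2, nat_lit 1, nat_lit 2, nat_lit 1, nat_lit 0, nat_lit 1, nat_lit 0]),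
  (nat_lit 2560, [nat_lit 2, nat_lit 1, nat_lit 0, nat_lit 2, nat_lit 0, nat_lit 1, nat_lit 0, nat_lit 2, nat_lit 1, nat_lit 2, nat_lit 1, nat_lit 2, nat_lit 1, nat_lit 0, nat_lit 1, nat_lit 2, nat_lit 1, nat_lit 0, nat_lit 2, nat_lit 0, nat_lit 2, nat_lit 0, nat_lit 1, nat_lit 0, nat_lit 1]),
  (nat_lit 3072, [nat_lit 1, nat_lit 0, nat_lit 2, nat_lit 1, nat_lit 2, nat_lit 1, nat_lit 2, nat_lit 1, nat_lit 0, nat_lit 2, nat_lit 1, nat_lit 2, nat_lit 0, nat_lit 1, nat_lit 0, nat_lit 1, nat_lit 0])]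

end CF.Mon.Tr
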