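import Cfsg.Agent.Mon.YL
import Cfsg.Agent.Schur.Fi22

/-! The multiplier of `²E₆(2)`, given a model of `Y 3 3 3` with `f₃₁ = 1` and centre of order four. -/

set_option autoImplicit false
set_option maxRecDepth 100000

namespace CF.MonY

open Cfsg Cfsg.Spor CF.Comp CF.Schur CF.Schur.Pc Function

variable {G E : Type*} [Group G] [Group E] {p q r : ℕ} {g : Nd → G}

/-- the generators as elements of the group they generate -/
def rs (p q r : ℕ) (g : Nd → G) (n : Nd) : Yc p q r g :=
  if a : inY p q r n = true then ⟨g n, mem_Yc a⟩ else 1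

theorem rs_coe {n : Nd} (a : inY p q r n = true) : (rs p q r g n : G) = g n := by rw [rs, dif_pos a]

theorem rs_cox (h : YCox p q r g) : YCox p q r (rs p q r g) := ⟨fun x y a b => Subtype.ext (by
  rw [Subgroup.coe_pow, Subgroup.coe_mul, rs_coe a, rs_coe b]; exact h.rel x y a b)⟩

theorem rs_top : Yc p q r (rs p q r g) = ⊤ := Subgroup.map_injective (Subgroup.subtype_injective _) (by
  rw [map_Yc, ← MonoidHom.range_eq_map, Subgroup.range_subtype]
  exact congrArg Subgroup.closure (Set.image_congr fun _ a => rs_coe a))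

theorem rs_pr {w : List Nd} (hw : ∀ x ∈ w, inY p q r x = true) :
    ((pr (rs p q r g) w : Yc p q r g) : G) = pr g w :=
  (map_pr (Subgroup.subtype _) w).trans (pr_congr fun x a => rs_coe (hw x a))

theorem rs_spider (h : Spider g) (hw : ∀ x ∈ spW, inY p q r x = true) : Spider (rs p q r g) :=
  spider_iff.2 (Subtype.ext (by rw [Subgroup.coe_pow, rs_pr hw]; exact spider_iff.1 h))

/-- an odd relation makes the group perfect -/
theorem perfect_of_odd (h : YCox p q r g) (top : Yc p q r g = ⊤)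
    (con : ∀ x, inY p q r x = true → x = .a ∨ ∃ y, inY p q r y = true ∧ lab x y = 3 ∧
      (pos y).2 < (pos x).2) {w : List Nd} (hw : ∀ x ∈ w, inY p q r x = true)
    (odd : w.length % 2 = 1) (e : pr g w = 1) : commutator G = ⊤ := by
  let m : G →* Abelianization G := Abelianization.of
  have cm := h.map m
  have k : ∀ n x, (pos x).2 < n → inY p q r x = true → m (g x) = m (g .a) := by
    intro n
    induction n with
    | zero => exact fun _ a => absurd a (Nat.not_lt_zero _)
    | succ n ih =>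
      intro x a b
      rcases con x b with rfl | ⟨y, c, d, f⟩
      · rfl
      · exact (Mon.C3.eq_of_braid (cm.sq b) (mul_comm _ _) (cm.sq c) (cm.braid b c d)).trans
          (ih y (by omega) c)
  have k := fun x => k _ x (Nat.lt_succ_self _)
  obtain ⟨x, hx⟩ : ∃ x, x ∈ w := List.exists_mem_of_length_pos (by omega)
  have a2 : m (g .a) * m (g .a) = 1 := k x (hw x hx) ▸ cm.sq (hw x hx)
  have : m (g .a) = 1 := by
    have := pr_mul_odd (g := fun _ => 1) a2 (w := w) (fun _ _ => Commute.all _ _) odd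
    rw [← pr_congr (g' := fun x => m (g x)) fun x a => (k x (hw x a)).trans (one_mul _).symm,
      ← map_pr, e, map_one, ← map_one m, ← map_pr (g := fun _ => (1 : G))] at this
    have o : pr (fun _ => (1 : G)) w = 1 := Subgroup.mem_bot.1 (pr_mem fun _ _ => one_mem _)
    rw [o, map_one, one_mul] at this
    exact this.symm
  rw [eq_top_iff, ← top, ← Abelianization.ker_of]
  exact Yc_le.2 fun x a => (k x a).trans this

/-- lifting along a stem extension whose kernel is almost the whole multiplier -/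
theorem lift_stem {F D : Type*} [Group F] [Finite F] [Group D] (hF : commutator F = ⊤) {τ : D →* F}
    (hτ : IsStemExtension τ) {n : ℕ} (hn : Nat.card (Mult F) ≤ n * Nat.card τ.ker) {ξ : E →* G}
    (hξ : CExt ξ) (φ : F →* G) : ∃ (C : Subgroup E) (_ : C.Normal) (hC : C ≤ ξ.ker), Finite C ∧
      Nat.card C ≤ n ∧ ∃ θ : D →* E ⧸ C, (quo ξ C hC).comp θ = φ.comp τ := by
  obtain ⟨Γ, _, _, σ, hσ, ⟨e⟩, β, hβ, eβ⟩ := exists_cover_over hτ
  have pΓ := perfect_of_stem hσ hF
  have c : Nat.card σ.ker = Nat.card (Mult F) := Nat.card_congr e.toEquiv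
  obtain ⟨η, hη⟩ := exists_lift_of_trivial pΓ
    (trivial_of_cover_perfect (hasSchur_mult F) (stem_cext hσ) pΓ c.ge) hξ (φ.comp σ)
  have hC : β.ker.map η ≤ ξ.ker := by
    rintro _ ⟨x, a, rfl⟩
    rw [MonoidHom.mem_ker, ← MonoidHom.comp_apply, hη, ← eβ, MonoidHom.comp_apply,
      MonoidHom.comp_apply, MonoidHom.mem_ker.1 a, map_one, map_one]
  haveI nC := hξ.normal_of_le_ker hC
  haveI : Finite D := Finite.of_surjective _ hβ
  have su := MonoidHom.subgroupMap_surjective η β.ker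
  refine ⟨_, nC, hC, Finite.of_surjective _ su, (Nat.card_le_card_of_surjective _ su).trans ?_,
    β.liftOfSurjective hβ ⟨(QuotientGroup.mk' _).comp η, fun x a =>
      (QuotientGroup.eq_one_iff _).2 ⟨x, a, rfl⟩⟩, MonoidHom.ext fun x => ?_⟩
  · have a := card_eq_mul_ker hβ
    rw [card_eq_mul_ker hσ.1, card_eq_mul_ker hτ.1, mul_assoc, c] at a
    have b := Nat.eq_of_mul_eq_mul_left Nat.card_pos a
    rw [b, mul_comm] at hn
    exact Nat.le_of_mul_le_mul_right hn Nat.card_pos
  · obtain ⟨x, rfl⟩ := hβ x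
    rw [MonoidHom.comp_apply, MonoidHom.liftOfRightInverse_comp_apply]
    change ξ (η x) = φ (τ (β x))
    rw [← MonoidHom.comp_apply ξ, hη, ← eβ]; rfl

/-- the four-group generated by two commuting involutions -/
def four {a b : G} (ha : a * a = 1) (hb : b * b = 1) (h : Commute a b) : Subgroup G where
  carrier := {1, a, b, a * b}
  one_mem' := Or.inl rfl
  mul_mem' := by
    have e : a * (a * b) = b := by rw [← mul_assoc, ha, one_mul]
    have f : b * (a * b) = a := by rw [h.eq, ← mul_assoc, hb, one_mul]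
    rintro _ _ (rfl | rfl | rfl | rfl) (rfl | rfl | rfl | rfl) <;>
      simp [ha, hb, e, f, mul_assoc, h.symm.eq]
  inv_mem' := by
    rintro _ (rfl | rfl | rfl | rfl) <;>
      simp [inv_eq_of_mul_eq_one_right ha, inv_eq_of_mul_eq_one_right hb, h.symm.eq]

theorem klein_four {a b : G} (ha : a * a = 1) (hb : b * b = 1) (h : Commute a b) (a1 : a ≠ 1)
    (b1 : b ≠ 1) (ab : a ≠ b) : IsKleinFour (four ha hb h) := by
  refine ⟨(Nat.card_coe_set_eq _).trans (Set.ncard_eq_four.2 ⟨1, a, b, a * b, a1.symm, b1.symm,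
    fun e => ab ?_, ab, by simpa using b1, by simpa using a1, rfl⟩),
    (@Monoid.exponent_eq_prime_iff _ _ ⟨⟨a, Or.inr (Or.inl rfl)⟩, 1, fun e =>
      a1 (congrArg Subtype.val e)⟩ _ Nat.prime_two).2 fun x e => orderOf_eq_prime (Subtype.ext ?_) e⟩
  · rw [eq_inv_of_mul_eq_one_left e.symm, inv_eq_of_mul_eq_one_right hb]
  · obtain ⟨_, rfl | rfl | rfl | rfl⟩ := x
    exacts [by simp, (sq _).trans ha, (sq _).trans hb, (h.mul_pow 2).trans (by rw [sq, sq, ha, hb, one_mul]; rfl)]

theorem con333 : ∀ x, inY 3 3 3 x = true → x = .a ∨ ∃ y, inY 3 3 3 y = true ∧ lab x y = 3 ∧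
    (pos y).2 < (pos x).2 := by decide +kernel

theorem con332 : ∀ x, inY 3 3 2 x = true → x = .a ∨ ∃ y, inY 3 3 2 y = true ∧ lab x y = 3 ∧
    (pos y).2 < (pos x).2 := by decide +kernel

variable (h : Y333 g) (top : Yc 3 3 3 g = ⊤) (hc : Nat.card G = 76532479683774853939200)
include h top hc

/-- the stem extension with kernel of order four -/
theorem exists_four {X : Type} [Group X] {t : Nd → X} (ht : YCox 3 3 3 t) (hs : Spider t)
    (h3 : f31 t = 1) (h1 : f12 t ≠ 1) (h2 : f21 t ≠ 1) (h12 : f12 t ≠ f21 t) :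
    ∃ (P : Subgroup (X × G)) (ξ : P →* G) (s : Nd → P), IsStemExtension ξ ∧ IsKleinFour ξ.ker ∧
      Over ξ 3 3 3 s g ∧ f12 s ≠ f21 s := by
  have c := ht.prod h.cox
  have sp : Spider fun x => (t x, g x) := Prod.ext hs h.spider
  obtain ⟨_, b⟩ := card_333_f31 c sp (Prod.ext h3 h.h3)
  set P := Yc 3 3 3 fun x => (t x, g x)
  let ξ : P →* G := (MonoidHom.snd X G).comp P.subtype
  let s : Nd → P := rs 3 3 3 fun x => (t x, g x)
  have cs : YCox 3 3 3 s := rs_cox c
  have ss : Spider s := rs_spider sp (by decide +kernel)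
  have su : Surjective ξ := by
    rw [← MonoidHom.range_eq_top, ← MonoidHom.map_range, Subgroup.range_subtype, map_Yc]
    exact top
  have e1 : (f12 s).1 = (f12 t, 1) := by
    rw [f12_eq, rs_pr (by decide +kernel), ← f12_eq, ← h.h1]; rfl
  have e2 : (f21 s).1 = (f21 t, 1) := by
    rw [f21_eq, rs_pr (by decide +kernel), ← f21_eq, ← h.h2]; rfl
  have e3 : pr s ((fW.map s12).map s23) = 1 := Subtype.ext (by
    rw [rs_pr (by decide +kernel), ← f31_eq]; exact Prod.ext h3 h.h3)
  have z : ∀ u : P, (∀ x, inY 3 3 3 x = true → Commute u (s x)) → u ∈ Subgroup.center P :=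
    fun u a => Subgroup.mem_center_iff.2 fun y => Subgroup.mem_centralizer_singleton_iff.1
      ((rs_top.ge.trans (Yc_le.2 fun x b => Subgroup.mem_centralizer_singleton_iff.2 (a x b).symm.eq)) trivial)
  have z1 := z _ fun x a => f12_comm cs le_rfl (by decide) (by decide) ss a
    (by rintro rfl; exact absurd a (by decide))
  have z2 := z _ fun x a => f21_comm cs (by decide) le_rfl (by decide) ss a
    (by rintro rfl; exact absurd a (by decide))
  have ne : f12 s ≠ f21 s := fun e => h12 (congrArg Prod.fst (e1.symm.trans (e ▸ e2)))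
  have K := klein_four (f12_sq (cs.mono le_rfl (by decide) (by decide)))
    (f21_sq (cs.mono (by decide) le_rfl (by decide))) (Subgroup.mem_center_iff.1 z2 _)
    (fun e => h1 (congrArg Prod.fst (e1.symm.trans (congrArg _ e))))
    (fun e => h2 (congrArg Prod.fst (e2.symm.trans (congrArg _ e)))) ne
  have m1 : f12 s ∈ ξ.ker := congrArg Prod.snd e1
  have m2 : f21 s ∈ ξ.ker := congrArg Prod.snd e2
  rw [card_eq_mul_ker su, hc, mul_comm 4] at b
  have k := Subgroup.eq_of_le_of_card_ge (K := ξ.ker) (by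
    rintro _ (rfl | rfl | rfl | rfl)
    exacts [one_mem _, m1, m2, mul_mem m1 m2])
    ((Nat.le_of_mul_le_mul_left b (by norm_num)).trans K.card_four.ge)
  refine ⟨P, ξ, s, stem_of_perfect ⟨su, k ▸ ?_⟩
    (perfect_of_odd cs rs_top con333 (by decide +kernel) (by decide +kernel) e3), k ▸ K,
    ⟨cs, ss, fun x a => congrArg Prod.snd (rs_coe a)⟩, ne⟩
  rintro _ (rfl | rfl | rfl | rfl)
  exacts [one_mem _, z1, z2, mul_mem z1 z2]

theorem card_ker_le {P : Type*} [Group P] {ξ : P →* G} (hξ : CExt ξ) {s : Nd → P}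
    (H : Over ξ 3 3 3 s g) (ne : f12 s ≠ f21 s) {σ : E →* G} (hσ : IsStemExtension σ) :
    Nat.card σ.ker ≤ 12 := by
  haveI : Finite G := Nat.finite_of_card_ne_zero (by rw [hc]; norm_num)
  haveI : Nontrivial G := Finite.one_lt_card_iff_nontrivial.1 (by rw [hc]; norm_num)
  obtain ⟨φ, hφ⟩ := h.exists_hom
  have iφ := h.inj top hφ
  have q1 := f12_sq (H.1.mono le_rfl (by decide) (by decide))
  have k1 : ξ (f12 s) = 1 := by rw [f12_eq, H.pr (by decide +kernel), ← f12_eq, h.h1]
  have H' := H.mul hξ k1 q1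
  set d := fun x => s x * f12 s
  have cd : YCox 3 3 2 d := H'.1.mono le_rfl le_rfl (by decide)
  have mo : ∀ {x}, inY 3 3 2 x = true → inY 3 3 3 x = true := inY_mono le_rfl le_rfl (by decide)
  have mr : ∀ x : Yc 3 3 2 d, ξ x ∈ φ.range := fun x => range22 hφ ▸
    (Yc_le (H := (Yc 3 3 2 g).comap ξ)).2 (fun n a => by
      rw [Subgroup.mem_comap, H'.2.2 n (mo a)]; exact mem_Yc a) x.2
  let τ : Yc 3 3 2 d →* Spor.Fi22 := (MonoidHom.ofInjective iφ).symm.toMonoidHom.comp
    ((ξ.comp (Subgroup.subtype _)).codRestrict _ mr)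
  have eτ : ∀ x, φ (τ x) = ξ x := fun x => MonoidHom.apply_ofInjective_symm iφ _
  have hτ : IsStemExtension τ := stem_of_perfect ⟨fun y => by
      obtain ⟨x, a, e⟩ : φ y ∈ (Yc 3 3 2 d).map ξ := by
        rw [map_Yc]
        exact (Yc_le.2 fun n a => H'.2.2 n (mo a) ▸ mem_Yc (g := fun x => ξ (d x)) a)
          ((range22 hφ).le ⟨y, rfl⟩)
      exact ⟨⟨x, a⟩, iφ ((eτ _).trans e)⟩, fun x a => Subgroup.mem_center_iff.2 fun y =>
        Subtype.ext (hξ.comm (by rw [← eτ, MonoidHom.mem_ker.1 a, map_one]) _)⟩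
    (perfect_of_odd (rs_cox cd) rs_top con332 (w := fW) (by decide +kernel) (by decide +kernel)
      (Subtype.ext (by
        rw [rs_pr (by decide +kernel), pr_mul_odd q1 (fun _ _ => hξ.commute k1 _) (by decide +kernel),
          ← f12_eq]; exact q1)))
  haveI : Finite τ.ker := stem_mul hτ ▸ (stem_cext hτ).finite_mul
  have k2 : ξ (f21 d) = 1 := by rw [f21_eq, H'.pr (by decide +kernel), ← f21_eq, h.h2]
  haveI : Nontrivial τ.ker := ⟨⟨⟨f21 d, f21_eq (g := d) ▸ pr_mem fun x a => mem_Yc (by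
    revert x; decide +kernel)⟩, iφ (by rw [eτ, map_one]; exact k2)⟩, 1, fun e => ne (by
      have : f21 d = 1 := congrArg (·.1.1) e
      rw [f21_mul (H.1.mono (by decide) le_rfl (by decide)) q1 fun _ _ => hξ.commute k1 _] at this
      rw [eq_inv_of_mul_eq_one_left this, inv_eq_of_mul_eq_one_left q1])⟩
  obtain ⟨C, _, hC, _, c3, θ, hθ⟩ := lift_stem (n := 3) (haveI := Fi22.simple
    perfect_of_card (by rw [Fi22.card]; norm_num)) hτ (Schur.Fi22.mult.trans (by
      have := Finite.one_lt_card (α := τ.ker); omega)) (stem_cext hσ) φ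
  have hσ' := stem_quo' hσ C hC
  have hξ' := stem_cext hσ'
  have O : Over (quo σ C hC) 3 3 2 (fun x => θ (rs 3 3 2 d x)) g :=
    ⟨(rs_cox cd).map θ, (rs_spider H'.2.1 (by decide +kernel)).map θ, fun x a => by
      rw [← MonoidHom.comp_apply, hθ, MonoidHom.comp_apply, eτ, rs_coe a, H'.2.2 x (mo a)]⟩
  obtain ⟨_, O⟩ := O.ext hξ' h.cox (y := .d3) (x := .c3) (x' := .b3) (x'' := .a) (by decide +kernel)
  have q3 := f31_sq (O.1.mono (by decide) (by decide) le_rfl)
  have k3 := (congrArg _ f31_eq).trans ((O.pr (by decide +kernel)).trans (f31_eq.symm.trans h.h3))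
  obtain ⟨e, O', e3⟩ : ∃ e, Over (quo σ C hC) 3 3 3 e g ∧ f31 e = 1 := ⟨_, O.mul hξ' k3 q3, by
    rw [f31_eq, pr_mul_odd q3 (fun _ _ => hξ'.commute k3 _) (by decide +kernel), ← f31_eq, q3]⟩
  obtain ⟨_, b⟩ := card_333_f31 O'.1 O'.2.1 e3
  have su := surjective_of_over_stem hσ' (η := (quo σ C hC).comp (Yc 3 3 3 e).subtype) (by
    rw [← MonoidHom.range_eq_top, ← MonoidHom.map_range, Subgroup.range_subtype, eq_top_iff, ← top]
    exact Yc_le.2 fun n a => ⟨_, mem_Yc a, O'.2.2 n a⟩) rfl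
  have := (Nat.card_le_card_of_surjective _ su).trans b
  rw [card_eq_mul_ker hσ'.1, hc, mul_comm 4, card_ker_quo] at this
  have c4 := Nat.le_of_mul_le_mul_left this (by norm_num)
  rw [← Subgroup.card_mul_index (C.subgroupOf σ.ker),
    Nat.card_congr (Subgroup.subgroupOfEquivOfLe hC).toEquiv]
  exact Nat.mul_le_mul c3 c4

theorem schur_E6 {X : Type} [Group X] {t : Nd → X} (ht : YCox 3 3 3 t) (hs : Spider t)
    (h3 : f31 t = 1) (h1 : f12 t ≠ 1) (h2 : f21 t ≠ 1) (h12 : f12 t ≠ f21 t)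
    (d3 : Dom G (Multiplicative (ZMod 3))) :
    HasSchurMultiplier G (Multiplicative (ZMod 3 × ZMod 2 × ZMod 2)) := by
  haveI : Finite G := Nat.finite_of_card_ne_zero (by rw [hc]; norm_num)
  obtain ⟨P, ξ, s, a, b, c, d⟩ := exists_four h top hc ht hs h3 h1 h2 h12
  obtain ⟨e⟩ := IsKleinFour.nonempty_mulEquiv (G₁ := ξ.ker) (G₂ := Multiplicative (ZMod 2 × ZMod 2))
  refine (d3.prod' ((dom_ker a).congr e) (by simp; norm_num)).hasSchur ?_
  obtain ⟨Γ, _, _, σ, hσ, ⟨e⟩⟩ := (hasSchur_mult G).1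
  rw [← Nat.card_congr e.toEquiv]
  simpa using card_ker_le h top hc (stem_cext a) c d hσ

end CF.MonY
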