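import Cfsg.Agent.Eqns.CF_Mon
import Cfsg.Agent.Mon.Model

/-! Relator check, part A: formal sums, bits, gates on numbers. -/

set_option autoImplicit false
set_option maxHeartbeats 400000
set_option maxRecDepth 100000

namespace CF.Mon.R

open Matrix Cfsg CF.Leech CF.Comp Lab

/-! ### formal sums -/

/-- formal sums `∑ (p - n) [k]`; `bad` marks a failure -/
inductive TL where
  | nil : TL
  | bad : TL
  | cons (k p n : ℕ) (t : TL) : TL

def TL.ok : TL → Prop
  | .nil => True
  | .bad => False
  | .cons _ _ _ t => t.ok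

noncomputable def TL.ev (f : ℕ → ℝ) : TL → ℝ
  | .nil => 0
  | .bad => 0
  | .cons k p n t => ((p : ℝ) - n) * f k + t.ev f

/-- the value of a formal sum that did not fail -/
def TL.Is (L : TL) (f : ℕ → ℝ) (x : ℝ) : Prop := L.ok → L.ev f = x

noncomputable def comb (k p n : ℕ) (r : TL) : TL :=
  force p fun p => force n fun n => Bool.rec
    (force (Nat.sub p n) fun a => force (Nat.sub n p) fun b => TL.cons k a b r) r (Nat.beq p n)

theorem comb_ok (k p n : ℕ) (r : TL) : (comb k p n r).ok ↔ r.ok := by
  simp only [comb, force_eq]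
  cases Nat.beq p n <;> rfl

theorem comb_ev (f : ℕ → ℝ) (k p n : ℕ) (r : TL) :
    (comb k p n r).ev f = ((p : ℝ) - n) * f k + r.ev f := by
  simp only [comb, force_eq]
  cases h : Nat.beq p n
  · change (((p - n : ℕ) : ℝ) - (n - p : ℕ)) * f k + r.ev f = _
    congr 2
    rcases le_total p n with h | h
    · rw [Nat.sub_eq_zero_of_le h, Nat.cast_sub h]; simp
    · rw [Nat.sub_eq_zero_of_le h, Nat.cast_sub h]; simp
  · rw [Nat.eq_of_beq_eq_true h]; simp

/-- merge -/
noncomputable def mg (l : TL) : TL → TL :=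
  TL.rec (motive := fun _ => TL → TL) (fun m => m) (fun _ => TL.bad)
    (fun k p n t ih m => TL.rec (motive := fun _ => TL) (TL.cons k p n t) TL.bad
      (fun k' p' n' t' ih' => Bool.rec (TL.cons k' p' n' ih')
        (Bool.rec (TL.cons k p n (ih (TL.cons k' p' n' t')))
          (comb k (Nat.add p p') (Nat.add n n') (ih t')) (Nat.beq k k')) (Nat.ble k k')) m) l

theorem mg_cons_cons (k p n : ℕ) (t : TL) (k' p' n' : ℕ) (t' : TL) :
    mg (.cons k p n t) (.cons k' p' n' t') = Bool.rec (TL.cons k' p' n' (mg (.cons k p n t) t'))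
      (Bool.rec (TL.cons k p n (mg t (TL.cons k' p' n' t')))
        (comb k (p + p') (n + n') (mg t t')) (Nat.beq k k')) (Nat.ble k k') := rfl

theorem mg_spec (f : ℕ → ℝ) (l m : TL) (h : (mg l m).ok) :
    l.ok ∧ m.ok ∧ (mg l m).ev f = l.ev f + m.ev f := by
  induction l generalizing m with
  | nil => exact ⟨trivial, h, (zero_add _).symm⟩
  | bad => exact h.elim
  | cons k p n t ih =>
    induction m with
    | nil => exact ⟨h, trivial, (add_zero _).symm⟩
    | bad => exact h.elim
    | cons k' p' n' t' ih' =>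
      rw [mg_cons_cons] at h ⊢
      cases h1 : Nat.ble k k' <;> rw [h1] at h
      · obtain ⟨a, b, c⟩ := ih' h
        refine ⟨a, b, ?_⟩
        change _ + _ = _ + (_ + _)
        rw [c]; ring
      cases h2 : Nat.beq k k' <;> rw [h2] at h
      · obtain ⟨a, b, c⟩ := ih _ h
        refine ⟨a, b, ?_⟩
        change _ + _ = (_ + _) + _
        rw [c]; ring
      · obtain rfl := Nat.eq_of_beq_eq_true h2
        obtain ⟨a, b, c⟩ := ih _ ((comb_ok _ _ _ _).1 h)
        refine ⟨a, b, (comb_ev f _ _ _ _).trans ?_⟩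
        change _ = (_ + _) + (_ + _)
        rw [c]; push_cast; ring

variable {f g : ℕ → ℝ} {x y c : ℝ} {l m : TL}

theorem TL.Is.mg (h : l.Is f x) (h' : m.Is f y) : (mg l m).Is f (x + y) := fun o => by
  obtain ⟨a, b, c⟩ := mg_spec f l m o
  rw [c, h a, h' b]

theorem TL.Is.congr (h : l.Is f x) (e : x = y) : l.Is f y := e ▸ h

theorem is_nil : TL.nil.Is f 0 := fun _ => rfl

theorem is_bad : TL.bad.Is f x := fun h => h.elim

theorem is_ite {b : Bool} (h : b = true → l.Is f x) (h' : b = false → m.Is f x) :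
    (Bool.rec m l b : TL).Is f x := by
  cases b
  exacts [h' rfl, h rfl]

theorem is_chk {b : Bool} (h : b = true → l.Is f x) : (Bool.rec TL.bad l b : TL).Is f x :=
  is_ite h fun _ => is_bad

/-- one term with sign bit `s` -/
noncomputable def tm (k s p n : ℕ) : TL :=
  force k fun k => Nat.rec (motive := fun _ => TL) (TL.cons k p n TL.nil)
    (fun _ _ => TL.cons k n p TL.nil) s

theorem is_tm (k : ℕ) {s : ℕ} (hs : s ≤ 1) (p n : ℕ) :
    (tm k s p n).Is f (chi ℝ s * (((p : ℝ) - n) * f k)) := fun _ => by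
  rw [tm, force_eq]
  obtain rfl | rfl : s = 0 ∨ s = 1 := by omega
  · simp [TL.ev]
  · simp [TL.ev]; ring

/-- `row` describes `c * f` in terms of `g` -/
def RowOK (row : ℕ → ℕ → ℕ → TL) (c : ℝ) (f g : ℕ → ℝ) : Prop :=
  ∀ k p n : ℕ, (row k p n).Is g (c * (((p : ℝ) - n) * f k))

noncomputable def step (row : ℕ → ℕ → ℕ → TL) (L : TL) : TL :=
  TL.rec (motive := fun _ => TL) TL.nil TL.bad (fun k p n _ ih => mg (row k p n) ih) L

theorem RowOK.step {row : ℕ → ℕ → ℕ → TL} (h : RowOK row c f g) (hl : l.Is f x) :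
    (step row l).Is g (c * x) := by
  have : ∀ l : TL, (R.step row l).ok → l.ok ∧ (R.step row l).ev g = c * l.ev f := fun l => by
    induction l with
    | nil => exact fun _ => ⟨trivial, (mul_zero _).symm⟩
    | bad => exact fun o => o.elim
    | cons k p n t ih =>
      intro o
      obtain ⟨a, b, e⟩ := mg_spec g (row k p n) (R.step row t) o
      exact ⟨(ih b).1, e.trans (by rw [h k p n a, (ih b).2, TL.ev]; ring)⟩
  exact fun o => by rw [(this l o).2, hl (this l o).1]

/-- the sum is the single term `P [k]` -/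
noncomputable def isOne (k P : ℕ) (L : TL) : Bool :=
  TL.rec (motive := fun _ => Bool) false false (fun k' p n t _ =>
    Bool.rec false (Bool.rec false (Bool.rec false
      (TL.rec (motive := fun _ => Bool) true false (fun _ _ _ _ _ => false) t)
      (Nat.beq n (nat_lit 0))) (Nat.beq p P)) (Nat.beq k' k)) L

theorem TL.Is.of_isOne {k P : ℕ} (h : l.Is f x) (e : isOne k P l = true) : P * f k = x := by
  cases l with
  | nil => exact absurd e Bool.false_ne_true
  | bad => exact absurd e Bool.false_ne_true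
  | cons k' p n t =>
    obtain ⟨e1, e4⟩ := Leech.brec_and.1 e
    obtain ⟨e2, e5⟩ := Leech.brec_and.1 e4
    obtain ⟨e3, e6⟩ := Leech.brec_and.1 e5
    obtain rfl := Leech.beq_iff.1 e1
    obtain rfl := Leech.beq_iff.1 e2
    obtain rfl := Leech.beq_iff.1 e3
    cases t with
    | nil => rw [← h trivial]; simp [TL.ev]
    | bad => exact absurd e6 Bool.false_ne_true
    | cons => exact absurd e6 Bool.false_ne_true

/-! ### bits -/

theorem toIx_apply (a : ℕ) (k : Fin 12) : toIx a k = toZ a k := rfl

theorem toZ_xor (a b k : ℕ) : toZ (Nat.xor a b) k = toZ a k + toZ b k := by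
  change toZ (a ^^^ b) k = _
  simp only [toZ, Nat.testBit_xor]
  cases a.testBit k <;> cases b.testBit k <;> decide

theorem toZ_land (a b k : ℕ) : toZ (Nat.land a b) k = toZ a k * toZ b k := by
  change toZ (a &&& b) k = _
  simp only [toZ, Nat.testBit_and]
  cases a.testBit k <;> cases b.testBit k <;> decide

theorem toZ_shr (a s k : ℕ) : toZ (a >>> s) k = toZ a (s + k) := by
  simp only [toZ, Nat.testBit_shiftRight]

theorem toZ_shr' (a s k : ℕ) : toZ (Nat.shiftRight a s) k = toZ a (s + k) := toZ_shr a s k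

theorem toZ_shl (a s k : ℕ) : toZ (Nat.shiftLeft a s) k = if s ≤ k then toZ a (k - s) else 0 := by
  change toZ (a <<< s) k = _
  by_cases h : s ≤ k <;> simp [toZ, Nat.testBit_shiftLeft, h]

theorem toZ_of_le_one {a : ℕ} (h : a ≤ 1) (k : ℕ) : toZ a k = if k = 0 then (a : ZMod 2) else 0 := by
  obtain rfl | rfl : a = 0 ∨ a = 1 := by omega
  · simp [toZ]
  · rcases k with _ | k <;> simp [toZ, Nat.testBit_succ]

theorem toZ_shl_bit {a : ℕ} (h : a ≤ 1) (s k : ℕ) :
    toZ (Nat.shiftLeft a s) k = if k = s then (a : ZMod 2) else 0 := by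
  rw [toZ_shl, toZ_of_le_one h]
  split_ifs <;> first | rfl | omega

theorem toZ_mul {a : ℕ} (h : a ≤ 1) (m k : ℕ) : toZ (Nat.mul a m) k = a * toZ m k := by
  obtain rfl | rfl : a = 0 ∨ a = 1 := by omega
  · simp [toZ]
  · simp

theorem toZ_mask (s k : ℕ) : toZ (2 ^ s - 1) k = if k < s then 1 else 0 := by
  simp [toZ, Nat.testBit_two_pow_sub_one]

theorem toZ_4095 (k : ℕ) : toZ 4095 k = if k < 12 then 1 else 0 := toZ_mask 12 k

theorem bit_le (m i : ℕ) : bit m i ≤ 1 := Nat.and_le_right

theorem bit_cast (m i : ℕ) : ((bit m i : ℕ) : ZMod 2) = toZ m i := by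
  rw [bit_eq, toZ]; split_ifs <;> simp

theorem land_le_one {a : ℕ} (b : ℕ) (h : a ≤ 1) : Nat.land a b ≤ 1 := Nat.and_le_left.trans h

theorem xor_le_one {a b : ℕ} (h : a ≤ 1) (h' : b ≤ 1) : Nat.xor a b ≤ 1 :=
  Nat.lt_succ_iff.1 (Nat.xor_lt_two_pow (n := 1) (Nat.lt_succ_iff.2 h) (Nat.lt_succ_iff.2 h'))

theorem cast_eq_toZ {a : ℕ} (h : a ≤ 1) : (a : ZMod 2) = toZ a 0 := by rw [toZ_of_le_one h, if_pos rfl]

theorem cast_xor {a b : ℕ} (h : a ≤ 1) (h' : b ≤ 1) : ((Nat.xor a b : ℕ) : ZMod 2) = a + b := by
  rw [cast_eq_toZ (xor_le_one h h'), toZ_xor, cast_eq_toZ h, cast_eq_toZ h']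

theorem cast_land {a b : ℕ} (h : a ≤ 1) (h' : b ≤ 1) : ((Nat.land a b : ℕ) : ZMod 2) = a * b := by
  rw [cast_eq_toZ (land_le_one b h), toZ_land, cast_eq_toZ h, cast_eq_toZ h']

theorem toIx_xor (a b : ℕ) : toIx (Nat.xor a b) = toIx a + toIx b := funext fun k => toZ_xor a b k

def parT : ℕ := 0x6996966996696996966969966996966996696996699696696996966996696996966969966996966969969669966969966996966996696996966969966996966996696996699696696996966996696996699696699669699696696996699696696996966996696996966969966996966996696996699696696996966996696996966969966996966969969669966969966996966996696996966969966996966969969669966969969669699669969669966969966996966969969669966969966996966996696996966969966996966996696996699696696996966996696996966969966996966969969669966969966996966996696996966969966996966996696996699696696996966996696996699696699669699696696996699696696996966996696996966969966996966996696996699696696996966996696996699696699669699696696996699696699669699669969669699696699669699696696996699696696996966996696996699696699669699696696996699696696996966996696996966969966996966996696996699696696996966996696996966969966996966969969669966969966996966996696996966969966996966996696996699696696996966996696996699696699669699696696996699696696996966996696996966969966996966996696996699696696996966996696996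

/-- parity of the lower twelve bits -/
def par (x : ℕ) : ℕ :=
  Nat.land (Nat.shiftRight parT (Nat.land x (nat_lit 4095))) (nat_lit 1)

theorem par_le (x : ℕ) : par x ≤ 1 := Nat.and_le_right

theorem par_check : allLt 4096 (fun x => Nat.beq (par x) (Nat.mod (pc12 x) 2)) = true := by
  decide +kernel

theorem par_cast (a b : ℕ) : ((par (Nat.land a b) : ℕ) : ZMod 2) = toIx a ⬝ᵥ toIx b := by
  have h : Nat.land (Nat.land a b) 4095 < 4096 := Nat.lt_succ_of_le Nat.and_le_right
  have e : par (Nat.land a b) = par (Nat.land (Nat.land a b) 4095) := by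
    unfold par
    congr 2
    exact (Nat.and_assoc _ _ _).trans (by rfl) |>.symm
  rw [e, Leech.beq_iff.1 (allLt_iff.1 par_check _ h)]
  change ((_ % 2 : ℕ) : ZMod 2) = _
  rw [ZMod.natCast_mod, pc12_eq h, Nat.cast_sum, dotProduct, ← Fin.sum_univ_eq_sum_range
    fun i => ((bit (Nat.land (Nat.land a b) 4095) i : ℕ) : ZMod 2)]
  refine Finset.sum_congr rfl fun i _ => ?_
  rw [bit_cast, toZ_land, toZ_land, toZ_4095, if_pos i.2, mul_one]; rfl

end CF.Mon.R
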