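import Cfsg.Agent.Mon.Theta

/-! Relator check, part F: elements commuting with `(τ a)³`. -/

set_option autoImplicit false
set_option maxHeartbeats 400000
set_option maxRecDepth 100000

namespace CF.Mon.R

open CF.Comp

/-- an element with the three words for its conjugates -/
structure Gen where
  d : El
  u : TW
  v : TW
  w : TW

noncomputable def cmB (g : Gen) : Bool :=
  band (okB g.d) (band (twB g.u) (band (twB g.v) (band (twB g.w)
    (band (eqW [aE, g.d] (twL thT g.u [aE])) (band (eqW (aE :: twR thT g.u []) (twL thT g.v [aE]))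
      (band (eqW (aE :: twR thT g.v []) (twL thT g.w [aE])) (eqW (twR thT g.w []) [g.d])))))))

section
variable {Γ : Type*} [Group Γ] {ρ : Gt →* Γ} {τ : Γ}

theorem cm_step (R : G.Rels0 ρ τ) {l : List El} {w : TW} (hl : AllOk l) (h : twB w = true)
    (e : eqW (aE :: l) (twL thT w [aE]) = true) : AllOk (twR thT w []) ∧
      τ * ρ aE.val * ρ (prodE l) = ρ (prodE (twR thT w [])) * (τ * ρ aE.val) := by
  obtain ⟨n, n', k, H⟩ := theta_spec R h
  have := eqW_map R.kap (AllOk.cons aE_ok hl) ((H _).1 (.cons aE_ok .nil)).1 e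
  rw [(H _).2.1, prodE_cons, prodE_cons, prodE_nil, mul_one, map_mul, map_mul] at this
  exact ⟨((H _).1 .nil).2, by
    rw [(H _).2.2, prodE_nil, mul_one, mul_assoc, this, ← mul_assoc, k, mul_assoc]⟩

theorem cmB_spec (R : G.Rels0 ρ τ) {g : Gen} (h : cmB g = true) :
    g.d.Ok ∧ (τ * ρ aE.val) ^ 3 * ρ g.d.val = ρ g.d.val * (τ * ρ aE.val) ^ 3 := by
  simp only [cmB, band_eq, Bool.and_eq_true] at h
  obtain ⟨h0, h1, h2, h3, h4, h5, h6, h7⟩ := h
  have o := okB_spec h0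
  obtain ⟨o1, e1⟩ := cm_step R (.cons o .nil) h1 h4
  obtain ⟨o2, e2⟩ := cm_step R o1 h2 h5
  obtain ⟨o3, e3⟩ := cm_step R o2 h3 h6
  rw [eqW_map R.kap o3 (AllOk.cons o .nil) h7] at e3
  rw [prodE_cons, prodE_nil, mul_one] at e1 e3
  refine ⟨o, ?_⟩
  generalize τ * ρ aE.val = t at *
  rw [pow_three, mul_assoc, mul_assoc, e1, ← mul_assoc t _ t, e2, ← mul_assoc, ← mul_assoc, e3]
  simp only [mul_assoc]

end

def genP : List Gen := [
  ⟨⟨[nat_lit 0x8ce50b52b7731ed31c85008614a968], [nat_lit 168960, nat_lit 165376, nat_lit 160256, nat_lit 157568, nat_lit 153728, nat_lit 147968, nat_lit 144400, nat_lit 139696, nat_lit 135696, nat_lit 131674, nat_lit 1554, nat_lit 5112, nat_lit 10040, nat_lit 13040, nat_lit 17376, nat_lit 20544, nat_lit 26496, nat_lit 30208, nat_lit 34304, nat_lit 41388, nat_lit 37105, nat_lit 32864, nat_lit 28792, nat_lit 24767, nat_lit 16514, nat_lit 12308, nat_lit 8203, nat_lit 4]⟩,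
    ⟨[nat_lit 44, nat_lit 57], [nat_lit 49], ⟨[nat_lit 0x84a71a5af56bd8e398a408c405a12a], [nat_lit 170496, nat_lit 165120, nat_lit 163584, nat_lit 155776, nat_lit 154176, nat_lit 149872, nat_lit 146264, nat_lit 140960, nat_lit 137166, nat_lit 135127, nat_lit 724, nat_lit 5544, nat_lit 8552, nat_lit 13760, nat_lit 18272, nat_lit 22144, nat_lit 26112, nat_lit 29952, nat_lit 33280, nat_lit 41421, nat_lit 37156, nat_lit 33013, nat_lit 29020, nat_lit 24871, nat_lit 20620, nat_lit 16392, nat_lit 12311, nat_lit 8193, nat_lit 4097, nat_lit 2]⟩⟩,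
    ⟨[nat_lit 44, nat_lit 57], [nat_lit 44, nat_lit 53], ⟨[nat_lit 0x84a71a5af56bd8e398a408c405a12a], [nat_lit 170496, nat_lit 164864, nat_lit 163712, nat_lit 155840, nat_lit 154176, nat_lit 149856, nat_lit 146264, nat_lit 140960, nat_lit 137166, nat_lit 135127, nat_lit 724, nat_lit 5544, nat_lit 8552, nat_lit 13760, nat_lit 18272, nat_lit 22144, nat_lit 26112, nat_lit 29952, nat_lit 33280, nat_lit 41421, nat_lit 37156, nat_lit 33013, nat_lit 29020, nat_lit 24871, nat_lit 20620, nat_lit 16392, nat_lit 12311, nat_lit 8193, nat_lit 4097, nat_lit 2]⟩⟩,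
    ⟨[], [], ⟨[nat_lit 0x8ce50b52b7731ed31c85008614a968], [nat_lit 168960, nat_lit 165376, nat_lit 160256, nat_lit 157568, nat_lit 153728, nat_lit 147968, nat_lit 144400, nat_lit 139696, nat_lit 135696, nat_lit 131674, nat_lit 1554, nat_lit 5112, nat_lit 10040, nat_lit 13040, nat_lit 17376, nat_lit 20544, nat_lit 26496, nat_lit 30208, nat_lit 34304, nat_lit 41388, nat_lit 37105, nat_lit 32864, nat_lit 28792, nat_lit 24767, nat_lit 16514, nat_lit 12308, nat_lit 8203, nat_lit 4]⟩⟩⟩,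
  ⟨⟨[nat_lit 0x9c6504254b394c41882063dcdb5697], [nat_lit 174080, nat_lit 165888, nat_lit 162816, nat_lit 157824, nat_lit 152256, nat_lit 147552, nat_lit 144160, nat_lit 142008, nat_lit 138004, nat_lit 132164, nat_lit 434, nat_lit 5604, nat_lit 8632, nat_lit 13024, nat_lit 18272, nat_lit 20544, nat_lit 26496, nat_lit 29440, nat_lit 33280, nat_lit 37888, nat_lit 41578, nat_lit 37251, nat_lit 33005, nat_lit 28963, nat_lit 24612, nat_lit 20482, nat_lit 16393, nat_lit 12308, nat_lit 8202]⟩,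
    ⟨[nat_lit 14, nat_lit 62], [nat_lit 0, nat_lit 38, nat_lit 65], ⟨[nat_lit 0x942715a928310e50806263dcdb5697], [nat_lit 174080, nat_lit 171008, nat_lit 166656, nat_lit 159872, nat_lit 157120, nat_lit 151712, nat_lit 151200, nat_lit 143424, nat_lit 139820, nat_lit 137454, nat_lit 134811, nat_lit 1108, nat_lit 4964, nat_lit 10040, nat_lit 13408, nat_lit 16864, nat_lit 20992, nat_lit 26496, nat_lit 28928, nat_lit 33280, nat_lit 37888, nat_lit 41771, nat_lit 38058, nat_lit 32927, nat_lit 29008, nat_lit 24748, nat_lit 20483, nat_lit 16394, nat_lit 12308, nat_lit 8202, nat_lit 4097, nat_lit 2]⟩⟩,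
    ⟨[nat_lit 46], [nat_lit 38, nat_lit 91], ⟨[nat_lit 0x942715a928310e50806263dcdb5697], [nat_lit 175104, nat_lit 171008, nat_lit 166656, nat_lit 157120, nat_lit 151680, nat_lit 151216, nat_lit 143424, nat_lit 139820, nat_lit 137452, nat_lit 134811, nat_lit 1108, nat_lit 4964, nat_lit 10040, nat_lit 13408, nat_lit 16864, nat_lit 20992, nat_lit 26496, nat_lit 28928, nat_lit 33280, nat_lit 37888, nat_lit 41771, nat_lit 38058, nat_lit 32927, nat_lit 29008, nat_lit 24748, nat_lit 20483, nat_lit 16394, nat_lit 12308, nat_lit 8202, nat_lit 4097, nat_lit 2]⟩⟩,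
    ⟨[], [], ⟨[nat_lit 0x9c6504254b394c41882063dcdb5697], [nat_lit 174080, nat_lit 165888, nat_lit 162816, nat_lit 157824, nat_lit 152256, nat_lit 147552, nat_lit 144160, nat_lit 142008, nat_lit 138004, nat_lit 132164, nat_lit 434, nat_lit 5604, nat_lit 8632, nat_lit 13024, nat_lit 18272, nat_lit 20544, nat_lit 26496, nat_lit 29440, nat_lit 33280, nat_lit 37888, nat_lit 41578, nat_lit 37251, nat_lit 33005, nat_lit 28963, nat_lit 24612, nat_lit 20482, nat_lit 16393, nat_lit 12308, nat_lit 8202]⟩⟩⟩]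

def genY : List Gen := [
  ⟨⟨[nat_lit 0xc03a03bdab49ca307b9ac5a928398a418820], [nat_lit 65536, nat_lit 69632, nat_lit 174080, nat_lit 169984, nat_lit 167680, nat_lit 161024, nat_lit 156544, nat_lit 155168, nat_lit 148512, nat_lit 143792, nat_lit 139616, nat_lit 136992, nat_lit 132896, nat_lit 2048, nat_lit 6144]⟩,
    ⟨[nat_lit 0, nat_lit 37, nat_lit 49], [nat_lit 35, nat_lit 49], ⟨[nat_lit 0xb5e959ca3073d8d4a16a398a410c01], [nat_lit 164096, nat_lit 160256, nat_lit 156672, nat_lit 151584, nat_lit 148048, nat_lit 137186, nat_lit 132913, nat_lit 2, nat_lit 8200, nat_lit 22208, nat_lit 34304, nat_lit 32785, nat_lit 20481, nat_lit 12292, nat_lit 8200, nat_lit 4097, nat_lit 2]⟩⟩,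
    ⟨[nat_lit 0, nat_lit 35, nat_lit 49], [nat_lit 35, nat_lit 49], ⟨[], [nat_lit 173056, nat_lit 168448, nat_lit 147472, nat_lit 135170, nat_lit 131073]⟩⟩,
    ⟨[nat_lit 3], [], ⟨[], [nat_lit 173056, nat_lit 168448, nat_lit 164096, nat_lit 151584]⟩⟩⟩,
  ⟨⟨[nat_lit 0x605605bdab49ca307b9ac5a928398a418820], [nat_lit 65536, nat_lit 73728, nat_lit 171520, nat_lit 167168, nat_lit 161280, nat_lit 158464, nat_lit 152256, nat_lit 148256, nat_lit 146304, nat_lit 140104, nat_lit 136456, nat_lit 131912, nat_lit 2048, nat_lit 10240]⟩,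
    ⟨[nat_lit 37], [nat_lit 34], ⟨[nat_lit 0xa56d79ca306b1ee4254b398a408062], [nat_lit 169472, nat_lit 164096, nat_lit 159872, nat_lit 156800, nat_lit 151584, nat_lit 147968, nat_lit 144488, nat_lit 140060, nat_lit 135222, nat_lit 131531, nat_lit 4, nat_lit 4104, nat_lit 21568, nat_lit 33280, nat_lit 32978, nat_lit 20497, nat_lit 12290, nat_lit 8193, nat_lit 4104, nat_lit 4]⟩⟩,
    ⟨[nat_lit 34], [nat_lit 0, nat_lit 34], ⟨[], [nat_lit 168448, nat_lit 159872, nat_lit 155712, nat_lit 147472, nat_lit 139268, nat_lit 131073]⟩⟩,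
    ⟨[nat_lit 5], [], ⟨[], [nat_lit 168448, nat_lit 164096, nat_lit 155712, nat_lit 143368]⟩⟩⟩,
  ⟨⟨[nat_lit 0xa09c09bdab49ca307b9ac5a928398a418820], [nat_lit 65536, nat_lit 77824, nat_lit 175104, nat_lit 168960, nat_lit 166656, nat_lit 163072, nat_lit 157184, nat_lit 152768, nat_lit 147840, nat_lit 144768, nat_lit 142664, nat_lit 135956, nat_lit 132484, nat_lit 2048, nat_lit 14336]⟩,
    ⟨[nat_lit 37], [nat_lit 31], ⟨[nat_lit 0xad2f69ca30635cf52d09398a400443], [nat_lit 173056, nat_lit 168960, nat_lit 164096, nat_lit 160256, nat_lit 155840, nat_lit 151584, nat_lit 147520, nat_lit 144648, nat_lit 139948, nat_lit 135226, nat_lit 131527, nat_lit 8, nat_lit 4100, nat_lit 21120, nat_lit 33792, nat_lit 32962, nat_lit 20497, nat_lit 12289, nat_lit 8194, nat_lit 4100, nat_lit 8]⟩⟩,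
    ⟨[nat_lit 31], [nat_lit 0, nat_lit 31], ⟨[], [nat_lit 173056, nat_lit 159872, nat_lit 155712, nat_lit 143368, nat_lit 131073]⟩⟩,
    ⟨[nat_lit 9], [], ⟨[], [nat_lit 173056, nat_lit 164096, nat_lit 159872, nat_lit 139268]⟩⟩⟩,
  ⟨⟨[nat_lit 0xc05c90bdab49ca307b9ac5a928398a418820], [nat_lit 81920, nat_lit 164352, nat_lit 160256, nat_lit 157632, nat_lit 151616, nat_lit 144576, nat_lit 140896, nat_lit 135528, nat_lit 132416, nat_lit 18432]⟩,
    ⟨[nat_lit 0, nat_lit 38, nat_lit 61], [nat_lit 0, nat_lit 26, nat_lit 61], ⟨[nat_lit 0xb5e959ca306b1ee52d09214c718820], [nat_lit 168960, nat_lit 160384, nat_lit 151584, nat_lit 144584, nat_lit 140928, nat_lit 136334, nat_lit 132295, nat_lit 17536, nat_lit 22208, nat_lit 28928, nat_lit 33792, nat_lit 41344, nat_lit 33862, nat_lit 28998, nat_lit 20483, nat_lit 16399]⟩⟩,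
    ⟨[nat_lit 26, nat_lit 61], [nat_lit 26, nat_lit 61], ⟨[], [nat_lit 155712, nat_lit 143368, nat_lit 131073]⟩⟩,
    ⟨[nat_lit 14], [], ⟨[], []⟩⟩⟩,
  ⟨⟨[nat_lit 0xf0f000bdab49ca307b9ac5a928398a418820], [nat_lit 86016, nat_lit 168960, nat_lit 160256, nat_lit 156672, nat_lit 147520, nat_lit 144640, nat_lit 140048, nat_lit 139228, nat_lit 131522, nat_lit 22528]⟩,
    ⟨[nat_lit 0], [nat_lit 0, nat_lit 26], ⟨[], [nat_lit 159872, nat_lit 155712, nat_lit 147472, nat_lit 143368, nat_lit 139268, nat_lit 135170]⟩⟩,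
    ⟨[nat_lit 0, nat_lit 26], [nat_lit 0, nat_lit 26], ⟨[], []⟩⟩,
    ⟨[nat_lit 26], [], ⟨[], [nat_lit 135170]⟩⟩⟩,
  ⟨⟨[nat_lit 0xa9aa00bdab49ca307b9ac5a928398a418820], [nat_lit 90112, nat_lit 160000, nat_lit 152576, nat_lit 151456, nat_lit 145168, nat_lit 139792, nat_lit 135856, nat_lit 131380, nat_lit 26624]⟩,
    ⟨[nat_lit 0, nat_lit 26, nat_lit 49], [nat_lit 0, nat_lit 26, nat_lit 50], ⟨[nat_lit 0xad2f6846536b1ee4a16a398a418820], [nat_lit 173056, nat_lit 171520, nat_lit 164608, nat_lit 156160, nat_lit 152096, nat_lit 147984, nat_lit 144920, nat_lit 139268, nat_lit 135688, nat_lit 131231, nat_lit 512, nat_lit 4608, nat_lit 8704, nat_lit 12800, nat_lit 16896, nat_lit 21120, nat_lit 29184, nat_lit 34304, nat_lit 41472, nat_lit 32787, nat_lit 24591, nat_lit 20505]⟩⟩,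
    ⟨[nat_lit 26, nat_lit 50], [nat_lit 26, nat_lit 50], ⟨[], [nat_lit 173056, nat_lit 147472, nat_lit 143368, nat_lit 139268]⟩⟩,
    ⟨[nat_lit 46], [], ⟨[], [nat_lit 147472]⟩⟩⟩,
  ⟨⟨[nat_lit 0x606aa0bdab49ca307b9ac5a928398a418820], [nat_lit 94208, nat_lit 155904, nat_lit 152064, nat_lit 148032, nat_lit 144400, nat_lit 141056, nat_lit 136288, nat_lit 131368, nat_lit 30720]⟩,
    ⟨[nat_lit 0, nat_lit 26, nat_lit 49], [nat_lit 0, nat_lit 26, nat_lit 51], ⟨[nat_lit 0xa56d79ca30635cf4a16a290e618820], [nat_lit 173056, nat_lit 169472, nat_lit 164096, nat_lit 151584, nat_lit 147984, nat_lit 144408, nat_lit 140820, nat_lit 136212, nat_lit 132191, nat_lit 16480, nat_lit 20672, nat_lit 29440, nat_lit 34304, nat_lit 41392, nat_lit 33795, nat_lit 28940, nat_lit 20618, nat_lit 16421]⟩⟩,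
    ⟨[nat_lit 26, nat_lit 51], [nat_lit 26, nat_lit 51], ⟨[], [nat_lit 168448, nat_lit 143368, nat_lit 139268]⟩⟩,
    ⟨[nat_lit 47], [], ⟨[], []⟩⟩⟩,
  ⟨⟨[nat_lit 0xff00bdab49ca307b9ac5a928398a418820], [nat_lit 98304, nat_lit 168960, nat_lit 155776, nat_lit 148032, nat_lit 144480, nat_lit 139936, nat_lit 135216, nat_lit 134910, nat_lit 34816]⟩,
    ⟨[], [nat_lit 49], ⟨[], [nat_lit 173056, nat_lit 168448, nat_lit 159872, nat_lit 155712, nat_lit 143368, nat_lit 139268, nat_lit 135170]⟩⟩,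
    ⟨[nat_lit 49], [nat_lit 49], ⟨[], [nat_lit 143368, nat_lit 139268, nat_lit 135170, nat_lit 131073]⟩⟩,
    ⟨[nat_lit 49], [], ⟨[], [nat_lit 131073]⟩⟩⟩,
  ⟨⟨[nat_lit 0x6acc00bdab49ca307b9ac5a928398a418820], [nat_lit 102400, nat_lit 164864, nat_lit 152704, nat_lit 147904, nat_lit 144448, nat_lit 142840, nat_lit 135268, nat_lit 131334, nat_lit 38912]⟩,
    ⟨[nat_lit 26], [nat_lit 0, nat_lit 26, nat_lit 52], ⟨[nat_lit 0xa56d78c27273d8d52d09398a418820], [nat_lit 173056, nat_lit 164096, nat_lit 159872, nat_lit 158528, nat_lit 151616, nat_lit 144392, nat_lit 140436, nat_lit 136260, nat_lit 132165, nat_lit 64, nat_lit 4160, nat_lit 8256, nat_lit 12352, nat_lit 16448, nat_lit 21568, nat_lit 33792, nat_lit 41024, nat_lit 36879, nat_lit 32902, nat_lit 28736, nat_lit 20501]⟩⟩,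
    ⟨[nat_lit 26, nat_lit 52], [nat_lit 26, nat_lit 52], ⟨[], [nat_lit 173056, nat_lit 159872, nat_lit 139268, nat_lit 135170]⟩⟩,
    ⟨[nat_lit 52], [], ⟨[], [nat_lit 139268]⟩⟩⟩,
  ⟨⟨[nat_lit 0xa0c6c0bdab49ca307b9ac5a928398a418820], [nat_lit 106496, nat_lit 164352, nat_lit 152128, nat_lit 147520, nat_lit 146416, nat_lit 139928, nat_lit 135336, nat_lit 131354, nat_lit 43008]⟩,
    ⟨[nat_lit 26], [nat_lit 0, nat_lit 26, nat_lit 59], ⟨[nat_lit 0xad2f69ca3073d8d4254b31c8518820], [nat_lit 168448, nat_lit 164096, nat_lit 160384, nat_lit 155712, nat_lit 147968, nat_lit 144088, nat_lit 139924, nat_lit 135832, nat_lit 131737, nat_lit 16928, nat_lit 21120, nat_lit 33280, nat_lit 41023, nat_lit 32890, nat_lit 28720, nat_lit 20617, nat_lit 16425]⟩⟩,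
    ⟨[nat_lit 26, nat_lit 59], [nat_lit 26, nat_lit 59], ⟨[], [nat_lit 168448, nat_lit 155712, nat_lit 143368, nat_lit 135170]⟩⟩,
    ⟨[nat_lit 59], [], ⟨[], [nat_lit 143368]⟩⟩⟩,
  ⟨⟨[nat_lit 0xcc9600bdab49ca307b9ac5a928398a418820], [nat_lit 65536, nat_lit 69632, nat_lit 73728, nat_lit 77824, nat_lit 81920, nat_lit 86016, nat_lit 90112, nat_lit 94208, nat_lit 98304, nat_lit 102400, nat_lit 106496, nat_lit 178176, nat_lit 175104, nat_lit 170496, nat_lit 167168, nat_lit 163584, nat_lit 158912, nat_lit 153760, nat_lit 147680, nat_lit 145056, nat_lit 139968, nat_lit 135588, nat_lit 131984, nat_lit 2048, nat_lit 6144, nat_lit 10240, nat_lit 14336, nat_lit 18432, nat_lit 22528, nat_lit 26624, nat_lit 30720, nat_lit 34816, nat_lit 38912, nat_lit 43008, nat_lit 327680]⟩,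
    ⟨[nat_lit 0, nat_lit 76, nat_lit 65], [nat_lit 26, nat_lit 53], ⟨[nat_lit 0xb5e9594e11635cf4254b398a418820], [nat_lit 171008, nat_lit 164608, nat_lit 160384, nat_lit 159168, nat_lit 152128, nat_lit 147448, nat_lit 141624, nat_lit 137636, nat_lit 134012, nat_lit 2, nat_lit 4684, nat_lit 8200, nat_lit 12864, nat_lit 16960, nat_lit 21632, nat_lit 29184, nat_lit 41541, nat_lit 36869, nat_lit 32987, nat_lit 28741, nat_lit 24581, nat_lit 20484, nat_lit 16389, nat_lit 12293, nat_lit 8200, nat_lit 4097, nat_lit 2]⟩⟩,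
    ⟨[nat_lit 0, nat_lit 26, nat_lit 53], [nat_lit 0, nat_lit 26, nat_lit 53], ⟨[], [nat_lit 159872, nat_lit 147472, nat_lit 139268, nat_lit 131073]⟩⟩,
    ⟨[nat_lit 88, nat_lit 70], [nat_lit 0], ⟨[], [nat_lit 173056, nat_lit 168448, nat_lit 164096, nat_lit 159872, nat_lit 155712, nat_lit 151584]⟩⟩⟩]

def genX : List Gen := [
  ⟨⟨[nat_lit 0xbdab49ca307b9ac5a928398a418820], [nat_lit 65536, nat_lit 69632]⟩,
    ⟨[nat_lit 0, nat_lit 28, nat_lit 49], [nat_lit 0], ⟨[], [nat_lit 173056, nat_lit 168448, nat_lit 159872, nat_lit 155712, nat_lit 135170, nat_lit 131073]⟩⟩,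
    ⟨[nat_lit 26, nat_lit 49], [nat_lit 0, nat_lit 12], ⟨[nat_lit 0xb5e959ca3073d8d4a16a398a410c01], [nat_lit 173056, nat_lit 168448, nat_lit 164096, nat_lit 160384, nat_lit 156736, nat_lit 151584, nat_lit 148032, nat_lit 143368, nat_lit 139268, nat_lit 137184, nat_lit 132912, nat_lit 2, nat_lit 8200, nat_lit 22208, nat_lit 34304, nat_lit 32785, nat_lit 20481, nat_lit 12292, nat_lit 8200, nat_lit 4097, nat_lit 2]⟩⟩,
    ⟨[nat_lit 3], [nat_lit 3], ⟨[], [nat_lit 173056, nat_lit 168448, nat_lit 164096, nat_lit 151584]⟩⟩⟩,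
  ⟨⟨[nat_lit 0xbdab49ca307b9ac5a928398a418820], [nat_lit 65536, nat_lit 73728]⟩,
    ⟨[nat_lit 0, nat_lit 30, nat_lit 49], [], ⟨[], [nat_lit 159872, nat_lit 147472, nat_lit 143368, nat_lit 135170]⟩⟩,
    ⟨[nat_lit 26, nat_lit 49], [nat_lit 10, nat_lit 49], ⟨[nat_lit 0xa56d79ca306b1ee4254b398a408062], [nat_lit 173056, nat_lit 168960, nat_lit 164096, nat_lit 159872, nat_lit 156864, nat_lit 147984, nat_lit 144480, nat_lit 140060, nat_lit 135220, nat_lit 131531, nat_lit 4, nat_lit 4104, nat_lit 21568, nat_lit 33280, nat_lit 32978, nat_lit 20497, nat_lit 12290, nat_lit 8193, nat_lit 4104, nat_lit 4]⟩⟩,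
    ⟨[nat_lit 5], [nat_lit 5], ⟨[], [nat_lit 168448, nat_lit 164096, nat_lit 155712, nat_lit 143368]⟩⟩⟩,
  ⟨⟨[nat_lit 0xbdab49ca307b9ac5a928398a418820], [nat_lit 65536, nat_lit 77824]⟩,
    ⟨[nat_lit 0, nat_lit 33, nat_lit 49], [], ⟨[], [nat_lit 155712, nat_lit 139268, nat_lit 135170]⟩⟩,
    ⟨[nat_lit 26, nat_lit 49], [nat_lit 6, nat_lit 49], ⟨[nat_lit 0xad2f69ca30635cf52d09398a400443], [nat_lit 169472, nat_lit 164096, nat_lit 160384, nat_lit 155840, nat_lit 147520, nat_lit 144648, nat_lit 139944, nat_lit 135224, nat_lit 131527, nat_lit 8, nat_lit 4100, nat_lit 21120, nat_lit 33792, nat_lit 32962, nat_lit 20497, nat_lit 12289, nat_lit 8194, nat_lit 4100, nat_lit 8]⟩⟩,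
    ⟨[nat_lit 9], [nat_lit 9], ⟨[], [nat_lit 173056, nat_lit 164096, nat_lit 159872, nat_lit 139268]⟩⟩⟩,
  ⟨⟨[nat_lit 0xbdab49ca307b9ac5a928398a418820], [nat_lit 81920]⟩,
    ⟨[nat_lit 26, nat_lit 61], [], ⟨[], [nat_lit 139268]⟩⟩,
    ⟨[nat_lit 0, nat_lit 38, nat_lit 61], [nat_lit 14], ⟨[nat_lit 0xb5e959ca306b1ee52d09214c718820], [nat_lit 173056, nat_lit 168960, nat_lit 160256, nat_lit 151584, nat_lit 144576, nat_lit 140928, nat_lit 136332, nat_lit 132294, nat_lit 17536, nat_lit 22208, nat_lit 28928, nat_lit 33792, nat_lit 41344, nat_lit 33862, nat_lit 28998, nat_lit 20483, nat_lit 16399]⟩⟩,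
    ⟨[nat_lit 14], [nat_lit 14], ⟨[], []⟩⟩⟩,
  ⟨⟨[nat_lit 0xbdab49ca307b9ac5a928398a418820], [nat_lit 86016]⟩,
    ⟨[nat_lit 0, nat_lit 14, nat_lit 65], [], ⟨[], [nat_lit 155712]⟩⟩,
    ⟨[nat_lit 38, nat_lit 65], [nat_lit 0, nat_lit 14, nat_lit 65], ⟨[], [nat_lit 168448, nat_lit 159872, nat_lit 147472, nat_lit 143368, nat_lit 139268]⟩⟩,
    ⟨[nat_lit 26], [nat_lit 26], ⟨[], [nat_lit 135170]⟩⟩⟩,
  ⟨⟨[nat_lit 0xbdab49ca307b9ac5a928398a418820], [nat_lit 90112]⟩,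
    ⟨[nat_lit 13, nat_lit 46], [nat_lit 0], ⟨[], [nat_lit 173056, nat_lit 168448, nat_lit 164096, nat_lit 159872, nat_lit 151584, nat_lit 143368, nat_lit 135170]⟩⟩,
    ⟨[nat_lit 13], [nat_lit 0, nat_lit 37, nat_lit 50], ⟨[nat_lit 0xad2f6846536b1ee4a16a398a418820], [nat_lit 173056, nat_lit 171008, nat_lit 164608, nat_lit 156224, nat_lit 152096, nat_lit 147968, nat_lit 144920, nat_lit 135690, nat_lit 131231, nat_lit 512, nat_lit 4608, nat_lit 8704, nat_lit 12800, nat_lit 16896, nat_lit 21120, nat_lit 29184, nat_lit 34304, nat_lit 41472, nat_lit 32787, nat_lit 24591, nat_lit 20505]⟩⟩,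
    ⟨[nat_lit 46], [nat_lit 46], ⟨[], [nat_lit 147472]⟩⟩⟩,
  ⟨⟨[nat_lit 0xbdab49ca307b9ac5a928398a418820], [nat_lit 94208]⟩,
    ⟨[nat_lit 26, nat_lit 51], [], ⟨[], [nat_lit 155712, nat_lit 139268, nat_lit 135170]⟩⟩,
    ⟨[nat_lit 0, nat_lit 26, nat_lit 49], [nat_lit 47], ⟨[nat_lit 0xa56d79ca30635cf4a16a290e618820], [nat_lit 168960, nat_lit 164096, nat_lit 155712, nat_lit 151584, nat_lit 147968, nat_lit 144400, nat_lit 140820, nat_lit 136214, nat_lit 132191, nat_lit 16480, nat_lit 20672, nat_lit 29440, nat_lit 34304, nat_lit 41392, nat_lit 33795, nat_lit 28940, nat_lit 20618, nat_lit 16421]⟩⟩,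
    ⟨[nat_lit 47], [nat_lit 47], ⟨[], []⟩⟩⟩,
  ⟨⟨[nat_lit 0xbdab49ca307b9ac5a928398a418820], [nat_lit 98304]⟩,
    ⟨[nat_lit 38, nat_lit 61], [], ⟨[], [nat_lit 155712, nat_lit 143368, nat_lit 139268, nat_lit 135170, nat_lit 131073]⟩⟩,
    ⟨[nat_lit 0, nat_lit 38, nat_lit 65], [nat_lit 0, nat_lit 38, nat_lit 61], ⟨[], [nat_lit 173056, nat_lit 159872, nat_lit 143368, nat_lit 139268, nat_lit 135170, nat_lit 131073]⟩⟩,
    ⟨[nat_lit 49], [nat_lit 49], ⟨[], [nat_lit 131073]⟩⟩⟩,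
  ⟨⟨[nat_lit 0xbdab49ca307b9ac5a928398a418820], [nat_lit 102400]⟩,
    ⟨[nat_lit 0, nat_lit 14, nat_lit 94], [], ⟨[], [nat_lit 155712, nat_lit 135170]⟩⟩,
    ⟨[nat_lit 14, nat_lit 65], [nat_lit 0, nat_lit 38, nat_lit 94], ⟨[nat_lit 0xa56d78c27273d8d52d09398a418820], [nat_lit 173056, nat_lit 168448, nat_lit 164096, nat_lit 158528, nat_lit 151616, nat_lit 147472, nat_lit 144392, nat_lit 140432, nat_lit 136260, nat_lit 132164, nat_lit 64, nat_lit 4160, nat_lit 8256, nat_lit 12352, nat_lit 16448, nat_lit 21568, nat_lit 33792, nat_lit 41024, nat_lit 36879, nat_lit 32902, nat_lit 28736, nat_lit 20501]⟩⟩,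
    ⟨[nat_lit 52], [nat_lit 52], ⟨[], [nat_lit 139268]⟩⟩⟩,
  ⟨⟨[nat_lit 0xbdab49ca307b9ac5a928398a418820], [nat_lit 106496]⟩,
    ⟨[nat_lit 0, nat_lit 14, nat_lit 51], [], ⟨[], [nat_lit 155712, nat_lit 135170]⟩⟩,
    ⟨[nat_lit 14, nat_lit 65], [nat_lit 38, nat_lit 51], ⟨[nat_lit 0xad2f69ca3073d8d4254b31c8518820], [nat_lit 164096, nat_lit 160256, nat_lit 155712, nat_lit 147984, nat_lit 144088, nat_lit 139920, nat_lit 135834, nat_lit 131737, nat_lit 16928, nat_lit 21120, nat_lit 33280, nat_lit 41023, nat_lit 32890, nat_lit 28720, nat_lit 20617, nat_lit 16425]⟩⟩,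
    ⟨[nat_lit 59], [nat_lit 59], ⟨[], [nat_lit 143368]⟩⟩⟩]

theorem genP_check : lall cmB genP = true := by decide +kernel
theorem genY_check : lall cmB genY = true := by decide +kernel
theorem genX_check : lall cmB genX = true := by decide +kernel

end CF.Mon.R
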