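import Cfsg.Agent.Mon.RelE
import Cfsg.Agent.Mon.RelF

/-! Relator check, part G: fixed coordinates are permuted by commuting elements. -/

set_option autoImplicit false
set_option maxHeartbeats 400000
set_option maxRecDepth 100000

namespace CF.Mon.R

open Matrix Cfsg CF.Leech CF.Comp Lab Finset

noncomputable def iter (f : ℕ → ℕ → ℕ) (N n : ℕ) : ℕ :=
  Nat.rec (motive := fun _ => ℕ) n (fun j ih => force ih (f j)) N

theorem iter_ind {f : ℕ → ℕ → ℕ} {P : ℕ → Prop} {N n : ℕ} (h : ∀ j < N, ∀ n, P (f j n) → P n)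
    (hn : P (iter f N n)) : P n := by
  induction N with
  | zero => exact hn
  | succ N ih => exact ih (fun j hj => h j (by omega)) (h N (by omega) _ (force_eq _ (f N) ▸ hn))

/-- a functional fixed by `r` -/
def Fx (r : GLV) (φ : VV → ℝ) : Prop := ∀ v, φ (r • v) = φ v

/-- commuting with `r` -/
def Cm (r : GLV) (γ : Gt) : Prop := r * rho γ = rho γ * r

variable {r : GLV} {γ : Gt}

theorem Fx.step (hγ : Cm r γ) {φ ψ : VV → ℝ} {z : ZMod 2}
    (e : ∀ v, φ (rho γ • v) = chi ℝ z * ψ v) : Fx r φ ↔ Fx r ψ := by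
  have c : ∀ v : VV, r • rho γ • v = rho γ • r • v := fun v => by rw [← mul_smul, hγ, mul_smul]
  refine ⟨fun h v => ?_, fun h v => ?_⟩
  · have := h (rho γ • v)
    rw [c, e, e] at this
    linear_combination chi ℝ z * this + (ψ v - ψ (r • v)) * chi_mul_self (R := ℝ) z
  · rw [← smul_inv_smul (rho γ) v, c, e, e, h]

def GW (r : GLV) (x : LL) : Prop := Fx r fun v => Wc v x
def GA (r : GLV) (p q : ℕ) : Prop := Fx r fun v => v.1.1 (Pos p) (Pos q)
def GU (r : GLV) (p w : ℕ) : Prop := Fx r fun v => v.1.2.2 (Pos p) (toIx w)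

theorem GW.smul (hγ : Cm r γ) (x : LL) : GW r (gOf γ • x) ↔ GW r x :=
  Fx.step hγ fun v => W_eqv v (by simpa using smul_cls γ⁻¹ (gOf γ • x))

/-- the monomial of an element -/
noncomputable def mE (e : El) : ℕ := nth (nat_lit 0) e.g (nat_lit 0)

/-- a monomial element commuting with `r` -/
structure MG (r : GLV) (e : El) : Prop where
  cm : Cm r e.val
  ok : e.Ok
  g : MonoSpec (mE e) (gOf e.val)

theorem mg_of {τ : GLV} (R : G.Rels0 rho τ) {g : Gen} (h : cmB g = true) (hl : g.d.g.length = 1) :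
    MG ((τ * rho aE.val) ^ 3) g.d := by
  obtain ⟨o, c⟩ := cmB_spec R h
  obtain ⟨m, hm⟩ := List.length_eq_one_iff.1 hl
  refine ⟨c, o, ?_⟩
  rw [o.g, mE, hm, gval, gv1, one_mul]
  exact monoV_spec (o.1 m (by simp [hm]))

variable {e : El}

theorem MG.ga (h : MG r e) {p q : ℕ} (hp : p < 24) (hq : q < 24) :
    GA r p q ↔ GA r (ap (mE e) p) (ap (mE e) q) := Fx.step h.cm fun v => by
  have k : (rho e.val • v : VV).1.1 (Pos p) (Pos q) = (gM (gOf e.val) *ᵥ fun i =>
      (gM (gOf e.val) *ᵥ v.1.1 i) (Pos q)) (Pos p) := by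
    simp only [rho_A, mul_apply, mulVec, dotProduct, transpose_apply, Finset.sum_mul,
      Finset.mul_sum]
    rw [Finset.sum_comm]
    exact Finset.sum_congr rfl fun _ _ => Finset.sum_congr rfl fun _ _ => by ring
  rw [k, mono_mv h.g hp, mono_mv h.g hq, ← mul_assoc, ← chi_add]

theorem MG.gu (h : MG r e) (hm : monoG e.h = true) {p : ℕ} (hp : p < 24) (w : ℕ) :
    GU r p (ksN 1 e.h w) ↔ GU r (ap (mE e) p) w := by
  have k := ketF_ksN (N := 1) one_pos hm w
  rw [show repl 32 1 = 1 by decide, ← h.ok.h, ketF, ketF, labF_zero, labF_zero] at k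
  refine Fx.step (z := (lab (ksN 1 e.h w)).s + (lab w).s + toZ (mE e) (120 + p)) h.cm fun v => ?_
  have o := orth_hOf e.val (fun w => (gM (gOf e.val) *ᵥ fun j => v.1.2.2 j w) (Pos p))
    (chi ℝ (lab w).s • ket (lab w).a)
  rw [← k, ← U_eq] at o
  simp only [dotProduct_smul, ket, dotProduct_single, mul_one, smul_eq_mul, mono_mv h.g hp,
    show ∀ n, (lab n).a = toIx n from fun _ => rfl] at o
  rw [chi_add, chi_add]
  linear_combination chi ℝ (lab (ksN 1 e.h w)).s * o -
    (rho e.val • v : VV).1.2.2 (Pos p) (toIx (ksN 1 e.h w)) * chi_mul_self (R := ℝ) _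

/-! ### short vectors with given squares -/

/-- pull-back of a mask -/
noncomputable def pb (m s : ℕ) : ℕ := xs (nat_lit 24) fun i => Nat.shiftLeft (bit s (ap m i)) i

theorem testBit_pb (m s : ℕ) {p : ℕ} (hp : p < 24) : (pb m s).testBit p = s.testBit (ap m p) := by
  have : toZ (pb m s) p = toZ s (ap m p) := by
    simp only [pb, toZ_xs, toZ_shl_bit (bit_le _ _), bit_cast]
    rw [sum_ite_eq, if_pos (mem_range.2 hp)]
  revert this
  unfold toZ
  cases (pb m s).testBit p <;> cases s.testBit (ap m p) <;> decide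

/-- the shape of a vector -/
def Sq (a b : ℤ) (s : ℕ) (y : LL) : Prop :=
  nm y = 32 ∧ ∀ p < 24, (y : V) (Pos p) ^ 2 = if s.testBit p = true then a else b

def GQ (r : GLV) (a b : ℤ) (s : ℕ) : Prop := ∀ y, Sq a b s y → GW r y

theorem MG.gq (h : MG r e) {a b : ℤ} {s : ℕ} (k : GQ r a b (pb (mE e) s)) : GQ r a b s :=
  fun y hy => (GW.smul h.cm y).1 (k _ ⟨(co_nm _ _).trans hy.1, fun p hp => by
    rw [h.g.2 y p hp, testBit_pb _ _ hp, ← hy.2 _ (h.g.1 p hp)]
    split_ifs <;> ring⟩)

theorem exists_eps {x y : LL} (hx : nm x = 32) (hy : nm y = 32)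
    (h : ∀ i, (x : V) i ^ 2 = (y : V) i ^ 2) : ∃ c, ∃ hc : c ∈ CS, G.eps hc • x = y := by
  obtain ⟨a, ha, c, hc, e⟩ := exists_base x.2 hx
  obtain ⟨b, hb, d, hd, e'⟩ := exists_base y.2 hy
  have key : ∀ {a c} {x : V}, signedPerm 1 c (Leech.vec a) = x →
      ∀ i < 24, (mag (ap a i) : ℤ) = |x (pt i)| := by
    rintro a c _ rfl i hi
    rw [mag_eq]
    simp only [signedPerm, Leech.vec, Equiv.Perm.one_def, Equiv.refl_symm, Equiv.refl_apply, idx_pt hi]
    split_ifs
    · rw [abs_neg]
    · rfl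
  have hk : absKey a.1 = absKey b.1 := by
    rw [absKey, absKey, sumLt_eq, sumLt_eq]
    refine sum_congr rfl fun i hi => ?_
    have : mag (ap a.1 i) = mag (ap b.1 i) := by
      have h1 := key e i (mem_range.1 hi)
      have h2 := key e' i (mem_range.1 hi)
      have h3 := sq_eq_sq_iff_abs_eq_abs _ _ |>.1 (h (pt i))
      omega
    rw [this]
  have hab : a = b := by
    have := incL_nodup bases_check3
    rw [lmap_eq] at this
    exact List.inj_on_of_nodup_map this ha hb hk
  subst hab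
  refine ⟨_, symmDiff_mem_CS hd hc, Subtype.ext ?_⟩
  rw [G.eps, mono_smul, ← e, ← e', sp_sp, symmDiff_assoc, symmDiff_self, symmDiff_bot]

theorem enc_xor {a b : ℕ} (ha : a < 4096) (hb : b < 4096) :
    enc (Nat.xor a b) = Nat.xor (enc a) (enc b) := by
  rw [← isCode_iff_enc.1 (isCode_xor (isCode_enc ha) (isCode_enc hb))]
  congr 1
  exact ((Nat.xor_mod_two_pow (n := 12)).trans (congrArg₂ (· ^^^ ·) (enc_mod ha) (enc_mod hb))).symm

theorem eps_congr {c d : Finset Pt} (hc : c ∈ CS) (hd : d ∈ CS) (h : c = d) : G.eps hc = G.eps hd := by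
  subst h; rfl

/-- the generators -/
noncomputable def gE (l : List Gen) (j : ℕ) : El :=
  (nth ⟨idE, ⟨[], [], idE⟩, ⟨[], [], idE⟩, ⟨[], [], idE⟩⟩ l j).d

theorem mg_gE {τ : GLV} (R : G.Rels0 rho τ) {l : List Gen} (h : lall cmB l = true)
    (hl : ∀ j < l.length, (gE l j).g.length = 1) {j : ℕ} (hj : j < l.length) :
    MG ((τ * rho aE.val) ^ 3) (gE l j) :=
  mg_of R (lall_iff.1 h _ (nth_mem _ hj)) (hl j hj)

/-! ### sign changes -/

/-- the code word of a generator -/
noncomputable def yc (j : ℕ) : ℕ := nth 0 [3, 5, 9, 16, 32, 64, 128, 256, 512, 1024, 2048] j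

theorem yc_check : ∀ j < 11, yc j < 4096 ∧ ∀ p < 24, ap (mE (gE genY j)) p = p ∧
    (mE (gE genY j)).testBit (120 + p) = (enc (yc j)).testBit (ap ordC p) := by decide +kernel

noncomputable def fY (j n : ℕ) : ℕ := Bool.rec n (Nat.xor n (yc j)) (Leech.tb n (Nat.succ j))

theorem fY_check : allLt 4096 (fun n => Nat.ble (iter fY 11 n) 1) = true := by decide +kernel

theorem gw_eps (hY : ∀ j < 11, MG r (gE genY j)) {x : LL} (h0 : GW r x)
    (h1 : GW r (G.eps G.o1_CS • x)) {c : Finset Pt} (hc : c ∈ CS) : GW r (G.eps hc • x) := by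
  obtain ⟨n, hn, rfl⟩ := exists_enc_of_mem_CS hc
  refine iter_ind (f := fY) (N := 11) (P := fun n => ∀ hn : n < 4096,
    GW r (G.eps (enc_mem_CS hn) • x)) (fun j hj n h hn => ?_) (fun h => ?_) hn
  · obtain ⟨a, b⟩ := yc_check j hj
    have e : gOf (gE genY j).val = G.eps (enc_mem_CS a) :=
      G.MonoSpec.unique (hY j hj).g ⟨(hY j hj).g.1, fun x p hp => by
        rw [G.eps_apply, (b p hp).1, (b p hp).2]
        simp only [Pos, pt_mem_ofMask (ordC_lt p hp)]⟩
    unfold fY at h
    cases k : Leech.tb n j.succ <;> rw [k] at h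
    · exact h hn
    · refine (GW.smul (hY j hj).cm _).1 ?_
      have l : Nat.xor n (yc j) < 4096 := Nat.xor_lt_two_pow (n := 12) hn a
      rw [e, ← mul_smul, G.eps_mul, eps_congr _ (enc_mem_CS l)
        (by rw [enc_xor hn a, ofMask_xor, symmDiff_comm])]
      exact h l
  · have := Nat.le_of_ble_eq_true (allLt_iff.1 fY_check n hn)
    generalize iter fY 11 n = k at h this
    obtain rfl | rfl : k = 0 ∨ k = 1 := by omega
    · rwa [eps_congr _ empty_mem_CS (by rw [show enc 0 = 0 by decide +kernel, ofMask_zero]),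
        G.eps, mono_one, one_smul]
    · exact h1

theorem gq_of (hY : ∀ j < 11, MG r (gE genY j)) {a b : ℤ} {s : ℕ} {x : LL} (hx : Sq a b s x)
    (h0 : GW r x) (h1 : GW r (G.eps G.o1_CS • x)) : GQ r a b s := fun y hy => by
  obtain ⟨c, hc, rfl⟩ := exists_eps hx.1 hy.1 fun i => by
    obtain ⟨p, hp, rfl⟩ := exists_Pos i
    rw [hx.2 p hp, hy.2 p hp]
  exact gw_eps hY h0 h1 hc

/-! ### orbits of masks -/

def dirM : ℕ := 0x221242451108121022a261001212114210201014110188180000015509506289920201506001029511a55201a00102196116910020089224210922111511950a2a2a6221101260225420910601619291220222240201649915108082140a2a16510001229020002619029101400011212a215448610551800100615211a15a2221192511561115220212a0425000041226529a0100105660111a0601106114115051151022050404820460209869226011195222220906015622260650a151a55595048111210220261610001126028219145298141605060289128060a9022200818006a2520541261102412012022091911022962402212011125892512812621529a210502190a250420a8215601120052210111502200a5280144195640182152540200010015411014960022141666a24180021a80905251911262221192612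

noncomputable def fM (_ s : ℕ) : ℕ := Nat.rec (motive := fun _ => ℕ) s
  (fun g _ => pb (mE (gE genP (bit g (nat_lit 0)))) s) (Nat.land (Nat.shiftRight dirM
    (Nat.mul (nat_lit 2) (Nat.mod s (nat_lit 1290)))) (nat_lit 3))

theorem gq_iter (hP : ∀ j < 2, MG r (gE genP j)) {a b : ℤ} {s : ℕ} (h : GQ r a b (iter fM 15 s)) :
    GQ r a b s := iter_ind (P := GQ r a b) (fun _ _ s h => by
  unfold fM at h
  generalize Nat.land _ _ = g at h
  cases g
  exacts [h, (hP _ (Nat.lt_succ_of_le (bit_le _ _))).gq h]) h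

theorem fM_check1 : ∀ p < 24, iter fM 15 (2 ^ p) = 1 := by decide +kernel

theorem fM_check2 : ∀ p < 24, ∀ q < 24, p ≠ q →
    iter fM 15 (2 ^ p ||| 2 ^ q) = 3 ∨ iter fM 15 (2 ^ p ||| 2 ^ q) = 17 := by decide +kernel

theorem fM_check8 : allLt 4096 (fun c => Bool.rec true (force (iter fM 15 (pb ordC (enc c))) fun s =>
    lany (Nat.beq s) [0xff, 0x3355, 0x111278]) (Nat.beq (pc (enc c)) 8)) = true := by
  decide +kernel

end CF.Mon.R
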