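import Cfsg.Agent.Mon.ThJ
import Cfsg.Agent.Known.Mon.Three
import Cfsg.Agent.Bender.Final

/-! The centraliser in the Monster of an element of order three centralising the Thompson group. -/

set_option autoImplicit false
set_option maxRecDepth 100000

namespace CF.Mon.ThI

open Cfsg Cfsg.Spor CF.Comp CF.Dce CF.Mon.G CF.Known.Mon CF.Loc CF.LX CF.Even Subgroup Function
open Lab hiding induction

theorem card_LL' : LL.ncard ≤ 512 := by
  classical
  rw [← k12]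
  exact (Set.ncard_le_ncard (t := lab '' cL.toFinset) (Set.image_mono fun x a => by simpa using a)).trans
    ((Set.ncard_image_le (Set.toFinite _)).trans
      ((Set.ncard_coe_finset _).le.trans (List.toFinset_card_le _)))

variable {Γ : Type} [Group Γ] {ρ : Gt →* Γ} {τ : Γ} (h : G.Out ρ τ)
include h

theorem card_Q : {x | x ∈ QQ ρ ∧ x * ρ gE = ρ gE * x}.ncard ≤ 512 := by
  refine (Set.ncard_le_ncard (t := (fun p => ρ (pauli p)) '' LL) ?_).trans
    ((Set.ncard_image_le (Set.toFinite _)).trans card_LL')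
  rintro _ ⟨⟨p, rfl⟩, e⟩
  exact ⟨p, mem_LL' h (fix_mem (LL_mem h) ((rho_comm_iff h.x_ne).1 e.symm)), rfl⟩

theorem card_D (o : orderOf (ρ gE) = 3) :
    Nat.card ↥(𝐂₁(ρ (pauli xc)) ⊓ 𝐂₁(ρ gE)) ≤ 92897280 * 3 := by
  have := h.finite
  obtain ⟨M, a, -⟩ := h.exists_MT
  have q := card_Q h
  obtain ⟨M, -, r | r⟩ := MT.exists_three (pauli_mem_QQ ρ Y0) ((a _).trans lam_Y0) o
    ⟨mem_c1.2 ((rho_comm_iff h.x_ne).2 (smul_xc _)), mem_c1.2 ((rho_comm_iff h.x_ne).2 g_Y)⟩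
  · have := M.ncard_lam {w | Leech.permHom (ev Leech.M.m C3A.w) • w = w}
    have := this.ge.trans ((Set.ncard_le_ncard (t := {x | x ∈ QQ ρ ∧ x * ρ gE = ρ gE * x}) fun x k =>
      ⟨k.1, (r.comm_iff (o ▸ by decide) k.1).2 k.2⟩).trans q)
    rw [C3A.main.1.card] at this
    omega
  have e := M.card_pre (B := 𝐂₁(ρ (pauli xc)) ⊓ 𝐂₁(ρ gE)) inf_le_left
  have b := (card_le_of_le (show M.pre (𝐂₁(ρ (pauli xc)) ⊓ 𝐂₁(ρ gE)) ≤ _ from fun g hg =>
    let ⟨_, k, r'⟩ := M.mem_pre.1 hg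
    r.cent (C3B.main.1.ord ▸ by decide) r' (mem_c1.1 k.2))).trans C3B.main.2.2.le
  have c : Nat.card ↥(QQ ρ ⊓ (𝐂₁(ρ (pauli xc)) ⊓ 𝐂₁(ρ gE))) ≤ 512 :=
    (Set.ncard_le_ncard (t := {x | x ∈ QQ ρ ∧ x * ρ gE = ρ gE * x}) fun x k =>
      ⟨k.1, mem_c1.1 k.2.2⟩).trans q
  have := Nat.mul_le_mul b c
  omega

theorem card_cent (o : orderOf (ρ gE) = 3) (hc : ∀ s, Commute (φ h s) (ρ gE)) :
    Nat.card 𝐂₁(ρ gE) = 272237831663616000 := by
  have := h.finite
  have := Th.isTh.1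
  have := Nat.finite_of_card_ne_zero (Th.isTh.2.trans_ne (by decide))
  have cY : Nat.card (zpowers (ρ gE)) = 3 := (Nat.card_zpowers _).trans o
  let χ := (φ h).noncommCoprod (zpowers (ρ gE)).subtype fun s ⟨_, n, e⟩ => e ▸ (hc s).zpow_right n
  have hχ : ∀ s y, χ (s, y) = φ h s * y := fun _ _ => rfl
  have inj : Injective χ := (injective_iff_map_eq_one χ).2 fun ⟨s, y⟩ e => by
    have k : s ∈ (zpowers (ρ gE)).comap (φ h) := by
      rw [mem_comap, eq_inv_of_mul_eq_one_left e]; exact inv_mem y.2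
    have n : ((zpowers (ρ gE)).comap (φ h)).Normal := ⟨fun a ⟨n, e⟩ b => ⟨n, by
      rw [map_mul, map_mul, ← e, ((hc b).zpow_right n).eq, map_inv, mul_inv_cancel_right]⟩⟩
    obtain n | n := n.eq_bot_or_eq_top
    · obtain rfl := mem_bot.1 (n ▸ k)
      exact Prod.ext rfl (Subtype.ext (by simpa [hχ] using e))
    · have := Nat.card_le_card_of_injective ((φ h).codRestrict (zpowers (ρ gE)) fun s => n.ge (mem_top s))
        fun a b e => φ_inj h (congrArg Subtype.val e)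
      rw [cY, Th.isTh.2] at this
      omega
  have hE : χ.range ≤ 𝐂₁(ρ gE) := by
    rintro _ ⟨⟨s, _, n, rfl⟩, rfl⟩
    exact mem_c1.2 ((hc s).mul_left ((Commute.refl _).zpow_left n)).eq
  have hT : (φ h).range ≤ χ.range := fun _ ⟨s, e⟩ => ⟨(s, 1), (mul_one _).trans e⟩
  have hD : 𝐂₁(ρ (pauli xc)) ⊓ 𝐂₁(ρ gE) ≤ χ.range := by
    rw [← eq_of_le_of_card_ge (H := (C0.prod ⊤).map χ) (le_inf ?_ ((map_le_range _ _).trans hE)) ?_]
    · exact map_le_range _ _
    · rintro _ ⟨⟨s, _, n, rfl⟩, k, rfl⟩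
      refine mul_mem ?_ (zpow_mem (mem_c1.2 ((rho_comm_iff h.x_ne).2 (smul_xc _))) n)
      rw [← f_a ρ τ, ← ev_single (f ρ τ) 0]
      exact Th.C_le (hr h) (map_C0 h ▸ mem_map_of_mem _ k.1)
    · rw [card_map_of_injective inj, Nat.card_congr (prodEquiv _ _).toEquiv, Nat.card_prod, card_C0,
        card_top, cY]
      exact card_D h o
  have iv : ∀ t ∈ χ.range, orderOf t = 2 → ∃ v ∈ χ.range, v * ρ (pauli xc) * v⁻¹ = t := by
    rintro _ ⟨⟨s, y⟩, rfl⟩ o
    rw [orderOf_injective χ inj] at o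
    have e := pow_orderOf_eq_one (s, y)
    rw [o, sq, Prod.ext_iff] at e
    obtain rfl : y = 1 := by
      have := pow_card_eq_one' (x := y)
      rwa [cY, pow_three, show y * y = 1 from e.2, mul_one] at this
    obtain ⟨v, a, b⟩ := R_all h e.1 (by rintro rfl; simp [← Prod.one_eq_mk] at o)
    exact ⟨v, hT a, b.trans (mul_one _).symm⟩
  have hx : ρ (pauli xc) ∈ χ.range := hT ⟨_, (φ_f h 0).trans (f_a ρ τ)⟩
  have hc' : ρ (pauli pc) ∈ χ.range := hT ⟨_, (φ_f h 2).trans (f_c h)⟩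
  by_cases top : χ.range.subgroupOf 𝐂₁(ρ gE) = ⊤
  · rw [← hE.antisymm (subgroupOf_eq_top.1 top), ← Nat.card_congr (MonoidHom.ofInjective inj).toEquiv,
      Nat.card_prod, cY, Th.isTh.2]
  have se : IsStronglyEmbedded (χ.range.subgroupOf 𝐂₁(ρ gE)) := CF.Invol.se_iff.2 ⟨top, by
    rw [Nat.card_congr (subgroupOfEquivOfLe hE).toEquiv, even_iff_two_dvd, ← h.orderOf_x]
    exact orderOf_dvd_natCard _ hx, fun t ht o k hk => by
      obtain ⟨v, a, b⟩ := iv t ht ((orderOf_coe t).trans o)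
      obtain ⟨v', a', b'⟩ := iv _ hk ((orderOf_coe _).trans ((CF.Invol.orderOf_conj ..).trans o))
      have := hD (x := v'⁻¹ * k * v) ⟨mem_c1.2 (by
        have b' : v' * ρ (pauli xc) * v'⁻¹ = k * t * (k : Γ)⁻¹ := b'
        calc _ = v'⁻¹ * (k * (v * ρ (pauli xc) * v⁻¹) * (k : Γ)⁻¹) * k * v := by group
          _ = _ := by rw [b, ← b']; group),
        Subgroup.mul_mem _ (Subgroup.mul_mem _ (inv_mem (hE a')) k.2) (hE a)⟩
      exact (mul_mem_cancel_left (inv_mem a')).1 ((mul_mem_cancel_right a).1 this)⟩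
  have sol := CF.Bender.se_sol CF.Bender.part2 se ⟨⟨_, hE hx⟩, ⟨_, hE hc'⟩,
    fun e => h.x_ne (congrArg Subtype.val e), fun e => pc_ne.1 (h.eq_one.1 (congrArg Subtype.val e)),
    fun e => pc_ne.2 (h.inj.1 (congrArg Subtype.val e)).symm, Subtype.ext Out.xx,
    Subtype.ext ((rho_pauli_mul ..).trans (h.eq_one.2 pc_sq)),
    Subtype.ext ((rho_pauli_mul ..).trans ((h.inj.2 (xc_comm _)).trans (rho_pauli_mul ..).symm))⟩
  have : Group.IsSolvable Th := Group.isSolvable_of_isSolvable_injective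
    (f := ((φ h).codRestrict _ fun x => hE (hT ⟨x, rfl⟩)).codRestrict (χ.range.subgroupOf _)
      fun x => hT ⟨x, rfl⟩) fun x y e => φ_inj h (congrArg (fun v => v.1.1) e)
  obtain ⟨_, ⟨w, rfl⟩, e⟩ := conj_c h
  rw [← f_a ρ τ, ← φ_f h, ← map_mul, IsSimpleGroup.comm_iff_isSolvable.2 this w, map_mul,
    mul_inv_cancel_right, φ_f, f_a, f_c h] at e
  exact absurd (h.inj.1 e).symm pc_ne.2

end CF.Mon.ThI
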