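import Cfsg.Agent.Mon.ThB

/-! The table of `(X^a, y_a)` and the checked conjugation rule. -/

set_option autoImplicit false
set_option maxRecDepth 100000

namespace CF.Mon

open CF.Comp

def thT0 : List (El × El) := [
  (⟨[], [nat_lit 69632]⟩, ⟨[nat_lit 0x281e82bdab49ca307b9ac5a928398a418820], [nat_lit 69632, nat_lit 160768, nat_lit 156288, nat_lit 153568, nat_lit 147808, nat_lit 144432, nat_lit 139816, nat_lit 132896, nat_lit 6144]⟩),
  (⟨[], [nat_lit 65536, nat_lit 69632]⟩, ⟨[nat_lit 0xc03a03bdab49ca307b9ac5a928398a418820], [nat_lit 65536, nat_lit 69632, nat_lit 175104, nat_lit 170496, nat_lit 167424, nat_lit 161024, nat_lit 156544, nat_lit 155136, nat_lit 148512, nat_lit 143792, nat_lit 139616, nat_lit 136992, nat_lit 132896, nat_lit 2048, nat_lit 6144]⟩),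
  (⟨[], [nat_lit 73728]⟩, ⟨[nat_lit 0x887284bdab49ca307b9ac5a928398a418820], [nat_lit 73728, nat_lit 169472, nat_lit 164352, nat_lit 161536, nat_lit 156160, nat_lit 152320, nat_lit 149088, nat_lit 144896, nat_lit 135720, nat_lit 131912, nat_lit 10240]⟩),
  (⟨[], [nat_lit 65536, nat_lit 73728]⟩, ⟨[nat_lit 0x605605bdab49ca307b9ac5a928398a418820], [nat_lit 65536, nat_lit 73728, nat_lit 171008, nat_lit 166912, nat_lit 161280, nat_lit 158528, nat_lit 152256, nat_lit 148256, nat_lit 146312, nat_lit 140104, nat_lit 136456, nat_lit 131912, nat_lit 2048, nat_lit 10240]⟩),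
  (⟨[], [nat_lit 69632, nat_lit 73728]⟩, ⟨[nat_lit 0xa06c06bdab49ca307b9ac5a928398a418820], [nat_lit 69632, nat_lit 73728, nat_lit 171008, nat_lit 164352, nat_lit 160512, nat_lit 155776, nat_lit 154816, nat_lit 149248, nat_lit 145976, nat_lit 139816, nat_lit 135720, nat_lit 132200, nat_lit 6144, nat_lit 10240]⟩),
  (⟨[], [nat_lit 65536, nat_lit 69632, nat_lit 73728]⟩, ⟨[nat_lit 0x484887bdab49ca307b9ac5a928398a418820], [nat_lit 65536, nat_lit 69632, nat_lit 73728, nat_lit 175104, nat_lit 171008, nat_lit 165120, nat_lit 160256, nat_lit 158144, nat_lit 152864, nat_lit 148032, nat_lit 145328, nat_lit 139616, nat_lit 136456, nat_lit 132200, nat_lit 2048, nat_lit 6144, nat_lit 10240]⟩),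
  (⟨[], [nat_lit 77824]⟩, ⟨[nat_lit 0x48b888bdab49ca307b9ac5a928398a418820], [nat_lit 77824, nat_lit 173056, nat_lit 168960, nat_lit 164864, nat_lit 160768, nat_lit 157440, nat_lit 152832, nat_lit 148672, nat_lit 140800, nat_lit 136244, nat_lit 132484, nat_lit 14336]⟩),
  (⟨[], [nat_lit 65536, nat_lit 77824]⟩, ⟨[nat_lit 0xa09c09bdab49ca307b9ac5a928398a418820], [nat_lit 65536, nat_lit 77824, nat_lit 174080, nat_lit 168960, nat_lit 166400, nat_lit 163200, nat_lit 157184, nat_lit 152768, nat_lit 147840, nat_lit 144768, nat_lit 142668, nat_lit 135956, nat_lit 132484, nat_lit 2048, nat_lit 14336]⟩),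
  (⟨[], [nat_lit 69632, nat_lit 77824]⟩, ⟨[nat_lit 0x60a60abdab49ca307b9ac5a928398a418820], [nat_lit 69632, nat_lit 77824, nat_lit 174080, nat_lit 168960, nat_lit 164864, nat_lit 157056, nat_lit 154304, nat_lit 150960, nat_lit 144432, nat_lit 142380, nat_lit 136244, nat_lit 131748, nat_lit 6144, nat_lit 14336]⟩),
  (⟨[], [nat_lit 65536, nat_lit 69632, nat_lit 77824]⟩, ⟨[nat_lit 0x88828bbdab49ca307b9ac5a928398a418820], [nat_lit 65536, nat_lit 69632, nat_lit 77824, nat_lit 174080, nat_lit 171520, nat_lit 164608, nat_lit 162176, nat_lit 156800, nat_lit 152352, nat_lit 149744, nat_lit 143792, nat_lit 141152, nat_lit 135956, nat_lit 131748, nat_lit 2048, nat_lit 6144, nat_lit 14336]⟩),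
  (⟨[], [nat_lit 73728, nat_lit 77824]⟩, ⟨[nat_lit 0xc0ca0cbdab49ca307b9ac5a928398a418820], [nat_lit 73728, nat_lit 77824, nat_lit 174080, nat_lit 169984, nat_lit 165376, nat_lit 160512, nat_lit 156928, nat_lit 153088, nat_lit 148128, nat_lit 144896, nat_lit 140800, nat_lit 138782, nat_lit 134861, nat_lit 10240, nat_lit 14336]⟩),
  (⟨[], [nat_lit 65536, nat_lit 69632, nat_lit 73728, nat_lit 77824]⟩, ⟨[nat_lit 0xf00fbdab49ca307b9ac5a928398a418820], [nat_lit 65536, nat_lit 69632, nat_lit 73728, nat_lit 77824, nat_lit 173056, nat_lit 168448, nat_lit 165888, nat_lit 163456, nat_lit 159424, nat_lit 153600, nat_lit 151184, nat_lit 145328, nat_lit 141152, nat_lit 137534, nat_lit 133613, nat_lit 2048, nat_lit 6144, nat_lit 10240, nat_lit 14336]⟩),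
  (⟨[], [nat_lit 81920]⟩, ⟨[nat_lit 0xc05c90bdab49ca307b9ac5a928398a418820], [nat_lit 81920, nat_lit 164352, nat_lit 160256, nat_lit 157632, nat_lit 151616, nat_lit 144576, nat_lit 140896, nat_lit 135528, nat_lit 132416, nat_lit 18432]⟩),
  (⟨[], [nat_lit 65536, nat_lit 81920]⟩, ⟨[nat_lit 0x287811bdab49ca307b9ac5a928398a418820], [nat_lit 65536, nat_lit 81920, nat_lit 175104, nat_lit 166912, nat_lit 160512, nat_lit 159360, nat_lit 151936, nat_lit 148800, nat_lit 143680, nat_lit 140584, nat_lit 136776, nat_lit 132416, nat_lit 2048, nat_lit 18432]⟩),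
  (⟨[], [nat_lit 69632, nat_lit 81920]⟩, ⟨[nat_lit 0xe84212bdab49ca307b9ac5a928398a418820], [nat_lit 69632, nat_lit 81920, nat_lit 166656, nat_lit 161280, nat_lit 158976, nat_lit 155520, nat_lit 147808, nat_lit 145656, nat_lit 140360, nat_lit 135528, nat_lit 131680, nat_lit 6144, nat_lit 18432]⟩),
  (⟨[], [nat_lit 65536, nat_lit 69632, nat_lit 81920]⟩, ⟨[nat_lit 0x6693bdab49ca307b9ac5a928398a418820], [nat_lit 65536, nat_lit 69632, nat_lit 81920, nat_lit 170496, nat_lit 166912, nat_lit 161536, nat_lit 156736, nat_lit 153184, nat_lit 148512, nat_lit 146808, nat_lit 141056, nat_lit 136776, nat_lit 131680, nat_lit 2048, nat_lit 6144, nat_lit 18432]⟩),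
  (⟨[], [nat_lit 73728, nat_lit 81920]⟩, ⟨[nat_lit 0x482e14bdab49ca307b9ac5a928398a418820], [nat_lit 73728, nat_lit 81920, nat_lit 175104, nat_lit 171008, nat_lit 161024, nat_lit 159104, nat_lit 154464, nat_lit 149088, nat_lit 144064, nat_lit 140896, nat_lit 136000, nat_lit 132616, nat_lit 10240, nat_lit 18432]⟩),
  (⟨[], [nat_lit 65536, nat_lit 73728, nat_lit 81920]⟩, ⟨[nat_lit 0xa00a95bdab49ca307b9ac5a928398a418820], [nat_lit 65536, nat_lit 73728, nat_lit 81920, nat_lit 169472, nat_lit 165632, nat_lit 160768, nat_lit 158848, nat_lit 154272, nat_lit 148256, nat_lit 147272, nat_lit 140584, nat_lit 136288, nat_lit 132616, nat_lit 2048, nat_lit 10240, nat_lit 18432]⟩),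
  (⟨[], [nat_lit 69632, nat_lit 73728, nat_lit 81920]⟩, ⟨[nat_lit 0x603096bdab49ca307b9ac5a928398a418820], [nat_lit 69632, nat_lit 73728, nat_lit 81920, nat_lit 175104, nat_lit 169472, nat_lit 166144, nat_lit 160000, nat_lit 157504, nat_lit 154752, nat_lit 149248, nat_lit 145136, nat_lit 140360, nat_lit 136000, nat_lit 131368, nat_lit 6144, nat_lit 10240, nat_lit 18432]⟩),
  (⟨[], [nat_lit 65536, nat_lit 69632, nat_lit 73728, nat_lit 81920]⟩, ⟨[nat_lit 0x881417bdab49ca307b9ac5a928398a418820], [nat_lit 65536, nat_lit 69632, nat_lit 73728, nat_lit 81920, nat_lit 175104, nat_lit 169472, nat_lit 165632, nat_lit 157248, nat_lit 152928, nat_lit 148032, nat_lit 146296, nat_lit 141056, nat_lit 136288, nat_lit 131368, nat_lit 2048, nat_lit 6144, nat_lit 10240, nat_lit 18432]⟩),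
  (⟨[], [nat_lit 77824, nat_lit 81920]⟩, ⟨[nat_lit 0x88e418bdab49ca307b9ac5a928398a418820], [nat_lit 77824, nat_lit 81920, nat_lit 174080, nat_lit 168960, nat_lit 165376, nat_lit 163456, nat_lit 157824, nat_lit 152896, nat_lit 148672, nat_lit 144576, nat_lit 139360, nat_lit 138590, nat_lit 131268, nat_lit 14336, nat_lit 18432]⟩),
  (⟨[], [nat_lit 65536, nat_lit 77824, nat_lit 81920]⟩, ⟨[nat_lit 0x60c099bdab49ca307b9ac5a928398a418820], [nat_lit 65536, nat_lit 77824, nat_lit 81920, nat_lit 174080, nat_lit 168960, nat_lit 164096, nat_lit 161536, nat_lit 156096, nat_lit 152704, nat_lit 147840, nat_lit 143680, nat_lit 142124, nat_lit 137854, nat_lit 131268, nat_lit 2048, nat_lit 14336, nat_lit 18432]⟩),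
  (⟨[], [nat_lit 73728, nat_lit 77824, nat_lit 81920]⟩, ⟨[nat_lit 0x969cbdab49ca307b9ac5a928398a418820], [nat_lit 73728, nat_lit 77824, nat_lit 81920, nat_lit 174080, nat_lit 168448, nat_lit 164864, nat_lit 162176, nat_lit 156352, nat_lit 155232, nat_lit 148128, nat_lit 144064, nat_lit 139360, nat_lit 137076, nat_lit 134029, nat_lit 10240, nat_lit 14336, nat_lit 18432]⟩),
  (⟨[], [nat_lit 69632, nat_lit 73728, nat_lit 77824, nat_lit 81920]⟩, ⟨[nat_lit 0x28881ebdab49ca307b9ac5a928398a418820], [nat_lit 69632, nat_lit 73728, nat_lit 77824, nat_lit 81920, nat_lit 173056, nat_lit 169984, nat_lit 167168, nat_lit 163200, nat_lit 157696, nat_lit 151968, nat_lit 150480, nat_lit 145136, nat_lit 141900, nat_lit 137076, nat_lit 134317, nat_lit 6144, nat_lit 10240, nat_lit 14336, nat_lit 18432]⟩),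
  (⟨[], [nat_lit 86016]⟩, ⟨[nat_lit 0xf0f000bdab49ca307b9ac5a928398a418820], [nat_lit 86016, nat_lit 168960, nat_lit 160256, nat_lit 156672, nat_lit 147520, nat_lit 144640, nat_lit 140048, nat_lit 139230, nat_lit 131522, nat_lit 22528]⟩),
  (⟨[], [nat_lit 65536, nat_lit 86016]⟩, ⟨[nat_lit 0x18d481bdab49ca307b9ac5a928398a418820], [nat_lit 65536, nat_lit 86016, nat_lit 168960, nat_lit 167424, nat_lit 162688, nat_lit 159040, nat_lit 152000, nat_lit 148736, nat_lit 143488, nat_lit 139352, nat_lit 135420, nat_lit 131522, nat_lit 2048, nat_lit 22528]⟩),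
  (⟨[], [nat_lit 65536, nat_lit 69632, nat_lit 86016]⟩, ⟨[nat_lit 0x30ca03bdab49ca307b9ac5a928398a418820], [nat_lit 65536, nat_lit 69632, nat_lit 86016, nat_lit 168960, nat_lit 167424, nat_lit 161536, nat_lit 157568, nat_lit 155136, nat_lit 150640, nat_lit 146616, nat_lit 141940, nat_lit 135420, nat_lit 134883, nat_lit 2048, nat_lit 6144, nat_lit 22528]⟩),
  (⟨[], [nat_lit 73728, nat_lit 86016]⟩, ⟨[nat_lit 0x788284bdab49ca307b9ac5a928398a418820], [nat_lit 73728, nat_lit 86016, nat_lit 169984, nat_lit 166656, nat_lit 161024, nat_lit 157184, nat_lit 152320, nat_lit 151088, nat_lit 144128, nat_lit 140048, nat_lit 136692, nat_lit 131722, nat_lit 10240, nat_lit 22528]⟩),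
  (⟨[], [nat_lit 65536, nat_lit 73728, nat_lit 86016]⟩, ⟨[nat_lit 0x90a605bdab49ca307b9ac5a928398a418820], [nat_lit 65536, nat_lit 73728, nat_lit 86016, nat_lit 168448, nat_lit 166912, nat_lit 162944, nat_lit 157440, nat_lit 152256, nat_lit 150384, nat_lit 147080, nat_lit 139352, nat_lit 137942, nat_lit 131722, nat_lit 2048, nat_lit 10240, nat_lit 22528]⟩),
  (⟨[], [nat_lit 69632, nat_lit 73728, nat_lit 86016]⟩, ⟨[nat_lit 0x509c06bdab49ca307b9ac5a928398a418820], [nat_lit 69632, nat_lit 73728, nat_lit 86016, nat_lit 175104, nat_lit 169984, nat_lit 164352, nat_lit 162176, nat_lit 158912, nat_lit 154816, nat_lit 149312, nat_lit 145200, nat_lit 141628, nat_lit 136692, nat_lit 134571, nat_lit 6144, nat_lit 10240, nat_lit 22528]⟩),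
  (⟨[], [nat_lit 77824, nat_lit 86016]⟩, ⟨[nat_lit 0xb84888bdab49ca307b9ac5a928398a418820], [nat_lit 77824, nat_lit 86016, nat_lit 174080, nat_lit 167168, nat_lit 161280, nat_lit 156416, nat_lit 152832, nat_lit 148608, nat_lit 144640, nat_lit 140560, nat_lit 136168, nat_lit 132166, nat_lit 14336, nat_lit 22528]⟩),
  (⟨[], [nat_lit 65536, nat_lit 77824, nat_lit 86016]⟩, ⟨[nat_lit 0x506c09bdab49ca307b9ac5a928398a418820], [nat_lit 65536, nat_lit 77824, nat_lit 86016, nat_lit 173056, nat_lit 166400, nat_lit 161536, nat_lit 158272, nat_lit 152768, nat_lit 147904, nat_lit 143488, nat_lit 142940, nat_lit 138442, nat_lit 132166, nat_lit 2048, nat_lit 14336, nat_lit 22528]⟩),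
  (⟨[], [nat_lit 69632, nat_lit 77824, nat_lit 86016]⟩, ⟨[nat_lit 0x90560abdab49ca307b9ac5a928398a418820], [nat_lit 69632, nat_lit 77824, nat_lit 86016, nat_lit 174080, nat_lit 170496, nat_lit 164864, nat_lit 162432, nat_lit 158144, nat_lit 154304, nat_lit 148960, nat_lit 145720, nat_lit 141112, nat_lit 136168, nat_lit 133991, nat_lit 6144, nat_lit 14336, nat_lit 22528]⟩),
  (⟨[], [nat_lit 73728, nat_lit 77824, nat_lit 86016]⟩, ⟨[nat_lit 0x303a0cbdab49ca307b9ac5a928398a418820], [nat_lit 73728, nat_lit 77824, nat_lit 86016, nat_lit 173056, nat_lit 169472, nat_lit 165376, nat_lit 160000, nat_lit 155904, nat_lit 153088, nat_lit 150256, nat_lit 144128, nat_lit 140560, nat_lit 135616, nat_lit 134927, nat_lit 10240, nat_lit 14336, nat_lit 22528]⟩),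
  (⟨[], [nat_lit 69632, nat_lit 73728, nat_lit 77824, nat_lit 86016]⟩, ⟨[nat_lit 0x18248ebdab49ca307b9ac5a928398a418820], [nat_lit 69632, nat_lit 73728, nat_lit 77824, nat_lit 86016, nat_lit 173056, nat_lit 169472, nat_lit 167680, nat_lit 163200, nat_lit 158656, nat_lit 152032, nat_lit 150416, nat_lit 145200, nat_lit 141112, nat_lit 135616, nat_lit 131118, nat_lit 6144, nat_lit 10240, nat_lit 14336, nat_lit 22528]⟩),
  (⟨[], [nat_lit 65536, nat_lit 69632, nat_lit 73728, nat_lit 77824, nat_lit 86016]⟩, ⟨[nat_lit 0xf0000fbdab49ca307b9ac5a928398a418820], [nat_lit 65536, nat_lit 69632, nat_lit 73728, nat_lit 77824, nat_lit 86016, nat_lit 173056, nat_lit 169472, nat_lit 165888, nat_lit 162944, nat_lit 158400, nat_lit 153600, nat_lit 151248, nat_lit 146104, nat_lit 142452, nat_lit 138978, nat_lit 131118, nat_lit 2048, nat_lit 6144, nat_lit 10240, nat_lit 14336, nat_lit 22528]⟩),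
  (⟨[], [nat_lit 81920, nat_lit 86016]⟩, ⟨[nat_lit 0x30ac90bdab49ca307b9ac5a928398a418820], [nat_lit 81920, nat_lit 86016, nat_lit 168960, nat_lit 164352, nat_lit 158592, nat_lit 151616, nat_lit 147520, nat_lit 143808, nat_lit 142708, nat_lit 136884, nat_lit 132226, nat_lit 18432, nat_lit 22528]⟩),
  (⟨[], [nat_lit 65536, nat_lit 81920, nat_lit 86016]⟩, ⟨[nat_lit 0xd88811bdab49ca307b9ac5a928398a418820], [nat_lit 65536, nat_lit 81920, nat_lit 86016, nat_lit 175104, nat_lit 168960, nat_lit 165120, nat_lit 162176, nat_lit 158336, nat_lit 151936, nat_lit 148736, nat_lit 144448, nat_lit 142908, nat_lit 137622, nat_lit 132226, nat_lit 2048, nat_lit 18432, nat_lit 22528]⟩),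
  (⟨[], [nat_lit 69632, nat_lit 81920, nat_lit 86016]⟩, ⟨[nat_lit 0x18b212bdab49ca307b9ac5a928398a418820], [nat_lit 69632, nat_lit 81920, nat_lit 86016, nat_lit 175104, nat_lit 171520, nat_lit 164352, nat_lit 162944, nat_lit 157952, nat_lit 155520, nat_lit 149808, nat_lit 144880, nat_lit 141144, nat_lit 136884, nat_lit 134051, nat_lit 6144, nat_lit 18432, nat_lit 22528]⟩),
  (⟨[], [nat_lit 69632, nat_lit 73728, nat_lit 81920, nat_lit 86016]⟩, ⟨[nat_lit 0x90c096bdab49ca307b9ac5a928398a418820], [nat_lit 69632, nat_lit 73728, nat_lit 81920, nat_lit 86016, nat_lit 168448, nat_lit 166144, nat_lit 162688, nat_lit 156480, nat_lit 154752, nat_lit 149312, nat_lit 146424, nat_lit 141144, nat_lit 138398, nat_lit 133355, nat_lit 6144, nat_lit 10240, nat_lit 18432, nat_lit 22528]⟩),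
  (⟨[], [nat_lit 77824, nat_lit 81920, nat_lit 86016]⟩, ⟨[nat_lit 0x781418bdab49ca307b9ac5a928398a418820], [nat_lit 77824, nat_lit 81920, nat_lit 86016, nat_lit 173056, nat_lit 167680, nat_lit 162944, nat_lit 156864, nat_lit 152896, nat_lit 148608, nat_lit 143808, nat_lit 142196, nat_lit 135808, nat_lit 131334, nat_lit 14336, nat_lit 18432, nat_lit 22528]⟩),
  (⟨[], [nat_lit 65536, nat_lit 77824, nat_lit 81920, nat_lit 86016]⟩, ⟨[nat_lit 0x903099bdab49ca307b9ac5a928398a418820], [nat_lit 65536, nat_lit 77824, nat_lit 81920, nat_lit 86016, nat_lit 173056, nat_lit 164096, nat_lit 163200, nat_lit 157120, nat_lit 152704, nat_lit 147904, nat_lit 144448, nat_lit 139320, nat_lit 138658, nat_lit 131334, nat_lit 2048, nat_lit 14336, nat_lit 18432, nat_lit 22528]⟩),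
  (⟨[], [nat_lit 69632, nat_lit 77824, nat_lit 81920, nat_lit 86016]⟩, ⟨[nat_lit 0x500a9abdab49ca307b9ac5a928398a418820], [nat_lit 69632, nat_lit 77824, nat_lit 81920, nat_lit 86016, nat_lit 173056, nat_lit 170496, nat_lit 167680, nat_lit 157248, nat_lit 152224, nat_lit 148960, nat_lit 144880, nat_lit 141660, nat_lit 135808, nat_lit 134695, nat_lit 6144, nat_lit 14336, nat_lit 18432, nat_lit 22528]⟩),
  (⟨[], [nat_lit 65536, nat_lit 73728, nat_lit 77824, nat_lit 81920, nat_lit 86016]⟩, ⟨[nat_lit 0x18421dbdab49ca307b9ac5a928398a418820], [nat_lit 65536, nat_lit 73728, nat_lit 77824, nat_lit 81920, nat_lit 86016, nat_lit 173056, nat_lit 169472, nat_lit 164608, nat_lit 162432, nat_lit 157632, nat_lit 155552, nat_lit 151472, nat_lit 145992, nat_lit 139320, nat_lit 139146, nat_lit 133711, nat_lit 2048, nat_lit 10240, nat_lit 14336, nat_lit 18432, nat_lit 22528]⟩),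
  (⟨[], [nat_lit 90112]⟩, ⟨[nat_lit 0xa9aa00bdab49ca307b9ac5a928398a418820], [nat_lit 90112, nat_lit 160000, nat_lit 152576, nat_lit 151472, nat_lit 145168, nat_lit 139792, nat_lit 135856, nat_lit 131380, nat_lit 26624]⟩),
  (⟨[], [nat_lit 94208]⟩, ⟨[nat_lit 0x606aa0bdab49ca307b9ac5a928398a418820], [nat_lit 94208, nat_lit 155904, nat_lit 152064, nat_lit 148032, nat_lit 144400, nat_lit 141056, nat_lit 136288, nat_lit 131368, nat_lit 30720]⟩),
  (⟨[], [nat_lit 90112, nat_lit 94208]⟩, ⟨[nat_lit 0xc9c0a0bdab49ca307b9ac5a928398a418820], [nat_lit 90112, nat_lit 94208, nat_lit 166144, nat_lit 160000, nat_lit 155904, nat_lit 153088, nat_lit 148960, nat_lit 144128, nat_lit 140560, nat_lit 138962, nat_lit 131100, nat_lit 26624, nat_lit 30720]⟩),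
  (⟨[], [nat_lit 98304]⟩, ⟨[nat_lit 0xff00bdab49ca307b9ac5a928398a418820], [nat_lit 98304, nat_lit 168960, nat_lit 155776, nat_lit 148032, nat_lit 144480, nat_lit 139936, nat_lit 135216, nat_lit 134911, nat_lit 34816]⟩),
  (⟨[], [nat_lit 90112, nat_lit 98304]⟩, ⟨[nat_lit 0xa95500bdab49ca307b9ac5a928398a418820], [nat_lit 90112, nat_lit 98304, nat_lit 168960, nat_lit 162176, nat_lit 155776, nat_lit 152576, nat_lit 148960, nat_lit 146296, nat_lit 139440, nat_lit 135808, nat_lit 133066, nat_lit 26624, nat_lit 34816]⟩),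
  (⟨[], [nat_lit 94208, nat_lit 98304]⟩, ⟨[nat_lit 0x6095a0bdab49ca307b9ac5a928398a418820], [nat_lit 94208, nat_lit 98304, nat_lit 168960, nat_lit 158144, nat_lit 152064, nat_lit 143472, nat_lit 142756, nat_lit 136272, nat_lit 133078, nat_lit 30720, nat_lit 34816]⟩),
  (⟨[], [nat_lit 102400]⟩, ⟨[nat_lit 0x6acc00bdab49ca307b9ac5a928398a418820], [nat_lit 102400, nat_lit 164864, nat_lit 152704, nat_lit 147904, nat_lit 144448, nat_lit 142844, nat_lit 135268, nat_lit 131334, nat_lit 38912]⟩),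
  (⟨[], [nat_lit 90112, nat_lit 102400]⟩, ⟨[nat_lit 0xc36600bdab49ca307b9ac5a928398a418820], [nat_lit 90112, nat_lit 102400, nat_lit 164864, nat_lit 160000, nat_lit 151680, nat_lit 149088, nat_lit 146264, nat_lit 141288, nat_lit 137942, nat_lit 131122, nat_lit 26624, nat_lit 38912]⟩),
  (⟨[], [nat_lit 94208, nat_lit 102400]⟩, ⟨[nat_lit 0xaa6a0bdab49ca307b9ac5a928398a418820], [nat_lit 94208, nat_lit 102400, nat_lit 164864, nat_lit 155904, nat_lit 155296, nat_lit 150416, nat_lit 143440, nat_lit 140024, nat_lit 136196, nat_lit 131118, nat_lit 30720, nat_lit 38912]⟩),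
  (⟨[], [nat_lit 90112, nat_lit 94208, nat_lit 102400]⟩, ⟨[nat_lit 0xa30ca0bdab49ca307b9ac5a928398a418820], [nat_lit 90112, nat_lit 94208, nat_lit 102400, nat_lit 167168, nat_lit 160000, nat_lit 155904, nat_lit 154272, nat_lit 148512, nat_lit 147272, nat_lit 141548, nat_lit 136884, nat_lit 131354, nat_lit 26624, nat_lit 30720, nat_lit 38912]⟩),
  (⟨[], [nat_lit 98304, nat_lit 102400]⟩, ⟨[nat_lit 0x6a3300bdab49ca307b9ac5a928398a418820], [nat_lit 98304, nat_lit 102400, nat_lit 175104, nat_lit 168960, nat_lit 164864, nat_lit 155776, nat_lit 152704, nat_lit 150416, nat_lit 143392, nat_lit 141144, nat_lit 135252, nat_lit 133112, nat_lit 34816, nat_lit 38912]⟩),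
  (⟨[], [nat_lit 90112, nat_lit 98304, nat_lit 102400]⟩, ⟨[nat_lit 0xc39900bdab49ca307b9ac5a928398a418820], [nat_lit 90112, nat_lit 98304, nat_lit 102400, nat_lit 175104, nat_lit 168960, nat_lit 164864, nat_lit 162176, nat_lit 155776, nat_lit 151680, nat_lit 148512, nat_lit 145200, nat_lit 142668, nat_lit 137958, nat_lit 134861, nat_lit 26624, nat_lit 34816, nat_lit 38912]⟩),
  (⟨[], [nat_lit 94208, nat_lit 98304, nat_lit 102400]⟩, ⟨[nat_lit 0xa59a0bdab49ca307b9ac5a928398a418820], [nat_lit 94208, nat_lit 98304, nat_lit 102400, nat_lit 175104, nat_lit 168960, nat_lit 164864, nat_lit 158144, nat_lit 155296, nat_lit 147904, nat_lit 144432, nat_lit 139352, nat_lit 136244, nat_lit 134865, nat_lit 30720, nat_lit 34816, nat_lit 38912]⟩),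
  (⟨[], [nat_lit 106496]⟩, ⟨[nat_lit 0xa0c6c0bdab49ca307b9ac5a928398a418820], [nat_lit 106496, nat_lit 164352, nat_lit 152128, nat_lit 147520, nat_lit 146424, nat_lit 139928, nat_lit 135336, nat_lit 131354, nat_lit 43008]⟩),
  (⟨[], [nat_lit 90112, nat_lit 106496]⟩, ⟨[nat_lit 0x96cc0bdab49ca307b9ac5a928398a418820], [nat_lit 90112, nat_lit 106496, nat_lit 164352, nat_lit 160000, nat_lit 155232, nat_lit 149472, nat_lit 144608, nat_lit 139400, nat_lit 135704, nat_lit 131118, nat_lit 26624, nat_lit 43008]⟩),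
  (⟨[], [nat_lit 94208, nat_lit 106496]⟩, ⟨[nat_lit 0xc0ac60bdab49ca307b9ac5a928398a418820], [nat_lit 94208, nat_lit 106496, nat_lit 164352, nat_lit 155904, nat_lit 151616, nat_lit 147968, nat_lit 145376, nat_lit 142748, nat_lit 138442, nat_lit 131122, nat_lit 30720, nat_lit 43008]⟩),
  (⟨[], [nat_lit 90112, nat_lit 94208, nat_lit 106496]⟩, ⟨[nat_lit 0x690660bdab49ca307b9ac5a928398a418820], [nat_lit 90112, nat_lit 94208, nat_lit 106496, nat_lit 166656, nat_lit 160000, nat_lit 155904, nat_lit 154720, nat_lit 150960, nat_lit 145656, nat_lit 143244, nat_lit 136824, nat_lit 131334, nat_lit 26624, nat_lit 30720, nat_lit 43008]⟩),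
  (⟨[], [nat_lit 98304, nat_lit 106496]⟩, ⟨[nat_lit 0xa039c0bdab49ca307b9ac5a928398a418820], [nat_lit 98304, nat_lit 106496, nat_lit 171520, nat_lit 164352, nat_lit 155776, nat_lit 152128, nat_lit 147968, nat_lit 145296, nat_lit 139320, nat_lit 135320, nat_lit 133092, nat_lit 34816, nat_lit 43008]⟩),
  (⟨[], [nat_lit 90112, nat_lit 98304, nat_lit 106496]⟩, ⟨[nat_lit 0x993c0bdab49ca307b9ac5a928398a418820], [nat_lit 90112, nat_lit 98304, nat_lit 106496, nat_lit 171520, nat_lit 164352, nat_lit 162176, nat_lit 155776, nat_lit 155232, nat_lit 150960, nat_lit 143488, nat_lit 139816, nat_lit 135720, nat_lit 134865, nat_lit 26624, nat_lit 34816, nat_lit 43008]⟩),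
  (⟨[], [nat_lit 94208, nat_lit 98304, nat_lit 106496]⟩, ⟨[nat_lit 0xc05360bdab49ca307b9ac5a928398a418820], [nat_lit 94208, nat_lit 98304, nat_lit 106496, nat_lit 171520, nat_lit 164352, nat_lit 158144, nat_lit 151616, nat_lit 147520, nat_lit 146312, nat_lit 141112, nat_lit 138490, nat_lit 134861, nat_lit 30720, nat_lit 34816, nat_lit 43008]⟩),
  (⟨[], [nat_lit 102400, nat_lit 106496]⟩, ⟨[nat_lit 0xca0ac0bdab49ca307b9ac5a928398a418820], [nat_lit 102400, nat_lit 106496, nat_lit 167680, nat_lit 155360, nat_lit 147840, nat_lit 145328, nat_lit 141152, nat_lit 135372, nat_lit 131100, nat_lit 38912, nat_lit 43008]⟩),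
  (⟨[], [nat_lit 90112, nat_lit 102400, nat_lit 106496]⟩, ⟨[nat_lit 0x63a0c0bdab49ca307b9ac5a928398a418820], [nat_lit 90112, nat_lit 102400, nat_lit 106496, nat_lit 167680, nat_lit 160000, nat_lit 152256, nat_lit 151088, nat_lit 143520, nat_lit 142708, nat_lit 137854, nat_lit 131368, nat_lit 26624, nat_lit 38912, nat_lit 43008]⟩),
  (⟨[], [nat_lit 94208, nat_lit 102400, nat_lit 106496]⟩, ⟨[nat_lit 0xaa6060bdab49ca307b9ac5a928398a418820], [nat_lit 94208, nat_lit 102400, nat_lit 106496, nat_lit 167680, nat_lit 155904, nat_lit 152768, nat_lit 150480, nat_lit 146344, nat_lit 139360, nat_lit 138414, nat_lit 131380, nat_lit 30720, nat_lit 38912, nat_lit 43008]⟩),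
  (⟨[], [nat_lit 90112, nat_lit 94208, nat_lit 102400, nat_lit 106496]⟩, ⟨[nat_lit 0x3ca60bdab49ca307b9ac5a928398a418820], [nat_lit 90112, nat_lit 94208, nat_lit 102400, nat_lit 106496, nat_lit 165376, nat_lit 160000, nat_lit 155904, nat_lit 153824, nat_lit 150640, nat_lit 146616, nat_lit 141940, nat_lit 138782, nat_lit 26624, nat_lit 30720, nat_lit 38912, nat_lit 43008]⟩),
  (⟨[], [nat_lit 90112, nat_lit 94208, nat_lit 98304, nat_lit 102400, nat_lit 106496]⟩, ⟨[nat_lit 0x33560bdab49ca307b9ac5a928398a418820], [nat_lit 90112, nat_lit 94208, nat_lit 98304, nat_lit 102400, nat_lit 106496, nat_lit 175104, nat_lit 171520, nat_lit 165376, nat_lit 162176, nat_lit 158144, nat_lit 153824, nat_lit 151088, nat_lit 145624, nat_lit 141524, nat_lit 138798, nat_lit 134911, nat_lit 26624, nat_lit 30720, nat_lit 34816, nat_lit 38912, nat_lit 43008]⟩),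
  (⟨[], [nat_lit 65536, nat_lit 73728, nat_lit 77824]⟩, ⟨[nat_lit 0x28ee8dbdab49ca307b9ac5a928398a418820], [nat_lit 65536, nat_lit 73728, nat_lit 77824, nat_lit 173056, nat_lit 168448, nat_lit 164096, nat_lit 162432, nat_lit 158784, nat_lit 153536, nat_lit 149472, nat_lit 146312, nat_lit 142668, nat_lit 137534, nat_lit 134861, nat_lit 2048, nat_lit 10240, nat_lit 14336, nat_lit 327680]⟩),
  (⟨[], [nat_lit 69632, nat_lit 73728, nat_lit 77824]⟩, ⟨[nat_lit 0xe8d48ebdab49ca307b9ac5a928398a418820], [nat_lit 69632, nat_lit 73728, nat_lit 77824, nat_lit 173056, nat_lit 168448, nat_lit 165376, nat_lit 161536, nat_lit 157568, nat_lit 152032, nat_lit 150480, nat_lit 145976, nat_lit 142380, nat_lit 138782, nat_lit 133613, nat_lit 6144, nat_lit 10240, nat_lit 14336, nat_lit 327680]⟩),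
  (⟨[], [nat_lit 69632, nat_lit 77824, nat_lit 81920]⟩, ⟨[nat_lit 0xa0fa9abdab49ca307b9ac5a928398a418820], [nat_lit 69632, nat_lit 77824, nat_lit 81920, nat_lit 173056, nat_lit 168960, nat_lit 167680, nat_lit 162432, nat_lit 156224, nat_lit 152224, nat_lit 150960, nat_lit 145656, nat_lit 141900, nat_lit 138590, nat_lit 133092, nat_lit 6144, nat_lit 14336, nat_lit 18432, nat_lit 327680]⟩),
  (⟨[], [nat_lit 65536, nat_lit 69632, nat_lit 77824, nat_lit 81920]⟩, ⟨[nat_lit 0x48de1bbdab49ca307b9ac5a928398a418820], [nat_lit 65536, nat_lit 69632, nat_lit 77824, nat_lit 81920, nat_lit 174080, nat_lit 171520, nat_lit 164096, nat_lit 160512, nat_lit 158464, nat_lit 154432, nat_lit 149744, nat_lit 146808, nat_lit 139520, nat_lit 137854, nat_lit 133092, nat_lit 2048, nat_lit 6144, nat_lit 14336, nat_lit 18432, nat_lit 327680]⟩),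
  (⟨[], [nat_lit 65536, nat_lit 73728, nat_lit 77824, nat_lit 81920]⟩, ⟨[nat_lit 0xe8b21dbdab49ca307b9ac5a928398a418820], [nat_lit 65536, nat_lit 73728, nat_lit 77824, nat_lit 81920, nat_lit 174080, nat_lit 169984, nat_lit 166400, nat_lit 156608, nat_lit 155552, nat_lit 149472, nat_lit 147272, nat_lit 142124, nat_lit 135252, nat_lit 134029, nat_lit 2048, nat_lit 10240, nat_lit 14336, nat_lit 18432, nat_lit 327680]⟩),
  (⟨[], [nat_lit 65536, nat_lit 69632, nat_lit 73728, nat_lit 77824, nat_lit 81920]⟩, ⟨[nat_lit 0xc0ac9fbdab49ca307b9ac5a928398a418820], [nat_lit 65536, nat_lit 69632, nat_lit 73728, nat_lit 77824, nat_lit 81920, nat_lit 174080, nat_lit 169984, nat_lit 166400, nat_lit 160768, nat_lit 157952, nat_lit 153664, nat_lit 151184, nat_lit 146296, nat_lit 139520, nat_lit 135252, nat_lit 134317, nat_lit 2048, nat_lit 6144, nat_lit 10240, nat_lit 14336, nat_lit 18432, nat_lit 327680]⟩),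
  (⟨[], [nat_lit 69632, nat_lit 86016]⟩, ⟨[nat_lit 0xd8ee82bdab49ca307b9ac5a928398a418820], [nat_lit 69632, nat_lit 86016, nat_lit 175104, nat_lit 171520, nat_lit 166144, nat_lit 163456, nat_lit 159424, nat_lit 153568, nat_lit 149808, nat_lit 145720, nat_lit 141628, nat_lit 139230, nat_lit 134883, nat_lit 6144, nat_lit 22528, nat_lit 327680]⟩),
  (⟨[], [nat_lit 65536, nat_lit 69632, nat_lit 73728, nat_lit 86016]⟩, ⟨[nat_lit 0xb8b887bdab49ca307b9ac5a928398a418820], [nat_lit 65536, nat_lit 69632, nat_lit 73728, nat_lit 86016, nat_lit 169984, nat_lit 166912, nat_lit 159168, nat_lit 152864, nat_lit 147968, nat_lit 146104, nat_lit 141940, nat_lit 137942, nat_lit 134571, nat_lit 2048, nat_lit 6144, nat_lit 10240, nat_lit 22528, nat_lit 327680]⟩),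
  (⟨[], [nat_lit 65536, nat_lit 69632, nat_lit 77824, nat_lit 86016]⟩, ⟨[nat_lit 0x78728bbdab49ca307b9ac5a928398a418820], [nat_lit 65536, nat_lit 69632, nat_lit 77824, nat_lit 86016, nat_lit 174080, nat_lit 166400, nat_lit 162688, nat_lit 155776, nat_lit 152352, nat_lit 147616, nat_lit 146616, nat_lit 142452, nat_lit 138442, nat_lit 133991, nat_lit 2048, nat_lit 6144, nat_lit 14336, nat_lit 22528, nat_lit 327680]⟩),
  (⟨[], [nat_lit 65536, nat_lit 73728, nat_lit 77824, nat_lit 86016]⟩, ⟨[nat_lit 0xd81e8dbdab49ca307b9ac5a928398a418820], [nat_lit 65536, nat_lit 73728, nat_lit 77824, nat_lit 86016, nat_lit 174080, nat_lit 171008, nat_lit 165888, nat_lit 153536, nat_lit 151472, nat_lit 147080, nat_lit 142940, nat_lit 138978, nat_lit 134927, nat_lit 2048, nat_lit 10240, nat_lit 14336, nat_lit 22528, nat_lit 327680]⟩),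
  (⟨[], [nat_lit 65536, nat_lit 69632, nat_lit 81920, nat_lit 86016]⟩, ⟨[nat_lit 0xf09693bdab49ca307b9ac5a928398a418820], [nat_lit 65536, nat_lit 69632, nat_lit 81920, nat_lit 86016, nat_lit 175104, nat_lit 168960, nat_lit 166912, nat_lit 161024, nat_lit 157696, nat_lit 153184, nat_lit 150640, nat_lit 143472, nat_lit 140304, nat_lit 137622, nat_lit 134051, nat_lit 2048, nat_lit 6144, nat_lit 18432, nat_lit 22528, nat_lit 327680]⟩),
  (⟨[], [nat_lit 73728, nat_lit 81920, nat_lit 86016]⟩, ⟨[nat_lit 0xb8de14bdab49ca307b9ac5a928398a418820], [nat_lit 73728, nat_lit 81920, nat_lit 86016, nat_lit 175104, nat_lit 168448, nat_lit 166144, nat_lit 161536, nat_lit 156096, nat_lit 154464, nat_lit 151088, nat_lit 145344, nat_lit 142708, nat_lit 138398, nat_lit 133066, nat_lit 10240, nat_lit 18432, nat_lit 22528, nat_lit 327680]⟩),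
  (⟨[], [nat_lit 65536, nat_lit 73728, nat_lit 81920, nat_lit 86016]⟩, ⟨[nat_lit 0x50fa95bdab49ca307b9ac5a928398a418820], [nat_lit 65536, nat_lit 73728, nat_lit 81920, nat_lit 86016, nat_lit 169984, nat_lit 165632, nat_lit 163456, nat_lit 157824, nat_lit 154272, nat_lit 150384, nat_lit 145992, nat_lit 142908, nat_lit 136124, nat_lit 133066, nat_lit 2048, nat_lit 10240, nat_lit 18432, nat_lit 22528, nat_lit 327680]⟩),
  (⟨[], [nat_lit 65536, nat_lit 69632, nat_lit 73728, nat_lit 81920, nat_lit 86016]⟩, ⟨[nat_lit 0x78e417bdab49ca307b9ac5a928398a418820], [nat_lit 65536, nat_lit 69632, nat_lit 73728, nat_lit 81920, nat_lit 86016, nat_lit 168448, nat_lit 167424, nat_lit 160256, nat_lit 158208, nat_lit 152928, nat_lit 147968, nat_lit 145008, nat_lit 140304, nat_lit 136124, nat_lit 133355, nat_lit 2048, nat_lit 6144, nat_lit 10240, nat_lit 18432, nat_lit 22528, nat_lit 327680]⟩),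
  (⟨[], [nat_lit 65536, nat_lit 69632, nat_lit 77824, nat_lit 81920, nat_lit 86016]⟩, ⟨[nat_lit 0xb82e1bbdab49ca307b9ac5a928398a418820], [nat_lit 65536, nat_lit 69632, nat_lit 77824, nat_lit 81920, nat_lit 86016, nat_lit 174080, nat_lit 165888, nat_lit 160000, nat_lit 157504, nat_lit 154432, nat_lit 147616, nat_lit 143472, nat_lit 139792, nat_lit 138658, nat_lit 134695, nat_lit 2048, nat_lit 6144, nat_lit 14336, nat_lit 18432, nat_lit 22528, nat_lit 327680]⟩),
  (⟨[], [nat_lit 73728, nat_lit 77824, nat_lit 81920, nat_lit 86016]⟩, ⟨[nat_lit 0xf0669cbdab49ca307b9ac5a928398a418820], [nat_lit 73728, nat_lit 77824, nat_lit 81920, nat_lit 86016, nat_lit 173056, nat_lit 171008, nat_lit 164864, nat_lit 162688, nat_lit 159360, nat_lit 155232, nat_lit 150256, nat_lit 145344, nat_lit 142196, nat_lit 135336, nat_lit 133711, nat_lit 10240, nat_lit 14336, nat_lit 18432, nat_lit 22528, nat_lit 327680]⟩),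
  (⟨[], [nat_lit 69632, nat_lit 73728, nat_lit 77824, nat_lit 81920, nat_lit 86016]⟩, ⟨[nat_lit 0xd8781ebdab49ca307b9ac5a928398a418820], [nat_lit 69632, nat_lit 73728, nat_lit 77824, nat_lit 81920, nat_lit 86016, nat_lit 173056, nat_lit 171008, nat_lit 164864, nat_lit 161536, nat_lit 158720, nat_lit 151968, nat_lit 150416, nat_lit 146424, nat_lit 141660, nat_lit 135336, nat_lit 132462, nat_lit 6144, nat_lit 10240, nat_lit 14336, nat_lit 18432, nat_lit 22528, nat_lit 327680]⟩),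
  (⟨[], [nat_lit 65536, nat_lit 69632, nat_lit 73728, nat_lit 77824, nat_lit 81920, nat_lit 86016]⟩, ⟨[nat_lit 0x305c9fbdab49ca307b9ac5a928398a418820], [nat_lit 65536, nat_lit 69632, nat_lit 73728, nat_lit 77824, nat_lit 81920, nat_lit 86016, nat_lit 174080, nat_lit 171008, nat_lit 166400, nat_lit 161280, nat_lit 156992, nat_lit 153664, nat_lit 151248, nat_lit 145008, nat_lit 139792, nat_lit 139146, nat_lit 132462, nat_lit 2048, nat_lit 6144, nat_lit 10240, nat_lit 14336, nat_lit 18432, nat_lit 22528, nat_lit 327680]⟩),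
  (⟨[], [nat_lit 90112, nat_lit 94208, nat_lit 98304]⟩, ⟨[nat_lit 0xc93fa0bdab49ca307b9ac5a928398a418820], [nat_lit 90112, nat_lit 94208, nat_lit 98304, nat_lit 168960, nat_lit 166144, nat_lit 162176, nat_lit 158144, nat_lit 153088, nat_lit 151472, nat_lit 147304, nat_lit 143284, nat_lit 138978, nat_lit 134883, nat_lit 26624, nat_lit 30720, nat_lit 34816, nat_lit 327680]⟩),
  (⟨[], [nat_lit 90112, nat_lit 94208, nat_lit 98304, nat_lit 102400]⟩, ⟨[nat_lit 0xa3f3a0bdab49ca307b9ac5a928398a418820], [nat_lit 90112, nat_lit 94208, nat_lit 98304, nat_lit 102400, nat_lit 175104, nat_lit 168960, nat_lit 167168, nat_lit 162176, nat_lit 158144, nat_lit 154272, nat_lit 149088, nat_lit 144160, nat_lit 141900, nat_lit 136836, nat_lit 133092, nat_lit 26624, nat_lit 30720, nat_lit 34816, nat_lit 38912, nat_lit 327680]⟩),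
  (⟨[], [nat_lit 90112, nat_lit 94208, nat_lit 98304, nat_lit 106496]⟩, ⟨[nat_lit 0x69f960bdab49ca307b9ac5a928398a418820], [nat_lit 90112, nat_lit 94208, nat_lit 98304, nat_lit 106496, nat_lit 171520, nat_lit 166656, nat_lit 162176, nat_lit 158144, nat_lit 154720, nat_lit 149472, nat_lit 146584, nat_lit 140584, nat_lit 136776, nat_lit 133112, nat_lit 26624, nat_lit 30720, nat_lit 34816, nat_lit 43008, nat_lit 327680]⟩),
  (⟨[], [nat_lit 98304, nat_lit 102400, nat_lit 106496]⟩, ⟨[nat_lit 0xcaf5c0bdab49ca307b9ac5a928398a418820], [nat_lit 98304, nat_lit 102400, nat_lit 106496, nat_lit 175104, nat_lit 171520, nat_lit 167680, nat_lit 155776, nat_lit 155360, nat_lit 150480, nat_lit 146392, nat_lit 142788, nat_lit 135420, nat_lit 134883, nat_lit 34816, nat_lit 38912, nat_lit 43008, nat_lit 327680]⟩),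
  (⟨[], [nat_lit 90112, nat_lit 98304, nat_lit 102400, nat_lit 106496]⟩, ⟨[nat_lit 0x635fc0bdab49ca307b9ac5a928398a418820], [nat_lit 90112, nat_lit 98304, nat_lit 102400, nat_lit 106496, nat_lit 175104, nat_lit 171520, nat_lit 167680, nat_lit 162176, nat_lit 155776, nat_lit 152256, nat_lit 150640, nat_lit 144576, nat_lit 141264, nat_lit 137806, nat_lit 133078, nat_lit 26624, nat_lit 34816, nat_lit 38912, nat_lit 43008, nat_lit 327680]⟩),
  (⟨[], [nat_lit 94208, nat_lit 98304, nat_lit 102400, nat_lit 106496]⟩, ⟨[nat_lit 0xaa9f60bdab49ca307b9ac5a928398a418820], [nat_lit 94208, nat_lit 98304, nat_lit 102400, nat_lit 106496, nat_lit 175104, nat_lit 171520, nat_lit 167680, nat_lit 158144, nat_lit 152768, nat_lit 147840, nat_lit 145344, nat_lit 139968, nat_lit 138398, nat_lit 133066, nat_lit 30720, nat_lit 34816, nat_lit 38912, nat_lit 43008, nat_lit 327680]⟩)]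

def thV : List (List TW) := [[], [],
  [⟨[], [], ⟨[nat_lit 0x9240fb104188dca69eacb990b81674], [nat_lit 164352, nat_lit 160512, nat_lit 156032, nat_lit 151936, nat_lit 149536, nat_lit 144880, nat_lit 140432, nat_lit 136676, nat_lit 622, nat_lit 5112, nat_lit 8768, nat_lit 14112, nat_lit 16416, nat_lit 20544, nat_lit 25728, nat_lit 29952, nat_lit 41456, nat_lit 36916, nat_lit 33926, nat_lit 28784, nat_lit 24586, nat_lit 20504, nat_lit 16386, nat_lit 12320, nat_lit 8450, nat_lit 4113, nat_lit 2]⟩⟩, ⟨[nat_lit 1], [], ⟨[nat_lit 0x3cd200dde3a3568232c55185274615], [nat_lit 175104, nat_lit 164864, nat_lit 160896, nat_lit 158272, nat_lit 153632, nat_lit 149648, nat_lit 145392, nat_lit 143084, nat_lit 134912, nat_lit 1698, nat_lit 4756, nat_lit 9648, nat_lit 12800, nat_lit 17824, nat_lit 21696, nat_lit 25088, nat_lit 41539, nat_lit 37355, nat_lit 33320, nat_lit 28948, nat_lit 24587, nat_lit 21007, nat_lit 16516, nat_lit 12356, nat_lit 8200, nat_lit 4097, nat_lit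 2]⟩⟩],
  [⟨[], [], ⟨[nat_lit 0xbda017a4d4416ad010f11324e58e6a], [nat_lit 175104, nat_lit 168448, nat_lit 167168, nat_lit 163328, nat_lit 159360, nat_lit 152928, nat_lit 147824, nat_lit 145224, nat_lit 142356, nat_lit 138356, nat_lit 132924, nat_lit 724, nat_lit 4240, nat_lit 9560, nat_lit 13264, nat_lit 16640, nat_lit 20864, nat_lit 25344, nat_lit 28928, nat_lit 33792, nat_lit 37888, nat_lit 41896, nat_lit 38262, nat_lit 33910, nat_lit 28766, nat_lit 24638, nat_lit 20562, nat_lit 16460, nat_lit 12320, nat_lit 8194, nat_lit 4101]⟩⟩, ⟨[nat_lit 1], [], ⟨[nat_lit 0xbd9b009515991861824f4c5ca11e8b], [nat_lit 168448, nat_lit 164096, nat_lit 162432, nat_lit 156928, nat_lit 153472, nat_lit 147984, nat_lit 145344, nat_lit 139864, nat_lit 136228, nat_lit 131844, nat_lit 1860, nat_lit 5112, nat_lit 8224, nat_lit 13216, nat_lit 16864, nat_lit 20544, nat_lit 24704, nat_lit 30208, nat_lit 33792, nat_lit 41088, nat_lit 37248, nat_lit 33352, nat_lit 28724, nat_lit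 24639, nat_lit 20575, nat_lit 16448, nat_lit 12307, nat_lit 8203, nat_lit 4101, nat_lit 4]⟩⟩],
  [⟨[], [], ⟨[nat_lit 0xb8488b2cc21d4ea9426f01689635d1], [nat_lit 171008, nat_lit 165888, nat_lit 162816, nat_lit 159104, nat_lit 153024, nat_lit 150880, nat_lit 146848, nat_lit 139776, nat_lit 138072, nat_lit 1004, nat_lit 5228, nat_lit 9648, nat_lit 13552, nat_lit 18240, nat_lit 21440, nat_lit 25216, nat_lit 28928, nat_lit 34304, nat_lit 37888, nat_lit 41350, nat_lit 36870, nat_lit 34008, nat_lit 29792, nat_lit 24724, nat_lit 20564, nat_lit 16396, nat_lit 12304, nat_lit 8195, nat_lit 4]⟩⟩, ⟨[nat_lit 1], [], ⟨[nat_lit 0xbcdc54ac0a40443930946c4d57c2c7], [nat_lit 173056, nat_lit 171520, nat_lit 167424, nat_lit 162432, nat_lit 158592, nat_lit 151840, nat_lit 150736, nat_lit 145904, nat_lit 138618, nat_lit 131178, nat_lit 1860, nat_lit 5668, nat_lit 9656, nat_lit 14112, nat_lit 16864, nat_lit 20608, nat_lit 26496, nat_lit 29440, nat_lit 34304, nat_lit 41670,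 nat_lit 38333, nat_lit 32870, nat_lit 28742, nat_lit 24597, nat_lit 20736, nat_lit 16448, nat_lit 12294, nat_lit 8194, nat_lit 4097]⟩⟩],
  [⟨[], [], ⟨[nat_lit 0x14ecc439e489e0a901b448c265d4b7], [nat_lit 175104, nat_lit 169984, nat_lit 165888, nat_lit 162432, nat_lit 157056, nat_lit 154944, nat_lit 150368, nat_lit 144880, nat_lit 142840, nat_lit 136034, nat_lit 132226, nat_lit 960, nat_lit 5536, nat_lit 10032, nat_lit 14064, nat_lit 16704, nat_lit 20864, nat_lit 24960, nat_lit 29696, nat_lit 37888, nat_lit 41660, nat_lit 38240, nat_lit 32804, nat_lit 28710, nat_lit 24596, nat_lit 20636, nat_lit 16430, nat_lit 12294, nat_lit 8195, nat_lit 4101]⟩⟩, ⟨[nat_lit 1], [], ⟨[nat_lit 0x5448b2ded8c9341b0f37103035caa], [nat_lit 173056, nat_lit 170496, nat_lit 166656, nat_lit 162688, nat_lit 158080, nat_lit 153056, nat_lit 150432, nat_lit 145720, nat_lit 140956, nat_lit 137396, nat_lit 132563, nat_lit 1224, nat_lit 4952, nat_lit 8248, nat_lit 12560, nat_lit 17952,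 nat_lit 21696, nat_lit 26112, nat_lit 29696, nat_lit 33792, nat_lit 41074, nat_lit 37082, nat_lit 32933, nat_lit 28744, nat_lit 24711, nat_lit 20743, nat_lit 16904, nat_lit 12357, nat_lit 8195]⟩⟩],
  [⟨[], [], ⟨[nat_lit 0x42b4094d114d4b3dde89386c236c9], [nat_lit 173056, nat_lit 164864, nat_lit 161920, nat_lit 157440, nat_lit 152736, nat_lit 147504, nat_lit 145312, nat_lit 140200, nat_lit 136244, nat_lit 132272, nat_lit 1918, nat_lit 5444, nat_lit 9040, nat_lit 13408, nat_lit 16512, nat_lit 20608, nat_lit 26240, nat_lit 29184, nat_lit 33280, nat_lit 37888, nat_lit 41572, nat_lit 36992, nat_lit 32896, nat_lit 28776, nat_lit 24744, nat_lit 16394, nat_lit 12306, nat_lit 8195, nat_lit 4097, nat_lit 2]⟩⟩, ⟨[nat_lit 1], [], ⟨[nat_lit 0x506b471e1649844634085c6432be77], [nat_lit 175104, nat_lit 169472, nat_lit 165120, nat_lit 162048, nat_lit 156928, nat_lit 151808, nat_lit 151328, nat_lit 145768, nat_lit 142780, nat_lit 139154, nat_lit 133734, nat_lit 796,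 nat_lit 5688, nat_lit 9928, nat_lit 12592, nat_lit 16800, nat_lit 20608, nat_lit 26496, nat_lit 37888, nat_lit 41611, nat_lit 37195, nat_lit 32907, nat_lit 28683, nat_lit 24630, nat_lit 20491, nat_lit 16387, nat_lit 12291, nat_lit 8257, nat_lit 4101, nat_lit 4]⟩⟩],
  [⟨[], [], ⟨[nat_lit 0x729f29a0a60d584bd17002471136c7], [nat_lit 168960, nat_lit 165888, nat_lit 160000, nat_lit 157504, nat_lit 151936, nat_lit 148736, nat_lit 144832, nat_lit 139444, nat_lit 135674, nat_lit 131142, nat_lit 1438, nat_lit 5668, nat_lit 9040, nat_lit 13136, nat_lit 16704, nat_lit 21440, nat_lit 25600, nat_lit 29184, nat_lit 33792, nat_lit 37888, nat_lit 41250, nat_lit 37248, nat_lit 32832, nat_lit 29208, nat_lit 24832, nat_lit 21506, nat_lit 16520, nat_lit 12420, nat_lit 8195, nat_lit 4097]⟩⟩, ⟨[nat_lit 1], [], ⟨[nat_lit 0x585ca9d088adc4d4d8d20422c28de7], [nat_lit 169472, nat_lit 164096, nat_lit 160256, nat_lit 156032, nat_lit 155488, nat_lit 148800, nat_lit 143552, nat_lit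 139616, nat_lit 136192, nat_lit 131872, nat_lit 1214, nat_lit 5716, nat_lit 9120, nat_lit 14304, nat_lit 16512, nat_lit 22208, nat_lit 26496, nat_lit 29184, nat_lit 41120, nat_lit 37360, nat_lit 32864, nat_lit 29200, nat_lit 24608, nat_lit 20557, nat_lit 16906, nat_lit 12306, nat_lit 8225, nat_lit 4112]⟩⟩],
  [⟨[], [], ⟨[nat_lit 0x40250b057469ab339069b962e53c4c], [nat_lit 165376, nat_lit 160512, nat_lit 156672, nat_lit 152896, nat_lit 148832, nat_lit 143952, nat_lit 139976, nat_lit 138212, nat_lit 1580, nat_lit 4100, nat_lit 10088, nat_lit 12656, nat_lit 18336, nat_lit 20928, nat_lit 25472, nat_lit 28928, nat_lit 33792, nat_lit 41854, nat_lit 38038, nat_lit 33364, nat_lit 28798, nat_lit 24736, nat_lit 20510, nat_lit 16386, nat_lit 12323, nat_lit 8194, nat_lit 8]⟩⟩, ⟨[nat_lit 1], [], ⟨[nat_lit 0x3cdb0654b4111e088d175b8ca48656], [nat_lit 175104, nat_lit 171520, nat_lit 164864, nat_lit 161920, nat_lit 159296, nat_lit 155040, nat_lit 149488, nat_lit 139476,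 nat_lit 139106, nat_lit 133939, nat_lit 696, nat_lit 5208, nat_lit 9664, nat_lit 13392, nat_lit 16864, nat_lit 20544, nat_lit 29184, nat_lit 33792, nat_lit 41367, nat_lit 36995, nat_lit 33897, nat_lit 29053, nat_lit 24611, nat_lit 20544, nat_lit 12293, nat_lit 8200, nat_lit 4097, nat_lit 2]⟩⟩],
  [⟨[], [], ⟨[nat_lit 0x69aec114349c096a9d0b88d2f049ca], [nat_lit 173056, nat_lit 168448, nat_lit 164352, nat_lit 161792, nat_lit 151680, nat_lit 147696, nat_lit 143392, nat_lit 139340, nat_lit 135236, nat_lit 132628, nat_lit 1938, nat_lit 4132, nat_lit 10160, nat_lit 14176, nat_lit 18016, nat_lit 25984, nat_lit 33280, nat_lit 37888, nat_lit 41576, nat_lit 38046, nat_lit 32942, nat_lit 28770, nat_lit 24706, nat_lit 20570, nat_lit 16418, nat_lit 12311, nat_lit 8203, nat_lit 4105]⟩⟩, ⟨[nat_lit 1], [], ⟨[nat_lit 0xab170788ee206f4400a955a4d34e23], [nat_lit 173056, nat_lit 169472, nat_lit 164608, nat_lit 161536, nat_lit 157504, nat_lit 153184, nat_lit 148576, nat_lit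 144896, nat_lit 142908, nat_lit 135402, nat_lit 131970, nat_lit 582, nat_lit 4520, nat_lit 8200, nat_lit 13312, nat_lit 16800, nat_lit 21504, nat_lit 25088, nat_lit 29184, nat_lit 34304, nat_lit 37888, nat_lit 41203, nat_lit 37237, nat_lit 33311, nat_lit 29823, nat_lit 24890, nat_lit 20742, nat_lit 16463, nat_lit 12292, nat_lit 8193, nat_lit 4113, nat_lit 4]⟩⟩],
  [⟨[], [], ⟨[nat_lit 0x4d8e530df20326415d418a214ab9ab], [nat_lit 173056, nat_lit 168448, nat_lit 164352, nat_lit 157568, nat_lit 152640, nat_lit 147856, nat_lit 147440, nat_lit 139524, nat_lit 135492, nat_lit 132628, nat_lit 566, nat_lit 5072, nat_lit 10168, nat_lit 13120, nat_lit 17376, nat_lit 20608, nat_lit 25344, nat_lit 29440, nat_lit 33280, nat_lit 37888, nat_lit 41800, nat_lit 38056, nat_lit 33018, nat_lit 29042, nat_lit 24584, nat_lit 20754, nat_lit 16642, nat_lit 12309, nat_lit 4097, nat_lit 2]⟩⟩, ⟨[nat_lit 1], [], ⟨[nat_lit 0x558646c0e58882e026e6ace8c92d0f], [nat_lit 164608, nat_lit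 160384, nat_lit 158656, nat_lit 153216, nat_lit 143680, nat_lit 141144, nat_lit 136560, nat_lit 132112, nat_lit 1014, nat_lit 4824, nat_lit 8928, nat_lit 14176, nat_lit 16640, nat_lit 20736, nat_lit 24704, nat_lit 28928, nat_lit 33792, nat_lit 41625, nat_lit 38224, nat_lit 32960, nat_lit 28768, nat_lit 20624, nat_lit 16422, nat_lit 12801, nat_lit 8208, nat_lit 4100, nat_lit 512]⟩⟩],
  [⟨[], [], ⟨[nat_lit 0x68e4bb04a29c28462011a99cf526e7], [nat_lit 173056, nat_lit 168960, nat_lit 164864, nat_lit 161280, nat_lit 156096, nat_lit 153216, nat_lit 148752, nat_lit 143880, nat_lit 141028, nat_lit 138096, nat_lit 132188, nat_lit 1180, nat_lit 4328, nat_lit 9664, nat_lit 13888, nat_lit 16896, nat_lit 21696, nat_lit 24832, nat_lit 30464, nat_lit 41834, nat_lit 38272, nat_lit 32874, nat_lit 28766, nat_lit 24752, nat_lit 20566, nat_lit 16426, nat_lit 12293, nat_lit 4097]⟩⟩, ⟨[nat_lit 1], [], ⟨[nat_lit 0xcced7d50e216eba0c4a01a2cb4249], [nat_lit 174080, nat_lit 170496,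 nat_lit 164096, nat_lit 161792, nat_lit 159296, nat_lit 153696, nat_lit 149216, nat_lit 144304, nat_lit 141200, nat_lit 139088, nat_lit 133744, nat_lit 804, nat_lit 5572, nat_lit 8664, nat_lit 13488, nat_lit 17952, nat_lit 21632, nat_lit 29952, nat_lit 33280, nat_lit 40963, nat_lit 37123, nat_lit 33491, nat_lit 29011, nat_lit 24639, nat_lit 20549, nat_lit 16419, nat_lit 12311, nat_lit 8201, nat_lit 4097]⟩⟩],
  [⟨[], [], ⟨[nat_lit 0xb5e8e596219a8c26b2af1920801d32], [nat_lit 173056, nat_lit 169472, nat_lit 165120, nat_lit 162944, nat_lit 157120, nat_lit 152704, nat_lit 147696, nat_lit 144752, nat_lit 139772, nat_lit 136130, nat_lit 133078, nat_lit 1182, nat_lit 5444, nat_lit 10160, nat_lit 12624, nat_lit 17376, nat_lit 21440, nat_lit 24832, nat_lit 28928, nat_lit 34304, nat_lit 41904, nat_lit 37936, nat_lit 33496, nat_lit 28736, nat_lit 24726, nat_lit 21524, nat_lit 16454, nat_lit 12291, nat_lit 8225, nat_lit 4]⟩⟩, ⟨[nat_lit 1], [], ⟨[nat_lit 0xb5d35782254516a9b824136463b203],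 [nat_lit 173056, nat_lit 165376, nat_lit 160384, nat_lit 156224, nat_lit 153152, nat_lit 147664, nat_lit 144032, nat_lit 140448, nat_lit 136202, nat_lit 134777, nat_lit 8, nat_lit 4476, nat_lit 10192, nat_lit 12768, nat_lit 17408, nat_lit 20864, nat_lit 24704, nat_lit 34304, nat_lit 41308, nat_lit 37097, nat_lit 33957, nat_lit 28777, nat_lit 24617, nat_lit 20494, nat_lit 16640, nat_lit 12307, nat_lit 8225, nat_lit 4100]⟩⟩],
  [⟨[], [], ⟨[nat_lit 0x7d18e924c26d6f6245630960851e60], [nat_lit 174080, nat_lit 166656, nat_lit 163584, nat_lit 158016, nat_lit 153504, nat_lit 147728, nat_lit 144416, nat_lit 141376, nat_lit 137312, nat_lit 131440, nat_lit 1478, nat_lit 4684, nat_lit 9096, nat_lit 12368, nat_lit 18112, nat_lit 21824, nat_lit 25856, nat_lit 29440, nat_lit 37888, nat_lit 41626, nat_lit 38272, nat_lit 33432, nat_lit 29016, nat_lit 24732, nat_lit 20502, nat_lit 16394, nat_lit 12309, nat_lit 8200, nat_lit 4097]⟩⟩, ⟨[nat_lit 1], [], ⟨[nat_lit 0x6b1d60cd45bd1f548e44144cb440e0],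 [nat_lit 173056, nat_lit 169984, nat_lit 164864, nat_lit 158976, nat_lit 153280, nat_lit 148208, nat_lit 146200, nat_lit 142804, nat_lit 137508, nat_lit 134676, nat_lit 64, nat_lit 5276, nat_lit 9984, nat_lit 13296, nat_lit 18112, nat_lit 20672, nat_lit 24704, nat_lit 29696, nat_lit 34304, nat_lit 41683, nat_lit 37356, nat_lit 33391, nat_lit 28755, nat_lit 24595, nat_lit 21014, nat_lit 16389, nat_lit 12321, nat_lit 8210, nat_lit 4101, nat_lit 4]⟩⟩],
  [⟨[], [], ⟨[nat_lit 0xb29eb1a24481d209d62e698b760a81], [nat_lit 166400, nat_lit 160000, nat_lit 152064, nat_lit 148992, nat_lit 144304, nat_lit 140024, nat_lit 137088, nat_lit 1142, nat_lit 4380, nat_lit 8448, nat_lit 12336, nat_lit 16416, nat_lit 21440, nat_lit 25216, nat_lit 28928, nat_lit 34304, nat_lit 37888, nat_lit 41728, nat_lit 37120, nat_lit 33428, nat_lit 24624, nat_lit 20566, nat_lit 16463, nat_lit 12309, nat_lit 4104, nat_lit 16]⟩⟩, ⟨[nat_lit 1], [], ⟨[nat_lit 0x25d415c52faa0e3a59b2718b09880c],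 [nat_lit 170496, nat_lit 157376, nat_lit 152064, nat_lit 145152, nat_lit 141100, nat_lit 135814, nat_lit 132166, nat_lit 318, nat_lit 4924, nat_lit 8704, nat_lit 12864, nat_lit 17184, nat_lit 21824, nat_lit 25088, nat_lit 29184, nat_lit 33792, nat_lit 41472, nat_lit 37274, nat_lit 33434, nat_lit 24616, nat_lit 20566, nat_lit 16430, nat_lit 12327, nat_lit 4097, nat_lit 2]⟩⟩],
  [⟨[], [], ⟨[nat_lit 0x5a5546c02545eb69986f8b84761240], [nat_lit 164864, nat_lit 159616, nat_lit 152576, nat_lit 147952, nat_lit 143592, nat_lit 141084, nat_lit 137208, nat_lit 131100, nat_lit 64, nat_lit 4412, nat_lit 8208, nat_lit 14176, nat_lit 17888, nat_lit 20544, nat_lit 24704, nat_lit 29952, nat_lit 33792, nat_lit 37888, nat_lit 41636, nat_lit 36878, nat_lit 32968, nat_lit 28988, nat_lit 16519, nat_lit 12546, nat_lit 8320, nat_lit 4104]⟩⟩, ⟨[nat_lit 1], [], ⟨[nat_lit 0x731b4584f241a63bd6cf22a0249620], [nat_lit 173056, nat_lit 168448, nat_lit 164608, nat_lit 160000, nat_lit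 155840, nat_lit 152896, nat_lit 149312, nat_lit 145168, nat_lit 140776, nat_lit 137546, nat_lit 131592, nat_lit 2, nat_lit 4608, nat_lit 10048, nat_lit 14304, nat_lit 17248, nat_lit 20992, nat_lit 34304, nat_lit 41075, nat_lit 37215, nat_lit 33493, nat_lit 29000, nat_lit 24704, nat_lit 20482, nat_lit 16905, nat_lit 12550, nat_lit 8202]⟩⟩],
  [⟨[], [], ⟨[nat_lit 0x3dd529c42e200af132b4341164ada3], [nat_lit 171520, nat_lit 157248, nat_lit 153408, nat_lit 148336, nat_lit 144768, nat_lit 139512, nat_lit 136222, nat_lit 131666, nat_lit 484, nat_lit 5072, nat_lit 9752, nat_lit 12800, nat_lit 18048, nat_lit 21376, nat_lit 25856, nat_lit 29184, nat_lit 33280, nat_lit 41280, nat_lit 36946, nat_lit 32928, nat_lit 28960, nat_lit 25150, nat_lit 20556, nat_lit 16903, nat_lit 12294, nat_lit 8200, nat_lit 4101, nat_lit 2]⟩⟩, ⟨[nat_lit 1], [], ⟨[nat_lit 0xb11289d2466402a15465b9daf02e2e], [nat_lit 169472, nat_lit 165120, nat_lit 160384, nat_lit 156032, nat_lit 153632,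 nat_lit 149440, nat_lit 145072, nat_lit 140688, nat_lit 136868, nat_lit 131314, nat_lit 1972, nat_lit 4568, nat_lit 9648, nat_lit 13664, nat_lit 16672, nat_lit 20736, nat_lit 26496, nat_lit 29184, nat_lit 33280, nat_lit 41843, nat_lit 37152, nat_lit 32928, nat_lit 28953, nat_lit 25619, nat_lit 16513, nat_lit 12309, nat_lit 8203, nat_lit 4100, nat_lit 8]⟩⟩],
  [⟨[], [], ⟨[nat_lit 0x131f0344815d4ee4d9a50224a1d277], [nat_lit 171520, nat_lit 165376, nat_lit 161408, nat_lit 156544, nat_lit 151680, nat_lit 147952, nat_lit 145016, nat_lit 139728, nat_lit 137048, nat_lit 131736, nat_lit 1652, nat_lit 5688, nat_lit 10104, nat_lit 12800, nat_lit 17408, nat_lit 20544, nat_lit 25088, nat_lit 37888, nat_lit 41728, nat_lit 36880, nat_lit 33920, nat_lit 28928, nat_lit 24634, nat_lit 20570, nat_lit 16461, nat_lit 8211, nat_lit 4097]⟩⟩, ⟨[nat_lit 1], [], ⟨[nat_lit 0x29c209654ab136791666cd111de07], [nat_lit 173056, nat_lit 161792, nat_lit 157376, nat_lit 152736, nat_lit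 148512, nat_lit 144112, nat_lit 139880, nat_lit 136896, nat_lit 131552, nat_lit 1054, nat_lit 4136, nat_lit 8256, nat_lit 12416, nat_lit 17472, nat_lit 20544, nat_lit 24704, nat_lit 28928, nat_lit 33792, nat_lit 41873, nat_lit 37905, nat_lit 32896, nat_lit 24608, nat_lit 20548, nat_lit 17409, nat_lit 8227, nat_lit 4101]⟩⟩],
  [⟨[], [], ⟨[nat_lit 0xa5e0f98d825c94e01ea8498362b624], [nat_lit 168448, nat_lit 164864, nat_lit 160512, nat_lit 156352, nat_lit 153472, nat_lit 149232, nat_lit 145856, nat_lit 140112, nat_lit 136658, nat_lit 131666, nat_lit 508, nat_lit 4608, nat_lit 9040, nat_lit 12416, nat_lit 16512, nat_lit 22336, nat_lit 25344, nat_lit 29184, nat_lit 33280, nat_lit 41608, nat_lit 38318, nat_lit 32904, nat_lit 28682, nat_lit 24604, nat_lit 16397, nat_lit 8208, nat_lit 4224, nat_lit 4]⟩⟩, ⟨[nat_lit 1], [], ⟨[nat_lit 0xb11379b835a30517b4e851860940ab], [nat_lit 175104, nat_lit 169984, nat_lit 166912, nat_lit 161792, nat_lit 157568, nat_lit 154752,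 nat_lit 151120, nat_lit 144064, nat_lit 141348, nat_lit 136130, nat_lit 131996, nat_lit 986, nat_lit 4952, nat_lit 10224, nat_lit 13616, nat_lit 17824, nat_lit 21824, nat_lit 41028, nat_lit 37230, nat_lit 32836, nat_lit 28764, nat_lit 24589, nat_lit 21005, nat_lit 16523, nat_lit 12353, nat_lit 4113, nat_lit 16]⟩⟩],
  [⟨[], [], ⟨[nat_lit 0xbaec37b84965246506703a0a08b495], [nat_lit 174080, nat_lit 171008, nat_lit 166400, nat_lit 162816, nat_lit 156608, nat_lit 155168, nat_lit 150832, nat_lit 145400, nat_lit 141488, nat_lit 136722, nat_lit 131194, nat_lit 342, nat_lit 4264, nat_lit 10144, nat_lit 13392, nat_lit 16896, nat_lit 20928, nat_lit 25728, nat_lit 29184, nat_lit 34304, nat_lit 41236, nat_lit 37104, nat_lit 33984, nat_lit 28692, nat_lit 24862, nat_lit 21020, nat_lit 16395, nat_lit 12311, nat_lit 8195, nat_lit 4101]⟩⟩, ⟨[nat_lit 1], [], ⟨[nat_lit 0xbd40e4b4689c84fb2e063b0a1a4544], [nat_lit 169472, nat_lit 166912, nat_lit 162432, nat_lit 158528,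 nat_lit 154368, nat_lit 148032, nat_lit 147360, nat_lit 141336, nat_lit 137070, nat_lit 133687, nat_lit 508, nat_lit 5884, nat_lit 9464, nat_lit 13152, nat_lit 16896, nat_lit 20992, nat_lit 29184, nat_lit 33792, nat_lit 37888, nat_lit 41939, nat_lit 37241, nat_lit 33384, nat_lit 28689, nat_lit 25128, nat_lit 20509, nat_lit 16391, nat_lit 12324, nat_lit 8210]⟩⟩],
  [⟨[], [], ⟨[nat_lit 0x7cee8940812b1a0751313ac4a1d6c6], [nat_lit 165376, nat_lit 160640, nat_lit 159488, nat_lit 151872, nat_lit 147696, nat_lit 143992, nat_lit 136690, nat_lit 131226, nat_lit 1720, nat_lit 5208, nat_lit 9216, nat_lit 12352, nat_lit 17824, nat_lit 20608, nat_lit 24832, nat_lit 29440, nat_lit 33280, nat_lit 41922, nat_lit 38322, nat_lit 32832, nat_lit 29702, nat_lit 24634, nat_lit 20570, nat_lit 16387, nat_lit 8323, nat_lit 4100, nat_lit 2]⟩⟩, ⟨[nat_lit 1], [], ⟨[nat_lit 0xa844ab4d12badae31134381f11960c], [nat_lit 169984, nat_lit 164352, nat_lit 158016, nat_lit 152576, nat_lit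 148736, nat_lit 146016, nat_lit 142608, nat_lit 138550, nat_lit 133690, nat_lit 880, nat_lit 4476, nat_lit 9624, nat_lit 12352, nat_lit 16736, nat_lit 22400, nat_lit 34304, nat_lit 37888, nat_lit 41554, nat_lit 37187, nat_lit 32995, nat_lit 28779, nat_lit 24579, nat_lit 20623, nat_lit 17409, nat_lit 12291, nat_lit 8227, nat_lit 4097]⟩⟩],
  [⟨[], [], ⟨[nat_lit 0x6a20fb89c6915678802923075a4eca], [nat_lit 165632, nat_lit 160768, nat_lit 156800, nat_lit 153216, nat_lit 148592, nat_lit 144200, nat_lit 142556, nat_lit 137026, nat_lit 131358, nat_lit 1814, nat_lit 5544, nat_lit 9560, nat_lit 13680, nat_lit 16864, nat_lit 22464, nat_lit 25472, nat_lit 33280, nat_lit 37888, nat_lit 41650, nat_lit 37328, nat_lit 32826, nat_lit 28788, nat_lit 24620, nat_lit 20568, nat_lit 16385, nat_lit 12292, nat_lit 8193, nat_lit 4097]⟩⟩, ⟨[nat_lit 1], [], ⟨[nat_lit 0x9848313d75a46e668116641c72c92a], [nat_lit 174080, nat_lit 170496, nat_lit 167424, nat_lit 161664, nat_lit 159616,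 nat_lit 154112, nat_lit 148784, nat_lit 146184, nat_lit 141248, nat_lit 136378, nat_lit 131667, nat_lit 122, nat_lit 4780, nat_lit 9440, nat_lit 14304, nat_lit 16736, nat_lit 22336, nat_lit 25856, nat_lit 34304, nat_lit 37888, nat_lit 41928, nat_lit 38134, nat_lit 33433, nat_lit 28796, nat_lit 24749, nat_lit 16460, nat_lit 8209]⟩⟩],
  [⟨[], [], ⟨[nat_lit 0x538ab6ca249dc093568c78467b0910], [nat_lit 164096, nat_lit 160000, nat_lit 155904, nat_lit 152512, nat_lit 147920, nat_lit 144696, nat_lit 140104, nat_lit 135678, nat_lit 131354, nat_lit 760, nat_lit 5988, nat_lit 13552, nat_lit 16640, nat_lit 21888, nat_lit 24832, nat_lit 29184, nat_lit 34304, nat_lit 41958, nat_lit 32810, nat_lit 29726, nat_lit 24744, nat_lit 20630, nat_lit 16451, nat_lit 12327, nat_lit 4113, nat_lit 8]⟩⟩, ⟨[nat_lit 1], [], ⟨[nat_lit 0x70d497ca203da68a5d8122eb0288cd], [nat_lit 173056, nat_lit 168960, nat_lit 164864, nat_lit 161280, nat_lit 157248, nat_lit 152896, nat_lit 147584,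 nat_lit 144448, nat_lit 139808, nat_lit 137066, nat_lit 132294, nat_lit 492, nat_lit 4548, nat_lit 12640, nat_lit 17184, nat_lit 21376, nat_lit 24832, nat_lit 29696, nat_lit 33792, nat_lit 41310, nat_lit 33944, nat_lit 29037, nat_lit 24843, nat_lit 20617, nat_lit 17422, nat_lit 12357, nat_lit 4128]⟩⟩],
  [⟨[], [], ⟨[nat_lit 0x1cea68c18b5002e916823a48dba1f6], [nat_lit 168448, nat_lit 165632, nat_lit 159872, nat_lit 158272, nat_lit 153376, nat_lit 148416, nat_lit 145080, nat_lit 139812, nat_lit 137090, nat_lit 132078, nat_lit 760, nat_lit 5296, nat_lit 10120, nat_lit 13712, nat_lit 17376, nat_lit 22464, nat_lit 24832, nat_lit 34304, nat_lit 37888, nat_lit 41966, nat_lit 38056, nat_lit 32892, nat_lit 29726, nat_lit 24602, nat_lit 20624, nat_lit 16455, nat_lit 12304, nat_lit 8201, nat_lit 4160]⟩⟩, ⟨[nat_lit 1], [], ⟨[nat_lit 0x182a9b2e720b09183cc23d145ba1ae], [nat_lit 173056, nat_lit 170496, nat_lit 167168, nat_lit 163712, nat_lit 157696, nat_lit 152256,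 nat_lit 149824, nat_lit 147224, nat_lit 140584, nat_lit 138244, nat_lit 131674, nat_lit 1624, nat_lit 5228, nat_lit 9904, nat_lit 13712, nat_lit 17568, nat_lit 22400, nat_lit 25088, nat_lit 28928, nat_lit 33280, nat_lit 41382, nat_lit 37229, nat_lit 32786, nat_lit 28721, nat_lit 25131, nat_lit 20621, nat_lit 16426, nat_lit 12291, nat_lit 8194, nat_lit 4097, nat_lit 2]⟩⟩],
  [⟨[], [], ⟨[nat_lit 0x91870a3d11a903658145689879ddc9], [nat_lit 175104, nat_lit 171008, nat_lit 165888, nat_lit 160128, nat_lit 158208, nat_lit 155232, nat_lit 148048, nat_lit 146360, nat_lit 139820, nat_lit 135512, nat_lit 132284, nat_lit 434, nat_lit 4720, nat_lit 8408, nat_lit 13376, nat_lit 18112, nat_lit 21312, nat_lit 25088, nat_lit 30464, nat_lit 33792, nat_lit 37888, nat_lit 41524, nat_lit 37224, nat_lit 33000, nat_lit 29014, nat_lit 24616, nat_lit 20488, nat_lit 16397, nat_lit 12293, nat_lit 8195, nat_lit 4101, nat_lit 4]⟩⟩, ⟨[nat_lit 1], [], ⟨[nat_lit 0x131f31de14904e55a4112590ea99aa],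 [nat_lit 174080, nat_lit 165120, nat_lit 160384, nat_lit 158592, nat_lit 153632, nat_lit 151488, nat_lit 144696, nat_lit 142936, nat_lit 137166, nat_lit 134111, nat_lit 786, nat_lit 5884, nat_lit 9136, nat_lit 13408, nat_lit 16864, nat_lit 22144, nat_lit 26240, nat_lit 30464, nat_lit 33280, nat_lit 37888, nat_lit 41468, nat_lit 37339, nat_lit 33472, nat_lit 29248, nat_lit 25120, nat_lit 20557, nat_lit 16399, nat_lit 12290, nat_lit 8208, nat_lit 4101, nat_lit 4]⟩⟩],
  [⟨[], [], ⟨[nat_lit 0x82cf1b49c3008c89868f6248d556e5], [nat_lit 173056, nat_lit 169472, nat_lit 164096, nat_lit 160512, nat_lit 157632, nat_lit 153280, nat_lit 149248, nat_lit 144968, nat_lit 140824, nat_lit 135666, nat_lit 132938, nat_lit 1268, nat_lit 4756, nat_lit 10032, nat_lit 13408, nat_lit 16736, nat_lit 22080, nat_lit 25088, nat_lit 30464, nat_lit 33280, nat_lit 37888, nat_lit 41586, nat_lit 38390, nat_lit 32776, nat_lit 29236, nat_lit 25626, nat_lit 20552, nat_lit 16393, nat_lit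 12306, nat_lit 8707, nat_lit 4100, nat_lit 2]⟩⟩, ⟨[nat_lit 1], [], ⟨[nat_lit 0xcc495ca9744487b0cccab4058394f], [nat_lit 173056, nat_lit 169472, nat_lit 164608, nat_lit 160256, nat_lit 155776, nat_lit 152192, nat_lit 149488, nat_lit 145104, nat_lit 140204, nat_lit 135488, nat_lit 132186, nat_lit 122, nat_lit 4780, nat_lit 10160, nat_lit 14112, nat_lit 17152, nat_lit 22208, nat_lit 29440, nat_lit 33280, nat_lit 37888, nat_lit 41243, nat_lit 37344, nat_lit 32914, nat_lit 28711, nat_lit 24611, nat_lit 20553, nat_lit 16642, nat_lit 12322, nat_lit 4129, nat_lit 2]⟩⟩],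
  [⟨[], [], ⟨[nat_lit 0x9dd564be4c055a78046b33a8229228], [nat_lit 175104, nat_lit 171008, nat_lit 166144, nat_lit 160256, nat_lit 159040, nat_lit 154720, nat_lit 147840, nat_lit 146584, nat_lit 141168, nat_lit 135328, nat_lit 132456, nat_lit 952, nat_lit 4924, nat_lit 8208, nat_lit 14304, nat_lit 16512, nat_lit 20736, nat_lit 25344, nat_lit 28928, nat_lit 33280, nat_lit 41516, nat_lit 37256, nat_lit 33022, nat_lit 28712, nat_lit 24884, nat_lit 20609, nat_lit 16396, nat_lit 8208, nat_lit 4160, nat_lit 32]⟩⟩, ⟨[nat_lit 1], [], ⟨[nat_lit 0xb51c5bc42b919b04566061c624914f], [nat_lit 173056, nat_lit 171520, nat_lit 164352, nat_lit 161280, nat_lit 156288, nat_lit 149456, nat_lit 143960, nat_lit 141248, nat_lit 136566, nat_lit 132552, nat_lit 122, nat_lit 4780, nat_lit 8208, nat_lit 13664, nat_lit 16896, nat_lit 20928, nat_lit 25088, nat_lit 30208, nat_lit 34304, nat_lit 37888, nat_lit 41781, nat_lit 38123, nat_lit 33305, nat_lit 28712, nat_lit 24865, nat_lit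 20550, nat_lit 16388, nat_lit 12290, nat_lit 8208, nat_lit 4105, nat_lit 2]⟩⟩],
  [⟨[], [], ⟨[nat_lit 0x6104aac568b803349de3b1a457428d], [nat_lit 171520, nat_lit 164608, nat_lit 156544, nat_lit 153408, nat_lit 148832, nat_lit 143992, nat_lit 140360, nat_lit 136192, nat_lit 131848, nat_lit 1004, nat_lit 5340, nat_lit 10224, nat_lit 12352, nat_lit 16480, nat_lit 20992, nat_lit 24832, nat_lit 33280, nat_lit 41472, nat_lit 37014, nat_lit 32840, nat_lit 29206, nat_lit 24840, nat_lit 20483, nat_lit 16902, nat_lit 12548, nat_lit 8200, nat_lit 4129]⟩⟩, ⟨[nat_lit 1], [], ⟨[nat_lit 0x79e616164248c178d17051896455ae], [nat_lit 173056, nat_lit 165632, nat_lit 162560, nat_lit 156800, nat_lit 152832, nat_lit 148608, nat_lit 143680, nat_lit 139464, nat_lit 135800, nat_lit 132290, nat_lit 1624, nat_lit 5900, nat_lit 10032, nat_lit 12592, nat_lit 17344, nat_lit 21952, nat_lit 25216, nat_lit 28928, nat_lit 33280, nat_lit 41856, nat_lit 37248, nat_lit 33472, nat_lit 28752,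 nat_lit 24740, nat_lit 20570, nat_lit 16453, nat_lit 12326, nat_lit 8195, nat_lit 4100, nat_lit 2]⟩⟩],
  [⟨[], [], ⟨[nat_lit 0x8866d4524555490b0aef48dcb61807], [nat_lit 173056, nat_lit 164352, nat_lit 159872, nat_lit 157120, nat_lit 154016, nat_lit 148816, nat_lit 143368, nat_lit 141220, nat_lit 136234, nat_lit 132350, nat_lit 1214, nat_lit 5276, nat_lit 9024, nat_lit 14112, nat_lit 16608, nat_lit 21760, nat_lit 24704, nat_lit 29696, nat_lit 41736, nat_lit 37928, nat_lit 33000, nat_lit 29020, nat_lit 24840, nat_lit 20559, nat_lit 16514, nat_lit 12325, nat_lit 8210, nat_lit 4097]⟩⟩, ⟨[nat_lit 1], [], ⟨[nat_lit 0x4add2ac6ec4168323cf300a0d32ac1], [nat_lit 173056, nat_lit 170496, nat_lit 165120, nat_lit 161536, nat_lit 156032, nat_lit 152544, nat_lit 149200, nat_lit 145192, nat_lit 139520, nat_lit 136976, nat_lit 132580, nat_lit 698, nat_lit 4608, nat_lit 9464, nat_lit 12704, nat_lit 17440, nat_lit 21888, nat_lit 25984, nat_lit 30464, nat_lit 37888, nat_lit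 41852, nat_lit 36887, nat_lit 33873, nat_lit 28736, nat_lit 24582, nat_lit 20749, nat_lit 16904, nat_lit 12311, nat_lit 8210, nat_lit 4097, nat_lit 2]⟩⟩],
  [⟨[], [], ⟨[nat_lit 0x84ed50058f519255a0e4bca3473462], [nat_lit 165120, nat_lit 152192, nat_lit 149280, nat_lit 145240, nat_lit 139684, nat_lit 137572, nat_lit 131340, nat_lit 488, nat_lit 4104, nat_lit 8200, nat_lit 14224, nat_lit 18336, nat_lit 22272, nat_lit 29184, nat_lit 33792, nat_lit 37888, nat_lit 41786, nat_lit 38318, nat_lit 32906, nat_lit 28976, nat_lit 24610, nat_lit 20505, nat_lit 16394, nat_lit 12308, nat_lit 8195, nat_lit 4]⟩⟩, ⟨[nat_lit 1], [], ⟨[nat_lit 0x3d684b18b780c515bdaa4b98808253], [nat_lit 174080, nat_lit 168960, nat_lit 164608, nat_lit 161536, nat_lit 156416, nat_lit 152064, nat_lit 148032, nat_lit 144128, nat_lit 139536, nat_lit 135398, nat_lit 133017, nat_lit 1614, nat_lit 5708, nat_lit 9800, nat_lit 12848, nat_lit 16640, nat_lit 22336, nat_lit 25472, nat_lit 28928, nat_lit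 34304, nat_lit 41036, nat_lit 37248, nat_lit 33429, nat_lit 29234, nat_lit 25603, nat_lit 20610, nat_lit 16416, nat_lit 12353, nat_lit 8201, nat_lit 4101]⟩⟩],
  [⟨[], [], ⟨[nat_lit 0xa90477c9069b945659a180e9158137], [nat_lit 173056, nat_lit 165376, nat_lit 161280, nat_lit 156416, nat_lit 153440, nat_lit 147920, nat_lit 144072, nat_lit 139572, nat_lit 136718, nat_lit 132158, nat_lit 1140, nat_lit 5572, nat_lit 9328, nat_lit 12896, nat_lit 16672, nat_lit 20992, nat_lit 25600, nat_lit 29184, nat_lit 33280, nat_lit 41064, nat_lit 37120, nat_lit 33430, nat_lit 28982, nat_lit 25640, nat_lit 20639, nat_lit 16431, nat_lit 12294, nat_lit 8193]⟩⟩, ⟨[nat_lit 1], [], ⟨[nat_lit 0x2ae57c8879b92b1b431a419635502], [nat_lit 173056, nat_lit 168448, nat_lit 164864, nat_lit 160768, nat_lit 156544, nat_lit 153216, nat_lit 147872, nat_lit 144256, nat_lit 140120, nat_lit 136188, nat_lit 132178, nat_lit 1766, nat_lit 5468, nat_lit 13936, nat_lit 16640, nat_lit 21696, nat_lit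 25600, nat_lit 33280, nat_lit 41024, nat_lit 37136, nat_lit 33296, nat_lit 28706, nat_lit 25609, nat_lit 20610, nat_lit 16899, nat_lit 12353, nat_lit 8193, nat_lit 4113, nat_lit 4]⟩⟩],
  [⟨[], [], ⟨[nat_lit 0x7cd357306552080b1e82904d1836eb], [nat_lit 167168, nat_lit 157120, nat_lit 154336, nat_lit 149888, nat_lit 145632, nat_lit 141424, nat_lit 138456, nat_lit 131424, nat_lit 1966, nat_lit 5016, nat_lit 10104, nat_lit 13712, nat_lit 17440, nat_lit 20672, nat_lit 24704, nat_lit 29696, nat_lit 34304, nat_lit 37888, nat_lit 41668, nat_lit 37174, nat_lit 33492, nat_lit 28750, nat_lit 24590, nat_lit 20761, nat_lit 16421, nat_lit 12294, nat_lit 8193, nat_lit 4105, nat_lit 2]⟩⟩, ⟨[nat_lit 1], [], ⟨[nat_lit 0xae89b1c83bcc5203eae5160d8a0cc], [nat_lit 174080, nat_lit 165632, nat_lit 162560, nat_lit 157184, nat_lit 152640, nat_lit 150272, nat_lit 146552, nat_lit 142020, nat_lit 137326, nat_lit 134683, nat_lit 1440, nat_lit 5436, nat_lit 9544, nat_lit 13040, nat_lit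 17376, nat_lit 20928, nat_lit 24832, nat_lit 28928, nat_lit 37888, nat_lit 41347, nat_lit 36915, nat_lit 33932, nat_lit 29760, nat_lit 24728, nat_lit 21018, nat_lit 16461, nat_lit 12322, nat_lit 8209, nat_lit 4097]⟩⟩],
  [⟨[], [], ⟨[nat_lit 0x996b66c88f401d43c423bad8254126], [nat_lit 168448, nat_lit 164096, nat_lit 160128, nat_lit 157248, nat_lit 152512, nat_lit 148560, nat_lit 145104, nat_lit 140456, nat_lit 135318, nat_lit 132050, nat_lit 786, nat_lit 5572, nat_lit 8256, nat_lit 12320, nat_lit 17536, nat_lit 21504, nat_lit 26368, nat_lit 29440, nat_lit 33280, nat_lit 37888, nat_lit 41726, nat_lit 38254, nat_lit 33464, nat_lit 29258, nat_lit 24584, nat_lit 20743, nat_lit 16526, nat_lit 12326, nat_lit 8208, nat_lit 8]⟩⟩, ⟨[nat_lit 1], [], ⟨[nat_lit 0x3d2acbc9428366530c2f582d14112e], [nat_lit 173056, nat_lit 168448, nat_lit 164864, nat_lit 161664, nat_lit 156416, nat_lit 153312, nat_lit 148000, nat_lit 144344, nat_lit 139860, nat_lit 135750, nat_lit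 131502, nat_lit 1292, nat_lit 5572, nat_lit 8208, nat_lit 13808, nat_lit 16896, nat_lit 22144, nat_lit 25600, nat_lit 28928, nat_lit 37888, nat_lit 41581, nat_lit 38342, nat_lit 32920, nat_lit 28989, nat_lit 25657, nat_lit 20623, nat_lit 16452, nat_lit 12322, nat_lit 8256, nat_lit 128]⟩⟩],
  [⟨[], [], ⟨[nat_lit 0x2b42a4ae1491ea6b4d8e13c88bc460], [nat_lit 173056, nat_lit 169984, nat_lit 167168, nat_lit 162688, nat_lit 158720, nat_lit 152640, nat_lit 151472, nat_lit 145960, nat_lit 140164, nat_lit 137472, nat_lit 132508, nat_lit 986, nat_lit 5072, nat_lit 9848, nat_lit 12800, nat_lit 16640, nat_lit 22208, nat_lit 25728, nat_lit 29952, nat_lit 33792, nat_lit 37888, nat_lit 41122, nat_lit 37322, nat_lit 32838, nat_lit 29264, nat_lit 24618, nat_lit 20553, nat_lit 16512, nat_lit 12293, nat_lit 8203]⟩⟩, ⟨[nat_lit 1], [], ⟨[nat_lit 0x1adb053c51322c995264732e509ea0], [nat_lit 174080, nat_lit 171008, nat_lit 167424, nat_lit 161280, nat_lit 158784, nat_lit 154112,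 nat_lit 148736, nat_lit 146032, nat_lit 139988, nat_lit 135564, nat_lit 131389, nat_lit 1896, nat_lit 5856, nat_lit 8824, nat_lit 12672, nat_lit 16512, nat_lit 22144, nat_lit 25088, nat_lit 30464, nat_lit 33792, nat_lit 41294, nat_lit 37012, nat_lit 33016, nat_lit 28685, nat_lit 24616, nat_lit 20488, nat_lit 16640, nat_lit 12290, nat_lit 8195, nat_lit 4097]⟩⟩],
  [⟨[], [], ⟨[nat_lit 0x9b04d4402b71d3732aaf29223b4814], [nat_lit 168448, nat_lit 164352, nat_lit 159872, nat_lit 159168, nat_lit 153248, nat_lit 147952, nat_lit 145400, nat_lit 139332, nat_lit 135864, nat_lit 131836, nat_lit 32, nat_lit 5112, nat_lit 8648, nat_lit 13008, nat_lit 17024, nat_lit 34304, nat_lit 37888, nat_lit 41680, nat_lit 37226, nat_lit 32888, nat_lit 29712, nat_lit 24610, nat_lit 20551, nat_lit 16392, nat_lit 12289, nat_lit 8225, nat_lit 4161, nat_lit 2]⟩⟩, ⟨[nat_lit 1], [], ⟨[nat_lit 0x60d20b88b243e96829b372ce625621], [nat_lit 173056, nat_lit 168960, nat_lit 161280, nat_lit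 156800, nat_lit 148864, nat_lit 144016, nat_lit 143308, nat_lit 136316, nat_lit 131923, nat_lit 1760, nat_lit 4608, nat_lit 8704, nat_lit 12896, nat_lit 17408, nat_lit 21696, nat_lit 26240, nat_lit 29696, nat_lit 37888, nat_lit 41982, nat_lit 36996, nat_lit 33973, nat_lit 29215, nat_lit 24847, nat_lit 20485, nat_lit 16527, nat_lit 12423, nat_lit 8195, nat_lit 4101, nat_lit 4]⟩⟩],
  [⟨[], [], ⟨[nat_lit 0x8db5716844bd563c00b444c29dd92], [nat_lit 168960, nat_lit 165376, nat_lit 163072, nat_lit 156032, nat_lit 152000, nat_lit 148608, nat_lit 144000, nat_lit 140060, nat_lit 136972, nat_lit 131076, nat_lit 1140, nat_lit 4540, nat_lit 10112, nat_lit 13088, nat_lit 18304, nat_lit 21952, nat_lit 25088, nat_lit 29696, nat_lit 33280, nat_lit 41600, nat_lit 38368, nat_lit 33478, nat_lit 25136, nat_lit 20749, nat_lit 16452, nat_lit 12324, nat_lit 8202, nat_lit 4]⟩⟩, ⟨[nat_lit 1], [], ⟨[nat_lit 0x13291180ca74ea1435e759650b12e9], [nat_lit 169472, nat_lit 165376,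 nat_lit 160128, nat_lit 156160, nat_lit 152288, nat_lit 148064, nat_lit 144784, nat_lit 141140, nat_lit 136058, nat_lit 134468, nat_lit 1478, nat_lit 4512, nat_lit 9328, nat_lit 12976, nat_lit 16448, nat_lit 21632, nat_lit 25088, nat_lit 34304, nat_lit 37888, nat_lit 41687, nat_lit 36951, nat_lit 32830, nat_lit 29696, nat_lit 24626, nat_lit 20549, nat_lit 16391, nat_lit 8195, nat_lit 4101]⟩⟩],
  [⟨[], [], ⟨[nat_lit 0x58497b09068bd49a560c0486e99da5], [nat_lit 169472, nat_lit 165376, nat_lit 160384, nat_lit 156544, nat_lit 153152, nat_lit 147744, nat_lit 143776, nat_lit 142584, nat_lit 136674, nat_lit 131714, nat_lit 364, nat_lit 5488, nat_lit 8320, nat_lit 13120, nat_lit 18336, nat_lit 20800, nat_lit 26368, nat_lit 29696, nat_lit 34304, nat_lit 41092, nat_lit 37252, nat_lit 32778, nat_lit 28748, nat_lit 24712, nat_lit 20509, nat_lit 12322, nat_lit 8195, nat_lit 4100, nat_lit 2]⟩⟩, ⟨[nat_lit 1], [], ⟨[nat_lit 0xa4d4b199e971028bb591140152cac7], [nat_lit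 175104, nat_lit 165632, nat_lit 160512, nat_lit 156416, nat_lit 153024, nat_lit 148256, nat_lit 144352, nat_lit 140760, nat_lit 135732, nat_lit 131265, nat_lit 158, nat_lit 5668, nat_lit 9848, nat_lit 13872, nat_lit 16704, nat_lit 20544, nat_lit 25472, nat_lit 29696, nat_lit 33792, nat_lit 41920, nat_lit 38360, nat_lit 33984, nat_lit 28683, nat_lit 25634, nat_lit 20548, nat_lit 16909, nat_lit 12419, nat_lit 8209, nat_lit 4097]⟩⟩],
  [⟨[], [], ⟨[nat_lit 0x6dec09406f5b121a1a28138859a8f5], [nat_lit 173056, nat_lit 168448, nat_lit 165120, nat_lit 161280, nat_lit 159232, nat_lit 151968, nat_lit 147856, nat_lit 143688, nat_lit 140616, nat_lit 136390, nat_lit 132922, nat_lit 1698, nat_lit 5276, nat_lit 9560, nat_lit 14032, nat_lit 16672, nat_lit 22272, nat_lit 24704, nat_lit 30208, nat_lit 34304, nat_lit 37888, nat_lit 41436, nat_lit 37048, nat_lit 32960, nat_lit 28784, nat_lit 24600, nat_lit 20487, nat_lit 16456, nat_lit 12357, nat_lit 8200, nat_lit 4128]⟩⟩,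 ⟨[nat_lit 1], [], ⟨[nat_lit 0xb540b1cd3281aee789a80a88589d94], [nat_lit 173056, nat_lit 170496, nat_lit 165632, nat_lit 161024, nat_lit 158208, nat_lit 151584, nat_lit 148352, nat_lit 147168, nat_lit 143328, nat_lit 137230, nat_lit 133374, nat_lit 622, nat_lit 4380, nat_lit 9264, nat_lit 14032, nat_lit 18016, nat_lit 20608, nat_lit 26240, nat_lit 41820, nat_lit 37035, nat_lit 32929, nat_lit 28753, nat_lit 24752, nat_lit 20503, nat_lit 16422, nat_lit 12802, nat_lit 8227, nat_lit 4097]⟩⟩],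
  [⟨[], [], ⟨[nat_lit 0x72db72b203044ef9da48a844a35089], [nat_lit 165888, nat_lit 155904, nat_lit 153888, nat_lit 150784, nat_lit 146472, nat_lit 143200, nat_lit 137528, nat_lit 131112, nat_lit 724, nat_lit 4396, nat_lit 8224, nat_lit 12512, nat_lit 17408, nat_lit 21120, nat_lit 26112, nat_lit 30208, nat_lit 33792, nat_lit 41340, nat_lit 36946, nat_lit 32786, nat_lit 28726, nat_lit 24634, nat_lit 20499, nat_lit 16393, nat_lit 12307, nat_lit 8320, nat_lit 16]⟩⟩, ⟨[nat_lit 1], [], ⟨[nat_lit 0xa28e25a5d165eb2b100868e61814cf], [nat_lit 174080, nat_lit 168960, nat_lit 166144, nat_lit 162304, nat_lit 158976, nat_lit 152832, nat_lit 148800, nat_lit 144704, nat_lit 142356, nat_lit 138996, nat_lit 1318, nat_lit 4548, nat_lit 8512, nat_lit 14112, nat_lit 18016, nat_lit 22080, nat_lit 25088, nat_lit 29184, nat_lit 33792, nat_lit 37888, nat_lit 41834, nat_lit 37014, nat_lit 32770, nat_lit 29277, nat_lit 24713, nat_lit 21516, nat_lit 16898, nat_lit 12417, nat_lit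 8210, nat_lit 128]⟩⟩],
  [⟨[], [], ⟨[nat_lit 0x55e27b0e8f02189698820c9d35c0b5], [nat_lit 168960, nat_lit 165376, nat_lit 160768, nat_lit 156928, nat_lit 153088, nat_lit 148208, nat_lit 146384, nat_lit 140804, nat_lit 137012, nat_lit 131092, nat_lit 1770, nat_lit 4952, nat_lit 9440, nat_lit 12416, nat_lit 18112, nat_lit 22400, nat_lit 24704, nat_lit 29952, nat_lit 33280, nat_lit 41864, nat_lit 38048, nat_lit 32876, nat_lit 29716, nat_lit 24608, nat_lit 20573, nat_lit 16416, nat_lit 12290, nat_lit 8209, nat_lit 4104]⟩⟩, ⟨[nat_lit 1], [], ⟨[nat_lit 0xb4c1121aa28156d1dd8ea2829920ef], [nat_lit 174080, nat_lit 168448, nat_lit 165376, nat_lit 160896, nat_lit 155904, nat_lit 152416, nat_lit 148272, nat_lit 144448, nat_lit 141208, nat_lit 135542, nat_lit 132275, nat_lit 1014, nat_lit 4780, nat_lit 8448, nat_lit 14176, nat_lit 18080, nat_lit 20608, nat_lit 25984, nat_lit 28928, nat_lit 37888, nat_lit 41445, nat_lit 36917, nat_lit 34033, nat_lit 29739, nat_lit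 24714, nat_lit 21013, nat_lit 16654, nat_lit 12306, nat_lit 8256, nat_lit 4113, nat_lit 2]⟩⟩],
  [⟨[], [], ⟨[nat_lit 0x7249369510a86f692cef3458a10c14], [nat_lit 173056, nat_lit 168448, nat_lit 165632, nat_lit 163712, nat_lit 156800, nat_lit 152128, nat_lit 147904, nat_lit 145024, nat_lit 139640, nat_lit 135214, nat_lit 132994, nat_lit 32, nat_lit 5904, nat_lit 8200, nat_lit 12416, nat_lit 17728, nat_lit 20608, nat_lit 24704, nat_lit 30464, nat_lit 34304, nat_lit 37888, nat_lit 41856, nat_lit 36992, nat_lit 32872, nat_lit 29222, nat_lit 20503, nat_lit 16420, nat_lit 12292, nat_lit 8200, nat_lit 4112, nat_lit 2]⟩⟩, ⟨[nat_lit 1], [], ⟨[nat_lit 0x6b1e0a2cd045e65512d149e5510dc1], [nat_lit 171520, nat_lit 165888, nat_lit 162688, nat_lit 158464, nat_lit 152128, nat_lit 149840, nat_lit 146008, nat_lit 140648, nat_lit 138750, nat_lit 131112, nat_lit 1760, nat_lit 5228, nat_lit 10168, nat_lit 13408, nat_lit 18336, nat_lit 22144, nat_lit 29184, nat_lit 33792,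 nat_lit 37888, nat_lit 41949, nat_lit 38195, nat_lit 33843, nat_lit 28782, nat_lit 24704, nat_lit 20545, nat_lit 16393, nat_lit 12307, nat_lit 8194, nat_lit 16]⟩⟩],
  [⟨[], [], ⟨[nat_lit 0x3c17349443ad904885f4bc9803354e], [nat_lit 173056, nat_lit 168448, nat_lit 165120, nat_lit 161920, nat_lit 155840, nat_lit 153184, nat_lit 149072, nat_lit 143488, nat_lit 139340, nat_lit 136894, nat_lit 133110, nat_lit 166, nat_lit 5884, nat_lit 10032, nat_lit 12880, nat_lit 17568, nat_lit 21184, nat_lit 25472, nat_lit 29696, nat_lit 33792, nat_lit 37888, nat_lit 41088, nat_lit 37140, nat_lit 32992, nat_lit 28738, nat_lit 24762, nat_lit 20545, nat_lit 16418, nat_lit 12307, nat_lit 8195, nat_lit 4100, nat_lit 2]⟩⟩, ⟨[nat_lit 1], [], ⟨[nat_lit 0x3b9e8a197648045a866db8e4c84544], [nat_lit 175104, nat_lit 169472, nat_lit 165632, nat_lit 160000, nat_lit 157184, nat_lit 152672, nat_lit 148320, nat_lit 143792, nat_lit 139888, nat_lit 136426, nat_lit 133002, nat_lit 1794,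 nat_lit 4396, nat_lit 9872, nat_lit 12352, nat_lit 17408, nat_lit 21824, nat_lit 25984, nat_lit 29952, nat_lit 33280, nat_lit 37888, nat_lit 41160, nat_lit 37158, nat_lit 33381, nat_lit 29768, nat_lit 24836, nat_lit 20998, nat_lit 16386, nat_lit 13312, nat_lit 8259, nat_lit 4113, nat_lit 2]⟩⟩],
  [⟨[], [], ⟨[nat_lit 0x25947ac9312c06d34de162dd702054], [nat_lit 173056, nat_lit 168448, nat_lit 164352, nat_lit 160640, nat_lit 156416, nat_lit 152224, nat_lit 148688, nat_lit 145344, nat_lit 139916, nat_lit 136286, nat_lit 132790, nat_lit 32, nat_lit 5304, nat_lit 9552, nat_lit 13456, nat_lit 17472, nat_lit 21440, nat_lit 24960, nat_lit 29952, nat_lit 33792, nat_lit 41378, nat_lit 37182, nat_lit 33364, nat_lit 29702, nat_lit 24874, nat_lit 20627, nat_lit 16418, nat_lit 12547, nat_lit 8209, nat_lit 4129, nat_lit 8]⟩⟩, ⟨[nat_lit 1], [], ⟨[nat_lit 0x25a6054a0e4958735622a2df768503], [nat_lit 168960, nat_lit 165376, nat_lit 160256, nat_lit 151872, nat_lit 148032,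 nat_lit 144000, nat_lit 140768, nat_lit 136028, nat_lit 132974, nat_lit 484, nat_lit 4352, nat_lit 8416, nat_lit 17792, nat_lit 22080, nat_lit 25216, nat_lit 30464, nat_lit 37888, nat_lit 41690, nat_lit 38170, nat_lit 32932, nat_lit 28940, nat_lit 24596, nat_lit 20621, nat_lit 16385, nat_lit 12289, nat_lit 8227, nat_lit 4100, nat_lit 8]⟩⟩],
  [⟨[], [], ⟨[nat_lit 0x998ad5b132746b783c230128ab2047], [nat_lit 165888, nat_lit 154464, nat_lit 150432, nat_lit 146608, nat_lit 141372, nat_lit 138424, nat_lit 131108, nat_lit 1440, nat_lit 4408, nat_lit 8448, nat_lit 13840, nat_lit 17536, nat_lit 22464, nat_lit 26496, nat_lit 29184, nat_lit 41878, nat_lit 38078, nat_lit 32926, nat_lit 29048, nat_lit 24736, nat_lit 20637, nat_lit 16397, nat_lit 12295, nat_lit 8194]⟩⟩, ⟨[nat_lit 1], [], ⟨[nat_lit 0x60da5bc1cb53e929922205aa640527], [nat_lit 164096, nat_lit 160000, nat_lit 159040, nat_lit 151744, nat_lit 144512, nat_lit 139544, nat_lit 135232, nat_lit 132290, nat_lit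 1246, nat_lit 5508, nat_lit 9664, nat_lit 12944, nat_lit 18016, nat_lit 21952, nat_lit 24832, nat_lit 28928, nat_lit 41827, nat_lit 37943, nat_lit 33488, nat_lit 28781, nat_lit 24590, nat_lit 20621, nat_lit 16900, nat_lit 12358, nat_lit 8194]⟩⟩],
  [⟨[], [], ⟨[nat_lit 0x2002da2c512c990538e9b2073bbea6], [nat_lit 173056, nat_lit 171520, nat_lit 167424, nat_lit 161920, nat_lit 159104, nat_lit 152992, nat_lit 151488, nat_lit 146696, nat_lit 139856, nat_lit 137594, nat_lit 132778, nat_lit 738, nat_lit 6104, nat_lit 9760, nat_lit 13152, nat_lit 18176, nat_lit 20928, nat_lit 25088, nat_lit 30208, nat_lit 37888, nat_lit 41218, nat_lit 37350, nat_lit 33466, nat_lit 28714, nat_lit 24862, nat_lit 20501, nat_lit 16426, nat_lit 12293, nat_lit 8203, nat_lit 4097, nat_lit 2]⟩⟩, ⟨[nat_lit 1], [], ⟨[nat_lit 0x19c3323a0c12a8d92d06481f72c6b6], [nat_lit 174080, nat_lit 171520, nat_lit 167680, nat_lit 162432, nat_lit 156224, nat_lit 154944, nat_lit 149952, nat_lit 144832,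 nat_lit 141892, nat_lit 135748, nat_lit 132407, nat_lit 1292, nat_lit 5208, nat_lit 9648, nat_lit 12784, nat_lit 16448, nat_lit 20672, nat_lit 26112, nat_lit 29184, nat_lit 33280, nat_lit 41801, nat_lit 38157, nat_lit 33869, nat_lit 28764, nat_lit 24718, nat_lit 20495, nat_lit 16463, nat_lit 12305, nat_lit 4097]⟩⟩],
  [⟨[], [], ⟨[nat_lit 0x8144d3b8311828821aab7a5969de4a], [nat_lit 175104, nat_lit 170496, nat_lit 167168, nat_lit 163584, nat_lit 156416, nat_lit 154208, nat_lit 149744, nat_lit 144080, nat_lit 142860, nat_lit 136610, nat_lit 132918, nat_lit 166, nat_lit 5328, nat_lit 10160, nat_lit 13024, nat_lit 17280, nat_lit 21696, nat_lit 25984, nat_lit 41954, nat_lit 37078, nat_lit 32814, nat_lit 29228, nat_lit 24766, nat_lit 20511, nat_lit 16395, nat_lit 12293, nat_lit 8195, nat_lit 4101]⟩⟩, ⟨[nat_lit 1], [], ⟨[nat_lit 0x1112d186173ca85400cc9aacb7d62e], [nat_lit 173056, nat_lit 164608, nat_lit 160384, nat_lit 156800, nat_lit 153184, nat_lit 149264,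 nat_lit 144040, nat_lit 139944, nat_lit 138872, nat_lit 131577, nat_lit 342, nat_lit 4608, nat_lit 9648, nat_lit 13664, nat_lit 18080, nat_lit 21312, nat_lit 26112, nat_lit 29952, nat_lit 34304, nat_lit 41815, nat_lit 38165, nat_lit 32940, nat_lit 28701, nat_lit 24609, nat_lit 20505, nat_lit 16392, nat_lit 12290, nat_lit 8195, nat_lit 4]⟩⟩],
  [⟨[], [], ⟨[nat_lit 0xabd4b00d979bad13d1a49244540606], [nat_lit 164864, nat_lit 159872, nat_lit 157440, nat_lit 151872, nat_lit 145992, nat_lit 139792, nat_lit 136424, nat_lit 131208, nat_lit 116, nat_lit 4160, nat_lit 8256, nat_lit 12544, nat_lit 16896, nat_lit 21120, nat_lit 25600, nat_lit 29696, nat_lit 33280, nat_lit 37888, nat_lit 41166, nat_lit 37302, nat_lit 32792, nat_lit 29306, nat_lit 24709, nat_lit 20996, nat_lit 16426, nat_lit 8322, nat_lit 4100, nat_lit 64]⟩⟩, ⟨[nat_lit 1], [], ⟨[nat_lit 0x836ea79d81b3931a54c35808891453], [nat_lit 174080, nat_lit 168960, nat_lit 164864, nat_lit 163712, nat_lit 152576,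 nat_lit 151024, nat_lit 145576, nat_lit 141492, nat_lit 137630, nat_lit 134961, nat_lit 586, nat_lit 4100, nat_lit 9808, nat_lit 13648, nat_lit 18240, nat_lit 21568, nat_lit 26112, nat_lit 28928, nat_lit 33280, nat_lit 41674, nat_lit 37295, nat_lit 32925, nat_lit 28757, nat_lit 24710, nat_lit 20995, nat_lit 16454, nat_lit 12321, nat_lit 8193, nat_lit 4160, nat_lit 2]⟩⟩],
  [⟨[], [], ⟨[nat_lit 0x80f0349cf25ed19a145a8dab13289], [nat_lit 168960, nat_lit 165376, nat_lit 161024, nat_lit 156416, nat_lit 152000, nat_lit 149216, nat_lit 143520, nat_lit 141208, nat_lit 137004, nat_lit 1066, nat_lit 4380, nat_lit 8224, nat_lit 14144, nat_lit 16736, nat_lit 20544, nat_lit 29184, nat_lit 33792, nat_lit 37888, nat_lit 41800, nat_lit 38396, nat_lit 33992, nat_lit 28731, nat_lit 24616, nat_lit 20552, nat_lit 16525, nat_lit 12356, nat_lit 8202, nat_lit 4100, nat_lit 128]⟩⟩, ⟨[nat_lit 1], [], ⟨[nat_lit 0x734e15c994844a22240aacd0f30ef6], [nat_lit 164864, nat_lit 157184,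 nat_lit 152832, nat_lit 147504, nat_lit 143984, nat_lit 139836, nat_lit 136528, nat_lit 131711, nat_lit 696, nat_lit 5836, nat_lit 9920, nat_lit 13152, nat_lit 17376, nat_lit 21312, nat_lit 25344, nat_lit 29696, nat_lit 37888, nat_lit 41723, nat_lit 38121, nat_lit 32999, nat_lit 29031, nat_lit 24608, nat_lit 20494, nat_lit 16906, nat_lit 12304, nat_lit 8226, nat_lit 4129]⟩⟩],
  [⟨[], [], ⟨[nat_lit 0x4cc23a64aad89163a05bada378688], [nat_lit 174080, nat_lit 168960, nat_lit 166912, nat_lit 162176, nat_lit 157952, nat_lit 153056, nat_lit 148928, nat_lit 144480, nat_lit 141312, nat_lit 139220, nat_lit 131232, nat_lit 1554, nat_lit 5604, nat_lit 9664, nat_lit 14144, nat_lit 16896, nat_lit 21952, nat_lit 25728, nat_lit 29184, nat_lit 33280, nat_lit 41116, nat_lit 37218, nat_lit 32994, nat_lit 28729, nat_lit 24611, nat_lit 20486, nat_lit 16515, nat_lit 12290, nat_lit 64]⟩⟩, ⟨[nat_lit 1], [], ⟨[nat_lit 0x3b9e1b45891a8ab342409d50d25057], [nat_lit 171008, nat_lit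 164352, nat_lit 160512, nat_lit 156160, nat_lit 152832, nat_lit 149184, nat_lit 145088, nat_lit 140520, nat_lit 136090, nat_lit 131625, nat_lit 1652, nat_lit 4100, nat_lit 8224, nat_lit 14208, nat_lit 16896, nat_lit 20992, nat_lit 26496, nat_lit 29184, nat_lit 33280, nat_lit 37888, nat_lit 41619, nat_lit 37050, nat_lit 32981, nat_lit 29013, nat_lit 24578, nat_lit 20486, nat_lit 16393, nat_lit 12305, nat_lit 8226, nat_lit 4128]⟩⟩],
  [⟨[], [], ⟨[nat_lit 0x430628a5d0536d7a9c1333cab0d244], [nat_lit 175104, nat_lit 168960, nat_lit 166144, nat_lit 161920, nat_lit 158400, nat_lit 152896, nat_lit 147536, nat_lit 144864, nat_lit 141516, nat_lit 139142, nat_lit 132566, nat_lit 606, nat_lit 5572, nat_lit 9696, nat_lit 13264, nat_lit 16416, nat_lit 21952, nat_lit 33792, nat_lit 41114, nat_lit 37302, nat_lit 33011, nat_lit 28674, nat_lit 24578, nat_lit 20486, nat_lit 16655, nat_lit 12304, nat_lit 8202, nat_lit 256]⟩⟩, ⟨[nat_lit 1], [], ⟨[nat_lit 0x6356240670345d623e5751ca0ad069],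 [nat_lit 168960, nat_lit 160256, nat_lit 157248, nat_lit 151744, nat_lit 148032, nat_lit 143992, nat_lit 139476, nat_lit 138826, nat_lit 131857, nat_lit 804, nat_lit 4104, nat_lit 9704, nat_lit 12320, nat_lit 16800, nat_lit 21952, nat_lit 24704, nat_lit 29952, nat_lit 33792, nat_lit 41849, nat_lit 38320, nat_lit 33826, nat_lit 28778, nat_lit 24704, nat_lit 20486, nat_lit 16652, nat_lit 12293, nat_lit 8203, nat_lit 8]⟩⟩],
  [⟨[], [], ⟨[nat_lit 0xb32e938e155802d94deaa1222714c8], [nat_lit 173056, nat_lit 168960, nat_lit 165632, nat_lit 160384, nat_lit 156672, nat_lit 153440, nat_lit 147856, nat_lit 147040, nat_lit 140700, nat_lit 136860, nat_lit 132532, nat_lit 2018, nat_lit 4548, nat_lit 10032, nat_lit 12416, nat_lit 18336, nat_lit 21376, nat_lit 26112, nat_lit 29184, nat_lit 33280, nat_lit 41656, nat_lit 38000, nat_lit 32985, nat_lit 28680, nat_lit 24848, nat_lit 21522, nat_lit 16396, nat_lit 12292, nat_lit 8200, nat_lit 4128, nat_lit 64]⟩⟩, ⟨[nat_lit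 1], [], ⟨[nat_lit 0xade0752cb148d967a28098446911ae], [nat_lit 170496, nat_lit 166400, nat_lit 162432, nat_lit 158336, nat_lit 152576, nat_lit 150064, nat_lit 147376, nat_lit 139324, nat_lit 138102, nat_lit 132633, nat_lit 1624, nat_lit 5228, nat_lit 10144, nat_lit 13984, nat_lit 17408, nat_lit 22400, nat_lit 24832, nat_lit 41976, nat_lit 38254, nat_lit 33943, nat_lit 29220, nat_lit 24889, nat_lit 20623, nat_lit 16390, nat_lit 12323, nat_lit 8194, nat_lit 4097, nat_lit 2]⟩⟩],
  [⟨[], [], ⟨[nat_lit 0x402e13320353dd68cd75389b22d124], [nat_lit 166400, nat_lit 160000, nat_lit 154336, nat_lit 149504, nat_lit 147064, nat_lit 141720, nat_lit 139192, nat_lit 131112, nat_lit 508, nat_lit 5604, nat_lit 9664, nat_lit 13392, nat_lit 17472, nat_lit 20608, nat_lit 25600, nat_lit 34304, nat_lit 41806, nat_lit 38276, nat_lit 34031, nat_lit 28763, nat_lit 24713, nat_lit 20492, nat_lit 16456, nat_lit 12290, nat_lit 8226, nat_lit 4100, nat_lit 128]⟩⟩, ⟨[nat_lit 1], [],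 ⟨[nat_lit 0xab10251171734b24bc373cc6081a96], [nat_lit 173056, nat_lit 168960, nat_lit 164864, nat_lit 160768, nat_lit 157376, nat_lit 152096, nat_lit 150400, nat_lit 144480, nat_lit 140440, nat_lit 136304, nat_lit 132006, nat_lit 680, nat_lit 5112, nat_lit 9216, nat_lit 13024, nat_lit 16448, nat_lit 22208, nat_lit 25088, nat_lit 29184, nat_lit 33792, nat_lit 41775, nat_lit 38301, nat_lit 33986, nat_lit 28949, nat_lit 24592, nat_lit 20620, nat_lit 16393, nat_lit 12305, nat_lit 8224, nat_lit 4608]⟩⟩],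
  [⟨[], [], ⟨[nat_lit 0x2354eb22a601d21bcc6f5c64565202], [nat_lit 168960, nat_lit 167168, nat_lit 160768, nat_lit 157440, nat_lit 151776, nat_lit 148832, nat_lit 143536, nat_lit 140040, nat_lit 136704, nat_lit 131360, nat_lit 1766, nat_lit 4476, nat_lit 10128, nat_lit 14112, nat_lit 18176, nat_lit 20736, nat_lit 25600, nat_lit 33792, nat_lit 41728, nat_lit 38037, nat_lit 32840, nat_lit 29205, nat_lit 24840, nat_lit 20484, nat_lit 16901, nat_lit 12546, nat_lit 8224, nat_lit 4104, nat_lit 512]⟩⟩, ⟨[nat_lit 1], [], ⟨[nat_lit 0x5ce22514c1452c33d5b2740974818f], [nat_lit 173056, nat_lit 161792, nat_lit 151872, nat_lit 148544, nat_lit 144448, nat_lit 140140, nat_lit 135312, nat_lit 132166, nat_lit 1896, nat_lit 4540, nat_lit 9328, nat_lit 13552, nat_lit 17152, nat_lit 22464, nat_lit 25856, nat_lit 29440, nat_lit 33280, nat_lit 41664, nat_lit 38208, nat_lit 32896, nat_lit 28688, nat_lit 24638, nat_lit 20500, nat_lit 16397, nat_lit 12290, nat_lit 8208, nat_lit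 4]⟩⟩],
  [⟨[], [], ⟨[nat_lit 0x3cc68726ca1540c836f12bc9430572], [nat_lit 175104, nat_lit 168448, nat_lit 166144, nat_lit 163200, nat_lit 159552, nat_lit 152832, nat_lit 149040, nat_lit 143368, nat_lit 141776, nat_lit 137398, nat_lit 133082, nat_lit 1810, nat_lit 6104, nat_lit 9664, nat_lit 13264, nat_lit 16416, nat_lit 20736, nat_lit 25088, nat_lit 29952, nat_lit 33280, nat_lit 41878, nat_lit 38347, nat_lit 33944, nat_lit 29736, nat_lit 25106, nat_lit 20624, nat_lit 16512, nat_lit 12294, nat_lit 4104, nat_lit 64]⟩⟩, ⟨[nat_lit 1], [], ⟨[nat_lit 0x4c5c4b010b34d4c0c254b8ce5abc4d], [nat_lit 173056, nat_lit 168448, nat_lit 164352, nat_lit 161536, nat_lit 156096, nat_lit 153568, nat_lit 147872, nat_lit 143576, nat_lit 140332, nat_lit 135400, nat_lit 133292, nat_lit 488, nat_lit 5900, nat_lit 10088, nat_lit 14304, nat_lit 16512, nat_lit 20608, nat_lit 25216, nat_lit 29952, nat_lit 33280, nat_lit 41697, nat_lit 38376, nat_lit 32937, nat_lit 28987, nat_lit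 24599, nat_lit 20752, nat_lit 16416, nat_lit 12311, nat_lit 8203, nat_lit 4105, nat_lit 2]⟩⟩],
  [⟨[], [], ⟨[nat_lit 0x145ec6a0f4516ee4cc0bb0eb2810c1], [nat_lit 166144, nat_lit 160000, nat_lit 153440, nat_lit 148176, nat_lit 144760, nat_lit 141036, nat_lit 135534, nat_lit 131390, nat_lit 1760, nat_lit 5436, nat_lit 9512, nat_lit 13184, nat_lit 21504, nat_lit 25600, nat_lit 29440, nat_lit 33792, nat_lit 41352, nat_lit 36931, nat_lit 32846, nat_lit 29727, nat_lit 24878, nat_lit 20546, nat_lit 16519, nat_lit 12550, nat_lit 8323, nat_lit 4128, nat_lit 128]⟩⟩, ⟨[nat_lit 1], [], ⟨[nat_lit 0x69cb0512c3ab27443d72885c235c09], [nat_lit 164864, nat_lit 156608, nat_lit 152768, nat_lit 149952, nat_lit 144384, nat_lit 140288, nat_lit 135188, nat_lit 132442, nat_lit 1478, nat_lit 5588, nat_lit 9328, nat_lit 13312, nat_lit 17440, nat_lit 21568, nat_lit 25600, nat_lit 29440, nat_lit 33792, nat_lit 41622, nat_lit 38157, nat_lit 33515, nat_lit 28724, nat_lit 24632, nat_lit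 20496, nat_lit 16420, nat_lit 12352, nat_lit 8195, nat_lit 4097, nat_lit 2]⟩⟩],
  [⟨[], [], ⟨[nat_lit 0x512d0195a78ae86bd5e29b8120a50c], [nat_lit 173056, nat_lit 165120, nat_lit 162432, nat_lit 156800, nat_lit 152832, nat_lit 148544, nat_lit 143552, nat_lit 141008, nat_lit 135784, nat_lit 132480, nat_lit 1440, nat_lit 5316, nat_lit 9664, nat_lit 13552, nat_lit 17760, nat_lit 21952, nat_lit 24832, nat_lit 28928, nat_lit 33792, nat_lit 41620, nat_lit 38153, nat_lit 33497, nat_lit 28769, nat_lit 24746, nat_lit 20609, nat_lit 16909, nat_lit 12357, nat_lit 8200, nat_lit 4100, nat_lit 64]⟩⟩, ⟨[nat_lit 1], [], ⟨[nat_lit 0x5d54d391f449a2075c41832569a065], [nat_lit 165632, nat_lit 152064, nat_lit 150784, nat_lit 144920, nat_lit 140268, nat_lit 135822, nat_lit 131346, nat_lit 718, nat_lit 4220, nat_lit 8792, nat_lit 12416, nat_lit 16512, nat_lit 20736, nat_lit 26496, nat_lit 33280, nat_lit 41554, nat_lit 37368, nat_lit 32950, nat_lit 28688, nat_lit 25096, nat_lit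 20551, nat_lit 16395, nat_lit 12306, nat_lit 8227, nat_lit 4113, nat_lit 8]⟩⟩],
  [⟨[], [], ⟨[nat_lit 0x8340bb167108cf5222ea61a8f1264e], [nat_lit 169472, nat_lit 164096, nat_lit 163072, nat_lit 156864, nat_lit 152864, nat_lit 148832, nat_lit 144280, nat_lit 140976, nat_lit 136956, nat_lit 131944, nat_lit 166, nat_lit 5572, nat_lit 14176, nat_lit 16736, nat_lit 25728, nat_lit 34304, nat_lit 41088, nat_lit 37129, nat_lit 33500, nat_lit 28704, nat_lit 24853, nat_lit 20638, nat_lit 16422, nat_lit 12308, nat_lit 8202, nat_lit 4100, nat_lit 256]⟩⟩, ⟨[nat_lit 1], [], ⟨[nat_lit 0x4cd8588617202c7a204a69a4b70df5], [nat_lit 168448, nat_lit 165120, nat_lit 161536, nat_lit 156544, nat_lit 152448, nat_lit 149088, nat_lit 144280, nat_lit 140112, nat_lit 138032, nat_lit 131148, nat_lit 1760, nat_lit 5992, nat_lit 10168, nat_lit 13488, nat_lit 17440, nat_lit 22336, nat_lit 25088, nat_lit 34304, nat_lit 41146, nat_lit 37114, nat_lit 32977, nat_lit 28730, nat_lit 24583,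 nat_lit 20506, nat_lit 16418, nat_lit 12310, nat_lit 8200]⟩⟩],
  [⟨[], [], ⟨[nat_lit 0x555125b8076be37b0833216901a4cc], [nat_lit 175104, nat_lit 171520, nat_lit 166656, nat_lit 162944, nat_lit 156224, nat_lit 155488, nat_lit 149824, nat_lit 144744, nat_lit 141492, nat_lit 136424, nat_lit 133100, nat_lit 1440, nat_lit 4548, nat_lit 9136, nat_lit 13312, nat_lit 17568, nat_lit 25600, nat_lit 29952, nat_lit 34304, nat_lit 41860, nat_lit 38177, nat_lit 33963, nat_lit 29185, nat_lit 24607, nat_lit 20608, nat_lit 16459, nat_lit 12292, nat_lit 8194, nat_lit 4100, nat_lit 64]⟩⟩, ⟨[nat_lit 1], [], ⟨[nat_lit 0x62ec5451a4749e09dc55804c71a931], [nat_lit 164352, nat_lit 160128, nat_lit 157504, nat_lit 155104, nat_lit 147936, nat_lit 144416, nat_lit 139560, nat_lit 135710, nat_lit 131157, nat_lit 1298, nat_lit 5604, nat_lit 9096, nat_lit 12320, nat_lit 16896, nat_lit 20608, nat_lit 25344, nat_lit 29696, nat_lit 33792, nat_lit 37888, nat_lit 41454, nat_lit 37147,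 nat_lit 33482, nat_lit 28704, nat_lit 24865, nat_lit 16453, nat_lit 8208, nat_lit 4]⟩⟩],
  [⟨[], [], ⟨[nat_lit 0x4392605150658b7a89733c9b108c8f], [nat_lit 168448, nat_lit 164608, nat_lit 156672, nat_lit 154720, nat_lit 148224, nat_lit 144216, nat_lit 139336, nat_lit 135488, nat_lit 131880, nat_lit 1668, nat_lit 4112, nat_lit 8584, nat_lit 14192, nat_lit 16896, nat_lit 21504, nat_lit 25600, nat_lit 29952, nat_lit 34304, nat_lit 37888, nat_lit 40992, nat_lit 37215, nat_lit 33492, nat_lit 28978, nat_lit 24608, nat_lit 16521, nat_lit 12419, nat_lit 8707, nat_lit 4104, nat_lit 128]⟩⟩, ⟨[nat_lit 1], [], ⟨[nat_lit 0x6397241890058af4c6b73d1a112873], [nat_lit 175104, nat_lit 168960, nat_lit 155968, nat_lit 153088, nat_lit 147504, nat_lit 143440, nat_lit 140108, nat_lit 136260, nat_lit 131701, nat_lit 1614, nat_lit 4104, nat_lit 9560, nat_lit 12624, nat_lit 17728, nat_lit 21376, nat_lit 25600, nat_lit 41888, nat_lit 38128, nat_lit 33443, nat_lit 29000, nat_lit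 20635, nat_lit 16394, nat_lit 12292, nat_lit 8193, nat_lit 4112]⟩⟩],
  [⟨[], [], ⟨[nat_lit 0xeae889656dd09258ef54c26a3250], [nat_lit 168960, nat_lit 165376, nat_lit 161024, nat_lit 156288, nat_lit 152672, nat_lit 148608, nat_lit 143792, nat_lit 142700, nat_lit 136252, nat_lit 131108, nat_lit 526, nat_lit 4412, nat_lit 12560, nat_lit 17312, nat_lit 21504, nat_lit 25856, nat_lit 29696, nat_lit 33280, nat_lit 41797, nat_lit 38055, nat_lit 33342, nat_lit 29046, nat_lit 24856, nat_lit 20634, nat_lit 16420, nat_lit 12422, nat_lit 8194, nat_lit 4100, nat_lit 1024]⟩⟩, ⟨[nat_lit 1], [], ⟨[nat_lit 0x72aa330660451e289d8d4920bb48b7], [nat_lit 168448, nat_lit 164352, nat_lit 160000, nat_lit 156608, nat_lit 152160, nat_lit 147488, nat_lit 145296, nat_lit 139604, nat_lit 137444, nat_lit 131499, nat_lit 1142, nat_lit 4224, nat_lit 9800, nat_lit 13136, nat_lit 17216, nat_lit 20928, nat_lit 33792, nat_lit 41938, nat_lit 38393, nat_lit 33819, nat_lit 28738, nat_lit 24751,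 nat_lit 20567, nat_lit 16418, nat_lit 12309, nat_lit 8203]⟩⟩],
  [⟨[], [], ⟨[nat_lit 0x4990bab8532a8e4b824fb3603a4581], [nat_lit 175104, nat_lit 169984, nat_lit 166400, nat_lit 162048, nat_lit 157248, nat_lit 154656, nat_lit 151392, nat_lit 144856, nat_lit 142020, nat_lit 136402, nat_lit 132206, nat_lit 588, nat_lit 5768, nat_lit 9648, nat_lit 12320, nat_lit 17760, nat_lit 20992, nat_lit 25728, nat_lit 30208, nat_lit 34304, nat_lit 37888, nat_lit 41893, nat_lit 36944, nat_lit 32972, nat_lit 28740, nat_lit 24747, nat_lit 20502, nat_lit 16426, nat_lit 12304, nat_lit 64]⟩⟩, ⟨[nat_lit 1], [], ⟨[nat_lit 0x59e6382445448c1a3af56d9ec2440a], [nat_lit 175104, nat_lit 168960, nat_lit 167168, nat_lit 162304, nat_lit 158528, nat_lit 152864, nat_lit 147984, nat_lit 143896, nat_lit 142824, nat_lit 138964, nat_lit 132717, nat_lit 724, nat_lit 5904, nat_lit 8400, nat_lit 14048, nat_lit 16896, nat_lit 21696, nat_lit 25088, nat_lit 29440, nat_lit 34304, nat_lit 37888,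 nat_lit 41051, nat_lit 37330, nat_lit 32817, nat_lit 28686, nat_lit 25108, nat_lit 20494, nat_lit 16392, nat_lit 12310, nat_lit 8194, nat_lit 4097]⟩⟩],
  [⟨[], [], ⟨[nat_lit 0x4d7043dc3bc8ecb34b1a554209889], [nat_lit 175104, nat_lit 171008, nat_lit 167424, nat_lit 160000, nat_lit 158720, nat_lit 155008, nat_lit 147472, nat_lit 147088, nat_lit 139400, nat_lit 136384, nat_lit 132112, nat_lit 724, nat_lit 4112, nat_lit 9216, nat_lit 14192, nat_lit 17408, nat_lit 21248, nat_lit 25600, nat_lit 29952, nat_lit 33280, nat_lit 37888, nat_lit 41279, nat_lit 37292, nat_lit 33460, nat_lit 28751, nat_lit 24608, nat_lit 20568, nat_lit 16396, nat_lit 12290, nat_lit 8208, nat_lit 4104, nat_lit 128]⟩⟩, ⟨[nat_lit 1], [], ⟨[nat_lit 0x7acc7b39149454ca94136892181077], [nat_lit 174080, nat_lit 170496, nat_lit 167168, nat_lit 162048, nat_lit 156160, nat_lit 153632, nat_lit 150944, nat_lit 143928, nat_lit 142640, nat_lit 136558, nat_lit 131171, nat_lit 960, nat_lit 4104,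 nat_lit 10144, nat_lit 12352, nat_lit 16448, nat_lit 20672, nat_lit 24960, nat_lit 29184, nat_lit 33280, nat_lit 41264, nat_lit 37076, nat_lit 33923, nat_lit 28730, nat_lit 25120, nat_lit 20483, nat_lit 16398, nat_lit 12306, nat_lit 4112]⟩⟩],
  [⟨[], [], ⟨[nat_lit 0x780e59997588d9022af2a59a14092e], [nat_lit 175104, nat_lit 165120, nat_lit 159872, nat_lit 156160, nat_lit 152640, nat_lit 148864, nat_lit 144576, nat_lit 140220, nat_lit 135346, nat_lit 132486, nat_lit 342, nat_lit 4548, nat_lit 9216, nat_lit 13424, nat_lit 18016, nat_lit 21184, nat_lit 24960, nat_lit 28928, nat_lit 41851, nat_lit 38101, nat_lit 33454, nat_lit 29217, nat_lit 24597, nat_lit 21006, nat_lit 16451, nat_lit 12423, nat_lit 64]⟩⟩, ⟨[nat_lit 1], [], ⟨[nat_lit 0x49a079a1ecb80ad8a823aca8b70896], [nat_lit 166912, nat_lit 152448, nat_lit 147632, nat_lit 144432, nat_lit 139640, nat_lit 136534, nat_lit 131094, nat_lit 952, nat_lit 5064, nat_lit 8448, nat_lit 13136, nat_lit 16640, nat_lit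 22144, nat_lit 25856, nat_lit 30464, nat_lit 33280, nat_lit 37888, nat_lit 41728, nat_lit 37304, nat_lit 33504, nat_lit 28704, nat_lit 24630, nat_lit 20511, nat_lit 16386, nat_lit 12323, nat_lit 4112]⟩⟩],
  [⟨[], [], ⟨[nat_lit 0xa9a6f4c831609aab0d17380aba41c4], [nat_lit 165376, nat_lit 161280, nat_lit 156288, nat_lit 152512, nat_lit 148640, nat_lit 143936, nat_lit 140464, nat_lit 136950, nat_lit 131074, nat_lit 1124, nat_lit 5228, nat_lit 10224, nat_lit 14144, nat_lit 16448, nat_lit 25088, nat_lit 33280, nat_lit 37888, nat_lit 41941, nat_lit 38219, nat_lit 33924, nat_lit 24849, nat_lit 20488, nat_lit 16647, nat_lit 12320, nat_lit 8210, nat_lit 4112, nat_lit 256]⟩⟩, ⟨[nat_lit 1], [], ⟨[nat_lit 0x42ee3aca02a05af232693d8a053a26], [nat_lit 168448, nat_lit 164352, nat_lit 161024, nat_lit 156352, nat_lit 151776, nat_lit 147600, nat_lit 143424, nat_lit 141080, nat_lit 135860, nat_lit 132915, nat_lit 786, nat_lit 4368, nat_lit 10160, nat_lit 13312, nat_lit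 17824, nat_lit 22336, nat_lit 25088, nat_lit 33792, nat_lit 41243, nat_lit 36928, nat_lit 33853, nat_lit 25108, nat_lit 20750, nat_lit 16455, nat_lit 12321, nat_lit 4113, nat_lit 8]⟩⟩],
  [⟨[], [], ⟨[nat_lit 0x4950eb30d703c478126daaa2195163], [nat_lit 167424, nat_lit 160640, nat_lit 156928, nat_lit 155072, nat_lit 151200, nat_lit 146560, nat_lit 143040, nat_lit 138212, nat_lit 131200, nat_lit 1148, nat_lit 5112, nat_lit 8928, nat_lit 13296, nat_lit 17728, nat_lit 26112, nat_lit 29696, nat_lit 33792, nat_lit 37888, nat_lit 41745, nat_lit 38199, nat_lit 34022, nat_lit 29009, nat_lit 24872, nat_lit 20498, nat_lit 16430, nat_lit 12306, nat_lit 8194, nat_lit 4100, nat_lit 64]⟩⟩, ⟨[nat_lit 1], [], ⟨[nat_lit 0x84ce248cab7511209af5646ca0348f], [nat_lit 168448, nat_lit 165120, nat_lit 159872, nat_lit 157568, nat_lit 152928, nat_lit 148528, nat_lit 147048, nat_lit 139640, nat_lit 136922, nat_lit 132968, nat_lit 1668, nat_lit 4484, nat_lit 8680, nat_lit 14192,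 nat_lit 16864, nat_lit 20928, nat_lit 25728, nat_lit 30464, nat_lit 37888, nat_lit 41880, nat_lit 36888, nat_lit 32955, nat_lit 28781, nat_lit 24590, nat_lit 20484, nat_lit 16640, nat_lit 12310, nat_lit 8200, nat_lit 4113, nat_lit 4]⟩⟩],
  [⟨[], [], ⟨[nat_lit 0xbaa2123d692b460748f365aa645050], [nat_lit 174080, nat_lit 169984, nat_lit 167424, nat_lit 160256, nat_lit 159616, nat_lit 155488, nat_lit 148048, nat_lit 146864, nat_lit 140784, nat_lit 136076, nat_lit 131120, nat_lit 1698, nat_lit 4100, nat_lit 8224, nat_lit 13920, nat_lit 16768, nat_lit 20736, nat_lit 25728, nat_lit 29952, nat_lit 34304, nat_lit 41559, nat_lit 37142, nat_lit 32933, nat_lit 28745, nat_lit 24586, nat_lit 20494, nat_lit 16910, nat_lit 8226, nat_lit 4128, nat_lit 128]⟩⟩, ⟨[nat_lit 1], [], ⟨[nat_lit 0xb98a242aa092dc78da03491f36868c], [nat_lit 175104, nat_lit 170496, nat_lit 166656, nat_lit 155904, nat_lit 152864, nat_lit 149920, nat_lit 144992, nat_lit 141128, nat_lit 137584, nat_lit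 133345, nat_lit 1580, nat_lit 4380, nat_lit 8504, nat_lit 14064, nat_lit 17216, nat_lit 22464, nat_lit 26240, nat_lit 33792, nat_lit 37888, nat_lit 41139, nat_lit 37360, nat_lit 32923, nat_lit 28960, nat_lit 25094, nat_lit 20495, nat_lit 16450, nat_lit 12325, nat_lit 8193, nat_lit 4097]⟩⟩],
  [⟨[], [], ⟨[nat_lit 0x9dcaf3c2ce12486506b46818888e4b], [nat_lit 173056, nat_lit 169472, nat_lit 165120, nat_lit 160768, nat_lit 159040, nat_lit 152192, nat_lit 149088, nat_lit 144072, nat_lit 139296, nat_lit 136456, nat_lit 132936, nat_lit 354, nat_lit 4412, nat_lit 10168, nat_lit 13664, nat_lit 16672, nat_lit 22336, nat_lit 25088, nat_lit 34304, nat_lit 37888, nat_lit 41703, nat_lit 38328, nat_lit 32800, nat_lit 29733, nat_lit 24620, nat_lit 20548, nat_lit 16911, nat_lit 12320, nat_lit 8256, nat_lit 4224, nat_lit 512]⟩⟩, ⟨[nat_lit 1], [], ⟨[nat_lit 0xb4528b8472a40e502dc49b2ad13d46], [nat_lit 164864, nat_lit 155904, nat_lit 152832, nat_lit 149264, nat_lit 143592,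 nat_lit 139724, nat_lit 138940, nat_lit 131366, nat_lit 786, nat_lit 5120, nat_lit 10088, nat_lit 13152, nat_lit 17792, nat_lit 20800, nat_lit 26496, nat_lit 29696, nat_lit 33792, nat_lit 37888, nat_lit 41044, nat_lit 36906, nat_lit 32914, nat_lit 28961, nat_lit 25622, nat_lit 20625, nat_lit 16389, nat_lit 12294, nat_lit 8200, nat_lit 4097, nat_lit 2]⟩⟩],
  [⟨[], [], ⟨[nat_lit 0x79ee2618165226b4c650ab4a30d1c4], [nat_lit 175104, nat_lit 169472, nat_lit 165120, nat_lit 160640, nat_lit 156736, nat_lit 152704, nat_lit 148816, nat_lit 144424, nat_lit 140676, nat_lit 133084, nat_lit 680, nat_lit 6068, nat_lit 10128, nat_lit 12320, nat_lit 18336, nat_lit 21504, nat_lit 25472, nat_lit 29696, nat_lit 33280, nat_lit 41205, nat_lit 37001, nat_lit 32960, nat_lit 24881, nat_lit 20500, nat_lit 16428, nat_lit 12310, nat_lit 8202, nat_lit 4104, nat_lit 64]⟩⟩, ⟨[nat_lit 1], [], ⟨[nat_lit 0xac0e26a548b84d363d6eb48a025071], [nat_lit 175104, nat_lit 167424, nat_lit 162048,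 nat_lit 158016, nat_lit 152160, nat_lit 149472, nat_lit 142084, nat_lit 138868, nat_lit 132082, nat_lit 512, nat_lit 5580, nat_lit 8224, nat_lit 12304, nat_lit 16896, nat_lit 20992, nat_lit 25472, nat_lit 29184, nat_lit 33792, nat_lit 37888, nat_lit 41498, nat_lit 37237, nat_lit 32910, nat_lit 28698, nat_lit 25135, nat_lit 20510, nat_lit 16395, nat_lit 12290, nat_lit 8224, nat_lit 16]⟩⟩],
  [⟨[], [], ⟨[nat_lit 0x9c8ecb1aae802eb289e1235484d223], [nat_lit 175104, nat_lit 168448, nat_lit 164864, nat_lit 161664, nat_lit 156480, nat_lit 152576, nat_lit 148992, nat_lit 144688, nat_lit 141052, nat_lit 136360, nat_lit 132804, nat_lit 1818, nat_lit 6084, nat_lit 10128, nat_lit 13552, nat_lit 17888, nat_lit 20992, nat_lit 26240, nat_lit 30208, nat_lit 33792, nat_lit 41555, nat_lit 38234, nat_lit 32950, nat_lit 28975, nat_lit 25655, nat_lit 20558, nat_lit 16521, nat_lit 12320, nat_lit 8256, nat_lit 4104, nat_lit 128]⟩⟩, ⟨[nat_lit 1], [], ⟨[nat_lit 0x6ce22bd82f4c0d461464ac9670290e],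 [nat_lit 170496, nat_lit 164864, nat_lit 161920, nat_lit 155904, nat_lit 155168, nat_lit 150320, nat_lit 145832, nat_lit 139288, nat_lit 135946, nat_lit 134560, nat_lit 1292, nat_lit 4892, nat_lit 9904, nat_lit 12976, nat_lit 16416, nat_lit 21312, nat_lit 24704, nat_lit 30464, nat_lit 33792, nat_lit 41221, nat_lit 37115, nat_lit 33013, nat_lit 28755, nat_lit 24750, nat_lit 20556, nat_lit 16427, nat_lit 8194, nat_lit 4101]⟩⟩],
  [⟨[], [], ⟨[nat_lit 0x4bca3441573da46ab26e201ab15031], [nat_lit 169472, nat_lit 165632, nat_lit 161408, nat_lit 158208, nat_lit 151904, nat_lit 148432, nat_lit 143904, nat_lit 141132, nat_lit 137212, nat_lit 132020, nat_lit 1652, nat_lit 4160, nat_lit 8224, nat_lit 13232, nat_lit 17280, nat_lit 20544, nat_lit 25088, nat_lit 28928, nat_lit 33792, nat_lit 37888, nat_lit 41109, nat_lit 37191, nat_lit 33299, nat_lit 29756, nat_lit 24577, nat_lit 20504, nat_lit 16418, nat_lit 12310, nat_lit 8200, nat_lit 64]⟩⟩, ⟨[nat_lit 1], [],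 ⟨[nat_lit 0x839624b412b20aa246f37b2a7a0c26], [nat_lit 173056, nat_lit 166144, nat_lit 163072, nat_lit 159104, nat_lit 153760, nat_lit 148960, nat_lit 147080, nat_lit 143288, nat_lit 136484, nat_lit 133620, nat_lit 1516, nat_lit 5120, nat_lit 8200, nat_lit 12320, nat_lit 16736, nat_lit 21504, nat_lit 24960, nat_lit 33280, nat_lit 37888, nat_lit 41943, nat_lit 38323, nat_lit 32930, nat_lit 28964, nat_lit 25125, nat_lit 20493, nat_lit 16386, nat_lit 12324, nat_lit 8224, nat_lit 4097]⟩⟩],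
  [⟨[], [], ⟨[nat_lit 0x484d17cab313ae02d88d81d435b114], [nat_lit 173056, nat_lit 169472, nat_lit 165376, nat_lit 159872, nat_lit 156480, nat_lit 153120, nat_lit 149024, nat_lit 143912, nat_lit 140516, nat_lit 136592, nat_lit 132844, nat_lit 622, nat_lit 4156, nat_lit 8928, nat_lit 12544, nat_lit 18304, nat_lit 20992, nat_lit 25984, nat_lit 28928, nat_lit 33280, nat_lit 41457, nat_lit 37357, nat_lit 33458, nat_lit 29296, nat_lit 24894, nat_lit 20545, nat_lit 16517, nat_lit 12310, nat_lit 8200, nat_lit 4100, nat_lit 64]⟩⟩, ⟨[nat_lit 1], [], ⟨[nat_lit 0x6aa2084a879b902196e13556923ecc], [nat_lit 173056, nat_lit 168960, nat_lit 165632, nat_lit 161536, nat_lit 155968, nat_lit 151808, nat_lit 148864, nat_lit 144384, nat_lit 140532, nat_lit 135664, nat_lit 131776, nat_lit 902, nat_lit 4412, nat_lit 9608, nat_lit 13536, nat_lit 21888, nat_lit 26112, nat_lit 29440, nat_lit 37888, nat_lit 40973, nat_lit 37024, nat_lit 32822, nat_lit 28686, nat_lit 24633, nat_lit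 20546, nat_lit 16394, nat_lit 12306, nat_lit 8322, nat_lit 4097, nat_lit 2]⟩⟩],
  [⟨[nat_lit 1, nat_lit 12], [], ⟨[], []⟩⟩],
  [⟨[nat_lit 1, nat_lit 13], [], ⟨[], []⟩⟩],
  [⟨[nat_lit 2, nat_lit 22], [], ⟨[], []⟩⟩],
  [⟨[nat_lit 1, nat_lit 73], [], ⟨[], []⟩⟩],
  [⟨[nat_lit 1, nat_lit 24], [], ⟨[], []⟩⟩],
  [⟨[nat_lit 1, nat_lit 25], [], ⟨[], []⟩⟩],
  [⟨[nat_lit 1, nat_lit 28], [], ⟨[], []⟩⟩],
  [⟨[nat_lit 1, nat_lit 31], [], ⟨[], []⟩⟩],
  [⟨[nat_lit 1, nat_lit 34], [], ⟨[], []⟩⟩],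
  [⟨[nat_lit 1, nat_lit 35], [], ⟨[], []⟩⟩],
  [⟨[nat_lit 1, nat_lit 40], [], ⟨[], []⟩⟩],
  [⟨[nat_lit 2, nat_lit 41], [], ⟨[], []⟩⟩],
  [⟨[nat_lit 1, nat_lit 82], [], ⟨[], []⟩⟩],
  [⟨[nat_lit 1, nat_lit 41], [], ⟨[], []⟩⟩],
  [⟨[nat_lit 1, nat_lit 44], [], ⟨[], []⟩⟩],
  [⟨[nat_lit 1, nat_lit 45], [], ⟨[], []⟩⟩],
  [⟨[nat_lit 2, nat_lit 86], [], ⟨[], []⟩⟩],
  [⟨[nat_lit 1, nat_lit 87], [], ⟨[], []⟩⟩],
  [⟨[nat_lit 46, nat_lit 51], [], ⟨[], []⟩⟩],
  [⟨[nat_lit 46, nat_lit 58], [], ⟨[], []⟩⟩],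
  [⟨[nat_lit 46, nat_lit 65], [], ⟨[], []⟩⟩],
  [⟨[nat_lit 48, nat_lit 70], [], ⟨[], []⟩⟩],
  [⟨[nat_lit 46, nat_lit 92], [], ⟨[], []⟩⟩],
  [⟨[nat_lit 46, nat_lit 70], [], ⟨[], []⟩⟩]]

def thT : List (El × El) := (xE, yyE) :: (x0E, yE) :: thT0

theorem thT_check : allFrom (entB thT thV) 2 93 = true := by decide +kernel

theorem thT_len : thT0.length ≤ 93 := by decide +kernel

section
variable {Γ : Type*} [Group Γ] {ρ : Gt →* Γ} {τ : Γ}

theorem good_thT (R : G.Rels0 ρ τ) (k : ℕ) : Good ρ τ (nth (idE, idE) thT k) :=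
  good_tab R thT_check thT_len k

/-- `τ` conjugates the word `twL thT w` to the word `twR thT w` -/
theorem theta_spec (R : G.Rels0 ρ τ) {w : TW} (h : twB w = true) :
    ∃ n n', τ * ρ n = ρ n' * τ ∧ ∀ r, (AllOk r → AllOk (twL thT w r) ∧ AllOk (twR thT w r)) ∧
      prodE (twL thT w r) = n * prodE r ∧ prodE (twR thT w r) = n' * prodE r :=
  tw_spec R (fun k _ => good_thT R k) (fun k _ => good_thT R k) h

theorem theta_nil (R : G.Rels0 ρ τ) {w : TW} (h : twB w = true) :
    AllOk (twL thT w []) ∧ AllOk (twR thT w []) ∧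
      τ * ρ (prodE (twL thT w [])) = ρ (prodE (twR thT w [])) * τ := by
  obtain ⟨n, n', e, H⟩ := theta_spec R h
  exact ⟨((H _).1 .nil).1, ((H _).1 .nil).2, by simpa [(H _).2.1, (H _).2.2] using e⟩

end

end CF.Mon
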