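import Cfsg.Agent.Comp.Pres
import Cfsg.Agent.Comp.Fi24.Rels
import Cfsg.Agent.Mon.Y4D

set_option autoImplicit false
set_option maxRecDepth 1000000
set_option maxHeartbeats 0
set_option Elab.async false

namespace CF.MonY

open CF.Comp

theorem ex_all : Cov ex_F 8 12 0 := by
  have h := Cov.zero ex_F 8
  have h := h.blk (b := 8) ex_k0_0 rfl
  have h := h.next (y := 1) rfl rfl
  have h := h.blk (b := 8) ex_k1_0 rfl
  have h := h.next (y := 2) rfl rfl
  have h := h.blk (b := 8) ex_k2_0 rfl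
  have h := h.next (y := 3) rfl rfl
  have h := h.blk (b := 8) ex_k3_0 rfl
  have h := h.next (y := 4) rfl rfl
  have h := h.blk (b := 8) ex_k4_0 rfl
  have h := h.next (y := 5) rfl rfl
  have h := h.blk (b := 8) ex_k5_0 rfl
  have h := h.next (y := 6) rfl rfl
  have h := h.blk (b := 8) ex_k6_0 rfl
  have h := h.next (y := 7) rfl rfl
  have h := h.blk (b := 8) ex_k7_0 rfl
  have h := h.next (y := 8) rfl rfl
  have h := h.blk (b := 8) ex_k8_0 rfl
  have h := h.next (y := 9) rfl rfl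
  have h := h.blk (b := 8) ex_k9_0 rfl
  have h := h.next (y := 10) rfl rfl
  have h := h.blk (b := 8) ex_k10_0 rfl
  have h := h.next (y := 11) rfl rfl
  have h := h.blk (b := 8) ex_k11_0 rfl
  have h := h.next (y := 12) rfl rfl
  exact h

theorem ex : Enum (lapp Fi24.R2 RX) Fi24.H2 ([17] :: Fi24.H2) 1 :=
  ⟨ex_cols, ex_ch, ex_L, ex_H, ex_pb.1, ex_e.get, [(nat_lit 0), (nat_lit 1), (nat_lit 3), (nat_lit 5), (nat_lit 7), (nat_lit 9), (nat_lit 11), (nat_lit 13), (nat_lit 15), (nat_lit 17), (nat_lit 21), (nat_lit 23)], (nat_lit 3583), (nat_lit 12), ex_rots, ex_hcs,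
    (nat_lit 2), (nat_lit 12), (nat_lit 512), (nat_lit 256), (nat_lit 131072), (nat_lit 32767), (nat_lit 8), (nat_lit 255), (nat_lit 23), (nat_lit 8388607), (nat_lit 2), (nat_lit 8),
    fun _ _ => rfl, fun _ => rfl, fun _ _ => rfl, by decide +kernel, ex_all.1⟩

theorem e31_all : Cov e31_F 8 11 0 := by
  have h := Cov.zero e31_F 8
  have h := h.blk (b := 8) e31_k0_0 rfl
  have h := h.next (y := 1) rfl rfl
  have h := h.blk (b := 8) e31_k1_0 rfl
  have h := h.next (y := 2) rfl rfl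
  have h := h.blk (b := 8) e31_k2_0 rfl
  have h := h.next (y := 3) rfl rfl
  have h := h.blk (b := 8) e31_k3_0 rfl
  have h := h.next (y := 4) rfl rfl
  have h := h.blk (b := 8) e31_k4_0 rfl
  have h := h.next (y := 5) rfl rfl
  have h := h.blk (b := 8) e31_k5_0 rfl
  have h := h.next (y := 6) rfl rfl
  have h := h.blk (b := 8) e31_k6_0 rfl
  have h := h.next (y := 7) rfl rfl
  have h := h.blk (b := 8) e31_k7_0 rfl
  have h := h.next (y := 8) rfl rfl
  have h := h.blk (b := 8) e31_k8_0 rfl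
  have h := h.next (y := 9) rfl rfl
  have h := h.blk (b := 8) e31_k9_0 rfl
  have h := h.next (y := 10) rfl rfl
  have h := h.blk (b := 8) e31_k10_0 rfl
  have h := h.next (y := 11) rfl rfl
  exact h

theorem e31 : Enum R31 Fi24.H3 H31 272 :=
  ⟨e31_cols, e31_ch, e31_L, e31_H, e31_pb.1, e31_e.get, [(nat_lit 0), (nat_lit 1), (nat_lit 3), (nat_lit 5), (nat_lit 7), (nat_lit 9), (nat_lit 11), (nat_lit 13), (nat_lit 15), (nat_lit 17), (nat_lit 21)], (nat_lit 1535), (nat_lit 12), e31_rots, e31_hcs,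
    (nat_lit 273), (nat_lit 11), (nat_lit 512), (nat_lit 256), (nat_lit 131072), (nat_lit 32767), (nat_lit 8), (nat_lit 255), (nat_lit 23), (nat_lit 8388607), (nat_lit 2), (nat_lit 8),
    fun _ _ => rfl, fun _ => rfl, fun _ _ => rfl, by decide +kernel, e31_all.1⟩

theorem e51_all : Cov e51_F 12 13 0 := by
  have h := Cov.zero e51_F 12
  have h := h.blk (b := 12) e51_k0_0 rfl
  have h := h.next (y := 1) rfl rfl
  have h := h.blk (b := 12) e51_k1_0 rfl
  have h := h.next (y := 2) rfl rfl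
  have h := h.blk (b := 12) e51_k2_0 rfl
  have h := h.next (y := 3) rfl rfl
  have h := h.blk (b := 12) e51_k3_0 rfl
  have h := h.next (y := 4) rfl rfl
  have h := h.blk (b := 12) e51_k4_0 rfl
  have h := h.next (y := 5) rfl rfl
  have h := h.blk (b := 12) e51_k5_0 rfl
  have h := h.next (y := 6) rfl rfl
  have h := h.blk (b := 12) e51_k6_0 rfl
  have h := h.next (y := 7) rfl rfl
  have h := h.blk (b := 12) e51_k7_0 rfl
  have h := h.next (y := 8) rfl rfl
  have h := h.blk (b := 12) e51_k8_0 rfl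
  have h := h.next (y := 9) rfl rfl
  have h := h.blk (b := 12) e51_k9_0 rfl
  have h := h.next (y := 10) rfl rfl
  have h := h.blk (b := 12) e51_k10_0 rfl
  have h := h.next (y := 11) rfl rfl
  have h := h.blk (b := 12) e51_k11_0 rfl
  have h := h.next (y := 12) rfl rfl
  have h := h.blk (b := 12) e51_k12_0 rfl
  have h := h.next (y := 13) rfl rfl
  exact h

theorem e51 : Enum R51 H31 H51 528 :=
  ⟨e51_cols, e51_ch, e51_L, e51_H, e51_pb.1, e51_e.get, [(nat_lit 0), (nat_lit 1), (nat_lit 3), (nat_lit 5), (nat_lit 7), (nat_lit 9), (nat_lit 11), (nat_lit 13), (nat_lit 15), (nat_lit 17), (nat_lit 19), (nat_lit 21), (nat_lit 23)], (nat_lit 4095), (nat_lit 12), e51_rots, e51_hcs,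
    (nat_lit 529), (nat_lit 13), (nat_lit 1024), (nat_lit 256), (nat_lit 262144), (nat_lit 65535), (nat_lit 8), (nat_lit 255), (nat_lit 24), (nat_lit 16777215), (nat_lit 3), (nat_lit 12),
    fun _ _ => rfl, fun _ => rfl, fun _ _ => rfl, by decide +kernel, e51_all.1⟩

end CF.MonY
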