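import Cfsg.Agent.Mon.Dc

/-! Elements of `Gt` for the generators of type `Y₅₅₃`. -/

set_option autoImplicit false
set_option maxRecDepth 100000

namespace CF.Mon.Tr

open CF.Comp

noncomputable section

def ytA : El := ⟨[], [nat_lit 262147]⟩
def ytB : El := ⟨[], [nat_lit 262149]⟩
def yd1 : El := ⟨[], [nat_lit 327686]⟩
def yb1 : El := ⟨[nat_lit 0xf0fff0bdab49ca307b9ac5a928398a418820], [nat_lit 169984, nat_lit 156224, nat_lit 145992, nat_lit 141900, nat_lit 137806, nat_lit 133710, nat_lit 18432, nat_lit 22528, nat_lit 30720, nat_lit 34816, nat_lit 43008]⟩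
def ya : El := ⟨[nat_lit 0x6f9aa0bb9317d113100c129c83aae4cb360a, nat_lit 0x244271a0cb281ee19d446202d14392b531ed], [nat_lit 77824, nat_lit 81920, nat_lit 86016, nat_lit 90112, nat_lit 94208, nat_lit 98304, nat_lit 102400, nat_lit 168448, nat_lit 164096, nat_lit 159872, nat_lit 156672, nat_lit 152800, nat_lit 147504, nat_lit 144192, nat_lit 140392, nat_lit 136198, nat_lit 133307, nat_lit 3326, nat_lit 4100, nat_lit 11512, nat_lit 13088, nat_lit 17184, nat_lit 22336, nat_lit 25472, nat_lit 29184, nat_lit 34304, nat_lit 39936, nat_lit 47033, nat_lit 41915, nat_lit 37235, nat_lit 32992, nat_lit 28936, nat_lit 24743, nat_lit 20631, nat_lit 16392, nat_lit 12295, nat_lit 8195, nat_lit 4100, nat_lit 2, nat_lit 417797, nat_lit 405504, nat_lit 151616, nat_lit 131112, nat_lit 40961, nat_lit 36969, nat_lit 32800, nat_lit 28680, nat_lit 16392, nat_lit 8193, nat_lit 4097]⟩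
def yb2 : El := ⟨[nat_lit 0x88e41871115bbcab61e8914001b35468ca63, nat_lit 0x8d4248912ad00c4a9d8af8999471e170ad09], [nat_lit 65536, nat_lit 69632, nat_lit 73728, nat_lit 77824, nat_lit 81920, nat_lit 102400, nat_lit 106496, nat_lit 110592, nat_lit 178176, nat_lit 173056, nat_lit 170496, nat_lit 166144, nat_lit 163072, nat_lit 156544, nat_lit 154912, nat_lit 150032, nat_lit 143392, nat_lit 140208, nat_lit 136116, nat_lit 134647, nat_lit 3650, nat_lit 4100, nat_lit 10312, nat_lit 13168, nat_lit 19904, nat_lit 22208, nat_lit 26112, nat_lit 29696, nat_lit 35840, nat_lit 38912, nat_lit 43008, nat_lit 46653, nat_lit 43983, nat_lit 38912, nat_lit 33823, nat_lit 28928, nat_lit 24751, nat_lit 20615, nat_lit 16909, nat_lit 12327, nat_lit 8202, nat_lit 4100, nat_lit 2, nat_lit 421893, nat_lit 409600, nat_lit 131104, nat_lit 41137, nat_lit 32784, nat_lit 24577, nat_lit 8193, nat_lit 4097, nat_lit 327680]⟩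
def yc2 : El := ⟨[nat_lit 0xe77eb8bdab49ca307b9ac5a928398a418820], [nat_lit 178176, nat_lit 174080, nat_lit 169472, nat_lit 165376, nat_lit 159040, nat_lit 153408, nat_lit 146728, nat_lit 141900, nat_lit 137806, nat_lit 133710, nat_lit 2048, nat_lit 6144, nat_lit 10240, nat_lit 22528, nat_lit 34816, nat_lit 43008, nat_lit 327680]⟩
def yd2 : El := ⟨[nat_lit 0x7b21785bcb7b29a64b28714001aa08e9c643, nat_lit 0x77284da44ee08c08b126dbc1867caa51254b], [nat_lit 65536, nat_lit 69632, nat_lit 73728, nat_lit 77824, nat_lit 102400, nat_lit 110592, nat_lit 166144, nat_lit 161664, nat_lit 155904, nat_lit 153344, nat_lit 150080, nat_lit 143544, nat_lit 139540, nat_lit 137666, nat_lit 133452, nat_lit 2296, nat_lit 6392, nat_lit 10488, nat_lit 12800, nat_lit 19008, nat_lit 20608, nat_lit 25344, nat_lit 30464, nat_lit 39936, nat_lit 46975, nat_lit 43337, nat_lit 38217, nat_lit 33327, nat_lit 28708, nat_lit 24854, nat_lit 20611, nat_lit 16386, nat_lit 12800, nat_lit 8193, nat_lit 4097, nat_lit 421893,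 nat_lit 409600, nat_lit 131104, nat_lit 41137, nat_lit 32784, nat_lit 24577, nat_lit 8193, nat_lit 4097]⟩
def yb3 : El := ⟨[nat_lit 0x7e77d8bdab49ca307b9ac5a928398a418820], [nat_lit 174080, nat_lit 169472, nat_lit 165120, nat_lit 162688, nat_lit 155840, nat_lit 152320, nat_lit 151456, nat_lit 146616, nat_lit 142448, nat_lit 138202, nat_lit 134261, nat_lit 2048, nat_lit 6144, nat_lit 10240, nat_lit 26624, nat_lit 30720]⟩
def yc3 : El := ⟨[nat_lit 0x6acc0062ae4495b5759678c24310413a21e6, nat_lit 0xc36600bb26322d280b6557d2027023651cc5], [nat_lit 77824, nat_lit 102400, nat_lit 110592, nat_lit 173056, nat_lit 168960, nat_lit 161280, nat_lit 157312, nat_lit 154464, nat_lit 149472, nat_lit 144624, nat_lit 140028, nat_lit 135774, nat_lit 132477, nat_lit 1970, nat_lit 4100, nat_lit 10216, nat_lit 12800, nat_lit 18336, nat_lit 23424, nat_lit 31744, nat_lit 33792, nat_lit 45128, nat_lit 41888, nat_lit 36936, nat_lit 33792, nat_lit 28980, nat_lit 20500, nat_lit 16389, nat_lit 12800, nat_lit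 8210, nat_lit 4100, nat_lit 421893, nat_lit 409600, nat_lit 151680, nat_lit 147616, nat_lit 131216, nat_lit 40992, nat_lit 32800, nat_lit 8193, nat_lit 4097, nat_lit 327680]⟩
def yd3 : El := ⟨[nat_lit 0xbedbb8bdab49ca307b9ac5a928398a418820], [nat_lit 175104, nat_lit 169472, nat_lit 165376, nat_lit 162560, nat_lit 158144, nat_lit 152384, nat_lit 150960, nat_lit 146256, nat_lit 141804, nat_lit 139024, nat_lit 132167, nat_lit 2048, nat_lit 6144, nat_lit 10240, nat_lit 26624, nat_lit 43008, nat_lit 327680]⟩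
def yal : El := ⟨[nat_lit 0x47e24e946707358fad2f610403390a64256a, nat_lit 0x6350cf1cda5230513060f74807a26f6aa90b, nat_lit 0x242b125a12a390a6bd6d49ca30639af08062], [nat_lit 81920, nat_lit 94208, nat_lit 106496, nat_lit 169472, nat_lit 164864, nat_lit 161280, nat_lit 156864, nat_lit 152704, nat_lit 149312, nat_lit 144824, nat_lit 140436, nat_lit 138618, nat_lit 131554, nat_lit 3082, nat_lit 7180, nat_lit 8200, nat_lit 15360, nat_lit 20064, nat_lit 23104, nat_lit 32512, nat_lit 35328, nat_lit 39936, nat_lit 43008, nat_lit 46086, nat_lit 41620, nat_lit 36870, nat_lit 32903, nat_lit 28997, nat_lit 20503, nat_lit 16428, nat_lit 12294, nat_lit 8200, nat_lit 4101, nat_lit 434184, nat_lit 421893, nat_lit 409600, nat_lit 164864, nat_lit 160768, nat_lit 152704, nat_lit 148736, nat_lit 131360, nat_lit 45057, nat_lit 36865, nat_lit 12289, nat_lit 8193, nat_lit 4097]⟩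
def yu : El := ⟨[nat_lit 0x8188d81ce5108050a24ecbacaf43aa4b3546, nat_lit 0x11ed78580ceadaf04142d509e460d27a4672], [nat_lit 65536, nat_lit 69632, nat_lit 73728, nat_lit 94208, nat_lit 102400, nat_lit 110592, nat_lit 178176, nat_lit 161920, nat_lit 155840, nat_lit 154400, nat_lit 150320, nat_lit 145488, nat_lit 141416, nat_lit 135352, nat_lit 131124, nat_lit 2296, nat_lit 6392, nat_lit 10488, nat_lit 16416, nat_lit 21056, nat_lit 31232, nat_lit 33280, nat_lit 38912, nat_lit 43008, nat_lit 45727, nat_lit 41033, nat_lit 38912, nat_lit 32880, nat_lit 29260, nat_lit 24725, nat_lit 20751, nat_lit 16429, nat_lit 8193, nat_lit 4097, nat_lit 421893, nat_lit 409600, nat_lit 131104, nat_lit 41137, nat_lit 32784, nat_lit 24577, nat_lit 8193, nat_lit 4097]⟩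
def yh : El := ⟨[nat_lit 0xf950950c040412ae650e93594d7acb79ca23, nat_lit 0xb41b7442ac9145e60164d1cdc7ad2eb23201, nat_lit 0xfa3fc31d62a635c714ee90d17245810790c5], [nat_lit 65536, nat_lit 69632, nat_lit 73728, nat_lit 81920, nat_lit 86016, nat_lit 94208, nat_lit 98304, nat_lit 106496, nat_lit 110592, nat_lit 175104, nat_lit 171008, nat_lit 166656, nat_lit 162304, nat_lit 158208, nat_lit 152288, nat_lit 151456, nat_lit 144464, nat_lit 142100, nat_lit 137606, nat_lit 131647, nat_lit 3686, nat_lit 4100, nat_lit 11872, nat_lit 12768, nat_lit 17920, nat_lit 21184, nat_lit 25344, nat_lit 31744, nat_lit 34816, nat_lit 39936, nat_lit 47075, nat_lit 41123, nat_lit 39000, nat_lit 32945, nat_lit 29027, nat_lit 24713, nat_lit 20746, nat_lit 16394, nat_lit 12307, nat_lit 8195, nat_lit 4100, nat_lit 421894, nat_lit 413700, nat_lit 405504, nat_lit 155776, nat_lit 151680, nat_lit 143504, nat_lit 131160, nat_lit 45121, nat_lit 40961, nat_lit 37113, nat_lit 33001, nat_lit 8193, nat_lit 4097]⟩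
def yc1g0 : El := ⟨[nat_lit 0x17714791ee93102c68d4b7581483c51996a8, nat_lit 0xc930af5b1e0915d6b8eaa3a024a34d014533, nat_lit 0xfafc666d954619272c45558c0eb86449c1e8, nat_lit 0x4e7e81200b11d2d25dd863a2ad73c3348a0a], [nat_lit 65536, nat_lit 69632, nat_lit 73728, nat_lit 90112, nat_lit 94208, nat_lit 106496, nat_lit 178176, nat_lit 174080, nat_lit 171008, nat_lit 167424, nat_lit 162304, nat_lit 158912, nat_lit 155328, nat_lit 150448, nat_lit 137714, nat_lit 131073, nat_lit 1402, nat_lit 4160, nat_lit 11480, nat_lit 13520, nat_lit 19040, nat_lit 20992, nat_lit 32000, nat_lit 38912, nat_lit 45787, nat_lit 41185, nat_lit 37299, nat_lit 33478, nat_lit 28689, nat_lit 24869, nat_lit 20485, nat_lit 16391, nat_lit 14343, nat_lit 8195, nat_lit 4097, nat_lit 2, nat_lit 438282, nat_lit 430088, nat_lit 421894, nat_lit 413700, nat_lit 405506, nat_lit 397312, nat_lit 174080, nat_lit 166912, nat_lit 162816, nat_lit 157312, nat_lit 154880, nat_lit 148672, nat_lit 144864, nat_lit 142752, nat_lit 136288,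 nat_lit 134316, nat_lit 327680]⟩
def yc1g1 : El := ⟨[nat_lit 0xe2722e6390ba5c403ccb1940c47a54dad861, nat_lit 0xe41ee11d4c43a66d95a01638574028b8bd45, nat_lit 0x128d2184ce0aa62e52025a1ac3bc98b7b482, nat_lit 0xdde2eb835c20492b9d87579917884a7a2984], [nat_lit 69632, nat_lit 73728, nat_lit 77824, nat_lit 81920, nat_lit 86016, nat_lit 90112, nat_lit 98304, nat_lit 102400, nat_lit 110592, nat_lit 165120, nat_lit 160768, nat_lit 156672, nat_lit 152224, nat_lit 147584, nat_lit 143432, nat_lit 139860, nat_lit 131481, nat_lit 866, nat_lit 5852, nat_lit 10216, nat_lit 12400, nat_lit 16992, nat_lit 20992, nat_lit 28544, nat_lit 30720, nat_lit 35328, nat_lit 47095, nat_lit 43927, nat_lit 36980, nat_lit 34971, nat_lit 30833, nat_lit 24891, nat_lit 20501, nat_lit 16424, nat_lit 12294, nat_lit 8201, nat_lit 4097, nat_lit 434185, nat_lit 421894, nat_lit 413700, nat_lit 405506, nat_lit 397312, nat_lit 168960, nat_lit 160256, nat_lit 155776, nat_lit 147520, nat_lit 144576, nat_lit 140496, nat_lit 136820,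 nat_lit 131162, nat_lit 45267, nat_lit 32973, nat_lit 327680]⟩
def yc1g2 : El := ⟨[nat_lit 0x5a060374c6803e0b104b78caa43a6caa30cd, nat_lit 0xed4e7b8d8957868868d7730a602b1d054927, nat_lit 0xd787eeb4007639a8206f1916a252d2f19a74, nat_lit 0xb8742db09e595e8833835625b004c6a5c4e4], [nat_lit 69632, nat_lit 77824, nat_lit 86016, nat_lit 90112, nat_lit 98304, nat_lit 102400, nat_lit 106496, nat_lit 178176, nat_lit 174080, nat_lit 171520, nat_lit 164864, nat_lit 160896, nat_lit 156416, nat_lit 151584, nat_lit 150208, nat_lit 143640, nat_lit 140544, nat_lit 135662, nat_lit 131907, nat_lit 4060, nat_lit 5900, nat_lit 10840, nat_lit 13552, nat_lit 19488, nat_lit 23936, nat_lit 25856, nat_lit 29952, nat_lit 36352, nat_lit 43008, nat_lit 45791, nat_lit 41566, nat_lit 37328, nat_lit 33293, nat_lit 28706, nat_lit 24873, nat_lit 20548, nat_lit 12289, nat_lit 8257, nat_lit 4097, nat_lit 2, nat_lit 438282, nat_lit 430088, nat_lit 421894, nat_lit 413700, nat_lit 405504, nat_lit 174080, nat_lit 168960,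 nat_lit 164864, nat_lit 158080, nat_lit 154880, nat_lit 148032, nat_lit 144480, nat_lit 131624, nat_lit 8193, nat_lit 4097, nat_lit 327680]⟩
def yc1h1 : El := ⟨[nat_lit 0x24712452eaf60ee0804c8250ed75a3390925, nat_lit 0xa0a053b99cd7a05093140a2564ac4b3b0c27, nat_lit 0xa56506be2644c8b81eb672a81900a248d97, nat_lit 0x555c3a9a65653d97a8d60320948b84569c30], [nat_lit 86016, nat_lit 90112, nat_lit 94208, nat_lit 102400, nat_lit 106496, nat_lit 171008, nat_lit 166912, nat_lit 160768, nat_lit 157312, nat_lit 152032, nat_lit 148096, nat_lit 143416, nat_lit 141628, nat_lit 138348, nat_lit 133034, nat_lit 880, nat_lit 7724, nat_lit 9032, nat_lit 14720, nat_lit 19808, nat_lit 22976, nat_lit 26240, nat_lit 31488, nat_lit 35328, nat_lit 39936, nat_lit 43008, nat_lit 46528, nat_lit 41426, nat_lit 36961, nat_lit 33907, nat_lit 28776, nat_lit 24583, nat_lit 20610, nat_lit 17417, nat_lit 12289, nat_lit 8259, nat_lit 4112, nat_lit 438281, nat_lit 425991, nat_lit 413700, nat_lit 405506, nat_lit 397312,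 nat_lit 152320, nat_lit 147712, nat_lit 140176, nat_lit 131104, nat_lit 41013, nat_lit 24577]⟩
def yc1h2 : El := ⟨[nat_lit 0x722bd464e350494570a816a13680ccbb9de4, nat_lit 0x9f955f2367532467a2057639600aa112d9f2, nat_lit 0x14d2bb4240513cee1c4d3b364a62e150de84, nat_lit 0xc3ff6c7d9146ce0a24435148b7624033adc6], [nat_lit 65536, nat_lit 73728, nat_lit 77824, nat_lit 81920, nat_lit 86016, nat_lit 94208, nat_lit 110592, nat_lit 175104, nat_lit 169472, nat_lit 164864, nat_lit 159872, nat_lit 158080, nat_lit 154912, nat_lit 148048, nat_lit 144480, nat_lit 140200, nat_lit 136786, nat_lit 133078, nat_lit 3316, nat_lit 6868, nat_lit 11008, nat_lit 15536, nat_lit 16800, nat_lit 23104, nat_lit 26240, nat_lit 30208, nat_lit 39936, nat_lit 46307, nat_lit 41268, nat_lit 36942, nat_lit 32818, nat_lit 30795, nat_lit 25140, nat_lit 20562, nat_lit 16390, nat_lit 12290, nat_lit 8208, nat_lit 2048, nat_lit 434185, nat_lit 421894, nat_lit 413700, nat_lit 405506, nat_lit 397312, nat_lit 168960, nat_lit 160256,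 nat_lit 156672, nat_lit 147520, nat_lit 144448, nat_lit 139344, nat_lit 135852, nat_lit 132172, nat_lit 45267, nat_lit 32798, nat_lit 327680]⟩
def yc1m : El := ⟨[], [nat_lit 265304, nat_lit 77824, nat_lit 81920, nat_lit 86016, nat_lit 98304, nat_lit 106496, nat_lit 327680]⟩
def ye1g0 : El := ⟨[nat_lit 0xc3ff9395da8a260c7c5552906609c029add6, nat_lit 0xa5ac3aa4d8a5c6ed73ce009a50124a8b0ea4, nat_lit 0xe174e473d095b54c280e28d277b565020466], [nat_lit 65536, nat_lit 73728, nat_lit 77824, nat_lit 81920, nat_lit 86016, nat_lit 98304, nat_lit 106496, nat_lit 174080, nat_lit 168448, nat_lit 164864, nat_lit 162816, nat_lit 156352, nat_lit 152032, nat_lit 147696, nat_lit 146960, nat_lit 136458, nat_lit 133264, nat_lit 3406, nat_lit 5288, nat_lit 8920, nat_lit 15376, nat_lit 18560, nat_lit 22272, nat_lit 26240, nat_lit 29696, nat_lit 35328, nat_lit 46984, nat_lit 41112, nat_lit 39117, nat_lit 33349, nat_lit 29821, nat_lit 24632, nat_lit 20555, nat_lit 16397, nat_lit 12309, nat_lit 8211, nat_lit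 4101, nat_lit 2, nat_lit 430088, nat_lit 421893, nat_lit 409602, nat_lit 397312, nat_lit 164352, nat_lit 160000, nat_lit 151808, nat_lit 148128, nat_lit 139408, nat_lit 135856, nat_lit 131744, nat_lit 45062, nat_lit 41605, nat_lit 12289, nat_lit 327680]⟩
def ye1g1 : El := ⟨[nat_lit 0x8e22ee52d95b81e320a2893616a38a638533, nat_lit 0xd2d14e3590d116678256305e34255ca649e1, nat_lit 0x828e12b9687439aa8cc400ca03b54866256f], [nat_lit 65536, nat_lit 73728, nat_lit 98304, nat_lit 106496, nat_lit 110592, nat_lit 173056, nat_lit 171520, nat_lit 164096, nat_lit 162560, nat_lit 155904, nat_lit 154624, nat_lit 151120, nat_lit 144040, nat_lit 139656, nat_lit 138070, nat_lit 131505, nat_lit 3866, nat_lit 7172, nat_lit 9488, nat_lit 13984, nat_lit 17344, nat_lit 23040, nat_lit 26880, nat_lit 31744, nat_lit 35840, nat_lit 37888, nat_lit 46400, nat_lit 41924, nat_lit 36868, nat_lit 33844, nat_lit 28692, nat_lit 24842, nat_lit 20500, nat_lit 16420, nat_lit 12355, nat_lit 8224, nat_lit 4161, nat_lit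 434184, nat_lit 417797, nat_lit 409603, nat_lit 397312, nat_lit 156672, nat_lit 152896, nat_lit 148736, nat_lit 144752, nat_lit 136288, nat_lit 131328, nat_lit 45065, nat_lit 36873, nat_lit 28762, nat_lit 8194]⟩
def ye1g2 : El := ⟨[nat_lit 0x959939bba40844a8acc4f58464635463d136, nat_lit 0xa39ac3618e302dc9b44882aa7780a4d7d035, nat_lit 0x3603054d8cf3c865aad8412a28681d30c2f4], [nat_lit 65536, nat_lit 69632, nat_lit 73728, nat_lit 77824, nat_lit 81920, nat_lit 86016, nat_lit 90112, nat_lit 94208, nat_lit 178176, nat_lit 173056, nat_lit 169984, nat_lit 167168, nat_lit 160256, nat_lit 157120, nat_lit 154432, nat_lit 148704, nat_lit 146848, nat_lit 143108, nat_lit 138642, nat_lit 131855, nat_lit 856, nat_lit 5000, nat_lit 8928, nat_lit 14992, nat_lit 20416, nat_lit 21632, nat_lit 26368, nat_lit 29184, nat_lit 34816, nat_lit 38912, nat_lit 46632, nat_lit 41667, nat_lit 37898, nat_lit 32919, nat_lit 28995, nat_lit 24707, nat_lit 22536, nat_lit 16456, nat_lit 12290, nat_lit 8209, nat_lit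 4097, nat_lit 438280, nat_lit 421894, nat_lit 413700, nat_lit 405504, nat_lit 165888, nat_lit 162048, nat_lit 158080, nat_lit 152000, nat_lit 149568, nat_lit 133328, nat_lit 41425, nat_lit 36872, nat_lit 4097, nat_lit 327680]⟩
def ye1h1 : El := ⟨[nat_lit 0x2dd1b11ad006b25112829352a47ba133d8b7, nat_lit 0xf59a055148088930431c37c8f76ccd4b542b, nat_lit 0x7b2e773c5ee30a632d255b31215dda04408a], [nat_lit 69632, nat_lit 77824, nat_lit 81920, nat_lit 90112, nat_lit 94208, nat_lit 102400, nat_lit 106496, nat_lit 175104, nat_lit 169984, nat_lit 164096, nat_lit 161536, nat_lit 156416, nat_lit 155520, nat_lit 148208, nat_lit 144536, nat_lit 142944, nat_lit 139062, nat_lit 132560, nat_lit 590, nat_lit 7044, nat_lit 9912, nat_lit 14000, nat_lit 19680, nat_lit 21376, nat_lit 27648, nat_lit 28928, nat_lit 33792, nat_lit 39936, nat_lit 46275, nat_lit 43411, nat_lit 37029, nat_lit 33846, nat_lit 29186, nat_lit 24873, nat_lit 20485, nat_lit 17409, nat_lit 12358, nat_lit 8225, nat_lit 4160, nat_lit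 2, nat_lit 434182, nat_lit 413700, nat_lit 405506, nat_lit 397312, nat_lit 152576, nat_lit 148576, nat_lit 140352, nat_lit 45120, nat_lit 36868, nat_lit 32784, nat_lit 28704, nat_lit 327680]⟩
def ye1h2 : El := ⟨[nat_lit 0xe1b8b133ecb00c3190a13491952a9b7a38e8, nat_lit 0x1e2122358155c2eea3e4a992223a5012b06d, nat_lit 0xcff659a3a6c7a8e08592b2de448d44133468], [nat_lit 69632, nat_lit 81920, nat_lit 106496, nat_lit 110592, nat_lit 178176, nat_lit 173056, nat_lit 171008, nat_lit 166912, nat_lit 163200, nat_lit 158272, nat_lit 153088, nat_lit 150496, nat_lit 147056, nat_lit 142508, nat_lit 137098, nat_lit 133934, nat_lit 1292, nat_lit 5324, nat_lit 8456, nat_lit 16336, nat_lit 20160, nat_lit 22272, nat_lit 26368, nat_lit 30208, nat_lit 34816, nat_lit 37888, nat_lit 46872, nat_lit 43620, nat_lit 39177, nat_lit 33867, nat_lit 28767, nat_lit 24708, nat_lit 20754, nat_lit 16396, nat_lit 12310, nat_lit 8209, nat_lit 4105, nat_lit 2, nat_lit 434184, nat_lit 417797, nat_lit 405506, nat_lit 397312,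 nat_lit 164864, nat_lit 156672, nat_lit 151616, nat_lit 144736, nat_lit 140288, nat_lit 135520, nat_lit 131432, nat_lit 45057, nat_lit 37120, nat_lit 28737, nat_lit 16386, nat_lit 327680]⟩
def ye1m : El := ⟨[], [nat_lit 262688, nat_lit 69632, nat_lit 73728, nat_lit 86016, nat_lit 102400, nat_lit 110592, nat_lit 327680]⟩
def ye2g0 : El := ⟨[nat_lit 0x244d81ab9066aac43c0a30322f906f49a562, nat_lit 0x28d2287415162c016a6d798cb430ab2220ef, nat_lit 0x3a05c002627251e6aba70136c3904ab62917, nat_lit 0x99f96f0228a6b0352c56f94ee338896838c9], [nat_lit 65536, nat_lit 69632, nat_lit 73728, nat_lit 90112, nat_lit 94208, nat_lit 106496, nat_lit 178176, nat_lit 174080, nat_lit 171008, nat_lit 167424, nat_lit 162304, nat_lit 158912, nat_lit 155328, nat_lit 150448, nat_lit 137714, nat_lit 131073, nat_lit 1402, nat_lit 4160, nat_lit 11480, nat_lit 13520, nat_lit 19040, nat_lit 20992, nat_lit 32000, nat_lit 38912, nat_lit 45787, nat_lit 41185, nat_lit 37299, nat_lit 33478, nat_lit 28689, nat_lit 24869,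 nat_lit 20485, nat_lit 16391, nat_lit 14343, nat_lit 8195, nat_lit 4097, nat_lit 2, nat_lit 438282, nat_lit 430088, nat_lit 421894, nat_lit 413700, nat_lit 405506, nat_lit 397312, nat_lit 174080, nat_lit 166912, nat_lit 162816, nat_lit 157312, nat_lit 154880, nat_lit 148672, nat_lit 144864, nat_lit 142752, nat_lit 136288, nat_lit 134316, nat_lit 327680]⟩
def ye2g1 : El := ⟨[nat_lit 0xc33c36b400410d6c321e53c6e1a36a954a6e, nat_lit 0xc9c05f8b4e15a916bd5343326023c7271450, nat_lit 0x228b77251a13c0c84b1f3b2af2a95c31440b, nat_lit 0xffa53684dec22d458c9aea0ae33a4c8b5420], [nat_lit 69632, nat_lit 73728, nat_lit 77824, nat_lit 81920, nat_lit 86016, nat_lit 90112, nat_lit 98304, nat_lit 102400, nat_lit 110592, nat_lit 165120, nat_lit 160768, nat_lit 156672, nat_lit 152224, nat_lit 147584, nat_lit 143432, nat_lit 139860, nat_lit 131481, nat_lit 866, nat_lit 5852, nat_lit 10216, nat_lit 12400, nat_lit 16992, nat_lit 20992, nat_lit 28544, nat_lit 30720, nat_lit 35328, nat_lit 47095, nat_lit 43927,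 nat_lit 36980, nat_lit 34971, nat_lit 30833, nat_lit 24891, nat_lit 20501, nat_lit 16424, nat_lit 12294, nat_lit 8201, nat_lit 4097, nat_lit 434185, nat_lit 421894, nat_lit 413700, nat_lit 405506, nat_lit 397312, nat_lit 168960, nat_lit 160256, nat_lit 155776, nat_lit 147520, nat_lit 144576, nat_lit 140496, nat_lit 136820, nat_lit 131162, nat_lit 45267, nat_lit 32973, nat_lit 327680]⟩
def ye2g2 : El := ⟨[nat_lit 0x77eb179ad25636467851680ce2b81ca8d2a4, nat_lit 0xd887e17c46b95cb309ac073284a9d286aa02, nat_lit 0x56c39c646927803748cf3289706d4c4559c8, nat_lit 0x9aaa9c445eaa01653c08e9846cb09266de55], [nat_lit 65536, nat_lit 73728, nat_lit 81920, nat_lit 94208, nat_lit 102400, nat_lit 106496, nat_lit 110592, nat_lit 174080, nat_lit 171520, nat_lit 165632, nat_lit 160384, nat_lit 158912, nat_lit 155584, nat_lit 147952, nat_lit 144760, nat_lit 139616, nat_lit 138544, nat_lit 134143, nat_lit 2802, nat_lit 4380, nat_lit 8704, nat_lit 15760, nat_lit 18752, nat_lit 21184, nat_lit 26624, nat_lit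 31232, nat_lit 33792, nat_lit 39936, nat_lit 43008, nat_lit 45468, nat_lit 41780, nat_lit 37077, nat_lit 33988, nat_lit 29013, nat_lit 24886, nat_lit 20611, nat_lit 16648, nat_lit 12309, nat_lit 8200, nat_lit 438282, nat_lit 430088, nat_lit 421894, nat_lit 413700, nat_lit 405504, nat_lit 174080, nat_lit 168960, nat_lit 164864, nat_lit 163584, nat_lit 156928, nat_lit 151808, nat_lit 150368, nat_lit 147072, nat_lit 134720, nat_lit 8193, nat_lit 4097, nat_lit 327680]⟩
def ye2h1 : El := ⟨[nat_lit 0x4812b11850551ad403e55bba6282c9149d8d, nat_lit 0xfaac982664bd0ea2a1ae9544c7c4760980b, nat_lit 0xdb2bed69a630c0af255276228eb880b946ca, nat_lit 0xde8dbd6d8d410de4848ae5cea14023753127], [nat_lit 86016, nat_lit 90112, nat_lit 94208, nat_lit 102400, nat_lit 106496, nat_lit 171008, nat_lit 166912, nat_lit 160768, nat_lit 157312, nat_lit 152032, nat_lit 148096, nat_lit 143416, nat_lit 141628, nat_lit 138348, nat_lit 133034, nat_lit 880, nat_lit 7724, nat_lit 9032, nat_lit 14720, nat_lit 19808, nat_lit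 22976, nat_lit 26240, nat_lit 31488, nat_lit 35328, nat_lit 39936, nat_lit 43008, nat_lit 46528, nat_lit 41426, nat_lit 36961, nat_lit 33907, nat_lit 28776, nat_lit 24583, nat_lit 20610, nat_lit 17417, nat_lit 12289, nat_lit 8259, nat_lit 4112, nat_lit 438281, nat_lit 425991, nat_lit 413700, nat_lit 405506, nat_lit 397312, nat_lit 152320, nat_lit 147712, nat_lit 140176, nat_lit 131104, nat_lit 41013, nat_lit 24577]⟩
def ye2h2 : El := ⟨[nat_lit 0x6569c684af61bc0d428e69d235089cc5a485, nat_lit 0x42d27d852602a5f22222c38cd650aab0b6ee, nat_lit 0x2d7b771c015488cf7524c52236385ab2cee4, nat_lit 0x4874dd9d2eb106498b54c1baa73160803c96], [nat_lit 65536, nat_lit 69632, nat_lit 81920, nat_lit 86016, nat_lit 90112, nat_lit 102400, nat_lit 106496, nat_lit 110592, nat_lit 175104, nat_lit 168960, nat_lit 164864, nat_lit 163584, nat_lit 156928, nat_lit 151808, nat_lit 150368, nat_lit 147072, nat_lit 141272, nat_lit 138098, nat_lit 131820, nat_lit 172, nat_lit 7748, nat_lit 8936, nat_lit 15840, nat_lit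 19008, nat_lit 24448, nat_lit 27520, nat_lit 29440, nat_lit 33280, nat_lit 38912, nat_lit 47049, nat_lit 43483, nat_lit 37375, nat_lit 32779, nat_lit 24601, nat_lit 21000, nat_lit 16395, nat_lit 12291, nat_lit 8224, nat_lit 4, nat_lit 434185, nat_lit 421894, nat_lit 413700, nat_lit 405506, nat_lit 397312, nat_lit 168960, nat_lit 160768, nat_lit 156160, nat_lit 153088, nat_lit 147616, nat_lit 143952, nat_lit 140864, nat_lit 136352, nat_lit 132176, nat_lit 45267, nat_lit 32798]⟩
def ye2m : El := ⟨[], [nat_lit 265304, nat_lit 77824, nat_lit 81920, nat_lit 86016, nat_lit 98304, nat_lit 106496, nat_lit 327680]⟩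
def ys0 : El := ⟨[nat_lit 0x50c960c54869ecba0a172d52e2181278d93, nat_lit 0x12be8b4316284c2d25551bd00e199e595927, nat_lit 0x963a3aac0e0ba28f6188a8ba69958a21ac2d, nat_lit 0x5ffa654aab08b1f429a7620d6eb864041da2], [nat_lit 73728, nat_lit 77824, nat_lit 81920, nat_lit 110592, nat_lit 173056, nat_lit 169984, nat_lit 165376, nat_lit 161792, nat_lit 158400, nat_lit 154336, nat_lit 148544, nat_lit 144512, nat_lit 140188, nat_lit 136788, nat_lit 133909, nat_lit 2, nat_lit 6632, nat_lit 10200, nat_lit 14304, nat_lit 18976, nat_lit 21888, nat_lit 25984, nat_lit 29184, nat_lit 33792, nat_lit 37888, nat_lit 46603, nat_lit 43223, nat_lit 37272, nat_lit 32980, nat_lit 28693, nat_lit 24879, nat_lit 20489, nat_lit 16389, nat_lit 12292, nat_lit 8203, nat_lit 4101, nat_lit 434185, nat_lit 425991, nat_lit 417797, nat_lit 409603, nat_lit 401409, nat_lit 160256, nat_lit 156672, nat_lit 152576, nat_lit 148512, nat_lit 144112, nat_lit 141048, nat_lit 135720, nat_lit 45568]⟩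
def ys1 : El := ⟨[nat_lit 0xe84de220a950158f72e5645db33254119e30, nat_lit 0x88827414971616903b6b3705e832464b2ae0, nat_lit 0xe1474e240036584b7a834448e92de75744cd, nat_lit 0x669ffcbb525018f06548a7c9c18ac48b5073], [nat_lit 90112, nat_lit 102400, nat_lit 110592, nat_lit 178176, nat_lit 173056, nat_lit 169984, nat_lit 165376, nat_lit 160768, nat_lit 158400, nat_lit 155168, nat_lit 150416, nat_lit 143400, nat_lit 140432, nat_lit 136676, nat_lit 135114, nat_lit 2758, nat_lit 6716, nat_lit 10112, nat_lit 14336, nat_lit 18432, nat_lit 21248, nat_lit 26112, nat_lit 31488, nat_lit 35328, nat_lit 39936, nat_lit 43008, nat_lit 46227, nat_lit 41233, nat_lit 36883, nat_lit 32869, nat_lit 30803, nat_lit 24720, nat_lit 20744, nat_lit 16454, nat_lit 12322, nat_lit 8193, nat_lit 4104, nat_lit 2, nat_lit 434185, nat_lit 425991, nat_lit 417797, nat_lit 409603, nat_lit 401408, nat_lit 168960, nat_lit 164864, nat_lit 160256, nat_lit 147776, nat_lit 143632, nat_lit 140360, nat_lit 131880, nat_lit 45549]⟩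
def ys2 : El := ⟨[nat_lit 0x5acaa99aef5a0dc7b15820c500512467a60d, nat_lit 0xd788e14aa8d7567203ee23b2c61a22482ca1, nat_lit 0xcc5aaa0decc355515b4097946490a0e450f3], [nat_lit 73728, nat_lit 77824, nat_lit 81920, nat_lit 86016, nat_lit 90112, nat_lit 94208, nat_lit 102400, nat_lit 110592, nat_lit 178176, nat_lit 168960, nat_lit 166656, nat_lit 159872, nat_lit 157760, nat_lit 152800, nat_lit 148880, nat_lit 145200, nat_lit 143296, nat_lit 138620, nat_lit 131627, nat_lit 3486, nat_lit 8132, nat_lit 11672, nat_lit 16176, nat_lit 19712, nat_lit 23488, nat_lit 24960, nat_lit 29696, nat_lit 35840, nat_lit 43008, nat_lit 45592, nat_lit 41240, nat_lit 37120, nat_lit 32776, nat_lit 28786, nat_lit 24736, nat_lit 20615, nat_lit 16386, nat_lit 8193, nat_lit 4112, nat_lit 4, nat_lit 425991, nat_lit 417797, nat_lit 409603, nat_lit 397312, nat_lit 151872, nat_lit 147552, nat_lit 143760, nat_lit 135328, nat_lit 131114, nat_lit 45248, nat_lit 41114, nat_lit 37178]⟩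
def ys3 : El := ⟨[nat_lit 0xf3c560b4c2c3d2e89448b728ad7c01548866, nat_lit 0xcf5c9f04e2f68e95922c7095c485cca4b04b, nat_lit 0x7178278c16533dc93aaf59b6c00a06413292, nat_lit 0x17714713c8ebd0274c6ad5a806816439b116], [nat_lit 73728, nat_lit 77824, nat_lit 81920, nat_lit 86016, nat_lit 94208, nat_lit 106496, nat_lit 178176, nat_lit 171520, nat_lit 167168, nat_lit 162816, nat_lit 158720, nat_lit 151840, nat_lit 151136, nat_lit 146952, nat_lit 140248, nat_lit 138892, nat_lit 131701, nat_lit 1816, nat_lit 4440, nat_lit 10392, nat_lit 12864, nat_lit 16672, nat_lit 20736, nat_lit 24704, nat_lit 29440, nat_lit 33792, nat_lit 37888, nat_lit 45671, nat_lit 41861, nat_lit 37296, nat_lit 32971, nat_lit 29003, nat_lit 24846, nat_lit 20485, nat_lit 16901, nat_lit 12544, nat_lit 8194, nat_lit 4097, nat_lit 2, nat_lit 434185, nat_lit 425991, nat_lit 417797, nat_lit 409602, nat_lit 397312, nat_lit 168960, nat_lit 164352, nat_lit 156160, nat_lit 152640, nat_lit 141024, nat_lit 135732, nat_lit 131382,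 nat_lit 45541, nat_lit 327680]⟩
def ys4 : El := ⟨[nat_lit 0x447de8099cd53e9114c92b5c672a160626b0, nat_lit 0xfc60a63bd77a2585956c19a1427022d1c086, nat_lit 0x35aff624160a15c755da87cab199921b0983, nat_lit 0xcf065641cab08a95b8ec0849af219498cd8e], [nat_lit 65536, nat_lit 69632, nat_lit 73728, nat_lit 77824, nat_lit 98304, nat_lit 102400, nat_lit 110592, nat_lit 164352, nat_lit 161024, nat_lit 158592, nat_lit 152896, nat_lit 150640, nat_lit 147080, nat_lit 141628, nat_lit 135170, nat_lit 132735, nat_lit 614, nat_lit 6336, nat_lit 8704, nat_lit 12864, nat_lit 17600, nat_lit 21184, nat_lit 27648, nat_lit 32512, nat_lit 35840, nat_lit 39936, nat_lit 46786, nat_lit 41500, nat_lit 36933, nat_lit 32949, nat_lit 28719, nat_lit 25121, nat_lit 20551, nat_lit 16640, nat_lit 12422, nat_lit 8210, nat_lit 434185, nat_lit 425991, nat_lit 417797, nat_lit 405506, nat_lit 397312, nat_lit 168960, nat_lit 155776, nat_lit 153344, nat_lit 144288, nat_lit 140640, nat_lit 137184, nat_lit 133102, nat_lit 45358]⟩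
def ys5 : El := ⟨[nat_lit 0xdbe7473002913af11d1b2ad9075158f22e70, nat_lit 0x8ed21ebb2840c2ab33d4838c0d7167215a29, nat_lit 0x356cac805d77d4714a167310aa6cc1414996], [nat_lit 65536, nat_lit 69632, nat_lit 73728, nat_lit 77824, nat_lit 90112, nat_lit 98304, nat_lit 102400, nat_lit 110592, nat_lit 174080, nat_lit 168960, nat_lit 164096, nat_lit 161152, nat_lit 157056, nat_lit 155200, nat_lit 150416, nat_lit 146288, nat_lit 142844, nat_lit 135420, nat_lit 135033, nat_lit 718, nat_lit 5544, nat_lit 10304, nat_lit 12320, nat_lit 20032, nat_lit 23168, nat_lit 27136, nat_lit 29952, nat_lit 33792, nat_lit 38912, nat_lit 46094, nat_lit 41795, nat_lit 37918, nat_lit 33462, nat_lit 28970, nat_lit 24621, nat_lit 20493, nat_lit 16386, nat_lit 12323, nat_lit 4105, nat_lit 2, nat_lit 425991, nat_lit 417796, nat_lit 405506, nat_lit 397312, nat_lit 160000, nat_lit 147712, nat_lit 143488, nat_lit 139712, nat_lit 135496, nat_lit 131328, nat_lit 45073, nat_lit 41100, nat_lit 37060]⟩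
def ys6 : El := ⟨[nat_lit 0x4b147baa4e8306c0239948094d2ce571adf1, nat_lit 0xa9ffc671ef212ca61bd88ab4909aa2105a89, nat_lit 0xd81e8da29c869ee5155e3586648b2d280126], [nat_lit 65536, nat_lit 69632, nat_lit 77824, nat_lit 81920, nat_lit 86016, nat_lit 90112, nat_lit 98304, nat_lit 102400, nat_lit 106496, nat_lit 110592, nat_lit 178176, nat_lit 165376, nat_lit 162048, nat_lit 157376, nat_lit 152320, nat_lit 149472, nat_lit 143888, nat_lit 139652, nat_lit 136636, nat_lit 133092, nat_lit 584, nat_lit 5116, nat_lit 10248, nat_lit 14400, nat_lit 17120, nat_lit 21760, nat_lit 25472, nat_lit 32000, nat_lit 33792, nat_lit 37888, nat_lit 45957, nat_lit 41685, nat_lit 37217, nat_lit 33392, nat_lit 29784, nat_lit 25150, nat_lit 20499, nat_lit 16418, nat_lit 12353, nat_lit 8201, nat_lit 4101, nat_lit 430087, nat_lit 413700, nat_lit 405506, nat_lit 397312, nat_lit 160256, nat_lit 152192, nat_lit 139952, nat_lit 135332, nat_lit 131122, nat_lit 45115, nat_lit 41111, nat_lit 32769]⟩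
def ys7 : El := ⟨[nat_lit 0x8d4db88cd17a3d2e258aa3484c6c0e305561, nat_lit 0x7edde1831e42ae6a89822b524740db5026ee, nat_lit 0x1b4bd843957832b3224521acd129db478416], [nat_lit 65536, nat_lit 69632, nat_lit 81920, nat_lit 86016, nat_lit 90112, nat_lit 94208, nat_lit 98304, nat_lit 106496, nat_lit 110592, nat_lit 169984, nat_lit 161408, nat_lit 155904, nat_lit 155040, nat_lit 150368, nat_lit 145568, nat_lit 139560, nat_lit 138354, nat_lit 133427, nat_lit 1064, nat_lit 4704, nat_lit 11080, nat_lit 14352, nat_lit 18912, nat_lit 23040, nat_lit 27136, nat_lit 32000, nat_lit 33280, nat_lit 37888, nat_lit 43008, nat_lit 46833, nat_lit 41407, nat_lit 37194, nat_lit 33467, nat_lit 28731, nat_lit 24841, nat_lit 20482, nat_lit 16397, nat_lit 12307, nat_lit 8195, nat_lit 4097, nat_lit 434182, nat_lit 413700, nat_lit 405506, nat_lit 397312, nat_lit 148512, nat_lit 144416, nat_lit 140376, nat_lit 136312, nat_lit 132138, nat_lit 45104, nat_lit 36913, nat_lit 32880]⟩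
def ys8 : El := ⟨[nat_lit 0x506c0948c255127235577702d041d8d8d1e2, nat_lit 0xbe8e7e1458d3bd14ac2e0905491949333acb, nat_lit 0xbdbb1e30ce9b48af692b382a2115e887018b, nat_lit 0xaca6967c5633a6a87128c306c083542bc8b3], [nat_lit 65536, nat_lit 69632, nat_lit 77824, nat_lit 81920, nat_lit 94208, nat_lit 102400, nat_lit 110592, nat_lit 164352, nat_lit 161536, nat_lit 157632, nat_lit 153120, nat_lit 147920, nat_lit 145120, nat_lit 140688, nat_lit 135772, nat_lit 131546, nat_lit 1818, nat_lit 5244, nat_lit 8768, nat_lit 14240, nat_lit 18208, nat_lit 23104, nat_lit 28160, nat_lit 30720, nat_lit 36352, nat_lit 38912, nat_lit 46443, nat_lit 41205, nat_lit 36925, nat_lit 32921, nat_lit 28756, nat_lit 24755, nat_lit 20575, nat_lit 16397, nat_lit 12293, nat_lit 8193, nat_lit 4161, nat_lit 438282, nat_lit 430087, nat_lit 417797, nat_lit 405506, nat_lit 397312, nat_lit 171008, nat_lit 160256, nat_lit 155776, nat_lit 152128, nat_lit 144448, nat_lit 141032, nat_lit 136940, nat_lit 132200, nat_lit 327680]⟩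
def ys9 : El := ⟨[nat_lit 0x27b44b250f552ded8087129ad77258898412, nat_lit 0x6a0fa532d8e38c0968ad1516950ddf344890], [nat_lit 77824, nat_lit 86016, nat_lit 94208, nat_lit 102400, nat_lit 178176, nat_lit 173056, nat_lit 169472, nat_lit 161280, nat_lit 156992, nat_lit 153856, nat_lit 151008, nat_lit 143920, nat_lit 143328, nat_lit 135772, nat_lit 131462, nat_lit 1346, nat_lit 6444, nat_lit 10096, nat_lit 13728, nat_lit 17216, nat_lit 23744, nat_lit 26368, nat_lit 30720, nat_lit 33280, nat_lit 46300, nat_lit 41309, nat_lit 36929, nat_lit 33921, nat_lit 28980, nat_lit 24604, nat_lit 20613, nat_lit 16450, nat_lit 12292, nat_lit 8193, nat_lit 4112, nat_lit 413699, nat_lit 397312, nat_lit 131104, nat_lit 41003, nat_lit 32811, nat_lit 28704, nat_lit 24584, nat_lit 16385, nat_lit 8193]⟩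
def ys10 : El := ⟨[nat_lit 0x506cf6089346bac8640e02bc715ca7755486, nat_lit 0x281e7d42a449b1a7b0deb8980170937ac285, nat_lit 0xafa05c23da311a964816555e6e94427aa20c, nat_lit 0x71b47203143addeb9b60911a91215c895827], [nat_lit 73728, nat_lit 77824, nat_lit 81920, nat_lit 106496, nat_lit 110592, nat_lit 178176, nat_lit 168960, nat_lit 165632, nat_lit 160896, nat_lit 158208, nat_lit 153952, nat_lit 149856, nat_lit 145552, nat_lit 140980, nat_lit 138198, nat_lit 134244, nat_lit 2654, nat_lit 7012, nat_lit 8208, nat_lit 12480, nat_lit 18464, nat_lit 23104, nat_lit 25088, nat_lit 29952, nat_lit 35840, nat_lit 39936, nat_lit 43008, nat_lit 45761, nat_lit 41869, nat_lit 36970, nat_lit 32879, nat_lit 29719, nat_lit 24880, nat_lit 20501, nat_lit 16399, nat_lit 12311, nat_lit 8209, nat_lit 4100, nat_lit 16, nat_lit 438281, nat_lit 425990, nat_lit 413700, nat_lit 405506, nat_lit 397312, nat_lit 166400, nat_lit 158464, nat_lit 153856, nat_lit 150016, nat_lit 146208, nat_lit 139896, nat_lit 135776,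 nat_lit 131882, nat_lit 28703, nat_lit 327680]⟩
def ys11 : El := ⟨[nat_lit 0xf69ccf526049d2e7aac6e7b6466582828a20, nat_lit 0x722b2b98c16690288ddcc5144f3d206aa572, nat_lit 0x78b1d1ac26a621d729ac91017479e4369221, nat_lit 0xa05f533282ba5c074d9d29c4a269183ac10f], [nat_lit 65536, nat_lit 69632, nat_lit 77824, nat_lit 90112, nat_lit 94208, nat_lit 98304, nat_lit 106496, nat_lit 178176, nat_lit 175104, nat_lit 164352, nat_lit 163712, nat_lit 158784, nat_lit 153568, nat_lit 148032, nat_lit 146152, nat_lit 139816, nat_lit 135404, nat_lit 132206, nat_lit 846, nat_lit 7452, nat_lit 8456, nat_lit 16144, nat_lit 17568, nat_lit 20608, nat_lit 28544, nat_lit 31488, nat_lit 34304, nat_lit 39936, nat_lit 43008, nat_lit 45765, nat_lit 41178, nat_lit 39411, nat_lit 33011, nat_lit 28691, nat_lit 24587, nat_lit 20511, nat_lit 16418, nat_lit 12309, nat_lit 8194, nat_lit 4101, nat_lit 2, nat_lit 434185, nat_lit 421894, nat_lit 413700, nat_lit 405506, nat_lit 397312, nat_lit 168960, nat_lit 155776, nat_lit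 151744, nat_lit 149088, nat_lit 143408, nat_lit 139496, nat_lit 136912, nat_lit 132818, nat_lit 45057, nat_lit 33005, nat_lit 327680]⟩
def ys12 : El := ⟨[nat_lit 0xb712b13de644c154321c00b4ab158728beac, nat_lit 0x11b7b1712c54be8a9986b448e165630b804d, nat_lit 0x21277b289208c08a985b53a1ee5d8d493077, nat_lit 0x5f9cf66ba6a5c0c74d69240811286cc1dc8f], [nat_lit 65536, nat_lit 69632, nat_lit 77824, nat_lit 94208, nat_lit 102400, nat_lit 106496, nat_lit 110592, nat_lit 163456, nat_lit 158464, nat_lit 153632, nat_lit 151520, nat_lit 145032, nat_lit 139656, nat_lit 137540, nat_lit 132657, nat_lit 3734, nat_lit 5016, nat_lit 8784, nat_lit 14352, nat_lit 19648, nat_lit 21760, nat_lit 25216, nat_lit 29440, nat_lit 33280, nat_lit 37888, nat_lit 45637, nat_lit 41894, nat_lit 37973, nat_lit 32935, nat_lit 28983, nat_lit 24632, nat_lit 20570, nat_lit 16448, nat_lit 12308, nat_lit 4097, nat_lit 438282, nat_lit 421894, nat_lit 413700, nat_lit 405506, nat_lit 397312, nat_lit 156672, nat_lit 152704,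 nat_lit 147552, nat_lit 144544, nat_lit 140512, nat_lit 136392, nat_lit 132204, nat_lit 36866, nat_lit 32986]⟩
def ys13 : El := ⟨[nat_lit 0xaa060c0a29123eb63b8604b166934b385d42, nat_lit 0x4b8d17bd4ce7a927906889c5a55c2c060c82, nat_lit 0xa9ff39a588c5a1a591df03002e9d54314537, nat_lit 0x2172bd018eb2d5f38091155037625c36d892], [nat_lit 90112, nat_lit 94208, nat_lit 98304, nat_lit 102400, nat_lit 166400, nat_lit 160128, nat_lit 157824, nat_lit 155072, nat_lit 150992, nat_lit 143896, nat_lit 142044, nat_lit 135590, nat_lit 133348, nat_lit 3650, nat_lit 6024, nat_lit 9328, nat_lit 15024, nat_lit 20128, nat_lit 22336, nat_lit 27008, nat_lit 33792, nat_lit 37888, nat_lit 43008, nat_lit 46499, nat_lit 43636, nat_lit 37088, nat_lit 32820, nat_lit 29190, nat_lit 24757, nat_lit 20628, nat_lit 16394, nat_lit 12304, nat_lit 8321, nat_lit 4101, nat_lit 4, nat_lit 438282, nat_lit 430088, nat_lit 421894, nat_lit 413700, nat_lit 405506, nat_lit 397312, nat_lit 171008, nat_lit 167424, nat_lit 160512,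 nat_lit 157440, nat_lit 153152, nat_lit 149280, nat_lit 144160, nat_lit 142248, nat_lit 135956, nat_lit 131844]⟩
def ys14 : El := ⟨[nat_lit 0xc959ccac47309cb6681f455d227224432d90, nat_lit 0xf565fabb8ec5aac4080b5989a99206f85226, nat_lit 0x474888b80489a6163b64123c71a9546a316e, nat_lit 0x7d7e1d0a8d4154898b5cfb9c0b64e5028ec8], [nat_lit 65536, nat_lit 69632, nat_lit 77824, nat_lit 81920, nat_lit 86016, nat_lit 90112, nat_lit 98304, nat_lit 106496, nat_lit 178176, nat_lit 175104, nat_lit 169984, nat_lit 165120, nat_lit 161280, nat_lit 156288, nat_lit 155552, nat_lit 149312, nat_lit 144448, nat_lit 139304, nat_lit 135598, nat_lit 132796, nat_lit 1198, nat_lit 5584, nat_lit 9384, nat_lit 13440, nat_lit 20160, nat_lit 23744, nat_lit 26752, nat_lit 29440, nat_lit 35328, nat_lit 38912, nat_lit 43008, nat_lit 45859, nat_lit 41753, nat_lit 37349, nat_lit 32937, nat_lit 29049, nat_lit 24744, nat_lit 20549, nat_lit 16395, nat_lit 12308, nat_lit 8194, nat_lit 4101, nat_lit 2, nat_lit 430088, nat_lit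 421894, nat_lit 413700, nat_lit 405506, nat_lit 397312, nat_lit 164352, nat_lit 156032, nat_lit 152512, nat_lit 148032, nat_lit 144208, nat_lit 140104, nat_lit 131384, nat_lit 45058, nat_lit 41745, nat_lit 327680]⟩
def ys15 : El := ⟨[nat_lit 0x17d471b9e0a24d34920d600c4e5d6256858f, nat_lit 0x393f5008e0f649692b666bba353891650284, nat_lit 0x65a593b55c9bcc24509805b4e57ca0819a34, nat_lit 0xa506fc99cc954802baed1a05c57b1101d5a4], [nat_lit 73728, nat_lit 77824, nat_lit 90112, nat_lit 98304, nat_lit 110592, nat_lit 174080, nat_lit 168448, nat_lit 166400, nat_lit 160640, nat_lit 158592, nat_lit 154400, nat_lit 147760, nat_lit 146976, nat_lit 142652, nat_lit 137854, nat_lit 134261, nat_lit 3296, nat_lit 6608, nat_lit 10368, nat_lit 15632, nat_lit 16512, nat_lit 22464, nat_lit 28032, nat_lit 31744, nat_lit 35840, nat_lit 47073, nat_lit 43391, nat_lit 38158, nat_lit 32784, nat_lit 28677, nat_lit 24608, nat_lit 20548, nat_lit 16388, nat_lit 8210, nat_lit 4100, nat_lit 128, nat_lit 438282, nat_lit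 430088, nat_lit 421894, nat_lit 413700, nat_lit 405506, nat_lit 397312, nat_lit 165888, nat_lit 163072, nat_lit 155904, nat_lit 151616, nat_lit 150240, nat_lit 146400, nat_lit 139672, nat_lit 136776]⟩
def ys16 : El := ⟨[nat_lit 0x6a66c60b84598ee822d2c8c0ed54a80356cf, nat_lit 0x5c56965858f200e815954ab62533af34c243, nat_lit 0x1b88820d4e2a150b6d98490dc935e708814f, nat_lit 0x8b7b41508ab344336b007a5c83aa5f2742c8], [nat_lit 65536, nat_lit 69632, nat_lit 77824, nat_lit 81920, nat_lit 86016, nat_lit 94208, nat_lit 98304, nat_lit 102400, nat_lit 106496, nat_lit 110592, nat_lit 178176, nat_lit 174080, nat_lit 171008, nat_lit 165376, nat_lit 160640, nat_lit 156928, nat_lit 154240, nat_lit 151360, nat_lit 146984, nat_lit 142872, nat_lit 139174, nat_lit 131260, nat_lit 236, nat_lit 7020, nat_lit 11096, nat_lit 15392, nat_lit 18624, nat_lit 22016, nat_lit 24960, nat_lit 31488, nat_lit 33280, nat_lit 39936, nat_lit 45474, nat_lit 41734, nat_lit 36936, nat_lit 32970, nat_lit 28747, nat_lit 24723,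 nat_lit 22530, nat_lit 16450, nat_lit 12305, nat_lit 9217, nat_lit 4097, nat_lit 2, nat_lit 434185, nat_lit 425991, nat_lit 417797, nat_lit 405506, nat_lit 397312, nat_lit 164352, nat_lit 161536, nat_lit 157568, nat_lit 152128, nat_lit 139680, nat_lit 135840, nat_lit 133088, nat_lit 46223, nat_lit 16386]⟩
def ys17 : El := ⟨[nat_lit 0x7d71ed74c61810ec01aaaa5a4f120b75c52d, nat_lit 0x96ac592d4d3620814d9507ac07a0a438ddae, nat_lit 0x2e82bd81ee4880366d5d24d15330deb408ac], [nat_lit 65536, nat_lit 69632, nat_lit 90112, nat_lit 94208, nat_lit 102400, nat_lit 106496, nat_lit 161024, nat_lit 158208, nat_lit 154656, nat_lit 150336, nat_lit 144720, nat_lit 139976, nat_lit 136794, nat_lit 134008, nat_lit 2556, nat_lit 7616, nat_lit 11648, nat_lit 14720, nat_lit 16416, nat_lit 23744, nat_lit 28160, nat_lit 29696, nat_lit 35840, nat_lit 37888, nat_lit 43008, nat_lit 46405, nat_lit 43898, nat_lit 36914, nat_lit 34957, nat_lit 28766, nat_lit 24730, nat_lit 21001, nat_lit 16399, nat_lit 12309, nat_lit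 4104, nat_lit 421894, nat_lit 413700, nat_lit 405506, nat_lit 397312, nat_lit 155776, nat_lit 151680, nat_lit 143456, nat_lit 139432, nat_lit 131074, nat_lit 45243, nat_lit 40964, nat_lit 33004, nat_lit 327680]⟩
def ys18 : El := ⟨[nat_lit 0x82dbd4a2dd30a88804a261dcf5b260c789a5, nat_lit 0x55f9f34aa2f32056586e4994ed901c3ab214, nat_lit 0x72db241261591193a5dc5434ea5d831199e0, nat_lit 0x6f59fa8b8800966fbd5544d9681b606648e2], [nat_lit 65536, nat_lit 69632, nat_lit 77824, nat_lit 81920, nat_lit 94208, nat_lit 106496, nat_lit 110592, nat_lit 178176, nat_lit 168448, nat_lit 166912, nat_lit 163328, nat_lit 159424, nat_lit 155136, nat_lit 147712, nat_lit 147096, nat_lit 142940, nat_lit 137212, nat_lit 134908, nat_lit 232, nat_lit 5156, nat_lit 8424, nat_lit 15440, nat_lit 17408, nat_lit 21504, nat_lit 26368, nat_lit 32512, nat_lit 34816, nat_lit 38912, nat_lit 46872, nat_lit 43830, nat_lit 39232, nat_lit 32807, nat_lit 28783, nat_lit 24741, nat_lit 20487, nat_lit 12352, nat_lit 8195, nat_lit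 4101, nat_lit 430088, nat_lit 421894, nat_lit 413700, nat_lit 405506, nat_lit 397312, nat_lit 160256, nat_lit 155776, nat_lit 147520, nat_lit 143808, nat_lit 140048, nat_lit 135880, nat_lit 131608, nat_lit 45092, nat_lit 41115]⟩
def ys19 : El := ⟨[nat_lit 0xfa95053cd0d54984bc071ab82f4ae80118b6, nat_lit 0x693cf9d58e0c6820348b522f02bd23b1e46, nat_lit 0xfc6fa9716567ac0c55ea321c288cc49341b4, nat_lit 0x8177d82b136202676bc50a065575cc850e2b], [nat_lit 73728, nat_lit 77824, nat_lit 81920, nat_lit 173056, nat_lit 167168, nat_lit 156416, nat_lit 155392, nat_lit 151040, nat_lit 144808, nat_lit 143352, nat_lit 139146, nat_lit 134426, nat_lit 1524, nat_lit 6612, nat_lit 10408, nat_lit 13680, nat_lit 19744, nat_lit 22784, nat_lit 26240, nat_lit 29440, nat_lit 33280, nat_lit 37888, nat_lit 43008, nat_lit 46901, nat_lit 41028, nat_lit 39413, nat_lit 32812, nat_lit 29206, nat_lit 24704, nat_lit 20497, nat_lit 16424, nat_lit 12305, nat_lit 8193, nat_lit 4160, nat_lit 4, nat_lit 438282, nat_lit 430088,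 nat_lit 421894, nat_lit 413700, nat_lit 405506, nat_lit 397312, nat_lit 168960, nat_lit 166400, nat_lit 163584, nat_lit 156032, nat_lit 153920, nat_lit 148512, nat_lit 144400, nat_lit 142304, nat_lit 137284, nat_lit 132524]⟩
def ys20 : El := ⟨[nat_lit 0x24e8b75485784da5a54ec784c32250eb022b, nat_lit 0x5af60c539301d48b29d928decd089f330114, nat_lit 0x55f9f3402828c935b28870cde683465bb96c, nat_lit 0xc9cfaf8bd28248ac309569ddd40820d38eab], [nat_lit 65536, nat_lit 69632, nat_lit 77824, nat_lit 81920, nat_lit 90112, nat_lit 102400, nat_lit 110592, nat_lit 174080, nat_lit 168448, nat_lit 165376, nat_lit 163072, nat_lit 158016, nat_lit 151904, nat_lit 149856, nat_lit 143520, nat_lit 141748, nat_lit 139084, nat_lit 132319, nat_lit 1778, nat_lit 7416, nat_lit 12024, nat_lit 13776, nat_lit 19456, nat_lit 22144, nat_lit 26624, nat_lit 31744, nat_lit 33792, nat_lit 43008, nat_lit 46309, nat_lit 43104, nat_lit 37319, nat_lit 32958, nat_lit 28692, nat_lit 24586, nat_lit 20760, nat_lit 16390, nat_lit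 12290, nat_lit 8208, nat_lit 438282, nat_lit 430088, nat_lit 421894, nat_lit 413700, nat_lit 405506, nat_lit 397312, nat_lit 164864, nat_lit 159360, nat_lit 155008, nat_lit 150464, nat_lit 146608, nat_lit 139320, nat_lit 136024, nat_lit 134910, nat_lit 327680]⟩
def ys21 : El := ⟨[nat_lit 0x950fa540ad29aaa149d6c7d0b78c08d038c3, nat_lit 0x2114d100d32130b781d049aed553dd1351a1, nat_lit 0x1b878d14d359119069401599c850ef17d2c7, nat_lit 0x7242b7182e4b24caa34ec8a1e2585d2ace05], [nat_lit 90112, nat_lit 106496, nat_lit 178176, nat_lit 173056, nat_lit 164096, nat_lit 160000, nat_lit 155616, nat_lit 151456, nat_lit 146824, nat_lit 142448, nat_lit 139224, nat_lit 131334, nat_lit 1998, nat_lit 5820, nat_lit 9304, nat_lit 14000, nat_lit 18496, nat_lit 23488, nat_lit 24832, nat_lit 30208, nat_lit 36352, nat_lit 39936, nat_lit 46609, nat_lit 43970, nat_lit 37372, nat_lit 33336, nat_lit 28752, nat_lit 24753, nat_lit 20484, nat_lit 16527, nat_lit 12291, nat_lit 8194, nat_lit 4101, nat_lit 2, nat_lit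 438282, nat_lit 430088, nat_lit 421894, nat_lit 413700, nat_lit 405506, nat_lit 397312, nat_lit 157184, nat_lit 152576, nat_lit 149088, nat_lit 144400, nat_lit 143232, nat_lit 136216, nat_lit 132730, nat_lit 327680]⟩
def ys22 : El := ⟨[nat_lit 0x9a9639081a921d4e1566590cd44460f5b2f6, nat_lit 0x24db1d695eb886ac1912032af69b85444a07, nat_lit 0xbe1712510373d468315d0101934bd71b4a8d, nat_lit 0x53a9660251033954596ac21c72b5c537b621], [nat_lit 65536, nat_lit 69632, nat_lit 73728, nat_lit 77824, nat_lit 90112, nat_lit 102400, nat_lit 110592, nat_lit 178176, nat_lit 174080, nat_lit 171520, nat_lit 164096, nat_lit 163584, nat_lit 156608, nat_lit 154880, nat_lit 147616, nat_lit 144080, nat_lit 139796, nat_lit 138730, nat_lit 133380, nat_lit 434, nat_lit 6208, nat_lit 9200, nat_lit 13456, nat_lit 17376, nat_lit 20672, nat_lit 26880, nat_lit 32000, nat_lit 33280, nat_lit 37888, nat_lit 45706, nat_lit 41641, nat_lit 37339, nat_lit 33020, nat_lit 28699, nat_lit 24860, nat_lit 20487, nat_lit 16517,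 nat_lit 12309, nat_lit 8194, nat_lit 4100, nat_lit 438281, nat_lit 425991, nat_lit 417797, nat_lit 409602, nat_lit 397312, nat_lit 166400, nat_lit 155904, nat_lit 154112, nat_lit 150368, nat_lit 142160, nat_lit 138068, nat_lit 133798, nat_lit 41415, nat_lit 12289]⟩
def ys23 : El := ⟨[nat_lit 0xaa9f9f395a9430618bd53b3975b80d020a54, nat_lit 0xedb18464d4613db52dc67848345a2c04c48e, nat_lit 0xe8e7db93dc961a821c54059267aa2d0b95a1, nat_lit 0x44414d9b5604d107b88c3896d0655c478552], [nat_lit 77824, nat_lit 81920, nat_lit 102400, nat_lit 106496, nat_lit 110592, nat_lit 178176, nat_lit 173056, nat_lit 168960, nat_lit 166144, nat_lit 162688, nat_lit 158208, nat_lit 153472, nat_lit 151072, nat_lit 143992, nat_lit 139740, nat_lit 136458, nat_lit 131833, nat_lit 3628, nat_lit 6768, nat_lit 8312, nat_lit 13968, nat_lit 17280, nat_lit 21248, nat_lit 26752, nat_lit 28928, nat_lit 38912, nat_lit 45806, nat_lit 41417, nat_lit 39122, nat_lit 33809, nat_lit 28787, nat_lit 24737, nat_lit 20612, nat_lit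 16394, nat_lit 8225, nat_lit 4097, nat_lit 438282, nat_lit 430088, nat_lit 421894, nat_lit 413700, nat_lit 405506, nat_lit 397312, nat_lit 171008, nat_lit 167424, nat_lit 163328, nat_lit 156288, nat_lit 155008, nat_lit 150688, nat_lit 143712, nat_lit 140232, nat_lit 138344, nat_lit 131100]⟩
def yt2 : El := ⟨[nat_lit 0xfcc59088daa9da463b99501437141eb45124, nat_lit 0x48e24119c928b42faacac339544c10015a77, nat_lit 0xf00fff4d5c4a310701646b4ee152c707c44d, nat_lit 0x17db7e23133a8a50745465dc6829ec0a3c2d], [nat_lit 65536, nat_lit 77824, nat_lit 81920, nat_lit 86016, nat_lit 90112, nat_lit 94208, nat_lit 98304, nat_lit 175104, nat_lit 168448, nat_lit 166144, nat_lit 161664, nat_lit 159488, nat_lit 153248, nat_lit 148832, nat_lit 147184, nat_lit 141036, nat_lit 138490, nat_lit 134261, nat_lit 160, nat_lit 5476, nat_lit 9648, nat_lit 15440, nat_lit 20224, nat_lit 22848, nat_lit 26368, nat_lit 30720, nat_lit 35328, nat_lit 39936, nat_lit 43008, nat_lit 46885, nat_lit 43043, nat_lit 37091, nat_lit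 32862, nat_lit 29196, nat_lit 24600, nat_lit 20608, nat_lit 16455, nat_lit 12289, nat_lit 8194, nat_lit 4100, nat_lit 438282, nat_lit 430088, nat_lit 421894, nat_lit 413700, nat_lit 405506, nat_lit 397312, nat_lit 155904, nat_lit 151872, nat_lit 147744, nat_lit 144528, nat_lit 142832, nat_lit 136244, nat_lit 131864, nat_lit 327680]⟩

def yT0 : BT El := (.node (nat_lit 4) (.node (nat_lit 2) (.node (nat_lit 1) (.leaf idE)
 (.leaf xoE))
 (.node (nat_lit 3) (.leaf ytA)
 (.leaf ytB)))
 (.node (nat_lit 6) (.node (nat_lit 5) (.leaf yd1)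
 (.leaf yb1))
 (.node (nat_lit 7) (.leaf ya)
 (.leaf yb2))))

theorem yT0_ok : yT0.all okB = true := by decide +kernel

def yT1 : BT El := (.node (nat_lit 12) (.node (nat_lit 10) (.node (nat_lit 9) (.leaf yc2)
 (.leaf yd2))
 (.node (nat_lit 11) (.leaf yb3)
 (.leaf yc3)))
 (.node (nat_lit 14) (.node (nat_lit 13) (.leaf yd3)
 (.leaf yal))
 (.node (nat_lit 15) (.leaf yu)
 (.leaf yh))))

theorem yT1_ok : yT1.all okB = true := by decide +kernel

def yT2 : BT El := (.node (nat_lit 20) (.node (nat_lit 18) (.node (nat_lit 17) (.leaf yc1g0)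
 (.leaf yc1g1))
 (.node (nat_lit 19) (.leaf yc1g2)
 (.leaf yc1h1)))
 (.node (nat_lit 22) (.node (nat_lit 21) (.leaf yc1h2)
 (.leaf yc1m))
 (.node (nat_lit 23) (.leaf ye1g0)
 (.leaf ye1g1))))

theorem yT2_ok : yT2.all okB = true := by decide +kernel

def yT3 : BT El := (.node (nat_lit 28) (.node (nat_lit 26) (.node (nat_lit 25) (.leaf ye1g2)
 (.leaf ye1h1))
 (.node (nat_lit 27) (.leaf ye1h2)
 (.leaf ye1m)))
 (.node (nat_lit 30) (.node (nat_lit 29) (.leaf ye2g0)
 (.leaf ye2g1))
 (.node (nat_lit 31) (.leaf ye2g2)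
 (.leaf ye2h1))))

theorem yT3_ok : yT3.all okB = true := by decide +kernel

def yT4 : BT El := (.node (nat_lit 36) (.node (nat_lit 34) (.node (nat_lit 33) (.leaf ye2h2)
 (.leaf ye2m))
 (.node (nat_lit 35) (.leaf ys0)
 (.leaf ys1)))
 (.node (nat_lit 38) (.node (nat_lit 37) (.leaf ys2)
 (.leaf ys3))
 (.node (nat_lit 39) (.leaf ys4)
 (.leaf ys5))))

theorem yT4_ok : yT4.all okB = true := by decide +kernel

def yT5 : BT El := (.node (nat_lit 44) (.node (nat_lit 42) (.node (nat_lit 41) (.leaf ys6)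
 (.leaf ys7))
 (.node (nat_lit 43) (.leaf ys8)
 (.leaf ys9)))
 (.node (nat_lit 46) (.node (nat_lit 45) (.leaf ys10)
 (.leaf ys11))
 (.node (nat_lit 47) (.leaf ys12)
 (.leaf ys13))))

theorem yT5_ok : yT5.all okB = true := by decide +kernel

def yT6 : BT El := (.node (nat_lit 52) (.node (nat_lit 50) (.node (nat_lit 49) (.leaf ys14)
 (.leaf ys15))
 (.node (nat_lit 51) (.leaf ys16)
 (.leaf ys17)))
 (.node (nat_lit 54) (.node (nat_lit 53) (.leaf ys18)
 (.leaf ys19))
 (.node (nat_lit 55) (.leaf ys20)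
 (.leaf ys21))))

theorem yT6_ok : yT6.all okB = true := by decide +kernel

def yT7 : BT El := (.node (nat_lit 57) (.leaf ys22)
 (.node (nat_lit 58) (.leaf ys23)
 (.leaf yt2)))

theorem yT7_ok : yT7.all okB = true := by decide +kernel

def yT : BT El := (BT.node (nat_lit 32) (BT.node (nat_lit 16) (BT.node (nat_lit 8) yT0 yT1) (BT.node (nat_lit 24) yT2 yT3)) (BT.node (nat_lit 48) (BT.node (nat_lit 40) yT4 yT5) (BT.node (nat_lit 56) yT6 yT7)))

theorem yT_ok : yT.all okB = true := (BT.all_node (BT.all_node (BT.all_node yT0_ok yT1_ok) (BT.all_node yT2_ok yT3_ok)) (BT.all_node (BT.all_node yT4_ok yT5_ok) (BT.all_node yT6_ok yT7_ok)))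

def lam : List ℕ := [nat_lit 4096, nat_lit 8192, nat_lit 16384, nat_lit 32768, nat_lit 65536, nat_lit 131072, nat_lit 262144, nat_lit 524288, nat_lit 1048576, nat_lit 2097152, nat_lit 4194304, nat_lit 8392704, nat_lit 2048, nat_lit 2049, nat_lit 2050, nat_lit 2052, nat_lit 2056, nat_lit 2064, nat_lit 2080, nat_lit 2112, nat_lit 2176, nat_lit 2304, nat_lit 2560, nat_lit 3072]

def twb1 : TW := ⟨[nat_lit 38, nat_lit 65], [nat_lit 38, nat_lit 65], ⟨[], [nat_lit 168448, nat_lit 131073]⟩⟩

end

end CF.Mon.Tr
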