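import Cfsg.Agent.Mon.YW

set_option autoImplicit false
set_option maxRecDepth 100000

namespace CF.Mon.Tr

open CF.Comp

noncomputable section

def p0 : AP := ⟨[nat_lit 114, nat_lit 110], [], (nat_lit 246), ⟨[nat_lit 11, nat_lit 50], [nat_lit 0, nat_lit 35, nat_lit 90], ⟨[nat_lit 0x3360b7b014b0d28bc831254453ba6a], [nat_lit 173056, nat_lit 166912, nat_lit 160640, nat_lit 155904, nat_lit 154176, nat_lit 151168, nat_lit 146864, nat_lit 141748, nat_lit 137332, nat_lit 132294, nat_lit 1580, nat_lit 5076, nat_lit 9560, nat_lit 13488, nat_lit 18112, nat_lit 21376, nat_lit 24960, nat_lit 28928, nat_lit 33280, nat_lit 41905, nat_lit 37918, nat_lit 32922, nat_lit 29036, nat_lit 24716, nat_lit 20566, nat_lit 16394, nat_lit 12311, nat_lit 8194, nat_lit 4101]⟩⟩⟩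
def l1 : List AP := [⟨[], [], (nat_lit 1034), ⟨[nat_lit 0, nat_lit 4, nat_lit 67], [nat_lit 16, nat_lit 91], ⟨[nat_lit 0xa386a1550f0dd2c2ce30218f25d9a0], [nat_lit 175104, nat_lit 170496, nat_lit 164608, nat_lit 163200, nat_lit 158080, nat_lit 153920, nat_lit 149328, nat_lit 144440, nat_lit 139928, nat_lit 138392, nat_lit 133139, nat_lit 986, nat_lit 5900, nat_lit 9040, nat_lit 12976, nat_lit 18016, nat_lit 21376, nat_lit 24960, nat_lit 30464, nat_lit 34304, nat_lit 37888, nat_lit 41097, nat_lit 37257, nat_lit 33472, nat_lit 28796, nat_lit 24717, nat_lit 20545, nat_lit 16425, nat_lit 12295, nat_lit 8194, nat_lit 8]⟩⟩⟩]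
theorem s1 : Suf yT 12946744 (ldrop wc1_a 7) (apW dcM p0) (tgtN dcM p0.e) := Suf.fin' (l := l1) (by decide +kernel)
def l0 : List AP := [⟨[], [], (nat_lit 40), tw0⟩,
  ⟨[], [], (nat_lit 216), tw0⟩]
theorem rc1_a : Suf yT 12946744 wc1_a [yT.get 16] 0 := Suf.seg (l := l0) (by decide +kernel) s1

def p2 : AP := ⟨[nat_lit 131, nat_lit 111], [], (nat_lit 254), ⟨[nat_lit 0, nat_lit 88, nat_lit 52], [nat_lit 43, nat_lit 65], ⟨[nat_lit 0x2b80a904549dd2b7d60d20d883da26], [nat_lit 164864, nat_lit 160640, nat_lit 156736, nat_lit 153344, nat_lit 149488, nat_lit 145328, nat_lit 141212, nat_lit 137840, nat_lit 131126, nat_lit 1720, nat_lit 4608, nat_lit 9248, nat_lit 14240, nat_lit 16800, nat_lit 21504, nat_lit 26240, nat_lit 29184, nat_lit 33792, nat_lit 41898, nat_lit 36902, nat_lit 34045, nat_lit 29750, nat_lit 24885, nat_lit 20555, nat_lit 16526, nat_lit 12324, nat_lit 8202, nat_lit 4]⟩⟩⟩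
def p3 : AP := ⟨[nat_lit 638, nat_lit 22, nat_lit 24, nat_lit 21], [], (nat_lit 1036), ⟨[nat_lit 0, nat_lit 6, nat_lit 53], [nat_lit 0, nat_lit 20, nat_lit 58], ⟨[nat_lit 0x68d659a9158d0e615a417a40475e0c], [nat_lit 174080, nat_lit 171008, nat_lit 166912, nat_lit 161536, nat_lit 155840, nat_lit 152672, nat_lit 151200, nat_lit 143368, nat_lit 139476, nat_lit 138594, nat_lit 133127, nat_lit 1580, nat_lit 4476, nat_lit 9704, nat_lit 12816, nat_lit 16448, nat_lit 20800, nat_lit 24704, nat_lit 29440, nat_lit 34304, nat_lit 41129, nat_lit 37059, nat_lit 32917, nat_lit 28678, nat_lit 24624, nat_lit 20563, nat_lit 16387, nat_lit 12295, nat_lit 8201, nat_lit 4097]⟩⟩⟩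
def l4 : List AP := [⟨[nat_lit 629, nat_lit 15, nat_lit 39], [], (nat_lit 1032), ⟨[nat_lit 85, nat_lit 56], [nat_lit 43, nat_lit 60], ⟨[nat_lit 0x69cb09d59435c0950c96921eb1442e], [nat_lit 175104, nat_lit 171008, nat_lit 164352, nat_lit 162048, nat_lit 157888, nat_lit 154944, nat_lit 147616, nat_lit 143480, nat_lit 139688, nat_lit 138338, nat_lit 134406, nat_lit 342, nat_lit 6068, nat_lit 9648, nat_lit 13408, nat_lit 18336, nat_lit 20544, nat_lit 25088, nat_lit 29696, nat_lit 37888, nat_lit 41733, nat_lit 38314, nat_lit 32926, nat_lit 28947, nat_lit 24613, nat_lit 20544, nat_lit 16395, nat_lit 12306, nat_lit 8193, nat_lit 4097]⟩⟩⟩]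
theorem s4 : Suf yT 58800 (ldrop wc1_b1 13) (apW dcM p3) (tgtN dcM p3.e) := Suf.fin' (l := l4) (by decide +kernel)
def l3 : List AP := [⟨[nat_lit 134, nat_lit 649, nat_lit 111], [], (nat_lit 254), ⟨[nat_lit 34, nat_lit 92], [nat_lit 36, nat_lit 93], ⟨[nat_lit 0x59a75912ea3bca0a36c160e3043849], [nat_lit 168960, nat_lit 164352, nat_lit 160512, nat_lit 157120, nat_lit 151904, nat_lit 151024, nat_lit 143640, nat_lit 141204, nat_lit 135302, nat_lit 131363, nat_lit 804, nat_lit 5568, nat_lit 10144, nat_lit 12544, nat_lit 16448, nat_lit 22464, nat_lit 26112, nat_lit 28928, nat_lit 33792, nat_lit 37888, nat_lit 41816, nat_lit 37913, nat_lit 33491, nat_lit 28994, nat_lit 24583, nat_lit 20503, nat_lit 13312, nat_lit 4129, nat_lit 32]⟩⟩⟩,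
  ⟨[], [], (nat_lit 217), ⟨[nat_lit 0, nat_lit 22, nat_lit 92], [nat_lit 0, nat_lit 42, nat_lit 67], ⟨[nat_lit 0xa49168b94c5c0204ccc42dc4f3d46d], [nat_lit 174080, nat_lit 171008, nat_lit 166656, nat_lit 162688, nat_lit 157184, nat_lit 153952, nat_lit 149744, nat_lit 144056, nat_lit 142536, nat_lit 135798, nat_lit 132680, nat_lit 1624, nat_lit 4272, nat_lit 10168, nat_lit 12576, nat_lit 16480, nat_lit 21120, nat_lit 25984, nat_lit 30208, nat_lit 33792, nat_lit 41305, nat_lit 37271, nat_lit 33355, nat_lit 28940, nat_lit 24634, nat_lit 20567, nat_lit 16462, nat_lit 12326, nat_lit 8195, nat_lit 4101]⟩⟩⟩]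
theorem s3 : Suf yT 58800 (ldrop wc1_b1 7) (apW dcM p2) (tgtN dcM p2.e) := Suf.seg (l := l3) (by decide +kernel) s4
def l2 : List AP := [⟨[], [], (nat_lit 40), tw0⟩,
  ⟨[], [], (nat_lit 216), tw0⟩]
theorem rc1_b1 : Suf yT 58800 wc1_b1 [yT.get 16] 0 := Suf.seg (l := l2) (by decide +kernel) s3

def p5 : AP := ⟨[], [], (nat_lit 217), ⟨[], [], ⟨[], [nat_lit 164096, nat_lit 147472, nat_lit 143368, nat_lit 139268, nat_lit 135170]⟩⟩⟩
def l6 : List AP := [⟨[], [], (nat_lit 66), ⟨[nat_lit 10], [], ⟨[], [nat_lit 173056, nat_lit 151584, nat_lit 147472, nat_lit 139268, nat_lit 131073]⟩⟩⟩,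
  ⟨[], [], (nat_lit 1034), ⟨[nat_lit 17, nat_lit 56], [nat_lit 0, nat_lit 26, nat_lit 63], ⟨[nat_lit 0xa4895636261dd2f828a858ace09e60], [nat_lit 173056, nat_lit 168448, nat_lit 167680, nat_lit 161792, nat_lit 158016, nat_lit 154112, nat_lit 148976, nat_lit 145416, nat_lit 143268, nat_lit 135182, nat_lit 134098, nat_lit 2, nat_lit 5024, nat_lit 10040, nat_lit 13088, nat_lit 18112, nat_lit 21184, nat_lit 25856, nat_lit 28928, nat_lit 33792, nat_lit 37888, nat_lit 41643, nat_lit 36983, nat_lit 32887, nat_lit 29799, nat_lit 24631, nat_lit 20545, nat_lit 16395, nat_lit 12310, nat_lit 8203, nat_lit 8]⟩⟩⟩,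
  ⟨[nat_lit 627, nat_lit 6, nat_lit 9, nat_lit 625], [], (nat_lit 25), ⟨[nat_lit 0, nat_lit 4, nat_lit 58], [nat_lit 0, nat_lit 83, nat_lit 55], ⟨[nat_lit 0x6c2a0b24943ac6144e46146ec7954e], [nat_lit 174080, nat_lit 166144, nat_lit 162560, nat_lit 159040, nat_lit 152640, nat_lit 148944, nat_lit 143680, nat_lit 143212, nat_lit 137754, nat_lit 132771, nat_lit 166, nat_lit 4720, nat_lit 10032, nat_lit 14304, nat_lit 17152, nat_lit 21824, nat_lit 25984, nat_lit 30208, nat_lit 34304, nat_lit 41094, nat_lit 37270, nat_lit 33296, nat_lit 28773, nat_lit 24614, nat_lit 20481, nat_lit 16392, nat_lit 12294, nat_lit 8194, nat_lit 4097, nat_lit 2]⟩⟩⟩]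
theorem s6 : Suf yT 16801792 (ldrop wc1_d1 7) (apW dcM p5) (tgtN dcM p5.e) := Suf.fin' (l := l6) (by decide +kernel)
def l5 : List AP := [⟨[], [], (nat_lit 40), tw0⟩,
  ⟨[], [], (nat_lit 216), tw0⟩]
theorem rc1_d1 : Suf yT 16801792 wc1_d1 [yT.get 16] 0 := Suf.seg (l := l5) (by decide +kernel) s6

def p7 : AP := ⟨[nat_lit 130, nat_lit 110, nat_lit 651, nat_lit 132], [], (nat_lit 256), ⟨[nat_lit 45, nat_lit 90], [nat_lit 0, nat_lit 7, nat_lit 91], ⟨[nat_lit 0x2186ea4947132b78820d5da6578528], [nat_lit 165376, nat_lit 160256, nat_lit 156992, nat_lit 152992, nat_lit 148368, nat_lit 144448, nat_lit 141028, nat_lit 136422, nat_lit 133091, nat_lit 1438, nat_lit 5572, nat_lit 9664, nat_lit 14176, nat_lit 17120, nat_lit 21888, nat_lit 26112, nat_lit 33280, nat_lit 37888, nat_lit 41827, nat_lit 37293, nat_lit 33338, nat_lit 28721, nat_lit 25634, nat_lit 20613, nat_lit 16420, nat_lit 8194, nat_lit 64]⟩⟩⟩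
def p8 : AP := ⟨[nat_lit 46, nat_lit 55, nat_lit 51], [], (nat_lit 257), ⟨[nat_lit 34, nat_lit 64], [nat_lit 10, nat_lit 58], ⟨[nat_lit 0xa2c5710f2836f560051518749ad2f], [nat_lit 173056, nat_lit 168448, nat_lit 164096, nat_lit 161664, nat_lit 155712, nat_lit 153088, nat_lit 149552, nat_lit 145160, nat_lit 141132, nat_lit 136546, nat_lit 132096, nat_lit 1318, nat_lit 5588, nat_lit 9752, nat_lit 14192, nat_lit 16416, nat_lit 20608, nat_lit 26368, nat_lit 33280, nat_lit 41136, nat_lit 37241, nat_lit 33481, nat_lit 28776, nat_lit 24728, nat_lit 20496, nat_lit 12289, nat_lit 8194, nat_lit 8]⟩⟩⟩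
def l9 : List AP := [⟨[nat_lit 109, nat_lit 135], [], (nat_lit 217), ⟨[nat_lit 0, nat_lit 76, nat_lit 48], [nat_lit 0, nat_lit 33, nat_lit 51], ⟨[nat_lit 0xbca0c0b856425b429aaf8906a99c0b], [nat_lit 175104, nat_lit 169984, nat_lit 167680, nat_lit 162944, nat_lit 156160, nat_lit 155072, nat_lit 150256, nat_lit 145040, nat_lit 141328, nat_lit 137138, nat_lit 131931, nat_lit 986, nat_lit 5228, nat_lit 9096, nat_lit 14144, nat_lit 16608, nat_lit 22016, nat_lit 24960, nat_lit 33792, nat_lit 37888, nat_lit 41196, nat_lit 37072, nat_lit 32948, nat_lit 29024, nat_lit 24719, nat_lit 20494, nat_lit 16389, nat_lit 12327, nat_lit 8208, nat_lit 4097, nat_lit 2]⟩⟩⟩,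
  ⟨[], [], (nat_lit 1034), ⟨[nat_lit 0, nat_lit 27, nat_lit 56], [nat_lit 0, nat_lit 42, nat_lit 54], ⟨[nat_lit 0x8491512c773c5812a8947b936999a0], [nat_lit 173056, nat_lit 169984, nat_lit 167424, nat_lit 163456, nat_lit 158144, nat_lit 153440, nat_lit 151360, nat_lit 147384, nat_lit 139268, nat_lit 138212, nat_lit 131784, nat_lit 986, nat_lit 5684, nat_lit 8680, nat_lit 13424, nat_lit 16672, nat_lit 21632, nat_lit 25856, nat_lit 29440, nat_lit 33280, nat_lit 37888, nat_lit 41898, nat_lit 38388, nat_lit 32934, nat_lit 28756, nat_lit 24621, nat_lit 20546, nat_lit 16525, nat_lit 12291, nat_lit 8194, nat_lit 4101]⟩⟩⟩]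
theorem s9 : Suf yT 12946744 (ldrop wc1_e1 12) (apW dcM p8) (tgtN dcM p8.e) := Suf.fin' (l := l9) (by decide +kernel)
def l8 : List AP := [⟨[nat_lit 642, nat_lit 55, nat_lit 67, nat_lit 48], [], (nat_lit 244), ⟨[nat_lit 2, nat_lit 59], [nat_lit 0, nat_lit 42, nat_lit 52], ⟨[nat_lit 0x6d810088ca8acb31bef23b90ca9134], [nat_lit 173056, nat_lit 169472, nat_lit 160000, nat_lit 156480, nat_lit 152032, nat_lit 148288, nat_lit 142112, nat_lit 136480, nat_lit 132016, nat_lit 1730, nat_lit 5568, nat_lit 8208, nat_lit 13504, nat_lit 16416, nat_lit 20544, nat_lit 24960, nat_lit 41872, nat_lit 37988, nat_lit 33012, nat_lit 28788, nat_lit 24581, nat_lit 20500, nat_lit 16394, nat_lit 12311, nat_lit 8]⟩⟩⟩,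
  ⟨[], [], (nat_lit 245), ⟨[nat_lit 0, nat_lit 29, nat_lit 66], [nat_lit 44, nat_lit 66], ⟨[nat_lit 0x6d810088ca8acb31bef23b90ca9134], [nat_lit 169472, nat_lit 164096, nat_lit 160000, nat_lit 156480, nat_lit 152000, nat_lit 148288, nat_lit 142112, nat_lit 136480, nat_lit 132016, nat_lit 1730, nat_lit 5568, nat_lit 8208, nat_lit 13504, nat_lit 16416, nat_lit 20544, nat_lit 24960, nat_lit 41872, nat_lit 37988, nat_lit 33012, nat_lit 28788, nat_lit 24581, nat_lit 20500, nat_lit 16394, nat_lit 12311, nat_lit 8]⟩⟩⟩]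
theorem s8 : Suf yT 12946744 (ldrop wc1_e1 6) (apW dcM p7) (tgtN dcM p7.e) := Suf.seg (l := l8) (by decide +kernel) s9
def l7 : List AP := [⟨[], [], (nat_lit 40), tw0⟩,
  ⟨[], [], (nat_lit 216), tw0⟩]
theorem rc1_e1 : Suf yT 12946744 wc1_e1 [yT.get 16] 0 := Suf.seg (l := l7) (by decide +kernel) s8

def p10 : AP := ⟨[], [], (nat_lit 217), ⟨[nat_lit 0], [nat_lit 0], ⟨[], [nat_lit 164096, nat_lit 159872, nat_lit 155712, nat_lit 143368, nat_lit 139268, nat_lit 131073]⟩⟩⟩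
def l11 : List AP := [⟨[], [], (nat_lit 1034), ⟨[nat_lit 0], [], ⟨[], [nat_lit 173056, nat_lit 155712, nat_lit 151584, nat_lit 147472, nat_lit 139268]⟩⟩⟩]
theorem s11 : Suf yT 12946744 (ldrop wc1_f1 7) (apW dcM p10) (tgtN dcM p10.e) := Suf.fin' (l := l11) (by decide +kernel)
def l10 : List AP := [⟨[], [], (nat_lit 40), tw0⟩,
  ⟨[], [], (nat_lit 216), tw0⟩]
theorem rc1_f1 : Suf yT 12946744 wc1_f1 [yT.get 16] 0 := Suf.seg (l := l10) (by decide +kernel) s11

def p12 : AP := ⟨[nat_lit 117, nat_lit 109], [], (nat_lit 246), ⟨[nat_lit 0, nat_lit 22, nat_lit 90], [nat_lit 16, nat_lit 70], ⟨[nat_lit 0x69c0b0c2a3a4d28910d65144c7de2e], [nat_lit 173056, nat_lit 168448, nat_lit 164352, nat_lit 160768, nat_lit 158720, nat_lit 153088, nat_lit 147968, nat_lit 143608, nat_lit 141288, nat_lit 135288, nat_lit 131450, nat_lit 960, nat_lit 4924, nat_lit 10224, nat_lit 14112, nat_lit 17664, nat_lit 21760, nat_lit 25088, nat_lit 30464, nat_lit 33280, nat_lit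 41920, nat_lit 37263, nat_lit 32793, nat_lit 28724, nat_lit 24616, nat_lit 20574, nat_lit 16420, nat_lit 8193, nat_lit 4112, nat_lit 4]⟩⟩⟩
def l13 : List AP := [⟨[], [], (nat_lit 1034), ⟨[nat_lit 18, nat_lit 89], [nat_lit 0, nat_lit 1, nat_lit 65], ⟨[nat_lit 0xa4585b1a6f204ea92e02add034b9a0], [nat_lit 175104, nat_lit 161408, nat_lit 156352, nat_lit 151744, nat_lit 149312, nat_lit 144488, nat_lit 139760, nat_lit 135966, nat_lit 132186, nat_lit 1024, nat_lit 4136, nat_lit 9136, nat_lit 12880, nat_lit 17984, nat_lit 21440, nat_lit 25344, nat_lit 29184, nat_lit 34304, nat_lit 41669, nat_lit 37271, nat_lit 33443, nat_lit 29207, nat_lit 25661, nat_lit 20568, nat_lit 16392, nat_lit 12294, nat_lit 4105]⟩⟩⟩]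
theorem s13 : Suf yT 12946744 (ldrop wc1_b2 7) (apW dcM p12) (tgtN dcM p12.e) := Suf.fin' (l := l13) (by decide +kernel)
def l12 : List AP := [⟨[], [], (nat_lit 40), tw0⟩,
  ⟨[], [], (nat_lit 216), tw0⟩]
theorem rc1_b2 : Suf yT 12946744 wc1_b2 [yT.get 16] 0 := Suf.seg (l := l12) (by decide +kernel) s13

def p14 : AP := ⟨[nat_lit 134], [], (nat_lit 246), ⟨[nat_lit 84, nat_lit 59], [nat_lit 29, nat_lit 48], ⟨[nat_lit 0x88ceb698b4abd28b882c02a6474256], [nat_lit 175104, nat_lit 164096, nat_lit 161280, nat_lit 155968, nat_lit 153184, nat_lit 147472, nat_lit 143568, nat_lit 141192, nat_lit 135628, nat_lit 133002, nat_lit 1720, nat_lit 5080, nat_lit 10224, nat_lit 12432, nat_lit 17408, nat_lit 33792, nat_lit 37888, nat_lit 41587, nat_lit 38131, nat_lit 32790, nat_lit 29263, nat_lit 24751, nat_lit 20546, nat_lit 12419, nat_lit 8200, nat_lit 4128]⟩⟩⟩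
def l15 : List AP := [⟨[], [], (nat_lit 1034), ⟨[nat_lit 0, nat_lit 29, nat_lit 53], [nat_lit 41, nat_lit 62], ⟨[nat_lit 0xa54533a6cf0b1d1236e8314725c140], [nat_lit 175104, nat_lit 166656, nat_lit 163072, nat_lit 159424, nat_lit 152800, nat_lit 144736, nat_lit 141312, nat_lit 137380, nat_lit 132219, nat_lit 1478, nat_lit 5904, nat_lit 8848, nat_lit 13440, nat_lit 18016, nat_lit 20672, nat_lit 25344, nat_lit 30464, nat_lit 41158, nat_lit 37209, nat_lit 33311, nat_lit 28750, nat_lit 24622, nat_lit 20545, nat_lit 16911, nat_lit 12292, nat_lit 8194, nat_lit 4097]⟩⟩⟩]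
theorem s15 : Suf yT 12946744 (ldrop wc1_c2 7) (apW dcM p14) (tgtN dcM p14.e) := Suf.fin' (l := l15) (by decide +kernel)
def l14 : List AP := [⟨[], [], (nat_lit 40), tw0⟩,
  ⟨[], [], (nat_lit 216), tw0⟩]
theorem rc1_c2 : Suf yT 12946744 wc1_c2 [yT.get 16] 0 := Suf.seg (l := l14) (by decide +kernel) s15

def p16 : AP := ⟨[nat_lit 110, nat_lit 110], [], (nat_lit 246), ⟨[nat_lit 0, nat_lit 72, nat_lit 66], [nat_lit 0, nat_lit 18, nat_lit 58], ⟨[nat_lit 0x53dab35cb663928392958087198032], [nat_lit 175104, nat_lit 169472, nat_lit 164864, nat_lit 159872, nat_lit 159168, nat_lit 155456, nat_lit 150864, nat_lit 144616, nat_lit 142592, nat_lit 136484, nat_lit 134668, nat_lit 1140, nat_lit 9328, nat_lit 13872, nat_lit 17440, nat_lit 21952, nat_lit 25728, nat_lit 29184, nat_lit 33280, nat_lit 41685, nat_lit 36993, nat_lit 32806, nat_lit 29208, nat_lit 25625, nat_lit 20491, nat_lit 16520, nat_lit 12290, nat_lit 4097]⟩⟩⟩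
def l17 : List AP := [⟨[], [], (nat_lit 1034), ⟨[nat_lit 30, nat_lit 59], [nat_lit 0, nat_lit 72, nat_lit 69], ⟨[nat_lit 0xa114835d8f5866e1b5312c255b1c40], [nat_lit 175104, nat_lit 168448, nat_lit 164864, nat_lit 160128, nat_lit 158336, nat_lit 153888, nat_lit 151360, nat_lit 144944, nat_lit 141844, nat_lit 135688, nat_lit 133283, nat_lit 4, nat_lit 5276, nat_lit 9328, nat_lit 12976, nat_lit 17568, nat_lit 20544, nat_lit 24960, nat_lit 28928, nat_lit 33280, nat_lit 37888, nat_lit 41873, nat_lit 37171, nat_lit 32849, nat_lit 29760, nat_lit 24617, nat_lit 20568, nat_lit 16394, nat_lit 12292, nat_lit 8194, nat_lit 4101, nat_lit 2]⟩⟩⟩]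
theorem s17 : Suf yT 12946744 (ldrop wc1_d2 7) (apW dcM p16) (tgtN dcM p16.e) := Suf.fin' (l := l17) (by decide +kernel)
def l16 : List AP := [⟨[], [], (nat_lit 40), tw0⟩,
  ⟨[], [], (nat_lit 216), tw0⟩]
theorem rc1_d2 : Suf yT 12946744 wc1_d2 [yT.get 16] 0 := Suf.seg (l := l16) (by decide +kernel) s17

def p18 : AP := ⟨[nat_lit 134, nat_lit 117, nat_lit 130], [], (nat_lit 255), ⟨[nat_lit 0, nat_lit 21, nat_lit 70], [nat_lit 0, nat_lit 85, nat_lit 60], ⟨[nat_lit 0x712aab34c81c1690c98fa02f13cca2], [nat_lit 168960, nat_lit 167680, nat_lit 163712, nat_lit 158656, nat_lit 155520, nat_lit 147952, nat_lit 147312, nat_lit 142568, nat_lit 135686, nat_lit 133449, nat_lit 488, nat_lit 4900, nat_lit 8320, nat_lit 13056, nat_lit 17472, nat_lit 22080, nat_lit 25344, nat_lit 28928, nat_lit 33280, nat_lit 37888, nat_lit 41004, nat_lit 37253, nat_lit 32941, nat_lit 28760, nat_lit 24733, nat_lit 20759, nat_lit 16431, nat_lit 12324, nat_lit 8194, nat_lit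 4101]⟩⟩⟩
def p19 : AP := ⟨[nat_lit 119, nat_lit 111], [], (nat_lit 254), ⟨[nat_lit 0, nat_lit 41, nat_lit 58], [nat_lit 87, nat_lit 65], ⟨[nat_lit 0x9500a33ed5611690b84589db040ef3], [nat_lit 175104, nat_lit 171008, nat_lit 166912, nat_lit 160000, nat_lit 159360, nat_lit 154720, nat_lit 149344, nat_lit 145560, nat_lit 140852, nat_lit 135482, nat_lit 131322, nat_lit 1318, nat_lit 5688, nat_lit 8760, nat_lit 13920, nat_lit 18368, nat_lit 22336, nat_lit 24832, nat_lit 29440, nat_lit 34304, nat_lit 41745, nat_lit 37239, nat_lit 33535, nat_lit 29043, nat_lit 24597, nat_lit 20485, nat_lit 16461, nat_lit 8225, nat_lit 4097]⟩⟩⟩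
def l20 : List AP := [⟨[nat_lit 133, nat_lit 137, nat_lit 109], [], (nat_lit 246), ⟨[nat_lit 0, nat_lit 11, nat_lit 94], [nat_lit 0, nat_lit 30, nat_lit 55], ⟨[nat_lit 0xd0c874af56452b81da49804fb0d45], [nat_lit 173056, nat_lit 169472, nat_lit 165120, nat_lit 160256, nat_lit 156416, nat_lit 153344, nat_lit 147728, nat_lit 143744, nat_lit 140908, nat_lit 136560, nat_lit 132827, nat_lit 1938, nat_lit 5544, nat_lit 8200, nat_lit 14304, nat_lit 16864, nat_lit 22208, nat_lit 26240, nat_lit 28928, nat_lit 34304, nat_lit 37888, nat_lit 41083, nat_lit 37319, nat_lit 32816, nat_lit 29291, nat_lit 25110, nat_lit 20620, nat_lit 16457, nat_lit 12307, nat_lit 8320, nat_lit 4104, nat_lit 2]⟩⟩⟩,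
  ⟨[], [], (nat_lit 1034), ⟨[nat_lit 0, nat_lit 72, nat_lit 94], [nat_lit 0, nat_lit 84, nat_lit 58], ⟨[nat_lit 0x7c25772d54614d549c510cd046d860], [nat_lit 171008, nat_lit 167424, nat_lit 162048, nat_lit 159168, nat_lit 152064, nat_lit 150368, nat_lit 146424, nat_lit 140692, nat_lit 138468, nat_lit 132921, nat_lit 986, nat_lit 5072, nat_lit 9040, nat_lit 12976, nat_lit 16416, nat_lit 22272, nat_lit 24832, nat_lit 29440, nat_lit 33280, nat_lit 37888, nat_lit 41823, nat_lit 37059, nat_lit 32922, nat_lit 28698, nat_lit 25145, nat_lit 20485, nat_lit 16448, nat_lit 12293, nat_lit 8200]⟩⟩⟩]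
theorem s20 : Suf yT 12946744 (ldrop wc1_e2 12) (apW dcM p19) (tgtN dcM p19.e) := Suf.fin' (l := l20) (by decide +kernel)
def l19 : List AP := [⟨[nat_lit 117, nat_lit 118, nat_lit 653, nat_lit 116], [], (nat_lit 258), ⟨[nat_lit 0, nat_lit 43, nat_lit 59], [nat_lit 0, nat_lit 76, nat_lit 66], ⟨[nat_lit 0x6557485c2468d2238236449f3538c5], [nat_lit 174080, nat_lit 168448, nat_lit 165120, nat_lit 160512, nat_lit 159104, nat_lit 153920, nat_lit 150896, nat_lit 143424, nat_lit 141684, nat_lit 135452, nat_lit 134455, nat_lit 1268, nat_lit 6116, nat_lit 10032, nat_lit 12896, nat_lit 17408, nat_lit 20608, nat_lit 24704, nat_lit 29952, nat_lit 33280, nat_lit 41857, nat_lit 37335, nat_lit 33355, nat_lit 28681, nat_lit 25094, nat_lit 20481, nat_lit 16463, nat_lit 12308, nat_lit 8193, nat_lit 4105]⟩⟩⟩,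
  ⟨[nat_lit 119, nat_lit 649, nat_lit 135, nat_lit 115], [], (nat_lit 258), ⟨[nat_lit 0, nat_lit 21, nat_lit 92], [nat_lit 31, nat_lit 93], ⟨[nat_lit 0x30f0554c4a2441b350e5ce5778e25], [nat_lit 174080, nat_lit 169984, nat_lit 164864, nat_lit 162176, nat_lit 158464, nat_lit 155040, nat_lit 148288, nat_lit 143776, nat_lit 140160, nat_lit 137452, nat_lit 135116, nat_lit 1634, nat_lit 4116, nat_lit 10168, nat_lit 14304, nat_lit 16896, nat_lit 22400, nat_lit 25088, nat_lit 33280, nat_lit 37888, nat_lit 41748, nat_lit 38293, nat_lit 34041, nat_lit 28673, nat_lit 24892, nat_lit 20748, nat_lit 16451, nat_lit 12289, nat_lit 8448, nat_lit 4113]⟩⟩⟩]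
theorem s19 : Suf yT 12946744 (ldrop wc1_e2 6) (apW dcM p18) (tgtN dcM p18.e) := Suf.seg (l := l19) (by decide +kernel) s20
def l18 : List AP := [⟨[], [], (nat_lit 40), tw0⟩,
  ⟨[], [], (nat_lit 216), tw0⟩]
theorem rc1_e2 : Suf yT 12946744 wc1_e2 [yT.get 16] 0 := Suf.seg (l := l18) (by decide +kernel) s19

def p21 : AP := ⟨[], [], (nat_lit 217), ⟨[], [nat_lit 0], ⟨[], [nat_lit 159872, nat_lit 155712, nat_lit 147472, nat_lit 135170, nat_lit 131073]⟩⟩⟩
def l22 : List AP := [⟨[], [], (nat_lit 1034), ⟨[], [], ⟨[], [nat_lit 155712, nat_lit 131073]⟩⟩⟩]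
theorem s22 : Suf yT 12946744 (ldrop wc1_f2 7) (apW dcM p21) (tgtN dcM p21.e) := Suf.fin' (l := l22) (by decide +kernel)
def l21 : List AP := [⟨[], [], (nat_lit 40), tw0⟩,
  ⟨[], [], (nat_lit 216), tw0⟩]
theorem rc1_f2 : Suf yT 12946744 wc1_f2 [yT.get 16] 0 := Suf.seg (l := l21) (by decide +kernel) s22

def p23 : AP := ⟨[nat_lit 117, nat_lit 109], [], (nat_lit 246), ⟨[nat_lit 28, nat_lit 46], [nat_lit 79, nat_lit 56], ⟨[nat_lit 0x6944b1cac1bc5288189551c0c7d26e], [nat_lit 168448, nat_lit 164608, nat_lit 159872, nat_lit 157120, nat_lit 152096, nat_lit 148208, nat_lit 143664, nat_lit 140636, nat_lit 135666, nat_lit 133077, nat_lit 1530, nat_lit 5768, nat_lit 10128, nat_lit 14176, nat_lit 17760, nat_lit 24960, nat_lit 37888, nat_lit 41877, nat_lit 37035, nat_lit 32793, nat_lit 29240, nat_lit 24618, nat_lit 20498, nat_lit 16420, nat_lit 8210, nat_lit 4113, nat_lit 2]⟩⟩⟩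
def l24 : List AP := [⟨[], [], (nat_lit 1034), ⟨[nat_lit 0, nat_lit 84], [nat_lit 0, nat_lit 41, nat_lit 67], ⟨[nat_lit 0xa44856de0f61c2a4ae751190e90ec0], [nat_lit 175104, nat_lit 169472, nat_lit 164608, nat_lit 160000, nat_lit 158656, nat_lit 155040, nat_lit 150736, nat_lit 144008, nat_lit 141984, nat_lit 136308, nat_lit 133697, nat_lit 8, nat_lit 5208, nat_lit 9328, nat_lit 16736, nat_lit 22464, nat_lit 25344, nat_lit 28928, nat_lit 40973, nat_lit 37197, nat_lit 32990, nat_lit 29011, nat_lit 24891, nat_lit 20552, nat_lit 16647, nat_lit 12293, nat_lit 8193, nat_lit 4352, nat_lit 4]⟩⟩⟩]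
theorem s24 : Suf yT 12946744 (ldrop wc1_b3 7) (apW dcM p23) (tgtN dcM p23.e) := Suf.fin' (l := l24) (by decide +kernel)
def l23 : List AP := [⟨[], [], (nat_lit 40), tw0⟩,
  ⟨[], [], (nat_lit 216), tw0⟩]
theorem rc1_b3 : Suf yT 12946744 wc1_b3 [yT.get 16] 0 := Suf.seg (l := l23) (by decide +kernel) s24

def p25 : AP := ⟨[nat_lit 120], [], (nat_lit 246), ⟨[nat_lit 45, nat_lit 68], [nat_lit 27, nat_lit 94], ⟨[nat_lit 0xab84bb854d34d28b524428e2061df0], [nat_lit 164864, nat_lit 161664, nat_lit 155776, nat_lit 153216, nat_lit 148624, nat_lit 143672, nat_lit 139372, nat_lit 139198, nat_lit 131369, nat_lit 1246, nat_lit 5992, nat_lit 9744, nat_lit 14112, nat_lit 16640, nat_lit 21952, nat_lit 24960, nat_lit 29440, nat_lit 33280, nat_lit 37888, nat_lit 41890, nat_lit 38229, nat_lit 32986, nat_lit 28746, nat_lit 24625, nat_lit 20504, nat_lit 16421, nat_lit 12292, nat_lit 8203, nat_lit 4]⟩⟩⟩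
def l26 : List AP := [⟨[], [], (nat_lit 1034), ⟨[nat_lit 0, nat_lit 83], [nat_lit 83, nat_lit 47], ⟨[nat_lit 0xa096d995cf60ea99290681ef620620], [nat_lit 173056, nat_lit 168448, nat_lit 165376, nat_lit 162304, nat_lit 157056, nat_lit 153120, nat_lit 148912, nat_lit 145328, nat_lit 140092, nat_lit 135674, nat_lit 132633, nat_lit 128, nat_lit 4608, nat_lit 9064, nat_lit 12832, nat_lit 16512, nat_lit 22272, nat_lit 25984, nat_lit 29184, nat_lit 33280, nat_lit 41975, nat_lit 38283, nat_lit 33911, nat_lit 28733, nat_lit 24584, nat_lit 20632, nat_lit 16393, nat_lit 12305, nat_lit 8227, nat_lit 4100]⟩⟩⟩]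
theorem s26 : Suf yT 12946744 (ldrop wc1_c3 7) (apW dcM p25) (tgtN dcM p25.e) := Suf.fin' (l := l26) (by decide +kernel)
def l25 : List AP := [⟨[], [], (nat_lit 40), tw0⟩,
  ⟨[], [], (nat_lit 216), tw0⟩]
theorem rc1_c3 : Suf yT 12946744 wc1_c3 [yT.get 16] 0 := Suf.seg (l := l25) (by decide +kernel) s26

def p27 : AP := ⟨[nat_lit 110, nat_lit 110], [], (nat_lit 246), ⟨[nat_lit 0, nat_lit 72, nat_lit 48], [nat_lit 0, nat_lit 18, nat_lit 58], ⟨[nat_lit 0x535eb254f47312829ad780c5198412], [nat_lit 174080, nat_lit 171520, nat_lit 165632, nat_lit 162176, nat_lit 159488, nat_lit 154464, nat_lit 149168, nat_lit 144400, nat_lit 139812, nat_lit 137702, nat_lit 134043, nat_lit 1762, nat_lit 5856, nat_lit 8776, nat_lit 13264, nat_lit 17280, nat_lit 22208, nat_lit 26240, nat_lit 28928, nat_lit 33280, nat_lit 41433, nat_lit 37108, nat_lit 32814, nat_lit 29289, nat_lit 24609, nat_lit 20491, nat_lit 16524, nat_lit 12327, nat_lit 8203]⟩⟩⟩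
def l28 : List AP := [⟨[], [], (nat_lit 1034), ⟨[nat_lit 0, nat_lit 6, nat_lit 91], [nat_lit 0, nat_lit 12, nat_lit 67], ⟨[nat_lit 0xa39481546f5cc2464ad129db74c0c0], [nat_lit 175104, nat_lit 171008, nat_lit 164608, nat_lit 161920, nat_lit 159040, nat_lit 153984, nat_lit 147904, nat_lit 143896, nat_lit 139680, nat_lit 138326, nat_lit 134944, nat_lit 1024, nat_lit 5856, nat_lit 9056, nat_lit 14112, nat_lit 18176, nat_lit 20608, nat_lit 25600, nat_lit 30208, nat_lit 33280, nat_lit 37888, nat_lit 41404, nat_lit 37291, nat_lit 33448, nat_lit 29189, nat_lit 24587, nat_lit 20621, nat_lit 16390, nat_lit 12358, nat_lit 8202, nat_lit 4097, nat_lit 2]⟩⟩⟩]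
theorem s28 : Suf yT 12946744 (ldrop wc1_d3 7) (apW dcM p27) (tgtN dcM p27.e) := Suf.fin' (l := l28) (by decide +kernel)
def l27 : List AP := [⟨[], [], (nat_lit 40), tw0⟩,
  ⟨[], [], (nat_lit 216), tw0⟩]
theorem rc1_d3 : Suf yT 12946744 wc1_d3 [yT.get 16] 0 := Suf.seg (l := l27) (by decide +kernel) s28

def p29 : AP := ⟨[], [], (nat_lit 91), ⟨[nat_lit 9, nat_lit 57], [nat_lit 0], ⟨[nat_lit 0x15aa14ae3021d8d92a68714cf1de80], [nat_lit 173056, nat_lit 171520, nat_lit 167424, nat_lit 162176, nat_lit 158400, nat_lit 152128, nat_lit 149936, nat_lit 145888, nat_lit 139130, nat_lit 131912, nat_lit 986, nat_lit 5112, nat_lit 9328, nat_lit 12320, nat_lit 17536, nat_lit 22336, nat_lit 25600, nat_lit 29696, nat_lit 33280, nat_lit 41442, nat_lit 37218, nat_lit 33280, nat_lit 29696, nat_lit 24704, nat_lit 20504, nat_lit 16418, nat_lit 12290, nat_lit 8193]⟩⟩⟩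
def l30 : List AP := [⟨[nat_lit 630], [], (nat_lit 1032), ⟨[nat_lit 0, nat_lit 35, nat_lit 61], [nat_lit 0, nat_lit 15, nat_lit 67], ⟨[nat_lit 0x2a84199a2b03a544348fbd9271b2b0], [nat_lit 175104, nat_lit 168960, nat_lit 165120, nat_lit 161536, nat_lit 156416, nat_lit 151936, nat_lit 148944, nat_lit 144488, nat_lit 140644, nat_lit 136908, nat_lit 133008, nat_lit 1698, nat_lit 4476, nat_lit 8824, nat_lit 13312, nat_lit 17536, nat_lit 22272, nat_lit 25600, nat_lit 29696, nat_lit 33280, nat_lit 37888, nat_lit 41375, nat_lit 34039, nat_lit 29733, nat_lit 24606, nat_lit 20636, nat_lit 16459, nat_lit 8211, nat_lit 4101, nat_lit 2]⟩⟩⟩]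
theorem s30 : Suf yT 19005990 (ldrop we1_a 7) (apW dcM p29) (tgtN dcM p29.e) := Suf.fin' (l := l30) (by decide +kernel)
def l29 : List AP := [⟨[], [], (nat_lit 26), tw0⟩,
  ⟨[], [], (nat_lit 90), tw0⟩]
theorem re1_a : Suf yT 19005990 we1_a [yT.get 22] 0 := Suf.seg (l := l29) (by decide +kernel) s30

def p31 : AP := ⟨[], [], (nat_lit 91), ⟨[nat_lit 0, nat_lit 8, nat_lit 92], [nat_lit 0, nat_lit 44, nat_lit 92], ⟨[nat_lit 0xb88f3a02254b98d5a9e8a9a011d892], [nat_lit 173056, nat_lit 160256, nat_lit 156224, nat_lit 147520, nat_lit 143368, nat_lit 139284, nat_lit 135736, nat_lit 134150, nat_lit 4112, nat_lit 8416, nat_lit 21120, nat_lit 24704, nat_lit 40961, nat_lit 36865, nat_lit 32769, nat_lit 28737, nat_lit 24704, nat_lit 20510, nat_lit 16387, nat_lit 12289, nat_lit 8226, nat_lit 4112]⟩⟩⟩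
def l32 : List AP := [⟨[nat_lit 631, nat_lit 15, nat_lit 36], [], (nat_lit 1032), ⟨[nat_lit 0, nat_lit 77, nat_lit 53], [nat_lit 0, nat_lit 5, nat_lit 64], ⟨[nat_lit 0x79c418aaa0bb894458705a5a693265], [nat_lit 174080, nat_lit 171008, nat_lit 167424, nat_lit 160512, nat_lit 157568, nat_lit 153024, nat_lit 151504, nat_lit 145232, nat_lit 140868, nat_lit 137404, nat_lit 134864, nat_lit 1938, nat_lit 5344, nat_lit 9560, nat_lit 13424, nat_lit 18272, nat_lit 21568, nat_lit 25472, nat_lit 29696, nat_lit 33280, nat_lit 41103, nat_lit 37008, nat_lit 32833, nat_lit 28742, nat_lit 24724, nat_lit 20483, nat_lit 16451, nat_lit 13318, nat_lit 8195, nat_lit 4101]⟩⟩⟩]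
theorem s32 : Suf yT 19005990 (ldrop we1_b1 7) (apW dcM p31) (tgtN dcM p31.e) := Suf.fin' (l := l32) (by decide +kernel)
def l31 : List AP := [⟨[], [], (nat_lit 26), tw0⟩,
  ⟨[], [], (nat_lit 90), tw0⟩]
theorem re1_b1 : Suf yT 19005990 we1_b1 [yT.get 22] 0 := Suf.seg (l := l31) (by decide +kernel) s32

def p33 : AP := ⟨[], [], (nat_lit 91), ⟨[nat_lit 0, nat_lit 40], [], ⟨[], [nat_lit 168448, nat_lit 159872, nat_lit 155712, nat_lit 151584, nat_lit 143368, nat_lit 135170]⟩⟩⟩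
def l34 : List AP := [⟨[nat_lit 633, nat_lit 629, nat_lit 41, nat_lit 40, nat_lit 633, nat_lit 14], [], (nat_lit 123), ⟨[nat_lit 0, nat_lit 41, nat_lit 53], [nat_lit 0, nat_lit 43, nat_lit 65], ⟨[nat_lit 0xb2c0e89128988e17b245a346a81af5], [nat_lit 173056, nat_lit 168448, nat_lit 165120, nat_lit 161408, nat_lit 156864, nat_lit 151680, nat_lit 149792, nat_lit 143472, nat_lit 141176, nat_lit 135426, nat_lit 132189, nat_lit 1778, nat_lit 4756, nat_lit 9136, nat_lit 12352, nat_lit 16864, nat_lit 21952, nat_lit 24832, nat_lit 28928, nat_lit 33792, nat_lit 37888, nat_lit 41467, nat_lit 36930, nat_lit 32944, nat_lit 29000, nat_lit 24712, nat_lit 20500, nat_lit 16385, nat_lit 12416, nat_lit 8224, nat_lit 4097]⟩⟩⟩,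
  ⟨[], [], (nat_lit 122), ⟨[nat_lit 0, nat_lit 14, nat_lit 46], [nat_lit 13, nat_lit 70], ⟨[nat_lit 0xb2c0e89128988e17b245a346a81af5], [nat_lit 173056, nat_lit 168448, nat_lit 164864, nat_lit 161408, nat_lit 156864, nat_lit 151680, nat_lit 149792, nat_lit 143472, nat_lit 141176, nat_lit 135426, nat_lit 132189, nat_lit 1778, nat_lit 4756, nat_lit 9136, nat_lit 12352, nat_lit 16864, nat_lit 21952, nat_lit 24832, nat_lit 28928, nat_lit 33792, nat_lit 37888, nat_lit 41467, nat_lit 36930, nat_lit 32944, nat_lit 29000, nat_lit 24712, nat_lit 20500, nat_lit 16385, nat_lit 12416, nat_lit 8224, nat_lit 4097]⟩⟩⟩,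
  ⟨[nat_lit 633, nat_lit 41], [], (nat_lit 1032), ⟨[nat_lit 5, nat_lit 93], [nat_lit 43, nat_lit 46], ⟨[nat_lit 0x3bd6e8dc0dac04c91269b20d41a825], [nat_lit 175104, nat_lit 164352, nat_lit 160640, nat_lit 158976, nat_lit 155104, nat_lit 151248, nat_lit 143544, nat_lit 142148, nat_lit 137066, nat_lit 134215, nat_lit 1268, nat_lit 4224, nat_lit 9184, nat_lit 12416, nat_lit 17504, nat_lit 20608, nat_lit 24960, nat_lit 29696, nat_lit 34304, nat_lit 37888, nat_lit 41857, nat_lit 37108, nat_lit 33830, nat_lit 28673, nat_lit 24632, nat_lit 20501, nat_lit 16420, nat_lit 12289, nat_lit 8194, nat_lit 4097]⟩⟩⟩]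
theorem s34 : Suf yT 16801792 (ldrop we1_d1 7) (apW dcM p33) (tgtN dcM p33.e) := Suf.fin' (l := l34) (by decide +kernel)
def l33 : List AP := [⟨[], [], (nat_lit 26), tw0⟩,
  ⟨[], [], (nat_lit 90), tw0⟩]
theorem re1_d1 : Suf yT 16801792 we1_d1 [yT.get 22] 0 := Suf.seg (l := l33) (by decide +kernel) s34

def p35 : AP := ⟨[], [], (nat_lit 91), ⟨[nat_lit 0, nat_lit 40], [], ⟨[], [nat_lit 168448, nat_lit 151584, nat_lit 147472, nat_lit 143368, nat_lit 131073]⟩⟩⟩
def l36 : List AP := [⟨[nat_lit 633, nat_lit 629, nat_lit 41, nat_lit 40, nat_lit 633, nat_lit 14], [], (nat_lit 123), ⟨[nat_lit 0, nat_lit 45, nat_lit 53], [nat_lit 0, nat_lit 43, nat_lit 65], ⟨[nat_lit 0xb2c0e89128988e17b245a346a81af5], [nat_lit 173056, nat_lit 168448, nat_lit 164864, nat_lit 161280, nat_lit 156800, nat_lit 151680, nat_lit 149792, nat_lit 143472, nat_lit 141180, nat_lit 135424, nat_lit 132189, nat_lit 1778, nat_lit 4756, nat_lit 9136, nat_lit 12352, nat_lit 16864,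 nat_lit 21952, nat_lit 24832, nat_lit 28928, nat_lit 33792, nat_lit 37888, nat_lit 41467, nat_lit 36930, nat_lit 32944, nat_lit 29000, nat_lit 24712, nat_lit 20500, nat_lit 16385, nat_lit 12416, nat_lit 8224, nat_lit 4097]⟩⟩⟩,
  ⟨[], [], (nat_lit 122), ⟨[nat_lit 0, nat_lit 74, nat_lit 46], [nat_lit 0, nat_lit 4, nat_lit 70], ⟨[nat_lit 0xb2c0e89128988e17b245a346a81af5], [nat_lit 168448, nat_lit 164864, nat_lit 161280, nat_lit 156800, nat_lit 151712, nat_lit 149792, nat_lit 143480, nat_lit 141180, nat_lit 135426, nat_lit 132189, nat_lit 1778, nat_lit 4756, nat_lit 9136, nat_lit 12352, nat_lit 16864, nat_lit 21952, nat_lit 24832, nat_lit 28928, nat_lit 33792, nat_lit 37888, nat_lit 41467, nat_lit 36930, nat_lit 32944, nat_lit 29000, nat_lit 24712, nat_lit 20500, nat_lit 16385, nat_lit 12416, nat_lit 8224, nat_lit 4097]⟩⟩⟩,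
  ⟨[nat_lit 633, nat_lit 41], [], (nat_lit 1032), ⟨[nat_lit 0, nat_lit 81, nat_lit 58], [nat_lit 0, nat_lit 43, nat_lit 46], ⟨[nat_lit 0x3bd6e8dc0dac04c91269b20d41a825], [nat_lit 174080, nat_lit 168448, nat_lit 164608, nat_lit 160512, nat_lit 159040, nat_lit 155104, nat_lit 151248, nat_lit 143536, nat_lit 142148, nat_lit 137066, nat_lit 134214, nat_lit 1268, nat_lit 4224, nat_lit 9184, nat_lit 12416, nat_lit 17504, nat_lit 20608, nat_lit 24960, nat_lit 29696, nat_lit 34304, nat_lit 37888, nat_lit 41857, nat_lit 37108, nat_lit 33830, nat_lit 28673, nat_lit 24632, nat_lit 20501, nat_lit 16420, nat_lit 12289, nat_lit 8194, nat_lit 4097]⟩⟩⟩]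
theorem s36 : Suf yT 20480 (ldrop we1_f1 7) (apW dcM p35) (tgtN dcM p35.e) := Suf.fin' (l := l36) (by decide +kernel)
def l35 : List AP := [⟨[], [], (nat_lit 26), tw0⟩,
  ⟨[], [], (nat_lit 90), tw0⟩]
theorem re1_f1 : Suf yT 20480 we1_f1 [yT.get 22] 0 := Suf.seg (l := l35) (by decide +kernel) s36

def p37 : AP := ⟨[nat_lit 47], [], (nat_lit 122), ⟨[nat_lit 0, nat_lit 87, nat_lit 59], [nat_lit 4, nat_lit 61], ⟨[nat_lit 0xabe531a8f00c4c9236c5702e24518b], [nat_lit 174080, nat_lit 171008, nat_lit 167424, nat_lit 160512, nat_lit 157632, nat_lit 153280, nat_lit 150896, nat_lit 144664, nat_lit 139988, nat_lit 138048, nat_lit 134836, nat_lit 1224, nat_lit 4380, nat_lit 8928, nat_lit 13968, nat_lit 17696, nat_lit 20736, nat_lit 24832, nat_lit 29696, nat_lit 33792, nat_lit 41566, nat_lit 37340, nat_lit 32935, nat_lit 28778, nat_lit 24615, nat_lit 20492, nat_lit 16911, nat_lit 12323, nat_lit 8195, nat_lit 4100]⟩⟩⟩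
def l38 : List AP := [⟨[nat_lit 41, nat_lit 630], [], (nat_lit 1032), ⟨[nat_lit 77, nat_lit 59], [nat_lit 0, nat_lit 40, nat_lit 64], ⟨[nat_lit 0x8266165e25539e2219603b6561d688], [nat_lit 174080, nat_lit 168448, nat_lit 165632, nat_lit 161152, nat_lit 159168, nat_lit 153856, nat_lit 150240, nat_lit 143832, nat_lit 143260, nat_lit 136396, nat_lit 133738, nat_lit 1396, nat_lit 5044, nat_lit 10216, nat_lit 12544, nat_lit 17760, nat_lit 20736, nat_lit 26368, nat_lit 41976, nat_lit 37121, nat_lit 33020, nat_lit 29053, nat_lit 24893, nat_lit 20511, nat_lit 16427, nat_lit 12289, nat_lit 8210, nat_lit 4101]⟩⟩⟩]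
theorem s38 : Suf yT 19005990 (ldrop we1_b2 7) (apW dcM p37) (tgtN dcM p37.e) := Suf.fin' (l := l38) (by decide +kernel)
def l37 : List AP := [⟨[], [], (nat_lit 26), tw0⟩,
  ⟨[], [], (nat_lit 90), tw0⟩]
theorem re1_b2 : Suf yT 19005990 we1_b2 [yT.get 22] 0 := Suf.seg (l := l37) (by decide +kernel) s38

def p39 : AP := ⟨[nat_lit 54, nat_lit 46], [], (nat_lit 122), ⟨[nat_lit 0, nat_lit 2, nat_lit 57], [nat_lit 5, nat_lit 91], ⟨[nat_lit 0x1498ea950da3d265cc6a85c3638224], [nat_lit 173056, nat_lit 164096, nat_lit 161920, nat_lit 157440, nat_lit 152256, nat_lit 147968, nat_lit 145056, nat_lit 140868, nat_lit 136588, nat_lit 131876, nat_lit 16, nat_lit 5772, nat_lit 10144, nat_lit 12448, nat_lit 16896, nat_lit 22208, nat_lit 24960, nat_lit 34304, nat_lit 37888, nat_lit 41669, nat_lit 37248, nat_lit 33423, nat_lit 29198, nat_lit 25656, nat_lit 20553, nat_lit 16429, nat_lit 12306, nat_lit 8225, nat_lit 4105, nat_lit 4]⟩⟩⟩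
def l40 : List AP := [⟨[nat_lit 630, nat_lit 36], [], (nat_lit 1032), ⟨[nat_lit 21, nat_lit 91], [nat_lit 0, nat_lit 28, nat_lit 58], ⟨[nat_lit 0x82eac11dcf1c4d3015286c956bd024], [nat_lit 175104, nat_lit 168960, nat_lit 165632, nat_lit 161792, nat_lit 156224, nat_lit 152640, nat_lit 149952, nat_lit 145784, nat_lit 142780, nat_lit 139004, nat_lit 135000, nat_lit 1166, nat_lit 4112, nat_lit 9728, nat_lit 12528, nat_lit 16416, nat_lit 22208, nat_lit 25216, nat_lit 30464, nat_lit 33792, nat_lit 41073, nat_lit 37093, nat_lit 32881, nat_lit 28764, nat_lit 24725, nat_lit 20766, nat_lit 16390, nat_lit 12290, nat_lit 8211, nat_lit 4097]⟩⟩⟩]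
theorem s40 : Suf yT 19005990 (ldrop we1_c2 7) (apW dcM p39) (tgtN dcM p39.e) := Suf.fin' (l := l40) (by decide +kernel)
def l39 : List AP := [⟨[], [], (nat_lit 26), tw0⟩,
  ⟨[], [], (nat_lit 90), tw0⟩]
theorem re1_c2 : Suf yT 19005990 we1_c2 [yT.get 22] 0 := Suf.seg (l := l39) (by decide +kernel) s40

def p41 : AP := ⟨[nat_lit 54], [], (nat_lit 122), ⟨[nat_lit 14, nat_lit 58], [nat_lit 0, nat_lit 78, nat_lit 68], ⟨[nat_lit 0x14af5a1d4cb3526206259bc0e4406b], [nat_lit 174080, nat_lit 169472, nat_lit 164096, nat_lit 163328, nat_lit 157568, nat_lit 152704, nat_lit 151136, nat_lit 145584, nat_lit 141444, nat_lit 138878, nat_lit 134078, nat_lit 1860, nat_lit 5072, nat_lit 10224, nat_lit 12544, nat_lit 17472, nat_lit 20800, nat_lit 24832, nat_lit 29696, nat_lit 33792, nat_lit 41507, nat_lit 38239, nat_lit 32907, nat_lit 28734, nat_lit 24597, nat_lit 20626, nat_lit 16458, nat_lit 12291, nat_lit 8208, nat_lit 4097]⟩⟩⟩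
def l42 : List AP := [⟨[nat_lit 41, nat_lit 630], [], (nat_lit 1032), ⟨[nat_lit 1, nat_lit 62], [nat_lit 9, nat_lit 62], ⟨[nat_lit 0x53c4e6163780533311603c9b645683], [nat_lit 168448, nat_lit 164096, nat_lit 163712, nat_lit 156288, nat_lit 152704, nat_lit 147760, nat_lit 144688, nat_lit 139448, nat_lit 135170, nat_lit 132464, nat_lit 1770, nat_lit 5232, nat_lit 10168, nat_lit 12544, nat_lit 16736, nat_lit 20736, nat_lit 25728, nat_lit 28928, nat_lit 33792, nat_lit 37888, nat_lit 41344, nat_lit 37248, nat_lit 33403, nat_lit 28751, nat_lit 24760, nat_lit 20571, nat_lit 16452, nat_lit 12324, nat_lit 8225, nat_lit 4113, nat_lit 4]⟩⟩⟩]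
theorem s42 : Suf yT 19005990 (ldrop we1_d2 7) (apW dcM p41) (tgtN dcM p41.e) := Suf.fin' (l := l42) (by decide +kernel)
def l41 : List AP := [⟨[], [], (nat_lit 26), tw0⟩,
  ⟨[], [], (nat_lit 90), tw0⟩]
theorem re1_d2 : Suf yT 19005990 we1_d2 [yT.get 22] 0 := Suf.seg (l := l41) (by decide +kernel) s42

def p43 : AP := ⟨[nat_lit 54, nat_lit 70, nat_lit 71], [], (nat_lit 244), ⟨[nat_lit 0, nat_lit 19, nat_lit 63], [nat_lit 31, nat_lit 50], ⟨[nat_lit 0x71d666c26aac42414ae562460b21f4], [nat_lit 169472, nat_lit 164608, nat_lit 160640, nat_lit 159552, nat_lit 153472, nat_lit 149312, nat_lit 144984, nat_lit 140420, nat_lit 136936, nat_lit 132563, nat_lit 664, nat_lit 4832, nat_lit 9008, nat_lit 12976, nat_lit 17888, nat_lit 21504, nat_lit 25600, nat_lit 29440, nat_lit 34304, nat_lit 41654, nat_lit 37191, nat_lit 32960, nat_lit 29016, nat_lit 24635, nat_lit 20571, nat_lit 16450, nat_lit 12304, nat_lit 8707, nat_lit 4161, nat_lit 8]⟩⟩⟩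
def p44 : AP := ⟨[nat_lit 137, nat_lit 649, nat_lit 650, nat_lit 110], [], (nat_lit 256), ⟨[nat_lit 0, nat_lit 1, nat_lit 49], [nat_lit 39, nat_lit 63], ⟨[nat_lit 0xb2e976c04752135349838b82504c8f], [nat_lit 168960, nat_lit 160512, nat_lit 158464, nat_lit 151680, nat_lit 147840, nat_lit 144216, nat_lit 140532, nat_lit 135244, nat_lit 133104, nat_lit 1318, nat_lit 5428, nat_lit 8968, nat_lit 14192, nat_lit 16512, nat_lit 22336, nat_lit 26112, nat_lit 30464, nat_lit 41100, nat_lit 37116, nat_lit 33016, nat_lit 29046, nat_lit 24881, nat_lit 20743, nat_lit 16431, nat_lit 12324, nat_lit 8226, nat_lit 4105, nat_lit 4]⟩⟩⟩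
def l45 : List AP := [⟨[nat_lit 49, nat_lit 47], [], (nat_lit 122), ⟨[nat_lit 82, nat_lit 46], [nat_lit 0, nat_lit 18, nat_lit 56], ⟨[nat_lit 0x90671a20adabd2655dc710203232cb], [nat_lit 173056, nat_lit 169472, nat_lit 165888, nat_lit 160768, nat_lit 157248, nat_lit 152064, nat_lit 148928, nat_lit 143376, nat_lit 140060, nat_lit 137106, nat_lit 131971, nat_lit 354, nat_lit 4824, nat_lit 8928, nat_lit 12304, nat_lit 16640, nat_lit 21376, nat_lit 25088, nat_lit 29184, nat_lit 33792, nat_lit 37888, nat_lit 41259, nat_lit 37248, nat_lit 33421, nat_lit 29248, nat_lit 24759, nat_lit 20567, nat_lit 16392, nat_lit 12304, nat_lit 8194, nat_lit 4097, nat_lit 2]⟩⟩⟩,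
  ⟨[nat_lit 17, nat_lit 630, nat_lit 36], [], (nat_lit 1032), ⟨[nat_lit 45], [nat_lit 88, nat_lit 67], ⟨[nat_lit 0x6a671a1850432d5515e7b82445b823], [nat_lit 174080, nat_lit 164096, nat_lit 160896, nat_lit 155776, nat_lit 148992, nat_lit 145240, nat_lit 140032, nat_lit 136702, nat_lit 132100, nat_lit 1174, nat_lit 5120, nat_lit 9136, nat_lit 13264, nat_lit 17408, nat_lit 21888, nat_lit 25600, nat_lit 29440, nat_lit 33792, nat_lit 37888, nat_lit 41383, nat_lit 36916, nat_lit 33918, nat_lit 29017, nat_lit 21012, nat_lit 12290, nat_lit 256]⟩⟩⟩]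
theorem s45 : Suf yT 19005990 (ldrop we1_e2 12) (apW dcM p44) (tgtN dcM p44.e) := Suf.fin' (l := l45) (by decide +kernel)
def l44 : List AP := [⟨[nat_lit 118, nat_lit 652, nat_lit 119, nat_lit 117], [], (nat_lit 258), ⟨[nat_lit 0, nat_lit 81, nat_lit 55], [nat_lit 0, nat_lit 22, nat_lit 70], ⟨[nat_lit 0x1d8cb154ea952ec0c5e08212d74c85], [nat_lit 175104, nat_lit 171008, nat_lit 164864, nat_lit 162688, nat_lit 159552, nat_lit 154976, nat_lit 149408, nat_lit 144360, nat_lit 139392, nat_lit 137916, nat_lit 134108, nat_lit 1634, nat_lit 6044, nat_lit 9384, nat_lit 13200, nat_lit 16512, nat_lit 21312, nat_lit 25344, nat_lit 29440, nat_lit 33280, nat_lit 37888, nat_lit 41601, nat_lit 37204, nat_lit 33282, nat_lit 29770, nat_lit 24763, nat_lit 20511, nat_lit 16386, nat_lit 12293, nat_lit 4113]⟩⟩⟩,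
  ⟨[nat_lit 119, nat_lit 649, nat_lit 135, nat_lit 115], [], (nat_lit 258), ⟨[nat_lit 29, nat_lit 46], [nat_lit 0, nat_lit 43, nat_lit 49], ⟨[nat_lit 0x4ba270b2cf9c2a03224d52c541dc85], [nat_lit 168960, nat_lit 167424, nat_lit 160640, nat_lit 155776, nat_lit 154304, nat_lit 150640, nat_lit 146384, nat_lit 142276, nat_lit 137240, nat_lit 132102, nat_lit 1268, nat_lit 4396, nat_lit 8640, nat_lit 12304, nat_lit 16416, nat_lit 20608, nat_lit 26496, nat_lit 30208, nat_lit 33280, nat_lit 41892, nat_lit 37263, nat_lit 32955, nat_lit 28790, nat_lit 24618, nat_lit 20501, nat_lit 16386, nat_lit 12290, nat_lit 8226, nat_lit 4]⟩⟩⟩]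
theorem s44 : Suf yT 19005990 (ldrop we1_e2 6) (apW dcM p43) (tgtN dcM p43.e) := Suf.seg (l := l44) (by decide +kernel) s45
def l43 : List AP := [⟨[], [], (nat_lit 26), tw0⟩,
  ⟨[], [], (nat_lit 90), tw0⟩]
theorem re1_e2 : Suf yT 19005990 we1_e2 [yT.get 22] 0 := Suf.seg (l := l43) (by decide +kernel) s44

def p46 : AP := ⟨[], [], (nat_lit 91), ⟨[nat_lit 0], [], ⟨[], [nat_lit 159872, nat_lit 155712, nat_lit 147472, nat_lit 135170, nat_lit 131073]⟩⟩⟩
def l47 : List AP := [⟨[], [], (nat_lit 1032), ⟨[nat_lit 0], [], ⟨[], [nat_lit 168448, nat_lit 139268]⟩⟩⟩]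
theorem s47 : Suf yT 19005990 (ldrop we1_f2 7) (apW dcM p46) (tgtN dcM p46.e) := Suf.fin' (l := l47) (by decide +kernel)
def l46 : List AP := [⟨[], [], (nat_lit 26), tw0⟩,
  ⟨[], [], (nat_lit 90), tw0⟩]
theorem re1_f2 : Suf yT 19005990 we1_f2 [yT.get 22] 0 := Suf.seg (l := l46) (by decide +kernel) s47

def p48 : AP := ⟨[nat_lit 56], [], (nat_lit 122), ⟨[nat_lit 4], [nat_lit 0, nat_lit 88, nat_lit 62], ⟨[nat_lit 0x8dc021a08f0b8c95cacaab60c2d267], [nat_lit 173056, nat_lit 169472, nat_lit 166400, nat_lit 161152, nat_lit 156992, nat_lit 151648, nat_lit 147856, nat_lit 144088, nat_lit 139680, nat_lit 135696, nat_lit 133094, nat_lit 1438, nat_lit 5868, nat_lit 8224, nat_lit 14304, nat_lit 18112, nat_lit 20736, nat_lit 24704, nat_lit 28928, nat_lit 33792, nat_lit 41887, nat_lit 37200, nat_lit 32973, nat_lit 28736, nat_lit 24712, nat_lit 20484, nat_lit 16386, nat_lit 12352, nat_lit 8224, nat_lit 4113]⟩⟩⟩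
def l49 : List AP := [⟨[nat_lit 38, nat_lit 632], [], (nat_lit 1032), ⟨[nat_lit 0, nat_lit 8, nat_lit 70], [nat_lit 0, nat_lit 35, nat_lit 51], ⟨[nat_lit 0x3599512290506f15bd24015a393a67], [nat_lit 168960, nat_lit 166656, nat_lit 161536, nat_lit 156608, nat_lit 152832, nat_lit 148816, nat_lit 143488, nat_lit 139392, nat_lit 136656, nat_lit 131825, nat_lit 1438, nat_lit 5024, nat_lit 9904, nat_lit 18368, nat_lit 21952, nat_lit 24832, nat_lit 30208, nat_lit 41856, nat_lit 37344, nat_lit 32976, nat_lit 28995, nat_lit 21005, nat_lit 16523, nat_lit 12304, nat_lit 4224]⟩⟩⟩]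
theorem s49 : Suf yT 19005990 (ldrop we1_b3 7) (apW dcM p48) (tgtN dcM p48.e) := Suf.fin' (l := l49) (by decide +kernel)
def l48 : List AP := [⟨[], [], (nat_lit 26), tw0⟩,
  ⟨[], [], (nat_lit 90), tw0⟩]
theorem re1_b3 : Suf yT 19005990 we1_b3 [yT.get 22] 0 := Suf.seg (l := l48) (by decide +kernel) s49

def p50 : AP := ⟨[], [], (nat_lit 91), ⟨[nat_lit 0, nat_lit 40], [], ⟨[nat_lit 0x342a1248764b98d5a9e83dc5389680], [nat_lit 169472, nat_lit 156160, nat_lit 151616, nat_lit 147472, nat_lit 145088, nat_lit 139304, nat_lit 135738, nat_lit 131727, nat_lit 4716, nat_lit 8936, nat_lit 12464, nat_lit 16992, nat_lit 20608, nat_lit 24704, nat_lit 41645, nat_lit 36952, nat_lit 28732, nat_lit 25105, nat_lit 20634, nat_lit 16527, nat_lit 12353, nat_lit 8226, nat_lit 4113]⟩⟩⟩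
def l51 : List AP := [⟨[nat_lit 631, nat_lit 15, nat_lit 36], [], (nat_lit 1032), ⟨[nat_lit 0, nat_lit 75, nat_lit 91], [nat_lit 0, nat_lit 5, nat_lit 64], ⟨[nat_lit 0x2aa8189d8493802b20665a5b0bd66f], [nat_lit 174080, nat_lit 168448, nat_lit 162176, nat_lit 156480, nat_lit 153312, nat_lit 150448, nat_lit 146728, nat_lit 142500, nat_lit 138032, nat_lit 133817, nat_lit 1014, nat_lit 5688, nat_lit 8824, nat_lit 12784, nat_lit 18112, nat_lit 21440, nat_lit 25216, nat_lit 30464, nat_lit 37888, nat_lit 41823, nat_lit 36951, nat_lit 32985, nat_lit 28730, nat_lit 24848, nat_lit 20617, nat_lit 16393, nat_lit 12307, nat_lit 4104]⟩⟩⟩]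
theorem s51 : Suf yT 19005990 (ldrop we1_c3 7) (apW dcM p50) (tgtN dcM p50.e) := Suf.fin' (l := l51) (by decide +kernel)
def l50 : List AP := [⟨[], [], (nat_lit 26), tw0⟩,
  ⟨[], [], (nat_lit 90), tw0⟩]
theorem re1_c3 : Suf yT 19005990 we1_c3 [yT.get 22] 0 := Suf.seg (l := l50) (by decide +kernel) s51

def p52 : AP := ⟨[nat_lit 643], [], (nat_lit 91), ⟨[nat_lit 0, nat_lit 75, nat_lit 49], [nat_lit 23], ⟨[nat_lit 0xbc027b022453dac91683acc465b928], [nat_lit 173056, nat_lit 169472, nat_lit 165120, nat_lit 160768, nat_lit 155968, nat_lit 151584, nat_lit 147648, nat_lit 144080, nat_lit 141268, nat_lit 136824, nat_lit 134914, nat_lit 256, nat_lit 5316, nat_lit 9904, nat_lit 12448, nat_lit 17888, nat_lit 20928, nat_lit 26368, nat_lit 29952, nat_lit 34304, nat_lit 37888, nat_lit 41962, nat_lit 38123, nat_lit 32873, nat_lit 29759, nat_lit 24740, nat_lit 20555, nat_lit 16427, nat_lit 12295, nat_lit 8193, nat_lit 4097]⟩⟩⟩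
def l53 : List AP := [⟨[nat_lit 631, nat_lit 15, nat_lit 36], [], (nat_lit 1032), ⟨[nat_lit 0, nat_lit 19, nat_lit 49], [nat_lit 0, nat_lit 33, nat_lit 52], ⟨[nat_lit 0x791d499ab0b84e2b24aa935001b22b], [nat_lit 175104, nat_lit 169472, nat_lit 164352, nat_lit 160384, nat_lit 157504, nat_lit 148256, nat_lit 144168, nat_lit 140260, nat_lit 137078, nat_lit 131176, nat_lit 986, nat_lit 4924, nat_lit 8928, nat_lit 13312, nat_lit 17184, nat_lit 21504, nat_lit 25600, nat_lit 29952, nat_lit 33792, nat_lit 37888, nat_lit 41227, nat_lit 36889, nat_lit 32969, nat_lit 29001, nat_lit 16910, nat_lit 8209, nat_lit 4100, nat_lit 16]⟩⟩⟩]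
theorem s53 : Suf yT 19005990 (ldrop we1_d3 7) (apW dcM p52) (tgtN dcM p52.e) := Suf.fin' (l := l53) (by decide +kernel)
def l52 : List AP := [⟨[], [], (nat_lit 26), tw0⟩,
  ⟨[], [], (nat_lit 90), tw0⟩]
theorem re1_d3 : Suf yT 19005990 we1_d3 [yT.get 22] 0 := Suf.seg (l := l52) (by decide +kernel) s53

def p54 : AP := ⟨[], [], (nat_lit 246), ⟨[nat_lit 0, nat_lit 12, nat_lit 65], [nat_lit 0, nat_lit 4, nat_lit 48], ⟨[nat_lit 0x134ab25606bc5287d26e3814cb0472], [nat_lit 174080, nat_lit 171520, nat_lit 162944, nat_lit 157952, nat_lit 154144, nat_lit 147968, nat_lit 145392, nat_lit 139948, nat_lit 137582, nat_lit 133428, nat_lit 1762, nat_lit 4104, nat_lit 8504, nat_lit 13392, nat_lit 17472, nat_lit 20992, nat_lit 25600, nat_lit 30464, nat_lit 41978, nat_lit 38331, nat_lit 32925, nat_lit 28720, nat_lit 25088, nat_lit 20611, nat_lit 16399, nat_lit 12309, nat_lit 8208, nat_lit 4100]⟩⟩⟩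
def l55 : List AP := [⟨[], [], (nat_lit 1034), ⟨[nat_lit 0, nat_lit 88, nat_lit 54], [nat_lit 0, nat_lit 6, nat_lit 62], ⟨[nat_lit 0xa29d62912f81c356491114cd71ada0], [nat_lit 168960, nat_lit 164608, nat_lit 159872, nat_lit 157184, nat_lit 153472, nat_lit 151536, nat_lit 145200, nat_lit 139728, nat_lit 135454, nat_lit 132215, nat_lit 16, nat_lit 4644, nat_lit 8680, nat_lit 12304, nat_lit 16768, nat_lit 21120, nat_lit 25984, nat_lit 29952, nat_lit 34304, nat_lit 37888, nat_lit 41467, nat_lit 37234, nat_lit 33506, nat_lit 28688, nat_lit 24616, nat_lit 20489, nat_lit 16525, nat_lit 8194, nat_lit 4101]⟩⟩⟩]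
theorem s55 : Suf yT 12946744 (ldrop we2_a 7) (apW dcM p54) (tgtN dcM p54.e) := Suf.fin' (l := l55) (by decide +kernel)
def l54 : List AP := [⟨[], [], (nat_lit 40), tw0⟩,
  ⟨[], [], (nat_lit 216), tw0⟩]
theorem re2_a : Suf yT 12946744 we2_a [yT.get 28] 0 := Suf.seg (l := l54) (by decide +kernel) s55

def p56 : AP := ⟨[nat_lit 651, nat_lit 114], [], (nat_lit 246), ⟨[nat_lit 36, nat_lit 48], [nat_lit 56], ⟨[nat_lit 0xb64b53c1325528188b68de06a38ec], [nat_lit 175104, nat_lit 169984, nat_lit 166400, nat_lit 160512, nat_lit 159296, nat_lit 153856, nat_lit 148480, nat_lit 146640, nat_lit 140824, nat_lit 135226, nat_lit 132510, nat_lit 1440, nat_lit 5716, nat_lit 8408, nat_lit 14144, nat_lit 16704, nat_lit 21504, nat_lit 25472, nat_lit 30464, nat_lit 33792, nat_lit 41701, nat_lit 37001, nat_lit 32817, nat_lit 28776, nat_lit 24763, nat_lit 20510, nat_lit 16422, nat_lit 4097, nat_lit 2]⟩⟩⟩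
def l57 : List AP := [⟨[], [], (nat_lit 1034), ⟨[nat_lit 41, nat_lit 67], [nat_lit 4, nat_lit 91], ⟨[nat_lit 0xa2221256cfbaa022cdb262cc93b860], [nat_lit 175104, nat_lit 171520, nat_lit 164352, nat_lit 162304, nat_lit 158016, nat_lit 154432, nat_lit 147760, nat_lit 144616, nat_lit 141272, nat_lit 137664, nat_lit 134846, nat_lit 8, nat_lit 5856, nat_lit 10168, nat_lit 13088, nat_lit 17536, nat_lit 21120, nat_lit 25984, nat_lit 29952, nat_lit 37888, nat_lit 41777, nat_lit 37931, nat_lit 33457, nat_lit 28715, nat_lit 24611, nat_lit 20554, nat_lit 16389, nat_lit 12325, nat_lit 8195, nat_lit 4097, nat_lit 2]⟩⟩⟩]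
theorem s57 : Suf yT 12946744 (ldrop we2_b1 7) (apW dcM p56) (tgtN dcM p56.e) := Suf.fin' (l := l57) (by decide +kernel)
def l56 : List AP := [⟨[], [], (nat_lit 40), tw0⟩,
  ⟨[], [], (nat_lit 216), tw0⟩]
theorem re2_b1 : Suf yT 12946744 we2_b1 [yT.get 28] 0 := Suf.seg (l := l56) (by decide +kernel) s57

def p58 : AP := ⟨[], [], (nat_lit 217), ⟨[nat_lit 0], [nat_lit 0], ⟨[], [nat_lit 164096, nat_lit 159872, nat_lit 155712, nat_lit 143368, nat_lit 139268, nat_lit 131073]⟩⟩⟩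
def l59 : List AP := [⟨[], [], (nat_lit 1034), ⟨[nat_lit 0], [], ⟨[], [nat_lit 173056, nat_lit 155712, nat_lit 151584, nat_lit 147472, nat_lit 139268]⟩⟩⟩]
theorem s59 : Suf yT 12946744 (ldrop we2_d1 7) (apW dcM p58) (tgtN dcM p58.e) := Suf.fin' (l := l59) (by decide +kernel)
def l58 : List AP := [⟨[], [], (nat_lit 40), tw0⟩,
  ⟨[], [], (nat_lit 216), tw0⟩]
theorem re2_d1 : Suf yT 12946744 we2_d1 [yT.get 28] 0 := Suf.seg (l := l58) (by decide +kernel) s59

def p60 : AP := ⟨[], [], (nat_lit 217), ⟨[], [nat_lit 0], ⟨[], [nat_lit 159872, nat_lit 155712, nat_lit 147472, nat_lit 135170, nat_lit 131073]⟩⟩⟩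
def l61 : List AP := [⟨[], [], (nat_lit 1034), ⟨[], [], ⟨[], [nat_lit 155712, nat_lit 131073]⟩⟩⟩]
theorem s61 : Suf yT 12946744 (ldrop we2_f1 7) (apW dcM p60) (tgtN dcM p60.e) := Suf.fin' (l := l61) (by decide +kernel)
def l60 : List AP := [⟨[], [], (nat_lit 40), tw0⟩,
  ⟨[], [], (nat_lit 216), tw0⟩]
theorem re2_f1 : Suf yT 12946744 we2_f1 [yT.get 28] 0 := Suf.seg (l := l60) (by decide +kernel) s61

def p62 : AP := ⟨[nat_lit 134, nat_lit 110], [], (nat_lit 246), ⟨[nat_lit 0, nat_lit 37, nat_lit 47], [nat_lit 88, nat_lit 64], ⟨[nat_lit 0xb05eb6920e9952830c1150994bc8f5], [nat_lit 173056, nat_lit 168448, nat_lit 164608, nat_lit 160256, nat_lit 157056, nat_lit 153536, nat_lit 151168, nat_lit 144560, nat_lit 139520, nat_lit 135300, nat_lit 131419, nat_lit 1778, nat_lit 4328, nat_lit 8808, nat_lit 13776, nat_lit 16416, nat_lit 21248, nat_lit 25856, nat_lit 30464, nat_lit 37888, nat_lit 41900, nat_lit 36976, nat_lit 32816, nat_lit 29810,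 nat_lit 24738, nat_lit 20482, nat_lit 12355, nat_lit 8203, nat_lit 4104]⟩⟩⟩
def l63 : List AP := [⟨[], [], (nat_lit 1034), ⟨[nat_lit 0, nat_lit 7, nat_lit 56], [nat_lit 0, nat_lit 11, nat_lit 65], ⟨[nat_lit 0xa148b0c8cf9d531621b6b894381dc0], [nat_lit 168960, nat_lit 164096, nat_lit 160512, nat_lit 156544, nat_lit 152640, nat_lit 147712, nat_lit 143560, nat_lit 139276, nat_lit 136122, nat_lit 131574, nat_lit 4904, nat_lit 10160, nat_lit 12352, nat_lit 16544, nat_lit 22336, nat_lit 29696, nat_lit 33792, nat_lit 37888, nat_lit 41748, nat_lit 38164, nat_lit 33869, nat_lit 28763, nat_lit 24616, nat_lit 20570, nat_lit 16426, nat_lit 12304, nat_lit 8195, nat_lit 4101]⟩⟩⟩]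
theorem s63 : Suf yT 12946744 (ldrop we2_b2 7) (apW dcM p62) (tgtN dcM p62.e) := Suf.fin' (l := l63) (by decide +kernel)
def l62 : List AP := [⟨[], [], (nat_lit 40), tw0⟩,
  ⟨[], [], (nat_lit 216), tw0⟩]
theorem re2_b2 : Suf yT 12946744 we2_b2 [yT.get 28] 0 := Suf.seg (l := l62) (by decide +kernel) s63

def p64 : AP := ⟨[nat_lit 132], [], (nat_lit 246), ⟨[nat_lit 0, nat_lit 6, nat_lit 70], [nat_lit 19, nat_lit 90], ⟨[nat_lit 0x3c5eb288961d52832a4c9c03405dcd], [nat_lit 168960, nat_lit 164864, nat_lit 160896, nat_lit 156992, nat_lit 152128, nat_lit 147904, nat_lit 144376, nat_lit 142704, nat_lit 136478, nat_lit 132756, nat_lit 488, nat_lit 5228, nat_lit 9328, nat_lit 13712, nat_lit 17472, nat_lit 21440, nat_lit 25728, nat_lit 29184, nat_lit 33280, nat_lit 37888, nat_lit 41908, nat_lit 37284, nat_lit 33474, nat_lit 28794, nat_lit 24613, nat_lit 20498, nat_lit 16388, nat_lit 12293, nat_lit 8200, nat_lit 4128]⟩⟩⟩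
def l65 : List AP := [⟨[], [], (nat_lit 1034), ⟨[nat_lit 42, nat_lit 55], [nat_lit 78, nat_lit 59], ⟨[nat_lit 0xa5d550ccafb256811d9233603245c0], [nat_lit 170496, nat_lit 164864, nat_lit 160768, nat_lit 159424, nat_lit 152032, nat_lit 148736, nat_lit 146432, nat_lit 143316, nat_lit 137904, nat_lit 133219, nat_lit 1972, nat_lit 4684, nat_lit 9648, nat_lit 12304, nat_lit 16896, nat_lit 22080, nat_lit 25344, nat_lit 29440, nat_lit 33280, nat_lit 41294, nat_lit 37255, nat_lit 33408, nat_lit 29248, nat_lit 24760, nat_lit 20563, nat_lit 16399, nat_lit 12304, nat_lit 8195, nat_lit 4097, nat_lit 2]⟩⟩⟩]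
theorem s65 : Suf yT 12946744 (ldrop we2_c2 7) (apW dcM p64) (tgtN dcM p64.e) := Suf.fin' (l := l65) (by decide +kernel)
def l64 : List AP := [⟨[], [], (nat_lit 40), tw0⟩,
  ⟨[], [], (nat_lit 216), tw0⟩]
theorem re2_c2 : Suf yT 12946744 we2_c2 [yT.get 28] 0 := Suf.seg (l := l64) (by decide +kernel) s65

def p66 : AP := ⟨[nat_lit 136, nat_lit 109], [], (nat_lit 246), ⟨[nat_lit 0, nat_lit 7, nat_lit 64], [nat_lit 0, nat_lit 30, nat_lit 68], ⟨[nat_lit 0xa594b91cb3add2870da081a247b022], [nat_lit 174080, nat_lit 161920, nat_lit 155712, nat_lit 152736, nat_lit 151504, nat_lit 145608, nat_lit 142768, nat_lit 137728, nat_lit 133972, nat_lit 1178, nat_lit 4100, nat_lit 8504, nat_lit 14192, nat_lit 17984, nat_lit 21632, nat_lit 25728, nat_lit 33280, nat_lit 41677, nat_lit 36941, nat_lit 33002, nat_lit 28749, nat_lit 24733, nat_lit 20491, nat_lit 16397, nat_lit 12304, nat_lit 8195, nat_lit 4097]⟩⟩⟩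
def p67 : AP := ⟨[nat_lit 634, nat_lit 32, nat_lit 31], [], (nat_lit 1036), ⟨[nat_lit 0, nat_lit 24, nat_lit 67], [nat_lit 0, nat_lit 25, nat_lit 54], ⟨[nat_lit 0x10ca46ce2c080c7baa8b749f0b5509], [nat_lit 173056, nat_lit 171520, nat_lit 164096, nat_lit 161280, nat_lit 159040, nat_lit 152608, nat_lit 149360, nat_lit 147264, nat_lit 143296, nat_lit 137950, nat_lit 133493, nat_lit 1928, nat_lit 5316, nat_lit 9384, nat_lit 12480, nat_lit 16448, nat_lit 21760, nat_lit 24832, nat_lit 29440, nat_lit 33792, nat_lit 37888, nat_lit 41219, nat_lit 37123, nat_lit 33013, nat_lit 28715, nat_lit 24633, nat_lit 20554, nat_lit 16416, nat_lit 12355, nat_lit 4097]⟩⟩⟩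
def l68 : List AP := [⟨[nat_lit 16, nat_lit 630], [], (nat_lit 1032), ⟨[nat_lit 81, nat_lit 50], [nat_lit 0, nat_lit 39, nat_lit 65], ⟨[nat_lit 0x4280d889d34c8b61bcc75de0465434], [nat_lit 173056, nat_lit 168960, nat_lit 164864, nat_lit 161408, nat_lit 155840, nat_lit 153120, nat_lit 149008, nat_lit 144016, nat_lit 142664, nat_lit 135236, nat_lit 132366, nat_lit 1730, nat_lit 4100, nat_lit 8224, nat_lit 12560, nat_lit 16416, nat_lit 22016, nat_lit 25984, nat_lit 29440, nat_lit 33792, nat_lit 37888, nat_lit 41911, nat_lit 38183, nat_lit 32969, nat_lit 28772, nat_lit 24733, nat_lit 20511, nat_lit 16388, nat_lit 12294, nat_lit 8193, nat_lit 4]⟩⟩⟩]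
theorem s68 : Suf yT 58800 (ldrop we2_d2 13) (apW dcM p67) (tgtN dcM p67.e) := Suf.fin' (l := l68) (by decide +kernel)
def l67 : List AP := [⟨[nat_lit 29, nat_lit 26, nat_lit 25], [], (nat_lit 88), ⟨[nat_lit 15, nat_lit 64], [nat_lit 78, nat_lit 58], ⟨[nat_lit 0x130b0b25af5d232220f70d543999c0], [nat_lit 175104, nat_lit 168448, nat_lit 167424, nat_lit 162048, nat_lit 158848, nat_lit 153312, nat_lit 148208, nat_lit 145400, nat_lit 141380, nat_lit 138174, nat_lit 132523, nat_lit 1478, nat_lit 4720, nat_lit 9136, nat_lit 13184, nat_lit 17984, nat_lit 21632, nat_lit 25600, nat_lit 29952, nat_lit 33792, nat_lit 41939, nat_lit 37021, nat_lit 33814, nat_lit 28771, nat_lit 24622, nat_lit 20552, nat_lit 16899, nat_lit 12295, nat_lit 8194]⟩⟩⟩,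
  ⟨[nat_lit 31, nat_lit 23, nat_lit 22, nat_lit 21], [], (nat_lit 88), ⟨[nat_lit 83, nat_lit 54], [nat_lit 0, nat_lit 9], ⟨[nat_lit 0x78ad041c2394d66554976952ca45c0], [nat_lit 174080, nat_lit 168960, nat_lit 164864, nat_lit 163584, nat_lit 157632, nat_lit 152352, nat_lit 151344, nat_lit 147288, nat_lit 141644, nat_lit 138612, nat_lit 133794, nat_lit 1972, nat_lit 5276, nat_lit 9648, nat_lit 12320, nat_lit 17600, nat_lit 20544, nat_lit 25088, nat_lit 29952, nat_lit 33792, nat_lit 37888, nat_lit 41863, nat_lit 37129, nat_lit 33487, nat_lit 28797, nat_lit 24623, nat_lit 20552, nat_lit 16520, nat_lit 12352, nat_lit 8195, nat_lit 4097, nat_lit 2]⟩⟩⟩]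
theorem s67 : Suf yT 58800 (ldrop we2_d2 7) (apW dcM p66) (tgtN dcM p66.e) := Suf.seg (l := l67) (by decide +kernel) s68
def l66 : List AP := [⟨[], [], (nat_lit 40), tw0⟩,
  ⟨[], [], (nat_lit 216), tw0⟩]
theorem re2_d2 : Suf yT 58800 we2_d2 [yT.get 28] 0 := Suf.seg (l := l66) (by decide +kernel) s67

def p69 : AP := ⟨[], [], (nat_lit 217), ⟨[], [], ⟨[], [nat_lit 164096, nat_lit 147472, nat_lit 143368, nat_lit 139268, nat_lit 135170]⟩⟩⟩
def l70 : List AP := [⟨[], [], (nat_lit 66), ⟨[nat_lit 10], [], ⟨[], [nat_lit 173056, nat_lit 151584, nat_lit 147472, nat_lit 139268, nat_lit 131073]⟩⟩⟩,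
  ⟨[], [], (nat_lit 1034), ⟨[nat_lit 17, nat_lit 56], [nat_lit 0, nat_lit 26, nat_lit 63], ⟨[nat_lit 0xa4895636261dd2f828a858ace09e60], [nat_lit 173056, nat_lit 168448, nat_lit 167680, nat_lit 161792, nat_lit 158016, nat_lit 154112, nat_lit 148976, nat_lit 145416, nat_lit 143268, nat_lit 135182, nat_lit 134098, nat_lit 2, nat_lit 5024, nat_lit 10040, nat_lit 13088, nat_lit 18112, nat_lit 21184, nat_lit 25856, nat_lit 28928, nat_lit 33792, nat_lit 37888, nat_lit 41643, nat_lit 36983, nat_lit 32887, nat_lit 29799, nat_lit 24631, nat_lit 20545, nat_lit 16395, nat_lit 12310, nat_lit 8203, nat_lit 8]⟩⟩⟩,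
  ⟨[nat_lit 627, nat_lit 6, nat_lit 9, nat_lit 625], [], (nat_lit 25), ⟨[nat_lit 0, nat_lit 4, nat_lit 58], [nat_lit 0, nat_lit 83, nat_lit 55], ⟨[nat_lit 0x6c2a0b24943ac6144e46146ec7954e], [nat_lit 174080, nat_lit 166144, nat_lit 162560, nat_lit 159040, nat_lit 152640, nat_lit 148944, nat_lit 143680, nat_lit 143212, nat_lit 137754, nat_lit 132771, nat_lit 166, nat_lit 4720, nat_lit 10032, nat_lit 14304, nat_lit 17152, nat_lit 21824, nat_lit 25984, nat_lit 30208, nat_lit 34304, nat_lit 41094, nat_lit 37270, nat_lit 33296, nat_lit 28773, nat_lit 24614, nat_lit 20481, nat_lit 16392, nat_lit 12294, nat_lit 8194, nat_lit 4097, nat_lit 2]⟩⟩⟩]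
theorem s70 : Suf yT 12288 (ldrop we2_f2 7) (apW dcM p69) (tgtN dcM p69.e) := Suf.fin' (l := l70) (by decide +kernel)
def l69 : List AP := [⟨[], [], (nat_lit 40), tw0⟩,
  ⟨[], [], (nat_lit 216), tw0⟩]
theorem re2_f2 : Suf yT 12288 we2_f2 [yT.get 28] 0 := Suf.seg (l := l69) (by decide +kernel) s70

def p71 : AP := ⟨[nat_lit 111, nat_lit 109], [], (nat_lit 246), ⟨[nat_lit 5, nat_lit 69], [nat_lit 5, nat_lit 47], ⟨[nat_lit 0xbecba098a9952889803bcaa7711b0], [nat_lit 168960, nat_lit 165632, nat_lit 159872, nat_lit 155840, nat_lit 152448, nat_lit 149408, nat_lit 145336, nat_lit 143116, nat_lit 136120, nat_lit 132442, nat_lit 428, nat_lit 5488, nat_lit 8208, nat_lit 12544, nat_lit 16448, nat_lit 22464, nat_lit 25216, nat_lit 29696, nat_lit 34304, nat_lit 41684, nat_lit 38174, nat_lit 32988, nat_lit 28731, nat_lit 24587, nat_lit 20510, nat_lit 16391, nat_lit 12326, nat_lit 4112, nat_lit 2]⟩⟩⟩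
def l72 : List AP := [⟨[], [], (nat_lit 1034), ⟨[nat_lit 0, nat_lit 28, nat_lit 51], [nat_lit 0, nat_lit 1, nat_lit 68], ⟨[nat_lit 0xa2c323148f8d54371dacba453442c0], [nat_lit 168448, nat_lit 164096, nat_lit 163072, nat_lit 156224, nat_lit 151968, nat_lit 148080, nat_lit 144528, nat_lit 139600, nat_lit 136056, nat_lit 131246, nat_lit 128, nat_lit 4340, nat_lit 8256, nat_lit 13104, nat_lit 17728, nat_lit 22400, nat_lit 24832, nat_lit 28928, nat_lit 41586, nat_lit 38306, nat_lit 32954, nat_lit 28740, nat_lit 24732, nat_lit 20762, nat_lit 16451, nat_lit 12307, nat_lit 8320, nat_lit 4112]⟩⟩⟩]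
theorem s72 : Suf yT 12946744 (ldrop we2_b3 7) (apW dcM p71) (tgtN dcM p71.e) := Suf.fin' (l := l72) (by decide +kernel)
def l71 : List AP := [⟨[], [], (nat_lit 40), tw0⟩,
  ⟨[], [], (nat_lit 216), tw0⟩]
theorem re2_b3 : Suf yT 12946744 we2_b3 [yT.get 28] 0 := Suf.seg (l := l71) (by decide +kernel) s72

def p73 : AP := ⟨[nat_lit 133], [], (nat_lit 246), ⟨[nat_lit 34, nat_lit 90], [nat_lit 76, nat_lit 50], ⟨[nat_lit 0x9dd8b81e4019128545b428ab67b8c1], [nat_lit 175104, nat_lit 168960, nat_lit 164352, nat_lit 163200, nat_lit 157376, nat_lit 151808, nat_lit 151312, nat_lit 147400, nat_lit 142996, nat_lit 137474, nat_lit 134366, nat_lit 1180, nat_lit 5120, nat_lit 9136, nat_lit 13152, nat_lit 16768, nat_lit 20736, nat_lit 29440, nat_lit 33792, nat_lit 37888, nat_lit 41783, nat_lit 38196, nat_lit 32803, nat_lit 28716, nat_lit 24590, nat_lit 20505, nat_lit 16390, nat_lit 12291, nat_lit 8195, nat_lit 4097]⟩⟩⟩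
def l74 : List AP := [⟨[], [], (nat_lit 1034), ⟨[nat_lit 48], [nat_lit 0, nat_lit 27, nat_lit 54], ⟨[nat_lit 0xa351758c2fa9262925903b94589ac0], [nat_lit 168448, nat_lit 164352, nat_lit 160640, nat_lit 157376, nat_lit 153344, nat_lit 148896, nat_lit 146328, nat_lit 141164, nat_lit 136436, nat_lit 131738, nat_lit 8, nat_lit 5544, nat_lit 8312, nat_lit 12800, nat_lit 16928, nat_lit 20800, nat_lit 25600, nat_lit 29184, nat_lit 34304, nat_lit 41924, nat_lit 37090, nat_lit 33932, nat_lit 28699, nat_lit 24872, nat_lit 20557, nat_lit 16515, nat_lit 8225, nat_lit 4224]⟩⟩⟩]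
theorem s74 : Suf yT 12946744 (ldrop we2_c3 7) (apW dcM p73) (tgtN dcM p73.e) := Suf.fin' (l := l74) (by decide +kernel)
def l73 : List AP := [⟨[], [], (nat_lit 40), tw0⟩,
  ⟨[], [], (nat_lit 216), tw0⟩]
theorem re2_c3 : Suf yT 12946744 we2_c3 [yT.get 28] 0 := Suf.seg (l := l73) (by decide +kernel) s74

def p75 : AP := ⟨[nat_lit 136, nat_lit 109], [], (nat_lit 246), ⟨[nat_lit 0, nat_lit 28, nat_lit 54], [nat_lit 30, nat_lit 68], ⟨[nat_lit 0xbd54b910d3b5128781838162773441], [nat_lit 173056, nat_lit 169472, nat_lit 164864, nat_lit 161664, nat_lit 155776, nat_lit 152704, nat_lit 150288, nat_lit 143824, nat_lit 141160, nat_lit 136220, nat_lit 131595, nat_lit 494, nat_lit 4100, nat_lit 8208, nat_lit 13408, nat_lit 17088, nat_lit 21824, nat_lit 25728, nat_lit 29184, nat_lit 34304, nat_lit 41168, nat_lit 36944, nat_lit 32888, nat_lit 29696, nat_lit 24737, nat_lit 20510, nat_lit 16431, nat_lit 12322, nat_lit 8195, nat_lit 4101, nat_lit 4]⟩⟩⟩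
def l76 : List AP := [⟨[], [], (nat_lit 1034), ⟨[nat_lit 84, nat_lit 52], [nat_lit 0, nat_lit 1, nat_lit 92], ⟨[nat_lit 0xa20723422f3daad610225a5c5bcd40], [nat_lit 173056, nat_lit 164608, nat_lit 161152, nat_lit 159104, nat_lit 152928, nat_lit 147680, nat_lit 143872, nat_lit 140548, nat_lit 135296, nat_lit 132874, nat_lit 64, nat_lit 5904, nat_lit 9560, nat_lit 12576, nat_lit 17632, nat_lit 22144, nat_lit 26240, nat_lit 29440, nat_lit 37888, nat_lit 41454, nat_lit 37312, nat_lit 33436, nat_lit 28684, nat_lit 24852, nat_lit 21518, nat_lit 16652, nat_lit 12293, nat_lit 8195, nat_lit 4097]⟩⟩⟩]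
theorem s76 : Suf yT 12946744 (ldrop we2_d3 7) (apW dcM p75) (tgtN dcM p75.e) := Suf.fin' (l := l76) (by decide +kernel)
def l75 : List AP := [⟨[], [], (nat_lit 40), tw0⟩,
  ⟨[], [], (nat_lit 216), tw0⟩]
theorem re2_d3 : Suf yT 12946744 we2_d3 [yT.get 28] 0 := Suf.seg (l := l75) (by decide +kernel) s76

def p77 : AP := ⟨[nat_lit 112, nat_lit 120, nat_lit 649], [], (nat_lit 246), ⟨[nat_lit 77, nat_lit 91], [nat_lit 0, nat_lit 4, nat_lit 47], ⟨[nat_lit 0x51cc8609c1215696bc608d69385af2], [nat_lit 168960, nat_lit 165376, nat_lit 161024, nat_lit 156928, nat_lit 151776, nat_lit 149072, nat_lit 143440, nat_lit 142028, nat_lit 136450, nat_lit 131147, nat_lit 1140, nat_lit 5688, nat_lit 9864, nat_lit 14016, nat_lit 16608, nat_lit 20736, nat_lit 29952, nat_lit 37888, nat_lit 41835, nat_lit 37200, nat_lit 32913, nat_lit 29053, nat_lit 24598, nat_lit 20608, nat_lit 16457, nat_lit 12292, nat_lit 8201, nat_lit 4112, nat_lit 2]⟩⟩⟩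
def l78 : List AP := [⟨[], [], (nat_lit 66), ⟨[nat_lit 0, nat_lit 3, nat_lit 52], [nat_lit 0, nat_lit 44, nat_lit 62], ⟨[nat_lit 0x784a8ac86089ee6b4d2b5344463a14], [nat_lit 173056, nat_lit 164352, nat_lit 155904, nat_lit 151904, nat_lit 147824, nat_lit 144904, nat_lit 139680, nat_lit 135406, nat_lit 131328, nat_lit 32, nat_lit 4476, nat_lit 10160, nat_lit 12352, nat_lit 20736, nat_lit 24832, nat_lit 30208, nat_lit 33792, nat_lit 37888, nat_lit 41789, nat_lit 38005, nat_lit 32790, nat_lit 28724, nat_lit 25129, nat_lit 20545, nat_lit 12802, nat_lit 4104, nat_lit 64]⟩⟩⟩,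
  ⟨[], [], (nat_lit 1034), ⟨[nat_lit 13, nat_lit 68], [nat_lit 24, nat_lit 89], ⟨[nat_lit 0x1cec8234208ae82930b0524ee7dcd5], [nat_lit 173056, nat_lit 168960, nat_lit 167168, nat_lit 163200, nat_lit 158336, nat_lit 153664, nat_lit 149024, nat_lit 147448, nat_lit 142688, nat_lit 136734, nat_lit 133447, nat_lit 738, nat_lit 5900, nat_lit 9768, nat_lit 13152, nat_lit 18144, nat_lit 22400, nat_lit 26496, nat_lit 30208, nat_lit 33792, nat_lit 37888, nat_lit 41513, nat_lit 38028, nat_lit 32963, nat_lit 29045, nat_lit 24580, nat_lit 20629, nat_lit 16399, nat_lit 12291, nat_lit 8211, nat_lit 4097, nat_lit 2]⟩⟩⟩,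
  ⟨[nat_lit 1, nat_lit 628, nat_lit 11, nat_lit 4], [], (nat_lit 24), ⟨[nat_lit 12, nat_lit 50], [nat_lit 0, nat_lit 49], ⟨[nat_lit 0x44da01454eb10234ae87615f734ab0], [nat_lit 171520, nat_lit 161536, nat_lit 156864, nat_lit 153088, nat_lit 148944, nat_lit 145336, nat_lit 139688, nat_lit 136502, nat_lit 132513, nat_lit 1698, nat_lit 4756, nat_lit 9264, nat_lit 13152, nat_lit 16864, nat_lit 21824, nat_lit 25472, nat_lit 30464, nat_lit 34304, nat_lit 37888, nat_lit 41856, nat_lit 37073, nat_lit 33965, nat_lit 29273, nat_lit 25109, nat_lit 20746, nat_lit 16898, nat_lit 12416, nat_lit 8227, nat_lit 4112, nat_lit 2]⟩⟩⟩]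
theorem s78 : Suf yT 16797696 (ldrop wal_c1 8) (apW dcM p77) (tgtN dcM p77.e) := Suf.fin' (l := l78) (by decide +kernel)
def l77 : List AP := [⟨[], [], (nat_lit 40), tw0⟩,
  ⟨[], [], (nat_lit 216), tw0⟩]
theorem ral_c1 : Suf yT 16797696 wal_c1 [yT.get 16] 0 := Suf.seg (l := l77) (by decide +kernel) s78

def p79 : AP := ⟨[nat_lit 71, nat_lit 46], [], (nat_lit 122), ⟨[nat_lit 0, nat_lit 41, nat_lit 90], [nat_lit 45, nat_lit 47], ⟨[nat_lit 0x63dc2b9551951265c2a700c2d44ec4], [nat_lit 173056, nat_lit 168448, nat_lit 165632, nat_lit 163328, nat_lit 156992, nat_lit 153504, nat_lit 148016, nat_lit 144888, nat_lit 140356, nat_lit 135754, nat_lit 132332, nat_lit 680, nat_lit 4340, nat_lit 9040, nat_lit 14096, nat_lit 16512, nat_lit 20544, nat_lit 24960, nat_lit 29184, nat_lit 33792, nat_lit 37888, nat_lit 41752, nat_lit 37263, nat_lit 32963, nat_lit 28774, nat_lit 24742, nat_lit 20626, nat_lit 16389, nat_lit 12807, nat_lit 8210, nat_lit 4100,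 nat_lit 2]⟩⟩⟩
def l80 : List AP := [⟨[nat_lit 17, nat_lit 632, nat_lit 40, nat_lit 43, nat_lit 630, nat_lit 37], [], (nat_lit 90), ⟨[nat_lit 0, nat_lit 29, nat_lit 55], [nat_lit 36, nat_lit 49], ⟨[nat_lit 0x7a133149a3a3a370d8ab512a0830e6], [nat_lit 173056, nat_lit 168960, nat_lit 165376, nat_lit 161152, nat_lit 156992, nat_lit 153568, nat_lit 148144, nat_lit 143976, nat_lit 139972, nat_lit 136892, nat_lit 131507, nat_lit 158, nat_lit 5436, nat_lit 8824, nat_lit 12352, nat_lit 18272, nat_lit 21888, nat_lit 30208, nat_lit 34304, nat_lit 37888, nat_lit 41200, nat_lit 37207, nat_lit 33385, nat_lit 29813, nat_lit 24584, nat_lit 20497, nat_lit 16418, nat_lit 12352, nat_lit 8323, nat_lit 4101, nat_lit 2]⟩⟩⟩,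
  ⟨[], [], (nat_lit 91), ⟨[nat_lit 0, nat_lit 2, nat_lit 48], [nat_lit 10, nat_lit 90], ⟨[nat_lit 0x7a133149a3a3a370d8ab512a0830e6], [nat_lit 173056, nat_lit 169472, nat_lit 165632, nat_lit 161024, nat_lit 156992, nat_lit 153536, nat_lit 148144, nat_lit 143968, nat_lit 139972, nat_lit 136894, nat_lit 131507, nat_lit 158, nat_lit 5436, nat_lit 8824, nat_lit 12352, nat_lit 18272, nat_lit 21888, nat_lit 30208, nat_lit 34304, nat_lit 37888, nat_lit 41200, nat_lit 37207, nat_lit 33385, nat_lit 29813, nat_lit 24584, nat_lit 20497, nat_lit 16418, nat_lit 12352, nat_lit 8323, nat_lit 4101, nat_lit 2]⟩⟩⟩,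
  ⟨[nat_lit 629, nat_lit 39], [], (nat_lit 1032), ⟨[nat_lit 82, nat_lit 48], [nat_lit 0, nat_lit 78, nat_lit 49], ⟨[nat_lit 0x48f5142c599281b8e265a90e4b58f], [nat_lit 165120, nat_lit 160384, nat_lit 157888, nat_lit 152800, nat_lit 149328, nat_lit 143520, nat_lit 140876, nat_lit 137144, nat_lit 131696, nat_lit 1668, nat_lit 4476, nat_lit 8408, nat_lit 13552, nat_lit 17344, nat_lit 21888, nat_lit 24704, nat_lit 28928, nat_lit 33792, nat_lit 41627, nat_lit 38334, nat_lit 32960, nat_lit 28736, nat_lit 20491, nat_lit 16396, nat_lit 12290, nat_lit 8209, nat_lit 4]⟩⟩⟩]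
theorem s80 : Suf yT 16797696 (ldrop wal_e1 8) (apW dcM p79) (tgtN dcM p79.e) := Suf.fin' (l := l80) (by decide +kernel)
def l79 : List AP := [⟨[], [], (nat_lit 26), tw0⟩,
  ⟨[], [], (nat_lit 90), tw0⟩]
theorem ral_e1 : Suf yT 16797696 wal_e1 [yT.get 22] 0 := Suf.seg (l := l79) (by decide +kernel) s80

def p81 : AP := ⟨[], [], (nat_lit 66), ⟨[nat_lit 0, nat_lit 7, nat_lit 46], [nat_lit 0, nat_lit 20, nat_lit 90], ⟨[nat_lit 0x445b510cc1a41cb4cecc53ef239480], [nat_lit 173056, nat_lit 169472, nat_lit 165120, nat_lit 159872, nat_lit 156672, nat_lit 147472, nat_lit 145744, nat_lit 140908, nat_lit 136726, nat_lit 131486, nat_lit 8, nat_lit 5252, nat_lit 8936, nat_lit 12304, nat_lit 22208, nat_lit 25472, nat_lit 30208, nat_lit 41888, nat_lit 38328, nat_lit 33874, nat_lit 28685, nat_lit 24852, nat_lit 20569, nat_lit 16392, nat_lit 12291, nat_lit 8227, nat_lit 4105]⟩⟩⟩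
def p82 : AP := ⟨[nat_lit 649, nat_lit 135, nat_lit 131], [], (nat_lit 258), ⟨[nat_lit 0, nat_lit 16, nat_lit 46], [nat_lit 37, nat_lit 46], ⟨[nat_lit 0x244329b2cb3200a8393478da7bd445], [nat_lit 173056, nat_lit 166912, nat_lit 160512, nat_lit 156992, nat_lit 155168, nat_lit 149952, nat_lit 146848, nat_lit 142732, nat_lit 137730, nat_lit 132321, nat_lit 1634, nat_lit 4408, nat_lit 8320, nat_lit 13088, nat_lit 16832, nat_lit 21184, nat_lit 25216, nat_lit 29952, nat_lit 33792, nat_lit 41710, nat_lit 37029, nat_lit 32998, nat_lit 28721, nat_lit 24834, nat_lit 20546, nat_lit 16395, nat_lit 12289, nat_lit 8195, nat_lit 4]⟩⟩⟩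
def p83 : AP := ⟨[nat_lit 57, nat_lit 55, nat_lit 49, nat_lit 55, nat_lit 47], [], (nat_lit 368), ⟨[nat_lit 0, nat_lit 25, nat_lit 68], [nat_lit 0, nat_lit 1, nat_lit 94], ⟨[nat_lit 0x13948384cc249371d1f58cc0d2c2cb], [nat_lit 168960, nat_lit 165120, nat_lit 161024, nat_lit 156096, nat_lit 152928, nat_lit 148208, nat_lit 144512, nat_lit 140072, nat_lit 138660, nat_lit 131675, nat_lit 354, nat_lit 5016, nat_lit 9040, nat_lit 13072, nat_lit 16800, nat_lit 20672, nat_lit 24704, nat_lit 28928, nat_lit 34304, nat_lit 41255, nat_lit 37258, nat_lit 32779, nat_lit 28705, nat_lit 24604, nat_lit 20619, nat_lit 16449, nat_lit 12290, nat_lit 8211, nat_lit 4101, nat_lit 2]⟩⟩⟩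
def p84 : AP := ⟨[nat_lit 215, nat_lit 170, nat_lit 170], [], (nat_lit 1088), ⟨[nat_lit 13, nat_lit 68], [nat_lit 0, nat_lit 6, nat_lit 56], ⟨[nat_lit 0x981766c4b0bd1e4ac923089c73310a], [nat_lit 169984, nat_lit 165120, nat_lit 160768, nat_lit 157376, nat_lit 151584, nat_lit 147984, nat_lit 144480, nat_lit 140236, nat_lit 136440, nat_lit 132558, nat_lit 1298, nat_lit 4156, nat_lit 8328, nat_lit 13072, nat_lit 16896, nat_lit 25088, nat_lit 29696, nat_lit 33280, nat_lit 37888, nat_lit 41372, nat_lit 36992, nat_lit 32792, nat_lit 29228, nat_lit 20611, nat_lit 16653, nat_lit 12327, nat_lit 8211, nat_lit 4100]⟩⟩⟩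
def p85 : AP := ⟨[], [], (nat_lit 315), ⟨[nat_lit 81, nat_lit 66], [nat_lit 43, nat_lit 59], ⟨[nat_lit 0x8a2724ad502d02d60ae6382cf1d5c4], [nat_lit 173056, nat_lit 171008, nat_lit 166144, nat_lit 162176, nat_lit 157952, nat_lit 151584, nat_lit 151120, nat_lit 147120, nat_lit 139268, nat_lit 139050, nat_lit 131888, nat_lit 1778, nat_lit 5228, nat_lit 10144, nat_lit 12304, nat_lit 18272, nat_lit 22336, nat_lit 30464, nat_lit 33792, nat_lit 37888, nat_lit 41561, nat_lit 38350, nat_lit 33441, nat_lit 28721, nat_lit 24630, nat_lit 20502, nat_lit 16424, nat_lit 12294, nat_lit 8195, nat_lit 4]⟩⟩⟩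
def p86 : AP := ⟨[nat_lit 414, nat_lit 462, nat_lit 464, nat_lit 410], [], (nat_lit 948), ⟨[nat_lit 5, nat_lit 91], [nat_lit 0, nat_lit 42, nat_lit 69], ⟨[nat_lit 0xa16370aece7c1a4548c940d9511c13], [nat_lit 169984, nat_lit 166656, nat_lit 162944, nat_lit 158016, nat_lit 152064, nat_lit 150064, nat_lit 145552, nat_lit 140956, nat_lit 138854, nat_lit 131337, nat_lit 404, nat_lit 4684, nat_lit 8824, nat_lit 14224, nat_lit 18112, nat_lit 20800, nat_lit 26368, nat_lit 29952, nat_lit 33792, nat_lit 37888, nat_lit 41894, nat_lit 37227, nat_lit 32804, nat_lit 29738, nat_lit 24610, nat_lit 20573, nat_lit 16389, nat_lit 12325, nat_lit 8208, nat_lit 4097]⟩⟩⟩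
def p87 : AP := ⟨[nat_lit 179, nat_lit 176, nat_lit 176, nat_lit 174], [], (nat_lit 856), ⟨[nat_lit 11, nat_lit 53], [nat_lit 45, nat_lit 62], ⟨[nat_lit 0x9be360b457618b4811237297541e40], [nat_lit 168960, nat_lit 166656, nat_lit 162304, nat_lit 159104, nat_lit 154016, nat_lit 149376, nat_lit 146416, nat_lit 143196, nat_lit 135934, nat_lit 134665, nat_lit 5276, nat_lit 8680, nat_lit 13232, nat_lit 17280, nat_lit 22272, nat_lit 24704, nat_lit 30208, nat_lit 34304, nat_lit 37888, nat_lit 41442, nat_lit 37209, nat_lit 32829, nat_lit 28699, nat_lit 25137, nat_lit 20548, nat_lit 16386, nat_lit 12321, nat_lit 8194, nat_lit 4101, nat_lit 2]⟩⟩⟩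
def p88 : AP := ⟨[nat_lit 418, nat_lit 675, nat_lit 463, nat_lit 412], [], (nat_lit 857), ⟨[nat_lit 0, nat_lit 71, nat_lit 48], [nat_lit 44, nat_lit 58], ⟨[nat_lit 0xac936336e20b28521d515cc037b910], [nat_lit 173056, nat_lit 166144, nat_lit 162304, nat_lit 157760, nat_lit 154208, nat_lit 147472, nat_lit 145528, nat_lit 142516, nat_lit 136836, nat_lit 134322, nat_lit 428, nat_lit 4832, nat_lit 10224, nat_lit 14112, nat_lit 16576, nat_lit 21632, nat_lit 25472, nat_lit 30208, nat_lit 34304, nat_lit 41154, nat_lit 37240, nat_lit 32961, nat_lit 28796, nat_lit 24629, nat_lit 20484, nat_lit 16460, nat_lit 12289, nat_lit 8193, nat_lit 5121]⟩⟩⟩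
def p89 : AP := ⟨[nat_lit 143, nat_lit 657, nat_lit 146], [], (nat_lit 1080), ⟨[nat_lit 6, nat_lit 53], [nat_lit 38, nat_lit 67], ⟨[nat_lit 0x3289310e08a34a073229955770bcf6], [nat_lit 173056, nat_lit 165120, nat_lit 161536, nat_lit 155840, nat_lit 152896, nat_lit 149216, nat_lit 145448, nat_lit 139492, nat_lit 136198, nat_lit 132979, nat_lit 688, nat_lit 5668, nat_lit 8520, nat_lit 13920, nat_lit 16704, nat_lit 20672, nat_lit 24832, nat_lit 29440, nat_lit 34304, nat_lit 41911, nat_lit 38239, nat_lit 33853, nat_lit 28702, nat_lit 25088, nat_lit 20571, nat_lit 16422, nat_lit 12358, nat_lit 8202, nat_lit 4097]⟩⟩⟩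
def p90 : AP := ⟨[nat_lit 655, nat_lit 657, nat_lit 655, nat_lit 140], [], (nat_lit 852), ⟨[nat_lit 0, nat_lit 12, nat_lit 89], [nat_lit 29, nat_lit 48], ⟨[nat_lit 0x82db77a6b31b8ac3483142804152c7], [nat_lit 174080, nat_lit 169472, nat_lit 166144, nat_lit 163328, nat_lit 159104, nat_lit 152736, nat_lit 148480, nat_lit 145048, nat_lit 142000, nat_lit 137686, nat_lit 131678, nat_lit 344, nat_lit 5668, nat_lit 8224, nat_lit 13600, nat_lit 17376, nat_lit 22208, nat_lit 25472, nat_lit 29184, nat_lit 34304, nat_lit 37888, nat_lit 41101, nat_lit 37021, nat_lit 32802, nat_lit 28731, nat_lit 24625, nat_lit 20574, nat_lit 16386, nat_lit 12321, nat_lit 8200, nat_lit 4097]⟩⟩⟩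
def p91 : AP := ⟨[nat_lit 213, nat_lit 176, nat_lit 215, nat_lit 661], [], (nat_lit 905), ⟨[nat_lit 43, nat_lit 48], [nat_lit 79, nat_lit 69], ⟨[nat_lit 0x28d72134363400aa39288bef3610f5], [nat_lit 169472, nat_lit 165888, nat_lit 162560, nat_lit 158976, nat_lit 154368, nat_lit 148384, nat_lit 145472, nat_lit 142792, nat_lit 135670, nat_lit 133207, nat_lit 1778, nat_lit 5488, nat_lit 8824, nat_lit 14080, nat_lit 18112, nat_lit 20672, nat_lit 26240, nat_lit 29184, nat_lit 37888, nat_lit 41727, nat_lit 37285, nat_lit 32855, nat_lit 28760, nat_lit 24620, nat_lit 20571, nat_lit 16386, nat_lit 12357, nat_lit 8195, nat_lit 4]⟩⟩⟩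
def p92 : AP := ⟨[nat_lit 658, nat_lit 656, nat_lit 143], [], (nat_lit 740), ⟨[nat_lit 77], [nat_lit 24, nat_lit 48], ⟨[nat_lit 0x84a6c488958b5cf05ceb1a0b655026], [nat_lit 173056, nat_lit 161664, nat_lit 157632, nat_lit 152224, nat_lit 147488, nat_lit 144128, nat_lit 141496, nat_lit 135290, nat_lit 132591, nat_lit 786, nat_lit 4100, nat_lit 8224, nat_lit 13696, nat_lit 16544, nat_lit 21504, nat_lit 24832, nat_lit 29696, nat_lit 34304, nat_lit 37888, nat_lit 41764, nat_lit 38320, nat_lit 33018, nat_lit 28708, nat_lit 24629, nat_lit 20510, nat_lit 16421, nat_lit 12310, nat_lit 8]⟩⟩⟩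
def p93 : AP := ⟨[], [], (nat_lit 1068), ⟨[nat_lit 0, nat_lit 19, nat_lit 66], [nat_lit 82, nat_lit 64], ⟨[nat_lit 0x88e92b10054b0f343e0655561709b7], [nat_lit 173056, nat_lit 168448, nat_lit 164352, nat_lit 160384, nat_lit 156864, nat_lit 152096, nat_lit 150288, nat_lit 145016, nat_lit 139984, nat_lit 136586, nat_lit 132522, nat_lit 1124, nat_lit 5512, nat_lit 8208, nat_lit 12832, nat_lit 18336, nat_lit 22400, nat_lit 26240, nat_lit 37888, nat_lit 41647, nat_lit 38346, nat_lit 33365, nat_lit 28738, nat_lit 24754, nat_lit 20496, nat_lit 16394, nat_lit 12310, nat_lit 4113]⟩⟩⟩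
def p94 : AP := ⟨[nat_lit 655, nat_lit 143, nat_lit 145, nat_lit 658], [], (nat_lit 336), ⟨[nat_lit 0, nat_lit 22, nat_lit 54], [nat_lit 15, nat_lit 89], ⟨[nat_lit 0x4240520697139e71ce265365664175], [nat_lit 169472, nat_lit 164608, nat_lit 160128, nat_lit 157120, nat_lit 152992, nat_lit 148160, nat_lit 145032, nat_lit 139488, nat_lit 137560, nat_lit 131549, nat_lit 1760, nat_lit 5016, nat_lit 8928, nat_lit 13264, nat_lit 18400, nat_lit 20608, nat_lit 26496, nat_lit 30464, nat_lit 33280, nat_lit 41623, nat_lit 38397, nat_lit 33440, nat_lit 28746, nat_lit 24607, nat_lit 20992, nat_lit 16460, nat_lit 12292, nat_lit 8202, nat_lit 4100]⟩⟩⟩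
def p95 : AP := ⟨[nat_lit 133, nat_lit 649, nat_lit 118], [], (nat_lit 252), ⟨[nat_lit 40, nat_lit 70], [nat_lit 11, nat_lit 47], ⟨[nat_lit 0x758629d60d245417a6eb3968c34808], [nat_lit 175104, nat_lit 171520, nat_lit 162304, nat_lit 157888, nat_lit 154880, nat_lit 149328, nat_lit 144464, nat_lit 140880, nat_lit 138484, nat_lit 134708, nat_lit 2018, nat_lit 5856, nat_lit 10200, nat_lit 13264, nat_lit 18208, nat_lit 21504, nat_lit 25216, nat_lit 30208, nat_lit 41857, nat_lit 37952, nat_lit 32875, nat_lit 29280, nat_lit 24893, nat_lit 20620, nat_lit 16449, nat_lit 12324, nat_lit 8210]⟩⟩⟩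
def p96 : AP := ⟨[nat_lit 32, nat_lit 28, nat_lit 32, nat_lit 638], [], (nat_lit 247), ⟨[nat_lit 0, nat_lit 18, nat_lit 93], [nat_lit 84, nat_lit 93], ⟨[nat_lit 0xacdcb3d077309287c5568482563480], [nat_lit 173056, nat_lit 164096, nat_lit 161536, nat_lit 156288, nat_lit 154656, nat_lit 148080, nat_lit 144480, nat_lit 139812, nat_lit 135714, nat_lit 131702, nat_lit 32, nat_lit 4396, nat_lit 8680, nat_lit 13056, nat_lit 16512, nat_lit 20608, nat_lit 26112, nat_lit 30464, nat_lit 41888, nat_lit 38152, nat_lit 33817, nat_lit 29023, nat_lit 24763, nat_lit 20510, nat_lit 16430, nat_lit 12324, nat_lit 8193, nat_lit 4104]⟩⟩⟩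
def l97 : List AP := [⟨[], [], (nat_lit 246), ⟨[nat_lit 0, nat_lit 86, nat_lit 66], [nat_lit 4, nat_lit 46], ⟨[nat_lit 0xa99c8394709892b8bc0cbc834b11aa], [nat_lit 164352, nat_lit 161792, nat_lit 156096, nat_lit 152480, nat_lit 147808, nat_lit 145248, nat_lit 139556, nat_lit 135416, nat_lit 131114, nat_lit 1938, nat_lit 5884, nat_lit 9152, nat_lit 13600, nat_lit 16416, nat_lit 20736, nat_lit 24704, nat_lit 28928, nat_lit 33280, nat_lit 37888, nat_lit 41856, nat_lit 37288, nat_lit 33386, nat_lit 28734, nat_lit 20638, nat_lit 16526, nat_lit 12417, nat_lit 8203, nat_lit 4097]⟩⟩⟩,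
  ⟨[], [], (nat_lit 1034), ⟨[nat_lit 1, nat_lit 91], [nat_lit 0, nat_lit 44, nat_lit 57], ⟨[nat_lit 0x7c8cb090b46d5c351e2c8585345d20], [nat_lit 168960, nat_lit 160128, nat_lit 157184, nat_lit 152384, nat_lit 150336, nat_lit 143392, nat_lit 139348, nat_lit 137178, nat_lit 131794, nat_lit 16, nat_lit 5588, nat_lit 9328, nat_lit 13952, nat_lit 16640, nat_lit 21696, nat_lit 25984, nat_lit 34304, nat_lit 37888, nat_lit 41081, nat_lit 37264, nat_lit 32954, nat_lit 28708, nat_lit 24624, nat_lit 20494, nat_lit 16395, nat_lit 12307, nat_lit 8193]⟩⟩⟩]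
theorem s97 : Suf yT 12946744 (ldrop wW 169) (apW dcM p96) (tgtN dcM p96.e) := Suf.fin' (l := l97) (by decide +kernel)
def l96 : List AP := [⟨[], [], (nat_lit 124), ⟨[nat_lit 83, nat_lit 51], [nat_lit 0, nat_lit 34], ⟨[nat_lit 0xa5ea041df02ae4d239513326918ac1], [nat_lit 174080, nat_lit 168960, nat_lit 164608, nat_lit 163328, nat_lit 156032, nat_lit 149712, nat_lit 146504, nat_lit 143252, nat_lit 137368, nat_lit 134601, nat_lit 1180, nat_lit 5668, nat_lit 8200, nat_lit 13280, nat_lit 18272, nat_lit 22016, nat_lit 25088, nat_lit 30464, nat_lit 41045, nat_lit 37191, nat_lit 33416, nat_lit 28720, nat_lit 24832, nat_lit 20506, nat_lit 16423, nat_lit 12306, nat_lit 8200]⟩⟩⟩,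
  ⟨[nat_lit 69, nat_lit 47], [], (nat_lit 1038), ⟨[nat_lit 45, nat_lit 61], [nat_lit 80, nat_lit 49], ⟨[nat_lit 0xbd96e78c4994d0d3401561d4409691], [nat_lit 173056, nat_lit 168448, nat_lit 164352, nat_lit 160384, nat_lit 157440, nat_lit 153376, nat_lit 147632, nat_lit 146208, nat_lit 140828, nat_lit 135866, nat_lit 133097, nat_lit 1298, nat_lit 4128, nat_lit 10032, nat_lit 12320, nat_lit 16416, nat_lit 20608, nat_lit 25216, nat_lit 29184, nat_lit 33280, nat_lit 37888, nat_lit 41109, nat_lit 37308, nat_lit 33017, nat_lit 28713, nat_lit 24606, nat_lit 20492, nat_lit 16392, nat_lit 12290, nat_lit 8224, nat_lit 4104, nat_lit 128]⟩⟩⟩]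
theorem s96 : Suf yT 12946744 (ldrop wW 163) (apW dcM p95) (tgtN dcM p95.e) := Suf.seg (l := l96) (by decide +kernel) s97
def l95 : List AP := [⟨[nat_lit 658, nat_lit 147, nat_lit 140, nat_lit 143], [], (nat_lit 380), ⟨[nat_lit 43, nat_lit 93], [nat_lit 85, nat_lit 61], ⟨[nat_lit 0x4dae47a0eda866e5ca055006688a8c], [nat_lit 165888, nat_lit 156928, nat_lit 152832, nat_lit 147680, nat_lit 144440, nat_lit 141100, nat_lit 135330, nat_lit 132260, nat_lit 210, nat_lit 4380, nat_lit 8448, nat_lit 12800, nat_lit 17408, nat_lit 21504, nat_lit 25344, nat_lit 29184, nat_lit 33280, nat_lit 37888, nat_lit 41679, nat_lit 37197, nat_lit 32896, nat_lit 28936, nat_lit 25134, nat_lit 20563, nat_lit 16416, nat_lit 12416, nat_lit 4161, nat_lit 64]⟩⟩⟩,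
  ⟨[nat_lit 219, nat_lit 173], [], (nat_lit 398), ⟨[nat_lit 0, nat_lit 39], [nat_lit 0, nat_lit 75, nat_lit 49], ⟨[nat_lit 0xac126222f110de0685cc3ca8b9d945], [nat_lit 173056, nat_lit 167424, nat_lit 161024, nat_lit 157312, nat_lit 152064, nat_lit 148736, nat_lit 144024, nat_lit 140512, nat_lit 136604, nat_lit 131999, nat_lit 1938, nat_lit 5544, nat_lit 9560, nat_lit 12608, nat_lit 18272, nat_lit 21504, nat_lit 25088, nat_lit 29696, nat_lit 33792, nat_lit 37888, nat_lit 41216, nat_lit 37239, nat_lit 32910, nat_lit 28974, nat_lit 25143, nat_lit 20608, nat_lit 16386, nat_lit 12547, nat_lit 8202, nat_lit 4100, nat_lit 2]⟩⟩⟩]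
theorem s95 : Suf yT 12946744 (ldrop wW 151) (apW dcM p94) (tgtN dcM p94.e) := Suf.seg (l := l95) (by decide +kernel) s96
def l94 : List AP := [⟨[nat_lit 467, nat_lit 416, nat_lit 463], [], (nat_lit 1242), ⟨[nat_lit 15, nat_lit 46], [nat_lit 88, nat_lit 57], ⟨[nat_lit 0x14aa63a1e4031614b6f68c1ca28e93], [nat_lit 168960, nat_lit 167424, nat_lit 160256, nat_lit 155712, nat_lit 152896, nat_lit 149200, nat_lit 143488, nat_lit 141112, nat_lit 136168, nat_lit 132998, nat_lit 846, nat_lit 4564, nat_lit 9296, nat_lit 12416, nat_lit 16512, nat_lit 22464, nat_lit 26368, nat_lit 29696, nat_lit 33792, nat_lit 41536, nat_lit 38248, nat_lit 32995, nat_lit 28999, nat_lit 24883, nat_lit 20612, nat_lit 16461, nat_lit 12309, nat_lit 8209, nat_lit 4353]⟩⟩⟩,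
  ⟨[nat_lit 293, nat_lit 285], [], (nat_lit 1212), ⟨[nat_lit 40, nat_lit 57], [nat_lit 0, nat_lit 20, nat_lit 48], ⟨[nat_lit 0x8364cb554b9c5ee30c47004a44d117], [nat_lit 174080, nat_lit 171008, nat_lit 165120, nat_lit 162560, nat_lit 157696, nat_lit 155072, nat_lit 147520, nat_lit 145240, nat_lit 140688, nat_lit 138694, nat_lit 133693, nat_lit 1396, nat_lit 4756, nat_lit 8552, nat_lit 13552, nat_lit 16640, nat_lit 22080, nat_lit 26368, nat_lit 28928, nat_lit 33792, nat_lit 41485, nat_lit 37296, nat_lit 33444, nat_lit 28675, nat_lit 24613, nat_lit 20572, nat_lit 16387, nat_lit 12320, nat_lit 8258, nat_lit 4097, nat_lit 2]⟩⟩⟩]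
theorem s94 : Suf yT 12946744 (ldrop wW 143) (apW dcM p93) (tgtN dcM p93.e) := Suf.seg (l := l94) (by decide +kernel) s95
def l93 : List AP := [⟨[nat_lit 356, nat_lit 353, nat_lit 284, nat_lit 284], [], (nat_lit 872), ⟨[nat_lit 11, nat_lit 94], [nat_lit 36, nat_lit 90], ⟨[nat_lit 0x9392a045e33582b6ce95410572c0ec], [nat_lit 173056, nat_lit 170496, nat_lit 164352, nat_lit 161408, nat_lit 156608, nat_lit 153248, nat_lit 149264, nat_lit 144648, nat_lit 139408, nat_lit 135218, nat_lit 132074, nat_lit 1440, nat_lit 4924, nat_lit 8592, nat_lit 12432, nat_lit 16576, nat_lit 20736, nat_lit 25088, nat_lit 29440, nat_lit 37888, nat_lit 41936, nat_lit 38376, nat_lit 32959, nat_lit 29035, nat_lit 24600, nat_lit 20752, nat_lit 16461, nat_lit 12327, nat_lit 8209, nat_lit 4097, nat_lit 2]⟩⟩⟩,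
  ⟨[nat_lit 678, nat_lit 462, nat_lit 468, nat_lit 678, nat_lit 411], [], (nat_lit 894), ⟨[nat_lit 0, nat_lit 81, nat_lit 59], [nat_lit 7, nat_lit 50], ⟨[nat_lit 0x88e92b10054b0f343e0655561709b7], [nat_lit 164608, nat_lit 160256, nat_lit 156864, nat_lit 152096, nat_lit 150272, nat_lit 145016, nat_lit 139984, nat_lit 136586, nat_lit 132523, nat_lit 1124, nat_lit 5512, nat_lit 8208, nat_lit 12832, nat_lit 18336, nat_lit 22400, nat_lit 26240, nat_lit 37888, nat_lit 41647, nat_lit 38346, nat_lit 33365, nat_lit 28738, nat_lit 24754, nat_lit 20496, nat_lit 16394, nat_lit 12310, nat_lit 4113]⟩⟩⟩]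
theorem s93 : Suf yT 12946744 (ldrop wW 132) (apW dcM p92) (tgtN dcM p92.e) := Suf.seg (l := l93) (by decide +kernel) s94
def l92 : List AP := [⟨[nat_lit 463, nat_lit 678, nat_lit 415, nat_lit 677], [], (nat_lit 911), ⟨[nat_lit 0, nat_lit 75, nat_lit 94], [nat_lit 0, nat_lit 58], ⟨[nat_lit 0x1ce217a90cbd0c44b9ab14a002daa7], [nat_lit 175104, nat_lit 171520, nat_lit 166400, nat_lit 160896, nat_lit 157184, nat_lit 152160, nat_lit 149840, nat_lit 144936, nat_lit 140916, nat_lit 137574, nat_lit 134114, nat_lit 1054, nat_lit 5208, nat_lit 8824, nat_lit 12976, nat_lit 16864, nat_lit 22080, nat_lit 25344, nat_lit 29440, nat_lit 34304, nat_lit 41365, nat_lit 37013, nat_lit 32791, nat_lit 28757, nat_lit 24635, nat_lit 20511, nat_lit 16394, nat_lit 12311, nat_lit 8203, nat_lit 4100, nat_lit 8]⟩⟩⟩,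
  ⟨[nat_lit 420, nat_lit 677, nat_lit 415, nat_lit 412], [], (nat_lit 918), ⟨[nat_lit 0, nat_lit 77, nat_lit 94], [nat_lit 0, nat_lit 34, nat_lit 61], ⟨[nat_lit 0x712f2855a742922580237da26a4cac], [nat_lit 175104, nat_lit 171520, nat_lit 162176, nat_lit 157888, nat_lit 154112, nat_lit 148480, nat_lit 144376, nat_lit 140028, nat_lit 137454, nat_lit 134984, nat_lit 2012, nat_lit 4540, nat_lit 9384, nat_lit 12320, nat_lit 16960, nat_lit 29184, nat_lit 33280, nat_lit 37888, nat_lit 41838, nat_lit 37106, nat_lit 33989, nat_lit 28675, nat_lit 25126, nat_lit 20744, nat_lit 16455, nat_lit 12544, nat_lit 4097]⟩⟩⟩]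
theorem s92 : Suf yT 12946744 (ldrop wW 126) (apW dcM p91) (tgtN dcM p91.e) := Suf.seg (l := l92) (by decide +kernel) s93
def l91 : List AP := [⟨[nat_lit 674, nat_lit 677, nat_lit 468, nat_lit 411, nat_lit 412], [], (nat_lit 910), ⟨[nat_lit 80, nat_lit 58], [nat_lit 0, nat_lit 20, nat_lit 90], ⟨[nat_lit 0x8828db20d74958e12c81acde354247], [nat_lit 168960, nat_lit 166144, nat_lit 160256, nat_lit 155712, nat_lit 153152, nat_lit 148352, nat_lit 145304, nat_lit 140784, nat_lit 136694, nat_lit 132795, nat_lit 1438, nat_lit 5232, nat_lit 8904, nat_lit 12352, nat_lit 17792, nat_lit 22272, nat_lit 24832, nat_lit 30464, nat_lit 37888, nat_lit 41553, nat_lit 38225, nat_lit 33010, nat_lit 29018, nat_lit 24603, nat_lit 20619, nat_lit 16451, nat_lit 12309, nat_lit 8201, nat_lit 4129]⟩⟩⟩,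
  ⟨[nat_lit 468, nat_lit 417, nat_lit 467, nat_lit 412], [], (nat_lit 904), ⟨[nat_lit 8, nat_lit 90], [nat_lit 0, nat_lit 88, nat_lit 67], ⟨[nat_lit 0xb56923a06d7980a0b0a98ce171388b], [nat_lit 173056, nat_lit 168448, nat_lit 166144, nat_lit 161408, nat_lit 156800, nat_lit 152256, nat_lit 148048, nat_lit 144088, nat_lit 140744, nat_lit 135568, nat_lit 132668, nat_lit 1966, nat_lit 5064, nat_lit 9904, nat_lit 13104, nat_lit 16640, nat_lit 22400, nat_lit 29440, nat_lit 37888, nat_lit 41825, nat_lit 37304, nat_lit 32910, nat_lit 29006, nat_lit 24763, nat_lit 20571, nat_lit 16387, nat_lit 12359, nat_lit 4113, nat_lit 16]⟩⟩⟩]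
theorem s91 : Suf yT 12946744 (ldrop wW 112) (apW dcM p90) (tgtN dcM p90.e) := Suf.seg (l := l91) (by decide +kernel) s92
def l90 : List AP := [⟨[nat_lit 678, nat_lit 411, nat_lit 416, nat_lit 414], [], (nat_lit 904), ⟨[nat_lit 0, nat_lit 27, nat_lit 59], [nat_lit 0, nat_lit 76, nat_lit 52], ⟨[nat_lit 0x4a2ca3ba636941211a2f09190bae95], [nat_lit 175104, nat_lit 169984, nat_lit 166656, nat_lit 163072, nat_lit 156032, nat_lit 154720, nat_lit 150896, nat_lit 144840, nat_lit 142900, nat_lit 136520, nat_lit 132465, nat_lit 342, nat_lit 5112, nat_lit 10128, nat_lit 14064, nat_lit 16768, nat_lit 20544, nat_lit 26368, nat_lit 29696, nat_lit 34304, nat_lit 37888, nat_lit 41716, nat_lit 37069, nat_lit 32892, nat_lit 28722, nat_lit 24604, nat_lit 20497, nat_lit 16421, nat_lit 12295, nat_lit 8194, nat_lit 4100]⟩⟩⟩,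
  ⟨[nat_lit 181, nat_lit 179, nat_lit 171], [], (nat_lit 408), ⟨[nat_lit 38, nat_lit 66], [nat_lit 4, nat_lit 57], ⟨[nat_lit 0x9a90f0c583a8124a3616349c512cf7], [nat_lit 173056, nat_lit 171520, nat_lit 164864, nat_lit 161280, nat_lit 156480, nat_lit 151584, nat_lit 148496, nat_lit 144128, nat_lit 140096, nat_lit 136518, nat_lit 132908, nat_lit 1652, nat_lit 4328, nat_lit 9008, nat_lit 13392, nat_lit 17312, nat_lit 22336, nat_lit 25600, nat_lit 30208, nat_lit 33792, nat_lit 37888, nat_lit 41472, nat_lit 38310, nat_lit 33355, nat_lit 28676, nat_lit 24853, nat_lit 20544, nat_lit 16424, nat_lit 12324, nat_lit 8202, nat_lit 4097]⟩⟩⟩]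
theorem s90 : Suf yT 12946744 (ldrop wW 101) (apW dcM p89) (tgtN dcM p89.e) := Suf.seg (l := l90) (by decide +kernel) s91
def l89 : List AP := [⟨[nat_lit 213, nat_lit 176, nat_lit 218], [], (nat_lit 408), ⟨[nat_lit 0, nat_lit 15, nat_lit 60], [nat_lit 0, nat_lit 22, nat_lit 55], ⟨[nat_lit 0x382895b6688988f93af683041a8d45], [nat_lit 166656, nat_lit 162432, nat_lit 158080, nat_lit 154816, nat_lit 148640, nat_lit 146128, nat_lit 143012, nat_lit 135988, nat_lit 134535, nat_lit 364, nat_lit 5884, nat_lit 9968, nat_lit 12656, nat_lit 16864, nat_lit 22336, nat_lit 25344, nat_lit 30464, nat_lit 37888, nat_lit 41027, nat_lit 37246, nat_lit 33434, nat_lit 28693, nat_lit 24869, nat_lit 20751, nat_lit 16399, nat_lit 12309, nat_lit 8210]⟩⟩⟩,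
  ⟨[nat_lit 654, nat_lit 144, nat_lit 141, nat_lit 654], [], (nat_lit 318), ⟨[nat_lit 0, nat_lit 43, nat_lit 58], [nat_lit 38, nat_lit 53], ⟨[nat_lit 0x134a0aa66161d4b85068b3897919f1], [nat_lit 175104, nat_lit 168960, nat_lit 167168, nat_lit 161792, nat_lit 159232, nat_lit 151776, nat_lit 148192, nat_lit 145352, nat_lit 142312, nat_lit 137794, nat_lit 132122, nat_lit 1652, nat_lit 4780, nat_lit 8816, nat_lit 14176, nat_lit 17824, nat_lit 20864, nat_lit 26368, nat_lit 30208, nat_lit 41166, nat_lit 36973, nat_lit 32778, nat_lit 29812, nat_lit 25145, nat_lit 20629, nat_lit 16463, nat_lit 12290, nat_lit 8225, nat_lit 16]⟩⟩⟩]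
theorem s89 : Suf yT 12946744 (ldrop wW 73) (apW dcM p88) (tgtN dcM p88.e) := Suf.seg (l := l89) (by decide +kernel) s90
def l88 : List AP := [⟨[nat_lit 463, nat_lit 412, nat_lit 420], [], (nat_lit 949), ⟨[nat_lit 0, nat_lit 32, nat_lit 59], [nat_lit 0], ⟨[nat_lit 0xc1e06a13171cd2a0d442ac57b5593], [nat_lit 169472, nat_lit 166656, nat_lit 160256, nat_lit 157248, nat_lit 153088, nat_lit 149008, nat_lit 143856, nat_lit 139652, nat_lit 136192, nat_lit 132537, nat_lit 846, nat_lit 4156, nat_lit 9384, nat_lit 12480, nat_lit 21056, nat_lit 25856, nat_lit 28928, nat_lit 41870, nat_lit 37242, nat_lit 32784, nat_lit 29730, nat_lit 25146, nat_lit 20499, nat_lit 16428, nat_lit 12291, nat_lit 8193]⟩⟩⟩,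
  ⟨[nat_lit 410, nat_lit 410, nat_lit 410], [], (nat_lit 948), ⟨[nat_lit 86, nat_lit 94], [nat_lit 0, nat_lit 32, nat_lit 59], ⟨[nat_lit 0xc1e06a13171cd2a0d442ac57b5593], [nat_lit 169472, nat_lit 166400, nat_lit 160384, nat_lit 157248, nat_lit 153120, nat_lit 148992, nat_lit 143856, nat_lit 139652, nat_lit 136194, nat_lit 132536, nat_lit 846, nat_lit 4156, nat_lit 9384, nat_lit 12480, nat_lit 21056, nat_lit 25856, nat_lit 28928, nat_lit 41870, nat_lit 37242, nat_lit 32784, nat_lit 29730, nat_lit 25146, nat_lit 20499, nat_lit 16428, nat_lit 12291, nat_lit 8193]⟩⟩⟩]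
theorem s88 : Suf yT 12946744 (ldrop wW 67) (apW dcM p87) (tgtN dcM p87.e) := Suf.seg (l := l88) (by decide +kernel) s89
def l87 : List AP := [⟨[nat_lit 410, nat_lit 410, nat_lit 410], [], (nat_lit 949), ⟨[nat_lit 0, nat_lit 40, nat_lit 94], [nat_lit 45, nat_lit 56], ⟨[nat_lit 0xa16370aece7c1a4548c940d9511c13], [nat_lit 169984, nat_lit 166400, nat_lit 162944, nat_lit 157952, nat_lit 152096, nat_lit 150064, nat_lit 145552, nat_lit 140952, nat_lit 138852, nat_lit 131337, nat_lit 404, nat_lit 4684, nat_lit 8824, nat_lit 14224, nat_lit 18112, nat_lit 20800, nat_lit 26368, nat_lit 29952, nat_lit 33792, nat_lit 37888, nat_lit 41894, nat_lit 37227, nat_lit 32804, nat_lit 29738, nat_lit 24610, nat_lit 20573, nat_lit 16389, nat_lit 12325, nat_lit 8208, nat_lit 4097]⟩⟩⟩,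
  ⟨[nat_lit 463, nat_lit 417, nat_lit 675, nat_lit 420], [], (nat_lit 904), ⟨[nat_lit 0, nat_lit 1, nat_lit 51], [nat_lit 0, nat_lit 3, nat_lit 89], ⟨[nat_lit 0x754f264cd65a140bb4901882979691], [nat_lit 173056, nat_lit 171520, nat_lit 164352, nat_lit 160512, nat_lit 159360, nat_lit 152192, nat_lit 149392, nat_lit 145840, nat_lit 141728, nat_lit 138024, nat_lit 134198, nat_lit 78, nat_lit 5604, nat_lit 9568, nat_lit 13664, nat_lit 18208, nat_lit 29184, nat_lit 33792, nat_lit 37888, nat_lit 41829, nat_lit 36865, nat_lit 33828, nat_lit 28679, nat_lit 24883, nat_lit 20563, nat_lit 16449, nat_lit 12289, nat_lit 8322, nat_lit 4112]⟩⟩⟩]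
theorem s87 : Suf yT 12946744 (ldrop wW 56) (apW dcM p86) (tgtN dcM p86.e) := Suf.seg (l := l87) (by decide +kernel) s88
def l86 : List AP := [⟨[nat_lit 654, nat_lit 141, nat_lit 140], [], (nat_lit 374), ⟨[nat_lit 74, nat_lit 52], [nat_lit 0, nat_lit 86, nat_lit 69], ⟨[nat_lit 0x204458de55180e684e964b98b53da8], [nat_lit 175104, nat_lit 165632, nat_lit 161664, nat_lit 159360, nat_lit 154560, nat_lit 150224, nat_lit 143800, nat_lit 141540, nat_lit 135368, nat_lit 134026, nat_lit 1396, nat_lit 5884, nat_lit 8776, nat_lit 13712, nat_lit 17376, nat_lit 20672, nat_lit 25728, nat_lit 30208, nat_lit 33280, nat_lit 41389, nat_lit 37121, nat_lit 33413, nat_lit 28999, nat_lit 24729, nat_lit 21516, nat_lit 16399, nat_lit 12290, nat_lit 8210, nat_lit 4104]⟩⟩⟩,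
  ⟨[nat_lit 216, nat_lit 661, nat_lit 216, nat_lit 170], [], (nat_lit 905), ⟨[nat_lit 16, nat_lit 91], [nat_lit 6, nat_lit 90], ⟨[nat_lit 0x43040224cd7c1520c4b6acc67752eb], [nat_lit 174080, nat_lit 168448, nat_lit 166144, nat_lit 162944, nat_lit 158080, nat_lit 152960, nat_lit 149136, nat_lit 144240, nat_lit 141396, nat_lit 139008, nat_lit 132186, nat_lit 1966, nat_lit 5112, nat_lit 9752, nat_lit 12672, nat_lit 17152, nat_lit 21440, nat_lit 25856, nat_lit 28928, nat_lit 34304, nat_lit 41927, nat_lit 37921, nat_lit 32977, nat_lit 28991, nat_lit 24755, nat_lit 20489, nat_lit 16391, nat_lit 12290, nat_lit 8194, nat_lit 4101, nat_lit 2]⟩⟩⟩]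
theorem s86 : Suf yT 12946744 (ldrop wW 42) (apW dcM p85) (tgtN dcM p85.e) := Suf.seg (l := l86) (by decide +kernel) s87
def l85 : List AP := [⟨[nat_lit 46, nat_lit 56, nat_lit 72, nat_lit 53], [], (nat_lit 244), ⟨[nat_lit 4, nat_lit 61], [nat_lit 71, nat_lit 56], ⟨[nat_lit 0x5c0263d8ac98124522afbc64da086e], [nat_lit 171008, nat_lit 164608, nat_lit 162816, nat_lit 156480, nat_lit 154656, nat_lit 150768, nat_lit 146032, nat_lit 141020, nat_lit 136020, nat_lit 133724, nat_lit 1292, nat_lit 4404, nat_lit 8224, nat_lit 12320, nat_lit 17248, nat_lit 20672, nat_lit 25728, nat_lit 29440, nat_lit 33280, nat_lit 41525, nat_lit 38272, nat_lit 33352, nat_lit 29000, nat_lit 24607, nat_lit 20501, nat_lit 16388, nat_lit 12354, nat_lit 8200, nat_lit 4160]⟩⟩⟩,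
  ⟨[nat_lit 116, nat_lit 120, nat_lit 137, nat_lit 651, nat_lit 133], [], (nat_lit 310), ⟨[nat_lit 35, nat_lit 61], [nat_lit 17], ⟨[nat_lit 0x939aa159e735d8082061291719a695], [nat_lit 171520, nat_lit 165632, nat_lit 161792, nat_lit 157632, nat_lit 154336, nat_lit 151232, nat_lit 146880, nat_lit 140616, nat_lit 136774, nat_lit 134441, nat_lit 1730, nat_lit 5208, nat_lit 8632, nat_lit 12640, nat_lit 17344, nat_lit 20992, nat_lit 25472, nat_lit 29952, nat_lit 33792, nat_lit 37888, nat_lit 41587, nat_lit 37976, nat_lit 32857, nat_lit 28705, nat_lit 24582, nat_lit 20498, nat_lit 16417, nat_lit 12551, nat_lit 8193, nat_lit 4097, nat_lit 2]⟩⟩⟩]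
theorem s85 : Suf yT 12946744 (ldrop wW 32) (apW dcM p84) (tgtN dcM p84.e) := Suf.seg (l := l85) (by decide +kernel) s86
def l84 : List AP := [⟨[nat_lit 176, nat_lit 212, nat_lit 212], [], (nat_lit 364), ⟨[nat_lit 0, nat_lit 20, nat_lit 52], [nat_lit 31, nat_lit 54], ⟨[nat_lit 0x349011cd678808a636cfbd2ae82445], [nat_lit 173056, nat_lit 171008, nat_lit 164608, nat_lit 160896, nat_lit 158464, nat_lit 153280, nat_lit 148896, nat_lit 147000, nat_lit 142500, nat_lit 138594, nat_lit 135049, nat_lit 718, nat_lit 5568, nat_lit 8320, nat_lit 13536, nat_lit 18336, nat_lit 21504, nat_lit 25856, nat_lit 29952, nat_lit 33280, nat_lit 37888, nat_lit 41889, nat_lit 37339, nat_lit 32777, nat_lit 28748, nat_lit 24624, nat_lit 20563, nat_lit 16389, nat_lit 12421, nat_lit 8195, nat_lit 4100]⟩⟩⟩,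
  ⟨[], [], (nat_lit 1050), ⟨[nat_lit 38], [nat_lit 0, nat_lit 38, nat_lit 47], ⟨[nat_lit 0x349011cd678808a636cfbd2ae82445], [nat_lit 173056, nat_lit 171520, nat_lit 164608, nat_lit 160896, nat_lit 158464, nat_lit 153280, nat_lit 148912, nat_lit 146992, nat_lit 142500, nat_lit 138592, nat_lit 135048, nat_lit 718, nat_lit 5568, nat_lit 8320, nat_lit 13536, nat_lit 18336, nat_lit 21504, nat_lit 25856, nat_lit 29952, nat_lit 33280, nat_lit 37888, nat_lit 41889, nat_lit 37339, nat_lit 32777, nat_lit 28748, nat_lit 24624, nat_lit 20563, nat_lit 16389, nat_lit 12421, nat_lit 8195, nat_lit 4100]⟩⟩⟩]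
theorem s84 : Suf yT 12946744 (ldrop wW 26) (apW dcM p83) (tgtN dcM p83.e) := Suf.seg (l := l84) (by decide +kernel) s85
def l83 : List AP := [⟨[nat_lit 119, nat_lit 649, nat_lit 135, nat_lit 115], [], (nat_lit 258), ⟨[nat_lit 0, nat_lit 22, nat_lit 94], [nat_lit 0, nat_lit 76, nat_lit 54], ⟨[nat_lit 0x220d3b81c78adaf50c5092696ab025], [nat_lit 168448, nat_lit 165376, nat_lit 159872, nat_lit 155904, nat_lit 153056, nat_lit 148144, nat_lit 144264, nat_lit 139660, nat_lit 135578, nat_lit 133924, nat_lit 128, nat_lit 4224, nat_lit 8504, nat_lit 13520, nat_lit 17792, nat_lit 22080, nat_lit 25344, nat_lit 29952, nat_lit 33280, nat_lit 41839, nat_lit 38194, nat_lit 33966, nat_lit 28769, nat_lit 24614, nat_lit 20502, nat_lit 16430, nat_lit 12306, nat_lit 8195, nat_lit 4097]⟩⟩⟩,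
  ⟨[nat_lit 117, nat_lit 652, nat_lit 653], [], (nat_lit 245), ⟨[nat_lit 0, nat_lit 77, nat_lit 58], [nat_lit 82, nat_lit 92], ⟨[nat_lit 0x5cd2462077800c153456938efa5625], [nat_lit 173056, nat_lit 169472, nat_lit 167168, nat_lit 160640, nat_lit 157568, nat_lit 151936, nat_lit 148144, nat_lit 144456, nat_lit 139780, nat_lit 136198, nat_lit 133019, nat_lit 1634, nat_lit 4116, nat_lit 8824, nat_lit 14144, nat_lit 16416, nat_lit 20736, nat_lit 25856, nat_lit 28928, nat_lit 33792, nat_lit 37888, nat_lit 41612, nat_lit 37192, nat_lit 33503, nat_lit 28677, nat_lit 25099, nat_lit 20496, nat_lit 16424, nat_lit 12304, nat_lit 8320, nat_lit 4161, nat_lit 4]⟩⟩⟩]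
theorem s83 : Suf yT 12946744 (ldrop wW 18) (apW dcM p82) (tgtN dcM p82.e) := Suf.seg (l := l83) (by decide +kernel) s84
def l82 : List AP := [⟨[nat_lit 23, nat_lit 24, nat_lit 24, nat_lit 31, nat_lit 30], [], (nat_lit 216), ⟨[nat_lit 14, nat_lit 91], [nat_lit 71], ⟨[nat_lit 0x3992c7c113559b4888b50dc927006b], [nat_lit 168960, nat_lit 160896, nat_lit 158528, nat_lit 151712, nat_lit 148304, nat_lit 144288, nat_lit 140348, nat_lit 136876, nat_lit 132222, nat_lit 986, nat_lit 5072, nat_lit 10168, nat_lit 12352, nat_lit 17728, nat_lit 22080, nat_lit 30208, nat_lit 34304, nat_lit 37888, nat_lit 41863, nat_lit 37184, nat_lit 33401, nat_lit 29719, nat_lit 24621, nat_lit 20571, nat_lit 16422, nat_lit 12292, nat_lit 8203, nat_lit 4101, nat_lit 4]⟩⟩⟩,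
  ⟨[nat_lit 132, nat_lit 130, nat_lit 109], [], (nat_lit 254), ⟨[nat_lit 0, nat_lit 37, nat_lit 56], [nat_lit 0, nat_lit 24, nat_lit 54], ⟨[nat_lit 0x18049b1e2d0a16a2b2572526eabcd0], [nat_lit 175104, nat_lit 169472, nat_lit 164864, nat_lit 162432, nat_lit 157056, nat_lit 153120, nat_lit 150336, nat_lit 146680, nat_lit 142540, nat_lit 139074, nat_lit 133708, nat_lit 1246, nat_lit 4548, nat_lit 9552, nat_lit 14112, nat_lit 17504, nat_lit 21888, nat_lit 25600, nat_lit 29952, nat_lit 34304, nat_lit 37888, nat_lit 41185, nat_lit 36929, nat_lit 32958, nat_lit 28942, nat_lit 24614, nat_lit 20549, nat_lit 16517, nat_lit 12292, nat_lit 8201, nat_lit 4128]⟩⟩⟩]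
theorem s82 : Suf yT 12946744 (ldrop wW 6) (apW dcM p81) (tgtN dcM p81.e) := Suf.seg (l := l82) (by decide +kernel) s83
def l81 : List AP := [⟨[nat_lit 626, nat_lit 1, nat_lit 4, nat_lit 2], [], (nat_lit 24), ⟨[nat_lit 23, nat_lit 48], [nat_lit 14, nat_lit 70], ⟨[nat_lit 0x43d2165c556c220b166b23866550f2], [nat_lit 175104, nat_lit 165120, nat_lit 160512, nat_lit 158976, nat_lit 155200, nat_lit 151520, nat_lit 144280, nat_lit 142952, nat_lit 136420, nat_lit 133842, nat_lit 1140, nat_lit 4328, nat_lit 9128, nat_lit 12480, nat_lit 17856, nat_lit 25728, nat_lit 29440, nat_lit 33280, nat_lit 37888, nat_lit 41757, nat_lit 38384, nat_lit 33902, nat_lit 29220, nat_lit 24735, nat_lit 20491, nat_lit 16455, nat_lit 12325, nat_lit 8203]⟩⟩⟩,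
  ⟨[nat_lit 628, nat_lit 0, nat_lit 628, nat_lit 8, nat_lit 10, nat_lit 0], [], (nat_lit 40), ⟨[nat_lit 0, nat_lit 33, nat_lit 68], [nat_lit 88, nat_lit 64], ⟨[nat_lit 0x445b510cc1a41cb4cecc53ef239480], [nat_lit 168960, nat_lit 165120, nat_lit 159872, nat_lit 156736, nat_lit 151584, nat_lit 145744, nat_lit 140908, nat_lit 136724, nat_lit 131487, nat_lit 8, nat_lit 5252, nat_lit 8936, nat_lit 12304, nat_lit 22208, nat_lit 25472, nat_lit 30208, nat_lit 41888, nat_lit 38328, nat_lit 33874, nat_lit 28685, nat_lit 24852, nat_lit 20569, nat_lit 16392, nat_lit 12291, nat_lit 8227, nat_lit 4105]⟩⟩⟩]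
theorem rW : Suf yT 12946744 wW [yT.get 0] 0 := Suf.seg (l := l81) (by decide +kernel) s82


end

end CF.Mon.Tr
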