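import Cfsg.Agent.Mon.Tr
import Cfsg.Agent.Mon.YD

set_option autoImplicit false
set_option maxRecDepth 100000

namespace CF.Mon.Tr

open CF.Comp

noncomputable section

def wc1_a : List ℕ := [nat_lit 0, nat_lit 17, nat_lit 0, nat_lit 18, nat_lit 6, nat_lit 20, nat_lit 0, nat_lit 19, nat_lit 0, nat_lit 1]
def wc1_b1 : List ℕ := [nat_lit 0, nat_lit 17, nat_lit 0, nat_lit 18, nat_lit 5, nat_lit 20, nat_lit 0, nat_lit 19, nat_lit 0, nat_lit 21, nat_lit 0, nat_lit 17, nat_lit 0, nat_lit 18, nat_lit 0]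
def wc1_d1 : List ℕ := [nat_lit 0, nat_lit 17, nat_lit 0, nat_lit 18, nat_lit 4, nat_lit 20, nat_lit 0, nat_lit 19, nat_lit 0, nat_lit 21, nat_lit 0, nat_lit 17, nat_lit 0, nat_lit 18]
def wc1_e1 : List ℕ := [nat_lit 0, nat_lit 17, nat_lit 0, nat_lit 18, nat_lit 26, nat_lit 0, nat_lit 25, nat_lit 0, nat_lit 27, nat_lit 0, nat_lit 23, nat_lit 0, nat_lit 24, nat_lit 20, nat_lit 0, nat_lit 19, nat_lit 0, nat_lit 1]
def wc1_f1 : List ℕ := [nat_lit 0, nat_lit 17, nat_lit 0, nat_lit 18, nat_lit 3, nat_lit 20, nat_lit 0, nat_lit 19, nat_lit 0, nat_lit 1]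
def wc1_b2 : List ℕ := [nat_lit 0, nat_lit 17, nat_lit 0, nat_lit 18, nat_lit 7, nat_lit 20, nat_lit 0, nat_lit 19, nat_lit 0, nat_lit 1]
def wc1_c2 : List ℕ := [nat_lit 0, nat_lit 17, nat_lit 0, nat_lit 18, nat_lit 8, nat_lit 20, nat_lit 0, nat_lit 19, nat_lit 0, nat_lit 1]
def wc1_d2 : List ℕ := [nat_lit 0, nat_lit 17, nat_lit 0, nat_lit 18, nat_lit 9, nat_lit 20, nat_lit 0, nat_lit 19, nat_lit 0, nat_lit 1]
def wc1_e2 : List ℕ := [nat_lit 0, nat_lit 17, nat_lit 0, nat_lit 18, nat_lit 32, nat_lit 0, nat_lit 31, nat_lit 0, nat_lit 33, nat_lit 0, nat_lit 29, nat_lit 0, nat_lit 30, nat_lit 20, nat_lit 0, nat_lit 19, nat_lit 0, nat_lit 1]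
def wc1_f2 : List ℕ := [nat_lit 0, nat_lit 17, nat_lit 0, nat_lit 18, nat_lit 2, nat_lit 20, nat_lit 0, nat_lit 19, nat_lit 0, nat_lit 1]
def wc1_b3 : List ℕ := [nat_lit 0, nat_lit 17, nat_lit 0, nat_lit 18, nat_lit 10, nat_lit 20, nat_lit 0, nat_lit 19, nat_lit 0, nat_lit 1]
def wc1_c3 : List ℕ := [nat_lit 0, nat_lit 17, nat_lit 0, nat_lit 18, nat_lit 11, nat_lit 20, nat_lit 0, nat_lit 19, nat_lit 0, nat_lit 1]
def wc1_d3 : List ℕ := [nat_lit 0, nat_lit 17, nat_lit 0, nat_lit 18, nat_lit 12, nat_lit 20, nat_lit 0, nat_lit 19, nat_lit 0, nat_lit 1]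
def we1_a : List ℕ := [nat_lit 0, nat_lit 23, nat_lit 0, nat_lit 24, nat_lit 6, nat_lit 26, nat_lit 0, nat_lit 25, nat_lit 0, nat_lit 1]
def we1_b1 : List ℕ := [nat_lit 0, nat_lit 23, nat_lit 0, nat_lit 24, nat_lit 5, nat_lit 26, nat_lit 0, nat_lit 25, nat_lit 0, nat_lit 1]
def we1_d1 : List ℕ := [nat_lit 0, nat_lit 23, nat_lit 0, nat_lit 24, nat_lit 4, nat_lit 26, nat_lit 0, nat_lit 25, nat_lit 0, nat_lit 27, nat_lit 0, nat_lit 23, nat_lit 0, nat_lit 24]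
def we1_f1 : List ℕ := [nat_lit 0, nat_lit 23, nat_lit 0, nat_lit 24, nat_lit 3, nat_lit 26, nat_lit 0, nat_lit 25, nat_lit 0, nat_lit 27, nat_lit 0, nat_lit 23, nat_lit 0, nat_lit 24]
def we1_b2 : List ℕ := [nat_lit 0, nat_lit 23, nat_lit 0, nat_lit 24, nat_lit 7, nat_lit 26, nat_lit 0, nat_lit 25, nat_lit 0, nat_lit 1]
def we1_c2 : List ℕ := [nat_lit 0, nat_lit 23, nat_lit 0, nat_lit 24, nat_lit 8, nat_lit 26, nat_lit 0, nat_lit 25, nat_lit 0, nat_lit 1]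
def we1_d2 : List ℕ := [nat_lit 0, nat_lit 23, nat_lit 0, nat_lit 24, nat_lit 9, nat_lit 26, nat_lit 0, nat_lit 25, nat_lit 0, nat_lit 1]
def we1_e2 : List ℕ := [nat_lit 0, nat_lit 23, nat_lit 0, nat_lit 24, nat_lit 32, nat_lit 0, nat_lit 31, nat_lit 0, nat_lit 33, nat_lit 0, nat_lit 29, nat_lit 0, nat_lit 30, nat_lit 26, nat_lit 0, nat_lit 25, nat_lit 0, nat_lit 1]
def we1_f2 : List ℕ := [nat_lit 0, nat_lit 23, nat_lit 0, nat_lit 24, nat_lit 2, nat_lit 26, nat_lit 0, nat_lit 25, nat_lit 0, nat_lit 1]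
def we1_b3 : List ℕ := [nat_lit 0, nat_lit 23, nat_lit 0, nat_lit 24, nat_lit 10, nat_lit 26, nat_lit 0, nat_lit 25, nat_lit 0, nat_lit 1]
def we1_c3 : List ℕ := [nat_lit 0, nat_lit 23, nat_lit 0, nat_lit 24, nat_lit 11, nat_lit 26, nat_lit 0, nat_lit 25, nat_lit 0, nat_lit 1]
def we1_d3 : List ℕ := [nat_lit 0, nat_lit 23, nat_lit 0, nat_lit 24, nat_lit 12, nat_lit 26, nat_lit 0, nat_lit 25, nat_lit 0, nat_lit 1]
def we2_a : List ℕ := [nat_lit 0, nat_lit 29, nat_lit 0, nat_lit 30, nat_lit 6, nat_lit 32, nat_lit 0, nat_lit 31, nat_lit 0, nat_lit 1]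
def we2_b1 : List ℕ := [nat_lit 0, nat_lit 29, nat_lit 0, nat_lit 30, nat_lit 5, nat_lit 32, nat_lit 0, nat_lit 31, nat_lit 0, nat_lit 1]
def we2_d1 : List ℕ := [nat_lit 0, nat_lit 29, nat_lit 0, nat_lit 30, nat_lit 4, nat_lit 32, nat_lit 0, nat_lit 31, nat_lit 0, nat_lit 1]
def we2_f1 : List ℕ := [nat_lit 0, nat_lit 29, nat_lit 0, nat_lit 30, nat_lit 3, nat_lit 32, nat_lit 0, nat_lit 31, nat_lit 0, nat_lit 1]
def we2_b2 : List ℕ := [nat_lit 0, nat_lit 29, nat_lit 0, nat_lit 30, nat_lit 7, nat_lit 32, nat_lit 0, nat_lit 31, nat_lit 0, nat_lit 1]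
def we2_c2 : List ℕ := [nat_lit 0, nat_lit 29, nat_lit 0, nat_lit 30, nat_lit 8, nat_lit 32, nat_lit 0, nat_lit 31, nat_lit 0, nat_lit 1]
def we2_d2 : List ℕ := [nat_lit 0, nat_lit 29, nat_lit 0, nat_lit 30, nat_lit 9, nat_lit 32, nat_lit 0, nat_lit 31, nat_lit 0, nat_lit 33, nat_lit 0, nat_lit 29, nat_lit 0, nat_lit 30, nat_lit 15, nat_lit 0]
def we2_f2 : List ℕ := [nat_lit 0, nat_lit 29, nat_lit 0, nat_lit 30, nat_lit 2, nat_lit 32, nat_lit 0, nat_lit 31, nat_lit 0, nat_lit 33, nat_lit 0, nat_lit 29, nat_lit 0, nat_lit 30]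
def we2_b3 : List ℕ := [nat_lit 0, nat_lit 29, nat_lit 0, nat_lit 30, nat_lit 10, nat_lit 32, nat_lit 0, nat_lit 31, nat_lit 0, nat_lit 1]
def we2_c3 : List ℕ := [nat_lit 0, nat_lit 29, nat_lit 0, nat_lit 30, nat_lit 11, nat_lit 32, nat_lit 0, nat_lit 31, nat_lit 0, nat_lit 1]
def we2_d3 : List ℕ := [nat_lit 0, nat_lit 29, nat_lit 0, nat_lit 30, nat_lit 12, nat_lit 32, nat_lit 0, nat_lit 31, nat_lit 0, nat_lit 1]
def wal_c1 : List ℕ := [nat_lit 0, nat_lit 17, nat_lit 0, nat_lit 18, nat_lit 13, nat_lit 4, nat_lit 20, nat_lit 0, nat_lit 19, nat_lit 0, nat_lit 21, nat_lit 0, nat_lit 17, nat_lit 0, nat_lit 18]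
def wal_e1 : List ℕ := [nat_lit 0, nat_lit 23, nat_lit 0, nat_lit 24, nat_lit 13, nat_lit 4, nat_lit 26, nat_lit 0, nat_lit 25, nat_lit 0, nat_lit 27, nat_lit 0, nat_lit 23, nat_lit 0, nat_lit 24]
def wW : List ℕ := [nat_lit 32, nat_lit 0, nat_lit 31, nat_lit 0, nat_lit 33, nat_lit 0, nat_lit 29, nat_lit 0, nat_lit 30, nat_lit 9, nat_lit 8, nat_lit 7, nat_lit 6, nat_lit 5, nat_lit 20, nat_lit 0, nat_lit 19, nat_lit 0, nat_lit 21, nat_lit 0, nat_lit 17, nat_lit 0, nat_lit 18, nat_lit 4, nat_lit 26, nat_lit 0, nat_lit 25, nat_lit 0, nat_lit 27, nat_lit 0, nat_lit 23, nat_lit 0, nat_lit 24, nat_lit 10, nat_lit 6, nat_lit 5, nat_lit 20, nat_lit 0, nat_lit 19, nat_lit 0, nat_lit 21, nat_lit 0, nat_lit 17, nat_lit 0, nat_lit 18, nat_lit 7, nat_lit 6, nat_lit 8, nat_lit 11, nat_lit 10, nat_lit 6, nat_lit 5, nat_lit 20, nat_lit 0, nat_lit 19, nat_lit 0, nat_lit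 21, nat_lit 0, nat_lit 17, nat_lit 0, nat_lit 18, nat_lit 4, nat_lit 7, nat_lit 6, nat_lit 5, nat_lit 20, nat_lit 0, nat_lit 19, nat_lit 0, nat_lit 21, nat_lit 0, nat_lit 17, nat_lit 0, nat_lit 18, nat_lit 8, nat_lit 7, nat_lit 9, nat_lit 8, nat_lit 10, nat_lit 6, nat_lit 5, nat_lit 7, nat_lit 6, nat_lit 10, nat_lit 11, nat_lit 10, nat_lit 6, nat_lit 7, nat_lit 5, nat_lit 6, nat_lit 10, nat_lit 8, nat_lit 9, nat_lit 7, nat_lit 8, nat_lit 20, nat_lit 0, nat_lit 19, nat_lit 0, nat_lit 21, nat_lit 0, nat_lit 17, nat_lit 0, nat_lit 18, nat_lit 5, nat_lit 6, nat_lit 7, nat_lit 4, nat_lit 20, nat_lit 0, nat_lit 19, nat_lit 0, nat_lit 21, nat_lit 0, nat_lit 17, nat_lit 0, nat_lit 18, nat_lit 5, nat_lit 6, nat_lit 10, nat_lit 11, nat_lit 8, nat_lit 6, nat_lit 7, nat_lit 20, nat_lit 0, nat_lit 19, nat_lit 0, nat_lit 21, nat_lit 0, nat_lit 17, nat_lit 0, nat_lit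 18, nat_lit 5, nat_lit 6, nat_lit 10, nat_lit 6, nat_lit 26, nat_lit 0, nat_lit 25, nat_lit 0, nat_lit 27, nat_lit 0, nat_lit 23, nat_lit 0, nat_lit 24, nat_lit 4, nat_lit 20, nat_lit 0, nat_lit 19, nat_lit 0, nat_lit 21, nat_lit 0, nat_lit 17, nat_lit 0, nat_lit 18, nat_lit 5, nat_lit 6, nat_lit 7, nat_lit 8, nat_lit 9, nat_lit 32, nat_lit 0, nat_lit 31, nat_lit 0, nat_lit 33, nat_lit 0, nat_lit 29, nat_lit 0, nat_lit 30, nat_lit 13, nat_lit 32, nat_lit 0, nat_lit 31, nat_lit 0, nat_lit 1]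
def wS : List ℕ := [nat_lit 6, nat_lit 5, nat_lit 20, nat_lit 0, nat_lit 19, nat_lit 0, nat_lit 21, nat_lit 0, nat_lit 17, nat_lit 0, nat_lit 18, nat_lit 6, nat_lit 7, nat_lit 8, nat_lit 6, nat_lit 10, nat_lit 11, nat_lit 6, nat_lit 5, nat_lit 20, nat_lit 0, nat_lit 19, nat_lit 0, nat_lit 21, nat_lit 0, nat_lit 17, nat_lit 0, nat_lit 18, nat_lit 6, nat_lit 7, nat_lit 8, nat_lit 6, nat_lit 10, nat_lit 11, nat_lit 6, nat_lit 5, nat_lit 20, nat_lit 0, nat_lit 19, nat_lit 0, nat_lit 21, nat_lit 0, nat_lit 17, nat_lit 0, nat_lit 18, nat_lit 6, nat_lit 7, nat_lit 8, nat_lit 6, nat_lit 10, nat_lit 11, nat_lit 6, nat_lit 5, nat_lit 20, nat_lit 0, nat_lit 19, nat_lit 0, nat_lit 21, nat_lit 0, nat_lit 17, nat_lit 0, nat_lit 18, nat_lit 6, nat_lit 7, nat_lit 8, nat_lit 6, nat_lit 10, nat_lit 11, nat_lit 6, nat_lit 5, nat_lit 20, nat_lit 0, nat_lit 19, nat_lit 0,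 nat_lit 21, nat_lit 0, nat_lit 17, nat_lit 0, nat_lit 18, nat_lit 6, nat_lit 7, nat_lit 8, nat_lit 6, nat_lit 10, nat_lit 11, nat_lit 6, nat_lit 5, nat_lit 20, nat_lit 0, nat_lit 19, nat_lit 0, nat_lit 21, nat_lit 0, nat_lit 17, nat_lit 0, nat_lit 18, nat_lit 6, nat_lit 7, nat_lit 8, nat_lit 6, nat_lit 10, nat_lit 11, nat_lit 6, nat_lit 5, nat_lit 20, nat_lit 0, nat_lit 19, nat_lit 0, nat_lit 21, nat_lit 0, nat_lit 17, nat_lit 0, nat_lit 18, nat_lit 6, nat_lit 7, nat_lit 8, nat_lit 6, nat_lit 10, nat_lit 11, nat_lit 6, nat_lit 5, nat_lit 20, nat_lit 0, nat_lit 19, nat_lit 0, nat_lit 21, nat_lit 0, nat_lit 17, nat_lit 0, nat_lit 18, nat_lit 6, nat_lit 7, nat_lit 8, nat_lit 6, nat_lit 10, nat_lit 11, nat_lit 6, nat_lit 5, nat_lit 20, nat_lit 0, nat_lit 19, nat_lit 0, nat_lit 21, nat_lit 0, nat_lit 17, nat_lit 0, nat_lit 18, nat_lit 6, nat_lit 7, nat_lit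 8, nat_lit 6, nat_lit 10, nat_lit 11, nat_lit 6, nat_lit 5, nat_lit 20, nat_lit 0, nat_lit 19, nat_lit 0, nat_lit 21, nat_lit 0, nat_lit 17, nat_lit 0, nat_lit 18, nat_lit 6, nat_lit 7, nat_lit 8, nat_lit 6, nat_lit 10, nat_lit 11]
def vS : List ℕ := [nat_lit 0, nat_lit 6, nat_lit 5, nat_lit 20, nat_lit 0, nat_lit 19, nat_lit 0, nat_lit 21, nat_lit 0, nat_lit 17, nat_lit 0, nat_lit 18, nat_lit 6, nat_lit 7, nat_lit 8, nat_lit 6, nat_lit 10, nat_lit 11, nat_lit 6, nat_lit 5, nat_lit 20, nat_lit 0, nat_lit 19, nat_lit 0, nat_lit 21, nat_lit 0, nat_lit 17, nat_lit 0, nat_lit 18, nat_lit 6, nat_lit 7, nat_lit 8, nat_lit 6, nat_lit 10, nat_lit 11, nat_lit 6, nat_lit 5, nat_lit 20, nat_lit 0, nat_lit 19, nat_lit 0, nat_lit 21, nat_lit 0, nat_lit 17, nat_lit 0, nat_lit 18, nat_lit 6, nat_lit 7, nat_lit 8, nat_lit 6, nat_lit 10, nat_lit 11, nat_lit 6, nat_lit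 5, nat_lit 20, nat_lit 0, nat_lit 19, nat_lit 0, nat_lit 21, nat_lit 0, nat_lit 17, nat_lit 0, nat_lit 18, nat_lit 6, nat_lit 7, nat_lit 8, nat_lit 6, nat_lit 10, nat_lit 11, nat_lit 6, nat_lit 5, nat_lit 20, nat_lit 0, nat_lit 19, nat_lit 0, nat_lit 21, nat_lit 0, nat_lit 17, nat_lit 0, nat_lit 18, nat_lit 6, nat_lit 7, nat_lit 8, nat_lit 6, nat_lit 10, nat_lit 11, nat_lit 6, nat_lit 5, nat_lit 20, nat_lit 0, nat_lit 19, nat_lit 0, nat_lit 21, nat_lit 0, nat_lit 17, nat_lit 0, nat_lit 18, nat_lit 6, nat_lit 7, nat_lit 8, nat_lit 6, nat_lit 10, nat_lit 11, nat_lit 6, nat_lit 5, nat_lit 20, nat_lit 0, nat_lit 19, nat_lit 0, nat_lit 21, nat_lit 0, nat_lit 17, nat_lit 0, nat_lit 18, nat_lit 6, nat_lit 7, nat_lit 8, nat_lit 6, nat_lit 10, nat_lit 11, nat_lit 6, nat_lit 5, nat_lit 20, nat_lit 0, nat_lit 19, nat_lit 0, nat_lit 21, nat_lit 0, nat_lit 17, nat_lit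 0, nat_lit 18, nat_lit 6, nat_lit 7, nat_lit 8, nat_lit 6, nat_lit 10, nat_lit 11, nat_lit 6, nat_lit 5, nat_lit 20, nat_lit 0, nat_lit 19, nat_lit 0, nat_lit 21, nat_lit 0, nat_lit 17, nat_lit 0, nat_lit 18, nat_lit 6, nat_lit 7, nat_lit 8, nat_lit 6, nat_lit 10, nat_lit 11, nat_lit 6, nat_lit 5, nat_lit 20, nat_lit 0, nat_lit 19, nat_lit 0, nat_lit 21, nat_lit 0, nat_lit 17, nat_lit 0, nat_lit 18, nat_lit 6, nat_lit 7, nat_lit 8, nat_lit 6, nat_lit 10, nat_lit 11, nat_lit 1, nat_lit 0, nat_lit 1]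
def wU : List ℕ := [nat_lit 4, nat_lit 20, nat_lit 0, nat_lit 19, nat_lit 0, nat_lit 21, nat_lit 0, nat_lit 17, nat_lit 0, nat_lit 18, nat_lit 5, nat_lit 6, nat_lit 7, nat_lit 10, nat_lit 4, nat_lit 20, nat_lit 0, nat_lit 19, nat_lit 0, nat_lit 21, nat_lit 0, nat_lit 17, nat_lit 0, nat_lit 18, nat_lit 5, nat_lit 6, nat_lit 7, nat_lit 10, nat_lit 4, nat_lit 20, nat_lit 0, nat_lit 19, nat_lit 0, nat_lit 21, nat_lit 0, nat_lit 17, nat_lit 0, nat_lit 18, nat_lit 5, nat_lit 6, nat_lit 7, nat_lit 10, nat_lit 4, nat_lit 20, nat_lit 0, nat_lit 19, nat_lit 0, nat_lit 21, nat_lit 0, nat_lit 17, nat_lit 0, nat_lit 18, nat_lit 5, nat_lit 6, nat_lit 7, nat_lit 10, nat_lit 4, nat_lit 20, nat_lit 0, nat_lit 19, nat_lit 0, nat_lit 21, nat_lit 0, nat_lit 17, nat_lit 0, nat_lit 18, nat_lit 5, nat_lit 6, nat_lit 7, nat_lit 10, nat_lit 14]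
def vU : List ℕ := [nat_lit 0, nat_lit 4, nat_lit 20, nat_lit 0, nat_lit 19, nat_lit 0, nat_lit 21, nat_lit 0, nat_lit 17, nat_lit 0, nat_lit 18, nat_lit 5, nat_lit 6, nat_lit 7, nat_lit 10, nat_lit 4, nat_lit 20, nat_lit 0, nat_lit 19, nat_lit 0, nat_lit 21, nat_lit 0, nat_lit 17, nat_lit 0, nat_lit 18, nat_lit 5, nat_lit 6, nat_lit 7, nat_lit 10, nat_lit 4, nat_lit 20, nat_lit 0, nat_lit 19, nat_lit 0, nat_lit 21, nat_lit 0, nat_lit 17, nat_lit 0, nat_lit 18, nat_lit 5, nat_lit 6, nat_lit 7, nat_lit 10, nat_lit 4, nat_lit 20, nat_lit 0, nat_lit 19, nat_lit 0, nat_lit 21, nat_lit 0, nat_lit 17, nat_lit 0, nat_lit 18, nat_lit 5, nat_lit 6, nat_lit 7, nat_lit 10, nat_lit 4, nat_lit 20, nat_lit 0, nat_lit 19, nat_lit 0, nat_lit 21, nat_lit 0, nat_lit 17, nat_lit 0, nat_lit 18, nat_lit 5, nat_lit 6, nat_lit 7, nat_lit 10, nat_lit 14, nat_lit 1, nat_lit 0,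 nat_lit 1]
def wQ : List ℕ := [nat_lit 32, nat_lit 0, nat_lit 31, nat_lit 0, nat_lit 33, nat_lit 0, nat_lit 29, nat_lit 0, nat_lit 30, nat_lit 13, nat_lit 32, nat_lit 0, nat_lit 31, nat_lit 0, nat_lit 33, nat_lit 0, nat_lit 29, nat_lit 0, nat_lit 30, nat_lit 13, nat_lit 2, nat_lit 32, nat_lit 0, nat_lit 31, nat_lit 0, nat_lit 33, nat_lit 0, nat_lit 29, nat_lit 0, nat_lit 30, nat_lit 13, nat_lit 32, nat_lit 0, nat_lit 31, nat_lit 0, nat_lit 33, nat_lit 0, nat_lit 29, nat_lit 0, nat_lit 30, nat_lit 13, nat_lit 2]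
def vQ : List ℕ := [nat_lit 0, nat_lit 32, nat_lit 0, nat_lit 31, nat_lit 0, nat_lit 33, nat_lit 0, nat_lit 29, nat_lit 0, nat_lit 30, nat_lit 13, nat_lit 32, nat_lit 0, nat_lit 31, nat_lit 0, nat_lit 33, nat_lit 0, nat_lit 29, nat_lit 0, nat_lit 30, nat_lit 13, nat_lit 2, nat_lit 32, nat_lit 0, nat_lit 31, nat_lit 0, nat_lit 33, nat_lit 0, nat_lit 29, nat_lit 0, nat_lit 30, nat_lit 13, nat_lit 32, nat_lit 0, nat_lit 31, nat_lit 0, nat_lit 33, nat_lit 0, nat_lit 29, nat_lit 0, nat_lit 30, nat_lit 13, nat_lit 2, nat_lit 1, nat_lit 0, nat_lit 1]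

end

end CF.Mon.Tr
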