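import Cfsg.Agent.Mon.Wp

/-! Elements of `Gt` for the Harada–Norton group. -/

set_option autoImplicit false
set_option maxRecDepth 100000

namespace CF.Mon.Tr

open CF.Comp

noncomputable section

def hng1 : El := ⟨[nat_lit 0x3ca603be0a118b4445c49d643605b7b012b, nat_lit 0xe88e47838889198b2cd2dbd2c308aa079d51, nat_lit 0x6ffccc6362392c083aaae8503621662bbd26], [nat_lit 73728, nat_lit 94208, nat_lit 98304, nat_lit 106496, nat_lit 110592, nat_lit 178176, nat_lit 175104, nat_lit 168448, nat_lit 166656, nat_lit 162048, nat_lit 157888, nat_lit 152768, nat_lit 151008, nat_lit 143480, nat_lit 140564, nat_lit 135682, nat_lit 131558, nat_lit 3344, nat_lit 6860, nat_lit 9504, nat_lit 15088, nat_lit 16512, nat_lit 24128, nat_lit 25856, nat_lit 32000, nat_lit 34816, nat_lit 38912, nat_lit 43008, nat_lit 45978, nat_lit 41288, nat_lit 39166, nat_lit 33299, nat_lit 28784, nat_lit 24745, nat_lit 20630, nat_lit 16387, nat_lit 12289, nat_lit 8224, nat_lit 4101,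 nat_lit 425989, nat_lit 409603, nat_lit 401408, nat_lit 151808, nat_lit 147488, nat_lit 143632, nat_lit 139552, nat_lit 131360, nat_lit 45057, nat_lit 40961, nat_lit 37160, nat_lit 28701, nat_lit 24577, nat_lit 4097, nat_lit 327680]⟩
def hnd1 : El := ⟨[nat_lit 0xb821eb718276d87722e3562902a4d259400f, nat_lit 0xa6aaf01546072cb15488db5c3433e0944cec, nat_lit 0xbb72186d20f9083558186b2153b90b11b8e9], [nat_lit 69632, nat_lit 73728, nat_lit 81920, nat_lit 86016, nat_lit 90112, nat_lit 94208, nat_lit 98304, nat_lit 102400, nat_lit 106496, nat_lit 178176, nat_lit 173056, nat_lit 165120, nat_lit 155968, nat_lit 153888, nat_lit 151296, nat_lit 146760, nat_lit 140944, nat_lit 136102, nat_lit 134831, nat_lit 550, nat_lit 5276, nat_lit 10840, nat_lit 15536, nat_lit 17344, nat_lit 22272, nat_lit 25600, nat_lit 29440, nat_lit 33792, nat_lit 45965, nat_lit 41545, nat_lit 38357, nat_lit 32992, nat_lit 28767, nat_lit 20766, nat_lit 16426, nat_lit 12289, nat_lit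 8211, nat_lit 4097, nat_lit 2, nat_lit 425991, nat_lit 405506, nat_lit 397312, nat_lit 139392, nat_lit 135556, nat_lit 131078, nat_lit 45326, nat_lit 41350, nat_lit 37260, nat_lit 24577, nat_lit 20492, nat_lit 16390]⟩
def hng2 : El := ⟨[nat_lit 0x9690036a977a459320208924672bcd6a89c1, nat_lit 0x7188281b951850b36d58703d32b044445d66, nat_lit 0x2d2eb19c6a675cad522874864f158045c06c], [nat_lit 73728, nat_lit 81920, nat_lit 86016, nat_lit 94208, nat_lit 102400, nat_lit 106496, nat_lit 178176, nat_lit 169472, nat_lit 164352, nat_lit 162560, nat_lit 159232, nat_lit 153760, nat_lit 147696, nat_lit 144800, nat_lit 141480, nat_lit 137144, nat_lit 131700, nat_lit 3518, nat_lit 5084, nat_lit 11016, nat_lit 12768, nat_lit 17888, nat_lit 22336, nat_lit 27392, nat_lit 29696, nat_lit 37888, nat_lit 43008, nat_lit 45763, nat_lit 41890, nat_lit 38177, nat_lit 32848, nat_lit 29283, nat_lit 24762, nat_lit 20623, nat_lit 16399, nat_lit 12289, nat_lit 8211, nat_lit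 421894, nat_lit 413700, nat_lit 405506, nat_lit 397312, nat_lit 155776, nat_lit 151616, nat_lit 147552, nat_lit 143440, nat_lit 139392, nat_lit 135200, nat_lit 131292, nat_lit 45166, nat_lit 41073, nat_lit 36896, nat_lit 32814, nat_lit 327680]⟩
def hnd2 : El := ⟨[nat_lit 0x35af0992c756bdc63918512217026d350691, nat_lit 0x6c50c0abe4c1587171141814d7481a79d10b, nat_lit 0xf939f661e695542b258a079a08bb5c295223], [nat_lit 65536, nat_lit 94208, nat_lit 110592, nat_lit 178176, nat_lit 168960, nat_lit 164352, nat_lit 159680, nat_lit 152096, nat_lit 150368, nat_lit 144384, nat_lit 143000, nat_lit 138264, nat_lit 132290, nat_lit 3122, nat_lit 4380, nat_lit 10592, nat_lit 15504, nat_lit 20384, nat_lit 22080, nat_lit 25088, nat_lit 30464, nat_lit 35328, nat_lit 38912, nat_lit 43008, nat_lit 47026, nat_lit 41341, nat_lit 37149, nat_lit 32859, nat_lit 30738, nat_lit 24608, nat_lit 20558, nat_lit 16651, nat_lit 12323, nat_lit 8194, nat_lit 4100, nat_lit 8, nat_lit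 425991, nat_lit 417797, nat_lit 405506, nat_lit 397312, nat_lit 151680, nat_lit 143424, nat_lit 139392, nat_lit 135200, nat_lit 131492, nat_lit 45376, nat_lit 41102, nat_lit 36975, nat_lit 16385, nat_lit 327680]⟩
def hnt1 : El := ⟨[nat_lit 0xfa3f3c42a95248b07b8434d97739a3363420], [nat_lit 77824, nat_lit 94208, nat_lit 102400, nat_lit 178176, nat_lit 174080, nat_lit 170496, nat_lit 165120, nat_lit 160896, nat_lit 156992, nat_lit 152704, nat_lit 147856, nat_lit 146200, nat_lit 140744, nat_lit 135558, nat_lit 134380, nat_lit 10728, nat_lit 13632, nat_lit 17248, nat_lit 24256, nat_lit 29184, nat_lit 35840, nat_lit 38912, nat_lit 36992, nat_lit 32893, nat_lit 29184, nat_lit 20483, nat_lit 16650, nat_lit 12547, nat_lit 8193]⟩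
def hnt2 : El := ⟨[nat_lit 0x124d19b69058e447aac83d4ac75c20], [nat_lit 167680, nat_lit 163072, nat_lit 159168, nat_lit 155392, nat_lit 148592, nat_lit 147392, nat_lit 143104, nat_lit 136216, nat_lit 133669, nat_lit 2, nat_lit 6068, nat_lit 9328, nat_lit 13712, nat_lit 16576, nat_lit 20992, nat_lit 24704, nat_lit 29440, nat_lit 33280, nat_lit 41258, nat_lit 37227, nat_lit 33312, nat_lit 28747, nat_lit 24704, nat_lit 20992, nat_lit 16385, nat_lit 12295, nat_lit 8203, nat_lit 4104, nat_lit 2]⟩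
def hnx0 : El := ⟨[nat_lit 0xb721e4bdab49ca307b9ac5a928398a418820], [nat_lit 77824, nat_lit 81920, nat_lit 86016, nat_lit 90112, nat_lit 94208, nat_lit 102400, nat_lit 106496, nat_lit 174080, nat_lit 171520, nat_lit 160640, nat_lit 158528, nat_lit 154432, nat_lit 149728, nat_lit 146808, nat_lit 139524, nat_lit 137852, nat_lit 133093, nat_lit 2048, nat_lit 6144, nat_lit 14336, nat_lit 18432]⟩
def hnxi0 : El := ⟨[nat_lit 0xb721e4bdab49ca307b9ac5a928398a418820], [nat_lit 77824, nat_lit 81920, nat_lit 86016, nat_lit 90112, nat_lit 94208, nat_lit 102400, nat_lit 106496, nat_lit 174080, nat_lit 171520, nat_lit 160640, nat_lit 158528, nat_lit 154432, nat_lit 149728, nat_lit 146808, nat_lit 139524, nat_lit 137854, nat_lit 133092, nat_lit 2048, nat_lit 6144, nat_lit 14336, nat_lit 18432]⟩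
def hny0 : El := ⟨[nat_lit 0x9056f53d0d3ac50a858036088b7242593eed, nat_lit 0x4d1ed86be28b38653d182baa550402934d64, nat_lit 0x9f9a509306ead01031431b3489ba1e750973, nat_lit 0xb21128498a475640521679bee280e8c686d1], [nat_lit 65536, nat_lit 69632, nat_lit 73728, nat_lit 90112, nat_lit 178176, nat_lit 175104, nat_lit 171008, nat_lit 165376, nat_lit 162048, nat_lit 158400, nat_lit 154400, nat_lit 151008, nat_lit 146784, nat_lit 141548, nat_lit 137144, nat_lit 134390, nat_lit 742, nat_lit 5840, nat_lit 8256, nat_lit 15104, nat_lit 16416, nat_lit 23616, nat_lit 28288, nat_lit 30976, nat_lit 33280, nat_lit 38912, nat_lit 43008, nat_lit 46194, nat_lit 40979, nat_lit 37290, nat_lit 33396, nat_lit 28796, nat_lit 24628, nat_lit 20563, nat_lit 16457, nat_lit 12306, nat_lit 8203, nat_lit 4104, nat_lit 2, nat_lit 434185, nat_lit 425991, nat_lit 417797, nat_lit 409603, nat_lit 401408, nat_lit 164352, nat_lit 160000, nat_lit 156032, nat_lit 152384, nat_lit 147552,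 nat_lit 145184, nat_lit 139336, nat_lit 132384, nat_lit 46237, nat_lit 4097, nat_lit 327680]⟩
def hny1 : El := ⟨[nat_lit 0x669f030a54e0348792ec6650778d4a883c53, nat_lit 0xff00685e534263b1e802284874ae965571, nat_lit 0x63c95c3212d2004c938f1ba8335da03a55e5, nat_lit 0x418e81ad0f61c90d48a6f35c85581915060e], [nat_lit 81920, nat_lit 94208, nat_lit 98304, nat_lit 102400, nat_lit 106496, nat_lit 110592, nat_lit 178176, nat_lit 175104, nat_lit 168448, nat_lit 163456, nat_lit 158080, nat_lit 153408, nat_lit 151472, nat_lit 146120, nat_lit 141592, nat_lit 137322, nat_lit 131344, nat_lit 3336, nat_lit 7432, nat_lit 8536, nat_lit 15184, nat_lit 18848, nat_lit 21696, nat_lit 28544, nat_lit 29184, nat_lit 33280, nat_lit 38912, nat_lit 43008, nat_lit 45950, nat_lit 41528, nat_lit 37214, nat_lit 32909, nat_lit 28717, nat_lit 25094, nat_lit 20488, nat_lit 16392, nat_lit 12294, nat_lit 4097, nat_lit 434185, nat_lit 425991, nat_lit 417797, nat_lit 409603, nat_lit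 401408, nat_lit 168960, nat_lit 165376, nat_lit 160768, nat_lit 157184, nat_lit 153280, nat_lit 148736, nat_lit 143440, nat_lit 139688, nat_lit 133112, nat_lit 45121, nat_lit 4097]⟩
def hnyi0 : El := ⟨[nat_lit 0x18e72b0ba053115795573889a7a3d0c05923, nat_lit 0x8727b23a1932c5cb511b200c554bcd0b52e1, nat_lit 0x65f0aa238ea83d1130e542d6626a401b2d97, nat_lit 0xf966ca4ab36216f85a375352e200e1188a6], [nat_lit 65536, nat_lit 69632, nat_lit 77824, nat_lit 94208, nat_lit 102400, nat_lit 178176, nat_lit 173056, nat_lit 168960, nat_lit 167680, nat_lit 160768, nat_lit 157504, nat_lit 155264, nat_lit 148736, nat_lit 145424, nat_lit 139688, nat_lit 135968, nat_lit 134578, nat_lit 674, nat_lit 4772, nat_lit 9936, nat_lit 15760, nat_lit 20416, nat_lit 23616, nat_lit 27264, nat_lit 28928, nat_lit 33792, nat_lit 38912, nat_lit 45536, nat_lit 41654, nat_lit 38174, nat_lit 33491, nat_lit 28777, nat_lit 24613, nat_lit 20487, nat_lit 16646, nat_lit 12304, nat_lit 8202,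 nat_lit 4100, nat_lit 2, nat_lit 438281, nat_lit 425991, nat_lit 417797, nat_lit 409603, nat_lit 401408, nat_lit 160256, nat_lit 158080, nat_lit 152512, nat_lit 148352, nat_lit 143984, nat_lit 139688, nat_lit 131528, nat_lit 41117, nat_lit 4097]⟩
def hnyi1 : El := ⟨[nat_lit 0xbd1e28bb9af48645b32951926a34102880eb, nat_lit 0x81ee4b1b6808beb30a4d2b9c8c5d9ca80905, nat_lit 0xaca669348ed445c9285552596083043a3e77, nat_lit 0x1422b4b85128d923a1aae62caa9c08f134e0], [nat_lit 77824, nat_lit 86016, nat_lit 102400, nat_lit 106496, nat_lit 110592, nat_lit 173056, nat_lit 168448, nat_lit 167424, nat_lit 162944, nat_lit 159040, nat_lit 152416, nat_lit 147888, nat_lit 146032, nat_lit 139652, nat_lit 135896, nat_lit 133806, nat_lit 2686, nat_lit 7948, nat_lit 10584, nat_lit 12656, nat_lit 20064, nat_lit 21248, nat_lit 28288, nat_lit 29440, nat_lit 33280, nat_lit 43008, nat_lit 46498, nat_lit 41277, nat_lit 37216, nat_lit 33461, nat_lit 28688, nat_lit 24626, nat_lit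 20506, nat_lit 16421, nat_lit 12304, nat_lit 8202, nat_lit 4104, nat_lit 2, nat_lit 438282, nat_lit 430088, nat_lit 421893, nat_lit 409603, nat_lit 401408, nat_lit 174080, nat_lit 171008, nat_lit 165376, nat_lit 162048, nat_lit 154368, nat_lit 150944, nat_lit 146720, nat_lit 141480, nat_lit 131472, nat_lit 24577, nat_lit 4097, nat_lit 327680]⟩
def hnz0 : El := ⟨[nat_lit 0x330063bdab49ca307b9ac5a928398a418820], [nat_lit 178176, nat_lit 175104, nat_lit 171520, nat_lit 165888, nat_lit 163328, nat_lit 159424, nat_lit 153312, nat_lit 138976, nat_lit 134883, nat_lit 2048, nat_lit 6144, nat_lit 22528, nat_lit 26624, nat_lit 30720, nat_lit 38912, nat_lit 43008, nat_lit 327680]⟩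
def hnu0 : El := ⟨[nat_lit 0xc0a36f0c68c049f770a75859a34a0cb3948a, nat_lit 0xf5fc69400a67c09655ea23c9940adcd8a663, nat_lit 0xddde4e1dea86a5c0b3cd3650b182e42204ea, nat_lit 0x363fa06994c8a0b0bc9c04d2c7091631566f], [nat_lit 69632, nat_lit 86016, nat_lit 90112, nat_lit 94208, nat_lit 102400, nat_lit 110592, nat_lit 178176, nat_lit 174080, nat_lit 169472, nat_lit 165120, nat_lit 159872, nat_lit 152928, nat_lit 151072, nat_lit 147192, nat_lit 141716, nat_lit 138916, nat_lit 133435, nat_lit 1064, nat_lit 6844, nat_lit 8392, nat_lit 14464, nat_lit 17408, nat_lit 22016, nat_lit 24704, nat_lit 30720, nat_lit 35840, nat_lit 43008, nat_lit 46217, nat_lit 43813, nat_lit 37069, nat_lit 34035, nat_lit 29209, nat_lit 24638, nat_lit 20571, nat_lit 16394, nat_lit 12292, nat_lit 8202, nat_lit 4100, nat_lit 32, nat_lit 434185, nat_lit 421894, nat_lit 413700, nat_lit 405506, nat_lit 397312, nat_lit 160768, nat_lit 156672, nat_lit 152576, nat_lit 144480, nat_lit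 140896, nat_lit 136244, nat_lit 132200, nat_lit 46772, nat_lit 32832, nat_lit 327680]⟩
def hnu1 : El := ⟨[nat_lit 0xe272d1b8d022ba613d0c97922092e15b298d, nat_lit 0xc959cc241164a82c780a68b642752e35d4f3, nat_lit 0x7bb8eba2ce8a84a2912f160d5071acf481b3, nat_lit 0x60c099bb20b43ed1382726b8655092625035], [nat_lit 65536, nat_lit 69632, nat_lit 73728, nat_lit 77824, nat_lit 86016, nat_lit 102400, nat_lit 174080, nat_lit 170496, nat_lit 165888, nat_lit 161792, nat_lit 157952, nat_lit 154176, nat_lit 151200, nat_lit 145872, nat_lit 141980, nat_lit 135808, nat_lit 131551, nat_lit 1652, nat_lit 4420, nat_lit 8728, nat_lit 15712, nat_lit 19776, nat_lit 20800, nat_lit 26880, nat_lit 29696, nat_lit 39936, nat_lit 45065, nat_lit 41350, nat_lit 37053, nat_lit 33900, nat_lit 29050, nat_lit 20737, nat_lit 16521, nat_lit 12293, nat_lit 8203, nat_lit 4100, nat_lit 438281, nat_lit 425991, nat_lit 413700, nat_lit 405506, nat_lit 397312, nat_lit 164352, nat_lit 160256,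 nat_lit 152064, nat_lit 147488, nat_lit 143392, nat_lit 139520, nat_lit 41768, nat_lit 24584, nat_lit 327680]⟩
def hnu2 : El := ⟨[], [nat_lit 77824, nat_lit 81920, nat_lit 86016, nat_lit 98304, nat_lit 106496, nat_lit 178176, nat_lit 173056, nat_lit 155712, nat_lit 147472, nat_lit 143368]⟩
def hnu3 : El := ⟨[nat_lit 0x3366f014c2a65c80a34e34be0e956c889965, nat_lit 0x5ac92be8e19ae03c6b255924821819b44b, nat_lit 0x7727423805789693b3d8683943935014aea4, nat_lit 0xaccff562645a543633573182e2538f07c504], [nat_lit 73728, nat_lit 77824, nat_lit 81920, nat_lit 102400, nat_lit 106496, nat_lit 174080, nat_lit 171520, nat_lit 166144, nat_lit 160256, nat_lit 157056, nat_lit 155456, nat_lit 149328, nat_lit 147360, nat_lit 139596, nat_lit 135242, nat_lit 132904, nat_lit 2616, nat_lit 8048, nat_lit 9288, nat_lit 13728, nat_lit 17888, nat_lit 21568, nat_lit 30208, nat_lit 35328, nat_lit 37888, nat_lit 46504, nat_lit 41503, nat_lit 38039, nat_lit 34884, nat_lit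 28681, nat_lit 24832, nat_lit 20487, nat_lit 17415, nat_lit 12311, nat_lit 8193, nat_lit 4104, nat_lit 434184, nat_lit 421894, nat_lit 413700, nat_lit 405506, nat_lit 397312, nat_lit 164864, nat_lit 156672, nat_lit 152000, nat_lit 148544, nat_lit 143840, nat_lit 139520, nat_lit 135468, nat_lit 131550, nat_lit 45376, nat_lit 37082, nat_lit 327680]⟩
def hnu4 : El := ⟨[nat_lit 0x99931d1045262d3540b3cde5bda0e0b052, nat_lit 0xaf0a9a4d69353a4d38acf65cc040e012c48b, nat_lit 0xed7d2e435f4201d20aee385a6a496a613227, nat_lit 0x35aff621e8dabd6a0a0d011532b806c9c5d6], [nat_lit 73728, nat_lit 77824, nat_lit 81920, nat_lit 86016, nat_lit 110592, nat_lit 175104, nat_lit 169984, nat_lit 164096, nat_lit 160384, nat_lit 156672, nat_lit 154752, nat_lit 149632, nat_lit 144680, nat_lit 143076, nat_lit 136566, nat_lit 132200, nat_lit 3094, nat_lit 8104, nat_lit 10992, nat_lit 12640, nat_lit 20320, nat_lit 21824, nat_lit 25600, nat_lit 32256, nat_lit 34816, nat_lit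 37888, nat_lit 46400, nat_lit 41684, nat_lit 38384, nat_lit 33376, nat_lit 28746, nat_lit 24620, nat_lit 20552, nat_lit 12357, nat_lit 8227, nat_lit 4, nat_lit 434185, nat_lit 425991, nat_lit 417796, nat_lit 405506, nat_lit 397312, nat_lit 168960, nat_lit 164864, nat_lit 148992, nat_lit 145104, nat_lit 139664, nat_lit 135832, nat_lit 131164, nat_lit 45059, nat_lit 20481, nat_lit 327680]⟩
def hna : El := ⟨[], [nat_lit 135170, nat_lit 131073]⟩

def hnT0 : BT El := (.node (nat_lit 4) (.node (nat_lit 2) (.node (nat_lit 1) (.leaf idE)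
 (.leaf xoE))
 (.node (nat_lit 3) (.leaf iD2)
 (.leaf iD3)))
 (.node (nat_lit 6) (.node (nat_lit 5) (.leaf hng1)
 (.leaf hnd1))
 (.node (nat_lit 7) (.leaf hng2)
 (.leaf hnd2))))

theorem hnT0_ok : hnT0.all okB = true := by decide +kernel

def hnT1 : BT El := (.node (nat_lit 12) (.node (nat_lit 10) (.node (nat_lit 9) (.leaf hnt1)
 (.leaf hnt2))
 (.node (nat_lit 11) (.leaf hnx0)
 (.leaf hnxi0)))
 (.node (nat_lit 14) (.node (nat_lit 13) (.leaf hny0)
 (.leaf hny1))
 (.node (nat_lit 15) (.leaf hnyi0)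
 (.leaf hnyi1))))

theorem hnT1_ok : hnT1.all okB = true := by decide +kernel

def hnT2 : BT El := (.node (nat_lit 19) (.node (nat_lit 17) (.leaf hnz0)
 (.node (nat_lit 18) (.leaf hnu0)
 (.leaf hnu1)))
 (.node (nat_lit 21) (.node (nat_lit 20) (.leaf hnu2)
 (.leaf hnu3))
 (.node (nat_lit 22) (.leaf hnu4)
 (.leaf hna))))

theorem hnT2_ok : hnT2.all okB = true := by decide +kernel

def hnT : BT El := (BT.node (nat_lit 8) hnT0 (BT.node (nat_lit 16) hnT1 hnT2))

theorem hnT_base : Base hnT := ⟨(BT.all_node hnT0_ok (BT.all_node hnT1_ok hnT2_ok)), rfl, rfl, rfl⟩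

def hnP : List (List ℕ) := [[], [nat_lit 10], [nat_lit 11], [nat_lit 12, nat_lit 0, nat_lit 13], [nat_lit 14, nat_lit 0, nat_lit 15], [nat_lit 16], [nat_lit 16], [nat_lit 17, nat_lit 0, nat_lit 18, nat_lit 0, nat_lit 19, nat_lit 0, nat_lit 20, nat_lit 0, nat_lit 21, nat_lit 22], [nat_lit 22, nat_lit 17, nat_lit 0, nat_lit 18, nat_lit 0, nat_lit 19, nat_lit 0, nat_lit 20, nat_lit 0, nat_lit 21]]
def hnwi0 : List ℕ := [nat_lit 10, nat_lit 11]
def hnwi1 : List ℕ := [nat_lit 12, nat_lit 0, nat_lit 13, nat_lit 14, nat_lit 0, nat_lit 15]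
def hnwi2 : List ℕ := [nat_lit 16, nat_lit 16]
def hnwi3 : List ℕ := [nat_lit 17, nat_lit 0, nat_lit 18, nat_lit 0, nat_lit 19, nat_lit 0, nat_lit 20, nat_lit 0, nat_lit 21, nat_lit 22, nat_lit 22, nat_lit 17, nat_lit 0, nat_lit 18, nat_lit 0, nat_lit 19, nat_lit 0, nat_lit 20, nat_lit 0, nat_lit 21]
def hnwr0 : List ℕ := [nat_lit 12, nat_lit 0, nat_lit 13, nat_lit 12, nat_lit 0, nat_lit 13, nat_lit 12, nat_lit 0, nat_lit 13, nat_lit 12, nat_lit 0, nat_lit 13, nat_lit 12, nat_lit 0, nat_lit 13, nat_lit 12, nat_lit 0, nat_lit 13]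
def hnwr1 : List ℕ := [nat_lit 14, nat_lit 0, nat_lit 15, nat_lit 10, nat_lit 10, nat_lit 12, nat_lit 0, nat_lit 13, nat_lit 10, nat_lit 10]
def hnwr2 : List ℕ := [nat_lit 12, nat_lit 0, nat_lit 13, nat_lit 10, nat_lit 14, nat_lit 0, nat_lit 15, nat_lit 11, nat_lit 12, nat_lit 0, nat_lit 13, nat_lit 10, nat_lit 14, nat_lit 0, nat_lit 15, nat_lit 11, nat_lit 12, nat_lit 0, nat_lit 13, nat_lit 10, nat_lit 14, nat_lit 0, nat_lit 15, nat_lit 11]
def hnwr3 : List ℕ := [nat_lit 12, nat_lit 0, nat_lit 13, nat_lit 12, nat_lit 0, nat_lit 13, nat_lit 12, nat_lit 0, nat_lit 13, nat_lit 10, nat_lit 12, nat_lit 0, nat_lit 13, nat_lit 12, nat_lit 0, nat_lit 13, nat_lit 11, nat_lit 12, nat_lit 0, nat_lit 13, nat_lit 12, nat_lit 0, nat_lit 13, nat_lit 12, nat_lit 0, nat_lit 13, nat_lit 10, nat_lit 12, nat_lit 0, nat_lit 13, nat_lit 12, nat_lit 0, nat_lit 13, nat_lit 11, nat_lit 12, nat_lit 0, nat_lit 13, nat_lit 12, nat_lit 0, nat_lit 13, nat_lit 12, nat_lit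 0, nat_lit 13, nat_lit 10, nat_lit 12, nat_lit 0, nat_lit 13, nat_lit 12, nat_lit 0, nat_lit 13, nat_lit 11]
def hnwr4 : List ℕ := [nat_lit 12, nat_lit 0, nat_lit 13, nat_lit 10, nat_lit 12, nat_lit 0, nat_lit 13, nat_lit 10, nat_lit 12, nat_lit 0, nat_lit 13, nat_lit 10, nat_lit 12, nat_lit 0, nat_lit 13, nat_lit 10, nat_lit 12, nat_lit 0, nat_lit 13, nat_lit 10, nat_lit 12, nat_lit 0, nat_lit 13, nat_lit 10, nat_lit 12, nat_lit 0, nat_lit 13, nat_lit 10, nat_lit 12, nat_lit 0, nat_lit 13, nat_lit 10]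
def hnwr5 : List ℕ := [nat_lit 12, nat_lit 0, nat_lit 13, nat_lit 12, nat_lit 0, nat_lit 13, nat_lit 12, nat_lit 0, nat_lit 13, nat_lit 10, nat_lit 12, nat_lit 0, nat_lit 13, nat_lit 10, nat_lit 12, nat_lit 0, nat_lit 13, nat_lit 12, nat_lit 0, nat_lit 13, nat_lit 12, nat_lit 0, nat_lit 13, nat_lit 10, nat_lit 12, nat_lit 0, nat_lit 13, nat_lit 10, nat_lit 12, nat_lit 0, nat_lit 13, nat_lit 12, nat_lit 0, nat_lit 13, nat_lit 12, nat_lit 0, nat_lit 13, nat_lit 10, nat_lit 12, nat_lit 0, nat_lit 13, nat_lit 10, nat_lit 12, nat_lit 0, nat_lit 13, nat_lit 12, nat_lit 0, nat_lit 13, nat_lit 12, nat_lit 0, nat_lit 13, nat_lit 10, nat_lit 12, nat_lit 0, nat_lit 13, nat_lit 10]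
def hnwr6 : List ℕ := [nat_lit 16, nat_lit 16]
def hnwr7 : List ℕ := [nat_lit 10, nat_lit 16, nat_lit 10, nat_lit 16]
def hnwr8 : List ℕ := [nat_lit 11, nat_lit 11, nat_lit 14, nat_lit 0, nat_lit 15, nat_lit 10, nat_lit 12, nat_lit 0, nat_lit 13, nat_lit 12, nat_lit 0, nat_lit 13, nat_lit 10, nat_lit 12, nat_lit 0, nat_lit 13, nat_lit 10, nat_lit 12, nat_lit 0, nat_lit 13, nat_lit 16, nat_lit 14, nat_lit 0, nat_lit 15, nat_lit 11, nat_lit 14, nat_lit 0, nat_lit 15, nat_lit 11, nat_lit 14, nat_lit 0, nat_lit 15, nat_lit 14, nat_lit 0, nat_lit 15, nat_lit 11, nat_lit 12, nat_lit 0, nat_lit 13, nat_lit 16]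
def hnwr9 : List ℕ := [nat_lit 10, nat_lit 12, nat_lit 0, nat_lit 13, nat_lit 10, nat_lit 12, nat_lit 0, nat_lit 13, nat_lit 10, nat_lit 12, nat_lit 0, nat_lit 13, nat_lit 12, nat_lit 0, nat_lit 13, nat_lit 12, nat_lit 0, nat_lit 13, nat_lit 16, nat_lit 14, nat_lit 0, nat_lit 15, nat_lit 14, nat_lit 0, nat_lit 15, nat_lit 14, nat_lit 0, nat_lit 15, nat_lit 11, nat_lit 14, nat_lit 0, nat_lit 15, nat_lit 11, nat_lit 14, nat_lit 0, nat_lit 15, nat_lit 10, nat_lit 12, nat_lit 0, nat_lit 13, nat_lit 10, nat_lit 12, nat_lit 0, nat_lit 13, nat_lit 10, nat_lit 12, nat_lit 0, nat_lit 13, nat_lit 12, nat_lit 0, nat_lit 13, nat_lit 12, nat_lit 0, nat_lit 13, nat_lit 16, nat_lit 14, nat_lit 0, nat_lit 15, nat_lit 14, nat_lit 0, nat_lit 15, nat_lit 14, nat_lit 0, nat_lit 15, nat_lit 11, nat_lit 14, nat_lit 0, nat_lit 15, nat_lit 11, nat_lit 14, nat_lit 0, nat_lit 15, nat_lit 10, nat_lit 12, nat_lit 0, nat_lit 13, nat_lit 10, nat_lit 12, nat_lit 0, nat_lit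 13, nat_lit 10, nat_lit 12, nat_lit 0, nat_lit 13, nat_lit 12, nat_lit 0, nat_lit 13, nat_lit 12, nat_lit 0, nat_lit 13, nat_lit 16, nat_lit 14, nat_lit 0, nat_lit 15, nat_lit 14, nat_lit 0, nat_lit 15, nat_lit 14, nat_lit 0, nat_lit 15, nat_lit 11, nat_lit 14, nat_lit 0, nat_lit 15, nat_lit 11, nat_lit 14, nat_lit 0, nat_lit 15, nat_lit 16]
def hnwr10 : List ℕ := [nat_lit 17, nat_lit 0, nat_lit 18, nat_lit 0, nat_lit 19, nat_lit 0, nat_lit 20, nat_lit 0, nat_lit 21, nat_lit 22, nat_lit 17, nat_lit 0, nat_lit 18, nat_lit 0, nat_lit 19, nat_lit 0, nat_lit 20, nat_lit 0, nat_lit 21, nat_lit 22, nat_lit 17, nat_lit 0, nat_lit 18, nat_lit 0, nat_lit 19, nat_lit 0, nat_lit 20, nat_lit 0, nat_lit 21, nat_lit 22, nat_lit 17, nat_lit 0, nat_lit 18, nat_lit 0, nat_lit 19, nat_lit 0, nat_lit 20, nat_lit 0, nat_lit 21, nat_lit 22, nat_lit 17, nat_lit 0, nat_lit 18, nat_lit 0, nat_lit 19, nat_lit 0, nat_lit 20, nat_lit 0, nat_lit 21, nat_lit 22]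
def hnwr11 : List ℕ := [nat_lit 17, nat_lit 0, nat_lit 18, nat_lit 0, nat_lit 19, nat_lit 0, nat_lit 20, nat_lit 0, nat_lit 21, nat_lit 22, nat_lit 17, nat_lit 0, nat_lit 18, nat_lit 0, nat_lit 19, nat_lit 0, nat_lit 20, nat_lit 0, nat_lit 21, nat_lit 22, nat_lit 10, nat_lit 17, nat_lit 0, nat_lit 18, nat_lit 0, nat_lit 19, nat_lit 0, nat_lit 20, nat_lit 0, nat_lit 21, nat_lit 22, nat_lit 11]
def hnwr12 : List ℕ := [nat_lit 12, nat_lit 0, nat_lit 13, nat_lit 17, nat_lit 0, nat_lit 18, nat_lit 0, nat_lit 19, nat_lit 0, nat_lit 20, nat_lit 0, nat_lit 21, nat_lit 22, nat_lit 14, nat_lit 0, nat_lit 15, nat_lit 22, nat_lit 17, nat_lit 0, nat_lit 18, nat_lit 0, nat_lit 19, nat_lit 0, nat_lit 20, nat_lit 0, nat_lit 21]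
def hnwr13 : List ℕ := [nat_lit 17, nat_lit 0, nat_lit 18, nat_lit 0, nat_lit 19, nat_lit 0, nat_lit 20, nat_lit 0, nat_lit 21, nat_lit 22, nat_lit 16, nat_lit 17, nat_lit 0, nat_lit 18, nat_lit 0, nat_lit 19, nat_lit 0, nat_lit 20, nat_lit 0, nat_lit 21, nat_lit 22, nat_lit 16, nat_lit 17, nat_lit 0, nat_lit 18, nat_lit 0, nat_lit 19, nat_lit 0, nat_lit 20, nat_lit 0, nat_lit 21, nat_lit 22, nat_lit 16]
def hnI : List (List ℕ) := [hnwi0, hnwi1, hnwi2, hnwi3]
def hnW : List (List ℕ) := [hnwr0, hnwr1, hnwr2, hnwr3, hnwr4, hnwr5, hnwr6, hnwr7, hnwr8, hnwr9, hnwr10, hnwr11, hnwr12, hnwr13]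

end

end CF.Mon.Tr
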