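import Cfsg.Agent.Mon.hnD

set_option autoImplicit false
set_option maxRecDepth 100000

namespace CF.Mon.Tr

open CF.Comp

noncomputable section

theorem hnci0 : Chk hnT hnwi0 := .inr (by decide +kernel)

def lhn0 : List AP := [⟨[nat_lit 39, nat_lit 633, nat_lit 42, nat_lit 629, nat_lit 15, nat_lit 15], [], (nat_lit 150), ⟨[nat_lit 0, nat_lit 16, nat_lit 61], [nat_lit 45, nat_lit 52], ⟨[nat_lit 0x6807074486b3ef23d42b4aa6ca1448], [nat_lit 171520, nat_lit 159872, nat_lit 156736, nat_lit 151904, nat_lit 147872, nat_lit 145320, nat_lit 139480, nat_lit 135600, nat_lit 131205, nat_lit 846, nat_lit 4408, nat_lit 8320, nat_lit 13552, nat_lit 16512, nat_lit 21120, nat_lit 25600, nat_lit 28928, nat_lit 33792, nat_lit 37888, nat_lit 41389, nat_lit 37264, nat_lit 33522, nat_lit 29201, nat_lit 24866, nat_lit 20738, nat_lit 16902, nat_lit 13317, nat_lit 8210, nat_lit 4112, nat_lit 128]⟩⟩⟩,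
  ⟨[], [], (nat_lit 151), ⟨[nat_lit 16, nat_lit 61], [nat_lit 0, nat_lit 37, nat_lit 68], ⟨[nat_lit 0x6807074486b3ef23d42b4aa6ca1448], [nat_lit 173056, nat_lit 171520, nat_lit 156672, nat_lit 151904, nat_lit 147888, nat_lit 145320, nat_lit 139480, nat_lit 135602, nat_lit 131205, nat_lit 846, nat_lit 4408, nat_lit 8320, nat_lit 13552, nat_lit 16512, nat_lit 21120, nat_lit 25600, nat_lit 28928, nat_lit 33792, nat_lit 37888, nat_lit 41389, nat_lit 37264, nat_lit 33522, nat_lit 29201, nat_lit 24866, nat_lit 20738, nat_lit 16902, nat_lit 13317, nat_lit 8210, nat_lit 4112, nat_lit 128]⟩⟩⟩,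
  ⟨[nat_lit 38, nat_lit 40], [], (nat_lit 1032), ⟨[nat_lit 0, nat_lit 13, nat_lit 68], [nat_lit 13, nat_lit 63], ⟨[nat_lit 0x2ae7171d884d095859a01de4f50446], [nat_lit 174080, nat_lit 168960, nat_lit 164096, nat_lit 163456, nat_lit 156032, nat_lit 151808, nat_lit 150048, nat_lit 147400, nat_lit 142680, nat_lit 137606, nat_lit 134264, nat_lit 158, nat_lit 4100, nat_lit 9216, nat_lit 14208, nat_lit 18400, nat_lit 21184, nat_lit 29952, nat_lit 33280, nat_lit 37888, nat_lit 41134, nat_lit 37211, nat_lit 33377, nat_lit 29743, nat_lit 25114, nat_lit 20763, nat_lit 16643, nat_lit 12292, nat_lit 8195, nat_lit 4100]⟩⟩⟩]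
theorem hnci1_0 : Suf hnT 19005990 (lapp hnwi1 [1, 0, 1]) (apW dcM q0) (tgtN dcM q0.e) := Suf.fin' (l := lhn0) (by decide +kernel)

def lhn1 : List AP := [⟨[nat_lit 36, nat_lit 16, nat_lit 40, nat_lit 36, nat_lit 14], [], (nat_lit 197), ⟨[nat_lit 43, nat_lit 69], [nat_lit 0, nat_lit 77, nat_lit 89], ⟨[nat_lit 0xb2b0592973392d2a862981f694507], [nat_lit 168448, nat_lit 165120, nat_lit 160896, nat_lit 156352, nat_lit 153504, nat_lit 149536, nat_lit 143472, nat_lit 140612, nat_lit 135170, nat_lit 132377, nat_lit 1166, nat_lit 5940, nat_lit 9672, nat_lit 14176, nat_lit 16640, nat_lit 21184, nat_lit 25088, nat_lit 33280, nat_lit 41675, nat_lit 37360, nat_lit 32892, nat_lit 29288, nat_lit 24875, nat_lit 20748, nat_lit 16387, nat_lit 12416, nat_lit 8259, nat_lit 4113]⟩⟩⟩,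
  ⟨[], [], (nat_lit 196), ⟨[nat_lit 43, nat_lit 69], [nat_lit 0, nat_lit 74, nat_lit 92], ⟨[nat_lit 0xb2b0592973392d2a862981f694507], [nat_lit 173056, nat_lit 164864, nat_lit 160768, nat_lit 156352, nat_lit 153504, nat_lit 149552, nat_lit 143472, nat_lit 140612, nat_lit 135170, nat_lit 132376, nat_lit 1166, nat_lit 5940, nat_lit 9672, nat_lit 14176, nat_lit 16640, nat_lit 21184, nat_lit 25088, nat_lit 33280, nat_lit 41675, nat_lit 37360, nat_lit 32892, nat_lit 29288, nat_lit 24875, nat_lit 20748, nat_lit 16387, nat_lit 12416, nat_lit 8259, nat_lit 4113]⟩⟩⟩,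
  ⟨[nat_lit 40], [], (nat_lit 1032), ⟨[nat_lit 85, nat_lit 63], [nat_lit 0, nat_lit 26, nat_lit 53], ⟨[nat_lit 0x22a2a4a291b0f32dd467aecd23830], [nat_lit 173056, nat_lit 168448, nat_lit 164864, nat_lit 160768, nat_lit 157440, nat_lit 153120, nat_lit 149408, nat_lit 143936, nat_lit 139572, nat_lit 136122, nat_lit 133078, nat_lit 428, nat_lit 10160, nat_lit 13248, nat_lit 18400, nat_lit 21696, nat_lit 25984, nat_lit 29952, nat_lit 34304, nat_lit 41274, nat_lit 33850, nat_lit 28773, nat_lit 24755, nat_lit 20625, nat_lit 16421, nat_lit 13314, nat_lit 16]⟩⟩⟩]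
theorem hnci1_1 : Suf hnT 19005990 (lapp hnwi1 [2, 0, 1]) (iC2 :: apW dcM q0) (tgtN dcM q0.e) := Suf.fin' (l := lhn1) (by decide +kernel)

def lhn2 : List AP := [⟨[nat_lit 17, nat_lit 40, nat_lit 38, nat_lit 632, nat_lit 631, nat_lit 40], [], (nat_lit 150), ⟨[nat_lit 80, nat_lit 61], [nat_lit 23, nat_lit 68], ⟨[nat_lit 0xad15265ce2780d69b9a92c08888c2b], [nat_lit 175104, nat_lit 169472, nat_lit 164608, nat_lit 160512, nat_lit 157888, nat_lit 153856, nat_lit 150080, nat_lit 145320, nat_lit 142828, nat_lit 137004, nat_lit 134322, nat_lit 1966, nat_lit 4104, nat_lit 8200, nat_lit 12800, nat_lit 17088, nat_lit 20928, nat_lit 24704, nat_lit 29184, nat_lit 33792, nat_lit 41939, nat_lit 38129, nat_lit 33399, nat_lit 29712, nat_lit 24732, nat_lit 21009, nat_lit 16387, nat_lit 12356, nat_lit 8256, nat_lit 4100]⟩⟩⟩,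
  ⟨[], [], (nat_lit 151), ⟨[nat_lit 0, nat_lit 80, nat_lit 61], [nat_lit 0, nat_lit 82, nat_lit 52], ⟨[nat_lit 0xad15265ce2780d69b9a92c08888c2b], [nat_lit 174080, nat_lit 168960, nat_lit 164608, nat_lit 160640, nat_lit 157888, nat_lit 153856, nat_lit 150080, nat_lit 145312, nat_lit 142824, nat_lit 137006, nat_lit 134322, nat_lit 1966, nat_lit 4104, nat_lit 8200, nat_lit 12800, nat_lit 17088, nat_lit 20928, nat_lit 24704, nat_lit 29184, nat_lit 33792, nat_lit 41939, nat_lit 38129, nat_lit 33399, nat_lit 29712, nat_lit 24732, nat_lit 21009, nat_lit 16387, nat_lit 12356, nat_lit 8256, nat_lit 4100]⟩⟩⟩,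
  ⟨[nat_lit 15, nat_lit 40], [], (nat_lit 1032), ⟨[nat_lit 0, nat_lit 30, nat_lit 89], [nat_lit 0, nat_lit 20, nat_lit 66], ⟨[nat_lit 0x9266c081c83d0713156d559f785444], [nat_lit 173056, nat_lit 169472, nat_lit 165376, nat_lit 160256, nat_lit 156224, nat_lit 153248, nat_lit 148256, nat_lit 143616, nat_lit 139556, nat_lit 135724, nat_lit 133542, nat_lit 16, nat_lit 5876, nat_lit 8208, nat_lit 14208, nat_lit 17440, nat_lit 21568, nat_lit 24832, nat_lit 29952, nat_lit 33280, nat_lit 37888, nat_lit 41752, nat_lit 37013, nat_lit 32860, nat_lit 28761, nat_lit 24625, nat_lit 20507, nat_lit 16431, nat_lit 12322, nat_lit 8194, nat_lit 4101]⟩⟩⟩]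
theorem hnci1_2 : Suf hnT 19005990 (lapp hnwi1 [3, 0, 1]) (iC3 :: apW dcM q0) (tgtN dcM q0.e) := Suf.fin' (l := lhn2) (by decide +kernel)

def lhn3 : List AP := [⟨[nat_lit 638, nat_lit 21, nat_lit 634, nat_lit 638, nat_lit 22, nat_lit 21], [], (nat_lit 338), ⟨[nat_lit 0, nat_lit 87, nat_lit 46], [nat_lit 0, nat_lit 27, nat_lit 55], ⟨[nat_lit 0xb4e4c71aa7101b47dd495c42428e08], [nat_lit 174080, nat_lit 169472, nat_lit 164864, nat_lit 160256, nat_lit 156288, nat_lit 152096, nat_lit 148992, nat_lit 144264, nat_lit 140892, nat_lit 136540, nat_lit 131264, nat_lit 1438, nat_lit 4476, nat_lit 8560, nat_lit 12416, nat_lit 17408, nat_lit 20544, nat_lit 24832, nat_lit 29696, nat_lit 33792, nat_lit 41472, nat_lit 37005, nat_lit 32890, nat_lit 28686, nat_lit 24891, nat_lit 20760, nat_lit 12422, nat_lit 8322, nat_lit 4128, nat_lit 64]⟩⟩⟩,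
  ⟨[], [], (nat_lit 339), ⟨[nat_lit 87, nat_lit 46], [nat_lit 0, nat_lit 76, nat_lit 54], ⟨[nat_lit 0xb4e4c71aa7101b47dd495c42428e08], [nat_lit 175104, nat_lit 169472, nat_lit 165120, nat_lit 160256, nat_lit 156352, nat_lit 152064, nat_lit 149008, nat_lit 144256, nat_lit 140888, nat_lit 136540, nat_lit 131264, nat_lit 1438, nat_lit 4476, nat_lit 8560, nat_lit 12416, nat_lit 17408, nat_lit 20544, nat_lit 24832, nat_lit 29696, nat_lit 33792, nat_lit 41472, nat_lit 37005, nat_lit 32890, nat_lit 28686, nat_lit 24891, nat_lit 20760, nat_lit 12422, nat_lit 8322, nat_lit 4128, nat_lit 64]⟩⟩⟩,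
  ⟨[], [], (nat_lit 1034), ⟨[nat_lit 0, nat_lit 72, nat_lit 92], [nat_lit 0, nat_lit 35, nat_lit 54], ⟨[nat_lit 0x13928380afa06cd99aab22af28b070], [nat_lit 168448, nat_lit 165120, nat_lit 161536, nat_lit 157184, nat_lit 153408, nat_lit 148144, nat_lit 144440, nat_lit 140364, nat_lit 136130, nat_lit 134386, nat_lit 64, nat_lit 4404, nat_lit 9272, nat_lit 13664, nat_lit 18112, nat_lit 21568, nat_lit 25088, nat_lit 28928, nat_lit 41726, nat_lit 37313, nat_lit 33430, nat_lit 29229, nat_lit 24585, nat_lit 20621, nat_lit 16646, nat_lit 12352, nat_lit 8323, nat_lit 4100]⟩⟩⟩]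
theorem hnci1_3 : Suf hnT 2048 (lapp hnwi1 [1, 0, 1]) (apW dcM q1) (tgtN dcM q1.e) := Suf.fin' (l := lhn3) (by decide +kernel)

theorem hnci2 : Chk hnT hnwi2 := .inr (by decide +kernel)

def phn4 : AP := ⟨[], [], (nat_lit 324), ⟨[nat_lit 0, nat_lit 3, nat_lit 65], [nat_lit 0, nat_lit 21, nat_lit 54], ⟨[nat_lit 0x24d0e60acf6a605ac472a282b39ae0], [nat_lit 173056, nat_lit 164096, nat_lit 157568, nat_lit 151744, nat_lit 148880, nat_lit 144240, nat_lit 142852, nat_lit 137156, nat_lit 131265, nat_lit 4, nat_lit 4328, nat_lit 9216, nat_lit 13072, nat_lit 18208, nat_lit 20736, nat_lit 26368, nat_lit 30464, nat_lit 33280, nat_lit 41963, nat_lit 37954, nat_lit 33453, nat_lit 28766, nat_lit 24604, nat_lit 21017, nat_lit 16390, nat_lit 12355, nat_lit 4104]⟩⟩⟩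
def phn5 : AP := ⟨[nat_lit 147, nat_lit 141, nat_lit 142], [], (nat_lit 324), ⟨[nat_lit 0, nat_lit 42, nat_lit 90], [nat_lit 80, nat_lit 70], ⟨[nat_lit 0x2012c742ef6a046a8e21a2a4b396d3], [nat_lit 173056, nat_lit 160256, nat_lit 158592, nat_lit 153120, nat_lit 148304, nat_lit 144264, nat_lit 139900, nat_lit 135866, nat_lit 132101, nat_lit 526, nat_lit 4340, nat_lit 9128, nat_lit 14160, nat_lit 17920, nat_lit 22144, nat_lit 24704, nat_lit 34304, nat_lit 41717, nat_lit 38290, nat_lit 33449, nat_lit 28736, nat_lit 24632, nat_lit 20546, nat_lit 16428, nat_lit 12323, nat_lit 8210, nat_lit 4097]⟩⟩⟩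
def lhn6 : List AP := [⟨[], [], (nat_lit 306), ⟨[nat_lit 80, nat_lit 58], [nat_lit 0, nat_lit 28, nat_lit 91], ⟨[nat_lit 0x305b08aef29bc65b0940ab12e39288], [nat_lit 171008, nat_lit 166912, nat_lit 161792, nat_lit 159552, nat_lit 152992, nat_lit 149520, nat_lit 146104, nat_lit 140976, nat_lit 138886, nat_lit 132096, nat_lit 1438, nat_lit 5112, nat_lit 10144, nat_lit 12432, nat_lit 16416, nat_lit 20544, nat_lit 41284, nat_lit 36881, nat_lit 32933, nat_lit 29001, nat_lit 24610, nat_lit 20482, nat_lit 16390, nat_lit 12423, nat_lit 8208, nat_lit 8]⟩⟩⟩,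
  ⟨[nat_lit 642], [], (nat_lit 122), ⟨[nat_lit 0, nat_lit 74, nat_lit 56], [nat_lit 0, nat_lit 20, nat_lit 91], ⟨[nat_lit 0x808143b02921a571950db3dd19a975], [nat_lit 166400, nat_lit 160256, nat_lit 157568, nat_lit 153792, nat_lit 150080, nat_lit 145936, nat_lit 143008, nat_lit 137560, nat_lit 131154, nat_lit 2012, nat_lit 4568, nat_lit 9560, nat_lit 13888, nat_lit 16864, nat_lit 20992, nat_lit 25344, nat_lit 29696, nat_lit 34304, nat_lit 41782, nat_lit 37220, nat_lit 33451, nat_lit 28722, nat_lit 24600, nat_lit 20510, nat_lit 16398, nat_lit 12307, nat_lit 8200, nat_lit 4112]⟩⟩⟩,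
  ⟨[nat_lit 15, nat_lit 632], [], (nat_lit 1032), ⟨[nat_lit 0, nat_lit 88], [nat_lit 20, nat_lit 70], ⟨[nat_lit 0x2ac3312a2693a1543d36bb4e41d180], [nat_lit 174080, nat_lit 171520, nat_lit 167168, nat_lit 157184, nat_lit 152480, nat_lit 150592, nat_lit 143888, nat_lit 140452, nat_lit 137272, nat_lit 134707, nat_lit 318, nat_lit 5904, nat_lit 9736, nat_lit 12320, nat_lit 16416, nat_lit 21312, nat_lit 26368, nat_lit 29952, nat_lit 33280, nat_lit 37888, nat_lit 41894, nat_lit 36965, nat_lit 33018, nat_lit 28676, nat_lit 24613, nat_lit 20500, nat_lit 16389, nat_lit 12293, nat_lit 8193, nat_lit 4097, nat_lit 2]⟩⟩⟩]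
theorem shn6 : Suf hnT 19005990 (ldrop (lapp hnwi3 [1, 0, 1]) 15) (apW dcM phn5) (tgtN dcM phn5.e) := Suf.fin' (l := lhn6) (by decide +kernel)
def lhn5 : List AP := [⟨[nat_lit 654, nat_lit 149, nat_lit 147, nat_lit 654, nat_lit 140], [], (nat_lit 732), ⟨[nat_lit 0, nat_lit 87, nat_lit 64], [nat_lit 0, nat_lit 41, nat_lit 90], ⟨[nat_lit 0xb50236c22c7ba5332905b82a23ad24], [nat_lit 173056, nat_lit 169472, nat_lit 164096, nat_lit 161408, nat_lit 158912, nat_lit 152928, nat_lit 149120, nat_lit 144728, nat_lit 140404, nat_lit 135244, nat_lit 132437, nat_lit 1166, nat_lit 5508, nat_lit 9752, nat_lit 13824, nat_lit 16448, nat_lit 21696, nat_lit 26112, nat_lit 34304, nat_lit 41803, nat_lit 38155, nat_lit 33931, nat_lit 28725, nat_lit 24634, nat_lit 20562, nat_lit 16396, nat_lit 12309, nat_lit 8194, nat_lit 8]⟩⟩⟩,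
  ⟨[], [], (nat_lit 1184), ⟨[nat_lit 0, nat_lit 87, nat_lit 64], [nat_lit 0, nat_lit 8, nat_lit 68], ⟨[nat_lit 0xb50236c22c7ba5332905b82a23ad24], [nat_lit 173056, nat_lit 168960, nat_lit 161408, nat_lit 158848, nat_lit 152896, nat_lit 149120, nat_lit 144728, nat_lit 140404, nat_lit 135246, nat_lit 132437, nat_lit 1166, nat_lit 5508, nat_lit 9752, nat_lit 13824, nat_lit 16448, nat_lit 21696, nat_lit 26112, nat_lit 34304, nat_lit 41803, nat_lit 38155, nat_lit 33931, nat_lit 28725, nat_lit 24634, nat_lit 20562, nat_lit 16396, nat_lit 12309, nat_lit 8194, nat_lit 8]⟩⟩⟩]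
theorem shn5 : Suf hnT 19005990 (ldrop (lapp hnwi3 [1, 0, 1]) 6) (apW dcM phn4) (tgtN dcM phn4.e) := Suf.seg (l := lhn5) (by decide +kernel) shn6
def lhn4 : List AP := [⟨[nat_lit 629, nat_lit 17, nat_lit 38, nat_lit 36, nat_lit 14, nat_lit 15], [], (nat_lit 90), ⟨[nat_lit 0, nat_lit 41, nat_lit 53], [nat_lit 71, nat_lit 55], ⟨[nat_lit 0x55669584ec935d414477b1a052010f], [nat_lit 173056, nat_lit 164864, nat_lit 160128, nat_lit 156800, nat_lit 152768, nat_lit 148704, nat_lit 144720, nat_lit 140028, nat_lit 138690, nat_lit 131270, nat_lit 1896, nat_lit 4352, nat_lit 9128, nat_lit 14192, nat_lit 16512, nat_lit 20608, nat_lit 25344, nat_lit 29440, nat_lit 34304, nat_lit 37888, nat_lit 41730, nat_lit 38319, nat_lit 33973, nat_lit 29045, nat_lit 24726, nat_lit 20747, nat_lit 16430, nat_lit 12326, nat_lit 8227, nat_lit 4]⟩⟩⟩,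
  ⟨[nat_lit 53, nat_lit 53, nat_lit 55, nat_lit 73, nat_lit 51, nat_lit 46], [], (nat_lit 1042), ⟨[nat_lit 0, nat_lit 77], [nat_lit 16, nat_lit 53], ⟨[nat_lit 0x20db29ae908bc27a8142b312e29ae8], [nat_lit 173056, nat_lit 170496, nat_lit 166912, nat_lit 162816, nat_lit 158144, nat_lit 152960, nat_lit 151248, nat_lit 146120, nat_lit 141036, nat_lit 138994, nat_lit 1396, nat_lit 4824, nat_lit 9136, nat_lit 13344, nat_lit 18336, nat_lit 24832, nat_lit 28928, nat_lit 33792, nat_lit 41716, nat_lit 38358, nat_lit 32790, nat_lit 28684, nat_lit 24578, nat_lit 20992, nat_lit 16640, nat_lit 12422, nat_lit 8208, nat_lit 4097, nat_lit 2]⟩⟩⟩]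
theorem hnci3_0 : Suf hnT 19005990 (lapp hnwi3 [1, 0, 1]) (apW dcM q0) (tgtN dcM q0.e) := Suf.seg (l := lhn4) (by decide +kernel) shn5

def phn7 : AP := ⟨[], [], (nat_lit 547), ⟨[nat_lit 41, nat_lit 51], [nat_lit 0, nat_lit 19, nat_lit 54], ⟨[nat_lit 0x1eee8086a4da54ab0255b5f132093], [nat_lit 173056, nat_lit 168448, nat_lit 164352, nat_lit 160896, nat_lit 156864, nat_lit 151648, nat_lit 148768, nat_lit 144040, nat_lit 143272, nat_lit 136754, nat_lit 132372, nat_lit 586, nat_lit 5044, nat_lit 8448, nat_lit 12624, nat_lit 17568, nat_lit 22464, nat_lit 26368, nat_lit 29440, nat_lit 41335, nat_lit 37180, nat_lit 33464, nat_lit 28700, nat_lit 25658, nat_lit 21004, nat_lit 16420, nat_lit 12353, nat_lit 5121]⟩⟩⟩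
def phn8 : AP := ⟨[nat_lit 666, nat_lit 223], [], (nat_lit 547), ⟨[nat_lit 0, nat_lit 24, nat_lit 63], [nat_lit 0, nat_lit 76, nat_lit 52], ⟨[nat_lit 0x328337d88728a2b436e9a32120546e], [nat_lit 173056, nat_lit 171008, nat_lit 164864, nat_lit 162176, nat_lit 156352, nat_lit 154688, nat_lit 151152, nat_lit 145824, nat_lit 139428, nat_lit 136128, nat_lit 133168, nat_lit 1292, nat_lit 5092, nat_lit 10168, nat_lit 12976, nat_lit 17056, nat_lit 20864, nat_lit 25984, nat_lit 29952, nat_lit 41079, nat_lit 37165, nat_lit 33426, nat_lit 28765, nat_lit 24578, nat_lit 20498, nat_lit 16397, nat_lit 8194, nat_lit 4101]⟩⟩⟩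
def lhn9 : List AP := [⟨[nat_lit 229, nat_lit 225], [], (nat_lit 1120), ⟨[nat_lit 0, nat_lit 13, nat_lit 93], [nat_lit 5, nat_lit 55], ⟨[nat_lit 0x2dd07612026d1ca926b333c3102c76], [nat_lit 173056, nat_lit 164352, nat_lit 159872, nat_lit 157632, nat_lit 151616, nat_lit 150512, nat_lit 144904, nat_lit 140968, nat_lit 136026, nat_lit 131427, nat_lit 680, nat_lit 5072, nat_lit 9704, nat_lit 12976, nat_lit 16896, nat_lit 21120, nat_lit 26368, nat_lit 29696, nat_lit 34304, nat_lit 41672, nat_lit 37200, nat_lit 33023, nat_lit 28738, nat_lit 24588, nat_lit 20495, nat_lit 12289, nat_lit 8225, nat_lit 4100]⟩⟩⟩,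
  ⟨[nat_lit 101], [], (nat_lit 196), ⟨[nat_lit 0, nat_lit 71, nat_lit 92], [nat_lit 30, nat_lit 59], ⟨[nat_lit 0x934713bc243595375e825b008816a9], [nat_lit 175104, nat_lit 171520, nat_lit 167680, nat_lit 161408, nat_lit 158656, nat_lit 153952, nat_lit 148832, nat_lit 146512, nat_lit 140204, nat_lit 137030, nat_lit 132167, nat_lit 804, nat_lit 4780, nat_lit 9120, nat_lit 14112, nat_lit 16640, nat_lit 20864, nat_lit 24832, nat_lit 28928, nat_lit 33280, nat_lit 37888, nat_lit 41690, nat_lit 38204, nat_lit 32876, nat_lit 28749, nat_lit 24600, nat_lit 20740, nat_lit 16448, nat_lit 8321, nat_lit 4097, nat_lit 2]⟩⟩⟩,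
  ⟨[nat_lit 41, nat_lit 629], [], (nat_lit 1032), ⟨[nat_lit 82, nat_lit 55], [nat_lit 0, nat_lit 79, nat_lit 92], ⟨[nat_lit 0x33c4ca25d220611b9c1628d686d66a], [nat_lit 175104, nat_lit 166912, nat_lit 163456, nat_lit 158720, nat_lit 152928, nat_lit 147488, nat_lit 145056, nat_lit 143204, nat_lit 137362, nat_lit 131392, nat_lit 724, nat_lit 5024, nat_lit 9384, nat_lit 12848, nat_lit 16864, nat_lit 22208, nat_lit 25088, nat_lit 30208, nat_lit 41670, nat_lit 37106, nat_lit 32987, nat_lit 28943, nat_lit 24714, nat_lit 21018, nat_lit 16398, nat_lit 12305, nat_lit 8202, nat_lit 4104]⟩⟩⟩]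
theorem shn9 : Suf hnT 19005990 (ldrop (lapp hnwi3 [2, 0, 1]) 15) (apW dcM phn8) (tgtN dcM phn8.e) := Suf.fin' (l := lhn9) (by decide +kernel)
def lhn8 : List AP := [⟨[nat_lit 667, nat_lit 222, nat_lit 232], [], (nat_lit 554), ⟨[nat_lit 0, nat_lit 40, nat_lit 54], [nat_lit 0, nat_lit 45, nat_lit 91], ⟨[nat_lit 0xa560e8a1ab3d82a79a6400d92126e5], [nat_lit 173056, nat_lit 165888, nat_lit 161408, nat_lit 157120, nat_lit 152896, nat_lit 148496, nat_lit 145160, nat_lit 140096, nat_lit 136446, nat_lit 132590, nat_lit 1268, nat_lit 5444, nat_lit 8320, nat_lit 13968, nat_lit 18208, nat_lit 21184, nat_lit 25856, nat_lit 41848, nat_lit 37001, nat_lit 33008, nat_lit 29018, nat_lit 24894, nat_lit 20638, nat_lit 16420, nat_lit 12354, nat_lit 8202, nat_lit 4101, nat_lit 2]⟩⟩⟩,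
  ⟨[], [], (nat_lit 555), ⟨[nat_lit 0, nat_lit 40, nat_lit 54], [nat_lit 0, nat_lit 13, nat_lit 93], ⟨[nat_lit 0xa560e8a1ab3d82a79a6400d92126e5], [nat_lit 168448, nat_lit 166144, nat_lit 161408, nat_lit 157056, nat_lit 152896, nat_lit 148480, nat_lit 145160, nat_lit 140096, nat_lit 136444, nat_lit 132591, nat_lit 1268, nat_lit 5444, nat_lit 8320, nat_lit 13968, nat_lit 18208, nat_lit 21184, nat_lit 25856, nat_lit 41848, nat_lit 37001, nat_lit 33008, nat_lit 29018, nat_lit 24894, nat_lit 20638, nat_lit 16420, nat_lit 12354, nat_lit 8202, nat_lit 4101, nat_lit 2]⟩⟩⟩]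
theorem shn8 : Suf hnT 19005990 (ldrop (lapp hnwi3 [2, 0, 1]) 6) (apW dcM phn7) (tgtN dcM phn7.e) := Suf.seg (l := lhn8) (by decide +kernel) shn9
def lhn7 : List AP := [⟨[nat_lit 15, nat_lit 631, nat_lit 629, nat_lit 631, nat_lit 40, nat_lit 15], [], (nat_lit 150), ⟨[nat_lit 42, nat_lit 59], [nat_lit 0, nat_lit 86, nat_lit 91], ⟨[nat_lit 0x45a910d5e439609680d7931ca9886b], [nat_lit 175104, nat_lit 170496, nat_lit 164352, nat_lit 161792, nat_lit 159168, nat_lit 155392, nat_lit 148368, nat_lit 144776, nat_lit 139960, nat_lit 139132, nat_lit 133302, nat_lit 1336, nat_lit 5072, nat_lit 8200, nat_lit 13984, nat_lit 16864, nat_lit 21632, nat_lit 26368, nat_lit 29952, nat_lit 33792, nat_lit 41805, nat_lit 38062, nat_lit 33421, nat_lit 29236, nat_lit 24603, nat_lit 20491, nat_lit 12327, nat_lit 8195, nat_lit 4097]⟩⟩⟩,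
  ⟨[nat_lit 76, nat_lit 85, nat_lit 76, nat_lit 104, nat_lit 104], [], (nat_lit 534), ⟨[nat_lit 3, nat_lit 51], [nat_lit 2, nat_lit 69], ⟨[nat_lit 0x3110f8b573bd18a91c551a42e800b6], [nat_lit 173056, nat_lit 168448, nat_lit 165888, nat_lit 162560, nat_lit 159104, nat_lit 153984, nat_lit 148048, nat_lit 145808, nat_lit 143084, nat_lit 136950, nat_lit 134678, nat_lit 568, nat_lit 4340, nat_lit 8680, nat_lit 12912, nat_lit 16672, nat_lit 21568, nat_lit 24704, nat_lit 30464, nat_lit 34304, nat_lit 41439, nat_lit 37259, nat_lit 33281, nat_lit 28771, nat_lit 24590, nat_lit 20501, nat_lit 16420, nat_lit 12293, nat_lit 4161, nat_lit 2]⟩⟩⟩]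
theorem hnci3_1 : Suf hnT 19005990 (lapp hnwi3 [2, 0, 1]) (iC2 :: apW dcM q0) (tgtN dcM q0.e) := Suf.seg (l := lhn7) (by decide +kernel) shn8

def phn10 : AP := ⟨[nat_lit 664, nat_lit 222], [], (nat_lit 508), ⟨[nat_lit 20, nat_lit 90], [nat_lit 0, nat_lit 85], ⟨[nat_lit 0x4bcb1b5417341cb41192a0c223cdaa], [nat_lit 175104, nat_lit 171008, nat_lit 164352, nat_lit 162816, nat_lit 158848, nat_lit 153760, nat_lit 148704, nat_lit 144776, nat_lit 140820, nat_lit 138382, nat_lit 134860, nat_lit 1814, nat_lit 5900, nat_lit 9384, nat_lit 12672, nat_lit 16864, nat_lit 22272, nat_lit 25216, nat_lit 30208, nat_lit 33280, nat_lit 41909, nat_lit 37318, nat_lit 33531, nat_lit 28699, nat_lit 24634, nat_lit 20509, nat_lit 16385, nat_lit 12321, nat_lit 16]⟩⟩⟩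
def phn11 : AP := ⟨[nat_lit 262, nat_lit 224], [], (nat_lit 508), ⟨[nat_lit 16, nat_lit 48], [nat_lit 0, nat_lit 71, nat_lit 48], ⟨[nat_lit 0x44c8ab963630c500d16ea81e93c98d], [nat_lit 164352, nat_lit 163328, nat_lit 157056, nat_lit 151936, nat_lit 149424, nat_lit 143800, nat_lit 139664, nat_lit 136280, nat_lit 131983, nat_lit 364, nat_lit 4540, nat_lit 9288, nat_lit 13424, nat_lit 17152, nat_lit 21504, nat_lit 26368, nat_lit 34304, nat_lit 41893, nat_lit 36992, nat_lit 32780, nat_lit 28696, nat_lit 24621, nat_lit 20558, nat_lit 16514, nat_lit 12309, nat_lit 8203]⟩⟩⟩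
def lhn12 : List AP := [⟨[nat_lit 259, nat_lit 264], [], (nat_lit 1094), ⟨[nat_lit 35, nat_lit 60], [nat_lit 77, nat_lit 69], ⟨[nat_lit 0x3d570609cfb2264185a0544b7a48c9], [nat_lit 173056, nat_lit 165120, nat_lit 156352, nat_lit 152096, nat_lit 149472, nat_lit 144504, nat_lit 141524, nat_lit 135170, nat_lit 132312, nat_lit 434, nat_lit 4548, nat_lit 14144, nat_lit 17504, nat_lit 20544, nat_lit 34304, nat_lit 37888, nat_lit 41476, nat_lit 38356, nat_lit 33475, nat_lit 28676, nat_lit 24620, nat_lit 20552, nat_lit 16644, nat_lit 12352, nat_lit 4113, nat_lit 16]⟩⟩⟩,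
  ⟨[nat_lit 646], [], (nat_lit 196), ⟨[nat_lit 0, nat_lit 88, nat_lit 50], [nat_lit 0, nat_lit 19, nat_lit 51], ⟨[nat_lit 0x52cc74a0a415aa3a00376c26e63e51], [nat_lit 168448, nat_lit 167680, nat_lit 161152, nat_lit 157440, nat_lit 153504, nat_lit 148208, nat_lit 145272, nat_lit 139516, nat_lit 136002, nat_lit 131502, nat_lit 1694, nat_lit 4412, nat_lit 8408, nat_lit 14176, nat_lit 22080, nat_lit 25728, nat_lit 33280, nat_lit 41920, nat_lit 37248, nat_lit 32815, nat_lit 29265, nat_lit 24705, nat_lit 20750, nat_lit 16460, nat_lit 12310, nat_lit 8208, nat_lit 4104, nat_lit 32]⟩⟩⟩,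
  ⟨[nat_lit 40], [], (nat_lit 1032), ⟨[nat_lit 22, nat_lit 47], [nat_lit 35, nat_lit 53], ⟨[nat_lit 0x28eb165e885880e4b612311ea3cc36], [nat_lit 174080, nat_lit 165120, nat_lit 161024, nat_lit 159296, nat_lit 155264, nat_lit 150144, nat_lit 144736, nat_lit 142788, nat_lit 136666, nat_lit 134124, nat_lit 698, nat_lit 4340, nat_lit 9928, nat_lit 13024, nat_lit 17280, nat_lit 20992, nat_lit 26112, nat_lit 29696, nat_lit 41675, nat_lit 37243, nat_lit 32859, nat_lit 28755, nat_lit 24603, nat_lit 20992, nat_lit 16386, nat_lit 12325, nat_lit 8194, nat_lit 4101, nat_lit 2]⟩⟩⟩]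
theorem shn12 : Suf hnT 19005990 (ldrop (lapp hnwi3 [3, 0, 1]) 15) (apW dcM phn11) (tgtN dcM phn11.e) := Suf.fin' (l := lhn12) (by decide +kernel)
def lhn11 : List AP := [⟨[nat_lit 260, nat_lit 232, nat_lit 259], [], (nat_lit 602), ⟨[nat_lit 8, nat_lit 63], [nat_lit 22, nat_lit 53], ⟨[nat_lit 0x5a272304e375ecd200a252630abe8c], [nat_lit 173056, nat_lit 168960, nat_lit 164608, nat_lit 160384, nat_lit 155712, nat_lit 152416, nat_lit 147504, nat_lit 143680, nat_lit 139992, nat_lit 138218, nat_lit 132558, nat_lit 2012, nat_lit 4128, nat_lit 9840, nat_lit 14144, nat_lit 17952, nat_lit 26368, nat_lit 30464, nat_lit 34304, nat_lit 37888, nat_lit 41620, nat_lit 38101, nat_lit 32886, nat_lit 29750, nat_lit 24618, nat_lit 20482, nat_lit 16644, nat_lit 12293, nat_lit 8203, nat_lit 8]⟩⟩⟩,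
  ⟨[], [], (nat_lit 1130), ⟨[nat_lit 8, nat_lit 63], [nat_lit 0, nat_lit 14, nat_lit 93], ⟨[nat_lit 0x5a272304e375ecd200a252630abe8c], [nat_lit 173056, nat_lit 168960, nat_lit 164608, nat_lit 160256, nat_lit 152416, nat_lit 147504, nat_lit 143688, nat_lit 139992, nat_lit 138218, nat_lit 132558, nat_lit 2012, nat_lit 4128, nat_lit 9840, nat_lit 14144, nat_lit 17952, nat_lit 26368, nat_lit 30464, nat_lit 34304, nat_lit 37888, nat_lit 41620, nat_lit 38101, nat_lit 32886, nat_lit 29750, nat_lit 24618, nat_lit 20482, nat_lit 16644, nat_lit 12293, nat_lit 8203, nat_lit 8]⟩⟩⟩]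
theorem shn11 : Suf hnT 19005990 (ldrop (lapp hnwi3 [3, 0, 1]) 6) (apW dcM phn10) (tgtN dcM phn10.e) := Suf.seg (l := lhn11) (by decide +kernel) shn12
def lhn10 : List AP := [⟨[nat_lit 39, nat_lit 41, nat_lit 15, nat_lit 38, nat_lit 629], [], (nat_lit 197), ⟨[nat_lit 17, nat_lit 66], [nat_lit 84, nat_lit 65], ⟨[nat_lit 0x94cf65aa8561aae208776c12103d11], [nat_lit 174080, nat_lit 171520, nat_lit 166400, nat_lit 160896, nat_lit 157504, nat_lit 153088, nat_lit 151248, nat_lit 144192, nat_lit 141288, nat_lit 138210, nat_lit 134017, nat_lit 1298, nat_lit 5136, nat_lit 9912, nat_lit 12976, nat_lit 17920, nat_lit 22080, nat_lit 25344, nat_lit 29184, nat_lit 33280, nat_lit 37888, nat_lit 41793, nat_lit 37920, nat_lit 32830, nat_lit 28767, nat_lit 24734, nat_lit 20756, nat_lit 16387, nat_lit 12320, nat_lit 8322, nat_lit 4105]⟩⟩⟩,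
  ⟨[nat_lit 102, nat_lit 78, nat_lit 106, nat_lit 79], [], (nat_lit 468), ⟨[nat_lit 0, nat_lit 88, nat_lit 89], [nat_lit 79, nat_lit 58], ⟨[nat_lit 0x3c564b08af625b01aa600d5c6a4ae8], [nat_lit 169472, nat_lit 157120, nat_lit 152128, nat_lit 148368, nat_lit 144392, nat_lit 141532, nat_lit 135206, nat_lit 131861, nat_lit 1396, nat_lit 4756, nat_lit 14144, nat_lit 17408, nat_lit 21504, nat_lit 24832, nat_lit 30464, nat_lit 33280, nat_lit 37888, nat_lit 41735, nat_lit 38019, nat_lit 33525, nat_lit 28720, nat_lit 24861, nat_lit 20568, nat_lit 16416, nat_lit 12352, nat_lit 5120, nat_lit 2]⟩⟩⟩]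
theorem hnci3_2 : Suf hnT 19005990 (lapp hnwi3 [3, 0, 1]) (iC3 :: apW dcM q0) (tgtN dcM q0.e) := Suf.seg (l := lhn10) (by decide +kernel) shn11

def phn13 : AP := ⟨[nat_lit 175, nat_lit 219, nat_lit 216, nat_lit 171], [], (nat_lit 440), ⟨[nat_lit 0, nat_lit 41, nat_lit 59], [nat_lit 0, nat_lit 29, nat_lit 46], ⟨[nat_lit 0x812eaabec264a23021ab4d267095c6], [nat_lit 175104, nat_lit 170496, nat_lit 167424, nat_lit 160128, nat_lit 158912, nat_lit 154432, nat_lit 147840, nat_lit 146768, nat_lit 140820, nat_lit 136084, nat_lit 132336, nat_lit 158, nat_lit 6068, nat_lit 10032, nat_lit 14304, nat_lit 17216, nat_lit 20544, nat_lit 25216, nat_lit 29952, nat_lit 34304, nat_lit 37888, nat_lit 41576, nat_lit 37339, nat_lit 32822, nat_lit 29250, nat_lit 25127, nat_lit 20553, nat_lit 16428, nat_lit 12294, nat_lit 8202, nat_lit 4104, nat_lit 16]⟩⟩⟩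
def phn14 : AP := ⟨[nat_lit 181, nat_lit 218, nat_lit 171, nat_lit 213], [], (nat_lit 440), ⟨[nat_lit 76, nat_lit 62], [nat_lit 14, nat_lit 65], ⟨[nat_lit 0x28eed50221248c8831cb9d13613ea7], [nat_lit 168448, nat_lit 164352, nat_lit 160256, nat_lit 156352, nat_lit 153408, nat_lit 148000, nat_lit 144776, nat_lit 140828, nat_lit 136156, nat_lit 133628, nat_lit 1014, nat_lit 5856, nat_lit 8824, nat_lit 14240, nat_lit 17664, nat_lit 20608, nat_lit 24960, nat_lit 29440, nat_lit 33792, nat_lit 37888, nat_lit 41711, nat_lit 37199, nat_lit 32981, nat_lit 28721, nat_lit 24888, nat_lit 20569, nat_lit 16392, nat_lit 12307, nat_lit 8195, nat_lit 4]⟩⟩⟩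
def lhn15 : List AP := [⟨[nat_lit 175, nat_lit 219, nat_lit 216, nat_lit 171], [], (nat_lit 440), ⟨[nat_lit 0, nat_lit 27, nat_lit 56], [nat_lit 84, nat_lit 60], ⟨[nat_lit 0x625d34024185a8b7d4a324546136e7], [nat_lit 168960, nat_lit 164608, nat_lit 156224, nat_lit 152128, nat_lit 148048, nat_lit 144880, nat_lit 140492, nat_lit 135308, nat_lit 133200, nat_lit 1178, nat_lit 4328, nat_lit 8680, nat_lit 13712, nat_lit 16480, nat_lit 22144, nat_lit 25984, nat_lit 29440, nat_lit 41491, nat_lit 37888, nat_lit 33003, nat_lit 28929, nat_lit 24739, nat_lit 20510, nat_lit 16387, nat_lit 12295, nat_lit 4105, nat_lit 8]⟩⟩⟩,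
  ⟨[nat_lit 660], [], (nat_lit 339), ⟨[nat_lit 22, nat_lit 62], [nat_lit 0, nat_lit 4, nat_lit 61], ⟨[nat_lit 0x61232b066b2a12f55c70a55a6700e2], [nat_lit 168960, nat_lit 165632, nat_lit 161664, nat_lit 156032, nat_lit 153312, nat_lit 147888, nat_lit 145080, nat_lit 141140, nat_lit 138520, nat_lit 132458, nat_lit 1178, nat_lit 4100, nat_lit 8344, nat_lit 13088, nat_lit 18336, nat_lit 21824, nat_lit 26368, nat_lit 28928, nat_lit 33280, nat_lit 41639, nat_lit 38036, nat_lit 32862, nat_lit 28749, nat_lit 24600, nat_lit 21005, nat_lit 16398, nat_lit 12308, nat_lit 8211, nat_lit 4097, nat_lit 2]⟩⟩⟩,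
  ⟨[], [], (nat_lit 1034), ⟨[nat_lit 0, nat_lit 26, nat_lit 93], [nat_lit 0, nat_lit 83, nat_lit 89], ⟨[nat_lit 0x62430a00e22cef1339b55590492de3], [nat_lit 168448, nat_lit 165632, nat_lit 160128, nat_lit 157120, nat_lit 152992, nat_lit 147664, nat_lit 145008, nat_lit 141160, nat_lit 136466, nat_lit 133930, nat_lit 8, nat_lit 5296, nat_lit 10088, nat_lit 22272, nat_lit 29696, nat_lit 33792, nat_lit 41400, nat_lit 37190, nat_lit 33300, nat_lit 29745, nat_lit 24613, nat_lit 20556, nat_lit 16393, nat_lit 12289, nat_lit 8258, nat_lit 4100]⟩⟩⟩]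
theorem shn15 : Suf hnT 2048 (ldrop (lapp hnwi3 [1, 0, 1]) 15) (apW dcM phn14) (tgtN dcM phn14.e) := Suf.fin' (l := lhn15) (by decide +kernel)
def lhn14 : List AP := [⟨[nat_lit 214, nat_lit 212, nat_lit 212, nat_lit 178], [], (nat_lit 404), ⟨[nat_lit 0, nat_lit 72, nat_lit 90], [nat_lit 72, nat_lit 53], ⟨[nat_lit 0x72d01ba6077c642658756940625153], [nat_lit 175104, nat_lit 166912, nat_lit 162304, nat_lit 159104, nat_lit 152992, nat_lit 148240, nat_lit 144136, nat_lit 143288, nat_lit 139054, nat_lit 131180, nat_lit 1928, nat_lit 4280, nat_lit 9560, nat_lit 12448, nat_lit 17408, nat_lit 21504, nat_lit 25216, nat_lit 28928, nat_lit 33280, nat_lit 41894, nat_lit 37952, nat_lit 32885, nat_lit 29289, nat_lit 24593, nat_lit 20508, nat_lit 16426, nat_lit 12322, nat_lit 8194, nat_lit 4101]⟩⟩⟩,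
  ⟨[], [], (nat_lit 405), ⟨[nat_lit 72, nat_lit 90], [nat_lit 51], ⟨[nat_lit 0x72d01ba6077c642658756940625153], [nat_lit 175104, nat_lit 167168, nat_lit 162432, nat_lit 159104, nat_lit 152992, nat_lit 148240, nat_lit 144136, nat_lit 143292, nat_lit 139052, nat_lit 131180, nat_lit 1928, nat_lit 4280, nat_lit 9560, nat_lit 12448, nat_lit 17408, nat_lit 21504, nat_lit 25216, nat_lit 28928, nat_lit 33280, nat_lit 41894, nat_lit 37952, nat_lit 32885, nat_lit 29289, nat_lit 24593, nat_lit 20508, nat_lit 16426, nat_lit 12322, nat_lit 8194, nat_lit 4101]⟩⟩⟩]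
theorem shn14 : Suf hnT 2048 (ldrop (lapp hnwi3 [1, 0, 1]) 6) (apW dcM phn13) (tgtN dcM phn13.e) := Suf.seg (l := lhn14) (by decide +kernel) shn15
def lhn13 : List AP := [⟨[nat_lit 23, nat_lit 31, nat_lit 31, nat_lit 28, nat_lit 24, nat_lit 21], [], (nat_lit 338), ⟨[nat_lit 34, nat_lit 93], [nat_lit 0, nat_lit 84, nat_lit 67], ⟨[nat_lit 0xa9c3653a90bae4f0192828e332098d], [nat_lit 174080, nat_lit 169984, nat_lit 166912, nat_lit 163072, nat_lit 156736, nat_lit 154496, nat_lit 151296, nat_lit 145312, nat_lit 142164, nat_lit 136170, nat_lit 132294, nat_lit 1624, nat_lit 5768, nat_lit 8208, nat_lit 12944, nat_lit 18336, nat_lit 21632, nat_lit 25344, nat_lit 30208, nat_lit 33280, nat_lit 41116, nat_lit 37252, nat_lit 33440, nat_lit 29216, nat_lit 24612, nat_lit 20545, nat_lit 16395, nat_lit 12311, nat_lit 8200]⟩⟩⟩,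
  ⟨[nat_lit 177, nat_lit 663, nat_lit 217, nat_lit 170], [], (nat_lit 440), ⟨[nat_lit 0, nat_lit 31], [nat_lit 86, nat_lit 57], ⟨[nat_lit 0x24ea9642422c68b029e8199a70baf6], [nat_lit 173056, nat_lit 168448, nat_lit 165376, nat_lit 159872, nat_lit 158080, nat_lit 152608, nat_lit 148496, nat_lit 143744, nat_lit 140300, nat_lit 136986, nat_lit 132098, nat_lit 760, nat_lit 5772, nat_lit 10224, nat_lit 12592, nat_lit 16768, nat_lit 21376, nat_lit 25728, nat_lit 29184, nat_lit 34304, nat_lit 37888, nat_lit 41664, nat_lit 37056, nat_lit 32960, nat_lit 29029, nat_lit 24884, nat_lit 20506, nat_lit 16395, nat_lit 12294, nat_lit 4105]⟩⟩⟩]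
theorem hnci3_3 : Suf hnT 2048 (lapp hnwi3 [1, 0, 1]) (apW dcM q1) (tgtN dcM q1.e) := Suf.seg (l := lhn13) (by decide +kernel) shn14

def phn16 : AP := ⟨[nat_lit 266], [], (nat_lit 494), ⟨[nat_lit 0, nat_lit 9, nat_lit 69], [nat_lit 33, nat_lit 64], ⟨[nat_lit 0xadd81395c0a416489aca409e994c6d], [nat_lit 173056, nat_lit 168960, nat_lit 164096, nat_lit 163072, nat_lit 155712, nat_lit 153504, nat_lit 148944, nat_lit 139468, nat_lit 136498, nat_lit 131744, nat_lit 364, nat_lit 4904, nat_lit 9952, nat_lit 17312, nat_lit 21376, nat_lit 25344, nat_lit 30464, nat_lit 34304, nat_lit 41956, nat_lit 37364, nat_lit 32919, nat_lit 29055, nat_lit 24741, nat_lit 20490, nat_lit 16649, nat_lit 12310, nat_lit 8209, nat_lit 4101]⟩⟩⟩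
def phn17 : AP := ⟨[nat_lit 102], [], (nat_lit 196), ⟨[nat_lit 0, nat_lit 17, nat_lit 70], [nat_lit 73], ⟨[nat_lit 0x112ca930a66cd2babef00c5c3450e0], [nat_lit 173056, nat_lit 168960, nat_lit 167680, nat_lit 160896, nat_lit 155904, nat_lit 155200, nat_lit 149792, nat_lit 145496, nat_lit 142056, nat_lit 137282, nat_lit 132730, nat_lit 318, nat_lit 5276, nat_lit 9736, nat_lit 12544, nat_lit 16800, nat_lit 21504, nat_lit 25600, nat_lit 33792, nat_lit 41890, nat_lit 38016, nat_lit 32994, nat_lit 28734, nat_lit 24832, nat_lit 20549, nat_lit 16516, nat_lit 12304, nat_lit 8225, nat_lit 4097]⟩⟩⟩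
def lhn18 : List AP := [⟨[nat_lit 14, nat_lit 43], [], (nat_lit 1032), ⟨[nat_lit 74, nat_lit 59], [nat_lit 78, nat_lit 54], ⟨[nat_lit 0x942740a986408ee5b4644bca0bd636], [nat_lit 174080, nat_lit 170496, nat_lit 166656, nat_lit 160512, nat_lit 156800, nat_lit 152064, nat_lit 149952, nat_lit 144824, nat_lit 140140, nat_lit 138242, nat_lit 134466, nat_lit 184, nat_lit 5544, nat_lit 10040, nat_lit 13120, nat_lit 16864, nat_lit 20992, nat_lit 26496, nat_lit 29184, nat_lit 37888, nat_lit 41003, nat_lit 37229, nat_lit 33310, nat_lit 28675, nat_lit 24880, nat_lit 20483, nat_lit 16394, nat_lit 12308, nat_lit 8202, nat_lit 4097, nat_lit 2]⟩⟩⟩]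
theorem shn18 : Suf hnT 19005990 (ldrop (lapp hnwr0 [1, 0, 1]) 17) (apW dcM phn17) (tgtN dcM phn17.e) := Suf.fin' (l := lhn18) (by decide +kernel)
def lhn17 : List AP := [⟨[nat_lit 639, nat_lit 54, nat_lit 49, nat_lit 70], [], (nat_lit 442), ⟨[nat_lit 0, nat_lit 24, nat_lit 59], [nat_lit 33, nat_lit 52], ⟨[nat_lit 0xba1391575bd00d53d223591160c87], [nat_lit 173056, nat_lit 168960, nat_lit 164096, nat_lit 163456, nat_lit 157248, nat_lit 152032, nat_lit 147936, nat_lit 144888, nat_lit 139960, nat_lit 137004, nat_lit 132833, nat_lit 1054, nat_lit 4396, nat_lit 8944, nat_lit 12304, nat_lit 17472, nat_lit 21632, nat_lit 25728, nat_lit 28928, nat_lit 33280, nat_lit 41691, nat_lit 37254, nat_lit 32948, nat_lit 24605, nat_lit 20741, nat_lit 16417, nat_lit 12359, nat_lit 8257, nat_lit 4104]⟩⟩⟩,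
  ⟨[nat_lit 263, nat_lit 222], [], (nat_lit 1094), ⟨[nat_lit 0, nat_lit 1, nat_lit 63], [nat_lit 0, nat_lit 19, nat_lit 59], ⟨[nat_lit 0x9b98b4c2963a0b12540d18952b982f], [nat_lit 173056, nat_lit 168960, nat_lit 164608, nat_lit 160640, nat_lit 158080, nat_lit 152096, nat_lit 149120, nat_lit 145216, nat_lit 140028, nat_lit 136530, nat_lit 132018, nat_lit 796, nat_lit 4160, nat_lit 9632, nat_lit 14112, nat_lit 17568, nat_lit 25600, nat_lit 30208, nat_lit 41956, nat_lit 38276, nat_lit 34037, nat_lit 28687, nat_lit 24581, nat_lit 21018, nat_lit 16426, nat_lit 12289, nat_lit 8257, nat_lit 8]⟩⟩⟩]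
theorem shn17 : Suf hnT 19005990 (ldrop (lapp hnwr0 [1, 0, 1]) 8) (apW dcM phn16) (tgtN dcM phn16.e) := Suf.seg (l := lhn17) (by decide +kernel) shn18
def lhn16 : List AP := [⟨[nat_lit 39, nat_lit 633, nat_lit 42, nat_lit 629, nat_lit 15, nat_lit 15], [], (nat_lit 150), ⟨[nat_lit 0, nat_lit 16, nat_lit 61], [nat_lit 45, nat_lit 52], ⟨[nat_lit 0x6807074486b3ef23d42b4aa6ca1448], [nat_lit 171520, nat_lit 159872, nat_lit 156736, nat_lit 151904, nat_lit 147872, nat_lit 145320, nat_lit 139480, nat_lit 135600, nat_lit 131205, nat_lit 846, nat_lit 4408, nat_lit 8320, nat_lit 13552, nat_lit 16512, nat_lit 21120, nat_lit 25600, nat_lit 28928, nat_lit 33792, nat_lit 37888, nat_lit 41389, nat_lit 37264, nat_lit 33522, nat_lit 29201, nat_lit 24866, nat_lit 20738, nat_lit 16902, nat_lit 13317, nat_lit 8210, nat_lit 4112, nat_lit 128]⟩⟩⟩,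
  ⟨[nat_lit 104, nat_lit 77, nat_lit 644, nat_lit 83], [], (nat_lit 468), ⟨[nat_lit 15, nat_lit 63], [nat_lit 88, nat_lit 66], ⟨[nat_lit 0xb998b90e9641ead01491809499b82f], [nat_lit 173056, nat_lit 168960, nat_lit 164096, nat_lit 160256, nat_lit 157440, nat_lit 151712, nat_lit 147616, nat_lit 145808, nat_lit 139312, nat_lit 136878, nat_lit 132931, nat_lit 1318, nat_lit 4104, nat_lit 10168, nat_lit 13584, nat_lit 16480, nat_lit 22208, nat_lit 26240, nat_lit 29952, nat_lit 33792, nat_lit 37888, nat_lit 41300, nat_lit 37080, nat_lit 34028, nat_lit 28677, nat_lit 24615, nat_lit 20557, nat_lit 16646, nat_lit 12311, nat_lit 8]⟩⟩⟩]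
theorem hncr0_0 : Suf hnT 19005990 (lapp hnwr0 [1, 0, 1]) (apW dcM q0) (tgtN dcM q0.e) := Suf.seg (l := lhn16) (by decide +kernel) shn17

def phn19 : AP := ⟨[nat_lit 668], [], (nat_lit 1094), ⟨[nat_lit 0, nat_lit 29, nat_lit 52], [nat_lit 0, nat_lit 42, nat_lit 67], ⟨[nat_lit 0x34e810204f3952e8dc83ad96d8494c], [nat_lit 169472, nat_lit 165888, nat_lit 161664, nat_lit 157248, nat_lit 152192, nat_lit 148528, nat_lit 143608, nat_lit 141180, nat_lit 135722, nat_lit 131795, nat_lit 1580, nat_lit 4156, nat_lit 8248, nat_lit 14112, nat_lit 17184, nat_lit 22272, nat_lit 24832, nat_lit 30464, nat_lit 41357, nat_lit 36924, nat_lit 32808, nat_lit 28766, nat_lit 24584, nat_lit 20750, nat_lit 16527, nat_lit 12352, nat_lit 8226, nat_lit 4097, nat_lit 2]⟩⟩⟩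
def phn20 : AP := ⟨[nat_lit 54], [], (nat_lit 122), ⟨[nat_lit 0, nat_lit 37, nat_lit 92], [nat_lit 2, nat_lit 61], ⟨[nat_lit 0x3bd32bc0512987624dcb0d10a636a0], [nat_lit 164352, nat_lit 161536, nat_lit 159360, nat_lit 153472, nat_lit 148304, nat_lit 144808, nat_lit 140436, nat_lit 135724, nat_lit 131358, nat_lit 64, nat_lit 5856, nat_lit 8680, nat_lit 13056, nat_lit 16864, nat_lit 21184, nat_lit 25088, nat_lit 29696, nat_lit 33280, nat_lit 41632, nat_lit 36972, nat_lit 32922, nat_lit 29018, nat_lit 21004, nat_lit 16387, nat_lit 12548, nat_lit 8193, nat_lit 4097]⟩⟩⟩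
def lhn21 : List AP := [⟨[nat_lit 15, nat_lit 39], [], (nat_lit 1032), ⟨[nat_lit 0, nat_lit 18, nat_lit 94], [nat_lit 0, nat_lit 38, nat_lit 53], ⟨[nat_lit 0x2da61635ca850825a5e804ae61d627], [nat_lit 173056, nat_lit 166400, nat_lit 161920, nat_lit 158080, nat_lit 154240, nat_lit 147696, nat_lit 146240, nat_lit 141352, nat_lit 135364, nat_lit 134834, nat_lit 1694, nat_lit 5488, nat_lit 8824, nat_lit 12800, nat_lit 16736, nat_lit 20672, nat_lit 25856, nat_lit 30208, nat_lit 33280, nat_lit 37888, nat_lit 41475, nat_lit 37071, nat_lit 32771, nat_lit 29303, nat_lit 25113, nat_lit 20617, nat_lit 16418, nat_lit 12291, nat_lit 8194, nat_lit 4097, nat_lit 2]⟩⟩⟩]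
theorem shn21 : Suf hnT 19005990 (ldrop (lapp hnwr0 [2, 0, 1]) 17) (apW dcM phn20) (tgtN dcM phn20.e) := Suf.fin' (l := lhn21) (by decide +kernel)
def lhn20 : List AP := [⟨[nat_lit 645, nat_lit 107, nat_lit 644, nat_lit 80, nat_lit 76], [], (nat_lit 468), ⟨[nat_lit 3, nat_lit 60], [nat_lit 0, nat_lit 78, nat_lit 47], ⟨[nat_lit 0x1a2c28cd74224b503a466b1573c02f], [nat_lit 169984, nat_lit 165120, nat_lit 160000, nat_lit 158464, nat_lit 152160, nat_lit 148912, nat_lit 146928, nat_lit 143084, nat_lit 138914, nat_lit 134710, nat_lit 1318, nat_lit 5992, nat_lit 8256, nat_lit 12784, nat_lit 16704, nat_lit 20544, nat_lit 25600, nat_lit 29696, nat_lit 33280, nat_lit 37888, nat_lit 41103, nat_lit 36971, nat_lit 32985, nat_lit 28716, nat_lit 24864, nat_lit 20548, nat_lit 16386, nat_lit 12325, nat_lit 8224, nat_lit 4097]⟩⟩⟩,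
  ⟨[nat_lit 262], [], (nat_lit 443), ⟨[nat_lit 0, nat_lit 11, nat_lit 62], [nat_lit 30, nat_lit 59], ⟨[nat_lit 0x48c908be76688372b0d4020f253975], [nat_lit 175104, nat_lit 170496, nat_lit 165888, nat_lit 161664, nat_lit 159104, nat_lit 155616, nat_lit 149280, nat_lit 146384, nat_lit 140864, nat_lit 135294, nat_lit 132773, nat_lit 394, nat_lit 5296, nat_lit 8408, nat_lit 13968, nat_lit 16864, nat_lit 21184, nat_lit 26496, nat_lit 30464, nat_lit 33792, nat_lit 41240, nat_lit 37013, nat_lit 32888, nat_lit 28773, nat_lit 24766, nat_lit 20637, nat_lit 16392, nat_lit 12305]⟩⟩⟩]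
theorem shn20 : Suf hnT 19005990 (ldrop (lapp hnwr0 [2, 0, 1]) 8) (apW dcM phn19) (tgtN dcM phn19.e) := Suf.seg (l := lhn20) (by decide +kernel) shn21
def lhn19 : List AP := [⟨[nat_lit 36, nat_lit 16, nat_lit 40, nat_lit 36, nat_lit 14], [], (nat_lit 197), ⟨[nat_lit 43, nat_lit 69], [nat_lit 0, nat_lit 77, nat_lit 89], ⟨[nat_lit 0xb2b0592973392d2a862981f694507], [nat_lit 168448, nat_lit 165120, nat_lit 160896, nat_lit 156352, nat_lit 153504, nat_lit 149536, nat_lit 143472, nat_lit 140612, nat_lit 135170, nat_lit 132377, nat_lit 1166, nat_lit 5940, nat_lit 9672, nat_lit 14176, nat_lit 16640, nat_lit 21184, nat_lit 25088, nat_lit 33280, nat_lit 41675, nat_lit 37360, nat_lit 32892, nat_lit 29288, nat_lit 24875, nat_lit 20748, nat_lit 16387, nat_lit 12416, nat_lit 8259, nat_lit 4113]⟩⟩⟩,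
  ⟨[nat_lit 106, nat_lit 76, nat_lit 86, nat_lit 102], [], (nat_lit 468), ⟨[nat_lit 0, nat_lit 36, nat_lit 50], [nat_lit 0, nat_lit 21, nat_lit 94], ⟨[nat_lit 0x8ddea38e9634e006caa8485642b982], [nat_lit 173056, nat_lit 168448, nat_lit 164864, nat_lit 160128, nat_lit 155712, nat_lit 153088, nat_lit 148928, nat_lit 146080, nat_lit 139924, nat_lit 135950, nat_lit 131078, nat_lit 1814, nat_lit 4404, nat_lit 10168, nat_lit 12416, nat_lit 16512, nat_lit 22272, nat_lit 24832, nat_lit 29952, nat_lit 34304, nat_lit 41350, nat_lit 37032, nat_lit 33806, nat_lit 29014, nat_lit 24717, nat_lit 20501, nat_lit 16392, nat_lit 32]⟩⟩⟩]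
theorem hncr0_1 : Suf hnT 19005990 (lapp hnwr0 [2, 0, 1]) (iC2 :: apW dcM q0) (tgtN dcM q0.e) := Suf.seg (l := lhn19) (by decide +kernel) shn20

def phn22 : AP := ⟨[nat_lit 76, nat_lit 106, nat_lit 79], [], (nat_lit 180), ⟨[nat_lit 21, nat_lit 47], [nat_lit 31, nat_lit 89], ⟨[nat_lit 0x411953a68e58a2a998a11bdb004af6], [nat_lit 175104, nat_lit 166912, nat_lit 163200, nat_lit 158848, nat_lit 152064, nat_lit 148960, nat_lit 144232, nat_lit 142920, nat_lit 137824, nat_lit 132654, nat_lit 1918, nat_lit 4872, nat_lit 9928, nat_lit 12976, nat_lit 18176, nat_lit 22336, nat_lit 25472, nat_lit 29440, nat_lit 33792, nat_lit 41310, nat_lit 37350, nat_lit 33434, nat_lit 28781, nat_lit 24586, nat_lit 20638, nat_lit 16421, nat_lit 12289, nat_lit 8194, nat_lit 4101]⟩⟩⟩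
def phn23 : AP := ⟨[], [], (nat_lit 196), ⟨[nat_lit 85, nat_lit 48], [nat_lit 7, nat_lit 47], ⟨[nat_lit 0x18246ade27a25a140ace540ab63e64], [nat_lit 174080, nat_lit 168960, nat_lit 164608, nat_lit 160256, nat_lit 158400, nat_lit 155584, nat_lit 151104, nat_lit 143640, nat_lit 141520, nat_lit 136486, nat_lit 134961, nat_lit 1124, nat_lit 5688, nat_lit 8296, nat_lit 14192, nat_lit 17888, nat_lit 20928, nat_lit 25216, nat_lit 29696, nat_lit 33280, nat_lit 37888, nat_lit 41713, nat_lit 36913, nat_lit 32989, nat_lit 28721, nat_lit 24626, nat_lit 20497, nat_lit 16387, nat_lit 12295, nat_lit 8202]⟩⟩⟩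
def lhn24 : List AP := [⟨[nat_lit 16, nat_lit 39], [], (nat_lit 1032), ⟨[nat_lit 25, nat_lit 89], [nat_lit 44, nat_lit 58], ⟨[nat_lit 0x9367163dd038975ba4043287640685], [nat_lit 174080, nat_lit 169984, nat_lit 166656, nat_lit 158400, nat_lit 154912, nat_lit 149328, nat_lit 145480, nat_lit 141164, nat_lit 135790, nat_lit 133035, nat_lit 568, nat_lit 4128, nat_lit 10128, nat_lit 13920, nat_lit 16512, nat_lit 21568, nat_lit 24832, nat_lit 29184, nat_lit 33280, nat_lit 41507, nat_lit 37967, nat_lit 32920, nat_lit 28984, nat_lit 24584, nat_lit 20616, nat_lit 16641, nat_lit 8706, nat_lit 4100, nat_lit 16]⟩⟩⟩]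
theorem shn24 : Suf hnT 19005990 (ldrop (lapp hnwr0 [3, 0, 1]) 17) (apW dcM phn23) (tgtN dcM phn23.e) := Suf.fin' (l := lhn24) (by decide +kernel)
def lhn23 : List AP := [⟨[nat_lit 73, nat_lit 51, nat_lit 69, nat_lit 46], [], (nat_lit 130), ⟨[nat_lit 0, nat_lit 32, nat_lit 62], [nat_lit 0, nat_lit 15, nat_lit 66], ⟨[nat_lit 0xb6f503cc464a635384b858a84c4f4], [nat_lit 175104, nat_lit 171008, nat_lit 167680, nat_lit 159872, nat_lit 158912, nat_lit 154432, nat_lit 148576, nat_lit 146656, nat_lit 141148, nat_lit 135862, nat_lit 132072, nat_lit 1214, nat_lit 5604, nat_lit 8280, nat_lit 14144, nat_lit 16640, nat_lit 20992, nat_lit 25856, nat_lit 29184, nat_lit 33280, nat_lit 37888, nat_lit 41163, nat_lit 36904, nat_lit 32846, nat_lit 28712, nat_lit 24886, nat_lit 20493, nat_lit 16448, nat_lit 12290, nat_lit 8225, nat_lit 4105, nat_lit 2]⟩⟩⟩,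
  ⟨[nat_lit 67, nat_lit 71], [], (nat_lit 183), ⟨[nat_lit 0, nat_lit 73, nat_lit 57], [nat_lit 0, nat_lit 18, nat_lit 90], ⟨[nat_lit 0x5e04a0a465a9a87b9890c4f61d4b3], [nat_lit 173056, nat_lit 169472, nat_lit 164608, nat_lit 159872, nat_lit 156416, nat_lit 153088, nat_lit 148528, nat_lit 145224, nat_lit 142544, nat_lit 135596, nat_lit 131592, nat_lit 586, nat_lit 4208, nat_lit 9384, nat_lit 12416, nat_lit 16512, nat_lit 21632, nat_lit 25216, nat_lit 29696, nat_lit 33792, nat_lit 41644, nat_lit 37888, nat_lit 32946, nat_lit 28753, nat_lit 24765, nat_lit 20508, nat_lit 16419, nat_lit 12307, nat_lit 8193, nat_lit 4113]⟩⟩⟩]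
theorem shn23 : Suf hnT 19005990 (ldrop (lapp hnwr0 [3, 0, 1]) 8) (apW dcM phn22) (tgtN dcM phn22.e) := Suf.seg (l := lhn23) (by decide +kernel) shn24
def lhn22 : List AP := [⟨[nat_lit 17, nat_lit 40, nat_lit 38, nat_lit 632, nat_lit 631, nat_lit 40], [], (nat_lit 150), ⟨[nat_lit 80, nat_lit 61], [nat_lit 23, nat_lit 68], ⟨[nat_lit 0xad15265ce2780d69b9a92c08888c2b], [nat_lit 175104, nat_lit 169472, nat_lit 164608, nat_lit 160512, nat_lit 157888, nat_lit 153856, nat_lit 150080, nat_lit 145320, nat_lit 142828, nat_lit 137004, nat_lit 134322, nat_lit 1966, nat_lit 4104, nat_lit 8200, nat_lit 12800, nat_lit 17088, nat_lit 20928, nat_lit 24704, nat_lit 29184, nat_lit 33792, nat_lit 41939, nat_lit 38129, nat_lit 33399, nat_lit 29712, nat_lit 24732, nat_lit 21009, nat_lit 16387, nat_lit 12356, nat_lit 8256, nat_lit 4100]⟩⟩⟩,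
  ⟨[nat_lit 77, nat_lit 85], [], (nat_lit 194), ⟨[nat_lit 26, nat_lit 54], [nat_lit 76, nat_lit 91], ⟨[nat_lit 0xacd0f9518b814511dae60b5c70112a], [nat_lit 173056, nat_lit 168448, nat_lit 164352, nat_lit 159872, nat_lit 156608, nat_lit 153600, nat_lit 145352, nat_lit 139912, nat_lit 136850, nat_lit 132601, nat_lit 1842, nat_lit 5604, nat_lit 8896, nat_lit 12656, nat_lit 16416, nat_lit 21376, nat_lit 24704, nat_lit 28928, nat_lit 34304, nat_lit 41835, nat_lit 38369, nat_lit 33995, nat_lit 29012, nat_lit 24730, nat_lit 20566, nat_lit 16397, nat_lit 12306, nat_lit 8203]⟩⟩⟩]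
theorem hncr0_2 : Suf hnT 19005990 (lapp hnwr0 [3, 0, 1]) (iC3 :: apW dcM q0) (tgtN dcM q0.e) := Suf.seg (l := lhn22) (by decide +kernel) shn23

def phn25 : AP := ⟨[nat_lit 177], [], (nat_lit 390), ⟨[nat_lit 25, nat_lit 60], [nat_lit 10, nat_lit 54], ⟨[nat_lit 0x41e935462b28eb63ae40a1b12d272], [nat_lit 174080, nat_lit 169984, nat_lit 163072, nat_lit 158336, nat_lit 154976, nat_lit 149216, nat_lit 140204, nat_lit 137232, nat_lit 134969, nat_lit 1762, nat_lit 4456, nat_lit 9352, nat_lit 13312, nat_lit 16896, nat_lit 26112, nat_lit 33280, nat_lit 37888, nat_lit 41729, nat_lit 38152, nat_lit 33808, nat_lit 28782, nat_lit 24739, nat_lit 20487, nat_lit 16640, nat_lit 12356, nat_lit 8226, nat_lit 4129]⟩⟩⟩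
def phn26 : AP := ⟨[nat_lit 177], [], (nat_lit 390), ⟨[nat_lit 0, nat_lit 15, nat_lit 93], [nat_lit 0, nat_lit 20, nat_lit 46], ⟨[nat_lit 0x645afa1c480aea50115630d3783a72], [nat_lit 175104, nat_lit 169472, nat_lit 165120, nat_lit 163584, nat_lit 156672, nat_lit 152736, nat_lit 149680, nat_lit 146504, nat_lit 142340, nat_lit 137556, nat_lit 134737, nat_lit 1182, nat_lit 5688, nat_lit 10160, nat_lit 14112, nat_lit 18112, nat_lit 21248, nat_lit 24832, nat_lit 28928, nat_lit 41001, nat_lit 37237, nat_lit 32910, nat_lit 29025, nat_lit 24750, nat_lit 20614, nat_lit 16386, nat_lit 12320, nat_lit 8193, nat_lit 4112]⟩⟩⟩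
def lhn27 : List AP := [⟨[], [], (nat_lit 1034), ⟨[nat_lit 0, nat_lit 77, nat_lit 61], [nat_lit 0, nat_lit 38, nat_lit 63], ⟨[nat_lit 0x204554020e9ade3636c7526868cae5], [nat_lit 173056, nat_lit 169472, nat_lit 165632, nat_lit 161024, nat_lit 156544, nat_lit 152320, nat_lit 148160, nat_lit 143488, nat_lit 140964, nat_lit 136002, nat_lit 133403, nat_lit 128, nat_lit 4756, nat_lit 9456, nat_lit 13440, nat_lit 17216, nat_lit 25472, nat_lit 41107, nat_lit 37185, nat_lit 33483, nat_lit 28705, nat_lit 24581, nat_lit 20615, nat_lit 17410, nat_lit 12547, nat_lit 8227, nat_lit 4128]⟩⟩⟩]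
theorem shn27 : Suf hnT 2048 (ldrop (lapp hnwr0 [1, 0, 1]) 17) (apW dcM phn26) (tgtN dcM phn26.e) := Suf.fin' (l := lhn27) (by decide +kernel)
def lhn26 : List AP := [⟨[nat_lit 21, nat_lit 27, nat_lit 30, nat_lit 26, nat_lit 634, nat_lit 31], [], (nat_lit 338), ⟨[nat_lit 30, nat_lit 90], [nat_lit 12, nat_lit 60], ⟨[nat_lit 0x11a4a846ae258ac185f7480f3a3568], [nat_lit 171008, nat_lit 164864, nat_lit 160000, nat_lit 157376, nat_lit 152960, nat_lit 147600, nat_lit 143392, nat_lit 140256, nat_lit 135536, nat_lit 131566, nat_lit 236, nat_lit 4568, nat_lit 10016, nat_lit 13136, nat_lit 16544, nat_lit 20736, nat_lit 26368, nat_lit 28928, nat_lit 33280, nat_lit 37888, nat_lit 41277, nat_lit 37207, nat_lit 32969, nat_lit 28946, nat_lit 24751, nat_lit 20563, nat_lit 16463, nat_lit 12307, nat_lit 8226, nat_lit 4]⟩⟩⟩,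
  ⟨[nat_lit 181, nat_lit 660, nat_lit 215], [], (nat_lit 440), ⟨[nat_lit 0, nat_lit 9, nat_lit 46], [nat_lit 78, nat_lit 67], ⟨[nat_lit 0x65cf1696d202928acde4750d01ac22], [nat_lit 164096, nat_lit 161792, nat_lit 155840, nat_lit 152064, nat_lit 148000, nat_lit 144448, nat_lit 139268, nat_lit 135218, nat_lit 131930, nat_lit 700, nat_lit 4224, nat_lit 9048, nat_lit 12416, nat_lit 16448, nat_lit 20992, nat_lit 29696, nat_lit 34304, nat_lit 41632, nat_lit 38333, nat_lit 33485, nat_lit 24848, nat_lit 21504, nat_lit 16640, nat_lit 8707, nat_lit 512]⟩⟩⟩]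
theorem shn26 : Suf hnT 2048 (ldrop (lapp hnwr0 [1, 0, 1]) 8) (apW dcM phn25) (tgtN dcM phn25.e) := Suf.seg (l := lhn26) (by decide +kernel) shn27
def lhn25 : List AP := [⟨[nat_lit 638, nat_lit 21, nat_lit 634, nat_lit 638, nat_lit 22, nat_lit 21], [], (nat_lit 338), ⟨[nat_lit 0, nat_lit 87, nat_lit 46], [nat_lit 0, nat_lit 27, nat_lit 55], ⟨[nat_lit 0xb4e4c71aa7101b47dd495c42428e08], [nat_lit 174080, nat_lit 169472, nat_lit 164864, nat_lit 160256, nat_lit 156288, nat_lit 152096, nat_lit 148992, nat_lit 144264, nat_lit 140892, nat_lit 136540, nat_lit 131264, nat_lit 1438, nat_lit 4476, nat_lit 8560, nat_lit 12416, nat_lit 17408, nat_lit 20544, nat_lit 24832, nat_lit 29696, nat_lit 33792, nat_lit 41472, nat_lit 37005, nat_lit 32890, nat_lit 28686, nat_lit 24891, nat_lit 20760, nat_lit 12422, nat_lit 8322, nat_lit 4128, nat_lit 64]⟩⟩⟩,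
  ⟨[nat_lit 660, nat_lit 219, nat_lit 179, nat_lit 170], [], (nat_lit 440), ⟨[nat_lit 30, nat_lit 89], [nat_lit 0, nat_lit 86, nat_lit 92], ⟨[nat_lit 0x242265aa96aa2e96b8609c8e57b022], [nat_lit 175104, nat_lit 170496, nat_lit 166912, nat_lit 160640, nat_lit 155712, nat_lit 153120, nat_lit 150000, nat_lit 145304, nat_lit 140984, nat_lit 139050, nat_lit 133888, nat_lit 1814, nat_lit 4100, nat_lit 8504, nat_lit 14304, nat_lit 17984, nat_lit 20544, nat_lit 25216, nat_lit 29696, nat_lit 33280, nat_lit 41117, nat_lit 36989, nat_lit 32846, nat_lit 28724, nat_lit 24598, nat_lit 20617, nat_lit 16397, nat_lit 12304, nat_lit 8195, nat_lit 4097]⟩⟩⟩]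
theorem hncr0_3 : Suf hnT 2048 (lapp hnwr0 [1, 0, 1]) (apW dcM q1) (tgtN dcM q1.e) := Suf.seg (l := lhn25) (by decide +kernel) shn26

def lhn28 : List AP := [⟨[nat_lit 629, nat_lit 631, nat_lit 43, nat_lit 15, nat_lit 40], [], (nat_lit 197), ⟨[nat_lit 40, nat_lit 57], [nat_lit 0, nat_lit 87, nat_lit 51], ⟨[nat_lit 0x41cac902865ce2eb2aaf1b429812e2], [nat_lit 165120, nat_lit 160896, nat_lit 155712, nat_lit 151616, nat_lit 148720, nat_lit 143464, nat_lit 139472, nat_lit 136224, nat_lit 135118, nat_lit 4, nat_lit 4532, nat_lit 8208, nat_lit 12480, nat_lit 17440, nat_lit 21568, nat_lit 25600, nat_lit 29952, nat_lit 33280, nat_lit 41756, nat_lit 38153, nat_lit 33921, nat_lit 28691, nat_lit 24629, nat_lit 20511, nat_lit 16424, nat_lit 12322, nat_lit 8193, nat_lit 4113]⟩⟩⟩,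
  ⟨[], [], (nat_lit 196), ⟨[nat_lit 40, nat_lit 57], [nat_lit 12, nat_lit 55], ⟨[nat_lit 0x41cac902865ce2eb2aaf1b429812e2], [nat_lit 173056, nat_lit 165120, nat_lit 160768, nat_lit 155712, nat_lit 151648, nat_lit 148720, nat_lit 143464, nat_lit 139472, nat_lit 136226, nat_lit 135119, nat_lit 4, nat_lit 4532, nat_lit 8208, nat_lit 12480, nat_lit 17440, nat_lit 21568, nat_lit 25600, nat_lit 29952, nat_lit 33280, nat_lit 41756, nat_lit 38153, nat_lit 33921, nat_lit 28691, nat_lit 24629, nat_lit 20511, nat_lit 16424, nat_lit 12322, nat_lit 8193, nat_lit 4113]⟩⟩⟩,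
  ⟨[nat_lit 632, nat_lit 37, nat_lit 36], [], (nat_lit 1032), ⟨[nat_lit 39, nat_lit 70], [nat_lit 0, nat_lit 8, nat_lit 56], ⟨[nat_lit 0x6c83162849450b3190ef81aebb55c0], [nat_lit 174080, nat_lit 171008, nat_lit 166656, nat_lit 159872, nat_lit 155712, nat_lit 153344, nat_lit 150832, nat_lit 144544, nat_lit 139624, nat_lit 137728, nat_lit 134873, nat_lit 1972, nat_lit 5904, nat_lit 8840, nat_lit 12976, nat_lit 16864, nat_lit 20672, nat_lit 24960, nat_lit 29952, nat_lit 34304, nat_lit 41615, nat_lit 37075, nat_lit 33015, nat_lit 28750, nat_lit 24751, nat_lit 20558, nat_lit 16389, nat_lit 12290, nat_lit 8209, nat_lit 4097, nat_lit 2]⟩⟩⟩]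
theorem hncr1_0 : Suf hnT 19005990 (lapp hnwr1 [1, 0, 1]) (apW dcM q0) (tgtN dcM q0.e) := Suf.fin' (l := lhn28) (by decide +kernel)

def lhn29 : List AP := [⟨[nat_lit 40, nat_lit 14, nat_lit 37, nat_lit 16, nat_lit 15], [], (nat_lit 90), ⟨[nat_lit 76, nat_lit 50], [nat_lit 37, nat_lit 92], ⟨[nat_lit 0x5c182b992a43433950b12580379dd5], [nat_lit 174080, nat_lit 168960, nat_lit 165632, nat_lit 160384, nat_lit 156864, nat_lit 153152, nat_lit 148320, nat_lit 145032, nat_lit 141292, nat_lit 136812, nat_lit 131993, nat_lit 738, nat_lit 5460, nat_lit 8824, nat_lit 13152, nat_lit 16992, nat_lit 22336, nat_lit 26112, nat_lit 29440, nat_lit 34304, nat_lit 41751, nat_lit 37042, nat_lit 33815, nat_lit 28783, nat_lit 24766, nat_lit 20508, nat_lit 16420, nat_lit 8193, nat_lit 4225]⟩⟩⟩,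
  ⟨[], [], (nat_lit 91), ⟨[nat_lit 76, nat_lit 50], [nat_lit 38, nat_lit 67], ⟨[nat_lit 0x5c182b992a43433950b12580379dd5], [nat_lit 174080, nat_lit 169472, nat_lit 165632, nat_lit 160384, nat_lit 156864, nat_lit 153184, nat_lit 148320, nat_lit 145024, nat_lit 141288, nat_lit 136814, nat_lit 131992, nat_lit 738, nat_lit 5460, nat_lit 8824, nat_lit 13152, nat_lit 16992, nat_lit 22336, nat_lit 26112, nat_lit 29440, nat_lit 34304, nat_lit 41751, nat_lit 37042, nat_lit 33815, nat_lit 28783, nat_lit 24766, nat_lit 20508, nat_lit 16420, nat_lit 8193, nat_lit 4225]⟩⟩⟩,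
  ⟨[nat_lit 15, nat_lit 629], [], (nat_lit 1032), ⟨[nat_lit 78, nat_lit 55], [nat_lit 0, nat_lit 73, nat_lit 54], ⟨[nat_lit 0xbaa8c9ae2d908f5790c8800b6185c9], [nat_lit 171520, nat_lit 165888, nat_lit 161792, nat_lit 158656, nat_lit 152928, nat_lit 150800, nat_lit 146320, nat_lit 140640, nat_lit 138346, nat_lit 132568, nat_lit 1918, nat_lit 5228, nat_lit 9312, nat_lit 13264, nat_lit 18208, nat_lit 22272, nat_lit 25984, nat_lit 30208, nat_lit 34304, nat_lit 37888, nat_lit 41797, nat_lit 38195, nat_lit 32886, nat_lit 28790, nat_lit 24719, nat_lit 20573, nat_lit 16452, nat_lit 12294, nat_lit 8202, nat_lit 16]⟩⟩⟩]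
theorem hncr1_1 : Suf hnT 19005990 (lapp hnwr1 [2, 0, 1]) (iC2 :: apW dcM q0) (tgtN dcM q0.e) := Suf.fin' (l := lhn29) (by decide +kernel)

def lhn30 : List AP := [⟨[nat_lit 36, nat_lit 14, nat_lit 633, nat_lit 633, nat_lit 17, nat_lit 15], [], (nat_lit 150), ⟨[nat_lit 13, nat_lit 92], [nat_lit 44, nat_lit 66], ⟨[nat_lit 0x5b645186c234d2c8a88ebd4147a207], [nat_lit 168960, nat_lit 164096, nat_lit 160384, nat_lit 156416, nat_lit 151648, nat_lit 148208, nat_lit 143432, nat_lit 140204, nat_lit 137544, nat_lit 132777, nat_lit 1180, nat_lit 4160, nat_lit 8448, nat_lit 14112, nat_lit 17024, nat_lit 20608, nat_lit 24832, nat_lit 28928, nat_lit 33280, nat_lit 41693, nat_lit 38202, nat_lit 33297, nat_lit 28799, nat_lit 24582, nat_lit 20637, nat_lit 16525, nat_lit 12290, nat_lit 8256]⟩⟩⟩,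
  ⟨[], [], (nat_lit 151), ⟨[nat_lit 0, nat_lit 13, nat_lit 92], [nat_lit 0, nat_lit 83, nat_lit 49], ⟨[nat_lit 0x5b645186c234d2c8a88ebd4147a207], [nat_lit 173056, nat_lit 168960, nat_lit 164096, nat_lit 160384, nat_lit 156416, nat_lit 151648, nat_lit 148192, nat_lit 143424, nat_lit 140200, nat_lit 137546, nat_lit 132776, nat_lit 1180, nat_lit 4160, nat_lit 8448, nat_lit 14112, nat_lit 17024, nat_lit 20608, nat_lit 24832, nat_lit 28928, nat_lit 33280, nat_lit 41693, nat_lit 38202, nat_lit 33297, nat_lit 28799, nat_lit 24582, nat_lit 20637, nat_lit 16525, nat_lit 12290, nat_lit 8256]⟩⟩⟩,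
  ⟨[nat_lit 17, nat_lit 36], [], (nat_lit 1032), ⟨[nat_lit 0, nat_lit 6, nat_lit 61], [nat_lit 0, nat_lit 24, nat_lit 52], ⟨[nat_lit 0x812827298d1c4f57ad2805cd2b4c25], [nat_lit 175104, nat_lit 169984, nat_lit 166400, nat_lit 160512, nat_lit 157248, nat_lit 153536, nat_lit 150272, nat_lit 143592, nat_lit 140376, nat_lit 137488, nat_lit 135140, nat_lit 1938, nat_lit 4224, nat_lit 9560, nat_lit 13600, nat_lit 16480, nat_lit 21376, nat_lit 26368, nat_lit 29696, nat_lit 33792, nat_lit 37888, nat_lit 41854, nat_lit 38297, nat_lit 32897, nat_lit 28673, nat_lit 25089, nat_lit 20571, nat_lit 16428, nat_lit 12290, nat_lit 4097]⟩⟩⟩]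
theorem hncr1_2 : Suf hnT 19005990 (lapp hnwr1 [3, 0, 1]) (iC3 :: apW dcM q0) (tgtN dcM q0.e) := Suf.fin' (l := lhn30) (by decide +kernel)

def lhn31 : List AP := [⟨[nat_lit 636, nat_lit 636, nat_lit 30, nat_lit 21, nat_lit 23, nat_lit 23], [], (nat_lit 338), ⟨[nat_lit 0, nat_lit 43, nat_lit 59], [nat_lit 0, nat_lit 15, nat_lit 58], ⟨[nat_lit 0x495ae8d00c50c460de4f59ed599208], [nat_lit 168960, nat_lit 165632, nat_lit 160256, nat_lit 156416, nat_lit 154624, nat_lit 149136, nat_lit 143496, nat_lit 140724, nat_lit 136884, nat_lit 131863, nat_lit 846, nat_lit 4476, nat_lit 9656, nat_lit 13056, nat_lit 16416, nat_lit 20736, nat_lit 24832, nat_lit 29184, nat_lit 33792, nat_lit 37888, nat_lit 41169, nat_lit 37171, nat_lit 32840, nat_lit 28715, nat_lit 24610, nat_lit 20492, nat_lit 16389, nat_lit 12325, nat_lit 8209, nat_lit 4160, nat_lit 8]⟩⟩⟩,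
  ⟨[], [], (nat_lit 339), ⟨[nat_lit 0, nat_lit 43, nat_lit 59], [nat_lit 32, nat_lit 94], ⟨[nat_lit 0x495ae8d00c50c460de4f59ed599208], [nat_lit 173056, nat_lit 169472, nat_lit 165376, nat_lit 160384, nat_lit 156480, nat_lit 154656, nat_lit 149136, nat_lit 143488, nat_lit 140724, nat_lit 136886, nat_lit 131863, nat_lit 846, nat_lit 4476, nat_lit 9656, nat_lit 13056, nat_lit 16416, nat_lit 20736, nat_lit 24832, nat_lit 29184, nat_lit 33792, nat_lit 37888, nat_lit 41169, nat_lit 37171, nat_lit 32840, nat_lit 28715, nat_lit 24610, nat_lit 20492, nat_lit 16389, nat_lit 12325, nat_lit 8209, nat_lit 4160, nat_lit 8]⟩⟩⟩,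
  ⟨[], [], (nat_lit 1034), ⟨[nat_lit 0, nat_lit 40, nat_lit 55], [nat_lit 62], ⟨[nat_lit 0x39234480cf9b9b6530a15a25715470], [nat_lit 173056, nat_lit 169472, nat_lit 159872, nat_lit 156160, nat_lit 151904, nat_lit 144416, nat_lit 140896, nat_lit 136226, nat_lit 134250, nat_lit 64, nat_lit 5800, nat_lit 8200, nat_lit 12352, nat_lit 17440, nat_lit 20544, nat_lit 26368, nat_lit 30208, nat_lit 34304, nat_lit 41537, nat_lit 38144, nat_lit 33003, nat_lit 28970, nat_lit 24744, nat_lit 20481, nat_lit 16396, nat_lit 12293, nat_lit 8203, nat_lit 4101]⟩⟩⟩]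
theorem hncr1_3 : Suf hnT 2048 (lapp hnwr1 [1, 0, 1]) (apW dcM q1) (tgtN dcM q1.e) := Suf.fin' (l := lhn31) (by decide +kernel)

def phn32 : AP := ⟨[nat_lit 356, nat_lit 357, nat_lit 290, nat_lit 355], [], (nat_lit 1154), ⟨[nat_lit 0, nat_lit 85, nat_lit 65], [nat_lit 0, nat_lit 71, nat_lit 49], ⟨[nat_lit 0x3bcb58d1d2b89a362ac84860430173], [nat_lit 173056, nat_lit 169472, nat_lit 164096, nat_lit 160896, nat_lit 156352, nat_lit 154080, nat_lit 149040, nat_lit 143440, nat_lit 139996, nat_lit 136150, nat_lit 132779, nat_lit 622, nat_lit 5112, nat_lit 8624, nat_lit 12592, nat_lit 16416, nat_lit 21504, nat_lit 29184, nat_lit 33792, nat_lit 41194, nat_lit 36900, nat_lit 32800, nat_lit 29706, nat_lit 24704, nat_lit 20493, nat_lit 12325, nat_lit 8195]⟩⟩⟩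
def phn33 : AP := ⟨[nat_lit 644], [], (nat_lit 151), ⟨[nat_lit 6, nat_lit 64], [nat_lit 0, nat_lit 2, nat_lit 49], ⟨[nat_lit 0x48c50bb481552d22acf374588a80cf], [nat_lit 173056, nat_lit 169472, nat_lit 166400, nat_lit 162304, nat_lit 158656, nat_lit 154976, nat_lit 147776, nat_lit 146408, nat_lit 142820, nat_lit 136714, nat_lit 134118, nat_lit 1668, nat_lit 5220, nat_lit 8680, nat_lit 13152, nat_lit 18208, nat_lit 22144, nat_lit 25600, nat_lit 41481, nat_lit 38320, nat_lit 32846, nat_lit 29226, nat_lit 24615, nat_lit 20558, nat_lit 16522, nat_lit 12290, nat_lit 4105]⟩⟩⟩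
def lhn34 : List AP := [⟨[nat_lit 41, nat_lit 38, nat_lit 36], [], (nat_lit 1032), ⟨[nat_lit 0, nat_lit 29, nat_lit 60], [nat_lit 39, nat_lit 63], ⟨[nat_lit 0x55e82999d680511681e9191653b2b2], [nat_lit 174080, nat_lit 164352, nat_lit 160640, nat_lit 156032, nat_lit 152416, nat_lit 147520, nat_lit 143688, nat_lit 140376, nat_lit 135770, nat_lit 131875, nat_lit 1762, nat_lit 4412, nat_lit 8824, nat_lit 12912, nat_lit 18208, nat_lit 21824, nat_lit 25088, nat_lit 29440, nat_lit 37888, nat_lit 41072, nat_lit 37276, nat_lit 32906, nat_lit 28718, nat_lit 25631, nat_lit 20547, nat_lit 16908, nat_lit 12321, nat_lit 8203, nat_lit 4101, nat_lit 2]⟩⟩⟩]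
theorem shn34 : Suf hnT 19005990 (ldrop (lapp hnwr2 [1, 0, 1]) 22) (apW dcM phn33) (tgtN dcM phn33.e) := Suf.fin' (l := lhn34) (by decide +kernel)
def lhn33 : List AP := [⟨[nat_lit 233, nat_lit 222, nat_lit 664, nat_lit 222], [], (nat_lit 642), ⟨[nat_lit 0, nat_lit 8, nat_lit 50], [nat_lit 0, nat_lit 15, nat_lit 62], ⟨[nat_lit 0x23865141f25200cad1a14c6e7b1973], [nat_lit 164352, nat_lit 160000, nat_lit 157696, nat_lit 153312, nat_lit 149056, nat_lit 144240, nat_lit 140712, nat_lit 137042, nat_lit 132833, nat_lit 526, nat_lit 5016, nat_lit 10024, nat_lit 14224, nat_lit 18112, nat_lit 21824, nat_lit 34304, nat_lit 37888, nat_lit 41536, nat_lit 38264, nat_lit 33394, nat_lit 28771, nat_lit 20611, nat_lit 16385, nat_lit 12549, nat_lit 8203]⟩⟩⟩,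
  ⟨[nat_lit 293, nat_lit 670, nat_lit 284], [], (nat_lit 1218), ⟨[nat_lit 80, nat_lit 53], [nat_lit 0, nat_lit 36, nat_lit 56], ⟨[nat_lit 0x82c027364934507a4d557dca1b1183], [nat_lit 168448, nat_lit 167168, nat_lit 161792, nat_lit 159360, nat_lit 154912, nat_lit 148048, nat_lit 147392, nat_lit 142156, nat_lit 136788, nat_lit 134337, nat_lit 484, nat_lit 4404, nat_lit 9032, nat_lit 12304, nat_lit 16992, nat_lit 22400, nat_lit 25344, nat_lit 30464, nat_lit 34304, nat_lit 37888, nat_lit 41608, nat_lit 37369, nat_lit 33363, nat_lit 29011, nat_lit 24619, nat_lit 20558, nat_lit 16391, nat_lit 12292, nat_lit 8201, nat_lit 4097]⟩⟩⟩]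
theorem shn33 : Suf hnT 19005990 (ldrop (lapp hnwr2 [1, 0, 1]) 10) (apW dcM phn32) (tgtN dcM phn32.e) := Suf.seg (l := lhn33) (by decide +kernel) shn34
def lhn32 : List AP := [⟨[nat_lit 39, nat_lit 633, nat_lit 42, nat_lit 629, nat_lit 15, nat_lit 15], [], (nat_lit 150), ⟨[nat_lit 0, nat_lit 16, nat_lit 61], [nat_lit 45, nat_lit 52], ⟨[nat_lit 0x6807074486b3ef23d42b4aa6ca1448], [nat_lit 171520, nat_lit 159872, nat_lit 156736, nat_lit 151904, nat_lit 147872, nat_lit 145320, nat_lit 139480, nat_lit 135600, nat_lit 131205, nat_lit 846, nat_lit 4408, nat_lit 8320, nat_lit 13552, nat_lit 16512, nat_lit 21120, nat_lit 25600, nat_lit 28928, nat_lit 33792, nat_lit 37888, nat_lit 41389, nat_lit 37264, nat_lit 33522, nat_lit 29201, nat_lit 24866, nat_lit 20738, nat_lit 16902, nat_lit 13317, nat_lit 8210, nat_lit 4112, nat_lit 128]⟩⟩⟩,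
  ⟨[nat_lit 86, nat_lit 80, nat_lit 77, nat_lit 84, nat_lit 102], [], (nat_lit 718), ⟨[nat_lit 0, nat_lit 30, nat_lit 46], [nat_lit 0, nat_lit 3, nat_lit 50], ⟨[nat_lit 0xb2980386437c5a459a68a16f0ab849], [nat_lit 173056, nat_lit 168960, nat_lit 165376, nat_lit 160896, nat_lit 156416, nat_lit 152000, nat_lit 147856, nat_lit 143432, nat_lit 140900, nat_lit 138876, nat_lit 131397, nat_lit 804, nat_lit 4100, nat_lit 8816, nat_lit 13760, nat_lit 16928, nat_lit 21248, nat_lit 25728, nat_lit 29440, nat_lit 37888, nat_lit 41046, nat_lit 37334, nat_lit 33280, nat_lit 29041, nat_lit 24840, nat_lit 20483, nat_lit 16390, nat_lit 12355, nat_lit 8203, nat_lit 8]⟩⟩⟩]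
theorem hncr2_0 : Suf hnT 19005990 (lapp hnwr2 [1, 0, 1]) (apW dcM q0) (tgtN dcM q0.e) := Suf.seg (l := lhn32) (by decide +kernel) shn33

def phn35 : AP := ⟨[nat_lit 670, nat_lit 356, nat_lit 352, nat_lit 352], [], (nat_lit 1136), ⟨[nat_lit 42, nat_lit 56], [nat_lit 0, nat_lit 25, nat_lit 93], ⟨[nat_lit 0x20cc14a1eebc6936b16a280e2b5650], [nat_lit 173056, nat_lit 168448, nat_lit 167680, nat_lit 161280, nat_lit 157120, nat_lit 152672, nat_lit 149216, nat_lit 143640, nat_lit 140680, nat_lit 135380, nat_lit 132558, nat_lit 1698, nat_lit 5144, nat_lit 8256, nat_lit 13328, nat_lit 18336, nat_lit 22080, nat_lit 24832, nat_lit 29952, nat_lit 34304, nat_lit 37888, nat_lit 41963, nat_lit 37336, nat_lit 32785, nat_lit 29301, nat_lit 24596, nat_lit 20615, nat_lit 16448, nat_lit 12321, nat_lit 8209, nat_lit 4105, nat_lit 4]⟩⟩⟩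
def phn36 : AP := ⟨[nat_lit 71, nat_lit 52], [], (nat_lit 122), ⟨[nat_lit 0, nat_lit 37, nat_lit 92], [nat_lit 27, nat_lit 93], ⟨[nat_lit 0x4464470e75836c27b125a5d67004ca], [nat_lit 173056, nat_lit 164096, nat_lit 161664, nat_lit 155840, nat_lit 151584, nat_lit 148832, nat_lit 147248, nat_lit 140504, nat_lit 135200, nat_lit 131587, nat_lit 1818, nat_lit 5120, nat_lit 10112, nat_lit 14096, nat_lit 17152, nat_lit 21952, nat_lit 25472, nat_lit 29440, nat_lit 34304, nat_lit 37888, nat_lit 41767, nat_lit 36941, nat_lit 32920, nat_lit 29002, nat_lit 24739, nat_lit 20569, nat_lit 16397, nat_lit 12310, nat_lit 8211, nat_lit 4100]⟩⟩⟩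
def lhn37 : List AP := [⟨[nat_lit 630, nat_lit 39, nat_lit 36], [], (nat_lit 1032), ⟨[nat_lit 0, nat_lit 3, nat_lit 48], [nat_lit 11, nat_lit 57], ⟨[nat_lit 0x349949a8306d491b8ecb01507489cf], [nat_lit 175104, nat_lit 170496, nat_lit 166144, nat_lit 156096, nat_lit 153056, nat_lit 150992, nat_lit 144632, nat_lit 140924, nat_lit 139090, nat_lit 134193, nat_lit 122, nat_lit 4720, nat_lit 10088, nat_lit 12528, nat_lit 17216, nat_lit 21696, nat_lit 24832, nat_lit 29696, nat_lit 33280, nat_lit 41817, nat_lit 37163, nat_lit 32963, nat_lit 28761, nat_lit 24704, nat_lit 20505, nat_lit 16429, nat_lit 12326, nat_lit 8193, nat_lit 4104]⟩⟩⟩]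
theorem shn37 : Suf hnT 19005990 (ldrop (lapp hnwr2 [2, 0, 1]) 22) (apW dcM phn36) (tgtN dcM phn36.e) := Suf.fin' (l := lhn37) (by decide +kernel)
def lhn36 : List AP := [⟨[nat_lit 666, nat_lit 225, nat_lit 230], [], (nat_lit 614), ⟨[nat_lit 0, nat_lit 23, nat_lit 63], [nat_lit 48], ⟨[nat_lit 0x8c9457c03604d956ac8e38d024de86], [nat_lit 169472, nat_lit 165120, nat_lit 160512, nat_lit 158400, nat_lit 152928, nat_lit 148752, nat_lit 143552, nat_lit 140512, nat_lit 135856, nat_lit 132098, nat_lit 116, nat_lit 5604, nat_lit 9216, nat_lit 14048, nat_lit 18336, nat_lit 20608, nat_lit 24704, nat_lit 28928, nat_lit 33792, nat_lit 41512, nat_lit 38158, nat_lit 32980, nat_lit 28736, nat_lit 24621, nat_lit 20557, nat_lit 16640, nat_lit 12359, nat_lit 8209, nat_lit 4104, nat_lit 4]⟩⟩⟩,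
  ⟨[nat_lit 285, nat_lit 354, nat_lit 351], [], (nat_lit 1124), ⟨[nat_lit 75, nat_lit 93], [nat_lit 0, nat_lit 78, nat_lit 68], ⟨[nat_lit 0x714239dd028c986a36a4b013079d6a], [nat_lit 174080, nat_lit 169472, nat_lit 164096, nat_lit 160640, nat_lit 158976, nat_lit 153632, nat_lit 149792, nat_lit 144792, nat_lit 141360, nat_lit 137064, nat_lit 135043, nat_lit 1224, nat_lit 4964, nat_lit 9096, nat_lit 13392, nat_lit 17248, nat_lit 22336, nat_lit 26496, nat_lit 28928, nat_lit 33792, nat_lit 41836, nat_lit 37333, nat_lit 33328, nat_lit 28727, nat_lit 24844, nat_lit 20493, nat_lit 16389, nat_lit 12293, nat_lit 8194, nat_lit 4097, nat_lit 2]⟩⟩⟩]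
theorem shn36 : Suf hnT 19005990 (ldrop (lapp hnwr2 [2, 0, 1]) 10) (apW dcM phn35) (tgtN dcM phn35.e) := Suf.seg (l := lhn36) (by decide +kernel) shn37
def lhn35 : List AP := [⟨[nat_lit 36, nat_lit 16, nat_lit 40, nat_lit 36, nat_lit 14], [], (nat_lit 197), ⟨[nat_lit 43, nat_lit 69], [nat_lit 0, nat_lit 77, nat_lit 89], ⟨[nat_lit 0xb2b0592973392d2a862981f694507], [nat_lit 168448, nat_lit 165120, nat_lit 160896, nat_lit 156352, nat_lit 153504, nat_lit 149536, nat_lit 143472, nat_lit 140612, nat_lit 135170, nat_lit 132377, nat_lit 1166, nat_lit 5940, nat_lit 9672, nat_lit 14176, nat_lit 16640, nat_lit 21184, nat_lit 25088, nat_lit 33280, nat_lit 41675, nat_lit 37360, nat_lit 32892, nat_lit 29288, nat_lit 24875, nat_lit 20748, nat_lit 16387, nat_lit 12416, nat_lit 8259, nat_lit 4113]⟩⟩⟩,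
  ⟨[nat_lit 86, nat_lit 81, nat_lit 84, nat_lit 85, nat_lit 79, nat_lit 76], [], (nat_lit 718), ⟨[nat_lit 0, nat_lit 39, nat_lit 59], [nat_lit 0, nat_lit 79, nat_lit 64], ⟨[nat_lit 0x6c987140c3bc6c544d44a2dc17d520], [nat_lit 169472, nat_lit 165376, nat_lit 161408, nat_lit 158912, nat_lit 153088, nat_lit 144440, nat_lit 139956, nat_lit 135430, nat_lit 132424, nat_lit 64, nat_lit 5508, nat_lit 9056, nat_lit 14112, nat_lit 16512, nat_lit 22144, nat_lit 24960, nat_lit 28928, nat_lit 37888, nat_lit 41822, nat_lit 38302, nat_lit 32848, nat_lit 29268, nat_lit 24616, nat_lit 20507, nat_lit 16429, nat_lit 8195]⟩⟩⟩]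
theorem hncr2_1 : Suf hnT 19005990 (lapp hnwr2 [2, 0, 1]) (iC2 :: apW dcM q0) (tgtN dcM q0.e) := Suf.seg (l := lhn35) (by decide +kernel) shn36

def phn38 : AP := ⟨[nat_lit 356, nat_lit 285, nat_lit 285, nat_lit 355], [], (nat_lit 770), ⟨[nat_lit 25], [nat_lit 0, nat_lit 22, nat_lit 51], ⟨[nat_lit 0x6996e132d17c87584d47004a849297], [nat_lit 168448, nat_lit 167424, nat_lit 161024, nat_lit 156672, nat_lit 154624, nat_lit 150256, nat_lit 147432, nat_lit 141420, nat_lit 138428, nat_lit 132820, nat_lit 1354, nat_lit 4380, nat_lit 10144, nat_lit 13552, nat_lit 16640, nat_lit 20736, nat_lit 25600, nat_lit 28928, nat_lit 33280, nat_lit 37888, nat_lit 41324, nat_lit 37277, nat_lit 32855, nat_lit 28706, nat_lit 24885, nat_lit 20502, nat_lit 16420, nat_lit 8224]⟩⟩⟩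
def phn39 : AP := ⟨[nat_lit 647], [], (nat_lit 196), ⟨[nat_lit 0, nat_lit 44, nat_lit 61], [nat_lit 0, nat_lit 27, nat_lit 62], ⟨[nat_lit 0x1013678644a156684d1762aae68cf1], [nat_lit 173056, nat_lit 168448, nat_lit 165376, nat_lit 161408, nat_lit 156992, nat_lit 151840, nat_lit 148800, nat_lit 144696, nat_lit 140384, nat_lit 138232, nat_lit 131667, nat_lit 1694, nat_lit 4608, nat_lit 10168, nat_lit 13680, nat_lit 18272, nat_lit 22208, nat_lit 26112, nat_lit 29440, nat_lit 33280, nat_lit 41815, nat_lit 36866, nat_lit 33902, nat_lit 28743, nat_lit 24757, nat_lit 20493, nat_lit 16398, nat_lit 12311, nat_lit 8208, nat_lit 4097, nat_lit 2]⟩⟩⟩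
def lhn40 : List AP := [⟨[nat_lit 40], [], (nat_lit 1032), ⟨[nat_lit 4, nat_lit 93], [nat_lit 6, nat_lit 59], ⟨[nat_lit 0x4ddd3a9036451f191a03501656b047], [nat_lit 173056, nat_lit 168448, nat_lit 160640, nat_lit 155776, nat_lit 151712, nat_lit 149584, nat_lit 145248, nat_lit 140148, nat_lit 135758, nat_lit 131741, nat_lit 1166, nat_lit 4408, nat_lit 8208, nat_lit 13376, nat_lit 16512, nat_lit 21504, nat_lit 25344, nat_lit 29184, nat_lit 33792, nat_lit 41271, nat_lit 36970, nat_lit 32984, nat_lit 28970, nat_lit 24591, nat_lit 20611, nat_lit 12291, nat_lit 8194, nat_lit 4100]⟩⟩⟩]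
theorem shn40 : Suf hnT 19005990 (ldrop (lapp hnwr2 [3, 0, 1]) 22) (apW dcM phn39) (tgtN dcM phn39.e) := Suf.fin' (l := lhn40) (by decide +kernel)
def lhn39 : List AP := [⟨[nat_lit 671, nat_lit 288, nat_lit 286, nat_lit 353, nat_lit 284], [], (nat_lit 800), ⟨[nat_lit 0, nat_lit 22, nat_lit 59], [nat_lit 0, nat_lit 79, nat_lit 92], ⟨[nat_lit 0x1d50a2cdab046d0392e113dd491989], [nat_lit 173056, nat_lit 171520, nat_lit 164864, nat_lit 160256, nat_lit 158976, nat_lit 153152, nat_lit 149344, nat_lit 146344, nat_lit 142252, nat_lit 138004, nat_lit 134654, nat_lit 1928, nat_lit 5436, nat_lit 8608, nat_lit 12528, nat_lit 17952, nat_lit 21504, nat_lit 26368, nat_lit 29696, nat_lit 34304, nat_lit 41907, nat_lit 38269, nat_lit 32869, nat_lit 29297, nat_lit 24589, nat_lit 20627, nat_lit 16516, nat_lit 12291, nat_lit 8227, nat_lit 4100]⟩⟩⟩,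
  ⟨[nat_lit 284, nat_lit 351, nat_lit 287], [], (nat_lit 1218), ⟨[nat_lit 33, nat_lit 46], [nat_lit 0, nat_lit 15, nat_lit 46], ⟨[nat_lit 0x12cad45e2974df43b00a342a4b0643], [nat_lit 174080, nat_lit 168960, nat_lit 164352, nat_lit 161536, nat_lit 159552, nat_lit 153664, nat_lit 150032, nat_lit 144080, nat_lit 142636, nat_lit 136410, nat_lit 134648, nat_lit 1148, nat_lit 9920, nat_lit 26368, nat_lit 30208, nat_lit 33280, nat_lit 41289, nat_lit 36873, nat_lit 32934, nat_lit 29040, nat_lit 24729, nat_lit 20766, nat_lit 16393, nat_lit 12292, nat_lit 8203, nat_lit 4100]⟩⟩⟩]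
theorem shn39 : Suf hnT 19005990 (ldrop (lapp hnwr2 [3, 0, 1]) 10) (apW dcM phn38) (tgtN dcM phn38.e) := Suf.seg (l := lhn39) (by decide +kernel) shn40
def lhn38 : List AP := [⟨[nat_lit 17, nat_lit 40, nat_lit 38, nat_lit 632, nat_lit 631, nat_lit 40], [], (nat_lit 150), ⟨[nat_lit 80, nat_lit 61], [nat_lit 23, nat_lit 68], ⟨[nat_lit 0xad15265ce2780d69b9a92c08888c2b], [nat_lit 175104, nat_lit 169472, nat_lit 164608, nat_lit 160512, nat_lit 157888, nat_lit 153856, nat_lit 150080, nat_lit 145320, nat_lit 142828, nat_lit 137004, nat_lit 134322, nat_lit 1966, nat_lit 4104, nat_lit 8200, nat_lit 12800, nat_lit 17088, nat_lit 20928, nat_lit 24704, nat_lit 29184, nat_lit 33792, nat_lit 41939, nat_lit 38129, nat_lit 33399, nat_lit 29712, nat_lit 24732, nat_lit 21009, nat_lit 16387, nat_lit 12356, nat_lit 8256, nat_lit 4100]⟩⟩⟩,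
  ⟨[nat_lit 78, nat_lit 106, nat_lit 647, nat_lit 84, nat_lit 84, nat_lit 76], [], (nat_lit 718), ⟨[nat_lit 0, nat_lit 8, nat_lit 59], [nat_lit 0, nat_lit 35, nat_lit 63], ⟨[nat_lit 0x9a181545e3310b5bd0f612e0d03a49], [nat_lit 173056, nat_lit 170496, nat_lit 164608, nat_lit 159872, nat_lit 157376, nat_lit 152704, nat_lit 147776, nat_lit 144384, nat_lit 139788, nat_lit 136902, nat_lit 131301, nat_lit 1478, nat_lit 5572, nat_lit 9648, nat_lit 13392, nat_lit 16480, nat_lit 21504, nat_lit 29184, nat_lit 33280, nat_lit 41374, nat_lit 37208, nat_lit 33459, nat_lit 28971, nat_lit 24760, nat_lit 20558, nat_lit 16425, nat_lit 12308, nat_lit 4105, nat_lit 8]⟩⟩⟩]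
theorem hncr2_2 : Suf hnT 19005990 (lapp hnwr2 [3, 0, 1]) (iC3 :: apW dcM q0) (tgtN dcM q0.e) := Suf.seg (l := lhn38) (by decide +kernel) shn39

def phn41 : AP := ⟨[nat_lit 212, nat_lit 662, nat_lit 181, nat_lit 170], [], (nat_lit 858), ⟨[nat_lit 0, nat_lit 20, nat_lit 91], [nat_lit 0, nat_lit 10, nat_lit 50], ⟨[nat_lit 0x4ceee515603898d43e34940c3206b6], [nat_lit 173056, nat_lit 168960, nat_lit 164864, nat_lit 162816, nat_lit 156544, nat_lit 151712, nat_lit 148064, nat_lit 143880, nat_lit 140896, nat_lit 136804, nat_lit 131967, nat_lit 568, nat_lit 5208, nat_lit 9192, nat_lit 12304, nat_lit 16512, nat_lit 22080, nat_lit 25728, nat_lit 29696, nat_lit 33792, nat_lit 41024, nat_lit 37122, nat_lit 33378, nat_lit 24617, nat_lit 20549, nat_lit 16392, nat_lit 12304, nat_lit 8226, nat_lit 4097]⟩⟩⟩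
def phn42 : AP := ⟨[nat_lit 176, nat_lit 171], [], (nat_lit 390), ⟨[nat_lit 77, nat_lit 55], [nat_lit 8, nat_lit 91], ⟨[nat_lit 0x414f716ad5a6c719281930488dcd3], [nat_lit 168448, nat_lit 164096, nat_lit 163584, nat_lit 156416, nat_lit 152224, nat_lit 149344, nat_lit 144608, nat_lit 140016, nat_lit 135378, nat_lit 132794, nat_lit 718, nat_lit 4792, nat_lit 9216, nat_lit 13664, nat_lit 17888, nat_lit 25600, nat_lit 29696, nat_lit 33280, nat_lit 37888, nat_lit 41222, nat_lit 37325, nat_lit 33399, nat_lit 28676, nat_lit 25110, nat_lit 20754, nat_lit 16459, nat_lit 12320, nat_lit 8323, nat_lit 4101]⟩⟩⟩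
def lhn43 : List AP := [⟨[], [], (nat_lit 1034), ⟨[nat_lit 0, nat_lit 26, nat_lit 65], [nat_lit 0, nat_lit 75, nat_lit 63], ⟨[nat_lit 0x92d1320045ab28f54609384666d9d7], [nat_lit 173056, nat_lit 169472, nat_lit 165120, nat_lit 151776, nat_lit 147600, nat_lit 144896, nat_lit 140440, nat_lit 135674, nat_lit 133296, nat_lit 960, nat_lit 5688, nat_lit 9040, nat_lit 12976, nat_lit 18080, nat_lit 22272, nat_lit 25344, nat_lit 29696, nat_lit 33280, nat_lit 41035, nat_lit 37173, nat_lit 32895, nat_lit 28761, nat_lit 24577, nat_lit 20486, nat_lit 16520, nat_lit 12292, nat_lit 8200, nat_lit 4129, nat_lit 2]⟩⟩⟩]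
theorem shn43 : Suf hnT 2048 (ldrop (lapp hnwr2 [1, 0, 1]) 22) (apW dcM phn42) (tgtN dcM phn42.e) := Suf.fin' (l := lhn43) (by decide +kernel)
def lhn42 : List AP := [⟨[nat_lit 676, nat_lit 416, nat_lit 417, nat_lit 411], [], (nat_lit 1236), ⟨[nat_lit 0, nat_lit 33, nat_lit 52], [nat_lit 0, nat_lit 82, nat_lit 59], ⟨[nat_lit 0x80921320b2b906d9bdca032875c6d5], [nat_lit 168960, nat_lit 166912, nat_lit 160640, nat_lit 156672, nat_lit 152608, nat_lit 149360, nat_lit 144448, nat_lit 140768, nat_lit 135870, nat_lit 131695, nat_lit 2018, nat_lit 5208, nat_lit 8568, nat_lit 13264, nat_lit 17120, nat_lit 22400, nat_lit 26496, nat_lit 30208, nat_lit 33280, nat_lit 37888, nat_lit 41806, nat_lit 38094, nat_lit 32785, nat_lit 28704, nat_lit 25614, nat_lit 20618, nat_lit 16644, nat_lit 12320, nat_lit 8209, nat_lit 4097]⟩⟩⟩,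
  ⟨[nat_lit 663, nat_lit 174, nat_lit 660, nat_lit 174], [], (nat_lit 440), ⟨[nat_lit 0, nat_lit 31, nat_lit 48], [nat_lit 0, nat_lit 79, nat_lit 94], ⟨[nat_lit 0x2192abd86074d91849ed3ad05a5441], [nat_lit 171520, nat_lit 165120, nat_lit 163456, nat_lit 156992, nat_lit 154016, nat_lit 150848, nat_lit 146072, nat_lit 141204, nat_lit 135334, nat_lit 133551, nat_lit 698, nat_lit 4100, nat_lit 9304, nat_lit 13424, nat_lit 16704, nat_lit 20608, nat_lit 26240, nat_lit 28928, nat_lit 33280, nat_lit 37888, nat_lit 41257, nat_lit 37143, nat_lit 32956, nat_lit 28719, nat_lit 24584, nat_lit 20502, nat_lit 16425, nat_lit 12295, nat_lit 8194, nat_lit 4097]⟩⟩⟩]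
theorem shn42 : Suf hnT 2048 (ldrop (lapp hnwr2 [1, 0, 1]) 10) (apW dcM phn41) (tgtN dcM phn41.e) := Suf.seg (l := lhn42) (by decide +kernel) shn43
def lhn41 : List AP := [⟨[nat_lit 638, nat_lit 21, nat_lit 634, nat_lit 638, nat_lit 22, nat_lit 21], [], (nat_lit 338), ⟨[nat_lit 0, nat_lit 87, nat_lit 46], [nat_lit 0, nat_lit 27, nat_lit 55], ⟨[nat_lit 0xb4e4c71aa7101b47dd495c42428e08], [nat_lit 174080, nat_lit 169472, nat_lit 164864, nat_lit 160256, nat_lit 156288, nat_lit 152096, nat_lit 148992, nat_lit 144264, nat_lit 140892, nat_lit 136540, nat_lit 131264, nat_lit 1438, nat_lit 4476, nat_lit 8560, nat_lit 12416, nat_lit 17408, nat_lit 20544, nat_lit 24832, nat_lit 29696, nat_lit 33792, nat_lit 41472, nat_lit 37005, nat_lit 32890, nat_lit 28686, nat_lit 24891, nat_lit 20760, nat_lit 12422, nat_lit 8322, nat_lit 4128, nat_lit 64]⟩⟩⟩,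
  ⟨[nat_lit 215, nat_lit 172, nat_lit 660, nat_lit 176], [], (nat_lit 440), ⟨[nat_lit 6, nat_lit 63], [nat_lit 0, nat_lit 78], ⟨[nat_lit 0xb9a157c8ac22131059cba0d4d3cc41], [nat_lit 168960, nat_lit 164608, nat_lit 161408, nat_lit 155840, nat_lit 153376, nat_lit 149072, nat_lit 144608, nat_lit 139268, nat_lit 136852, nat_lit 132348, nat_lit 588, nat_lit 4100, nat_lit 12912, nat_lit 17760, nat_lit 21376, nat_lit 25344, nat_lit 29696, nat_lit 33792, nat_lit 37888, nat_lit 41752, nat_lit 38296, nat_lit 33846, nat_lit 28715, nat_lit 24586, nat_lit 20507, nat_lit 16426, nat_lit 12324, nat_lit 8195, nat_lit 4101, nat_lit 4]⟩⟩⟩]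
theorem hncr2_3 : Suf hnT 2048 (lapp hnwr2 [1, 0, 1]) (apW dcM q1) (tgtN dcM q1.e) := Suf.seg (l := lhn41) (by decide +kernel) shn42

def phn44 : AP := ⟨[nat_lit 266], [], (nat_lit 494), ⟨[nat_lit 0, nat_lit 9, nat_lit 69], [nat_lit 33, nat_lit 64], ⟨[nat_lit 0xadd81395c0a416489aca409e994c6d], [nat_lit 173056, nat_lit 168960, nat_lit 164096, nat_lit 163072, nat_lit 155712, nat_lit 153504, nat_lit 148944, nat_lit 139468, nat_lit 136498, nat_lit 131744, nat_lit 364, nat_lit 4904, nat_lit 9952, nat_lit 17312, nat_lit 21376, nat_lit 25344, nat_lit 30464, nat_lit 34304, nat_lit 41956, nat_lit 37364, nat_lit 32919, nat_lit 29055, nat_lit 24741, nat_lit 20490, nat_lit 16649, nat_lit 12310, nat_lit 8209, nat_lit 4101]⟩⟩⟩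
def phn45 : AP := ⟨[nat_lit 173, nat_lit 178, nat_lit 215, nat_lit 659, nat_lit 171], [], (nat_lit 486), ⟨[nat_lit 0, nat_lit 85, nat_lit 53], [nat_lit 38, nat_lit 50], ⟨[nat_lit 0x255c104102a146d9d9377a9928acc7], [nat_lit 168448, nat_lit 164608, nat_lit 161536, nat_lit 158080, nat_lit 152544, nat_lit 149216, nat_lit 144224, nat_lit 141092, nat_lit 136784, nat_lit 131461, nat_lit 1246, nat_lit 6104, nat_lit 9216, nat_lit 13776, nat_lit 18272, nat_lit 20672, nat_lit 25600, nat_lit 30464, nat_lit 41725, nat_lit 38333, nat_lit 33299, nat_lit 29723, nat_lit 24580, nat_lit 20620, nat_lit 16643, nat_lit 12322, nat_lit 8258, nat_lit 4100]⟩⟩⟩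
def phn46 : AP := ⟨[nat_lit 415, nat_lit 411, nat_lit 677], [], (nat_lit 941), ⟨[nat_lit 41, nat_lit 57], [nat_lit 0, nat_lit 2, nat_lit 92], ⟨[nat_lit 0x80569b56222d14d75d079988063e43], [nat_lit 175104, nat_lit 170496, nat_lit 162944, nat_lit 158784, nat_lit 153728, nat_lit 148544, nat_lit 144848, nat_lit 139440, nat_lit 137292, nat_lit 133737, nat_lit 1770, nat_lit 4412, nat_lit 8376, nat_lit 17280, nat_lit 22336, nat_lit 25600, nat_lit 29440, nat_lit 33792, nat_lit 40969, nat_lit 36873, nat_lit 32964, nat_lit 28697, nat_lit 24629, nat_lit 20499, nat_lit 16421, nat_lit 12291, nat_lit 8211, nat_lit 4104]⟩⟩⟩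
def phn47 : AP := ⟨[nat_lit 667, nat_lit 231, nat_lit 231, nat_lit 225, nat_lit 222], [], (nat_lit 626), ⟨[nat_lit 0, nat_lit 7, nat_lit 63], [nat_lit 0, nat_lit 32, nat_lit 57], ⟨[nat_lit 0x74113908f42b5245bc60b44c1bb155], [nat_lit 173056, nat_lit 169472, nat_lit 164608, nat_lit 161536, nat_lit 157248, nat_lit 153376, nat_lit 148176, nat_lit 144488, nat_lit 141892, nat_lit 135352, nat_lit 132131, nat_lit 1766, nat_lit 4296, nat_lit 9128, nat_lit 12912, nat_lit 17024, nat_lit 21568, nat_lit 28928, nat_lit 34304, nat_lit 41820, nat_lit 37897, nat_lit 32987, nat_lit 28935, nat_lit 24736, nat_lit 20569, nat_lit 16458, nat_lit 12355, nat_lit 8201, nat_lit 4101]⟩⟩⟩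
def phn48 : AP := ⟨[nat_lit 102], [], (nat_lit 196), ⟨[nat_lit 0, nat_lit 31, nat_lit 69], [nat_lit 0, nat_lit 88], ⟨[nat_lit 0x6dcf1930b644c70aa681581cf110ca], [nat_lit 165888, nat_lit 160384, nat_lit 155712, nat_lit 154400, nat_lit 150224, nat_lit 146944, nat_lit 143276, nat_lit 137364, nat_lit 132395, nat_lit 1580, nat_lit 5436, nat_lit 8208, nat_lit 14192, nat_lit 17408, nat_lit 21888, nat_lit 25216, nat_lit 30208, nat_lit 34304, nat_lit 41935, nat_lit 36994, nat_lit 33811, nat_lit 29050, nat_lit 24859, nat_lit 20612, nat_lit 16394, nat_lit 12308, nat_lit 8200]⟩⟩⟩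
def lhn49 : List AP := [⟨[nat_lit 39, nat_lit 36], [], (nat_lit 1032), ⟨[nat_lit 0, nat_lit 79, nat_lit 64], [nat_lit 0, nat_lit 36, nat_lit 47], ⟨[nat_lit 0x6968273e6bbb0c1249278206055636], [nat_lit 174080, nat_lit 171008, nat_lit 166912, nat_lit 160896, nat_lit 159552, nat_lit 154464, nat_lit 148896, nat_lit 147368, nat_lit 139468, nat_lit 136902, nat_lit 132132, nat_lit 1488, nat_lit 4400, nat_lit 8704, nat_lit 13456, nat_lit 18368, nat_lit 22016, nat_lit 25728, nat_lit 29952, nat_lit 37888, nat_lit 41784, nat_lit 37191, nat_lit 33296, nat_lit 28768, nat_lit 24738, nat_lit 20508, nat_lit 16421, nat_lit 12291, nat_lit 8227, nat_lit 4101]⟩⟩⟩]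
theorem shn49 : Suf hnT 19005990 (ldrop (lapp hnwr3 [1, 0, 1]) 49) (apW dcM phn48) (tgtN dcM phn48.e) := Suf.fin' (l := lhn49) (by decide +kernel)
def lhn48 : List AP := [⟨[nat_lit 357, nat_lit 669, nat_lit 673], [], (nat_lit 1154), ⟨[nat_lit 0, nat_lit 12, nat_lit 89], [nat_lit 0, nat_lit 19, nat_lit 46], ⟨[nat_lit 0x6b06fbc4c9442a4005c292a85b1d73], [nat_lit 173056, nat_lit 170496, nat_lit 165376, nat_lit 160384, nat_lit 157568, nat_lit 153440, nat_lit 148784, nat_lit 145392, nat_lit 139704, nat_lit 136586, nat_lit 132114, nat_lit 78, nat_lit 4568, nat_lit 10232, nat_lit 13232, nat_lit 17472, nat_lit 21312, nat_lit 25472, nat_lit 29184, nat_lit 34304, nat_lit 37888, nat_lit 41573, nat_lit 32972, nat_lit 28768, nat_lit 24710, nat_lit 20574, nat_lit 16424, nat_lit 12327, nat_lit 8202]⟩⟩⟩,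
  ⟨[nat_lit 230], [], (nat_lit 1094), ⟨[nat_lit 0, nat_lit 84, nat_lit 60], [nat_lit 0, nat_lit 23, nat_lit 64], ⟨[nat_lit 0x9c1e2b8e8c454b101da47054991976], [nat_lit 173056, nat_lit 168448, nat_lit 164352, nat_lit 155968, nat_lit 153024, nat_lit 149440, nat_lit 147440, nat_lit 140828, nat_lit 135746, nat_lit 131100, nat_lit 688, nat_lit 5072, nat_lit 8720, nat_lit 17920, nat_lit 21184, nat_lit 26240, nat_lit 29184, nat_lit 33792, nat_lit 41818, nat_lit 38194, nat_lit 33858, nat_lit 28731, nat_lit 25118, nat_lit 20554, nat_lit 16418, nat_lit 8210]⟩⟩⟩]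
theorem shn48 : Suf hnT 19005990 (ldrop (lapp hnwr3 [1, 0, 1]) 39) (apW dcM phn47) (tgtN dcM phn47.e) := Suf.seg (l := lhn48) (by decide +kernel) shn49
def lhn47 : List AP := [⟨[nat_lit 411, nat_lit 420, nat_lit 466, nat_lit 677, nat_lit 414], [], (nat_lit 908), ⟨[nat_lit 12, nat_lit 58], [nat_lit 45, nat_lit 51], ⟨[nat_lit 0xdae3734e644649a8a8082a6b790ac], [nat_lit 168448, nat_lit 165888, nat_lit 163072, nat_lit 158208, nat_lit 154720, nat_lit 148480, nat_lit 147392, nat_lit 141936, nat_lit 136974, nat_lit 133247, nat_lit 210, nat_lit 4540, nat_lit 8816, nat_lit 14304, nat_lit 16512, nat_lit 22336, nat_lit 25856, nat_lit 30464, nat_lit 34304, nat_lit 37888, nat_lit 41538, nat_lit 38300, nat_lit 33378, nat_lit 28686, nat_lit 25117, nat_lit 20491, nat_lit 16389, nat_lit 12291, nat_lit 8210, nat_lit 4097]⟩⟩⟩,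
  ⟨[nat_lit 352, nat_lit 284, nat_lit 293, nat_lit 294, nat_lit 286], [], (nat_lit 1134), ⟨[nat_lit 0, nat_lit 83, nat_lit 56], [nat_lit 29], ⟨[nat_lit 0x418a47c0169d42c59d2abc86d70a91], [nat_lit 168960, nat_lit 161536, nat_lit 158976, nat_lit 152864, nat_lit 147616, nat_lit 143520, nat_lit 139804, nat_lit 135744, nat_lit 132488, nat_lit 1004, nat_lit 5340, nat_lit 8256, nat_lit 14320, nat_lit 16896, nat_lit 22464, nat_lit 25344, nat_lit 30208, nat_lit 37888, nat_lit 41792, nat_lit 36893, nat_lit 32931, nat_lit 29019, nat_lit 24597, nat_lit 20616, nat_lit 16417, nat_lit 12420, nat_lit 4353, nat_lit 16]⟩⟩⟩]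
theorem shn47 : Suf hnT 19005990 (ldrop (lapp hnwr3 [1, 0, 1]) 29) (apW dcM phn46) (tgtN dcM phn46.e) := Suf.seg (l := lhn47) (by decide +kernel) shn48
def lhn46 : List AP := [⟨[nat_lit 668, nat_lit 667, nat_lit 227], [], (nat_lit 1104), ⟨[nat_lit 85, nat_lit 58], [nat_lit 8, nat_lit 63], ⟨[nat_lit 0x7a54e9c02204472b50a45a18dadce6], [nat_lit 168448, nat_lit 165632, nat_lit 158848, nat_lit 152800, nat_lit 149024, nat_lit 143632, nat_lit 139996, nat_lit 136670, nat_lit 131312, nat_lit 158, nat_lit 4328, nat_lit 8824, nat_lit 13712, nat_lit 17472, nat_lit 21440, nat_lit 25600, nat_lit 29952, nat_lit 33280, nat_lit 41792, nat_lit 38138, nat_lit 33450, nat_lit 28798, nat_lit 24620, nat_lit 20560, nat_lit 16423, nat_lit 12310, nat_lit 8202, nat_lit 4100, nat_lit 2]⟩⟩⟩,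
  ⟨[nat_lit 175, nat_lit 178, nat_lit 660], [], (nat_lit 858), ⟨[nat_lit 71, nat_lit 69], [nat_lit 25, nat_lit 89], ⟨[nat_lit 0x488e022ef50d20c7b8a834d5288db6], [nat_lit 171008, nat_lit 167424, nat_lit 162048, nat_lit 157824, nat_lit 152000, nat_lit 149616, nat_lit 146128, nat_lit 140024, nat_lit 137528, nat_lit 132676, nat_lit 354, nat_lit 4228, nat_lit 9040, nat_lit 12800, nat_lit 17056, nat_lit 22272, nat_lit 25344, nat_lit 29952, nat_lit 33280, nat_lit 41171, nat_lit 36925, nat_lit 32782, nat_lit 28767, nat_lit 24720, nat_lit 20996, nat_lit 16423, nat_lit 12294, nat_lit 8194, nat_lit 4101]⟩⟩⟩]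
theorem shn46 : Suf hnT 19005990 (ldrop (lapp hnwr3 [1, 0, 1]) 19) (apW dcM phn45) (tgtN dcM phn45.e) := Suf.seg (l := lhn46) (by decide +kernel) shn47
def lhn45 : List AP := [⟨[nat_lit 69, nat_lit 72, nat_lit 72, nat_lit 57], [], (nat_lit 566), ⟨[nat_lit 0, nat_lit 35, nat_lit 64], [nat_lit 44, nat_lit 68], ⟨[nat_lit 0x98c3014a204d2a82bda6231c7b5d4b], [nat_lit 168448, nat_lit 160384, nat_lit 156288, nat_lit 152480, nat_lit 149344, nat_lit 144664, nat_lit 139548, nat_lit 135350, nat_lit 131930, nat_lit 1224, nat_lit 5080, nat_lit 8376, nat_lit 12976, nat_lit 17184, nat_lit 20608, nat_lit 25856, nat_lit 30208, nat_lit 41326, nat_lit 33902, nat_lit 28700, nat_lit 24601, nat_lit 21518, nat_lit 16391, nat_lit 12352, nat_lit 8193, nat_lit 4097, nat_lit 2]⟩⟩⟩,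
  ⟨[nat_lit 355, nat_lit 289, nat_lit 289], [], (nat_lit 1204), ⟨[nat_lit 4, nat_lit 67], [nat_lit 79, nat_lit 59], ⟨[nat_lit 0x9c126136910056461de81de4eb5545], [nat_lit 167424, nat_lit 162304, nat_lit 158080, nat_lit 155488, nat_lit 149072, nat_lit 146176, nat_lit 141792, nat_lit 137078, nat_lit 133553, nat_lit 364, nat_lit 5884, nat_lit 8864, nat_lit 13408, nat_lit 17792, nat_lit 21504, nat_lit 25216, nat_lit 37888, nat_lit 41720, nat_lit 37977, nat_lit 32897, nat_lit 28673, nat_lit 25657, nat_lit 20992, nat_lit 16389, nat_lit 13316, nat_lit 8202]⟩⟩⟩]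
theorem shn45 : Suf hnT 19005990 (ldrop (lapp hnwr3 [1, 0, 1]) 8) (apW dcM phn44) (tgtN dcM phn44.e) := Suf.seg (l := lhn45) (by decide +kernel) shn46
def lhn44 : List AP := [⟨[nat_lit 39, nat_lit 633, nat_lit 42, nat_lit 629, nat_lit 15, nat_lit 15], [], (nat_lit 150), ⟨[nat_lit 0, nat_lit 16, nat_lit 61], [nat_lit 45, nat_lit 52], ⟨[nat_lit 0x6807074486b3ef23d42b4aa6ca1448], [nat_lit 171520, nat_lit 159872, nat_lit 156736, nat_lit 151904, nat_lit 147872, nat_lit 145320, nat_lit 139480, nat_lit 135600, nat_lit 131205, nat_lit 846, nat_lit 4408, nat_lit 8320, nat_lit 13552, nat_lit 16512, nat_lit 21120, nat_lit 25600, nat_lit 28928, nat_lit 33792, nat_lit 37888, nat_lit 41389, nat_lit 37264, nat_lit 33522, nat_lit 29201, nat_lit 24866, nat_lit 20738, nat_lit 16902, nat_lit 13317, nat_lit 8210, nat_lit 4112, nat_lit 128]⟩⟩⟩,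
  ⟨[nat_lit 104, nat_lit 77, nat_lit 644, nat_lit 83], [], (nat_lit 468), ⟨[nat_lit 15, nat_lit 63], [nat_lit 88, nat_lit 66], ⟨[nat_lit 0xb998b90e9641ead01491809499b82f], [nat_lit 173056, nat_lit 168960, nat_lit 164096, nat_lit 160256, nat_lit 157440, nat_lit 151712, nat_lit 147616, nat_lit 145808, nat_lit 139312, nat_lit 136878, nat_lit 132931, nat_lit 1318, nat_lit 4104, nat_lit 10168, nat_lit 13584, nat_lit 16480, nat_lit 22208, nat_lit 26240, nat_lit 29952, nat_lit 33792, nat_lit 37888, nat_lit 41300, nat_lit 37080, nat_lit 34028, nat_lit 28677, nat_lit 24615, nat_lit 20557, nat_lit 16646, nat_lit 12311, nat_lit 8]⟩⟩⟩]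
theorem hncr3_0 : Suf hnT 19005990 (lapp hnwr3 [1, 0, 1]) (apW dcM q0) (tgtN dcM q0.e) := Suf.seg (l := lhn44) (by decide +kernel) shn45

def phn50 : AP := ⟨[nat_lit 668], [], (nat_lit 1094), ⟨[nat_lit 0, nat_lit 29, nat_lit 52], [nat_lit 0, nat_lit 42, nat_lit 67], ⟨[nat_lit 0x34e810204f3952e8dc83ad96d8494c], [nat_lit 169472, nat_lit 165888, nat_lit 161664, nat_lit 157248, nat_lit 152192, nat_lit 148528, nat_lit 143608, nat_lit 141180, nat_lit 135722, nat_lit 131795, nat_lit 1580, nat_lit 4156, nat_lit 8248, nat_lit 14112, nat_lit 17184, nat_lit 22272, nat_lit 24832, nat_lit 30464, nat_lit 41357, nat_lit 36924, nat_lit 32808, nat_lit 28766, nat_lit 24584, nat_lit 20750, nat_lit 16527, nat_lit 12352, nat_lit 8226, nat_lit 4097, nat_lit 2]⟩⟩⟩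
def phn51 : AP := ⟨[nat_lit 669, nat_lit 669, nat_lit 670, nat_lit 284], [], (nat_lit 676), ⟨[nat_lit 0, nat_lit 45, nat_lit 60], [nat_lit 0, nat_lit 74, nat_lit 47], ⟨[nat_lit 0xa968b226713a0411be1605db23394c], [nat_lit 175104, nat_lit 166912, nat_lit 163712, nat_lit 158784, nat_lit 151712, nat_lit 148448, nat_lit 143632, nat_lit 142224, nat_lit 139040, nat_lit 131908, nat_lit 1580, nat_lit 5768, nat_lit 9136, nat_lit 13552, nat_lit 17728, nat_lit 22272, nat_lit 25984, nat_lit 29696, nat_lit 33792, nat_lit 37888, nat_lit 41383, nat_lit 37077, nat_lit 33932, nat_lit 29210, nat_lit 24705, nat_lit 20759, nat_lit 16418, nat_lit 12294, nat_lit 8200, nat_lit 4101, nat_lit 2]⟩⟩⟩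
def phn52 : AP := ⟨[nat_lit 673, nat_lit 289], [], (nat_lit 686), ⟨[nat_lit 0, nat_lit 43, nat_lit 65], [nat_lit 0, nat_lit 20, nat_lit 53], ⟨[nat_lit 0xb2896bc9353877140e0b54b241971], [nat_lit 174080, nat_lit 170496, nat_lit 166912, nat_lit 160128, nat_lit 159168, nat_lit 154688, nat_lit 148192, nat_lit 145632, nat_lit 140512, nat_lit 136932, nat_lit 131135, nat_lit 78, nat_lit 5296, nat_lit 9584, nat_lit 13920, nat_lit 21440, nat_lit 25600, nat_lit 28928, nat_lit 33792, nat_lit 41845, nat_lit 37997, nat_lit 32807, nat_lit 28680, nat_lit 25660, nat_lit 20745, nat_lit 16896, nat_lit 8226, nat_lit 64]⟩⟩⟩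
def phn53 : AP := ⟨[nat_lit 672, nat_lit 285, nat_lit 351, nat_lit 351], [], (nat_lit 672), ⟨[nat_lit 0, nat_lit 39, nat_lit 60], [nat_lit 85, nat_lit 59], ⟨[nat_lit 0x6b833852e05a4713a2af91046b158a], [nat_lit 168448, nat_lit 165632, nat_lit 160384, nat_lit 155840, nat_lit 154176, nat_lit 147968, nat_lit 144560, nat_lit 139556, nat_lit 136206, nat_lit 132650, nat_lit 1842, nat_lit 4380, nat_lit 9232, nat_lit 12768, nat_lit 18368, nat_lit 20608, nat_lit 26496, nat_lit 29696, nat_lit 37888, nat_lit 41200, nat_lit 37339, nat_lit 33523, nat_lit 28788, nat_lit 24715, nat_lit 20493, nat_lit 16463, nat_lit 12322, nat_lit 8203]⟩⟩⟩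
def phn54 : AP := ⟨[nat_lit 70, nat_lit 46], [], (nat_lit 122), ⟨[nat_lit 0, nat_lit 87, nat_lit 52], [nat_lit 60], ⟨[nat_lit 0x1dc0b53d95988cd091d24d230414f6], [nat_lit 174080, nat_lit 171520, nat_lit 166144, nat_lit 160128, nat_lit 158144, nat_lit 154272, nat_lit 148752, nat_lit 147432, nat_lit 139496, nat_lit 135256, nat_lit 132690, nat_lit 1488, nat_lit 5668, nat_lit 9592, nat_lit 13920, nat_lit 16672, nat_lit 20608, nat_lit 26112, nat_lit 29184, nat_lit 37888, nat_lit 41896, nat_lit 37202, nat_lit 32776, nat_lit 29728, nat_lit 25109, nat_lit 21510, nat_lit 16906, nat_lit 8226, nat_lit 4097]⟩⟩⟩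
def lhn55 : List AP := [⟨[nat_lit 37, nat_lit 629], [], (nat_lit 1032), ⟨[nat_lit 0, nat_lit 1, nat_lit 66], [nat_lit 3, nat_lit 53], ⟨[nat_lit 0x582e99c4b3309448e0545d4f946ad], [nat_lit 174080, nat_lit 169472, nat_lit 164352, nat_lit 162816, nat_lit 157440, nat_lit 153216, nat_lit 151472, nat_lit 146480, nat_lit 142836, nat_lit 138352, nat_lit 133933, nat_lit 1004, nat_lit 5900, nat_lit 8824, nat_lit 14176, nat_lit 17376, nat_lit 20608, nat_lit 25472, nat_lit 33792, nat_lit 41246, nat_lit 37371, nat_lit 33404, nat_lit 28947, nat_lit 24585, nat_lit 20491, nat_lit 16523, nat_lit 12304, nat_lit 8195, nat_lit 4101, nat_lit 4]⟩⟩⟩]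
theorem shn55 : Suf hnT 19005990 (ldrop (lapp hnwr3 [2, 0, 1]) 49) (apW dcM phn54) (tgtN dcM phn54.e) := Suf.fin' (l := lhn55) (by decide +kernel)
def lhn54 : List AP := [⟨[nat_lit 352, nat_lit 355, nat_lit 354, nat_lit 290], [], (nat_lit 678), ⟨[nat_lit 0, nat_lit 15, nat_lit 47], [nat_lit 0, nat_lit 1, nat_lit 52], ⟨[nat_lit 0x51caf04ae458c2eb22ac9b62911a90], [nat_lit 168960, nat_lit 160768, nat_lit 155776, nat_lit 153152, nat_lit 149392, nat_lit 144496, nat_lit 140368, nat_lit 136262, nat_lit 132694, nat_lit 1076, nat_lit 5604, nat_lit 9216, nat_lit 13152, nat_lit 16416, nat_lit 21504, nat_lit 25600, nat_lit 29952, nat_lit 37888, nat_lit 41881, nat_lit 38360, nat_lit 33795, nat_lit 28954, nat_lit 25137, nat_lit 20568, nat_lit 16450, nat_lit 12324, nat_lit 8200, nat_lit 4112, nat_lit 512]⟩⟩⟩,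
  ⟨[nat_lit 217, nat_lit 663, nat_lit 662], [], (nat_lit 1088), ⟨[nat_lit 0, nat_lit 34, nat_lit 47], [nat_lit 0, nat_lit 13, nat_lit 46], ⟨[nat_lit 0x8dc4644a6c3a9a47ae954b801b0e05], [nat_lit 173056, nat_lit 168448, nat_lit 165120, nat_lit 161408, nat_lit 157376, nat_lit 153248, nat_lit 149056, nat_lit 145024, nat_lit 140972, nat_lit 136816, nat_lit 131509, nat_lit 568, nat_lit 4160, nat_lit 8560, nat_lit 12416, nat_lit 17120, nat_lit 21184, nat_lit 24704, nat_lit 33792, nat_lit 41540, nat_lit 38275, nat_lit 33532, nat_lit 28761, nat_lit 24727, nat_lit 20763, nat_lit 16523, nat_lit 12359, nat_lit 8258, nat_lit 4112, nat_lit 8]⟩⟩⟩]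
theorem shn54 : Suf hnT 19005990 (ldrop (lapp hnwr3 [2, 0, 1]) 39) (apW dcM phn53) (tgtN dcM phn53.e) := Suf.seg (l := lhn54) (by decide +kernel) shn55
def lhn53 : List AP := [⟨[nat_lit 231, nat_lit 229, nat_lit 664, nat_lit 230], [], (nat_lit 502), ⟨[nat_lit 0, nat_lit 34, nat_lit 64], [nat_lit 25, nat_lit 60], ⟨[nat_lit 0x290039c2b74298e7a5abb4a34104c7], [nat_lit 173056, nat_lit 165120, nat_lit 160640, nat_lit 159680, nat_lit 153152, nat_lit 148752, nat_lit 144720, nat_lit 141140, nat_lit 136992, nat_lit 131181, nat_lit 1246, nat_lit 5120, nat_lit 9216, nat_lit 13312, nat_lit 17376, nat_lit 21632, nat_lit 25600, nat_lit 30208, nat_lit 37888, nat_lit 41024, nat_lit 37277, nat_lit 33383, nat_lit 28986, nat_lit 24619, nat_lit 20547, nat_lit 16650, nat_lit 12324, nat_lit 8202, nat_lit 4100]⟩⟩⟩,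
  ⟨[nat_lit 227, nat_lit 231, nat_lit 667, nat_lit 222, nat_lit 224], [], (nat_lit 608), ⟨[nat_lit 0, nat_lit 88, nat_lit 61], [nat_lit 0, nat_lit 43, nat_lit 93], ⟨[nat_lit 0x612d448a372b50b305c054ea33be50], [nat_lit 164096, nat_lit 160384, nat_lit 156736, nat_lit 151648, nat_lit 147520, nat_lit 143480, nat_lit 142916, nat_lit 135928, nat_lit 133029, nat_lit 1246, nat_lit 4264, nat_lit 10088, nat_lit 14112, nat_lit 16992, nat_lit 20544, nat_lit 29440, nat_lit 41981, nat_lit 36940, nat_lit 34030, nat_lit 29764, nat_lit 24591, nat_lit 20492, nat_lit 16525, nat_lit 12293, nat_lit 4161, nat_lit 8]⟩⟩⟩]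
theorem shn53 : Suf hnT 19005990 (ldrop (lapp hnwr3 [2, 0, 1]) 29) (apW dcM phn52) (tgtN dcM phn52.e) := Suf.seg (l := lhn53) (by decide +kernel) shn54
def lhn52 : List AP := [⟨[nat_lit 290, nat_lit 669, nat_lit 291, nat_lit 284], [], (nat_lit 651), ⟨[nat_lit 28, nat_lit 57], [nat_lit 81, nat_lit 48], ⟨[nat_lit 0xabeea60d609868533927b12028c90d], [nat_lit 173056, nat_lit 169472, nat_lit 164352, nat_lit 160384, nat_lit 156480, nat_lit 147904, nat_lit 146952, nat_lit 139716, nat_lit 135840, nat_lit 131230, nat_lit 484, nat_lit 6132, nat_lit 12800, nat_lit 20672, nat_lit 24832, nat_lit 28928, nat_lit 33280, nat_lit 37888, nat_lit 41496, nat_lit 38142, nat_lit 32903, nat_lit 29007, nat_lit 24741, nat_lit 20550, nat_lit 17412, nat_lit 8208, nat_lit 4129]⟩⟩⟩,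
  ⟨[nat_lit 290, nat_lit 292, nat_lit 355, nat_lit 357], [], (nat_lit 650), ⟨[nat_lit 33, nat_lit 55], [nat_lit 0, nat_lit 85, nat_lit 91], ⟨[nat_lit 0x9c18a23d653c6c24b4033065475517], [nat_lit 174080, nat_lit 169984, nat_lit 165888, nat_lit 159488, nat_lit 154688, nat_lit 147600, nat_lit 146480, nat_lit 141036, nat_lit 137168, nat_lit 131573, nat_lit 796, nat_lit 5372, nat_lit 9904, nat_lit 13920, nat_lit 16576, nat_lit 20736, nat_lit 26496, nat_lit 37888, nat_lit 40998, nat_lit 37342, nat_lit 32992, nat_lit 29032, nat_lit 24872, nat_lit 20507, nat_lit 16419, nat_lit 12292, nat_lit 8203, nat_lit 4101]⟩⟩⟩]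
theorem shn52 : Suf hnT 19005990 (ldrop (lapp hnwr3 [2, 0, 1]) 19) (apW dcM phn51) (tgtN dcM phn51.e) := Suf.seg (l := lhn52) (by decide +kernel) shn53
def lhn51 : List AP := [⟨[nat_lit 101, nat_lit 101, nat_lit 646, nat_lit 646, nat_lit 78], [], (nat_lit 718), ⟨[nat_lit 0, nat_lit 73, nat_lit 67], [nat_lit 0, nat_lit 18, nat_lit 91], ⟨[nat_lit 0x25e713b1f542ac558a0e1983403532], [nat_lit 168448, nat_lit 165888, nat_lit 160128, nat_lit 156736, nat_lit 154688, nat_lit 149712, nat_lit 147136, nat_lit 142064, nat_lit 138106, nat_lit 132410, nat_lit 492, nat_lit 5572, nat_lit 8680, nat_lit 13552, nat_lit 17920, nat_lit 20992, nat_lit 25728, nat_lit 29184, nat_lit 33792, nat_lit 40970, nat_lit 37266, nat_lit 33332, nat_lit 29042, nat_lit 24741, nat_lit 20571, nat_lit 16459, nat_lit 12295, nat_lit 8200, nat_lit 4101, nat_lit 4]⟩⟩⟩,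
  ⟨[nat_lit 288, nat_lit 669, nat_lit 670, nat_lit 289, nat_lit 284], [], (nat_lit 668), ⟨[nat_lit 88], [nat_lit 0, nat_lit 2, nat_lit 59], ⟨[nat_lit 0x3c5b4594c3b3a64609e892a000a6f5], [nat_lit 169472, nat_lit 164608, nat_lit 162432, nat_lit 157504, nat_lit 152064, nat_lit 148992, nat_lit 143488, nat_lit 140448, nat_lit 136214, nat_lit 132569, nat_lit 1634, nat_lit 4756, nat_lit 9664, nat_lit 14160, nat_lit 16800, nat_lit 20608, nat_lit 26240, nat_lit 30464, nat_lit 33792, nat_lit 37888, nat_lit 41425, nat_lit 37248, nat_lit 33280, nat_lit 28992, nat_lit 24632, nat_lit 16391, nat_lit 12358, nat_lit 8200, nat_lit 4097]⟩⟩⟩]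
theorem shn51 : Suf hnT 19005990 (ldrop (lapp hnwr3 [2, 0, 1]) 8) (apW dcM phn50) (tgtN dcM phn50.e) := Suf.seg (l := lhn51) (by decide +kernel) shn52
def lhn50 : List AP := [⟨[nat_lit 36, nat_lit 16, nat_lit 40, nat_lit 36, nat_lit 14], [], (nat_lit 197), ⟨[nat_lit 43, nat_lit 69], [nat_lit 0, nat_lit 77, nat_lit 89], ⟨[nat_lit 0xb2b0592973392d2a862981f694507], [nat_lit 168448, nat_lit 165120, nat_lit 160896, nat_lit 156352, nat_lit 153504, nat_lit 149536, nat_lit 143472, nat_lit 140612, nat_lit 135170, nat_lit 132377, nat_lit 1166, nat_lit 5940, nat_lit 9672, nat_lit 14176, nat_lit 16640, nat_lit 21184, nat_lit 25088, nat_lit 33280, nat_lit 41675, nat_lit 37360, nat_lit 32892, nat_lit 29288, nat_lit 24875, nat_lit 20748, nat_lit 16387, nat_lit 12416, nat_lit 8259, nat_lit 4113]⟩⟩⟩,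
  ⟨[nat_lit 106, nat_lit 76, nat_lit 86, nat_lit 102], [], (nat_lit 468), ⟨[nat_lit 0, nat_lit 36, nat_lit 50], [nat_lit 0, nat_lit 21, nat_lit 94], ⟨[nat_lit 0x8ddea38e9634e006caa8485642b982], [nat_lit 173056, nat_lit 168448, nat_lit 164864, nat_lit 160128, nat_lit 155712, nat_lit 153088, nat_lit 148928, nat_lit 146080, nat_lit 139924, nat_lit 135950, nat_lit 131078, nat_lit 1814, nat_lit 4404, nat_lit 10168, nat_lit 12416, nat_lit 16512, nat_lit 22272, nat_lit 24832, nat_lit 29952, nat_lit 34304, nat_lit 41350, nat_lit 37032, nat_lit 33806, nat_lit 29014, nat_lit 24717, nat_lit 20501, nat_lit 16392, nat_lit 32]⟩⟩⟩]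
theorem hncr3_1 : Suf hnT 19005990 (lapp hnwr3 [2, 0, 1]) (iC2 :: apW dcM q0) (tgtN dcM q0.e) := Suf.seg (l := lhn50) (by decide +kernel) shn51

def phn56 : AP := ⟨[nat_lit 76, nat_lit 106, nat_lit 79], [], (nat_lit 180), ⟨[nat_lit 21, nat_lit 47], [nat_lit 31, nat_lit 89], ⟨[nat_lit 0x411953a68e58a2a998a11bdb004af6], [nat_lit 175104, nat_lit 166912, nat_lit 163200, nat_lit 158848, nat_lit 152064, nat_lit 148960, nat_lit 144232, nat_lit 142920, nat_lit 137824, nat_lit 132654, nat_lit 1918, nat_lit 4872, nat_lit 9928, nat_lit 12976, nat_lit 18176, nat_lit 22336, nat_lit 25472, nat_lit 29440, nat_lit 33792, nat_lit 41310, nat_lit 37350, nat_lit 33434, nat_lit 28781, nat_lit 24586, nat_lit 20638, nat_lit 16421, nat_lit 12289, nat_lit 8194, nat_lit 4101]⟩⟩⟩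
def phn57 : AP := ⟨[nat_lit 266, nat_lit 266, nat_lit 667, nat_lit 264], [], (nat_lit 701), ⟨[nat_lit 25, nat_lit 52], [nat_lit 82, nat_lit 92], ⟨[nat_lit 0x710a7b0512041747998d98955ba623], [nat_lit 168448, nat_lit 165120, nat_lit 161408, nat_lit 157312, nat_lit 152224, nat_lit 148480, nat_lit 144024, nat_lit 140280, nat_lit 137372, nat_lit 131660, nat_lit 1148, nat_lit 4608, nat_lit 9664, nat_lit 12800, nat_lit 17728, nat_lit 20672, nat_lit 26112, nat_lit 30208, nat_lit 41926, nat_lit 37122, nat_lit 33489, nat_lit 28990, nat_lit 24751, nat_lit 20481, nat_lit 16397, nat_lit 12291, nat_lit 8]⟩⟩⟩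
def phn58 : AP := ⟨[nat_lit 228, nat_lit 225, nat_lit 260, nat_lit 226], [], (nat_lit 545), ⟨[nat_lit 7, nat_lit 60], [nat_lit 1, nat_lit 49], ⟨[nat_lit 0xbad53025c5ac8c441c4fa31b11c2c1], [nat_lit 174080, nat_lit 168960, nat_lit 166656, nat_lit 162048, nat_lit 158592, nat_lit 152736, nat_lit 148496, nat_lit 144456, nat_lit 141352, nat_lit 137968, nat_lit 132739, nat_lit 698, nat_lit 4160, nat_lit 9664, nat_lit 12352, nat_lit 18208, nat_lit 21440, nat_lit 24704, nat_lit 29184, nat_lit 33280, nat_lit 37888, nat_lit 41880, nat_lit 37138, nat_lit 33468, nat_lit 28785, nat_lit 24582, nat_lit 20610, nat_lit 16421, nat_lit 12294, nat_lit 8194, nat_lit 4101, nat_lit 2]⟩⟩⟩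
def phn59 : AP := ⟨[nat_lit 265, nat_lit 225, nat_lit 233, nat_lit 259], [], (nat_lit 544), ⟨[nat_lit 28, nat_lit 51], [nat_lit 0, nat_lit 9, nat_lit 61], ⟨[nat_lit 0x8960c259d53806fa2c52419aa9dd21], [nat_lit 173056, nat_lit 170496, nat_lit 164352, nat_lit 163072, nat_lit 156864, nat_lit 154656, nat_lit 150016, nat_lit 146032, nat_lit 140528, nat_lit 136596, nat_lit 134955, nat_lit 698, nat_lit 5424, nat_lit 9928, nat_lit 13056, nat_lit 17280, nat_lit 21568, nat_lit 25728, nat_lit 30208, nat_lit 33280, nat_lit 37888, nat_lit 41587, nat_lit 37327, nat_lit 33468, nat_lit 29267, nat_lit 24857, nat_lit 20501, nat_lit 16394, nat_lit 12294, nat_lit 4105]⟩⟩⟩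
def phn60 : AP := ⟨[nat_lit 102], [], (nat_lit 196), ⟨[nat_lit 0, nat_lit 39, nat_lit 59], [nat_lit 86, nat_lit 48], ⟨[nat_lit 0x14a2e6100768e9742de1828d54cec5], [nat_lit 164096, nat_lit 160128, nat_lit 156736, nat_lit 153152, nat_lit 151104, nat_lit 145336, nat_lit 140508, nat_lit 136016, nat_lit 132291, nat_lit 568, nat_lit 4340, nat_lit 9384, nat_lit 13856, nat_lit 16512, nat_lit 21760, nat_lit 26112, nat_lit 29696, nat_lit 37888, nat_lit 41575, nat_lit 37998, nat_lit 32878, nat_lit 28688, nat_lit 24579, nat_lit 20492, nat_lit 16391, nat_lit 12326, nat_lit 8208, nat_lit 4100, nat_lit 2]⟩⟩⟩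
def lhn61 : List AP := [⟨[nat_lit 632, nat_lit 39], [], (nat_lit 1032), ⟨[nat_lit 0, nat_lit 84, nat_lit 70], [nat_lit 30, nat_lit 69], ⟨[nat_lit 0xb4995999c7189f15a9b0ba08028689], [nat_lit 175104, nat_lit 168448, nat_lit 164608, nat_lit 160896, nat_lit 156736, nat_lit 152960, nat_lit 149040, nat_lit 144384, nat_lit 139876, nat_lit 136390, nat_lit 132377, nat_lit 1478, nat_lit 4128, nat_lit 9664, nat_lit 12752, nat_lit 16416, nat_lit 21184, nat_lit 25088, nat_lit 29696, nat_lit 33280, nat_lit 41728, nat_lit 38228, nat_lit 33856, nat_lit 28784, nat_lit 24761, nat_lit 20485, nat_lit 16519, nat_lit 12353, nat_lit 8209, nat_lit 4100, nat_lit 16]⟩⟩⟩]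
theorem shn61 : Suf hnT 19005990 (ldrop (lapp hnwr3 [3, 0, 1]) 49) (apW dcM phn60) (tgtN dcM phn60.e) := Suf.fin' (l := lhn61) (by decide +kernel)
def lhn60 : List AP := [⟨[nat_lit 226, nat_lit 667, nat_lit 223], [], (nat_lit 550), ⟨[nat_lit 0, nat_lit 71, nat_lit 94], [nat_lit 0, nat_lit 83, nat_lit 66], ⟨[nat_lit 0xef591cd108a967a98b9920573528], [nat_lit 174080, nat_lit 164096, nat_lit 162048, nat_lit 156352, nat_lit 151968, nat_lit 150608, nat_lit 145984, nat_lit 141384, nat_lit 137904, nat_lit 133529, nat_lit 1438, nat_lit 5316, nat_lit 8624, nat_lit 13504, nat_lit 16512, nat_lit 21568, nat_lit 25088, nat_lit 29184, nat_lit 34304, nat_lit 41361, nat_lit 37121, nat_lit 32815, nat_lit 29776, nat_lit 24704, nat_lit 20739, nat_lit 17408, nat_lit 12321, nat_lit 8194, nat_lit 4097]⟩⟩⟩,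
  ⟨[nat_lit 265, nat_lit 222], [], (nat_lit 1094), ⟨[nat_lit 82, nat_lit 52], [nat_lit 0, nat_lit 6, nat_lit 59], ⟨[nat_lit 0x6904a2a02fac860bc4e69aec983a8c], [nat_lit 168960, nat_lit 167168, nat_lit 160256, nat_lit 156288, nat_lit 152416, nat_lit 147584, nat_lit 144056, nat_lit 139576, nat_lit 136838, nat_lit 131388, nat_lit 1580, nat_lit 5604, nat_lit 9904, nat_lit 13456, nat_lit 17344, nat_lit 20544, nat_lit 24832, nat_lit 29440, nat_lit 33792, nat_lit 41182, nat_lit 37014, nat_lit 29299, nat_lit 24632, nat_lit 20563, nat_lit 16458, nat_lit 12323, nat_lit 4112, nat_lit 32]⟩⟩⟩]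
theorem shn60 : Suf hnT 19005990 (ldrop (lapp hnwr3 [3, 0, 1]) 39) (apW dcM phn59) (tgtN dcM phn59.e) := Suf.seg (l := lhn60) (by decide +kernel) shn61
def lhn59 : List AP := [⟨[nat_lit 228, nat_lit 668, nat_lit 225, nat_lit 230], [], (nat_lit 756), ⟨[nat_lit 0, nat_lit 36, nat_lit 51], [nat_lit 0, nat_lit 26, nat_lit 61], ⟨[nat_lit 0x34e2a285626da43041f73d51472584], [nat_lit 165376, nat_lit 161408, nat_lit 157376, nat_lit 153440, nat_lit 147888, nat_lit 145152, nat_lit 139704, nat_lit 137924, nat_lit 132333, nat_lit 1794, nat_lit 5768, nat_lit 9664, nat_lit 13552, nat_lit 16960, nat_lit 21056, nat_lit 25728, nat_lit 30464, nat_lit 37888, nat_lit 41307, nat_lit 37096, nat_lit 32949, nat_lit 28794, nat_lit 24708, nat_lit 20491, nat_lit 16394, nat_lit 12294, nat_lit 4104, nat_lit 32]⟩⟩⟩,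
  ⟨[nat_lit 353, nat_lit 352, nat_lit 295, nat_lit 290], [], (nat_lit 700), ⟨[nat_lit 8, nat_lit 46], [nat_lit 0, nat_lit 79, nat_lit 58], ⟨[nat_lit 0x5b65538a33424243386fa14178594c], [nat_lit 168960, nat_lit 165376, nat_lit 159872, nat_lit 157312, nat_lit 152000, nat_lit 147648, nat_lit 144712, nat_lit 142028, nat_lit 137026, nat_lit 131232, nat_lit 1580, nat_lit 4408, nat_lit 9424, nat_lit 12816, nat_lit 17536, nat_lit 21824, nat_lit 25216, nat_lit 30464, nat_lit 37888, nat_lit 41556, nat_lit 37332, nat_lit 33464, nat_lit 29229, nat_lit 24742, nat_lit 20499, nat_lit 16397, nat_lit 12305, nat_lit 8201, nat_lit 4097, nat_lit 2]⟩⟩⟩]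
theorem shn59 : Suf hnT 19005990 (ldrop (lapp hnwr3 [3, 0, 1]) 29) (apW dcM phn58) (tgtN dcM phn58.e) := Suf.seg (l := lhn59) (by decide +kernel) shn60
def lhn58 : List AP := [⟨[nat_lit 352, nat_lit 671, nat_lit 353, nat_lit 353, nat_lit 352], [], (nat_lit 760), ⟨[nat_lit 0, nat_lit 26, nat_lit 56], [nat_lit 3, nat_lit 69], ⟨[nat_lit 0x3cacf7344a251905d6e13146944413], [nat_lit 173056, nat_lit 168448, nat_lit 166912, nat_lit 162432, nat_lit 159616, nat_lit 155104, nat_lit 148512, nat_lit 147288, nat_lit 142624, nat_lit 135704, nat_lit 134874, nat_lit 78, nat_lit 4684, nat_lit 8680, nat_lit 13952, nat_lit 18336, nat_lit 21440, nat_lit 24832, nat_lit 29696, nat_lit 33280, nat_lit 41607, nat_lit 37035, nat_lit 32865, nat_lit 28687, nat_lit 24883, nat_lit 20495, nat_lit 16463, nat_lit 12306, nat_lit 8195, nat_lit 4101, nat_lit 4]⟩⟩⟩,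
  ⟨[nat_lit 353, nat_lit 669, nat_lit 670, nat_lit 671], [], (nat_lit 648), ⟨[nat_lit 38, nat_lit 50], [nat_lit 0, nat_lit 14, nat_lit 47], ⟨[nat_lit 0x9418b185e9ab556410ce8d0a204cf7], [nat_lit 169472, nat_lit 164608, nat_lit 161664, nat_lit 156736, nat_lit 151648, nat_lit 148528, nat_lit 143888, nat_lit 139780, nat_lit 137352, nat_lit 131525, nat_lit 1142, nat_lit 4328, nat_lit 8864, nat_lit 13456, nat_lit 18112, nat_lit 26368, nat_lit 29952, nat_lit 41882, nat_lit 36994, nat_lit 34036, nat_lit 29240, nat_lit 24612, nat_lit 20556, nat_lit 16398, nat_lit 12307, nat_lit 8202, nat_lit 4097]⟩⟩⟩]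
theorem shn58 : Suf hnT 19005990 (ldrop (lapp hnwr3 [3, 0, 1]) 19) (apW dcM phn57) (tgtN dcM phn57.e) := Suf.seg (l := lhn58) (by decide +kernel) shn59
def lhn57 : List AP := [⟨[nat_lit 643, nat_lit 49, nat_lit 47, nat_lit 67, nat_lit 48], [], (nat_lit 566), ⟨[nat_lit 42, nat_lit 51], [nat_lit 0, nat_lit 6, nat_lit 70], ⟨[nat_lit 0x1166492d00538f533d370c29668e2c], [nat_lit 171520, nat_lit 166656, nat_lit 163712, nat_lit 159296, nat_lit 152672, nat_lit 149904, nat_lit 147352, nat_lit 140388, nat_lit 137960, nat_lit 131956, nat_lit 210, nat_lit 4568, nat_lit 8424, nat_lit 12800, nat_lit 16800, nat_lit 21376, nat_lit 25344, nat_lit 28928, nat_lit 34304, nat_lit 41794, nat_lit 37952, nat_lit 33463, nat_lit 28706, nat_lit 25611, nat_lit 20498, nat_lit 16385, nat_lit 12293, nat_lit 8203, nat_lit 8]⟩⟩⟩,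
  ⟨[nat_lit 289, nat_lit 357, nat_lit 351, nat_lit 286], [], (nat_lit 1200), ⟨[nat_lit 77, nat_lit 53], [nat_lit 83, nat_lit 52], ⟨[nat_lit 0x81504a5552780d68ac619b92d61c57], [nat_lit 174080, nat_lit 171520, nat_lit 165376, nat_lit 162560, nat_lit 158016, nat_lit 153696, nat_lit 147504, nat_lit 144920, nat_lit 140028, nat_lit 138574, nat_lit 135064, nat_lit 1136, nat_lit 4756, nat_lit 8824, nat_lit 13376, nat_lit 16832, nat_lit 22016, nat_lit 24960, nat_lit 30208, nat_lit 33280, nat_lit 37888, nat_lit 41459, nat_lit 36912, nat_lit 33826, nat_lit 28781, nat_lit 24639, nat_lit 20495, nat_lit 16394, nat_lit 12311, nat_lit 4097, nat_lit 2]⟩⟩⟩]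
theorem shn57 : Suf hnT 19005990 (ldrop (lapp hnwr3 [3, 0, 1]) 8) (apW dcM phn56) (tgtN dcM phn56.e) := Suf.seg (l := lhn57) (by decide +kernel) shn58
def lhn56 : List AP := [⟨[nat_lit 17, nat_lit 40, nat_lit 38, nat_lit 632, nat_lit 631, nat_lit 40], [], (nat_lit 150), ⟨[nat_lit 80, nat_lit 61], [nat_lit 23, nat_lit 68], ⟨[nat_lit 0xad15265ce2780d69b9a92c08888c2b], [nat_lit 175104, nat_lit 169472, nat_lit 164608, nat_lit 160512, nat_lit 157888, nat_lit 153856, nat_lit 150080, nat_lit 145320, nat_lit 142828, nat_lit 137004, nat_lit 134322, nat_lit 1966, nat_lit 4104, nat_lit 8200, nat_lit 12800, nat_lit 17088, nat_lit 20928, nat_lit 24704, nat_lit 29184, nat_lit 33792, nat_lit 41939, nat_lit 38129, nat_lit 33399, nat_lit 29712, nat_lit 24732, nat_lit 21009, nat_lit 16387, nat_lit 12356, nat_lit 8256, nat_lit 4100]⟩⟩⟩,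
  ⟨[nat_lit 77, nat_lit 85], [], (nat_lit 194), ⟨[nat_lit 26, nat_lit 54], [nat_lit 76, nat_lit 91], ⟨[nat_lit 0xacd0f9518b814511dae60b5c70112a], [nat_lit 173056, nat_lit 168448, nat_lit 164352, nat_lit 159872, nat_lit 156608, nat_lit 153600, nat_lit 145352, nat_lit 139912, nat_lit 136850, nat_lit 132601, nat_lit 1842, nat_lit 5604, nat_lit 8896, nat_lit 12656, nat_lit 16416, nat_lit 21376, nat_lit 24704, nat_lit 28928, nat_lit 34304, nat_lit 41835, nat_lit 38369, nat_lit 33995, nat_lit 29012, nat_lit 24730, nat_lit 20566, nat_lit 16397, nat_lit 12306, nat_lit 8203]⟩⟩⟩]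
theorem hncr3_2 : Suf hnT 19005990 (lapp hnwr3 [3, 0, 1]) (iC3 :: apW dcM q0) (tgtN dcM q0.e) := Suf.seg (l := lhn56) (by decide +kernel) shn57

def phn62 : AP := ⟨[nat_lit 177], [], (nat_lit 390), ⟨[nat_lit 25, nat_lit 60], [nat_lit 10, nat_lit 54], ⟨[nat_lit 0x41e935462b28eb63ae40a1b12d272], [nat_lit 174080, nat_lit 169984, nat_lit 163072, nat_lit 158336, nat_lit 154976, nat_lit 149216, nat_lit 140204, nat_lit 137232, nat_lit 134969, nat_lit 1762, nat_lit 4456, nat_lit 9352, nat_lit 13312, nat_lit 16896, nat_lit 26112, nat_lit 33280, nat_lit 37888, nat_lit 41729, nat_lit 38152, nat_lit 33808, nat_lit 28782, nat_lit 24739, nat_lit 20487, nat_lit 16640, nat_lit 12356, nat_lit 8226, nat_lit 4129]⟩⟩⟩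
def phn63 : AP := ⟨[nat_lit 171, nat_lit 180, nat_lit 176], [], (nat_lit 440), ⟨[nat_lit 15, nat_lit 89], [nat_lit 85, nat_lit 54], ⟨[nat_lit 0x58a8ad26e792066c9493dc6b8b022], [nat_lit 173056, nat_lit 168448, nat_lit 164608, nat_lit 161408, nat_lit 155712, nat_lit 154944, nat_lit 149216, nat_lit 144360, nat_lit 140076, nat_lit 135492, nat_lit 132294, nat_lit 586, nat_lit 4128, nat_lit 8504, nat_lit 12784, nat_lit 17760, nat_lit 20736, nat_lit 25216, nat_lit 29952, nat_lit 33792, nat_lit 37888, nat_lit 41735, nat_lit 37229, nat_lit 32782, nat_lit 28728, nat_lit 25105, nat_lit 16454, nat_lit 12306, nat_lit 8194, nat_lit 512]⟩⟩⟩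
def phn64 : AP := ⟨[nat_lit 462, nat_lit 421, nat_lit 412], [], (nat_lit 942), ⟨[nat_lit 0, nat_lit 73, nat_lit 56], [nat_lit 0, nat_lit 76, nat_lit 58], ⟨[nat_lit 0xb4c6d09100855c24d0b77ad8751a32], [nat_lit 168960, nat_lit 165376, nat_lit 160768, nat_lit 157248, nat_lit 152608, nat_lit 150624, nat_lit 143376, nat_lit 141056, nat_lit 136074, nat_lit 132952, nat_lit 1810, nat_lit 5372, nat_lit 10120, nat_lit 14224, nat_lit 17408, nat_lit 22080, nat_lit 26496, nat_lit 41710, nat_lit 38398, nat_lit 33291, nat_lit 29756, nat_lit 24741, nat_lit 20548, nat_lit 16389, nat_lit 12546, nat_lit 8209, nat_lit 4129, nat_lit 8]⟩⟩⟩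
def phn65 : AP := ⟨[nat_lit 219, nat_lit 172, nat_lit 175], [], (nat_lit 400), ⟨[nat_lit 35, nat_lit 57], [nat_lit 79, nat_lit 52], ⟨[nat_lit 0x28536891a664ab4128f7740609bd68], [nat_lit 173056, nat_lit 168448, nat_lit 161152, nat_lit 157632, nat_lit 153248, nat_lit 150192, nat_lit 145032, nat_lit 140416, nat_lit 136592, nat_lit 132257, nat_lit 846, nat_lit 5064, nat_lit 10216, nat_lit 13920, nat_lit 16640, nat_lit 21120, nat_lit 24704, nat_lit 29440, nat_lit 33792, nat_lit 37888, nat_lit 41680, nat_lit 36891, nat_lit 32995, nat_lit 28955, nat_lit 24744, nat_lit 20639, nat_lit 16399, nat_lit 12310, nat_lit 8211, nat_lit 8]⟩⟩⟩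
def phn66 : AP := ⟨[nat_lit 217], [], (nat_lit 390), ⟨[nat_lit 0, nat_lit 77, nat_lit 56], [nat_lit 0, nat_lit 72, nat_lit 48], ⟨[nat_lit 0x7c155b92c26b8054c68c3050b38e53], [nat_lit 168448, nat_lit 165632, nat_lit 160128, nat_lit 155968, nat_lit 152576, nat_lit 151200, nat_lit 144376, nat_lit 141136, nat_lit 135234, nat_lit 131352, nat_lit 606, nat_lit 5080, nat_lit 9392, nat_lit 14016, nat_lit 21056, nat_lit 26240, nat_lit 28928, nat_lit 37888, nat_lit 41226, nat_lit 37087, nat_lit 32966, nat_lit 29014, nat_lit 24612, nat_lit 20569, nat_lit 16386, nat_lit 12324, nat_lit 8225, nat_lit 4112]⟩⟩⟩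
def lhn67 : List AP := [⟨[], [], (nat_lit 1034), ⟨[nat_lit 2, nat_lit 47], [nat_lit 7, nat_lit 68], ⟨[nat_lit 0x9d56c201ae7d2483a92130e11158b7], [nat_lit 173056, nat_lit 168960, nat_lit 164864, nat_lit 161024, nat_lit 155712, nat_lit 152256, nat_lit 147488, nat_lit 144864, nat_lit 140504, nat_lit 135870, nat_lit 133758, nat_lit 1268, nat_lit 4540, nat_lit 9288, nat_lit 13888, nat_lit 17632, nat_lit 22272, nat_lit 25344, nat_lit 29440, nat_lit 33280, nat_lit 41301, nat_lit 37284, nat_lit 32779, nat_lit 29305, nat_lit 24577, nat_lit 21019, nat_lit 16397, nat_lit 12308, nat_lit 8209, nat_lit 4128, nat_lit 2]⟩⟩⟩]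
theorem shn67 : Suf hnT 2048 (ldrop (lapp hnwr3 [1, 0, 1]) 49) (apW dcM phn66) (tgtN dcM phn66.e) := Suf.fin' (l := lhn67) (by decide +kernel)
def lhn66 : List AP := [⟨[nat_lit 171, nat_lit 212, nat_lit 173], [], (nat_lit 404), ⟨[nat_lit 0, nat_lit 73, nat_lit 51], [nat_lit 28, nat_lit 69], ⟨[nat_lit 0xb12686840335249516377b04e82cf5], [nat_lit 173056, nat_lit 164352, nat_lit 160000, nat_lit 157376, nat_lit 153056, nat_lit 148640, nat_lit 145392, nat_lit 141188, nat_lit 139196, nat_lit 132375, nat_lit 1760, nat_lit 4668, nat_lit 8608, nat_lit 13264, nat_lit 17984, nat_lit 20608, nat_lit 25984, nat_lit 29696, nat_lit 37888, nat_lit 41676, nat_lit 36911, nat_lit 32955, nat_lit 28778, nat_lit 24598, nat_lit 20612, nat_lit 16394, nat_lit 12294, nat_lit 8202, nat_lit 4105]⟩⟩⟩,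
  ⟨[nat_lit 216, nat_lit 170, nat_lit 175], [], (nat_lit 441), ⟨[nat_lit 0, nat_lit 43, nat_lit 68], [nat_lit 2, nat_lit 66], ⟨[nat_lit 0x4c2d1416877cc836aaee648c0aac41], [nat_lit 173056, nat_lit 169472, nat_lit 165376, nat_lit 163072, nat_lit 151872, nat_lit 148592, nat_lit 143392, nat_lit 140864, nat_lit 136312, nat_lit 132004, nat_lit 1760, nat_lit 5084, nat_lit 8320, nat_lit 13264, nat_lit 16832, nat_lit 21376, nat_lit 26368, nat_lit 29696, nat_lit 33792, nat_lit 37888, nat_lit 41088, nat_lit 37152, nat_lit 33492, nat_lit 24855, nat_lit 20547, nat_lit 16645, nat_lit 12295, nat_lit 8194, nat_lit 4100, nat_lit 8]⟩⟩⟩]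
theorem shn66 : Suf hnT 2048 (ldrop (lapp hnwr3 [1, 0, 1]) 39) (apW dcM phn65) (tgtN dcM phn65.e) := Suf.seg (l := lhn66) (by decide +kernel) shn67
def lhn65 : List AP := [⟨[nat_lit 677, nat_lit 414, nat_lit 462, nat_lit 412], [], (nat_lit 940), ⟨[nat_lit 0, nat_lit 76, nat_lit 53], [nat_lit 33, nat_lit 91], ⟨[nat_lit 0x21f63408555c2e65123136ab3c653], [nat_lit 173056, nat_lit 168448, nat_lit 160000, nat_lit 158336, nat_lit 152640, nat_lit 148656, nat_lit 143616, nat_lit 139648, nat_lit 135606, nat_lit 131220, nat_lit 526, nat_lit 5080, nat_lit 8552, nat_lit 13968, nat_lit 18048, nat_lit 21632, nat_lit 24704, nat_lit 29952, nat_lit 33792, nat_lit 37888, nat_lit 41963, nat_lit 36944, nat_lit 32984, nat_lit 28957, nat_lit 21516, nat_lit 16650, nat_lit 12545, nat_lit 8227, nat_lit 4112]⟩⟩⟩,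
  ⟨[nat_lit 678, nat_lit 419, nat_lit 674, nat_lit 413], [], (nat_lit 1238), ⟨[nat_lit 0, nat_lit 3, nat_lit 63], [nat_lit 0, nat_lit 44, nat_lit 66], ⟨[nat_lit 0x2304d2c4735be574180953a1409eb6], [nat_lit 173056, nat_lit 169984, nat_lit 164352, nat_lit 161152, nat_lit 156672, nat_lit 153216, nat_lit 149232, nat_lit 144312, nat_lit 139928, nat_lit 136492, nat_lit 132392, nat_lit 184, nat_lit 5208, nat_lit 8824, nat_lit 13904, nat_lit 17728, nat_lit 20992, nat_lit 24960, nat_lit 29440, nat_lit 33280, nat_lit 41820, nat_lit 37144, nat_lit 33406, nat_lit 28736, nat_lit 24727, nat_lit 20509, nat_lit 16429, nat_lit 12290, nat_lit 8195, nat_lit 4097]⟩⟩⟩]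
theorem shn65 : Suf hnT 2048 (ldrop (lapp hnwr3 [1, 0, 1]) 29) (apW dcM phn64) (tgtN dcM phn64.e) := Suf.seg (l := lhn65) (by decide +kernel) shn66
def lhn64 : List AP := [⟨[nat_lit 180, nat_lit 216, nat_lit 219, nat_lit 213], [], (nat_lit 440), ⟨[nat_lit 0, nat_lit 5, nat_lit 93], [nat_lit 0, nat_lit 35, nat_lit 57], ⟨[nat_lit 0x8b20459d2d9d008b38b550ef233c41], [nat_lit 174080, nat_lit 168960, nat_lit 165632, nat_lit 162176, nat_lit 155776, nat_lit 153440, nat_lit 150192, nat_lit 146168, nat_lit 141628, nat_lit 137276, nat_lit 133217, nat_lit 1180, nat_lit 4100, nat_lit 10088, nat_lit 13152, nat_lit 21824, nat_lit 25984, nat_lit 30464, nat_lit 33792, nat_lit 37888, nat_lit 41511, nat_lit 37994, nat_lit 32788, nat_lit 28678, nat_lit 25139, nat_lit 20545, nat_lit 16416, nat_lit 12295, nat_lit 8195, nat_lit 4097]⟩⟩⟩,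
  ⟨[nat_lit 215, nat_lit 181, nat_lit 170], [], (nat_lit 858), ⟨[nat_lit 0, nat_lit 9, nat_lit 90], [nat_lit 44, nat_lit 91], ⟨[nat_lit 0x448e3bb1cf0cccb8a8a2800896d2b6], [nat_lit 173056, nat_lit 169472, nat_lit 166400, nat_lit 160128, nat_lit 156992, nat_lit 154400, nat_lit 150432, nat_lit 145776, nat_lit 141728, nat_lit 138172, nat_lit 131955, nat_lit 902, nat_lit 5208, nat_lit 9536, nat_lit 13024, nat_lit 17920, nat_lit 22336, nat_lit 25216, nat_lit 29440, nat_lit 33792, nat_lit 37888, nat_lit 41945, nat_lit 36946, nat_lit 34043, nat_lit 28790, nat_lit 24622, nat_lit 20544, nat_lit 16392, nat_lit 12309, nat_lit 8194, nat_lit 4097]⟩⟩⟩]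
theorem shn64 : Suf hnT 2048 (ldrop (lapp hnwr3 [1, 0, 1]) 19) (apW dcM phn63) (tgtN dcM phn63.e) := Suf.seg (l := lhn64) (by decide +kernel) shn65
def lhn63 : List AP := [⟨[nat_lit 637, nat_lit 21, nat_lit 30, nat_lit 21], [], (nat_lit 391), ⟨[nat_lit 77, nat_lit 48], [nat_lit 0, nat_lit 27, nat_lit 50], ⟨[nat_lit 0xb1d3793a80504a243da41d5908ae66], [nat_lit 174080, nat_lit 171008, nat_lit 166912, nat_lit 163072, nat_lit 155904, nat_lit 154144, nat_lit 151360, nat_lit 144808, nat_lit 142744, nat_lit 136228, nat_lit 132378, nat_lit 1614, nat_lit 6104, nat_lit 9136, nat_lit 12560, nat_lit 17664, nat_lit 20928, nat_lit 26496, nat_lit 29440, nat_lit 41481, nat_lit 36964, nat_lit 32788, nat_lit 28754, nat_lit 24611, nat_lit 20487, nat_lit 16518, nat_lit 13317, nat_lit 8194, nat_lit 4101, nat_lit 2]⟩⟩⟩,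
  ⟨[nat_lit 219, nat_lit 213, nat_lit 177], [], (nat_lit 440), ⟨[nat_lit 0, nat_lit 30, nat_lit 56], [nat_lit 0, nat_lit 22, nat_lit 51], ⟨[nat_lit 0x3e279a256badcd1959021a8955441], [nat_lit 173056, nat_lit 168960, nat_lit 166656, nat_lit 160384, nat_lit 156928, nat_lit 152032, nat_lit 147664, nat_lit 144392, nat_lit 140996, nat_lit 136812, nat_lit 132480, nat_lit 1760, nat_lit 4100, nat_lit 8448, nat_lit 12928, nat_lit 17696, nat_lit 22016, nat_lit 25728, nat_lit 29184, nat_lit 34304, nat_lit 37888, nat_lit 41728, nat_lit 37120, nat_lit 32960, nat_lit 29024, nat_lit 24633, nat_lit 20546, nat_lit 16425, nat_lit 12324, nat_lit 8195, nat_lit 4101, nat_lit 4]⟩⟩⟩]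
theorem shn63 : Suf hnT 2048 (ldrop (lapp hnwr3 [1, 0, 1]) 8) (apW dcM phn62) (tgtN dcM phn62.e) := Suf.seg (l := lhn63) (by decide +kernel) shn64
def lhn62 : List AP := [⟨[nat_lit 638, nat_lit 21, nat_lit 634, nat_lit 638, nat_lit 22, nat_lit 21], [], (nat_lit 338), ⟨[nat_lit 0, nat_lit 87, nat_lit 46], [nat_lit 0, nat_lit 27, nat_lit 55], ⟨[nat_lit 0xb4e4c71aa7101b47dd495c42428e08], [nat_lit 174080, nat_lit 169472, nat_lit 164864, nat_lit 160256, nat_lit 156288, nat_lit 152096, nat_lit 148992, nat_lit 144264, nat_lit 140892, nat_lit 136540, nat_lit 131264, nat_lit 1438, nat_lit 4476, nat_lit 8560, nat_lit 12416, nat_lit 17408, nat_lit 20544, nat_lit 24832, nat_lit 29696, nat_lit 33792, nat_lit 41472, nat_lit 37005, nat_lit 32890, nat_lit 28686, nat_lit 24891, nat_lit 20760, nat_lit 12422, nat_lit 8322, nat_lit 4128, nat_lit 64]⟩⟩⟩,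
  ⟨[nat_lit 660, nat_lit 219, nat_lit 179, nat_lit 170], [], (nat_lit 440), ⟨[nat_lit 30, nat_lit 89], [nat_lit 0, nat_lit 86, nat_lit 92], ⟨[nat_lit 0x242265aa96aa2e96b8609c8e57b022], [nat_lit 175104, nat_lit 170496, nat_lit 166912, nat_lit 160640, nat_lit 155712, nat_lit 153120, nat_lit 150000, nat_lit 145304, nat_lit 140984, nat_lit 139050, nat_lit 133888, nat_lit 1814, nat_lit 4100, nat_lit 8504, nat_lit 14304, nat_lit 17984, nat_lit 20544, nat_lit 25216, nat_lit 29696, nat_lit 33280, nat_lit 41117, nat_lit 36989, nat_lit 32846, nat_lit 28724, nat_lit 24598, nat_lit 20617, nat_lit 16397, nat_lit 12304, nat_lit 8195, nat_lit 4097]⟩⟩⟩]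
theorem hncr3_3 : Suf hnT 2048 (lapp hnwr3 [1, 0, 1]) (apW dcM q1) (tgtN dcM q1.e) := Suf.seg (l := lhn62) (by decide +kernel) shn63

def phn68 : AP := ⟨[nat_lit 24, nat_lit 23, nat_lit 23, nat_lit 23, nat_lit 24], [], (nat_lit 176), ⟨[nat_lit 0, nat_lit 17, nat_lit 56], [nat_lit 26], ⟨[nat_lit 0x3a90e955608448f4cc766de853044c], [nat_lit 174080, nat_lit 171520, nat_lit 164608, nat_lit 163072, nat_lit 158720, nat_lit 154144, nat_lit 148976, nat_lit 144112, nat_lit 139544, nat_lit 137340, nat_lit 134832, nat_lit 2012, nat_lit 4408, nat_lit 8504, nat_lit 13616, nat_lit 17184, nat_lit 22080, nat_lit 26240, nat_lit 29696, nat_lit 33280, nat_lit 37888, nat_lit 41846, nat_lit 38363, nat_lit 32802, nat_lit 28783, nat_lit 24709, nat_lit 20569, nat_lit 16428, nat_lit 12295, nat_lit 8193, nat_lit 4097]⟩⟩⟩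
def phn69 : AP := ⟨[nat_lit 646, nat_lit 83], [], (nat_lit 190), ⟨[nat_lit 81, nat_lit 49], [nat_lit 0, nat_lit 23, nat_lit 48], ⟨[nat_lit 0xe4fa94283126c859b759e828b949], [nat_lit 169472, nat_lit 164352, nat_lit 163200, nat_lit 157504, nat_lit 152960, nat_lit 149360, nat_lit 143624, nat_lit 141300, nat_lit 136506, nat_lit 131623, nat_lit 724, nat_lit 5444, nat_lit 10032, nat_lit 13664, nat_lit 18336, nat_lit 20992, nat_lit 25728, nat_lit 29184, nat_lit 34304, nat_lit 37888, nat_lit 41727, nat_lit 38185, nat_lit 33527, nat_lit 28704, nat_lit 25110, nat_lit 20616, nat_lit 16388, nat_lit 12320, nat_lit 4097, nat_lit 2]⟩⟩⟩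
def lhn70 : List AP := [⟨[nat_lit 634, nat_lit 635, nat_lit 30, nat_lit 22, nat_lit 24], [], (nat_lit 176), ⟨[nat_lit 0, nat_lit 79, nat_lit 93], [nat_lit 0, nat_lit 76, nat_lit 65], ⟨[nat_lit 0x892ca40079454d455f734ec35b8a4], [nat_lit 173056, nat_lit 169472, nat_lit 161280, nat_lit 158336, nat_lit 153312, nat_lit 147760, nat_lit 144216, nat_lit 140460, nat_lit 135268, nat_lit 131488, nat_lit 1166, nat_lit 4952, nat_lit 10224, nat_lit 12416, nat_lit 17664, nat_lit 21248, nat_lit 25856, nat_lit 30464, nat_lit 33280, nat_lit 37888, nat_lit 41857, nat_lit 36967, nat_lit 33890, nat_lit 28988, nat_lit 24593, nat_lit 20757, nat_lit 16430, nat_lit 12306, nat_lit 4104, nat_lit 64]⟩⟩⟩,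
  ⟨[nat_lit 80], [], (nat_lit 196), ⟨[nat_lit 0, nat_lit 87, nat_lit 90], [nat_lit 0, nat_lit 84, nat_lit 52], ⟨[nat_lit 0x898ea6889763e4b2bac0484709d2a8], [nat_lit 168448, nat_lit 165120, nat_lit 159872, nat_lit 155968, nat_lit 152320, nat_lit 148272, nat_lit 143688, nat_lit 142344, nat_lit 135704, nat_lit 131959, nat_lit 2018, nat_lit 4756, nat_lit 8224, nat_lit 13728, nat_lit 16544, nat_lit 20544, nat_lit 24832, nat_lit 29952, nat_lit 37888, nat_lit 41842, nat_lit 38118, nat_lit 32979, nat_lit 28684, nat_lit 24615, nat_lit 20501, nat_lit 16417, nat_lit 12289, nat_lit 4160, nat_lit 2]⟩⟩⟩,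
  ⟨[nat_lit 38, nat_lit 14, nat_lit 36], [], (nat_lit 1032), ⟨[nat_lit 8, nat_lit 63], [nat_lit 0, nat_lit 33, nat_lit 66], ⟨[nat_lit 0xbaa2161ab63ba5368ca02256f45050], [nat_lit 174080, nat_lit 168960, nat_lit 164864, nat_lit 160256, nat_lit 156096, nat_lit 153344, nat_lit 147472, nat_lit 144584, nat_lit 141212, nat_lit 136106, nat_lit 131704, nat_lit 760, nat_lit 4100, nat_lit 8224, nat_lit 13920, nat_lit 17536, nat_lit 21504, nat_lit 25600, nat_lit 29440, nat_lit 41666, nat_lit 38173, nat_lit 33478, nat_lit 29249, nat_lit 24577, nat_lit 20486, nat_lit 16518, nat_lit 12304, nat_lit 8226, nat_lit 4128, nat_lit 64]⟩⟩⟩]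
theorem shn70 : Suf hnT 19005990 (ldrop (lapp hnwr4 [1, 0, 1]) 22) (apW dcM phn69) (tgtN dcM phn69.e) := Suf.fin' (l := lhn70) (by decide +kernel)
def lhn69 : List AP := [⟨[nat_lit 102], [], (nat_lit 196), ⟨[nat_lit 8, nat_lit 92], [nat_lit 25, nat_lit 46], ⟨[nat_lit 0x65a8a042e5105eba8c9344a2e69cc9], [nat_lit 168448, nat_lit 165376, nat_lit 157888, nat_lit 152128, nat_lit 147552, nat_lit 145096, nat_lit 139344, nat_lit 135334, nat_lit 131397, nat_lit 344, nat_lit 4548, nat_lit 9392, nat_lit 14128, nat_lit 16832, nat_lit 21120, nat_lit 24704, nat_lit 29184, nat_lit 37888, nat_lit 41664, nat_lit 37101, nat_lit 32979, nat_lit 28736, nat_lit 20994, nat_lit 16647, nat_lit 12322, nat_lit 8202, nat_lit 4101, nat_lit 4]⟩⟩⟩,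
  ⟨[nat_lit 630, nat_lit 17, nat_lit 16, nat_lit 43, nat_lit 633], [], (nat_lit 150), ⟨[nat_lit 42, nat_lit 92], [nat_lit 0, nat_lit 76, nat_lit 61], ⟨[nat_lit 0xb144c928c44c1ed0a011bcd7570cf4], [nat_lit 175104, nat_lit 171520, nat_lit 166144, nat_lit 161664, nat_lit 157568, nat_lit 153408, nat_lit 150352, nat_lit 144216, nat_lit 141152, nat_lit 139068, nat_lit 134204, nat_lit 1842, nat_lit 4752, nat_lit 10168, nat_lit 12320, nat_lit 16864, nat_lit 22464, nat_lit 24960, nat_lit 41252, nat_lit 36961, nat_lit 33861, nat_lit 28747, nat_lit 24593, nat_lit 20758, nat_lit 12293, nat_lit 8200, nat_lit 4129]⟩⟩⟩]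
theorem shn69 : Suf hnT 19005990 (ldrop (lapp hnwr4 [1, 0, 1]) 10) (apW dcM phn68) (tgtN dcM phn68.e) := Suf.seg (l := lhn69) (by decide +kernel) shn70
def lhn68 : List AP := [⟨[nat_lit 39, nat_lit 633, nat_lit 42, nat_lit 629, nat_lit 15, nat_lit 15], [], (nat_lit 150), ⟨[nat_lit 0, nat_lit 16, nat_lit 61], [nat_lit 45, nat_lit 52], ⟨[nat_lit 0x6807074486b3ef23d42b4aa6ca1448], [nat_lit 171520, nat_lit 159872, nat_lit 156736, nat_lit 151904, nat_lit 147872, nat_lit 145320, nat_lit 139480, nat_lit 135600, nat_lit 131205, nat_lit 846, nat_lit 4408, nat_lit 8320, nat_lit 13552, nat_lit 16512, nat_lit 21120, nat_lit 25600, nat_lit 28928, nat_lit 33792, nat_lit 37888, nat_lit 41389, nat_lit 37264, nat_lit 33522, nat_lit 29201, nat_lit 24866, nat_lit 20738, nat_lit 16902, nat_lit 13317, nat_lit 8210, nat_lit 4112, nat_lit 128]⟩⟩⟩,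
  ⟨[nat_lit 78, nat_lit 79], [], (nat_lit 177), ⟨[nat_lit 32, nat_lit 57], [nat_lit 27, nat_lit 61], ⟨[nat_lit 0x2545b490da54675ddd3246020bd86], [nat_lit 173056, nat_lit 169472, nat_lit 164608, nat_lit 161280, nat_lit 152928, nat_lit 144456, nat_lit 139308, nat_lit 135684, nat_lit 131138, nat_lit 1516, nat_lit 4412, nat_lit 9808, nat_lit 14176, nat_lit 17984, nat_lit 22272, nat_lit 25600, nat_lit 29696, nat_lit 33792, nat_lit 37888, nat_lit 41472, nat_lit 38144, nat_lit 33455, nat_lit 29039, nat_lit 24705, nat_lit 20751, nat_lit 16388, nat_lit 12294, nat_lit 8202, nat_lit 64]⟩⟩⟩]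
theorem hncr4_0 : Suf hnT 19005990 (lapp hnwr4 [1, 0, 1]) (apW dcM q0) (tgtN dcM q0.e) := Suf.seg (l := lhn68) (by decide +kernel) shn69

def phn71 : AP := ⟨[nat_lit 640, nat_lit 56, nat_lit 55], [], (nat_lit 130), ⟨[nat_lit 0, nat_lit 83, nat_lit 53], [nat_lit 35, nat_lit 67], ⟨[nat_lit 0x8cc8c0411492ec12886d325cabbcf5], [nat_lit 164608, nat_lit 160512, nat_lit 157696, nat_lit 153504, nat_lit 149408, nat_lit 144768, nat_lit 140804, nat_lit 136012, nat_lit 133014, nat_lit 1698, nat_lit 4328, nat_lit 9552, nat_lit 14112, nat_lit 16864, nat_lit 21632, nat_lit 25728, nat_lit 28928, nat_lit 41982, nat_lit 38206, nat_lit 33833, nat_lit 29043, nat_lit 24608, nat_lit 20550, nat_lit 16385, nat_lit 12295, nat_lit 8203, nat_lit 4104]⟩⟩⟩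
def phn72 : AP := ⟨[nat_lit 85, nat_lit 105, nat_lit 78], [], (nat_lit 180), ⟨[nat_lit 82, nat_lit 90], [nat_lit 80, nat_lit 61], ⟨[nat_lit 0x21a921a8ee426d3b8a007ac25ac58d], [nat_lit 175104, nat_lit 171008, nat_lit 166144, nat_lit 161408, nat_lit 155968, nat_lit 151808, nat_lit 150272, nat_lit 145256, nat_lit 140912, nat_lit 137520, nat_lit 134466, nat_lit 210, nat_lit 5884, nat_lit 9648, nat_lit 13680, nat_lit 18080, nat_lit 22208, nat_lit 25984, nat_lit 29184, nat_lit 33792, nat_lit 37888, nat_lit 41783, nat_lit 38395, nat_lit 33881, nat_lit 28767, nat_lit 24581, nat_lit 20751, nat_lit 16526, nat_lit 12423, nat_lit 8256, nat_lit 4097, nat_lit 2]⟩⟩⟩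
def lhn73 : List AP := [⟨[nat_lit 72, nat_lit 73, nat_lit 54], [], (nat_lit 131), ⟨[nat_lit 0, nat_lit 3, nat_lit 58], [nat_lit 0, nat_lit 15, nat_lit 68], ⟨[nat_lit 0xbd922094ea2522c58dee955a698208], [nat_lit 168448, nat_lit 164608, nat_lit 162688, nat_lit 156160, nat_lit 151584, nat_lit 149200, nat_lit 144912, nat_lit 139868, nat_lit 136030, nat_lit 131380, nat_lit 256, nat_lit 4876, nat_lit 8448, nat_lit 13392, nat_lit 16800, nat_lit 22016, nat_lit 24704, nat_lit 29696, nat_lit 33280, nat_lit 37888, nat_lit 41119, nat_lit 37299, nat_lit 32916, nat_lit 28701, nat_lit 24591, nat_lit 21015, nat_lit 16525, nat_lit 12356, nat_lit 8225, nat_lit 4105, nat_lit 4]⟩⟩⟩,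
  ⟨[nat_lit 70, nat_lit 48], [], (nat_lit 122), ⟨[nat_lit 32, nat_lit 63], [nat_lit 0, nat_lit 73, nat_lit 47], ⟨[nat_lit 0x134072426fb0d310a25733a952ad4c], [nat_lit 164352, nat_lit 159872, nat_lit 159296, nat_lit 153152, nat_lit 148896, nat_lit 144944, nat_lit 141132, nat_lit 136118, nat_lit 132913, nat_lit 1580, nat_lit 4476, nat_lit 8928, nat_lit 12704, nat_lit 16864, nat_lit 20608, nat_lit 26112, nat_lit 30208, nat_lit 33792, nat_lit 37888, nat_lit 41588, nat_lit 38155, nat_lit 33318, nat_lit 28768, nat_lit 24744, nat_lit 20623, nat_lit 16387, nat_lit 12327, nat_lit 8194, nat_lit 4097, nat_lit 2]⟩⟩⟩,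
  ⟨[nat_lit 40, nat_lit 39], [], (nat_lit 1032), ⟨[nat_lit 79, nat_lit 70], [nat_lit 10, nat_lit 59], ⟨[nat_lit 0x9418e9b62fb0ae151d255a0c41d2a0], [nat_lit 168960, nat_lit 167424, nat_lit 162432, nat_lit 157952, nat_lit 155232, nat_lit 149312, nat_lit 145592, nat_lit 141992, nat_lit 135170, nat_lit 134893, nat_lit 32, nat_lit 5900, nat_lit 8680, nat_lit 12320, nat_lit 16416, nat_lit 22080, nat_lit 25344, nat_lit 29696, nat_lit 37888, nat_lit 41061, nat_lit 37221, nat_lit 32997, nat_lit 28928, nat_lit 24712, nat_lit 20505, nat_lit 16389, nat_lit 12293, nat_lit 8193, nat_lit 4]⟩⟩⟩]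
theorem shn73 : Suf hnT 19005990 (ldrop (lapp hnwr4 [2, 0, 1]) 22) (apW dcM phn72) (tgtN dcM phn72.e) := Suf.fin' (l := lhn73) (by decide +kernel)
def lhn72 : List AP := [⟨[nat_lit 71, nat_lit 52], [], (nat_lit 122), ⟨[nat_lit 0, nat_lit 77, nat_lit 48], [nat_lit 24, nat_lit 91], ⟨[nat_lit 0x6ba8a582c3ac93311190345e1414f7], [nat_lit 173056, nat_lit 168960, nat_lit 165632, nat_lit 160768, nat_lit 156480, nat_lit 152864, nat_lit 148720, nat_lit 144096, nat_lit 141292, nat_lit 136380, nat_lit 133416, nat_lit 1268, nat_lit 5276, nat_lit 9328, nat_lit 12768, nat_lit 18304, nat_lit 20672, nat_lit 24832, nat_lit 30464, nat_lit 33280, nat_lit 41861, nat_lit 37080, nat_lit 33856, nat_lit 29000, nat_lit 24872, nat_lit 20563, nat_lit 16421, nat_lit 12310, nat_lit 8193, nat_lit 4]⟩⟩⟩,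
  ⟨[nat_lit 632, nat_lit 14, nat_lit 633, nat_lit 39, nat_lit 17], [], (nat_lit 150), ⟨[nat_lit 0, nat_lit 8, nat_lit 94], [nat_lit 71, nat_lit 94], ⟨[nat_lit 0xbc033a88c72490f1d94b6d1c064525], [nat_lit 168448, nat_lit 165120, nat_lit 161408, nat_lit 157376, nat_lit 153216, nat_lit 149408, nat_lit 145384, nat_lit 142456, nat_lit 136146, nat_lit 132992, nat_lit 128, nat_lit 5568, nat_lit 8704, nat_lit 13552, nat_lit 16736, nat_lit 22400, nat_lit 25600, nat_lit 29184, nat_lit 33280, nat_lit 37888, nat_lit 41380, nat_lit 36868, nat_lit 32878, nat_lit 28752, nat_lit 24763, nat_lit 20560, nat_lit 16430, nat_lit 12290, nat_lit 16]⟩⟩⟩]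
theorem shn72 : Suf hnT 19005990 (ldrop (lapp hnwr4 [2, 0, 1]) 10) (apW dcM phn71) (tgtN dcM phn71.e) := Suf.seg (l := lhn72) (by decide +kernel) shn73
def lhn71 : List AP := [⟨[nat_lit 36, nat_lit 16, nat_lit 40, nat_lit 36, nat_lit 14], [], (nat_lit 197), ⟨[nat_lit 43, nat_lit 69], [nat_lit 0, nat_lit 77, nat_lit 89], ⟨[nat_lit 0xb2b0592973392d2a862981f694507], [nat_lit 168448, nat_lit 165120, nat_lit 160896, nat_lit 156352, nat_lit 153504, nat_lit 149536, nat_lit 143472, nat_lit 140612, nat_lit 135170, nat_lit 132377, nat_lit 1166, nat_lit 5940, nat_lit 9672, nat_lit 14176, nat_lit 16640, nat_lit 21184, nat_lit 25088, nat_lit 33280, nat_lit 41675, nat_lit 37360, nat_lit 32892, nat_lit 29288, nat_lit 24875, nat_lit 20748, nat_lit 16387, nat_lit 12416, nat_lit 8259, nat_lit 4113]⟩⟩⟩,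
  ⟨[nat_lit 78, nat_lit 81, nat_lit 645], [], (nat_lit 186), ⟨[nat_lit 0, nat_lit 10, nat_lit 47], [nat_lit 0, nat_lit 85, nat_lit 59], ⟨[nat_lit 0xbd00565a0aac96d1b9e614cf149028], [nat_lit 173056, nat_lit 171520, nat_lit 162176, nat_lit 157056, nat_lit 154880, nat_lit 150544, nat_lit 145432, nat_lit 140548, nat_lit 135630, nat_lit 134447, nat_lit 952, nat_lit 4352, nat_lit 9424, nat_lit 13744, nat_lit 16896, nat_lit 20544, nat_lit 25088, nat_lit 28928, nat_lit 33792, nat_lit 37888, nat_lit 41830, nat_lit 37185, nat_lit 32769, nat_lit 28726, nat_lit 25115, nat_lit 20631, nat_lit 16459, nat_lit 12357, nat_lit 8202, nat_lit 4097]⟩⟩⟩]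
theorem hncr4_1 : Suf hnT 19005990 (lapp hnwr4 [2, 0, 1]) (iC2 :: apW dcM q0) (tgtN dcM q0.e) := Suf.seg (l := lhn71) (by decide +kernel) shn72


end

end CF.Mon.Tr
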