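import Cfsg.Agent.Mon.Wp

/-! Elements of `Gt` for the Thompson group. -/

set_option autoImplicit false
set_option maxRecDepth 100000

namespace CF.Mon.Tr

open CF.Comp

noncomputable section

def thg1 : El := ⟨[nat_lit 0x7de78eb5d12340ea2be820c4696b973612a0, nat_lit 0x27117d24cd75564b88e81b360c038e84bc45, nat_lit 0x9f59f51002329cc47b1ae5250bade9684a33], [nat_lit 65536, nat_lit 73728, nat_lit 77824, nat_lit 81920, nat_lit 86016, nat_lit 98304, nat_lit 110592, nat_lit 178176, nat_lit 174080, nat_lit 171520, nat_lit 167680, nat_lit 161280, nat_lit 155776, nat_lit 153824, nat_lit 147904, nat_lit 144088, nat_lit 142788, nat_lit 137358, nat_lit 134794, nat_lit 70, nat_lit 7592, nat_lit 11512, nat_lit 14240, nat_lit 20320, nat_lit 21632, nat_lit 25088, nat_lit 30976, nat_lit 34816, nat_lit 43008, nat_lit 46686, nat_lit 40988, nat_lit 39389, nat_lit 33409, nat_lit 29208, nat_lit 26655, nat_lit 20482, nat_lit 16521, nat_lit 12294, nat_lit 8200, nat_lit 430088,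 nat_lit 417797, nat_lit 409603, nat_lit 397312, nat_lit 164352, nat_lit 156160, nat_lit 152320, nat_lit 148320, nat_lit 143376, nat_lit 135712, nat_lit 131624, nat_lit 45065, nat_lit 41491, nat_lit 28697, nat_lit 8194, nat_lit 327680]⟩
def thd1 : El := ⟨[nat_lit 0x3ff9a6715841052b42803a4ef2856d169de6, nat_lit 0xde277b141b704595091232ca6a7190fb50eb, nat_lit 0x4e8e71ac5e60c933401cc6c0f6bd16221543], [nat_lit 69632, nat_lit 73728, nat_lit 81920, nat_lit 86016, nat_lit 90112, nat_lit 94208, nat_lit 98304, nat_lit 110592, nat_lit 178176, nat_lit 173056, nat_lit 168960, nat_lit 165120, nat_lit 158272, nat_lit 152864, nat_lit 147520, nat_lit 147152, nat_lit 141380, nat_lit 135488, nat_lit 131397, nat_lit 3156, nat_lit 5560, nat_lit 10536, nat_lit 15712, nat_lit 17184, nat_lit 20544, nat_lit 24832, nat_lit 30976, nat_lit 35840, nat_lit 37888, nat_lit 46263, nat_lit 43861, nat_lit 37185, nat_lit 33016, nat_lit 28943, nat_lit 24724, nat_lit 20501, nat_lit 16386,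 nat_lit 12549, nat_lit 4113, nat_lit 425991, nat_lit 417797, nat_lit 405506, nat_lit 397312, nat_lit 155904, nat_lit 152000, nat_lit 143712, nat_lit 139424, nat_lit 135528, nat_lit 131242, nat_lit 45092, nat_lit 41450, nat_lit 36902, nat_lit 16385]⟩
def thg2 : El := ⟨[nat_lit 0xe18b1b51e7578e502888e6056934688682f6, nat_lit 0xa3fcc322cc495d77c82d856820297388c87, nat_lit 0xa3a969aa1a67d0a91c422b39443b17780253], [nat_lit 73728, nat_lit 81920, nat_lit 90112, nat_lit 98304, nat_lit 102400, nat_lit 110592, nat_lit 174080, nat_lit 168960, nat_lit 166144, nat_lit 161408, nat_lit 152192, nat_lit 148336, nat_lit 147352, nat_lit 141080, nat_lit 135722, nat_lit 134685, nat_lit 670, nat_lit 6320, nat_lit 11264, nat_lit 15616, nat_lit 19328, nat_lit 23104, nat_lit 25472, nat_lit 30208, nat_lit 33280, nat_lit 37888, nat_lit 43008, nat_lit 45584, nat_lit 41836, nat_lit 38368, nat_lit 32784, nat_lit 28675, nat_lit 25611, nat_lit 16647, nat_lit 12293, nat_lit 8201, nat_lit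 4113, nat_lit 421894, nat_lit 413700, nat_lit 405506, nat_lit 397312, nat_lit 155776, nat_lit 151616, nat_lit 147680, nat_lit 143584, nat_lit 139480, nat_lit 135284, nat_lit 131212, nat_lit 45081, nat_lit 41071, nat_lit 36921, nat_lit 33008, nat_lit 327680]⟩
def thd2 : El := ⟨[nat_lit 0xf993cf69c4822c6eac12a8d1ec906e0b1a65, nat_lit 0x12822e4911215dcaa1a762c58f0aead80c07, nat_lit 0x30cafc9151749eb320ccdb0a8f0b14b881d0], [nat_lit 65536, nat_lit 73728, nat_lit 77824, nat_lit 90112, nat_lit 94208, nat_lit 98304, nat_lit 102400, nat_lit 178176, nat_lit 174080, nat_lit 171008, nat_lit 165120, nat_lit 162176, nat_lit 157504, nat_lit 153056, nat_lit 149184, nat_lit 144000, nat_lit 139844, nat_lit 136520, nat_lit 132740, nat_lit 2808, nat_lit 7508, nat_lit 9536, nat_lit 16160, nat_lit 18848, nat_lit 21760, nat_lit 25856, nat_lit 32256, nat_lit 33792, nat_lit 37888, nat_lit 45392, nat_lit 40994, nat_lit 36946, nat_lit 34963, nat_lit 28685, nat_lit 24608, nat_lit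 20573, nat_lit 16390, nat_lit 12321, nat_lit 8194, nat_lit 4097, nat_lit 421894, nat_lit 413700, nat_lit 405506, nat_lit 397312, nat_lit 151680, nat_lit 147648, nat_lit 139288, nat_lit 135320, nat_lit 45200, nat_lit 41020, nat_lit 37040, nat_lit 32940]⟩
def tht1 : El := ⟨[nat_lit 0x6ca0308ce50b56f46b9ec5a12a3988518440], [nat_lit 65536, nat_lit 69632, nat_lit 73728, nat_lit 77824, nat_lit 81920, nat_lit 94208, nat_lit 98304, nat_lit 106496, nat_lit 174080, nat_lit 169472, nat_lit 164096, nat_lit 162304, nat_lit 156096, nat_lit 153952, nat_lit 151232, nat_lit 145016, nat_lit 140580, nat_lit 137512, nat_lit 134153, nat_lit 4, nat_lit 7904, nat_lit 12000, nat_lit 16096, nat_lit 16512, nat_lit 24192, nat_lit 28288, nat_lit 31744, nat_lit 34816, nat_lit 38912, nat_lit 43008, nat_lit 41703, nat_lit 36886, nat_lit 32880, nat_lit 29712, nat_lit 24583, nat_lit 20487, nat_lit 16512, nat_lit 12295, nat_lit 8193, nat_lit 4097, nat_lit 2, nat_lit 327680]⟩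
def tht2 : El := ⟨[nat_lit 0x8d424875ab430e2965daf0aa0744ca090964], [nat_lit 73728, nat_lit 86016, nat_lit 94208, nat_lit 102400, nat_lit 178176, nat_lit 175104, nat_lit 171008, nat_lit 164096, nat_lit 163200, nat_lit 156032, nat_lit 151584, nat_lit 147952, nat_lit 144792, nat_lit 142556, nat_lit 136984, nat_lit 134637, nat_lit 16, nat_lit 7120, nat_lit 10248, nat_lit 18432, nat_lit 22528, nat_lit 26880, nat_lit 30720, nat_lit 34304, nat_lit 38912, nat_lit 41871, nat_lit 36872, nat_lit 34000, nat_lit 28680, nat_lit 24841, nat_lit 20488, nat_lit 16393, nat_lit 16]⟩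
def tha : El := ⟨[], [nat_lit 327680]⟩
def thb0 : El := ⟨[nat_lit 0x747bbe646850352e90a0baa077204ea7d8d3, nat_lit 0xc959cca2624535039acb5849c1301e7b3057, nat_lit 0x87d84d702a151a63222024bd742dd878da4d, nat_lit 0xb47d189c569031e2a16a452212b98f670da1], [nat_lit 69632, nat_lit 73728, nat_lit 81920, nat_lit 86016, nat_lit 102400, nat_lit 106496, nat_lit 110592, nat_lit 173056, nat_lit 168448, nat_lit 167168, nat_lit 160000, nat_lit 156864, nat_lit 154912, nat_lit 150464, nat_lit 145136, nat_lit 141548, nat_lit 135990, nat_lit 134571, nat_lit 2056, nat_lit 7120, nat_lit 11168, nat_lit 13728, nat_lit 18464, nat_lit 23936, nat_lit 27520, nat_lit 32000, nat_lit 33792, nat_lit 37888, nat_lit 46867, nat_lit 43768, nat_lit 37181, nat_lit 32816, nat_lit 28697, nat_lit 25602, nat_lit 20550, nat_lit 12327, nat_lit 8224, nat_lit 4097, nat_lit 438282, nat_lit 430088, nat_lit 421894, nat_lit 413700, nat_lit 405506, nat_lit 397312, nat_lit 171008, nat_lit 165888, nat_lit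 158976, nat_lit 151872, nat_lit 150368, nat_lit 144128, nat_lit 142448, nat_lit 138096, nat_lit 133710]⟩
def thb1 : El := ⟨[nat_lit 0x72b24702a4cb04e3ac6654917483d02336ee, nat_lit 0xcfac906ba49320f1b30649d5545c040286ef, nat_lit 0xe24e7414e0d70eb6a1a2979007bc9454058b, nat_lit 0x7b74be536934ba557da088ad9708867010c5], [nat_lit 65536, nat_lit 69632, nat_lit 73728, nat_lit 81920, nat_lit 86016, nat_lit 90112, nat_lit 94208, nat_lit 98304, nat_lit 178176, nat_lit 170496, nat_lit 167168, nat_lit 161152, nat_lit 158272, nat_lit 155520, nat_lit 151536, nat_lit 146008, nat_lit 141052, nat_lit 138746, nat_lit 131551, nat_lit 3688, nat_lit 5180, nat_lit 12176, nat_lit 12688, nat_lit 23296, nat_lit 26240, nat_lit 31488, nat_lit 35840, nat_lit 39936, nat_lit 43008, nat_lit 46458, nat_lit 43934, nat_lit 36928, nat_lit 32981, nat_lit 28738, nat_lit 24604, nat_lit 21522, nat_lit 16395, nat_lit 12310, nat_lit 8195, nat_lit 4100, nat_lit 2, nat_lit 438282, nat_lit 430088,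 nat_lit 421894, nat_lit 413700, nat_lit 405506, nat_lit 397312, nat_lit 168960, nat_lit 166400, nat_lit 160000, nat_lit 156416, nat_lit 154560, nat_lit 147968, nat_lit 143440, nat_lit 141736, nat_lit 137956, nat_lit 134492]⟩
def thb2 : El := ⟨[nat_lit 0xde2874920ec2d006ac43069153b2562bbc6e, nat_lit 0x5c9533195b05dd8e101143a896aca29099f3], [nat_lit 65536, nat_lit 69632, nat_lit 73728, nat_lit 90112, nat_lit 94208, nat_lit 102400, nat_lit 106496, nat_lit 173056, nat_lit 169472, nat_lit 165888, nat_lit 163072, nat_lit 158016, nat_lit 155264, nat_lit 148432, nat_lit 147080, nat_lit 142396, nat_lit 135984, nat_lit 133802, nat_lit 1234, nat_lit 6372, nat_lit 9040, nat_lit 14720, nat_lit 19904, nat_lit 23168, nat_lit 27008, nat_lit 31744, nat_lit 37888, nat_lit 43008, nat_lit 46663, nat_lit 43552, nat_lit 37238, nat_lit 28775, nat_lit 24721, nat_lit 20566, nat_lit 16394, nat_lit 12305, nat_lit 4105, nat_lit 405506, nat_lit 397312, nat_lit 131074, nat_lit 40961,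 nat_lit 36866, nat_lit 28673, nat_lit 24578, nat_lit 20481, nat_lit 16399]⟩
def thb3 : El := ⟨[nat_lit 0xbddd720a22783255b95e6700746aacb14c89, nat_lit 0x5c3f0a7c8c8a9c44ba40b6d82ca40712ba6a, nat_lit 0x7b48e441697205205ccd0ac46c15a4f6a8ee, nat_lit 0x5af9fc31d0a49165b4af0609c1181edace34], [nat_lit 65536, nat_lit 69632, nat_lit 73728, nat_lit 77824, nat_lit 81920, nat_lit 86016, nat_lit 98304, nat_lit 169472, nat_lit 166656, nat_lit 160128, nat_lit 156416, nat_lit 154592, nat_lit 147968, nat_lit 143448, nat_lit 141740, nat_lit 137956, nat_lit 134492, nat_lit 3268, nat_lit 6568, nat_lit 10416, nat_lit 14704, nat_lit 18496, nat_lit 21440, nat_lit 26112, nat_lit 32512, nat_lit 33792, nat_lit 39936, nat_lit 46949, nat_lit 41409, nat_lit 39360, nat_lit 32883, nat_lit 29302, nat_lit 24757, nat_lit 20548, nat_lit 16399, nat_lit 12309, nat_lit 8195, nat_lit 4101, nat_lit 4, nat_lit 438282, nat_lit 430088, nat_lit 421894, nat_lit 413700, nat_lit 405506, nat_lit 397312,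 nat_lit 169984, nat_lit 166912, nat_lit 161024, nat_lit 158208, nat_lit 155520, nat_lit 151520, nat_lit 146000, nat_lit 141048, nat_lit 138744, nat_lit 131550, nat_lit 327680]⟩
def thb4 : El := ⟨[nat_lit 0x12d8e7a9caf945d459813b89a38112162156, nat_lit 0x555c3a99ca0805481523779aab90dcd4d984, nat_lit 0x1771b8b164c02dcf442638dced328824d2a1, nat_lit 0x696ffc351e2732491d88d0cd00ade2b2a8f0], [nat_lit 73728, nat_lit 77824, nat_lit 81920, nat_lit 106496, nat_lit 178176, nat_lit 173056, nat_lit 171008, nat_lit 165888, nat_lit 158976, nat_lit 151904, nat_lit 150384, nat_lit 144128, nat_lit 142448, nat_lit 138098, nat_lit 133710, nat_lit 3814, nat_lit 7204, nat_lit 9408, nat_lit 12608, nat_lit 19328, nat_lit 21824, nat_lit 25344, nat_lit 32512, nat_lit 34304, nat_lit 38912, nat_lit 43008, nat_lit 46515, nat_lit 41636, nat_lit 36962, nat_lit 34933, nat_lit 28972, nat_lit 24744, nat_lit 20638, nat_lit 16386, nat_lit 12423, nat_lit 8201, nat_lit 438282, nat_lit 430088,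 nat_lit 421894, nat_lit 413700, nat_lit 405506, nat_lit 397312, nat_lit 166912, nat_lit 160000, nat_lit 156800, nat_lit 154880, nat_lit 150464, nat_lit 145136, nat_lit 141544, nat_lit 135988, nat_lit 134570]⟩
def thc : El := ⟨[], [nat_lit 98304, nat_lit 102400, nat_lit 106496, nat_lit 178176, nat_lit 173056, nat_lit 164096, nat_lit 159872, nat_lit 155712, nat_lit 327680]⟩
def thd : El := ⟨[nat_lit 0x22472200a122daa7a5c867256d88e61431ea, nat_lit 0x77d7b22caeaa1a290b10b03c87b0eae83662, nat_lit 0x41244781e4b8b876091427b4a8032f3aa4d4, nat_lit 0x5ca69913c72b323555cc13d1602160e9a12d], [nat_lit 65536, nat_lit 69632, nat_lit 73728, nat_lit 90112, nat_lit 106496, nat_lit 178176, nat_lit 167424, nat_lit 162304, nat_lit 157056, nat_lit 155328, nat_lit 148944, nat_lit 145704, nat_lit 142376, nat_lit 138942, nat_lit 133782, nat_lit 2198, nat_lit 6556, nat_lit 10752, nat_lit 14480, nat_lit 19840, nat_lit 23040, nat_lit 25088, nat_lit 30720, nat_lit 34816, nat_lit 38912,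 nat_lit 45989, nat_lit 41096, nat_lit 39361, nat_lit 32778, nat_lit 28673, nat_lit 16394, nat_lit 12304, nat_lit 8194, nat_lit 128, nat_lit 438282, nat_lit 430088, nat_lit 421894, nat_lit 413700, nat_lit 405506, nat_lit 397312, nat_lit 167424, nat_lit 162304, nat_lit 157056, nat_lit 155328, nat_lit 148928, nat_lit 145696, nat_lit 142376, nat_lit 138940, nat_lit 133782, nat_lit 327680]⟩
def the : El := ⟨[nat_lit 0x7d178184846095098baaa5bed3a009719d8d, nat_lit 0x66f990849f453aeb4cc05b30e441a23686a2, nat_lit 0x227b7822d80158709baad9293489ae53bc28, nat_lit 0x95c3f02058a68d663d0b1749f58590915e60], [nat_lit 65536, nat_lit 77824, nat_lit 81920, nat_lit 94208, nat_lit 98304, nat_lit 110592, nat_lit 178176, nat_lit 173056, nat_lit 168960, nat_lit 165376, nat_lit 162048, nat_lit 158016, nat_lit 152640, nat_lit 150144, nat_lit 143480, nat_lit 140532, nat_lit 135858, nat_lit 134928, nat_lit 3980, nat_lit 7344, nat_lit 9824, nat_lit 14592, nat_lit 19808, nat_lit 24192,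 nat_lit 24704, nat_lit 31744, nat_lit 39936, nat_lit 46223, nat_lit 43048, nat_lit 37093, nat_lit 32841, nat_lit 29202, nat_lit 24592, nat_lit 20486, nat_lit 16450, nat_lit 12289, nat_lit 8227, nat_lit 438282, nat_lit 430088, nat_lit 421894, nat_lit 413700, nat_lit 405506, nat_lit 397312, nat_lit 168960, nat_lit 165376, nat_lit 162048, nat_lit 157952, nat_lit 152640, nat_lit 150144, nat_lit 143472, nat_lit 140528, nat_lit 135856, nat_lit 134928, nat_lit 327680]⟩
def ths : El := ⟨[nat_lit 0xcfa36039137895c31540b6bec8a4e0a0b246, nat_lit 0x178eb863d5474c0721ae858ac12c9a3aa611, nat_lit 0xa6f0398902da2c40622ee90de79aa152a6c6, nat_lit 0x59c36c62096709f34855030e2705657a2da5], [nat_lit 77824, nat_lit 81920, nat_lit 86016, nat_lit 90112, nat_lit 94208, nat_lit 102400, nat_lit 106496, nat_lit 110592, nat_lit 174080, nat_lit 168960, nat_lit 167168, nat_lit 162304, nat_lit 157248, nat_lit 153952, nat_lit 148656, nat_lit 146456, nat_lit 139500, nat_lit 135436, nat_lit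 132591, nat_lit 1400, nat_lit 8188, nat_lit 10272, nat_lit 15952, nat_lit 20160, nat_lit 22336, nat_lit 28160, nat_lit 31232, nat_lit 36352, nat_lit 47013, nat_lit 43212, nat_lit 37965, nat_lit 33423, nat_lit 28780, nat_lit 24619, nat_lit 20509, nat_lit 16387, nat_lit 12292, nat_lit 8195, nat_lit 4097, nat_lit 2, nat_lit 438282, nat_lit 430088, nat_lit 421894, nat_lit 413700, nat_lit 405506, nat_lit 397312, nat_lit 174080, nat_lit 171008, nat_lit 165376, nat_lit 162048, nat_lit 159488, nat_lit 152064, nat_lit 148608, nat_lit 144992, nat_lit 142024, nat_lit 136336, nat_lit 131450, nat_lit 327680]⟩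
def thsi : El := ⟨[nat_lit 0xddb822a20a053d7139992224379bab66c062, nat_lit 0xca3f39dcac845217a1a01a8c793894b5562, nat_lit 0xe77148b329153a48582a7492e29bcc50b603, nat_lit 0x5a95f52d90955b615cc923cb38b8011d107], [nat_lit 65536, nat_lit 77824, nat_lit 81920, nat_lit 90112, nat_lit 106496, nat_lit 110592, nat_lit 174080, nat_lit 171008, nat_lit 165376, nat_lit 162176, nat_lit 159552, nat_lit 152096, nat_lit 148624, nat_lit 145000, nat_lit 142024, nat_lit 136336, nat_lit 131451, nat_lit 3104, nat_lit 7540, nat_lit 10920, nat_lit 13792, nat_lit 16416, nat_lit 24512, nat_lit 25728, nat_lit 30976, nat_lit 36352, nat_lit 47071, nat_lit 41593, nat_lit 37115, nat_lit 35070, nat_lit 28691, nat_lit 24633, nat_lit 20485, nat_lit 16393, nat_lit 12289, nat_lit 8195, nat_lit 4097, nat_lit 2, nat_lit 438282, nat_lit 430088, nat_lit 421894, nat_lit 413700, nat_lit 405506, nat_lit 397312, nat_lit 174080, nat_lit 168960, nat_lit 166912, nat_lit 162304, nat_lit 157184, nat_lit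 153920, nat_lit 148640, nat_lit 146448, nat_lit 139496, nat_lit 135436, nat_lit 132590]⟩
def tht : El := ⟨[nat_lit 0xfc3a9001ca4a2e0e446adb266c1982293eea, nat_lit 0x3995964cd6543c36349ac19e02a549175d40, nat_lit 0x8281e21852d5c5d341d85bc082900d4556cf, nat_lit 0x78b1d138a700dcd5b322a1a4ab201af75248], [nat_lit 69632, nat_lit 73728, nat_lit 77824, nat_lit 90112, nat_lit 94208, nat_lit 102400, nat_lit 106496, nat_lit 110592, nat_lit 174080, nat_lit 171008, nat_lit 164096, nat_lit 162816, nat_lit 155008, nat_lit 149664, nat_lit 143968, nat_lit 139984, nat_lit 136568, nat_lit 134163, nat_lit 134, nat_lit 8024, nat_lit 11928, nat_lit 12704, nat_lit 20064, nat_lit 20928, nat_lit 27264, nat_lit 28928, nat_lit 36352, nat_lit 37888, nat_lit 46753, nat_lit 43837, nat_lit 39403, nat_lit 32997, nat_lit 28750, nat_lit 24591, nat_lit 20497, nat_lit 16391, nat_lit 12293, nat_lit 4097, nat_lit 438282, nat_lit 430088, nat_lit 421894, nat_lit 413700, nat_lit 405506, nat_lit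 397312, nat_lit 174080, nat_lit 168960, nat_lit 166912, nat_lit 162304, nat_lit 157184, nat_lit 153920, nat_lit 148640, nat_lit 146448, nat_lit 139496, nat_lit 135436, nat_lit 132590]⟩
def thti : El := ⟨[nat_lit 0xdb81d4ba6532440d532cfa2c222a2a770cd0, nat_lit 0xdd7b78855472aef16a502610c093c73706d4, nat_lit 0xc60562904963961aa076546009bcd7a48ed, nat_lit 0x8bde88119687b06581c11b903654a8d9d52e], [nat_lit 65536, nat_lit 77824, nat_lit 81920, nat_lit 86016, nat_lit 90112, nat_lit 102400, nat_lit 110592, nat_lit 175104, nat_lit 168960, nat_lit 166912, nat_lit 162432, nat_lit 157184, nat_lit 153952, nat_lit 148656, nat_lit 146448, nat_lit 139496, nat_lit 135438, nat_lit 132590, nat_lit 2426, nat_lit 4816, nat_lit 9688, nat_lit 14016, nat_lit 17440, nat_lit 22784, nat_lit 25472, nat_lit 32000, nat_lit 34304, nat_lit 38912, nat_lit 43008, nat_lit 46934, nat_lit 43072, nat_lit 37952, nat_lit 32938, nat_lit 28781, nat_lit 24626, nat_lit 20504, nat_lit 16390, nat_lit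 12294, nat_lit 8193, nat_lit 4097, nat_lit 438282, nat_lit 430088, nat_lit 421894, nat_lit 413700, nat_lit 405506, nat_lit 397312, nat_lit 174080, nat_lit 171008, nat_lit 162816, nat_lit 155008, nat_lit 149664, nat_lit 143968, nat_lit 139984, nat_lit 136568, nat_lit 134162]⟩
def thu : El := ⟨[nat_lit 0xa655f0815b123e97926a3389c1582d362906], [nat_lit 69632, nat_lit 73728, nat_lit 77824, nat_lit 86016, nat_lit 90112, nat_lit 106496, nat_lit 110592, nat_lit 178176, nat_lit 173056, nat_lit 169984, nat_lit 164608, nat_lit 161152, nat_lit 157888, nat_lit 152384, nat_lit 147520, nat_lit 146112, nat_lit 141884, nat_lit 138298, nat_lit 131431, nat_lit 786, nat_lit 4156, nat_lit 11608, nat_lit 15968, nat_lit 19744, nat_lit 22656, nat_lit 27008, nat_lit 29184, nat_lit 33792, nat_lit 37888, nat_lit 41439, nat_lit 37288, nat_lit 32878, nat_lit 29199, nat_lit 24893, nat_lit 20623, nat_lit 16462, nat_lit 12290, nat_lit 8208, nat_lit 4104, nat_lit 4, nat_lit 327680]⟩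
def thui : El := ⟨[nat_lit 0x59aa0f815b123e97926a3389c1582d362906], [nat_lit 69632, nat_lit 73728, nat_lit 77824, nat_lit 86016, nat_lit 90112, nat_lit 98304, nat_lit 102400, nat_lit 110592, nat_lit 169984, nat_lit 164352, nat_lit 161024, nat_lit 157824, nat_lit 152384, nat_lit 147520, nat_lit 146112, nat_lit 141884, nat_lit 138298, nat_lit 131431, nat_lit 786, nat_lit 4156, nat_lit 11608, nat_lit 15968, nat_lit 19744, nat_lit 22656, nat_lit 27008, nat_lit 29184, nat_lit 33792, nat_lit 37888, nat_lit 41439, nat_lit 37288, nat_lit 32878, nat_lit 29199, nat_lit 24893, nat_lit 20623, nat_lit 16462, nat_lit 12290, nat_lit 8208, nat_lit 4104, nat_lit 4, nat_lit 327680]⟩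

def thT0 : BT El := (.node (nat_lit 4) (.node (nat_lit 2) (.node (nat_lit 1) (.leaf idE)
 (.leaf xoE))
 (.node (nat_lit 3) (.leaf iD2)
 (.leaf iD3)))
 (.node (nat_lit 6) (.node (nat_lit 5) (.leaf thg1)
 (.leaf thd1))
 (.node (nat_lit 7) (.leaf thg2)
 (.leaf thd2))))

theorem thT0_ok : thT0.all okB = true := by decide +kernel

def thT1 : BT El := (.node (nat_lit 12) (.node (nat_lit 10) (.node (nat_lit 9) (.leaf tht1)
 (.leaf tht2))
 (.node (nat_lit 11) (.leaf tha)
 (.leaf thb0)))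
 (.node (nat_lit 14) (.node (nat_lit 13) (.leaf thb1)
 (.leaf thb2))
 (.node (nat_lit 15) (.leaf thb3)
 (.leaf thb4))))

theorem thT1_ok : thT1.all okB = true := by decide +kernel

def thT2 : BT El := (.node (nat_lit 20) (.node (nat_lit 18) (.node (nat_lit 17) (.leaf thc)
 (.leaf thd))
 (.node (nat_lit 19) (.leaf the)
 (.leaf ths)))
 (.node (nat_lit 22) (.node (nat_lit 21) (.leaf thsi)
 (.leaf tht))
 (.node (nat_lit 23) (.leaf thti)
 (.leaf thu))))

theorem thT2_ok : thT2.all okB = true := by decide +kernel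

def thT3 : BT El := (.leaf thui)

theorem thT3_ok : thT3.all okB = true := by decide +kernel

def thT : BT El := (BT.node (nat_lit 16) (BT.node (nat_lit 8) thT0 thT1) (BT.node (nat_lit 24) thT2 thT3))

theorem thT_base : Base thT := ⟨(BT.all_node (BT.all_node thT0_ok thT1_ok) (BT.all_node thT2_ok thT3_ok)), rfl, rfl, rfl⟩

def thP : List (List ℕ) := [[], [nat_lit 10], [nat_lit 10], [nat_lit 11, nat_lit 0, nat_lit 12, nat_lit 0, nat_lit 13, nat_lit 0, nat_lit 14, nat_lit 0, nat_lit 15], [nat_lit 11, nat_lit 0, nat_lit 12, nat_lit 0, nat_lit 13, nat_lit 0, nat_lit 14, nat_lit 0, nat_lit 15], [nat_lit 16], [nat_lit 16], [nat_lit 17], [nat_lit 17], [nat_lit 18], [nat_lit 18], [nat_lit 19], [nat_lit 20], [nat_lit 21], [nat_lit 22], [nat_lit 23], [nat_lit 24]]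
def thwi0 : List ℕ := [nat_lit 10, nat_lit 10]
def thwi1 : List ℕ := [nat_lit 11, nat_lit 0, nat_lit 12, nat_lit 0, nat_lit 13, nat_lit 0, nat_lit 14, nat_lit 0, nat_lit 15, nat_lit 11, nat_lit 0, nat_lit 12, nat_lit 0, nat_lit 13, nat_lit 0, nat_lit 14, nat_lit 0, nat_lit 15]
def thwi2 : List ℕ := [nat_lit 16, nat_lit 16]
def thwi3 : List ℕ := [nat_lit 17, nat_lit 17]
def thwi4 : List ℕ := [nat_lit 18, nat_lit 18]
def thwi5 : List ℕ := [nat_lit 19, nat_lit 20]
def thwi6 : List ℕ := [nat_lit 21, nat_lit 22]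
def thwi7 : List ℕ := [nat_lit 23, nat_lit 24]
def thwr0 : List ℕ := [nat_lit 10, nat_lit 10]
def thwr1 : List ℕ := [nat_lit 11, nat_lit 0, nat_lit 12, nat_lit 0, nat_lit 13, nat_lit 0, nat_lit 14, nat_lit 0, nat_lit 15, nat_lit 11, nat_lit 0, nat_lit 12, nat_lit 0, nat_lit 13, nat_lit 0, nat_lit 14, nat_lit 0, nat_lit 15]
def thwr2 : List ℕ := [nat_lit 16, nat_lit 16]
def thwr3 : List ℕ := [nat_lit 17, nat_lit 17]
def thwr4 : List ℕ := [nat_lit 18, nat_lit 18]
def thwr5 : List ℕ := [nat_lit 11, nat_lit 0, nat_lit 12, nat_lit 0, nat_lit 13, nat_lit 0, nat_lit 14, nat_lit 0, nat_lit 15, nat_lit 10, nat_lit 11, nat_lit 0, nat_lit 12, nat_lit 0, nat_lit 13, nat_lit 0, nat_lit 14, nat_lit 0, nat_lit 15, nat_lit 10, nat_lit 11, nat_lit 0, nat_lit 12, nat_lit 0, nat_lit 13, nat_lit 0, nat_lit 14, nat_lit 0, nat_lit 15, nat_lit 10]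
def thwr6 : List ℕ := [nat_lit 18, nat_lit 10, nat_lit 18, nat_lit 10]
def thwr7 : List ℕ := [nat_lit 16, nat_lit 11, nat_lit 0, nat_lit 12, nat_lit 0, nat_lit 13, nat_lit 0, nat_lit 14, nat_lit 0, nat_lit 15, nat_lit 16, nat_lit 11, nat_lit 0, nat_lit 12, nat_lit 0, nat_lit 13, nat_lit 0, nat_lit 14, nat_lit 0, nat_lit 15, nat_lit 16, nat_lit 11, nat_lit 0, nat_lit 12, nat_lit 0, nat_lit 13, nat_lit 0, nat_lit 14, nat_lit 0, nat_lit 15]
def thwr8 : List ℕ := [nat_lit 17, nat_lit 11, nat_lit 0, nat_lit 12, nat_lit 0, nat_lit 13, nat_lit 0, nat_lit 14, nat_lit 0, nat_lit 15, nat_lit 17, nat_lit 11, nat_lit 0, nat_lit 12, nat_lit 0, nat_lit 13, nat_lit 0, nat_lit 14, nat_lit 0, nat_lit 15]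
def thwr9 : List ℕ := [nat_lit 18, nat_lit 11, nat_lit 0, nat_lit 12, nat_lit 0, nat_lit 13, nat_lit 0, nat_lit 14, nat_lit 0, nat_lit 15, nat_lit 18, nat_lit 11, nat_lit 0, nat_lit 12, nat_lit 0, nat_lit 13, nat_lit 0, nat_lit 14, nat_lit 0, nat_lit 15]
def thwr10 : List ℕ := [nat_lit 16, nat_lit 17, nat_lit 16, nat_lit 17, nat_lit 16, nat_lit 17, nat_lit 16, nat_lit 17, nat_lit 10]
def thwr11 : List ℕ := [nat_lit 18, nat_lit 16, nat_lit 18, nat_lit 16]
def thwr12 : List ℕ := [nat_lit 18, nat_lit 17, nat_lit 18, nat_lit 17, nat_lit 18, nat_lit 17]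
def thwr13 : List ℕ := [nat_lit 18, nat_lit 17, nat_lit 16, nat_lit 11, nat_lit 0, nat_lit 12, nat_lit 0, nat_lit 13, nat_lit 0, nat_lit 14, nat_lit 0, nat_lit 15, nat_lit 18, nat_lit 17, nat_lit 16, nat_lit 11, nat_lit 0, nat_lit 12, nat_lit 0, nat_lit 13, nat_lit 0, nat_lit 14, nat_lit 0, nat_lit 15, nat_lit 18, nat_lit 17, nat_lit 16, nat_lit 11, nat_lit 0, nat_lit 12, nat_lit 0, nat_lit 13, nat_lit 0, nat_lit 14, nat_lit 0, nat_lit 15, nat_lit 18, nat_lit 17, nat_lit 16, nat_lit 11, nat_lit 0, nat_lit 12, nat_lit 0, nat_lit 13, nat_lit 0, nat_lit 14, nat_lit 0, nat_lit 15, nat_lit 18, nat_lit 17, nat_lit 16, nat_lit 11, nat_lit 0, nat_lit 12, nat_lit 0, nat_lit 13, nat_lit 0, nat_lit 14, nat_lit 0, nat_lit 15, nat_lit 18, nat_lit 17, nat_lit 16, nat_lit 11, nat_lit 0, nat_lit 12, nat_lit 0, nat_lit 13, nat_lit 0, nat_lit 14, nat_lit 0, nat_lit 15, nat_lit 18, nat_lit 17, nat_lit 16, nat_lit 11, nat_lit 0, nat_lit 12, nat_lit 0, nat_lit 13, nat_lit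 0, nat_lit 14, nat_lit 0, nat_lit 15, nat_lit 18, nat_lit 17, nat_lit 16, nat_lit 11, nat_lit 0, nat_lit 12, nat_lit 0, nat_lit 13, nat_lit 0, nat_lit 14, nat_lit 0, nat_lit 15]
def thwr14 : List ℕ := [nat_lit 19, nat_lit 19, nat_lit 19, nat_lit 19, nat_lit 19, nat_lit 19, nat_lit 19]
def thwr15 : List ℕ := [nat_lit 10, nat_lit 19, nat_lit 10, nat_lit 20]
def thwr16 : List ℕ := [nat_lit 11, nat_lit 0, nat_lit 12, nat_lit 0, nat_lit 13, nat_lit 0, nat_lit 14, nat_lit 0, nat_lit 15, nat_lit 19, nat_lit 11, nat_lit 0, nat_lit 12, nat_lit 0, nat_lit 13, nat_lit 0, nat_lit 14, nat_lit 0, nat_lit 15, nat_lit 20]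
def thwr17 : List ℕ := [nat_lit 16, nat_lit 19, nat_lit 16, nat_lit 20]
def thwr18 : List ℕ := [nat_lit 17, nat_lit 19, nat_lit 17, nat_lit 19]
def thwr19 : List ℕ := [nat_lit 19, nat_lit 19, nat_lit 19, nat_lit 18, nat_lit 20, nat_lit 20, nat_lit 18, nat_lit 20, nat_lit 18]
def thwr20 : List ℕ := [nat_lit 21, nat_lit 21, nat_lit 21]
def thwr21 : List ℕ := [nat_lit 10, nat_lit 21, nat_lit 10, nat_lit 22]
def thwr22 : List ℕ := [nat_lit 11, nat_lit 0, nat_lit 12, nat_lit 0, nat_lit 13, nat_lit 0, nat_lit 14, nat_lit 0, nat_lit 15, nat_lit 21, nat_lit 11, nat_lit 0, nat_lit 12, nat_lit 0, nat_lit 13, nat_lit 0, nat_lit 14, nat_lit 0, nat_lit 15, nat_lit 22]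
def thwr23 : List ℕ := [nat_lit 16, nat_lit 21, nat_lit 16, nat_lit 22]
def thwr24 : List ℕ := [nat_lit 17, nat_lit 21, nat_lit 17, nat_lit 22]
def thwr25 : List ℕ := [nat_lit 18, nat_lit 21, nat_lit 18, nat_lit 22]
def thwr26 : List ℕ := [nat_lit 20, nat_lit 20, nat_lit 21, nat_lit 19, nat_lit 22]
def thwr27 : List ℕ := [nat_lit 10, nat_lit 16, nat_lit 23, nat_lit 23]
def thwr28 : List ℕ := [nat_lit 10, nat_lit 23, nat_lit 10, nat_lit 24]
def thwr29 : List ℕ := [nat_lit 16, nat_lit 23, nat_lit 16, nat_lit 24]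
def thwr30 : List ℕ := [nat_lit 18, nat_lit 23, nat_lit 18, nat_lit 24]
def thwr31 : List ℕ := [nat_lit 23, nat_lit 17, nat_lit 24, nat_lit 18, nat_lit 17, nat_lit 23, nat_lit 17, nat_lit 24, nat_lit 18, nat_lit 17]
def thwr32 : List ℕ := [nat_lit 18, nat_lit 11, nat_lit 0, nat_lit 12, nat_lit 0, nat_lit 13, nat_lit 0, nat_lit 14, nat_lit 0, nat_lit 15, nat_lit 16, nat_lit 10, nat_lit 11, nat_lit 0, nat_lit 12, nat_lit 0, nat_lit 13, nat_lit 0, nat_lit 14, nat_lit 0, nat_lit 15, nat_lit 23, nat_lit 11, nat_lit 0, nat_lit 12, nat_lit 0, nat_lit 13, nat_lit 0, nat_lit 14, nat_lit 0, nat_lit 15, nat_lit 10, nat_lit 16, nat_lit 11, nat_lit 0, nat_lit 12, nat_lit 0, nat_lit 13, nat_lit 0, nat_lit 14, nat_lit 0, nat_lit 15, nat_lit 24]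
def thwr33 : List ℕ := [nat_lit 24, nat_lit 18, nat_lit 11, nat_lit 0, nat_lit 12, nat_lit 0, nat_lit 13, nat_lit 0, nat_lit 14, nat_lit 0, nat_lit 15, nat_lit 10, nat_lit 16, nat_lit 11, nat_lit 0, nat_lit 12, nat_lit 0, nat_lit 13, nat_lit 0, nat_lit 14, nat_lit 0, nat_lit 15, nat_lit 17, nat_lit 24, nat_lit 17, nat_lit 18, nat_lit 16, nat_lit 11, nat_lit 0, nat_lit 12, nat_lit 0, nat_lit 13, nat_lit 0, nat_lit 14, nat_lit 0, nat_lit 15, nat_lit 16, nat_lit 10, nat_lit 11, nat_lit 0, nat_lit 12, nat_lit 0, nat_lit 13, nat_lit 0, nat_lit 14, nat_lit 0, nat_lit 15, nat_lit 17, nat_lit 23, nat_lit 17, nat_lit 11, nat_lit 0, nat_lit 12, nat_lit 0, nat_lit 13, nat_lit 0, nat_lit 14, nat_lit 0, nat_lit 15, nat_lit 10, nat_lit 16, nat_lit 11, nat_lit 0, nat_lit 12, nat_lit 0, nat_lit 13, nat_lit 0, nat_lit 14, nat_lit 0, nat_lit 15, nat_lit 17, nat_lit 24, nat_lit 17]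
def thwr34 : List ℕ := [nat_lit 21, nat_lit 23, nat_lit 21, nat_lit 24]
def thwr35 : List ℕ := [nat_lit 19, nat_lit 19, nat_lit 23, nat_lit 20, nat_lit 20, nat_lit 18, nat_lit 19, nat_lit 19, nat_lit 24, nat_lit 20, nat_lit 20, nat_lit 18]
def thwr36 : List ℕ := [nat_lit 24, nat_lit 20, nat_lit 24, nat_lit 20, nat_lit 24, nat_lit 20, nat_lit 16, nat_lit 10]
def thwr37 : List ℕ := [nat_lit 23, nat_lit 19, nat_lit 24, nat_lit 20, nat_lit 23, nat_lit 19, nat_lit 24, nat_lit 20, nat_lit 23, nat_lit 19, nat_lit 24, nat_lit 20, nat_lit 23, nat_lit 19, nat_lit 24, nat_lit 20, nat_lit 16, nat_lit 10]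
def thwr38 : List ℕ := [nat_lit 10, nat_lit 16, nat_lit 17, nat_lit 16, nat_lit 17, nat_lit 20, nat_lit 18, nat_lit 17, nat_lit 16, nat_lit 17, nat_lit 18, nat_lit 19, nat_lit 19, nat_lit 19, nat_lit 18, nat_lit 17, nat_lit 16, nat_lit 17, nat_lit 18, nat_lit 23, nat_lit 20, nat_lit 20, nat_lit 17, nat_lit 19, nat_lit 19, nat_lit 23, nat_lit 20, nat_lit 20, nat_lit 17, nat_lit 19, nat_lit 19, nat_lit 23, nat_lit 20, nat_lit 20, nat_lit 17, nat_lit 19, nat_lit 19, nat_lit 23, nat_lit 20, nat_lit 20, nat_lit 17]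
def thI : List (List ℕ) := [thwi0, thwi1, thwi2, thwi3, thwi4, thwi5, thwi6, thwi7]
def thW : List (List ℕ) := [thwr0, thwr1, thwr2, thwr3, thwr4, thwr5, thwr6, thwr7, thwr8, thwr9, thwr10, thwr11, thwr12, thwr13, thwr14, thwr15, thwr16, thwr17, thwr18, thwr19, thwr20, thwr21, thwr22, thwr23, thwr24, thwr25, thwr26, thwr27, thwr28, thwr29, thwr30, thwr31, thwr32, thwr33, thwr34, thwr35, thwr36, thwr37, thwr38]

end

end CF.Mon.Tr
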