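import Cfsg.Agent.Mon.thD

set_option autoImplicit false
set_option maxRecDepth 100000

namespace CF.Mon.Tr

open CF.Comp

noncomputable section

theorem thci0 : Chk thT thwi0 := .inr (by decide +kernel)

def pth0 : AP := ⟨[nat_lit 352, nat_lit 355, nat_lit 290], [], (nat_lit 1132), ⟨[nat_lit 76, nat_lit 59], [nat_lit 25, nat_lit 67], ⟨[nat_lit 0x3ae644b9f250c113504c686e5ada08], [nat_lit 174080, nat_lit 169984, nat_lit 166144, nat_lit 162432, nat_lit 157056, nat_lit 155264, nat_lit 149856, nat_lit 145216, nat_lit 142948, nat_lit 137008, nat_lit 131581, nat_lit 952, nat_lit 5400, nat_lit 9904, nat_lit 12592, nat_lit 16512, nat_lit 21632, nat_lit 30208, nat_lit 33280, nat_lit 41390, nat_lit 37340, nat_lit 32786, nat_lit 29205, nat_lit 24717, nat_lit 21530, nat_lit 16416, nat_lit 12422, nat_lit 8193, nat_lit 4105, nat_lit 4]⟩⟩⟩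
def pth1 : AP := ⟨[nat_lit 259, nat_lit 224], [], (nat_lit 604), ⟨[nat_lit 31, nat_lit 55], [nat_lit 13, nat_lit 50], ⟨[nat_lit 0x226e15a9f161cd22d00868e029daae], [nat_lit 174080, nat_lit 169984, nat_lit 166400, nat_lit 160256, nat_lit 157568, nat_lit 153056, nat_lit 151536, nat_lit 143968, nat_lit 140096, nat_lit 138202, nat_lit 134535, nat_lit 166, nat_lit 5208, nat_lit 9384, nat_lit 12512, nat_lit 18336, nat_lit 21440, nat_lit 26112, nat_lit 28928, nat_lit 33280, nat_lit 37888, nat_lit 41845, nat_lit 38304, nat_lit 32861, nat_lit 29256, nat_lit 24605, nat_lit 21522, nat_lit 16385, nat_lit 12353, nat_lit 8202, nat_lit 4100]⟩⟩⟩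
def lth2 : List AP := [⟨[nat_lit 290, nat_lit 356, nat_lit 287], [], (nat_lit 1218), ⟨[nat_lit 42, nat_lit 63], [nat_lit 0, nat_lit 13, nat_lit 53], ⟨[nat_lit 0x794c06c642752e38590459e756052a], [nat_lit 173056, nat_lit 169984, nat_lit 164096, nat_lit 159872, nat_lit 156800, nat_lit 152320, nat_lit 149472, nat_lit 145096, nat_lit 139404, nat_lit 137040, nat_lit 132297, nat_lit 1298, nat_lit 6084, nat_lit 9664, nat_lit 13552, nat_lit 16864, nat_lit 21696, nat_lit 26496, nat_lit 34304, nat_lit 41181, nat_lit 32816, nat_lit 28717, nat_lit 24580, nat_lit 20503, nat_lit 16385, nat_lit 12290, nat_lit 8194]⟩⟩⟩,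
  ⟨[nat_lit 81], [], (nat_lit 196), ⟨[nat_lit 14, nat_lit 69], [nat_lit 7, nat_lit 50], ⟨[nat_lit 0xab42978eca9208b619d0bd22711660], [nat_lit 173056, nat_lit 169472, nat_lit 164096, nat_lit 159872, nat_lit 156224, nat_lit 152960, nat_lit 147520, nat_lit 146120, nat_lit 139896, nat_lit 135810, nat_lit 131610, nat_lit 8, nat_lit 4684, nat_lit 8320, nat_lit 12416, nat_lit 18112, nat_lit 21312, nat_lit 25344, nat_lit 29184, nat_lit 37888, nat_lit 41704, nat_lit 38225, nat_lit 32968, nat_lit 28680, nat_lit 24855, nat_lit 21019, nat_lit 16387, nat_lit 12292, nat_lit 8200, nat_lit 4097]⟩⟩⟩,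
  ⟨[nat_lit 16, nat_lit 633, nat_lit 36], [], (nat_lit 1032), ⟨[nat_lit 54], [nat_lit 0, nat_lit 73, nat_lit 68], ⟨[nat_lit 0x83c41a36b24cd4eb1c682ac1724586], [nat_lit 173056, nat_lit 168448, nat_lit 166400, nat_lit 162432, nat_lit 158528, nat_lit 154304, nat_lit 147696, nat_lit 146368, nat_lit 141864, nat_lit 136024, nat_lit 133408, nat_lit 1516, nat_lit 5436, nat_lit 10040, nat_lit 12672, nat_lit 17408, nat_lit 26240, nat_lit 29184, nat_lit 33792, nat_lit 37888, nat_lit 41183, nat_lit 36914, nat_lit 32769, nat_lit 29707, nat_lit 24725, nat_lit 21013, nat_lit 16392, nat_lit 12305, nat_lit 8226, nat_lit 4097]⟩⟩⟩]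
theorem sth2 : Suf thT 19005990 (ldrop (lapp thwi1 [1, 0, 1]) 13) (apW dcM pth1) (tgtN dcM pth1.e) := Suf.fin' (l := lth2) (by decide +kernel)
def lth1 : List AP := [⟨[nat_lit 261, nat_lit 224, nat_lit 224, nat_lit 666, nat_lit 223], [], (nat_lit 608), ⟨[nat_lit 72, nat_lit 53], [nat_lit 0, nat_lit 54], ⟨[nat_lit 0x69686455e98ac6750093106ec93ad0], [nat_lit 174080, nat_lit 170496, nat_lit 164864, nat_lit 163584, nat_lit 159232, nat_lit 154112, nat_lit 144136, nat_lit 141224, nat_lit 138994, nat_lit 134606, nat_lit 1698, nat_lit 5208, nat_lit 10224, nat_lit 13920, nat_lit 17088, nat_lit 21376, nat_lit 29952, nat_lit 33792, nat_lit 41787, nat_lit 38002, nat_lit 33333, nat_lit 28702, nat_lit 24591, nat_lit 20765, nat_lit 16391, nat_lit 12358, nat_lit 8193]⟩⟩⟩,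
  ⟨[], [], (nat_lit 1136), ⟨[nat_lit 0, nat_lit 72, nat_lit 53], [nat_lit 72, nat_lit 48], ⟨[nat_lit 0x69686455e98ac6750093106ec93ad0], [nat_lit 175104, nat_lit 170496, nat_lit 164864, nat_lit 163584, nat_lit 159296, nat_lit 154144, nat_lit 147472, nat_lit 144128, nat_lit 141228, nat_lit 138994, nat_lit 134606, nat_lit 1698, nat_lit 5208, nat_lit 10224, nat_lit 13920, nat_lit 17088, nat_lit 21376, nat_lit 29952, nat_lit 33792, nat_lit 41787, nat_lit 38002, nat_lit 33333, nat_lit 28702, nat_lit 24591, nat_lit 20765, nat_lit 16391, nat_lit 12358, nat_lit 8193]⟩⟩⟩]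
theorem sth1 : Suf thT 19005990 (ldrop (lapp thwi1 [1, 0, 1]) 6) (apW dcM pth0) (tgtN dcM pth0.e) := Suf.seg (l := lth1) (by decide +kernel) sth2
def lth0 : List AP := [⟨[nat_lit 16, nat_lit 16, nat_lit 16, nat_lit 17, nat_lit 43, nat_lit 16], [], (nat_lit 150), ⟨[nat_lit 0, nat_lit 10, nat_lit 90], [nat_lit 31, nat_lit 47], ⟨[nat_lit 0x2aeb1540f74cc94605af009c391916], [nat_lit 173056, nat_lit 168448, nat_lit 165632, nat_lit 161024, nat_lit 158208, nat_lit 153408, nat_lit 149248, nat_lit 144024, nat_lit 141128, nat_lit 136256, nat_lit 131657, nat_lit 760, nat_lit 5988, nat_lit 8840, nat_lit 17696, nat_lit 21824, nat_lit 25600, nat_lit 29184, nat_lit 33280, nat_lit 37888, nat_lit 41164, nat_lit 37187, nat_lit 33323, nat_lit 29712, nat_lit 24581, nat_lit 20744, nat_lit 16516, nat_lit 12304, nat_lit 8257, nat_lit 4609]⟩⟩⟩,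
  ⟨[nat_lit 84, nat_lit 644, nat_lit 102, nat_lit 77, nat_lit 76], [], (nat_lit 718), ⟨[nat_lit 0, nat_lit 41, nat_lit 64], [nat_lit 77, nat_lit 93], ⟨[nat_lit 0x815a00924c39ae9555eeb457315068], [nat_lit 165376, nat_lit 160000, nat_lit 155968, nat_lit 152128, nat_lit 151008, nat_lit 144880, nat_lit 139664, nat_lit 135620, nat_lit 131359, nat_lit 846, nat_lit 4932, nat_lit 8224, nat_lit 12320, nat_lit 16640, nat_lit 20736, nat_lit 25088, nat_lit 34304, nat_lit 37888, nat_lit 41232, nat_lit 37136, nat_lit 32900, nat_lit 28686, nat_lit 24586, nat_lit 20507, nat_lit 16385, nat_lit 12327, nat_lit 8200, nat_lit 4129, nat_lit 16]⟩⟩⟩]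
theorem thci1_0 : Suf thT 19005990 (lapp thwi1 [1, 0, 1]) (apW dcM q0) (tgtN dcM q0.e) := Suf.seg (l := lth0) (by decide +kernel) sth1

def pth3 : AP := ⟨[nat_lit 672, nat_lit 290, nat_lit 293, nat_lit 284], [], (nat_lit 872), ⟨[nat_lit 43, nat_lit 55], [nat_lit 14, nat_lit 63], ⟨[nat_lit 0x6ce9562d3508c3897349470ba90f], [nat_lit 174080, nat_lit 169984, nat_lit 165376, nat_lit 163200, nat_lit 159040, nat_lit 155328, nat_lit 149296, nat_lit 144184, nat_lit 140328, nat_lit 137670, nat_lit 133321, nat_lit 394, nat_lit 5372, nat_lit 8488, nat_lit 13920, nat_lit 16544, nat_lit 22016, nat_lit 25344, nat_lit 30464, nat_lit 41609, nat_lit 37129, nat_lit 33421, nat_lit 29029, nat_lit 24594, nat_lit 20628, nat_lit 16428, nat_lit 12290, nat_lit 8225, nat_lit 4105]⟩⟩⟩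
def pth4 : AP := ⟨[nat_lit 676, nat_lit 678, nat_lit 466, nat_lit 413, nat_lit 418], [], (nat_lit 1242), ⟨[nat_lit 42, nat_lit 91], [nat_lit 28, nat_lit 62], ⟨[nat_lit 0x32e6384595b804d3c828b15c4a292f], [nat_lit 173056, nat_lit 169984, nat_lit 164352, nat_lit 161280, nat_lit 156224, nat_lit 153024, nat_lit 149264, nat_lit 144248, nat_lit 140004, nat_lit 135924, nat_lit 132695, nat_lit 122, nat_lit 6084, nat_lit 8408, nat_lit 12320, nat_lit 16896, nat_lit 20992, nat_lit 24960, nat_lit 29696, nat_lit 33280, nat_lit 41600, nat_lit 38362, nat_lit 28748, nat_lit 24757, nat_lit 20488, nat_lit 12320, nat_lit 8321, nat_lit 4]⟩⟩⟩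
def lth5 : List AP := [⟨[nat_lit 673, nat_lit 295], [], (nat_lit 1222), ⟨[nat_lit 25, nat_lit 91], [nat_lit 31, nat_lit 54], ⟨[nat_lit 0x23aa90de76145af650e81c14b048c5], [nat_lit 175104, nat_lit 169472, nat_lit 165632, nat_lit 160512, nat_lit 159488, nat_lit 153664, nat_lit 150672, nat_lit 143752, nat_lit 142188, nat_lit 136550, nat_lit 134776, nat_lit 1268, nat_lit 6104, nat_lit 9456, nat_lit 14048, nat_lit 16448, nat_lit 22016, nat_lit 25344, nat_lit 37888, nat_lit 41921, nat_lit 38179, nat_lit 32897, nat_lit 28718, nat_lit 25150, nat_lit 20609, nat_lit 16463, nat_lit 12323, nat_lit 8201, nat_lit 4112]⟩⟩⟩,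
  ⟨[nat_lit 68, nat_lit 46], [], (nat_lit 122), ⟨[nat_lit 27, nat_lit 61], [nat_lit 0, nat_lit 42, nat_lit 47], ⟨[nat_lit 0x39aaaa46682418073d37095b2b0963], [nat_lit 171008, nat_lit 164096, nat_lit 161408, nat_lit 155968, nat_lit 152864, nat_lit 148848, nat_lit 143808, nat_lit 141048, nat_lit 135570, nat_lit 132537, nat_lit 688, nat_lit 4568, nat_lit 8704, nat_lit 12800, nat_lit 18016, nat_lit 21760, nat_lit 25984, nat_lit 33280, nat_lit 37888, nat_lit 41600, nat_lit 38055, nat_lit 32837, nat_lit 29757, nat_lit 24837, nat_lit 20614, nat_lit 16427, nat_lit 12289, nat_lit 8]⟩⟩⟩,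
  ⟨[nat_lit 15, nat_lit 633], [], (nat_lit 1032), ⟨[nat_lit 7, nat_lit 63], [nat_lit 0, nat_lit 44, nat_lit 90], ⟨[nat_lit 0x55a8198229854eebc88d2a0c37898b], [nat_lit 173056, nat_lit 164096, nat_lit 161280, nat_lit 157504, nat_lit 153088, nat_lit 148208, nat_lit 144944, nat_lit 141264, nat_lit 135518, nat_lit 134934, nat_lit 986, nat_lit 4408, nat_lit 8928, nat_lit 13696, nat_lit 16672, nat_lit 22336, nat_lit 28928, nat_lit 34304, nat_lit 37888, nat_lit 41891, nat_lit 37027, nat_lit 32908, nat_lit 28707, nat_lit 24605, nat_lit 20505, nat_lit 16418, nat_lit 12291, nat_lit 8195, nat_lit 4100]⟩⟩⟩]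
theorem sth5 : Suf thT 19005990 (ldrop (lapp thwi1 [2, 0, 1]) 13) (apW dcM pth4) (tgtN dcM pth4.e) := Suf.fin' (l := lth5) (by decide +kernel)
def lth4 : List AP := [⟨[nat_lit 674, nat_lit 466, nat_lit 414, nat_lit 677], [], (nat_lit 875), ⟨[nat_lit 0, nat_lit 12, nat_lit 70], [nat_lit 0, nat_lit 70], ⟨[nat_lit 0x705f1b1d2c42c5299480adc70551a6], [nat_lit 174080, nat_lit 168960, nat_lit 164096, nat_lit 161792, nat_lit 156480, nat_lit 152544, nat_lit 150416, nat_lit 145680, nat_lit 141740, nat_lit 137440, nat_lit 134275, nat_lit 158, nat_lit 5488, nat_lit 10152, nat_lit 12320, nat_lit 18272, nat_lit 20928, nat_lit 25472, nat_lit 29440, nat_lit 34304, nat_lit 41818, nat_lit 38277, nat_lit 33948, nat_lit 28975, nat_lit 24718, nat_lit 20550, nat_lit 16910, nat_lit 12421, nat_lit 8201]⟩⟩⟩,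
  ⟨[], [], (nat_lit 874), ⟨[nat_lit 0, nat_lit 12, nat_lit 70], [nat_lit 12], ⟨[nat_lit 0x705f1b1d2c42c5299480adc70551a6], [nat_lit 174080, nat_lit 168960, nat_lit 164096, nat_lit 161920, nat_lit 156416, nat_lit 152544, nat_lit 150400, nat_lit 145688, nat_lit 141740, nat_lit 137442, nat_lit 134275, nat_lit 158, nat_lit 5488, nat_lit 10152, nat_lit 12320, nat_lit 18272, nat_lit 20928, nat_lit 25472, nat_lit 29440, nat_lit 34304, nat_lit 41818, nat_lit 38277, nat_lit 33948, nat_lit 28975, nat_lit 24718, nat_lit 20550, nat_lit 16910, nat_lit 12421, nat_lit 8201]⟩⟩⟩]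
theorem sth4 : Suf thT 19005990 (ldrop (lapp thwi1 [2, 0, 1]) 6) (apW dcM pth3) (tgtN dcM pth3.e) := Suf.seg (l := lth4) (by decide +kernel) sth5
def lth3 : List AP := [⟨[nat_lit 38, nat_lit 630, nat_lit 41, nat_lit 41, nat_lit 37], [], (nat_lit 90), ⟨[nat_lit 45, nat_lit 89], [nat_lit 0, nat_lit 35, nat_lit 68], ⟨[nat_lit 0x5b6f1306121d6c4a2993781c712505], [nat_lit 164608, nat_lit 156480, nat_lit 147536, nat_lit 143688, nat_lit 139408, nat_lit 138296, nat_lit 132288, nat_lit 1054, nat_lit 4352, nat_lit 9664, nat_lit 13584, nat_lit 17120, nat_lit 22144, nat_lit 28928, nat_lit 33280, nat_lit 41933, nat_lit 37186, nat_lit 32819, nat_lit 28694, nat_lit 25088, nat_lit 20753, nat_lit 16517, nat_lit 13315, nat_lit 16]⟩⟩⟩,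
  ⟨[nat_lit 56, nat_lit 56, nat_lit 47, nat_lit 642, nat_lit 47, nat_lit 46], [], (nat_lit 716), ⟨[nat_lit 0, nat_lit 5, nat_lit 67], [nat_lit 41, nat_lit 68], ⟨[nat_lit 0x239acb8511394cf550504c876acc0b], [nat_lit 164096, nat_lit 160384, nat_lit 156032, nat_lit 152064, nat_lit 147536, nat_lit 144840, nat_lit 140284, nat_lit 137830, nat_lit 131175, nat_lit 986, nat_lit 4684, nat_lit 9384, nat_lit 13264, nat_lit 17632, nat_lit 20800, nat_lit 25600, nat_lit 29952, nat_lit 33792, nat_lit 37888, nat_lit 41638, nat_lit 37286, nat_lit 33344, nat_lit 28766, nat_lit 24760, nat_lit 20500, nat_lit 16421, nat_lit 12295, nat_lit 8200, nat_lit 4100, nat_lit 2]⟩⟩⟩]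
theorem thci1_1 : Suf thT 19005990 (lapp thwi1 [2, 0, 1]) (iC2 :: apW dcM q0) (tgtN dcM q0.e) := Suf.seg (l := lth3) (by decide +kernel) sth4

def pth6 : AP := ⟨[nat_lit 665, nat_lit 228, nat_lit 264, nat_lit 222], [], (nat_lit 1106), ⟨[nat_lit 42, nat_lit 48], [nat_lit 0, nat_lit 73, nat_lit 93], ⟨[nat_lit 0x80c37330086a482a48e5b4d6a7ba35], [nat_lit 169472, nat_lit 167424, nat_lit 159872, nat_lit 156032, nat_lit 154976, nat_lit 150704, nat_lit 146504, nat_lit 143128, nat_lit 138932, nat_lit 132226, nat_lit 2012, nat_lit 4924, nat_lit 9648, nat_lit 13664, nat_lit 16864, nat_lit 21056, nat_lit 26496, nat_lit 28928, nat_lit 33280, nat_lit 37888, nat_lit 41117, nat_lit 37135, nat_lit 32898, nat_lit 29046, nat_lit 24758, nat_lit 20639, nat_lit 16385, nat_lit 12290, nat_lit 8194]⟩⟩⟩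
def pth7 : AP := ⟨[nat_lit 223, nat_lit 229, nat_lit 227, nat_lit 222], [], (nat_lit 506), ⟨[nat_lit 7, nat_lit 64], [nat_lit 76, nat_lit 56], ⟨[nat_lit 0x78e37209004b4cca28f62cd7283835], [nat_lit 164864, nat_lit 156032, nat_lit 152992, nat_lit 148304, nat_lit 145312, nat_lit 142872, nat_lit 135542, nat_lit 132422, nat_lit 1766, nat_lit 4100, nat_lit 10224, nat_lit 13408, nat_lit 18400, nat_lit 21824, nat_lit 25472, nat_lit 29440, nat_lit 33792, nat_lit 41821, nat_lit 37961, nat_lit 33371, nat_lit 28762, nat_lit 24749, nat_lit 20499, nat_lit 16388, nat_lit 12422, nat_lit 8200]⟩⟩⟩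
def lth8 : List AP := [⟨[nat_lit 264, nat_lit 668, nat_lit 226], [], (nat_lit 1120), ⟨[nat_lit 0, nat_lit 5, nat_lit 58], [nat_lit 13, nat_lit 64], ⟨[nat_lit 0xb86b2bceab90128a5b3808d4432b6], [nat_lit 174080, nat_lit 170496, nat_lit 166912, nat_lit 160512, nat_lit 159488, nat_lit 154176, nat_lit 148784, nat_lit 147376, nat_lit 141176, nat_lit 137078, nat_lit 132784, nat_lit 1488, nat_lit 5208, nat_lit 8712, nat_lit 13920, nat_lit 16576, nat_lit 22400, nat_lit 25600, nat_lit 29440, nat_lit 37888, nat_lit 41444, nat_lit 37175, nat_lit 32807, nat_lit 29804, nat_lit 25623, nat_lit 20569, nat_lit 16459, nat_lit 8194, nat_lit 4097]⟩⟩⟩,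
  ⟨[nat_lit 78], [], (nat_lit 196), ⟨[nat_lit 21, nat_lit 59], [nat_lit 31, nat_lit 61], ⟨[nat_lit 0x408c0b3872aa8b759e309d02f6112d], [nat_lit 174080, nat_lit 170496, nat_lit 166400, nat_lit 163712, nat_lit 156032, nat_lit 154784, nat_lit 149888, nat_lit 143376, nat_lit 141424, nat_lit 135646, nat_lit 133110, nat_lit 1624, nat_lit 4720, nat_lit 10144, nat_lit 13552, nat_lit 16672, nat_lit 21120, nat_lit 25344, nat_lit 29440, nat_lit 33280, nat_lit 37888, nat_lit 41748, nat_lit 37228, nat_lit 33012, nat_lit 28774, nat_lit 24722, nat_lit 20553, nat_lit 16417, nat_lit 12290]⟩⟩⟩,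
  ⟨[nat_lit 633], [], (nat_lit 1032), ⟨[nat_lit 79, nat_lit 64], [nat_lit 0, nat_lit 8, nat_lit 52], ⟨[nat_lit 0x85c51a28282397379d32b1865032ad], [nat_lit 174080, nat_lit 169984, nat_lit 167424, nat_lit 161664, nat_lit 157184, nat_lit 152096, nat_lit 149728, nat_lit 145152, nat_lit 139524, nat_lit 138356, nat_lit 134710, nat_lit 210, nat_lit 5900, nat_lit 8680, nat_lit 13872, nat_lit 18080, nat_lit 21696, nat_lit 26240, nat_lit 28928, nat_lit 41281, nat_lit 37223, nat_lit 32833, nat_lit 28761, nat_lit 24577, nat_lit 20998, nat_lit 16520, nat_lit 12423, nat_lit 8201, nat_lit 4101, nat_lit 4]⟩⟩⟩]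
theorem sth8 : Suf thT 19005990 (ldrop (lapp thwi1 [3, 0, 1]) 13) (apW dcM pth7) (tgtN dcM pth7.e) := Suf.fin' (l := lth8) (by decide +kernel)
def lth7 : List AP := [⟨[nat_lit 225, nat_lit 222, nat_lit 259, nat_lit 266], [], (nat_lit 488), ⟨[nat_lit 0, nat_lit 45, nat_lit 57], [nat_lit 17, nat_lit 89], ⟨[nat_lit 0xb0e3042aa024d2f749670b1b431457], [nat_lit 174080, nat_lit 171008, nat_lit 165888, nat_lit 160000, nat_lit 156416, nat_lit 153216, nat_lit 149520, nat_lit 143744, nat_lit 140416, nat_lit 138736, nat_lit 134837, nat_lit 1136, nat_lit 4964, nat_lit 8320, nat_lit 12560, nat_lit 17472, nat_lit 20544, nat_lit 24704, nat_lit 29696, nat_lit 34304, nat_lit 41293, nat_lit 37232, nat_lit 33452, nat_lit 28682, nat_lit 24630, nat_lit 20561, nat_lit 16449, nat_lit 12421, nat_lit 8195, nat_lit 4097, nat_lit 2]⟩⟩⟩,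
  ⟨[], [], (nat_lit 489), ⟨[nat_lit 0, nat_lit 45, nat_lit 57], [nat_lit 36, nat_lit 54], ⟨[nat_lit 0xb0e3042aa024d2f749670b1b431457], [nat_lit 175104, nat_lit 171008, nat_lit 166144, nat_lit 160128, nat_lit 156480, nat_lit 153216, nat_lit 149504, nat_lit 143752, nat_lit 140420, nat_lit 138738, nat_lit 134837, nat_lit 1136, nat_lit 4964, nat_lit 8320, nat_lit 12560, nat_lit 17472, nat_lit 20544, nat_lit 24704, nat_lit 29696, nat_lit 34304, nat_lit 41293, nat_lit 37232, nat_lit 33452, nat_lit 28682, nat_lit 24630, nat_lit 20561, nat_lit 16449, nat_lit 12421, nat_lit 8195, nat_lit 4097, nat_lit 2]⟩⟩⟩]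
theorem sth7 : Suf thT 19005990 (ldrop (lapp thwi1 [3, 0, 1]) 6) (apW dcM pth6) (tgtN dcM pth6.e) := Suf.seg (l := lth7) (by decide +kernel) sth8
def lth6 : List AP := [⟨[nat_lit 632, nat_lit 37, nat_lit 14, nat_lit 39, nat_lit 17, nat_lit 40], [], (nat_lit 150), ⟨[nat_lit 0, nat_lit 4, nat_lit 70], [nat_lit 72, nat_lit 61], ⟨[nat_lit 0x8c0b51a64d0d006b9d4b612ce40a6f], [nat_lit 174080, nat_lit 168448, nat_lit 166144, nat_lit 162816, nat_lit 158720, nat_lit 153344, nat_lit 149088, nat_lit 144152, nat_lit 142648, nat_lit 138824, nat_lit 131528, nat_lit 1318, nat_lit 4780, nat_lit 10088, nat_lit 13920, nat_lit 18336, nat_lit 21888, nat_lit 25472, nat_lit 29440, nat_lit 33792, nat_lit 41786, nat_lit 37936, nat_lit 32852, nat_lit 28697, nat_lit 24613, nat_lit 20546, nat_lit 16390, nat_lit 12290, nat_lit 8194, nat_lit 4097, nat_lit 2]⟩⟩⟩,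
  ⟨[nat_lit 101, nat_lit 83, nat_lit 100, nat_lit 646, nat_lit 105], [], (nat_lit 534), ⟨[nat_lit 0, nat_lit 30, nat_lit 89], [nat_lit 0, nat_lit 72], ⟨[nat_lit 0x73ca05d992ab60a0c66435c7441c49], [nat_lit 173056, nat_lit 171520, nat_lit 164608, nat_lit 163200, nat_lit 156352, nat_lit 154912, nat_lit 151408, nat_lit 146664, nat_lit 141140, nat_lit 135692, nat_lit 134262, nat_lit 1918, nat_lit 5568, nat_lit 9184, nat_lit 12368, nat_lit 16480, nat_lit 21184, nat_lit 25216, nat_lit 29184, nat_lit 37888, nat_lit 41244, nat_lit 37097, nat_lit 32919, nat_lit 29000, nat_lit 24760, nat_lit 20488, nat_lit 16520, nat_lit 12327, nat_lit 8194, nat_lit 4097]⟩⟩⟩]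
theorem thci1_2 : Suf thT 19005990 (lapp thwi1 [3, 0, 1]) (iC3 :: apW dcM q0) (tgtN dcM q0.e) := Suf.seg (l := lth6) (by decide +kernel) sth7

def pth9 : AP := ⟨[nat_lit 226, nat_lit 222, nat_lit 264, nat_lit 265, nat_lit 222], [], (nat_lit 636), ⟨[nat_lit 0, nat_lit 38, nat_lit 89], [nat_lit 87, nat_lit 63], ⟨[nat_lit 0x5d69190c2a24d2501d9630aef73510], [nat_lit 160256, nat_lit 157632, nat_lit 151744, nat_lit 148992, nat_lit 145560, nat_lit 140420, nat_lit 136886, nat_lit 131597, nat_lit 428, nat_lit 6076, nat_lit 10224, nat_lit 12352, nat_lit 17056, nat_lit 21760, nat_lit 24832, nat_lit 29184, nat_lit 33280, nat_lit 41756, nat_lit 37190, nat_lit 32941, nat_lit 29020, nat_lit 24587, nat_lit 20633, nat_lit 16513, nat_lit 12292, nat_lit 8201, nat_lit 4161, nat_lit 4]⟩⟩⟩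
def pth10 : AP := ⟨[nat_lit 288, nat_lit 671, nat_lit 285, nat_lit 285], [], (nat_lit 1150), ⟨[nat_lit 9, nat_lit 89], [nat_lit 18, nat_lit 61], ⟨[nat_lit 0x8068998ea824a2e01d827dae62b54b], [nat_lit 173056, nat_lit 168960, nat_lit 165632, nat_lit 160896, nat_lit 156032, nat_lit 152448, nat_lit 148768, nat_lit 145768, nat_lit 140632, nat_lit 135842, nat_lit 131675, nat_lit 1224, nat_lit 5072, nat_lit 9512, nat_lit 12416, nat_lit 18336, nat_lit 22016, nat_lit 26496, nat_lit 29696, nat_lit 33280, nat_lit 37888, nat_lit 41689, nat_lit 37331, nat_lit 32804, nat_lit 28733, nat_lit 25115, nat_lit 20619, nat_lit 16430, nat_lit 8193, nat_lit 4097, nat_lit 2]⟩⟩⟩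
def lth11 : List AP := [⟨[nat_lit 668, nat_lit 666, nat_lit 227, nat_lit 231], [], (nat_lit 488), ⟨[nat_lit 0, nat_lit 11, nat_lit 62], [nat_lit 0, nat_lit 24, nat_lit 69], ⟨[nat_lit 0x13a6a0c1e9292a7045a860d72bd8d4], [nat_lit 168448, nat_lit 165376, nat_lit 160768, nat_lit 159552, nat_lit 153280, nat_lit 148848, nat_lit 145280, nat_lit 140832, nat_lit 136800, nat_lit 131104, nat_lit 664, nat_lit 4488, nat_lit 9928, nat_lit 14144, nat_lit 16960, nat_lit 21504, nat_lit 25216, nat_lit 29184, nat_lit 41736, nat_lit 38368, nat_lit 32960, nat_lit 28754, nat_lit 24582, nat_lit 21003, nat_lit 16514, nat_lit 12805, nat_lit 8200, nat_lit 4129, nat_lit 4]⟩⟩⟩,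
  ⟨[], [], (nat_lit 1052), ⟨[nat_lit 0, nat_lit 84, nat_lit 58], [nat_lit 7, nat_lit 61], ⟨[nat_lit 0x7ad31aa067b8544315d0936d49b002], [nat_lit 173056, nat_lit 168448, nat_lit 166912, nat_lit 159872, nat_lit 156160, nat_lit 153120, nat_lit 147904, nat_lit 145008, nat_lit 140068, nat_lit 135274, nat_lit 132043, nat_lit 4, nat_lit 4408, nat_lit 8448, nat_lit 12480, nat_lit 17216, nat_lit 22400, nat_lit 25088, nat_lit 30208, nat_lit 33280, nat_lit 37888, nat_lit 41897, nat_lit 37320, nat_lit 32832, nat_lit 28733, nat_lit 24867, nat_lit 20547, nat_lit 16525, nat_lit 12422, nat_lit 8194, nat_lit 4101, nat_lit 2]⟩⟩⟩,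
  ⟨[], [], (nat_lit 1034), ⟨[nat_lit 72, nat_lit 61], [nat_lit 0, nat_lit 17, nat_lit 49], ⟨[nat_lit 0x848ef3002eb508c145372a1ab50eb3], [nat_lit 173056, nat_lit 164096, nat_lit 161024, nat_lit 157632, nat_lit 152064, nat_lit 147760, nat_lit 143496, nat_lit 140436, nat_lit 137056, nat_lit 133199, nat_lit 582, nat_lit 5856, nat_lit 9384, nat_lit 12576, nat_lit 17696, nat_lit 22336, nat_lit 24832, nat_lit 28928, nat_lit 33280, nat_lit 41583, nat_lit 38306, nat_lit 33297, nat_lit 28952, nat_lit 24627, nat_lit 20487, nat_lit 16389, nat_lit 12550, nat_lit 8195, nat_lit 4]⟩⟩⟩]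
theorem sth11 : Suf thT 2048 (ldrop (lapp thwi1 [1, 0, 1]) 13) (apW dcM pth10) (tgtN dcM pth10.e) := Suf.fin' (l := lth11) (by decide +kernel)
def lth10 : List AP := [⟨[nat_lit 286, nat_lit 294, nat_lit 352, nat_lit 290, nat_lit 284], [], (nat_lit 668), ⟨[nat_lit 42, nat_lit 68], [nat_lit 32, nat_lit 56], ⟨[nat_lit 0x41269834aea814fb8d8b11c31b4a86], [nat_lit 173056, nat_lit 168448, nat_lit 166912, nat_lit 163456, nat_lit 159552, nat_lit 155360, nat_lit 148320, nat_lit 147296, nat_lit 143252, nat_lit 137204, nat_lit 134921, nat_lit 1516, nat_lit 5604, nat_lit 10064, nat_lit 12640, nat_lit 16544, nat_lit 21504, nat_lit 24704, nat_lit 29184, nat_lit 33280, nat_lit 37888, nat_lit 41286, nat_lit 36993, nat_lit 33865, nat_lit 29206, nat_lit 24613, nat_lit 20483, nat_lit 16518, nat_lit 12547, nat_lit 8201, nat_lit 4128]⟩⟩⟩,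
  ⟨[], [], (nat_lit 1158), ⟨[nat_lit 0, nat_lit 42, nat_lit 68], [nat_lit 0, nat_lit 14, nat_lit 65], ⟨[nat_lit 0x41269834aea814fb8d8b11c31b4a86], [nat_lit 173056, nat_lit 166912, nat_lit 163328, nat_lit 159552, nat_lit 155360, nat_lit 148336, nat_lit 147296, nat_lit 143248, nat_lit 137204, nat_lit 134921, nat_lit 1516, nat_lit 5604, nat_lit 10064, nat_lit 12640, nat_lit 16544, nat_lit 21504, nat_lit 24704, nat_lit 29184, nat_lit 33280, nat_lit 37888, nat_lit 41286, nat_lit 36993, nat_lit 33865, nat_lit 29206, nat_lit 24613, nat_lit 20483, nat_lit 16518, nat_lit 12547, nat_lit 8201, nat_lit 4128]⟩⟩⟩]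
theorem sth10 : Suf thT 2048 (ldrop (lapp thwi1 [1, 0, 1]) 6) (apW dcM pth9) (tgtN dcM pth9.e) := Suf.seg (l := lth10) (by decide +kernel) sth11
def lth9 : List AP := [⟨[nat_lit 21, nat_lit 25, nat_lit 32, nat_lit 22, nat_lit 30, nat_lit 25], [], (nat_lit 276), ⟨[nat_lit 71], [nat_lit 0, nat_lit 32, nat_lit 90], ⟨[nat_lit 0x5c0223506e4c6d551e44281f79a1ac], [nat_lit 164096, nat_lit 161664, nat_lit 157376, nat_lit 155424, nat_lit 148048, nat_lit 144928, nat_lit 140996, nat_lit 136826, nat_lit 132959, nat_lit 210, nat_lit 4380, nat_lit 9112, nat_lit 13488, nat_lit 16768, nat_lit 22016, nat_lit 25344, nat_lit 34304, nat_lit 41719, nat_lit 37144, nat_lit 32944, nat_lit 29000, nat_lit 24708, nat_lit 20560, nat_lit 16455, nat_lit 12310, nat_lit 8201, nat_lit 4097, nat_lit 2]⟩⟩⟩,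
  ⟨[nat_lit 144, nat_lit 143, nat_lit 656, nat_lit 658, nat_lit 149], [], (nat_lit 476), ⟨[nat_lit 31, nat_lit 63], [nat_lit 9, nat_lit 67], ⟨[nat_lit 0xb826e1b2d1220c70b690155f22a54b], [nat_lit 173056, nat_lit 168960, nat_lit 165888, nat_lit 161280, nat_lit 153760, nat_lit 149952, nat_lit 145616, nat_lit 142652, nat_lit 138426, nat_lit 133082, nat_lit 1224, nat_lit 4952, nat_lit 9752, nat_lit 13552, nat_lit 17728, nat_lit 21248, nat_lit 25728, nat_lit 29184, nat_lit 41405, nat_lit 37055, nat_lit 34035, nat_lit 28758, nat_lit 24728, nat_lit 21005, nat_lit 16428, nat_lit 12294, nat_lit 8202, nat_lit 4105, nat_lit 2]⟩⟩⟩]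
theorem thci1_3 : Suf thT 2048 (lapp thwi1 [1, 0, 1]) (apW dcM q1) (tgtN dcM q1.e) := Suf.seg (l := lth9) (by decide +kernel) sth10

theorem thci2 : Chk thT thwi2 := .inr (by decide +kernel)

theorem thci3 : Chk thT thwi3 := .inr (by decide +kernel)

theorem thci4 : Chk thT thwi4 := .inr (by decide +kernel)

theorem thci5 : Chk thT thwi5 := .inr (by decide +kernel)

theorem thci6 : Chk thT thwi6 := .inr (by decide +kernel)

theorem thci7 : Chk thT thwi7 := .inr (by decide +kernel)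

theorem thcr0 : Chk thT thwr0 := .inr (by decide +kernel)

def pth12 : AP := ⟨[nat_lit 352, nat_lit 355, nat_lit 290], [], (nat_lit 1132), ⟨[nat_lit 76, nat_lit 59], [nat_lit 25, nat_lit 67], ⟨[nat_lit 0x3ae644b9f250c113504c686e5ada08], [nat_lit 174080, nat_lit 169984, nat_lit 166144, nat_lit 162432, nat_lit 157056, nat_lit 155264, nat_lit 149856, nat_lit 145216, nat_lit 142948, nat_lit 137008, nat_lit 131581, nat_lit 952, nat_lit 5400, nat_lit 9904, nat_lit 12592, nat_lit 16512, nat_lit 21632, nat_lit 30208, nat_lit 33280, nat_lit 41390, nat_lit 37340, nat_lit 32786, nat_lit 29205, nat_lit 24717, nat_lit 21530, nat_lit 16416, nat_lit 12422, nat_lit 8193, nat_lit 4105, nat_lit 4]⟩⟩⟩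
def pth13 : AP := ⟨[nat_lit 259, nat_lit 224], [], (nat_lit 604), ⟨[nat_lit 31, nat_lit 55], [nat_lit 13, nat_lit 50], ⟨[nat_lit 0x226e15a9f161cd22d00868e029daae], [nat_lit 174080, nat_lit 169984, nat_lit 166400, nat_lit 160256, nat_lit 157568, nat_lit 153056, nat_lit 151536, nat_lit 143968, nat_lit 140096, nat_lit 138202, nat_lit 134535, nat_lit 166, nat_lit 5208, nat_lit 9384, nat_lit 12512, nat_lit 18336, nat_lit 21440, nat_lit 26112, nat_lit 28928, nat_lit 33280, nat_lit 37888, nat_lit 41845, nat_lit 38304, nat_lit 32861, nat_lit 29256, nat_lit 24605, nat_lit 21522, nat_lit 16385, nat_lit 12353, nat_lit 8202, nat_lit 4100]⟩⟩⟩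
def lth14 : List AP := [⟨[nat_lit 290, nat_lit 356, nat_lit 287], [], (nat_lit 1218), ⟨[nat_lit 42, nat_lit 63], [nat_lit 0, nat_lit 13, nat_lit 53], ⟨[nat_lit 0x794c06c642752e38590459e756052a], [nat_lit 173056, nat_lit 169984, nat_lit 164096, nat_lit 159872, nat_lit 156800, nat_lit 152320, nat_lit 149472, nat_lit 145096, nat_lit 139404, nat_lit 137040, nat_lit 132297, nat_lit 1298, nat_lit 6084, nat_lit 9664, nat_lit 13552, nat_lit 16864, nat_lit 21696, nat_lit 26496, nat_lit 34304, nat_lit 41181, nat_lit 32816, nat_lit 28717, nat_lit 24580, nat_lit 20503, nat_lit 16385, nat_lit 12290, nat_lit 8194]⟩⟩⟩,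
  ⟨[nat_lit 81], [], (nat_lit 196), ⟨[nat_lit 14, nat_lit 69], [nat_lit 7, nat_lit 50], ⟨[nat_lit 0xab42978eca9208b619d0bd22711660], [nat_lit 173056, nat_lit 169472, nat_lit 164096, nat_lit 159872, nat_lit 156224, nat_lit 152960, nat_lit 147520, nat_lit 146120, nat_lit 139896, nat_lit 135810, nat_lit 131610, nat_lit 8, nat_lit 4684, nat_lit 8320, nat_lit 12416, nat_lit 18112, nat_lit 21312, nat_lit 25344, nat_lit 29184, nat_lit 37888, nat_lit 41704, nat_lit 38225, nat_lit 32968, nat_lit 28680, nat_lit 24855, nat_lit 21019, nat_lit 16387, nat_lit 12292, nat_lit 8200, nat_lit 4097]⟩⟩⟩,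
  ⟨[nat_lit 16, nat_lit 633, nat_lit 36], [], (nat_lit 1032), ⟨[nat_lit 54], [nat_lit 0, nat_lit 73, nat_lit 68], ⟨[nat_lit 0x83c41a36b24cd4eb1c682ac1724586], [nat_lit 173056, nat_lit 168448, nat_lit 166400, nat_lit 162432, nat_lit 158528, nat_lit 154304, nat_lit 147696, nat_lit 146368, nat_lit 141864, nat_lit 136024, nat_lit 133408, nat_lit 1516, nat_lit 5436, nat_lit 10040, nat_lit 12672, nat_lit 17408, nat_lit 26240, nat_lit 29184, nat_lit 33792, nat_lit 37888, nat_lit 41183, nat_lit 36914, nat_lit 32769, nat_lit 29707, nat_lit 24725, nat_lit 21013, nat_lit 16392, nat_lit 12305, nat_lit 8226, nat_lit 4097]⟩⟩⟩]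
theorem sth14 : Suf thT 19005990 (ldrop (lapp thwr1 [1, 0, 1]) 13) (apW dcM pth13) (tgtN dcM pth13.e) := Suf.fin' (l := lth14) (by decide +kernel)
def lth13 : List AP := [⟨[nat_lit 261, nat_lit 224, nat_lit 224, nat_lit 666, nat_lit 223], [], (nat_lit 608), ⟨[nat_lit 72, nat_lit 53], [nat_lit 0, nat_lit 54], ⟨[nat_lit 0x69686455e98ac6750093106ec93ad0], [nat_lit 174080, nat_lit 170496, nat_lit 164864, nat_lit 163584, nat_lit 159232, nat_lit 154112, nat_lit 144136, nat_lit 141224, nat_lit 138994, nat_lit 134606, nat_lit 1698, nat_lit 5208, nat_lit 10224, nat_lit 13920, nat_lit 17088, nat_lit 21376, nat_lit 29952, nat_lit 33792, nat_lit 41787, nat_lit 38002, nat_lit 33333, nat_lit 28702, nat_lit 24591, nat_lit 20765, nat_lit 16391, nat_lit 12358, nat_lit 8193]⟩⟩⟩,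
  ⟨[], [], (nat_lit 1136), ⟨[nat_lit 0, nat_lit 72, nat_lit 53], [nat_lit 72, nat_lit 48], ⟨[nat_lit 0x69686455e98ac6750093106ec93ad0], [nat_lit 175104, nat_lit 170496, nat_lit 164864, nat_lit 163584, nat_lit 159296, nat_lit 154144, nat_lit 147472, nat_lit 144128, nat_lit 141228, nat_lit 138994, nat_lit 134606, nat_lit 1698, nat_lit 5208, nat_lit 10224, nat_lit 13920, nat_lit 17088, nat_lit 21376, nat_lit 29952, nat_lit 33792, nat_lit 41787, nat_lit 38002, nat_lit 33333, nat_lit 28702, nat_lit 24591, nat_lit 20765, nat_lit 16391, nat_lit 12358, nat_lit 8193]⟩⟩⟩]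
theorem sth13 : Suf thT 19005990 (ldrop (lapp thwr1 [1, 0, 1]) 6) (apW dcM pth12) (tgtN dcM pth12.e) := Suf.seg (l := lth13) (by decide +kernel) sth14
def lth12 : List AP := [⟨[nat_lit 16, nat_lit 16, nat_lit 16, nat_lit 17, nat_lit 43, nat_lit 16], [], (nat_lit 150), ⟨[nat_lit 0, nat_lit 10, nat_lit 90], [nat_lit 31, nat_lit 47], ⟨[nat_lit 0x2aeb1540f74cc94605af009c391916], [nat_lit 173056, nat_lit 168448, nat_lit 165632, nat_lit 161024, nat_lit 158208, nat_lit 153408, nat_lit 149248, nat_lit 144024, nat_lit 141128, nat_lit 136256, nat_lit 131657, nat_lit 760, nat_lit 5988, nat_lit 8840, nat_lit 17696, nat_lit 21824, nat_lit 25600, nat_lit 29184, nat_lit 33280, nat_lit 37888, nat_lit 41164, nat_lit 37187, nat_lit 33323, nat_lit 29712, nat_lit 24581, nat_lit 20744, nat_lit 16516, nat_lit 12304, nat_lit 8257, nat_lit 4609]⟩⟩⟩,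
  ⟨[nat_lit 84, nat_lit 644, nat_lit 102, nat_lit 77, nat_lit 76], [], (nat_lit 718), ⟨[nat_lit 0, nat_lit 41, nat_lit 64], [nat_lit 77, nat_lit 93], ⟨[nat_lit 0x815a00924c39ae9555eeb457315068], [nat_lit 165376, nat_lit 160000, nat_lit 155968, nat_lit 152128, nat_lit 151008, nat_lit 144880, nat_lit 139664, nat_lit 135620, nat_lit 131359, nat_lit 846, nat_lit 4932, nat_lit 8224, nat_lit 12320, nat_lit 16640, nat_lit 20736, nat_lit 25088, nat_lit 34304, nat_lit 37888, nat_lit 41232, nat_lit 37136, nat_lit 32900, nat_lit 28686, nat_lit 24586, nat_lit 20507, nat_lit 16385, nat_lit 12327, nat_lit 8200, nat_lit 4129, nat_lit 16]⟩⟩⟩]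
theorem thcr1_0 : Suf thT 19005990 (lapp thwr1 [1, 0, 1]) (apW dcM q0) (tgtN dcM q0.e) := Suf.seg (l := lth12) (by decide +kernel) sth13

def pth15 : AP := ⟨[nat_lit 672, nat_lit 290, nat_lit 293, nat_lit 284], [], (nat_lit 872), ⟨[nat_lit 43, nat_lit 55], [nat_lit 14, nat_lit 63], ⟨[nat_lit 0x6ce9562d3508c3897349470ba90f], [nat_lit 174080, nat_lit 169984, nat_lit 165376, nat_lit 163200, nat_lit 159040, nat_lit 155328, nat_lit 149296, nat_lit 144184, nat_lit 140328, nat_lit 137670, nat_lit 133321, nat_lit 394, nat_lit 5372, nat_lit 8488, nat_lit 13920, nat_lit 16544, nat_lit 22016, nat_lit 25344, nat_lit 30464, nat_lit 41609, nat_lit 37129, nat_lit 33421, nat_lit 29029, nat_lit 24594, nat_lit 20628, nat_lit 16428, nat_lit 12290, nat_lit 8225, nat_lit 4105]⟩⟩⟩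
def pth16 : AP := ⟨[nat_lit 676, nat_lit 678, nat_lit 466, nat_lit 413, nat_lit 418], [], (nat_lit 1242), ⟨[nat_lit 42, nat_lit 91], [nat_lit 28, nat_lit 62], ⟨[nat_lit 0x32e6384595b804d3c828b15c4a292f], [nat_lit 173056, nat_lit 169984, nat_lit 164352, nat_lit 161280, nat_lit 156224, nat_lit 153024, nat_lit 149264, nat_lit 144248, nat_lit 140004, nat_lit 135924, nat_lit 132695, nat_lit 122, nat_lit 6084, nat_lit 8408, nat_lit 12320, nat_lit 16896, nat_lit 20992, nat_lit 24960, nat_lit 29696, nat_lit 33280, nat_lit 41600, nat_lit 38362, nat_lit 28748, nat_lit 24757, nat_lit 20488, nat_lit 12320, nat_lit 8321, nat_lit 4]⟩⟩⟩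
def lth17 : List AP := [⟨[nat_lit 673, nat_lit 295], [], (nat_lit 1222), ⟨[nat_lit 25, nat_lit 91], [nat_lit 31, nat_lit 54], ⟨[nat_lit 0x23aa90de76145af650e81c14b048c5], [nat_lit 175104, nat_lit 169472, nat_lit 165632, nat_lit 160512, nat_lit 159488, nat_lit 153664, nat_lit 150672, nat_lit 143752, nat_lit 142188, nat_lit 136550, nat_lit 134776, nat_lit 1268, nat_lit 6104, nat_lit 9456, nat_lit 14048, nat_lit 16448, nat_lit 22016, nat_lit 25344, nat_lit 37888, nat_lit 41921, nat_lit 38179, nat_lit 32897, nat_lit 28718, nat_lit 25150, nat_lit 20609, nat_lit 16463, nat_lit 12323, nat_lit 8201, nat_lit 4112]⟩⟩⟩,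
  ⟨[nat_lit 68, nat_lit 46], [], (nat_lit 122), ⟨[nat_lit 27, nat_lit 61], [nat_lit 0, nat_lit 42, nat_lit 47], ⟨[nat_lit 0x39aaaa46682418073d37095b2b0963], [nat_lit 171008, nat_lit 164096, nat_lit 161408, nat_lit 155968, nat_lit 152864, nat_lit 148848, nat_lit 143808, nat_lit 141048, nat_lit 135570, nat_lit 132537, nat_lit 688, nat_lit 4568, nat_lit 8704, nat_lit 12800, nat_lit 18016, nat_lit 21760, nat_lit 25984, nat_lit 33280, nat_lit 37888, nat_lit 41600, nat_lit 38055, nat_lit 32837, nat_lit 29757, nat_lit 24837, nat_lit 20614, nat_lit 16427, nat_lit 12289, nat_lit 8]⟩⟩⟩,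
  ⟨[nat_lit 15, nat_lit 633], [], (nat_lit 1032), ⟨[nat_lit 7, nat_lit 63], [nat_lit 0, nat_lit 44, nat_lit 90], ⟨[nat_lit 0x55a8198229854eebc88d2a0c37898b], [nat_lit 173056, nat_lit 164096, nat_lit 161280, nat_lit 157504, nat_lit 153088, nat_lit 148208, nat_lit 144944, nat_lit 141264, nat_lit 135518, nat_lit 134934, nat_lit 986, nat_lit 4408, nat_lit 8928, nat_lit 13696, nat_lit 16672, nat_lit 22336, nat_lit 28928, nat_lit 34304, nat_lit 37888, nat_lit 41891, nat_lit 37027, nat_lit 32908, nat_lit 28707, nat_lit 24605, nat_lit 20505, nat_lit 16418, nat_lit 12291, nat_lit 8195, nat_lit 4100]⟩⟩⟩]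
theorem sth17 : Suf thT 19005990 (ldrop (lapp thwr1 [2, 0, 1]) 13) (apW dcM pth16) (tgtN dcM pth16.e) := Suf.fin' (l := lth17) (by decide +kernel)
def lth16 : List AP := [⟨[nat_lit 674, nat_lit 466, nat_lit 414, nat_lit 677], [], (nat_lit 875), ⟨[nat_lit 0, nat_lit 12, nat_lit 70], [nat_lit 0, nat_lit 70], ⟨[nat_lit 0x705f1b1d2c42c5299480adc70551a6], [nat_lit 174080, nat_lit 168960, nat_lit 164096, nat_lit 161792, nat_lit 156480, nat_lit 152544, nat_lit 150416, nat_lit 145680, nat_lit 141740, nat_lit 137440, nat_lit 134275, nat_lit 158, nat_lit 5488, nat_lit 10152, nat_lit 12320, nat_lit 18272, nat_lit 20928, nat_lit 25472, nat_lit 29440, nat_lit 34304, nat_lit 41818, nat_lit 38277, nat_lit 33948, nat_lit 28975, nat_lit 24718, nat_lit 20550, nat_lit 16910, nat_lit 12421, nat_lit 8201]⟩⟩⟩,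
  ⟨[], [], (nat_lit 874), ⟨[nat_lit 0, nat_lit 12, nat_lit 70], [nat_lit 12], ⟨[nat_lit 0x705f1b1d2c42c5299480adc70551a6], [nat_lit 174080, nat_lit 168960, nat_lit 164096, nat_lit 161920, nat_lit 156416, nat_lit 152544, nat_lit 150400, nat_lit 145688, nat_lit 141740, nat_lit 137442, nat_lit 134275, nat_lit 158, nat_lit 5488, nat_lit 10152, nat_lit 12320, nat_lit 18272, nat_lit 20928, nat_lit 25472, nat_lit 29440, nat_lit 34304, nat_lit 41818, nat_lit 38277, nat_lit 33948, nat_lit 28975, nat_lit 24718, nat_lit 20550, nat_lit 16910, nat_lit 12421, nat_lit 8201]⟩⟩⟩]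
theorem sth16 : Suf thT 19005990 (ldrop (lapp thwr1 [2, 0, 1]) 6) (apW dcM pth15) (tgtN dcM pth15.e) := Suf.seg (l := lth16) (by decide +kernel) sth17
def lth15 : List AP := [⟨[nat_lit 38, nat_lit 630, nat_lit 41, nat_lit 41, nat_lit 37], [], (nat_lit 90), ⟨[nat_lit 45, nat_lit 89], [nat_lit 0, nat_lit 35, nat_lit 68], ⟨[nat_lit 0x5b6f1306121d6c4a2993781c712505], [nat_lit 164608, nat_lit 156480, nat_lit 147536, nat_lit 143688, nat_lit 139408, nat_lit 138296, nat_lit 132288, nat_lit 1054, nat_lit 4352, nat_lit 9664, nat_lit 13584, nat_lit 17120, nat_lit 22144, nat_lit 28928, nat_lit 33280, nat_lit 41933, nat_lit 37186, nat_lit 32819, nat_lit 28694, nat_lit 25088, nat_lit 20753, nat_lit 16517, nat_lit 13315, nat_lit 16]⟩⟩⟩,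
  ⟨[nat_lit 56, nat_lit 56, nat_lit 47, nat_lit 642, nat_lit 47, nat_lit 46], [], (nat_lit 716), ⟨[nat_lit 0, nat_lit 5, nat_lit 67], [nat_lit 41, nat_lit 68], ⟨[nat_lit 0x239acb8511394cf550504c876acc0b], [nat_lit 164096, nat_lit 160384, nat_lit 156032, nat_lit 152064, nat_lit 147536, nat_lit 144840, nat_lit 140284, nat_lit 137830, nat_lit 131175, nat_lit 986, nat_lit 4684, nat_lit 9384, nat_lit 13264, nat_lit 17632, nat_lit 20800, nat_lit 25600, nat_lit 29952, nat_lit 33792, nat_lit 37888, nat_lit 41638, nat_lit 37286, nat_lit 33344, nat_lit 28766, nat_lit 24760, nat_lit 20500, nat_lit 16421, nat_lit 12295, nat_lit 8200, nat_lit 4100, nat_lit 2]⟩⟩⟩]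
theorem thcr1_1 : Suf thT 19005990 (lapp thwr1 [2, 0, 1]) (iC2 :: apW dcM q0) (tgtN dcM q0.e) := Suf.seg (l := lth15) (by decide +kernel) sth16

def pth18 : AP := ⟨[nat_lit 665, nat_lit 228, nat_lit 264, nat_lit 222], [], (nat_lit 1106), ⟨[nat_lit 42, nat_lit 48], [nat_lit 0, nat_lit 73, nat_lit 93], ⟨[nat_lit 0x80c37330086a482a48e5b4d6a7ba35], [nat_lit 169472, nat_lit 167424, nat_lit 159872, nat_lit 156032, nat_lit 154976, nat_lit 150704, nat_lit 146504, nat_lit 143128, nat_lit 138932, nat_lit 132226, nat_lit 2012, nat_lit 4924, nat_lit 9648, nat_lit 13664, nat_lit 16864, nat_lit 21056, nat_lit 26496, nat_lit 28928, nat_lit 33280, nat_lit 37888, nat_lit 41117, nat_lit 37135, nat_lit 32898, nat_lit 29046, nat_lit 24758, nat_lit 20639, nat_lit 16385, nat_lit 12290, nat_lit 8194]⟩⟩⟩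
def pth19 : AP := ⟨[nat_lit 223, nat_lit 229, nat_lit 227, nat_lit 222], [], (nat_lit 506), ⟨[nat_lit 7, nat_lit 64], [nat_lit 76, nat_lit 56], ⟨[nat_lit 0x78e37209004b4cca28f62cd7283835], [nat_lit 164864, nat_lit 156032, nat_lit 152992, nat_lit 148304, nat_lit 145312, nat_lit 142872, nat_lit 135542, nat_lit 132422, nat_lit 1766, nat_lit 4100, nat_lit 10224, nat_lit 13408, nat_lit 18400, nat_lit 21824, nat_lit 25472, nat_lit 29440, nat_lit 33792, nat_lit 41821, nat_lit 37961, nat_lit 33371, nat_lit 28762, nat_lit 24749, nat_lit 20499, nat_lit 16388, nat_lit 12422, nat_lit 8200]⟩⟩⟩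
def lth20 : List AP := [⟨[nat_lit 264, nat_lit 668, nat_lit 226], [], (nat_lit 1120), ⟨[nat_lit 0, nat_lit 5, nat_lit 58], [nat_lit 13, nat_lit 64], ⟨[nat_lit 0xb86b2bceab90128a5b3808d4432b6], [nat_lit 174080, nat_lit 170496, nat_lit 166912, nat_lit 160512, nat_lit 159488, nat_lit 154176, nat_lit 148784, nat_lit 147376, nat_lit 141176, nat_lit 137078, nat_lit 132784, nat_lit 1488, nat_lit 5208, nat_lit 8712, nat_lit 13920, nat_lit 16576, nat_lit 22400, nat_lit 25600, nat_lit 29440, nat_lit 37888, nat_lit 41444, nat_lit 37175, nat_lit 32807, nat_lit 29804, nat_lit 25623, nat_lit 20569, nat_lit 16459, nat_lit 8194, nat_lit 4097]⟩⟩⟩,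
  ⟨[nat_lit 78], [], (nat_lit 196), ⟨[nat_lit 21, nat_lit 59], [nat_lit 31, nat_lit 61], ⟨[nat_lit 0x408c0b3872aa8b759e309d02f6112d], [nat_lit 174080, nat_lit 170496, nat_lit 166400, nat_lit 163712, nat_lit 156032, nat_lit 154784, nat_lit 149888, nat_lit 143376, nat_lit 141424, nat_lit 135646, nat_lit 133110, nat_lit 1624, nat_lit 4720, nat_lit 10144, nat_lit 13552, nat_lit 16672, nat_lit 21120, nat_lit 25344, nat_lit 29440, nat_lit 33280, nat_lit 37888, nat_lit 41748, nat_lit 37228, nat_lit 33012, nat_lit 28774, nat_lit 24722, nat_lit 20553, nat_lit 16417, nat_lit 12290]⟩⟩⟩,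
  ⟨[nat_lit 633], [], (nat_lit 1032), ⟨[nat_lit 79, nat_lit 64], [nat_lit 0, nat_lit 8, nat_lit 52], ⟨[nat_lit 0x85c51a28282397379d32b1865032ad], [nat_lit 174080, nat_lit 169984, nat_lit 167424, nat_lit 161664, nat_lit 157184, nat_lit 152096, nat_lit 149728, nat_lit 145152, nat_lit 139524, nat_lit 138356, nat_lit 134710, nat_lit 210, nat_lit 5900, nat_lit 8680, nat_lit 13872, nat_lit 18080, nat_lit 21696, nat_lit 26240, nat_lit 28928, nat_lit 41281, nat_lit 37223, nat_lit 32833, nat_lit 28761, nat_lit 24577, nat_lit 20998, nat_lit 16520, nat_lit 12423, nat_lit 8201, nat_lit 4101, nat_lit 4]⟩⟩⟩]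
theorem sth20 : Suf thT 19005990 (ldrop (lapp thwr1 [3, 0, 1]) 13) (apW dcM pth19) (tgtN dcM pth19.e) := Suf.fin' (l := lth20) (by decide +kernel)
def lth19 : List AP := [⟨[nat_lit 225, nat_lit 222, nat_lit 259, nat_lit 266], [], (nat_lit 488), ⟨[nat_lit 0, nat_lit 45, nat_lit 57], [nat_lit 17, nat_lit 89], ⟨[nat_lit 0xb0e3042aa024d2f749670b1b431457], [nat_lit 174080, nat_lit 171008, nat_lit 165888, nat_lit 160000, nat_lit 156416, nat_lit 153216, nat_lit 149520, nat_lit 143744, nat_lit 140416, nat_lit 138736, nat_lit 134837, nat_lit 1136, nat_lit 4964, nat_lit 8320, nat_lit 12560, nat_lit 17472, nat_lit 20544, nat_lit 24704, nat_lit 29696, nat_lit 34304, nat_lit 41293, nat_lit 37232, nat_lit 33452, nat_lit 28682, nat_lit 24630, nat_lit 20561, nat_lit 16449, nat_lit 12421, nat_lit 8195, nat_lit 4097, nat_lit 2]⟩⟩⟩,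
  ⟨[], [], (nat_lit 489), ⟨[nat_lit 0, nat_lit 45, nat_lit 57], [nat_lit 36, nat_lit 54], ⟨[nat_lit 0xb0e3042aa024d2f749670b1b431457], [nat_lit 175104, nat_lit 171008, nat_lit 166144, nat_lit 160128, nat_lit 156480, nat_lit 153216, nat_lit 149504, nat_lit 143752, nat_lit 140420, nat_lit 138738, nat_lit 134837, nat_lit 1136, nat_lit 4964, nat_lit 8320, nat_lit 12560, nat_lit 17472, nat_lit 20544, nat_lit 24704, nat_lit 29696, nat_lit 34304, nat_lit 41293, nat_lit 37232, nat_lit 33452, nat_lit 28682, nat_lit 24630, nat_lit 20561, nat_lit 16449, nat_lit 12421, nat_lit 8195, nat_lit 4097, nat_lit 2]⟩⟩⟩]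
theorem sth19 : Suf thT 19005990 (ldrop (lapp thwr1 [3, 0, 1]) 6) (apW dcM pth18) (tgtN dcM pth18.e) := Suf.seg (l := lth19) (by decide +kernel) sth20
def lth18 : List AP := [⟨[nat_lit 632, nat_lit 37, nat_lit 14, nat_lit 39, nat_lit 17, nat_lit 40], [], (nat_lit 150), ⟨[nat_lit 0, nat_lit 4, nat_lit 70], [nat_lit 72, nat_lit 61], ⟨[nat_lit 0x8c0b51a64d0d006b9d4b612ce40a6f], [nat_lit 174080, nat_lit 168448, nat_lit 166144, nat_lit 162816, nat_lit 158720, nat_lit 153344, nat_lit 149088, nat_lit 144152, nat_lit 142648, nat_lit 138824, nat_lit 131528, nat_lit 1318, nat_lit 4780, nat_lit 10088, nat_lit 13920, nat_lit 18336, nat_lit 21888, nat_lit 25472, nat_lit 29440, nat_lit 33792, nat_lit 41786, nat_lit 37936, nat_lit 32852, nat_lit 28697, nat_lit 24613, nat_lit 20546, nat_lit 16390, nat_lit 12290, nat_lit 8194, nat_lit 4097, nat_lit 2]⟩⟩⟩,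
  ⟨[nat_lit 101, nat_lit 83, nat_lit 100, nat_lit 646, nat_lit 105], [], (nat_lit 534), ⟨[nat_lit 0, nat_lit 30, nat_lit 89], [nat_lit 0, nat_lit 72], ⟨[nat_lit 0x73ca05d992ab60a0c66435c7441c49], [nat_lit 173056, nat_lit 171520, nat_lit 164608, nat_lit 163200, nat_lit 156352, nat_lit 154912, nat_lit 151408, nat_lit 146664, nat_lit 141140, nat_lit 135692, nat_lit 134262, nat_lit 1918, nat_lit 5568, nat_lit 9184, nat_lit 12368, nat_lit 16480, nat_lit 21184, nat_lit 25216, nat_lit 29184, nat_lit 37888, nat_lit 41244, nat_lit 37097, nat_lit 32919, nat_lit 29000, nat_lit 24760, nat_lit 20488, nat_lit 16520, nat_lit 12327, nat_lit 8194, nat_lit 4097]⟩⟩⟩]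
theorem thcr1_2 : Suf thT 19005990 (lapp thwr1 [3, 0, 1]) (iC3 :: apW dcM q0) (tgtN dcM q0.e) := Suf.seg (l := lth18) (by decide +kernel) sth19

def pth21 : AP := ⟨[nat_lit 226, nat_lit 222, nat_lit 264, nat_lit 265, nat_lit 222], [], (nat_lit 636), ⟨[nat_lit 0, nat_lit 38, nat_lit 89], [nat_lit 87, nat_lit 63], ⟨[nat_lit 0x5d69190c2a24d2501d9630aef73510], [nat_lit 160256, nat_lit 157632, nat_lit 151744, nat_lit 148992, nat_lit 145560, nat_lit 140420, nat_lit 136886, nat_lit 131597, nat_lit 428, nat_lit 6076, nat_lit 10224, nat_lit 12352, nat_lit 17056, nat_lit 21760, nat_lit 24832, nat_lit 29184, nat_lit 33280, nat_lit 41756, nat_lit 37190, nat_lit 32941, nat_lit 29020, nat_lit 24587, nat_lit 20633, nat_lit 16513, nat_lit 12292, nat_lit 8201, nat_lit 4161, nat_lit 4]⟩⟩⟩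
def pth22 : AP := ⟨[nat_lit 288, nat_lit 671, nat_lit 285, nat_lit 285], [], (nat_lit 1150), ⟨[nat_lit 9, nat_lit 89], [nat_lit 18, nat_lit 61], ⟨[nat_lit 0x8068998ea824a2e01d827dae62b54b], [nat_lit 173056, nat_lit 168960, nat_lit 165632, nat_lit 160896, nat_lit 156032, nat_lit 152448, nat_lit 148768, nat_lit 145768, nat_lit 140632, nat_lit 135842, nat_lit 131675, nat_lit 1224, nat_lit 5072, nat_lit 9512, nat_lit 12416, nat_lit 18336, nat_lit 22016, nat_lit 26496, nat_lit 29696, nat_lit 33280, nat_lit 37888, nat_lit 41689, nat_lit 37331, nat_lit 32804, nat_lit 28733, nat_lit 25115, nat_lit 20619, nat_lit 16430, nat_lit 8193, nat_lit 4097, nat_lit 2]⟩⟩⟩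
def lth23 : List AP := [⟨[nat_lit 668, nat_lit 666, nat_lit 227, nat_lit 231], [], (nat_lit 488), ⟨[nat_lit 0, nat_lit 11, nat_lit 62], [nat_lit 0, nat_lit 24, nat_lit 69], ⟨[nat_lit 0x13a6a0c1e9292a7045a860d72bd8d4], [nat_lit 168448, nat_lit 165376, nat_lit 160768, nat_lit 159552, nat_lit 153280, nat_lit 148848, nat_lit 145280, nat_lit 140832, nat_lit 136800, nat_lit 131104, nat_lit 664, nat_lit 4488, nat_lit 9928, nat_lit 14144, nat_lit 16960, nat_lit 21504, nat_lit 25216, nat_lit 29184, nat_lit 41736, nat_lit 38368, nat_lit 32960, nat_lit 28754, nat_lit 24582, nat_lit 21003, nat_lit 16514, nat_lit 12805, nat_lit 8200, nat_lit 4129, nat_lit 4]⟩⟩⟩,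
  ⟨[], [], (nat_lit 1052), ⟨[nat_lit 0, nat_lit 84, nat_lit 58], [nat_lit 7, nat_lit 61], ⟨[nat_lit 0x7ad31aa067b8544315d0936d49b002], [nat_lit 173056, nat_lit 168448, nat_lit 166912, nat_lit 159872, nat_lit 156160, nat_lit 153120, nat_lit 147904, nat_lit 145008, nat_lit 140068, nat_lit 135274, nat_lit 132043, nat_lit 4, nat_lit 4408, nat_lit 8448, nat_lit 12480, nat_lit 17216, nat_lit 22400, nat_lit 25088, nat_lit 30208, nat_lit 33280, nat_lit 37888, nat_lit 41897, nat_lit 37320, nat_lit 32832, nat_lit 28733, nat_lit 24867, nat_lit 20547, nat_lit 16525, nat_lit 12422, nat_lit 8194, nat_lit 4101, nat_lit 2]⟩⟩⟩,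
  ⟨[], [], (nat_lit 1034), ⟨[nat_lit 72, nat_lit 61], [nat_lit 0, nat_lit 17, nat_lit 49], ⟨[nat_lit 0x848ef3002eb508c145372a1ab50eb3], [nat_lit 173056, nat_lit 164096, nat_lit 161024, nat_lit 157632, nat_lit 152064, nat_lit 147760, nat_lit 143496, nat_lit 140436, nat_lit 137056, nat_lit 133199, nat_lit 582, nat_lit 5856, nat_lit 9384, nat_lit 12576, nat_lit 17696, nat_lit 22336, nat_lit 24832, nat_lit 28928, nat_lit 33280, nat_lit 41583, nat_lit 38306, nat_lit 33297, nat_lit 28952, nat_lit 24627, nat_lit 20487, nat_lit 16389, nat_lit 12550, nat_lit 8195, nat_lit 4]⟩⟩⟩]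
theorem sth23 : Suf thT 2048 (ldrop (lapp thwr1 [1, 0, 1]) 13) (apW dcM pth22) (tgtN dcM pth22.e) := Suf.fin' (l := lth23) (by decide +kernel)
def lth22 : List AP := [⟨[nat_lit 286, nat_lit 294, nat_lit 352, nat_lit 290, nat_lit 284], [], (nat_lit 668), ⟨[nat_lit 42, nat_lit 68], [nat_lit 32, nat_lit 56], ⟨[nat_lit 0x41269834aea814fb8d8b11c31b4a86], [nat_lit 173056, nat_lit 168448, nat_lit 166912, nat_lit 163456, nat_lit 159552, nat_lit 155360, nat_lit 148320, nat_lit 147296, nat_lit 143252, nat_lit 137204, nat_lit 134921, nat_lit 1516, nat_lit 5604, nat_lit 10064, nat_lit 12640, nat_lit 16544, nat_lit 21504, nat_lit 24704, nat_lit 29184, nat_lit 33280, nat_lit 37888, nat_lit 41286, nat_lit 36993, nat_lit 33865, nat_lit 29206, nat_lit 24613, nat_lit 20483, nat_lit 16518, nat_lit 12547, nat_lit 8201, nat_lit 4128]⟩⟩⟩,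
  ⟨[], [], (nat_lit 1158), ⟨[nat_lit 0, nat_lit 42, nat_lit 68], [nat_lit 0, nat_lit 14, nat_lit 65], ⟨[nat_lit 0x41269834aea814fb8d8b11c31b4a86], [nat_lit 173056, nat_lit 166912, nat_lit 163328, nat_lit 159552, nat_lit 155360, nat_lit 148336, nat_lit 147296, nat_lit 143248, nat_lit 137204, nat_lit 134921, nat_lit 1516, nat_lit 5604, nat_lit 10064, nat_lit 12640, nat_lit 16544, nat_lit 21504, nat_lit 24704, nat_lit 29184, nat_lit 33280, nat_lit 37888, nat_lit 41286, nat_lit 36993, nat_lit 33865, nat_lit 29206, nat_lit 24613, nat_lit 20483, nat_lit 16518, nat_lit 12547, nat_lit 8201, nat_lit 4128]⟩⟩⟩]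
theorem sth22 : Suf thT 2048 (ldrop (lapp thwr1 [1, 0, 1]) 6) (apW dcM pth21) (tgtN dcM pth21.e) := Suf.seg (l := lth22) (by decide +kernel) sth23
def lth21 : List AP := [⟨[nat_lit 21, nat_lit 25, nat_lit 32, nat_lit 22, nat_lit 30, nat_lit 25], [], (nat_lit 276), ⟨[nat_lit 71], [nat_lit 0, nat_lit 32, nat_lit 90], ⟨[nat_lit 0x5c0223506e4c6d551e44281f79a1ac], [nat_lit 164096, nat_lit 161664, nat_lit 157376, nat_lit 155424, nat_lit 148048, nat_lit 144928, nat_lit 140996, nat_lit 136826, nat_lit 132959, nat_lit 210, nat_lit 4380, nat_lit 9112, nat_lit 13488, nat_lit 16768, nat_lit 22016, nat_lit 25344, nat_lit 34304, nat_lit 41719, nat_lit 37144, nat_lit 32944, nat_lit 29000, nat_lit 24708, nat_lit 20560, nat_lit 16455, nat_lit 12310, nat_lit 8201, nat_lit 4097, nat_lit 2]⟩⟩⟩,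
  ⟨[nat_lit 144, nat_lit 143, nat_lit 656, nat_lit 658, nat_lit 149], [], (nat_lit 476), ⟨[nat_lit 31, nat_lit 63], [nat_lit 9, nat_lit 67], ⟨[nat_lit 0xb826e1b2d1220c70b690155f22a54b], [nat_lit 173056, nat_lit 168960, nat_lit 165888, nat_lit 161280, nat_lit 153760, nat_lit 149952, nat_lit 145616, nat_lit 142652, nat_lit 138426, nat_lit 133082, nat_lit 1224, nat_lit 4952, nat_lit 9752, nat_lit 13552, nat_lit 17728, nat_lit 21248, nat_lit 25728, nat_lit 29184, nat_lit 41405, nat_lit 37055, nat_lit 34035, nat_lit 28758, nat_lit 24728, nat_lit 21005, nat_lit 16428, nat_lit 12294, nat_lit 8202, nat_lit 4105, nat_lit 2]⟩⟩⟩]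
theorem thcr1_3 : Suf thT 2048 (lapp thwr1 [1, 0, 1]) (apW dcM q1) (tgtN dcM q1.e) := Suf.seg (l := lth21) (by decide +kernel) sth22

theorem thcr2 : Chk thT thwr2 := .inr (by decide +kernel)

theorem thcr3 : Chk thT thwr3 := .inr (by decide +kernel)

theorem thcr4 : Chk thT thwr4 := .inr (by decide +kernel)

def pth24 : AP := ⟨[nat_lit 352, nat_lit 355, nat_lit 290], [], (nat_lit 1132), ⟨[nat_lit 76, nat_lit 59], [nat_lit 25, nat_lit 67], ⟨[nat_lit 0x3ae644b9f250c113504c686e5ada08], [nat_lit 174080, nat_lit 169984, nat_lit 166144, nat_lit 162432, nat_lit 157056, nat_lit 155264, nat_lit 149856, nat_lit 145216, nat_lit 142948, nat_lit 137008, nat_lit 131581, nat_lit 952, nat_lit 5400, nat_lit 9904, nat_lit 12592, nat_lit 16512, nat_lit 21632, nat_lit 30208, nat_lit 33280, nat_lit 41390, nat_lit 37340, nat_lit 32786, nat_lit 29205, nat_lit 24717, nat_lit 21530, nat_lit 16416, nat_lit 12422, nat_lit 8193, nat_lit 4105, nat_lit 4]⟩⟩⟩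
def pth25 : AP := ⟨[nat_lit 259, nat_lit 224], [], (nat_lit 604), ⟨[nat_lit 0, nat_lit 23], [nat_lit 0, nat_lit 13, nat_lit 50], ⟨[nat_lit 0x226e15a9f161cd22d00868e029daae], [nat_lit 175104, nat_lit 170496, nat_lit 166400, nat_lit 160256, nat_lit 157568, nat_lit 153056, nat_lit 151520, nat_lit 143976, nat_lit 140100, nat_lit 138202, nat_lit 134535, nat_lit 166, nat_lit 5208, nat_lit 9384, nat_lit 12512, nat_lit 18336, nat_lit 21440, nat_lit 26112, nat_lit 28928, nat_lit 33280, nat_lit 37888, nat_lit 41845, nat_lit 38304, nat_lit 32861, nat_lit 29256, nat_lit 24605, nat_lit 21522, nat_lit 16385, nat_lit 12353, nat_lit 8202, nat_lit 4100]⟩⟩⟩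
def pth26 : AP := ⟨[], [], (nat_lit 1136), ⟨[nat_lit 0, nat_lit 28, nat_lit 67], [nat_lit 87, nat_lit 59], ⟨[nat_lit 0x602959a6e6b2e27790a24354193870], [nat_lit 175104, nat_lit 168448, nat_lit 165888, nat_lit 162944, nat_lit 158912, nat_lit 152736, nat_lit 149296, nat_lit 144496, nat_lit 141816, nat_lit 138682, nat_lit 132357, nat_lit 1698, nat_lit 5580, nat_lit 10168, nat_lit 16992, nat_lit 21760, nat_lit 26496, nat_lit 29440, nat_lit 33280, nat_lit 37888, nat_lit 41865, nat_lit 38264, nat_lit 34015, nat_lit 29226, nat_lit 24721, nat_lit 21018, nat_lit 16396, nat_lit 12290, nat_lit 8194, nat_lit 32]⟩⟩⟩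
def pth27 : AP := ⟨[], [], (nat_lit 151), ⟨[nat_lit 0, nat_lit 85, nat_lit 61], [nat_lit 0, nat_lit 28, nat_lit 52], ⟨[nat_lit 0x3ad9355429744a88025711286b0ded], [nat_lit 175104, nat_lit 171520, nat_lit 164096, nat_lit 162048, nat_lit 159296, nat_lit 154848, nat_lit 149296, nat_lit 143880, nat_lit 139768, nat_lit 138468, nat_lit 134588, nat_lit 1668, nat_lit 5900, nat_lit 9264, nat_lit 13312, nat_lit 17376, nat_lit 22336, nat_lit 25216, nat_lit 28928, nat_lit 33792, nat_lit 41371, nat_lit 36981, nat_lit 32826, nat_lit 28747, nat_lit 24609, nat_lit 20508, nat_lit 16423, nat_lit 12309, nat_lit 8201, nat_lit 4097, nat_lit 2]⟩⟩⟩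
def lth28 : List AP := [⟨[nat_lit 632, nat_lit 39], [], (nat_lit 1032), ⟨[nat_lit 0, nat_lit 27, nat_lit 65], [nat_lit 0, nat_lit 24, nat_lit 90], ⟨[nat_lit 0x3be82aa6766c50c1824b828c5205d7], [nat_lit 174080, nat_lit 168960, nat_lit 167168, nat_lit 162688, nat_lit 158400, nat_lit 153152, nat_lit 147952, nat_lit 144656, nat_lit 141448, nat_lit 138458, nat_lit 131813, nat_lit 434, nat_lit 4720, nat_lit 9664, nat_lit 12640, nat_lit 17120, nat_lit 22272, nat_lit 25856, nat_lit 29696, nat_lit 33792, nat_lit 41271, nat_lit 36907, nat_lit 32860, nat_lit 28694, nat_lit 24621, nat_lit 20575, nat_lit 16390, nat_lit 12355]⟩⟩⟩]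
theorem sth28 : Suf thT 19005990 (ldrop (lapp thwr5 [1, 0, 1]) 28) (apW dcM pth27) (tgtN dcM pth27.e) := Suf.fin' (l := lth28) (by decide +kernel)
def lth27 : List AP := [⟨[nat_lit 233, nat_lit 665, nat_lit 664, nat_lit 224], [], (nat_lit 604), ⟨[nat_lit 0, nat_lit 24, nat_lit 63], [nat_lit 0, nat_lit 75, nat_lit 69], ⟨[nat_lit 0xbd068585ed9a812324478d58575890], [nat_lit 173056, nat_lit 168960, nat_lit 164096, nat_lit 160128, nat_lit 156800, nat_lit 152608, nat_lit 148256, nat_lit 143480, nat_lit 140392, nat_lit 137718, nat_lit 132682, nat_lit 760, nat_lit 4112, nat_lit 10224, nat_lit 13968, nat_lit 16512, nat_lit 21952, nat_lit 24832, nat_lit 28928, nat_lit 37888, nat_lit 41865, nat_lit 38307, nat_lit 32789, nat_lit 28764, nat_lit 24747, nat_lit 20549, nat_lit 16386, nat_lit 12418, nat_lit 8201, nat_lit 4]⟩⟩⟩,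
  ⟨[nat_lit 293, nat_lit 670, nat_lit 288], [], (nat_lit 1218), ⟨[nat_lit 0, nat_lit 27, nat_lit 58], [nat_lit 21, nat_lit 60], ⟨[nat_lit 0xade8251e4c740a95bcd19910d05861], [nat_lit 174080, nat_lit 169472, nat_lit 164352, nat_lit 162688, nat_lit 152576, nat_lit 150384, nat_lit 146056, nat_lit 141960, nat_lit 138912, nat_lit 133671, nat_lit 1180, nat_lit 4104, nat_lit 9768, nat_lit 12976, nat_lit 16576, nat_lit 22016, nat_lit 26496, nat_lit 29184, nat_lit 33280, nat_lit 41643, nat_lit 37371, nat_lit 33019, nat_lit 28795, nat_lit 24597, nat_lit 20487, nat_lit 16463, nat_lit 12294, nat_lit 8194, nat_lit 4097]⟩⟩⟩]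
theorem sth27 : Suf thT 19005990 (ldrop (lapp thwr5 [1, 0, 1]) 22) (apW dcM pth26) (tgtN dcM pth26.e) := Suf.seg (l := lth27) (by decide +kernel) sth28
def lth26 : List AP := [⟨[nat_lit 284, nat_lit 357, nat_lit 292], [], (nat_lit 1132), ⟨[nat_lit 0, nat_lit 23], [nat_lit 20, nat_lit 50], ⟨[nat_lit 0x226e15a9f161cd22d00868e029daae], [nat_lit 174080, nat_lit 170496, nat_lit 166400, nat_lit 160256, nat_lit 157632, nat_lit 153056, nat_lit 151536, nat_lit 143976, nat_lit 140100, nat_lit 138200, nat_lit 134535, nat_lit 166, nat_lit 5208, nat_lit 9384, nat_lit 12512, nat_lit 18336, nat_lit 21440, nat_lit 26112, nat_lit 28928, nat_lit 33280, nat_lit 37888, nat_lit 41845, nat_lit 38304, nat_lit 32861, nat_lit 29256, nat_lit 24605, nat_lit 21522, nat_lit 16385, nat_lit 12353, nat_lit 8202, nat_lit 4100]⟩⟩⟩,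
  ⟨[nat_lit 261, nat_lit 232, nat_lit 667, nat_lit 230], [], (nat_lit 608), ⟨[nat_lit 0, nat_lit 28, nat_lit 67], [nat_lit 0, nat_lit 75, nat_lit 53], ⟨[nat_lit 0x602959a6e6b2e27790a24354193870], [nat_lit 175104, nat_lit 168448, nat_lit 166144, nat_lit 162816, nat_lit 158848, nat_lit 152704, nat_lit 149280, nat_lit 144496, nat_lit 141820, nat_lit 138682, nat_lit 132357, nat_lit 1698, nat_lit 5580, nat_lit 10168, nat_lit 16992, nat_lit 21760, nat_lit 26496, nat_lit 29440, nat_lit 33280, nat_lit 37888, nat_lit 41865, nat_lit 38264, nat_lit 34015, nat_lit 29226, nat_lit 24721, nat_lit 21018, nat_lit 16396, nat_lit 12290, nat_lit 8194, nat_lit 32]⟩⟩⟩]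
theorem sth26 : Suf thT 19005990 (ldrop (lapp thwr5 [1, 0, 1]) 14) (apW dcM pth25) (tgtN dcM pth25.e) := Suf.seg (l := lth26) (by decide +kernel) sth27
def lth25 : List AP := [⟨[nat_lit 261, nat_lit 224, nat_lit 224, nat_lit 666, nat_lit 223], [], (nat_lit 608), ⟨[nat_lit 72, nat_lit 53], [nat_lit 0, nat_lit 54], ⟨[nat_lit 0x69686455e98ac6750093106ec93ad0], [nat_lit 174080, nat_lit 170496, nat_lit 164864, nat_lit 163584, nat_lit 159232, nat_lit 154112, nat_lit 144136, nat_lit 141224, nat_lit 138994, nat_lit 134606, nat_lit 1698, nat_lit 5208, nat_lit 10224, nat_lit 13920, nat_lit 17088, nat_lit 21376, nat_lit 29952, nat_lit 33792, nat_lit 41787, nat_lit 38002, nat_lit 33333, nat_lit 28702, nat_lit 24591, nat_lit 20765, nat_lit 16391, nat_lit 12358, nat_lit 8193]⟩⟩⟩,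
  ⟨[], [], (nat_lit 1136), ⟨[nat_lit 72, nat_lit 53], [nat_lit 72, nat_lit 48], ⟨[nat_lit 0x69686455e98ac6750093106ec93ad0], [nat_lit 175104, nat_lit 170496, nat_lit 164864, nat_lit 163584, nat_lit 159296, nat_lit 154144, nat_lit 147472, nat_lit 144128, nat_lit 141228, nat_lit 138994, nat_lit 134606, nat_lit 1698, nat_lit 5208, nat_lit 10224, nat_lit 13920, nat_lit 17088, nat_lit 21376, nat_lit 29952, nat_lit 33792, nat_lit 41787, nat_lit 38002, nat_lit 33333, nat_lit 28702, nat_lit 24591, nat_lit 20765, nat_lit 16391, nat_lit 12358, nat_lit 8193]⟩⟩⟩]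
theorem sth25 : Suf thT 19005990 (ldrop (lapp thwr5 [1, 0, 1]) 6) (apW dcM pth24) (tgtN dcM pth24.e) := Suf.seg (l := lth25) (by decide +kernel) sth26
def lth24 : List AP := [⟨[nat_lit 16, nat_lit 16, nat_lit 16, nat_lit 17, nat_lit 43, nat_lit 16], [], (nat_lit 150), ⟨[nat_lit 0, nat_lit 10, nat_lit 90], [nat_lit 31, nat_lit 47], ⟨[nat_lit 0x2aeb1540f74cc94605af009c391916], [nat_lit 173056, nat_lit 168448, nat_lit 165632, nat_lit 161024, nat_lit 158208, nat_lit 153408, nat_lit 149248, nat_lit 144024, nat_lit 141128, nat_lit 136256, nat_lit 131657, nat_lit 760, nat_lit 5988, nat_lit 8840, nat_lit 17696, nat_lit 21824, nat_lit 25600, nat_lit 29184, nat_lit 33280, nat_lit 37888, nat_lit 41164, nat_lit 37187, nat_lit 33323, nat_lit 29712, nat_lit 24581, nat_lit 20744, nat_lit 16516, nat_lit 12304, nat_lit 8257, nat_lit 4609]⟩⟩⟩,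
  ⟨[nat_lit 84, nat_lit 644, nat_lit 102, nat_lit 77, nat_lit 76], [], (nat_lit 718), ⟨[nat_lit 0, nat_lit 41, nat_lit 64], [nat_lit 77, nat_lit 93], ⟨[nat_lit 0x815a00924c39ae9555eeb457315068], [nat_lit 165376, nat_lit 160000, nat_lit 155968, nat_lit 152128, nat_lit 151008, nat_lit 144880, nat_lit 139664, nat_lit 135620, nat_lit 131359, nat_lit 846, nat_lit 4932, nat_lit 8224, nat_lit 12320, nat_lit 16640, nat_lit 20736, nat_lit 25088, nat_lit 34304, nat_lit 37888, nat_lit 41232, nat_lit 37136, nat_lit 32900, nat_lit 28686, nat_lit 24586, nat_lit 20507, nat_lit 16385, nat_lit 12327, nat_lit 8200, nat_lit 4129, nat_lit 16]⟩⟩⟩]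
theorem thcr5_0 : Suf thT 19005990 (lapp thwr5 [1, 0, 1]) (apW dcM q0) (tgtN dcM q0.e) := Suf.seg (l := lth24) (by decide +kernel) sth25

def pth29 : AP := ⟨[nat_lit 672, nat_lit 290, nat_lit 293, nat_lit 284], [], (nat_lit 872), ⟨[nat_lit 43, nat_lit 55], [nat_lit 14, nat_lit 63], ⟨[nat_lit 0x6ce9562d3508c3897349470ba90f], [nat_lit 174080, nat_lit 169984, nat_lit 165376, nat_lit 163200, nat_lit 159040, nat_lit 155328, nat_lit 149296, nat_lit 144184, nat_lit 140328, nat_lit 137670, nat_lit 133321, nat_lit 394, nat_lit 5372, nat_lit 8488, nat_lit 13920, nat_lit 16544, nat_lit 22016, nat_lit 25344, nat_lit 30464, nat_lit 41609, nat_lit 37129, nat_lit 33421, nat_lit 29029, nat_lit 24594, nat_lit 20628, nat_lit 16428, nat_lit 12290, nat_lit 8225, nat_lit 4105]⟩⟩⟩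
def pth30 : AP := ⟨[nat_lit 676, nat_lit 678, nat_lit 466, nat_lit 413, nat_lit 418], [], (nat_lit 1242), ⟨[nat_lit 7, nat_lit 92], [nat_lit 28, nat_lit 62], ⟨[nat_lit 0x32e6384595b804d3c828b15c4a292f], [nat_lit 173056, nat_lit 170496, nat_lit 164608, nat_lit 161408, nat_lit 156224, nat_lit 153024, nat_lit 149248, nat_lit 144240, nat_lit 140004, nat_lit 135926, nat_lit 132695, nat_lit 122, nat_lit 6084, nat_lit 8408, nat_lit 12320, nat_lit 16896, nat_lit 20992, nat_lit 24960, nat_lit 29696, nat_lit 33280, nat_lit 41600, nat_lit 38362, nat_lit 28748, nat_lit 24757, nat_lit 20488, nat_lit 12320, nat_lit 8321, nat_lit 4]⟩⟩⟩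
def pth31 : AP := ⟨[], [], (nat_lit 917), ⟨[nat_lit 0, nat_lit 84, nat_lit 54], [nat_lit 39, nat_lit 47], ⟨[nat_lit 0x322966c417654500a8a35b8ef99132], [nat_lit 173056, nat_lit 170496, nat_lit 165632, nat_lit 160000, nat_lit 156800, nat_lit 147616, nat_lit 144528, nat_lit 139588, nat_lit 136144, nat_lit 131243, nat_lit 590, nat_lit 6084, nat_lit 8680, nat_lit 14176, nat_lit 18208, nat_lit 22272, nat_lit 26240, nat_lit 30208, nat_lit 33280, nat_lit 40988, nat_lit 37227, nat_lit 33411, nat_lit 28953, nat_lit 24710, nat_lit 20548, nat_lit 16427, nat_lit 12305, nat_lit 8259, nat_lit 8]⟩⟩⟩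
def pth32 : AP := ⟨[nat_lit 53], [], (nat_lit 122), ⟨[nat_lit 0, nat_lit 25, nat_lit 69], [nat_lit 26, nat_lit 66], ⟨[nat_lit 0x226aa7406b3ca36088d47a26065cad], [nat_lit 173056, nat_lit 164352, nat_lit 159104, nat_lit 153216, nat_lit 147792, nat_lit 144280, nat_lit 139832, nat_lit 135500, nat_lit 132905, nat_lit 428, nat_lit 4540, nat_lit 9328, nat_lit 13648, nat_lit 18048, nat_lit 21184, nat_lit 24704, nat_lit 30464, nat_lit 33792, nat_lit 41664, nat_lit 37976, nat_lit 32928, nat_lit 28799, nat_lit 24598, nat_lit 20636, nat_lit 16459, nat_lit 12311, nat_lit 8208, nat_lit 4104]⟩⟩⟩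
def lth33 : List AP := [⟨[nat_lit 633, nat_lit 43], [], (nat_lit 1032), ⟨[nat_lit 0, nat_lit 9, nat_lit 68], [nat_lit 0, nat_lit 1, nat_lit 64], ⟨[nat_lit 0x45d829ca2603974b0d4d214f0786a9], [nat_lit 173056, nat_lit 168960, nat_lit 164352, nat_lit 160640, nat_lit 155840, nat_lit 152000, nat_lit 147472, nat_lit 143424, nat_lit 140616, nat_lit 137194, nat_lit 132357, nat_lit 804, nat_lit 5572, nat_lit 9664, nat_lit 14176, nat_lit 16512, nat_lit 20544, nat_lit 25600, nat_lit 29952, nat_lit 41344, nat_lit 33897, nat_lit 28982, nat_lit 24735, nat_lit 20749, nat_lit 16527, nat_lit 8194, nat_lit 4097, nat_lit 2]⟩⟩⟩]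
theorem sth33 : Suf thT 19005990 (ldrop (lapp thwr5 [2, 0, 1]) 28) (apW dcM pth32) (tgtN dcM pth32.e) := Suf.fin' (l := lth33) (by decide +kernel)
def lth32 : List AP := [⟨[nat_lit 410, nat_lit 411, nat_lit 463, nat_lit 462, nat_lit 410], [], (nat_lit 1242), ⟨[nat_lit 0, nat_lit 16, nat_lit 68], [nat_lit 0, nat_lit 35], ⟨[nat_lit 0x386c4132adb8211a0d694164e51a6f], [nat_lit 169472, nat_lit 166656, nat_lit 161024, nat_lit 157120, nat_lit 155552, nat_lit 149664, nat_lit 147000, nat_lit 141712, nat_lit 137490, nat_lit 132584, nat_lit 1318, nat_lit 5716, nat_lit 9776, nat_lit 13152, nat_lit 16768, nat_lit 21952, nat_lit 25472, nat_lit 28928, nat_lit 33280, nat_lit 41866, nat_lit 38197, nat_lit 33938, nat_lit 29237, nat_lit 24581, nat_lit 20997, nat_lit 16420, nat_lit 12295, nat_lit 8201, nat_lit 4097, nat_lit 2]⟩⟩⟩,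
  ⟨[nat_lit 290, nat_lit 292], [], (nat_lit 1222), ⟨[nat_lit 0, nat_lit 83, nat_lit 54], [nat_lit 3], ⟨[nat_lit 0x9392cbaeb1151e6814ea6907644c01], [nat_lit 173056, nat_lit 171520, nat_lit 166656, nat_lit 162944, nat_lit 157824, nat_lit 152768, nat_lit 149536, nat_lit 146016, nat_lit 139412, nat_lit 138164, nat_lit 132693, nat_lit 2, nat_lit 4684, nat_lit 9032, nat_lit 13264, nat_lit 17152, nat_lit 20800, nat_lit 25216, nat_lit 29952, nat_lit 33792, nat_lit 37888, nat_lit 41502, nat_lit 37295, nat_lit 32799, nat_lit 29305, nat_lit 24728, nat_lit 20508, nat_lit 16429, nat_lit 12294, nat_lit 8201, nat_lit 4100, nat_lit 2]⟩⟩⟩]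
theorem sth32 : Suf thT 19005990 (ldrop (lapp thwr5 [2, 0, 1]) 22) (apW dcM pth31) (tgtN dcM pth31.e) := Suf.seg (l := lth32) (by decide +kernel) sth33
def lth31 : List AP := [⟨[nat_lit 353, nat_lit 286, nat_lit 288, nat_lit 284], [], (nat_lit 872), ⟨[nat_lit 0, nat_lit 85, nat_lit 61], [nat_lit 0, nat_lit 86, nat_lit 48], ⟨[nat_lit 0x32da38251605c535102cabdd2a1e25], [nat_lit 175104, nat_lit 167680, nat_lit 162304, nat_lit 158592, nat_lit 152512, nat_lit 148192, nat_lit 143520, nat_lit 143184, nat_lit 138618, nat_lit 131456, nat_lit 1054, nat_lit 6084, nat_lit 10032, nat_lit 12320, nat_lit 18112, nat_lit 20992, nat_lit 24832, nat_lit 29184, nat_lit 41034, nat_lit 37122, nat_lit 33306, nat_lit 28678, nat_lit 24609, nat_lit 20490, nat_lit 16650, nat_lit 12320, nat_lit 8321, nat_lit 4]⟩⟩⟩,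
  ⟨[nat_lit 419, nat_lit 412, nat_lit 468, nat_lit 468, nat_lit 678], [], (nat_lit 916), ⟨[nat_lit 0, nat_lit 84, nat_lit 54], [nat_lit 6, nat_lit 52], ⟨[nat_lit 0x322966c417654500a8a35b8ef99132], [nat_lit 169984, nat_lit 165632, nat_lit 160000, nat_lit 156864, nat_lit 151584, nat_lit 147616, nat_lit 144536, nat_lit 139588, nat_lit 136144, nat_lit 131243, nat_lit 590, nat_lit 6084, nat_lit 8680, nat_lit 14176, nat_lit 18208, nat_lit 22272, nat_lit 26240, nat_lit 30208, nat_lit 33280, nat_lit 40988, nat_lit 37227, nat_lit 33411, nat_lit 28953, nat_lit 24710, nat_lit 20548, nat_lit 16427, nat_lit 12305, nat_lit 8259, nat_lit 8]⟩⟩⟩]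
theorem sth31 : Suf thT 19005990 (ldrop (lapp thwr5 [2, 0, 1]) 14) (apW dcM pth30) (tgtN dcM pth30.e) := Suf.seg (l := lth31) (by decide +kernel) sth32
def lth30 : List AP := [⟨[nat_lit 674, nat_lit 466, nat_lit 414, nat_lit 677], [], (nat_lit 875), ⟨[nat_lit 0, nat_lit 12, nat_lit 70], [nat_lit 0, nat_lit 70], ⟨[nat_lit 0x705f1b1d2c42c5299480adc70551a6], [nat_lit 174080, nat_lit 168960, nat_lit 164096, nat_lit 161792, nat_lit 156480, nat_lit 152544, nat_lit 150416, nat_lit 145680, nat_lit 141740, nat_lit 137440, nat_lit 134275, nat_lit 158, nat_lit 5488, nat_lit 10152, nat_lit 12320, nat_lit 18272, nat_lit 20928, nat_lit 25472, nat_lit 29440, nat_lit 34304, nat_lit 41818, nat_lit 38277, nat_lit 33948, nat_lit 28975, nat_lit 24718, nat_lit 20550, nat_lit 16910, nat_lit 12421, nat_lit 8201]⟩⟩⟩,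
  ⟨[], [], (nat_lit 874), ⟨[nat_lit 12, nat_lit 70], [nat_lit 12], ⟨[nat_lit 0x705f1b1d2c42c5299480adc70551a6], [nat_lit 174080, nat_lit 168960, nat_lit 164096, nat_lit 161920, nat_lit 156416, nat_lit 152544, nat_lit 150400, nat_lit 145688, nat_lit 141740, nat_lit 137442, nat_lit 134275, nat_lit 158, nat_lit 5488, nat_lit 10152, nat_lit 12320, nat_lit 18272, nat_lit 20928, nat_lit 25472, nat_lit 29440, nat_lit 34304, nat_lit 41818, nat_lit 38277, nat_lit 33948, nat_lit 28975, nat_lit 24718, nat_lit 20550, nat_lit 16910, nat_lit 12421, nat_lit 8201]⟩⟩⟩]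
theorem sth30 : Suf thT 19005990 (ldrop (lapp thwr5 [2, 0, 1]) 6) (apW dcM pth29) (tgtN dcM pth29.e) := Suf.seg (l := lth30) (by decide +kernel) sth31
def lth29 : List AP := [⟨[nat_lit 38, nat_lit 630, nat_lit 41, nat_lit 41, nat_lit 37], [], (nat_lit 90), ⟨[nat_lit 45, nat_lit 89], [nat_lit 0, nat_lit 35, nat_lit 68], ⟨[nat_lit 0x5b6f1306121d6c4a2993781c712505], [nat_lit 164608, nat_lit 156480, nat_lit 147536, nat_lit 143688, nat_lit 139408, nat_lit 138296, nat_lit 132288, nat_lit 1054, nat_lit 4352, nat_lit 9664, nat_lit 13584, nat_lit 17120, nat_lit 22144, nat_lit 28928, nat_lit 33280, nat_lit 41933, nat_lit 37186, nat_lit 32819, nat_lit 28694, nat_lit 25088, nat_lit 20753, nat_lit 16517, nat_lit 13315, nat_lit 16]⟩⟩⟩,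
  ⟨[nat_lit 56, nat_lit 56, nat_lit 47, nat_lit 642, nat_lit 47, nat_lit 46], [], (nat_lit 716), ⟨[nat_lit 0, nat_lit 5, nat_lit 67], [nat_lit 41, nat_lit 68], ⟨[nat_lit 0x239acb8511394cf550504c876acc0b], [nat_lit 164096, nat_lit 160384, nat_lit 156032, nat_lit 152064, nat_lit 147536, nat_lit 144840, nat_lit 140284, nat_lit 137830, nat_lit 131175, nat_lit 986, nat_lit 4684, nat_lit 9384, nat_lit 13264, nat_lit 17632, nat_lit 20800, nat_lit 25600, nat_lit 29952, nat_lit 33792, nat_lit 37888, nat_lit 41638, nat_lit 37286, nat_lit 33344, nat_lit 28766, nat_lit 24760, nat_lit 20500, nat_lit 16421, nat_lit 12295, nat_lit 8200, nat_lit 4100, nat_lit 2]⟩⟩⟩]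
theorem thcr5_1 : Suf thT 19005990 (lapp thwr5 [2, 0, 1]) (iC2 :: apW dcM q0) (tgtN dcM q0.e) := Suf.seg (l := lth29) (by decide +kernel) sth30

def pth34 : AP := ⟨[nat_lit 665, nat_lit 228, nat_lit 264, nat_lit 222], [], (nat_lit 1106), ⟨[nat_lit 42, nat_lit 48], [nat_lit 0, nat_lit 73, nat_lit 93], ⟨[nat_lit 0x80c37330086a482a48e5b4d6a7ba35], [nat_lit 169472, nat_lit 167424, nat_lit 159872, nat_lit 156032, nat_lit 154976, nat_lit 150704, nat_lit 146504, nat_lit 143128, nat_lit 138932, nat_lit 132226, nat_lit 2012, nat_lit 4924, nat_lit 9648, nat_lit 13664, nat_lit 16864, nat_lit 21056, nat_lit 26496, nat_lit 28928, nat_lit 33280, nat_lit 37888, nat_lit 41117, nat_lit 37135, nat_lit 32898, nat_lit 29046, nat_lit 24758, nat_lit 20639, nat_lit 16385, nat_lit 12290, nat_lit 8194]⟩⟩⟩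
def pth35 : AP := ⟨[nat_lit 223, nat_lit 229, nat_lit 227, nat_lit 222], [], (nat_lit 506), ⟨[nat_lit 0, nat_lit 42, nat_lit 94], [nat_lit 0, nat_lit 76, nat_lit 56], ⟨[nat_lit 0x78e37209004b4cca28f62cd7283835], [nat_lit 164864, nat_lit 156032, nat_lit 152992, nat_lit 148288, nat_lit 145320, nat_lit 142872, nat_lit 135542, nat_lit 132422, nat_lit 1766, nat_lit 4100, nat_lit 10224, nat_lit 13408, nat_lit 18400, nat_lit 21824, nat_lit 25472, nat_lit 29440, nat_lit 33792, nat_lit 41821, nat_lit 37961, nat_lit 33371, nat_lit 28762, nat_lit 24749, nat_lit 20499, nat_lit 16388, nat_lit 12422, nat_lit 8200]⟩⟩⟩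
def pth36 : AP := ⟨[], [], (nat_lit 476), ⟨[nat_lit 0, nat_lit 81, nat_lit 69], [nat_lit 24, nat_lit 53], ⟨[nat_lit 0x3cda1044cc455cf84ac91d04a592e5], [nat_lit 169984, nat_lit 165120, nat_lit 160128, nat_lit 156032, nat_lit 152128, nat_lit 147648, nat_lit 144352, nat_lit 139596, nat_lit 135816, nat_lit 132897, nat_lit 1268, nat_lit 4952, nat_lit 8360, nat_lit 13264, nat_lit 16896, nat_lit 20928, nat_lit 26240, nat_lit 29184, nat_lit 37888, nat_lit 41312, nat_lit 32886, nat_lit 28732, nat_lit 24872, nat_lit 20630, nat_lit 16391, nat_lit 12320, nat_lit 8211, nat_lit 4105, nat_lit 2]⟩⟩⟩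
def pth37 : AP := ⟨[], [], (nat_lit 151), ⟨[nat_lit 8, nat_lit 93], [nat_lit 27, nat_lit 62], ⟨[nat_lit 0x5bc32145c8250c5b9ed548e0c9814d], [nat_lit 171520, nat_lit 165376, nat_lit 160384, nat_lit 156608, nat_lit 151648, nat_lit 147696, nat_lit 143528, nat_lit 139332, nat_lit 136018, nat_lit 132415, nat_lit 1004, nat_lit 5884, nat_lit 8680, nat_lit 12512, nat_lit 17440, nat_lit 20672, nat_lit 24832, nat_lit 30464, nat_lit 33280, nat_lit 37888, nat_lit 41512, nat_lit 38324, nat_lit 32979, nat_lit 28947, nat_lit 24704, nat_lit 21512, nat_lit 16641, nat_lit 12803, nat_lit 8193, nat_lit 4097]⟩⟩⟩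
def lth38 : List AP := [⟨[nat_lit 39, nat_lit 36], [], (nat_lit 1032), ⟨[nat_lit 0, nat_lit 24, nat_lit 56], [nat_lit 14, nat_lit 94], ⟨[nat_lit 0x5822e0a9901d4a2225163bdb735272], [nat_lit 175104, nat_lit 169984, nat_lit 165888, nat_lit 161664, nat_lit 155712, nat_lit 151680, nat_lit 151488, nat_lit 145184, nat_lit 139616, nat_lit 138014, nat_lit 134857, nat_lit 1810, nat_lit 5688, nat_lit 9592, nat_lit 14016, nat_lit 17216, nat_lit 21504, nat_lit 29696, nat_lit 33280, nat_lit 37888, nat_lit 41897, nat_lit 37974, nat_lit 33325, nat_lit 29036, nat_lit 24577, nat_lit 20627, nat_lit 16520, nat_lit 12324, nat_lit 8211, nat_lit 4112]⟩⟩⟩]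
theorem sth38 : Suf thT 19005990 (ldrop (lapp thwr5 [3, 0, 1]) 28) (apW dcM pth37) (tgtN dcM pth37.e) := Suf.fin' (l := lth38) (by decide +kernel)
def lth37 : List AP := [⟨[nat_lit 263, nat_lit 233, nat_lit 223, nat_lit 227], [], (nat_lit 512), ⟨[nat_lit 31, nat_lit 91], [nat_lit 0, nat_lit 8, nat_lit 54], ⟨[nat_lit 0x410f51dc2a7c8c26c405b4d70a392c], [nat_lit 174080, nat_lit 169472, nat_lit 165632, nat_lit 161664, nat_lit 159616, nat_lit 154144, nat_lit 151152, nat_lit 144744, nat_lit 142160, nat_lit 136840, nat_lit 134070, nat_lit 1354, nat_lit 4720, nat_lit 10128, nat_lit 13552, nat_lit 18176, nat_lit 20544, nat_lit 26112, nat_lit 29696, nat_lit 41466, nat_lit 37213, nat_lit 33458, nat_lit 29018, nat_lit 24873, nat_lit 20502, nat_lit 16425, nat_lit 12295, nat_lit 8200, nat_lit 4100]⟩⟩⟩,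
  ⟨[nat_lit 224, nat_lit 666], [], (nat_lit 1120), ⟨[nat_lit 6, nat_lit 68], [nat_lit 0, nat_lit 36, nat_lit 48], ⟨[nat_lit 0x7d970024ea14cd27048d1d4b4432f1], [nat_lit 174080, nat_lit 167424, nat_lit 163456, nat_lit 158016, nat_lit 152576, nat_lit 148560, nat_lit 144080, nat_lit 141444, nat_lit 137482, nat_lit 131889, nat_lit 1652, nat_lit 6084, nat_lit 9168, nat_lit 13968, nat_lit 18272, nat_lit 22208, nat_lit 25088, nat_lit 29184, nat_lit 33280, nat_lit 37888, nat_lit 41201, nat_lit 37037, nat_lit 32779, nat_lit 28674, nat_lit 24609, nat_lit 20547, nat_lit 17411, nat_lit 12545, nat_lit 8705, nat_lit 4097, nat_lit 2]⟩⟩⟩]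
theorem sth37 : Suf thT 19005990 (ldrop (lapp thwr5 [3, 0, 1]) 22) (apW dcM pth36) (tgtN dcM pth36.e) := Suf.seg (l := lth37) (by decide +kernel) sth38
def lth36 : List AP := [⟨[nat_lit 223, nat_lit 231, nat_lit 266, nat_lit 265], [], (nat_lit 513), ⟨[nat_lit 11, nat_lit 64], [nat_lit 31, nat_lit 57], ⟨[nat_lit 0xa11353094193c776c0162cd71438ec], [nat_lit 164096, nat_lit 161152, nat_lit 157632, nat_lit 153504, nat_lit 148176, nat_lit 145136, nat_lit 142620, nat_lit 135576, nat_lit 131636, nat_lit 1440, nat_lit 4408, nat_lit 9904, nat_lit 13168, nat_lit 17568, nat_lit 21440, nat_lit 30208, nat_lit 33280, nat_lit 37888, nat_lit 41395, nat_lit 36943, nat_lit 32957, nat_lit 28939, nat_lit 24606, nat_lit 20617, nat_lit 16388, nat_lit 12323, nat_lit 8200, nat_lit 4097, nat_lit 2]⟩⟩⟩,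
  ⟨[nat_lit 265, nat_lit 228, nat_lit 666, nat_lit 225], [], (nat_lit 477), ⟨[nat_lit 81, nat_lit 69], [nat_lit 37, nat_lit 61], ⟨[nat_lit 0x3cda1044cc455cf84ac91d04a592e5], [nat_lit 173056, nat_lit 169984, nat_lit 165120, nat_lit 160128, nat_lit 156032, nat_lit 152160, nat_lit 147648, nat_lit 144360, nat_lit 139596, nat_lit 135816, nat_lit 132896, nat_lit 1268, nat_lit 4952, nat_lit 8360, nat_lit 13264, nat_lit 16896, nat_lit 20928, nat_lit 26240, nat_lit 29184, nat_lit 37888, nat_lit 41312, nat_lit 32886, nat_lit 28732, nat_lit 24872, nat_lit 20630, nat_lit 16391, nat_lit 12320, nat_lit 8211, nat_lit 4105, nat_lit 2]⟩⟩⟩]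
theorem sth36 : Suf thT 19005990 (ldrop (lapp thwr5 [3, 0, 1]) 14) (apW dcM pth35) (tgtN dcM pth35.e) := Suf.seg (l := lth36) (by decide +kernel) sth37
def lth35 : List AP := [⟨[nat_lit 225, nat_lit 222, nat_lit 259, nat_lit 266], [], (nat_lit 488), ⟨[nat_lit 0, nat_lit 45, nat_lit 57], [nat_lit 17, nat_lit 89], ⟨[nat_lit 0xb0e3042aa024d2f749670b1b431457], [nat_lit 174080, nat_lit 171008, nat_lit 165888, nat_lit 160000, nat_lit 156416, nat_lit 153216, nat_lit 149520, nat_lit 143744, nat_lit 140416, nat_lit 138736, nat_lit 134837, nat_lit 1136, nat_lit 4964, nat_lit 8320, nat_lit 12560, nat_lit 17472, nat_lit 20544, nat_lit 24704, nat_lit 29696, nat_lit 34304, nat_lit 41293, nat_lit 37232, nat_lit 33452, nat_lit 28682, nat_lit 24630, nat_lit 20561, nat_lit 16449, nat_lit 12421, nat_lit 8195, nat_lit 4097, nat_lit 2]⟩⟩⟩,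
  ⟨[], [], (nat_lit 489), ⟨[nat_lit 45, nat_lit 57], [nat_lit 36, nat_lit 54], ⟨[nat_lit 0xb0e3042aa024d2f749670b1b431457], [nat_lit 175104, nat_lit 171008, nat_lit 166144, nat_lit 160128, nat_lit 156480, nat_lit 153216, nat_lit 149504, nat_lit 143752, nat_lit 140420, nat_lit 138738, nat_lit 134837, nat_lit 1136, nat_lit 4964, nat_lit 8320, nat_lit 12560, nat_lit 17472, nat_lit 20544, nat_lit 24704, nat_lit 29696, nat_lit 34304, nat_lit 41293, nat_lit 37232, nat_lit 33452, nat_lit 28682, nat_lit 24630, nat_lit 20561, nat_lit 16449, nat_lit 12421, nat_lit 8195, nat_lit 4097, nat_lit 2]⟩⟩⟩]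
theorem sth35 : Suf thT 19005990 (ldrop (lapp thwr5 [3, 0, 1]) 6) (apW dcM pth34) (tgtN dcM pth34.e) := Suf.seg (l := lth35) (by decide +kernel) sth36
def lth34 : List AP := [⟨[nat_lit 632, nat_lit 37, nat_lit 14, nat_lit 39, nat_lit 17, nat_lit 40], [], (nat_lit 150), ⟨[nat_lit 0, nat_lit 4, nat_lit 70], [nat_lit 72, nat_lit 61], ⟨[nat_lit 0x8c0b51a64d0d006b9d4b612ce40a6f], [nat_lit 174080, nat_lit 168448, nat_lit 166144, nat_lit 162816, nat_lit 158720, nat_lit 153344, nat_lit 149088, nat_lit 144152, nat_lit 142648, nat_lit 138824, nat_lit 131528, nat_lit 1318, nat_lit 4780, nat_lit 10088, nat_lit 13920, nat_lit 18336, nat_lit 21888, nat_lit 25472, nat_lit 29440, nat_lit 33792, nat_lit 41786, nat_lit 37936, nat_lit 32852, nat_lit 28697, nat_lit 24613, nat_lit 20546, nat_lit 16390, nat_lit 12290, nat_lit 8194, nat_lit 4097, nat_lit 2]⟩⟩⟩,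
  ⟨[nat_lit 101, nat_lit 83, nat_lit 100, nat_lit 646, nat_lit 105], [], (nat_lit 534), ⟨[nat_lit 0, nat_lit 30, nat_lit 89], [nat_lit 0, nat_lit 72], ⟨[nat_lit 0x73ca05d992ab60a0c66435c7441c49], [nat_lit 173056, nat_lit 171520, nat_lit 164608, nat_lit 163200, nat_lit 156352, nat_lit 154912, nat_lit 151408, nat_lit 146664, nat_lit 141140, nat_lit 135692, nat_lit 134262, nat_lit 1918, nat_lit 5568, nat_lit 9184, nat_lit 12368, nat_lit 16480, nat_lit 21184, nat_lit 25216, nat_lit 29184, nat_lit 37888, nat_lit 41244, nat_lit 37097, nat_lit 32919, nat_lit 29000, nat_lit 24760, nat_lit 20488, nat_lit 16520, nat_lit 12327, nat_lit 8194, nat_lit 4097]⟩⟩⟩]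
theorem thcr5_2 : Suf thT 19005990 (lapp thwr5 [3, 0, 1]) (iC3 :: apW dcM q0) (tgtN dcM q0.e) := Suf.seg (l := lth34) (by decide +kernel) sth35

def pth39 : AP := ⟨[nat_lit 226, nat_lit 222, nat_lit 264, nat_lit 265, nat_lit 222], [], (nat_lit 636), ⟨[nat_lit 0, nat_lit 38, nat_lit 89], [nat_lit 87, nat_lit 63], ⟨[nat_lit 0x5d69190c2a24d2501d9630aef73510], [nat_lit 160256, nat_lit 157632, nat_lit 151744, nat_lit 148992, nat_lit 145560, nat_lit 140420, nat_lit 136886, nat_lit 131597, nat_lit 428, nat_lit 6076, nat_lit 10224, nat_lit 12352, nat_lit 17056, nat_lit 21760, nat_lit 24832, nat_lit 29184, nat_lit 33280, nat_lit 41756, nat_lit 37190, nat_lit 32941, nat_lit 29020, nat_lit 24587, nat_lit 20633, nat_lit 16513, nat_lit 12292, nat_lit 8201, nat_lit 4161, nat_lit 4]⟩⟩⟩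
def pth40 : AP := ⟨[nat_lit 288, nat_lit 671, nat_lit 285, nat_lit 285], [], (nat_lit 1150), ⟨[nat_lit 41, nat_lit 56], [nat_lit 0, nat_lit 18, nat_lit 61], ⟨[nat_lit 0x8068998ea824a2e01d827dae62b54b], [nat_lit 173056, nat_lit 169472, nat_lit 165632, nat_lit 160896, nat_lit 156096, nat_lit 152448, nat_lit 148768, nat_lit 145760, nat_lit 140636, nat_lit 135842, nat_lit 131674, nat_lit 1224, nat_lit 5072, nat_lit 9512, nat_lit 12416, nat_lit 18336, nat_lit 22016, nat_lit 26496, nat_lit 29696, nat_lit 33280, nat_lit 37888, nat_lit 41689, nat_lit 37331, nat_lit 32804, nat_lit 28733, nat_lit 25115, nat_lit 20619, nat_lit 16430, nat_lit 8193, nat_lit 4097, nat_lit 2]⟩⟩⟩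
def pth41 : AP := ⟨[], [], (nat_lit 676), ⟨[nat_lit 41, nat_lit 64], [nat_lit 85, nat_lit 90], ⟨[nat_lit 0xcc5053dc9b98f5b50a46b10b04a23], [nat_lit 174080, nat_lit 171008, nat_lit 166656, nat_lit 160768, nat_lit 159424, nat_lit 155520, nat_lit 148592, nat_lit 147416, nat_lit 139720, nat_lit 135262, nat_lit 8, nat_lit 4568, nat_lit 9240, nat_lit 12800, nat_lit 16896, nat_lit 21760, nat_lit 29952, nat_lit 33280, nat_lit 41110, nat_lit 37316, nat_lit 33468, nat_lit 29228, nat_lit 24622, nat_lit 20488, nat_lit 16642, nat_lit 12307, nat_lit 8258, nat_lit 4112, nat_lit 8]⟩⟩⟩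
def pth42 : AP := ⟨[], [], (nat_lit 1052), ⟨[nat_lit 87, nat_lit 54], [nat_lit 0, nat_lit 73, nat_lit 92], ⟨[nat_lit 0x7c9282c584a0547b55d0580d798da2], [nat_lit 173056, nat_lit 169984, nat_lit 164864, nat_lit 159872, nat_lit 157504, nat_lit 152640, nat_lit 148016, nat_lit 144472, nat_lit 140040, nat_lit 135184, nat_lit 132403, nat_lit 488, nat_lit 5024, nat_lit 8200, nat_lit 12800, nat_lit 18304, nat_lit 21184, nat_lit 26496, nat_lit 29440, nat_lit 37888, nat_lit 41769, nat_lit 37142, nat_lit 33494, nat_lit 28992, nat_lit 24848, nat_lit 21513, nat_lit 16389, nat_lit 12295, nat_lit 8203, nat_lit 4104, nat_lit 2]⟩⟩⟩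
def lth43 : List AP := [⟨[], [], (nat_lit 1034), ⟨[nat_lit 35, nat_lit 66], [nat_lit 0, nat_lit 15, nat_lit 52], ⟨[nat_lit 0xa046d30249b422ca91c5ba1eb51c53], [nat_lit 173056, nat_lit 168448, nat_lit 165376, nat_lit 160256, nat_lit 155968, nat_lit 152160, nat_lit 148928, nat_lit 144496, nat_lit 140588, nat_lit 135504, nat_lit 134119, nat_lit 586, nat_lit 4684, nat_lit 9096, nat_lit 13776, nat_lit 16768, nat_lit 21056, nat_lit 25344, nat_lit 30208, nat_lit 34304, nat_lit 41439, nat_lit 37087, nat_lit 33920, nat_lit 28711, nat_lit 24858, nat_lit 20484, nat_lit 16385, nat_lit 12545, nat_lit 8200, nat_lit 4097, nat_lit 2]⟩⟩⟩]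
theorem sth43 : Suf thT 2048 (ldrop (lapp thwr5 [1, 0, 1]) 28) (apW dcM pth42) (tgtN dcM pth42.e) := Suf.fin' (l := lth43) (by decide +kernel)
def lth42 : List AP := [⟨[nat_lit 351, nat_lit 292, nat_lit 670, nat_lit 356], [], (nat_lit 648), ⟨[nat_lit 0, nat_lit 33, nat_lit 61], [nat_lit 15, nat_lit 92], ⟨[nat_lit 0xb8603b2a6ba14f2111a98bdd533100], [nat_lit 174080, nat_lit 171008, nat_lit 165888, nat_lit 161152, nat_lit 156224, nat_lit 152128, nat_lit 150976, nat_lit 145160, nat_lit 140416, nat_lit 137876, nat_lit 134786, nat_lit 256, nat_lit 5904, nat_lit 10024, nat_lit 13312, nat_lit 16864, nat_lit 20800, nat_lit 24960, nat_lit 30208, nat_lit 37888, nat_lit 41771, nat_lit 38079, nat_lit 32797, nat_lit 29227, nat_lit 24585, nat_lit 20628, nat_lit 12320, nat_lit 8193, nat_lit 4097, nat_lit 2]⟩⟩⟩,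
  ⟨[nat_lit 260, nat_lit 227, nat_lit 666, nat_lit 232, nat_lit 222], [], (nat_lit 488), ⟨[nat_lit 0, nat_lit 82, nat_lit 68], [nat_lit 25, nat_lit 58], ⟨[nat_lit 0x1340a806c62ad879c5c8a8c92a3d37], [nat_lit 173056, nat_lit 169472, nat_lit 164352, nat_lit 161664, nat_lit 157312, nat_lit 153280, nat_lit 149024, nat_lit 145152, nat_lit 140448, nat_lit 138614, nat_lit 131938, nat_lit 1142, nat_lit 4780, nat_lit 9664, nat_lit 14144, nat_lit 21120, nat_lit 25216, nat_lit 29184, nat_lit 41830, nat_lit 38315, nat_lit 32942, nat_lit 28734, nat_lit 25123, nat_lit 20549, nat_lit 16512, nat_lit 12294, nat_lit 8194, nat_lit 4100]⟩⟩⟩]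
theorem sth42 : Suf thT 2048 (ldrop (lapp thwr5 [1, 0, 1]) 22) (apW dcM pth41) (tgtN dcM pth41.e) := Suf.seg (l := lth42) (by decide +kernel) sth43
def lth41 : List AP := [⟨[nat_lit 229, nat_lit 668, nat_lit 259, nat_lit 264], [], (nat_lit 612), ⟨[nat_lit 0, nat_lit 82, nat_lit 58], [nat_lit 0, nat_lit 22, nat_lit 62], ⟨[nat_lit 0x1552a3c1a82183498e3792de50598e], [nat_lit 173056, nat_lit 165376, nat_lit 161152, nat_lit 159616, nat_lit 152544, nat_lit 149232, nat_lit 144056, nat_lit 141004, nat_lit 135876, nat_lit 131979, nat_lit 1292, nat_lit 4476, nat_lit 10224, nat_lit 12976, nat_lit 17728, nat_lit 21248, nat_lit 24832, nat_lit 28928, nat_lit 33280, nat_lit 37888, nat_lit 41814, nat_lit 37025, nat_lit 34015, nat_lit 28760, nat_lit 20483, nat_lit 16520, nat_lit 12293, nat_lit 8193, nat_lit 4]⟩⟩⟩,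
  ⟨[nat_lit 355, nat_lit 292, nat_lit 671, nat_lit 289], [], (nat_lit 1162), ⟨[nat_lit 41, nat_lit 64], [nat_lit 71, nat_lit 68], ⟨[nat_lit 0xcc5053dc9b98f5b50a46b10b04a23], [nat_lit 174080, nat_lit 171520, nat_lit 166400, nat_lit 160896, nat_lit 159360, nat_lit 155552, nat_lit 148592, nat_lit 147416, nat_lit 139724, nat_lit 135260, nat_lit 131073, nat_lit 8, nat_lit 4568, nat_lit 9240, nat_lit 12800, nat_lit 16896, nat_lit 21760, nat_lit 29952, nat_lit 33280, nat_lit 41110, nat_lit 37316, nat_lit 33468, nat_lit 29228, nat_lit 24622, nat_lit 20488, nat_lit 16642, nat_lit 12307, nat_lit 8258, nat_lit 4112, nat_lit 8]⟩⟩⟩]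
theorem sth41 : Suf thT 2048 (ldrop (lapp thwr5 [1, 0, 1]) 14) (apW dcM pth40) (tgtN dcM pth40.e) := Suf.seg (l := lth41) (by decide +kernel) sth42
def lth40 : List AP := [⟨[nat_lit 286, nat_lit 294, nat_lit 352, nat_lit 290, nat_lit 284], [], (nat_lit 668), ⟨[nat_lit 42, nat_lit 68], [nat_lit 32, nat_lit 56], ⟨[nat_lit 0x41269834aea814fb8d8b11c31b4a86], [nat_lit 173056, nat_lit 168448, nat_lit 166912, nat_lit 163456, nat_lit 159552, nat_lit 155360, nat_lit 148320, nat_lit 147296, nat_lit 143252, nat_lit 137204, nat_lit 134921, nat_lit 1516, nat_lit 5604, nat_lit 10064, nat_lit 12640, nat_lit 16544, nat_lit 21504, nat_lit 24704, nat_lit 29184, nat_lit 33280, nat_lit 37888, nat_lit 41286, nat_lit 36993, nat_lit 33865, nat_lit 29206, nat_lit 24613, nat_lit 20483, nat_lit 16518, nat_lit 12547, nat_lit 8201, nat_lit 4128]⟩⟩⟩,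
  ⟨[], [], (nat_lit 1158), ⟨[nat_lit 42, nat_lit 68], [nat_lit 0, nat_lit 14, nat_lit 65], ⟨[nat_lit 0x41269834aea814fb8d8b11c31b4a86], [nat_lit 173056, nat_lit 166912, nat_lit 163328, nat_lit 159552, nat_lit 155360, nat_lit 148336, nat_lit 147296, nat_lit 143248, nat_lit 137204, nat_lit 134921, nat_lit 1516, nat_lit 5604, nat_lit 10064, nat_lit 12640, nat_lit 16544, nat_lit 21504, nat_lit 24704, nat_lit 29184, nat_lit 33280, nat_lit 37888, nat_lit 41286, nat_lit 36993, nat_lit 33865, nat_lit 29206, nat_lit 24613, nat_lit 20483, nat_lit 16518, nat_lit 12547, nat_lit 8201, nat_lit 4128]⟩⟩⟩]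
theorem sth40 : Suf thT 2048 (ldrop (lapp thwr5 [1, 0, 1]) 6) (apW dcM pth39) (tgtN dcM pth39.e) := Suf.seg (l := lth40) (by decide +kernel) sth41
def lth39 : List AP := [⟨[nat_lit 21, nat_lit 25, nat_lit 32, nat_lit 22, nat_lit 30, nat_lit 25], [], (nat_lit 276), ⟨[nat_lit 71], [nat_lit 0, nat_lit 32, nat_lit 90], ⟨[nat_lit 0x5c0223506e4c6d551e44281f79a1ac], [nat_lit 164096, nat_lit 161664, nat_lit 157376, nat_lit 155424, nat_lit 148048, nat_lit 144928, nat_lit 140996, nat_lit 136826, nat_lit 132959, nat_lit 210, nat_lit 4380, nat_lit 9112, nat_lit 13488, nat_lit 16768, nat_lit 22016, nat_lit 25344, nat_lit 34304, nat_lit 41719, nat_lit 37144, nat_lit 32944, nat_lit 29000, nat_lit 24708, nat_lit 20560, nat_lit 16455, nat_lit 12310, nat_lit 8201, nat_lit 4097, nat_lit 2]⟩⟩⟩,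
  ⟨[nat_lit 144, nat_lit 143, nat_lit 656, nat_lit 658, nat_lit 149], [], (nat_lit 476), ⟨[nat_lit 31, nat_lit 63], [nat_lit 9, nat_lit 67], ⟨[nat_lit 0xb826e1b2d1220c70b690155f22a54b], [nat_lit 173056, nat_lit 168960, nat_lit 165888, nat_lit 161280, nat_lit 153760, nat_lit 149952, nat_lit 145616, nat_lit 142652, nat_lit 138426, nat_lit 133082, nat_lit 1224, nat_lit 4952, nat_lit 9752, nat_lit 13552, nat_lit 17728, nat_lit 21248, nat_lit 25728, nat_lit 29184, nat_lit 41405, nat_lit 37055, nat_lit 34035, nat_lit 28758, nat_lit 24728, nat_lit 21005, nat_lit 16428, nat_lit 12294, nat_lit 8202, nat_lit 4105, nat_lit 2]⟩⟩⟩]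
theorem thcr5_3 : Suf thT 2048 (lapp thwr5 [1, 0, 1]) (apW dcM q1) (tgtN dcM q1.e) := Suf.seg (l := lth39) (by decide +kernel) sth40

theorem thcr6 : Chk thT thwr6 := .inr (by decide +kernel)

def pth44 : AP := ⟨[nat_lit 292, nat_lit 352, nat_lit 284], [], (nat_lit 1132), ⟨[nat_lit 79, nat_lit 53], [nat_lit 0, nat_lit 20, nat_lit 57], ⟨[nat_lit 0xa5835c1f2a90113585369d05551d7], [nat_lit 169472, nat_lit 164096, nat_lit 160512, nat_lit 158528, nat_lit 152000, nat_lit 148016, nat_lit 144560, nat_lit 139416, nat_lit 135366, nat_lit 133093, nat_lit 1076, nat_lit 5264, nat_lit 10128, nat_lit 12320, nat_lit 17536, nat_lit 20544, nat_lit 29440, nat_lit 37888, nat_lit 41947, nat_lit 37128, nat_lit 32907, nat_lit 29003, nat_lit 20488, nat_lit 17419, nat_lit 12327, nat_lit 8203, nat_lit 4105]⟩⟩⟩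
def pth45 : AP := ⟨[nat_lit 231, nat_lit 260, nat_lit 668], [], (nat_lit 604), ⟨[nat_lit 7, nat_lit 90], [nat_lit 72, nat_lit 49], ⟨[nat_lit 0x4503758ded754d2024a48aa029d8ec], [nat_lit 173056, nat_lit 168448, nat_lit 164096, nat_lit 160896, nat_lit 155776, nat_lit 148384, nat_lit 145976, nat_lit 139404, nat_lit 136782, nat_lit 132569, nat_lit 1440, nat_lit 4404, nat_lit 10008, nat_lit 13696, nat_lit 18176, nat_lit 20864, nat_lit 24960, nat_lit 30208, nat_lit 33280, nat_lit 41879, nat_lit 38135, nat_lit 33528, nat_lit 29008, nat_lit 24605, nat_lit 20997, nat_lit 16388, nat_lit 12358, nat_lit 8209, nat_lit 4097, nat_lit 2]⟩⟩⟩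
def pth46 : AP := ⟨[], [], (nat_lit 1136), ⟨[nat_lit 36, nat_lit 52], [nat_lit 35, nat_lit 92], ⟨[nat_lit 0x928955446b1c6b400b77b66c93a30], [nat_lit 175104, nat_lit 170496, nat_lit 164864, nat_lit 162048, nat_lit 157760, nat_lit 155040, nat_lit 149264, nat_lit 144544, nat_lit 140920, nat_lit 137674, nat_lit 134650, nat_lit 1698, nat_lit 4924, nat_lit 10224, nat_lit 14064, nat_lit 17664, nat_lit 21952, nat_lit 25600, nat_lit 29696, nat_lit 33792, nat_lit 37888, nat_lit 41202, nat_lit 37237, nat_lit 33327, nat_lit 29726, nat_lit 24577, nat_lit 20615, nat_lit 16649, nat_lit 12322, nat_lit 8193, nat_lit 4112]⟩⟩⟩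
def pth47 : AP := ⟨[], [], (nat_lit 151), ⟨[nat_lit 0, nat_lit 85, nat_lit 61], [nat_lit 31, nat_lit 57], ⟨[nat_lit 0x1aa915d43274cb04112d10186b1df7], [nat_lit 174080, nat_lit 171520, nat_lit 164864, nat_lit 163200, nat_lit 159488, nat_lit 155040, nat_lit 148016, nat_lit 144272, nat_lit 139432, nat_lit 138660, nat_lit 133216, nat_lit 796, nat_lit 4756, nat_lit 8824, nat_lit 14288, nat_lit 17568, nat_lit 21312, nat_lit 24704, nat_lit 30208, nat_lit 33792, nat_lit 41534, nat_lit 38331, nat_lit 33359, nat_lit 28939, nat_lit 24730, nat_lit 21509, nat_lit 16395, nat_lit 12309, nat_lit 4097, nat_lit 2]⟩⟩⟩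
def lth48 : List AP := [⟨[nat_lit 16, nat_lit 41, nat_lit 36], [], (nat_lit 1032), ⟨[nat_lit 21, nat_lit 46], [nat_lit 0, nat_lit 28, nat_lit 46], ⟨[nat_lit 0x5b4549bdc5204119190abd8f04d583], [nat_lit 175104, nat_lit 171520, nat_lit 167168, nat_lit 159488, nat_lit 155360, nat_lit 147840, nat_lit 147168, nat_lit 139596, nat_lit 135380, nat_lit 132212, nat_lit 1770, nat_lit 5716, nat_lit 8824, nat_lit 13552, nat_lit 17344, nat_lit 20544, nat_lit 24704, nat_lit 29184, nat_lit 34304, nat_lit 41047, nat_lit 36964, nat_lit 32977, nat_lit 29044, nat_lit 24600, nat_lit 20504, nat_lit 16392, nat_lit 12290, nat_lit 8320, nat_lit 4]⟩⟩⟩]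
theorem sth48 : Suf thT 19005990 (ldrop (lapp thwr7 [1, 0, 1]) 29) (apW dcM pth47) (tgtN dcM pth47.e) := Suf.fin' (l := lth48) (by decide +kernel)
def lth47 : List AP := [⟨[nat_lit 231, nat_lit 262, nat_lit 664], [], (nat_lit 604), ⟨[nat_lit 0, nat_lit 31, nat_lit 55], [nat_lit 43, nat_lit 68], ⟨[nat_lit 0x22d414ddf181c52058b568d8675113], [nat_lit 175104, nat_lit 164608, nat_lit 161280, nat_lit 159104, nat_lit 154784, nat_lit 150928, nat_lit 145048, nat_lit 142312, nat_lit 135324, nat_lit 133365, nat_lit 846, nat_lit 5688, nat_lit 10128, nat_lit 13840, nat_lit 17536, nat_lit 20736, nat_lit 26240, nat_lit 30208, nat_lit 34304, nat_lit 37888, nat_lit 41883, nat_lit 38112, nat_lit 33365, nat_lit 29710, nat_lit 25144, nat_lit 20489, nat_lit 16518, nat_lit 12326, nat_lit 8200, nat_lit 4097, nat_lit 2]⟩⟩⟩,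
  ⟨[nat_lit 289, nat_lit 672, nat_lit 289], [], (nat_lit 1218), ⟨[nat_lit 5, nat_lit 49], [nat_lit 0, nat_lit 78, nat_lit 67], ⟨[nat_lit 0x95f299c4c736e95d0c4546d002075], [nat_lit 174080, nat_lit 168960, nat_lit 165376, nat_lit 162560, nat_lit 157632, nat_lit 153056, nat_lit 151184, nat_lit 145920, nat_lit 142648, nat_lit 139018, nat_lit 133720, nat_lit 1770, nat_lit 5856, nat_lit 9072, nat_lit 12544, nat_lit 17120, nat_lit 21888, nat_lit 28928, nat_lit 34304, nat_lit 37888, nat_lit 41221, nat_lit 37265, nat_lit 33508, nat_lit 29255, nat_lit 24765, nat_lit 20558, nat_lit 16515, nat_lit 12294, nat_lit 8193, nat_lit 4105, nat_lit 2]⟩⟩⟩]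
theorem sth47 : Suf thT 19005990 (ldrop (lapp thwr7 [1, 0, 1]) 23) (apW dcM pth46) (tgtN dcM pth46.e) := Suf.seg (l := lth47) (by decide +kernel) sth48
def lth46 : List AP := [⟨[nat_lit 357, nat_lit 352, nat_lit 670, nat_lit 285], [], (nat_lit 1132), ⟨[nat_lit 0, nat_lit 80, nat_lit 67], [nat_lit 0, nat_lit 20, nat_lit 93], ⟨[nat_lit 0x22dc74cdf2a84d1050b068d0255997], [nat_lit 169984, nat_lit 164096, nat_lit 161152, nat_lit 159168, nat_lit 152512, nat_lit 147776, nat_lit 146008, nat_lit 141364, nat_lit 138200, nat_lit 133591, nat_lit 1354, nat_lit 5688, nat_lit 9928, nat_lit 12880, nat_lit 16832, nat_lit 20864, nat_lit 25088, nat_lit 29184, nat_lit 33792, nat_lit 41413, nat_lit 37157, nat_lit 33336, nat_lit 29720, nat_lit 24605, nat_lit 21013, nat_lit 16417, nat_lit 12353, nat_lit 8194, nat_lit 4097, nat_lit 2]⟩⟩⟩,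
  ⟨[nat_lit 224, nat_lit 224, nat_lit 263, nat_lit 228], [], (nat_lit 608), ⟨[nat_lit 0, nat_lit 36, nat_lit 52], [nat_lit 0, nat_lit 2, nat_lit 63], ⟨[nat_lit 0x928955446b1c6b400b77b66c93a30], [nat_lit 175104, nat_lit 169984, nat_lit 165120, nat_lit 162176, nat_lit 157760, nat_lit 155008, nat_lit 149264, nat_lit 144544, nat_lit 140920, nat_lit 137672, nat_lit 134650, nat_lit 1698, nat_lit 4924, nat_lit 10224, nat_lit 14064, nat_lit 17664, nat_lit 21952, nat_lit 25600, nat_lit 29696, nat_lit 33792, nat_lit 37888, nat_lit 41202, nat_lit 37237, nat_lit 33327, nat_lit 29726, nat_lit 24577, nat_lit 20615, nat_lit 16649, nat_lit 12322, nat_lit 8193, nat_lit 4112]⟩⟩⟩]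
theorem sth46 : Suf thT 19005990 (ldrop (lapp thwr7 [1, 0, 1]) 15) (apW dcM pth45) (tgtN dcM pth45.e) := Suf.seg (l := lth46) (by decide +kernel) sth47
def lth45 : List AP := [⟨[nat_lit 262, nat_lit 233, nat_lit 664, nat_lit 227], [], (nat_lit 500), ⟨[nat_lit 0, nat_lit 80, nat_lit 51], [nat_lit 4, nat_lit 51], ⟨[nat_lit 0x8c28598d4e3a6c825dafa84065b052], [nat_lit 168960, nat_lit 164096, nat_lit 160512, nat_lit 157504, nat_lit 153440, nat_lit 148144, nat_lit 147400, nat_lit 139460, nat_lit 136002, nat_lit 132225, nat_lit 4408, nat_lit 8200, nat_lit 13024, nat_lit 16704, nat_lit 21056, nat_lit 24704, nat_lit 33792, nat_lit 37888, nat_lit 41522, nat_lit 38097, nat_lit 32800, nat_lit 28713, nat_lit 25111, nat_lit 20488, nat_lit 16460, nat_lit 12290, nat_lit 8194, nat_lit 4100, nat_lit 128]⟩⟩⟩,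
  ⟨[], [], (nat_lit 501), ⟨[nat_lit 80, nat_lit 51], [nat_lit 0, nat_lit 33], ⟨[nat_lit 0x8c28598d4e3a6c825dafa84065b052], [nat_lit 169472, nat_lit 160640, nat_lit 157440, nat_lit 153440, nat_lit 148144, nat_lit 147392, nat_lit 139456, nat_lit 136002, nat_lit 132224, nat_lit 4408, nat_lit 8200, nat_lit 13024, nat_lit 16704, nat_lit 21056, nat_lit 24704, nat_lit 33792, nat_lit 37888, nat_lit 41522, nat_lit 38097, nat_lit 32800, nat_lit 28713, nat_lit 25111, nat_lit 20488, nat_lit 16460, nat_lit 12290, nat_lit 8194, nat_lit 4100, nat_lit 128]⟩⟩⟩]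
theorem sth45 : Suf thT 19005990 (ldrop (lapp thwr7 [1, 0, 1]) 7) (apW dcM pth44) (tgtN dcM pth44.e) := Suf.seg (l := lth45) (by decide +kernel) sth46
def lth44 : List AP := [⟨[nat_lit 16, nat_lit 16, nat_lit 16, nat_lit 17, nat_lit 43, nat_lit 16], [], (nat_lit 150), ⟨[nat_lit 0, nat_lit 10, nat_lit 90], [nat_lit 0, nat_lit 31, nat_lit 47], ⟨[nat_lit 0x2aeb1540f74cc94605af009c391916], [nat_lit 173056, nat_lit 168448, nat_lit 165632, nat_lit 161024, nat_lit 158208, nat_lit 153408, nat_lit 149248, nat_lit 144024, nat_lit 141128, nat_lit 136256, nat_lit 131657, nat_lit 760, nat_lit 5988, nat_lit 8840, nat_lit 17696, nat_lit 21824, nat_lit 25600, nat_lit 29184, nat_lit 33280, nat_lit 37888, nat_lit 41164, nat_lit 37187, nat_lit 33323, nat_lit 29712, nat_lit 24581, nat_lit 20744, nat_lit 16516, nat_lit 12304, nat_lit 8257, nat_lit 4609]⟩⟩⟩,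
  ⟨[nat_lit 84, nat_lit 644, nat_lit 102, nat_lit 77, nat_lit 76], [], (nat_lit 718), ⟨[nat_lit 0, nat_lit 9, nat_lit 94], [nat_lit 0, nat_lit 77, nat_lit 93], ⟨[nat_lit 0x815a00924c39ae9555eeb457315068], [nat_lit 165376, nat_lit 160128, nat_lit 155968, nat_lit 152128, nat_lit 151008, nat_lit 144880, nat_lit 139664, nat_lit 135622, nat_lit 131359, nat_lit 846, nat_lit 4932, nat_lit 8224, nat_lit 12320, nat_lit 16640, nat_lit 20736, nat_lit 25088, nat_lit 34304, nat_lit 37888, nat_lit 41232, nat_lit 37136, nat_lit 32900, nat_lit 28686, nat_lit 24586, nat_lit 20507, nat_lit 16385, nat_lit 12327, nat_lit 8200, nat_lit 4129, nat_lit 16]⟩⟩⟩]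
theorem thcr7_0 : Suf thT 19005990 (lapp thwr7 [1, 0, 1]) (apW dcM q0) (tgtN dcM q0.e) := Suf.seg (l := lth44) (by decide +kernel) sth45

def pth49 : AP := ⟨[nat_lit 290, nat_lit 284, nat_lit 288, nat_lit 285], [], (nat_lit 872), ⟨[nat_lit 85, nat_lit 49], [nat_lit 21, nat_lit 49], ⟨[nat_lit 0x3aea4822d3b80493383161643551af], [nat_lit 173056, nat_lit 169472, nat_lit 166144, nat_lit 161536, nat_lit 156096, nat_lit 153568, nat_lit 147728, nat_lit 145384, nat_lit 140204, nat_lit 135482, nat_lit 131631, nat_lit 1668, nat_lit 5884, nat_lit 8720, nat_lit 13920, nat_lit 18016, nat_lit 22336, nat_lit 26112, nat_lit 33280, nat_lit 37888, nat_lit 41856, nat_lit 38093, nat_lit 29696, nat_lit 24615, nat_lit 20496, nat_lit 16424, nat_lit 12291, nat_lit 8259, nat_lit 4104, nat_lit 2]⟩⟩⟩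
def pth50 : AP := ⟨[nat_lit 421, nat_lit 417, nat_lit 465, nat_lit 464], [], (nat_lit 1242), ⟨[nat_lit 0, nat_lit 29, nat_lit 89], [nat_lit 0, nat_lit 87, nat_lit 47], ⟨[nat_lit 0x32eae12133b8216390316bc72a2985], [nat_lit 173056, nat_lit 167168, nat_lit 160512, nat_lit 156672, nat_lit 152512, nat_lit 147920, nat_lit 144752, nat_lit 140016, nat_lit 136732, nat_lit 132423, nat_lit 1938, nat_lit 4156, nat_lit 10032, nat_lit 12992, nat_lit 18208, nat_lit 20608, nat_lit 25088, nat_lit 28928, nat_lit 33280, nat_lit 41000, nat_lit 37146, nat_lit 28744, nat_lit 24741, nat_lit 20553, nat_lit 16906, nat_lit 12357, nat_lit 8225, nat_lit 4]⟩⟩⟩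
def pth51 : AP := ⟨[], [], (nat_lit 917), ⟨[nat_lit 86, nat_lit 62], [nat_lit 0, nat_lit 30, nat_lit 53], ⟨[nat_lit 0x746806958913ed041c2325eaa92cd3], [nat_lit 169472, nat_lit 164096, nat_lit 162048, nat_lit 157184, nat_lit 152352, nat_lit 148064, nat_lit 144888, nat_lit 139336, nat_lit 135184, nat_lit 131937, nat_lit 718, nat_lit 6104, nat_lit 8664, nat_lit 13504, nat_lit 16864, nat_lit 20800, nat_lit 25344, nat_lit 29696, nat_lit 34304, nat_lit 37888, nat_lit 41123, nat_lit 37022, nat_lit 32840, nat_lit 28693, nat_lit 24582, nat_lit 21516, nat_lit 16512, nat_lit 12327, nat_lit 8211, nat_lit 4100]⟩⟩⟩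
def pth52 : AP := ⟨[nat_lit 68, nat_lit 46], [], (nat_lit 122), ⟨[nat_lit 0, nat_lit 3, nat_lit 48], [nat_lit 0, nat_lit 42, nat_lit 47], ⟨[nat_lit 0x39aaaa46682418073d37095b2b0963], [nat_lit 171520, nat_lit 164096, nat_lit 161408, nat_lit 155904, nat_lit 152832, nat_lit 148848, nat_lit 143816, nat_lit 141052, nat_lit 135570, nat_lit 132536, nat_lit 688, nat_lit 4568, nat_lit 8704, nat_lit 12800, nat_lit 18016, nat_lit 21760, nat_lit 25984, nat_lit 33280, nat_lit 37888, nat_lit 41600, nat_lit 38055, nat_lit 32837, nat_lit 29757, nat_lit 24837, nat_lit 20614, nat_lit 16427, nat_lit 12289, nat_lit 8]⟩⟩⟩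
def lth53 : List AP := [⟨[nat_lit 39, nat_lit 39], [], (nat_lit 1032), ⟨[nat_lit 0, nat_lit 28, nat_lit 55], [nat_lit 0, nat_lit 12, nat_lit 61], ⟨[nat_lit 0x426741158a85461248d6680ebbc5cf], [nat_lit 168960, nat_lit 165376, nat_lit 163328, nat_lit 156992, nat_lit 151616, nat_lit 149280, nat_lit 144264, nat_lit 140876, nat_lit 136210, nat_lit 131526, nat_lit 796, nat_lit 5228, nat_lit 9648, nat_lit 14304, nat_lit 17312, nat_lit 20608, nat_lit 29184, nat_lit 33792, nat_lit 41933, nat_lit 38207, nat_lit 32949, nat_lit 28703, nat_lit 24611, nat_lit 16521, nat_lit 12289, nat_lit 8210, nat_lit 4112, nat_lit 8]⟩⟩⟩]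
theorem sth53 : Suf thT 19005990 (ldrop (lapp thwr7 [2, 0, 1]) 29) (apW dcM pth52) (tgtN dcM pth52.e) := Suf.fin' (l := lth53) (by decide +kernel)
def lth52 : List AP := [⟨[nat_lit 411, nat_lit 419, nat_lit 464, nat_lit 462], [], (nat_lit 1242), ⟨[nat_lit 0, nat_lit 26, nat_lit 91], [nat_lit 0, nat_lit 24], ⟨[nat_lit 0xbad83222693525638831695d002aaf], [nat_lit 166400, nat_lit 161024, nat_lit 157568, nat_lit 153472, nat_lit 147920, nat_lit 144208, nat_lit 140572, nat_lit 135670, nat_lit 132891, nat_lit 394, nat_lit 5856, nat_lit 9656, nat_lit 13920, nat_lit 16544, nat_lit 22336, nat_lit 24832, nat_lit 29952, nat_lit 33280, nat_lit 41088, nat_lit 37117, nat_lit 29265, nat_lit 24606, nat_lit 20488, nat_lit 16462, nat_lit 12291, nat_lit 8259, nat_lit 4104, nat_lit 2]⟩⟩⟩,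
  ⟨[nat_lit 673, nat_lit 295], [], (nat_lit 1222), ⟨[nat_lit 0, nat_lit 43, nat_lit 49], [nat_lit 1, nat_lit 67], ⟨[nat_lit 0x23aa90de76145af650e81c14b048c5], [nat_lit 174080, nat_lit 169472, nat_lit 165632, nat_lit 160512, nat_lit 159552, nat_lit 153696, nat_lit 150656, nat_lit 143752, nat_lit 142184, nat_lit 136548, nat_lit 134777, nat_lit 1268, nat_lit 6104, nat_lit 9456, nat_lit 14048, nat_lit 16448, nat_lit 22016, nat_lit 25344, nat_lit 37888, nat_lit 41921, nat_lit 38179, nat_lit 32897, nat_lit 28718, nat_lit 25150, nat_lit 20609, nat_lit 16463, nat_lit 12323, nat_lit 8201, nat_lit 4112]⟩⟩⟩]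
theorem sth52 : Suf thT 19005990 (ldrop (lapp thwr7 [2, 0, 1]) 23) (apW dcM pth51) (tgtN dcM pth51.e) := Suf.seg (l := lth52) (by decide +kernel) sth53
def lth51 : List AP := [⟨[nat_lit 353, nat_lit 286, nat_lit 288, nat_lit 284], [], (nat_lit 872), ⟨[nat_lit 30, nat_lit 69], [nat_lit 0, nat_lit 88, nat_lit 69], ⟨[nat_lit 0x32ece1322d05e155482999464a1d0f], [nat_lit 173056, nat_lit 169472, nat_lit 166912, nat_lit 161536, nat_lit 157376, nat_lit 153856, nat_lit 150672, nat_lit 147096, nat_lit 142420, nat_lit 137618, nat_lit 132456, nat_lit 1014, nat_lit 4156, nat_lit 8408, nat_lit 14144, nat_lit 16640, nat_lit 20736, nat_lit 25216, nat_lit 29696, nat_lit 34304, nat_lit 37888, nat_lit 41858, nat_lit 38016, nat_lit 32952, nat_lit 28746, nat_lit 24759, nat_lit 20494, nat_lit 16386, nat_lit 12324, nat_lit 8225, nat_lit 4]⟩⟩⟩,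
  ⟨[nat_lit 414, nat_lit 464, nat_lit 467, nat_lit 674, nat_lit 462], [], (nat_lit 916), ⟨[nat_lit 0, nat_lit 86, nat_lit 62], [nat_lit 23, nat_lit 68], ⟨[nat_lit 0x746806958913ed041c2325eaa92cd3], [nat_lit 173056, nat_lit 168960, nat_lit 164096, nat_lit 162048, nat_lit 157248, nat_lit 152320, nat_lit 148064, nat_lit 144888, nat_lit 139336, nat_lit 135184, nat_lit 131936, nat_lit 718, nat_lit 6104, nat_lit 8664, nat_lit 13504, nat_lit 16864, nat_lit 20800, nat_lit 25344, nat_lit 29696, nat_lit 34304, nat_lit 37888, nat_lit 41123, nat_lit 37022, nat_lit 32840, nat_lit 28693, nat_lit 24582, nat_lit 21516, nat_lit 16512, nat_lit 12327, nat_lit 8211, nat_lit 4100]⟩⟩⟩]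
theorem sth51 : Suf thT 19005990 (ldrop (lapp thwr7 [2, 0, 1]) 15) (apW dcM pth50) (tgtN dcM pth50.e) := Suf.seg (l := lth51) (by decide +kernel) sth52
def lth50 : List AP := [⟨[nat_lit 676, nat_lit 412, nat_lit 677, nat_lit 467], [], (nat_lit 875), ⟨[nat_lit 0, nat_lit 36, nat_lit 54], [nat_lit 45, nat_lit 63], ⟨[nat_lit 0x71de9b062c1150022e72a3470556e6], [nat_lit 173056, nat_lit 165632, nat_lit 159872, nat_lit 156288, nat_lit 153408, nat_lit 149216, nat_lit 144504, nat_lit 140808, nat_lit 137762, nat_lit 132468, nat_lit 116, nat_lit 5120, nat_lit 9872, nat_lit 13904, nat_lit 18176, nat_lit 21120, nat_lit 25600, nat_lit 30208, nat_lit 33792, nat_lit 37888, nat_lit 41419, nat_lit 36866, nat_lit 33993, nat_lit 29713, nat_lit 24636, nat_lit 20552, nat_lit 16422, nat_lit 12353, nat_lit 8193, nat_lit 4097, nat_lit 2]⟩⟩⟩,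
  ⟨[], [], (nat_lit 874), ⟨[nat_lit 0, nat_lit 36, nat_lit 54], [nat_lit 0, nat_lit 17, nat_lit 94], ⟨[nat_lit 0x71de9b062c1150022e72a3470556e6], [nat_lit 165632, nat_lit 156288, nat_lit 153440, nat_lit 149232, nat_lit 144504, nat_lit 140808, nat_lit 137762, nat_lit 132469, nat_lit 116, nat_lit 5120, nat_lit 9872, nat_lit 13904, nat_lit 18176, nat_lit 21120, nat_lit 25600, nat_lit 30208, nat_lit 33792, nat_lit 37888, nat_lit 41419, nat_lit 36866, nat_lit 33993, nat_lit 29713, nat_lit 24636, nat_lit 20552, nat_lit 16422, nat_lit 12353, nat_lit 8193, nat_lit 4097, nat_lit 2]⟩⟩⟩]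
theorem sth50 : Suf thT 19005990 (ldrop (lapp thwr7 [2, 0, 1]) 7) (apW dcM pth49) (tgtN dcM pth49.e) := Suf.seg (l := lth50) (by decide +kernel) sth51
def lth49 : List AP := [⟨[nat_lit 38, nat_lit 630, nat_lit 41, nat_lit 41, nat_lit 37], [], (nat_lit 90), ⟨[nat_lit 45, nat_lit 89], [nat_lit 35, nat_lit 68], ⟨[nat_lit 0x5b6f1306121d6c4a2993781c712505], [nat_lit 164608, nat_lit 156480, nat_lit 147536, nat_lit 143688, nat_lit 139408, nat_lit 138296, nat_lit 132288, nat_lit 1054, nat_lit 4352, nat_lit 9664, nat_lit 13584, nat_lit 17120, nat_lit 22144, nat_lit 28928, nat_lit 33280, nat_lit 41933, nat_lit 37186, nat_lit 32819, nat_lit 28694, nat_lit 25088, nat_lit 20753, nat_lit 16517, nat_lit 13315, nat_lit 16]⟩⟩⟩,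
  ⟨[nat_lit 56, nat_lit 56, nat_lit 47, nat_lit 642, nat_lit 47, nat_lit 46], [], (nat_lit 716), ⟨[nat_lit 44, nat_lit 61], [nat_lit 0, nat_lit 41, nat_lit 68], ⟨[nat_lit 0x239acb8511394cf550504c876acc0b], [nat_lit 168448, nat_lit 160256, nat_lit 156096, nat_lit 152064, nat_lit 147536, nat_lit 144840, nat_lit 140284, nat_lit 137830, nat_lit 131174, nat_lit 986, nat_lit 4684, nat_lit 9384, nat_lit 13264, nat_lit 17632, nat_lit 20800, nat_lit 25600, nat_lit 29952, nat_lit 33792, nat_lit 37888, nat_lit 41638, nat_lit 37286, nat_lit 33344, nat_lit 28766, nat_lit 24760, nat_lit 20500, nat_lit 16421, nat_lit 12295, nat_lit 8200, nat_lit 4100, nat_lit 2]⟩⟩⟩]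
theorem thcr7_1 : Suf thT 19005990 (lapp thwr7 [2, 0, 1]) (iC2 :: apW dcM q0) (tgtN dcM q0.e) := Suf.seg (l := lth49) (by decide +kernel) sth50

def pth54 : AP := ⟨[nat_lit 223, nat_lit 666, nat_lit 223, nat_lit 667], [], (nat_lit 1106), ⟨[nat_lit 12, nat_lit 57], [nat_lit 0, nat_lit 41, nat_lit 62], ⟨[nat_lit 0x6d00b2083183ccc1a9d62d6f249d13], [nat_lit 173056, nat_lit 165120, nat_lit 161664, nat_lit 156608, nat_lit 152704, nat_lit 148672, nat_lit 144552, nat_lit 143008, nat_lit 135630, nat_lit 131120, nat_lit 586, nat_lit 5316, nat_lit 10192, nat_lit 12736, nat_lit 18368, nat_lit 21952, nat_lit 26240, nat_lit 28928, nat_lit 34304, nat_lit 41917, nat_lit 36930, nat_lit 33934, nat_lit 29714, nat_lit 25110, nat_lit 20629, nat_lit 16388, nat_lit 12324, nat_lit 8203, nat_lit 4104]⟩⟩⟩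
def pth55 : AP := ⟨[nat_lit 262, nat_lit 266, nat_lit 261, nat_lit 229], [], (nat_lit 512), ⟨[nat_lit 23, nat_lit 92], [nat_lit 8, nat_lit 54], ⟨[nat_lit 0x410f51dc2a7c8c26c405b4d70a392c], [nat_lit 175104, nat_lit 168960, nat_lit 165632, nat_lit 161664, nat_lit 159680, nat_lit 154144, nat_lit 151136, nat_lit 144744, nat_lit 142160, nat_lit 136840, nat_lit 134070, nat_lit 1354, nat_lit 4720, nat_lit 10128, nat_lit 13552, nat_lit 18176, nat_lit 20544, nat_lit 26112, nat_lit 29696, nat_lit 41466, nat_lit 37213, nat_lit 33458, nat_lit 29018, nat_lit 24873, nat_lit 20502, nat_lit 16425, nat_lit 12295, nat_lit 8200, nat_lit 4100]⟩⟩⟩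
def pth56 : AP := ⟨[], [], (nat_lit 489), ⟨[nat_lit 86, nat_lit 55], [nat_lit 23, nat_lit 70], ⟨[nat_lit 0x20230699c3b06e7ac96f9b11451449], [nat_lit 175104, nat_lit 164096, nat_lit 160000, nat_lit 157056, nat_lit 152864, nat_lit 148064, nat_lit 145176, nat_lit 140196, nat_lit 136302, nat_lit 131073, nat_lit 724, nat_lit 5568, nat_lit 8320, nat_lit 12416, nat_lit 18176, nat_lit 22400, nat_lit 24704, nat_lit 28928, nat_lit 33792, nat_lit 41470, nat_lit 37044, nat_lit 33000, nat_lit 29032, nat_lit 24864, nat_lit 20744, nat_lit 16900, nat_lit 12359, nat_lit 8203, nat_lit 4105, nat_lit 8]⟩⟩⟩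
def pth57 : AP := ⟨[], [], (nat_lit 151), ⟨[nat_lit 8, nat_lit 93], [nat_lit 0, nat_lit 27, nat_lit 62], ⟨[nat_lit 0x5bc32145c8250c5b9ed548e0c9814d], [nat_lit 171520, nat_lit 165376, nat_lit 160256, nat_lit 156544, nat_lit 151648, nat_lit 147680, nat_lit 143520, nat_lit 139328, nat_lit 136018, nat_lit 132415, nat_lit 1004, nat_lit 5884, nat_lit 8680, nat_lit 12512, nat_lit 17440, nat_lit 20672, nat_lit 24832, nat_lit 30464, nat_lit 33280, nat_lit 37888, nat_lit 41512, nat_lit 38324, nat_lit 32979, nat_lit 28947, nat_lit 24704, nat_lit 21512, nat_lit 16641, nat_lit 12803, nat_lit 8193, nat_lit 4097]⟩⟩⟩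
def lth58 : List AP := [⟨[nat_lit 39, nat_lit 36], [], (nat_lit 1032), ⟨[nat_lit 19, nat_lit 54], [nat_lit 14, nat_lit 94], ⟨[nat_lit 0x5822e0a9901d4a2225163bdb735272], [nat_lit 175104, nat_lit 169984, nat_lit 165888, nat_lit 161664, nat_lit 151712, nat_lit 151504, nat_lit 145192, nat_lit 139620, nat_lit 138014, nat_lit 134857, nat_lit 1810, nat_lit 5688, nat_lit 9592, nat_lit 14016, nat_lit 17216, nat_lit 21504, nat_lit 29696, nat_lit 33280, nat_lit 37888, nat_lit 41897, nat_lit 37974, nat_lit 33325, nat_lit 29036, nat_lit 24577, nat_lit 20627, nat_lit 16520, nat_lit 12324, nat_lit 8211, nat_lit 4112]⟩⟩⟩]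
theorem sth58 : Suf thT 19005990 (ldrop (lapp thwr7 [3, 0, 1]) 29) (apW dcM pth57) (tgtN dcM pth57.e) := Suf.fin' (l := lth58) (by decide +kernel)
def lth57 : List AP := [⟨[nat_lit 261, nat_lit 225, nat_lit 230, nat_lit 224], [], (nat_lit 512), ⟨[nat_lit 0, nat_lit 26, nat_lit 94], [nat_lit 2, nat_lit 48], ⟨[nat_lit 0x9354b1dd27a20c2245c5b32b078033], [nat_lit 174080, nat_lit 161408, nat_lit 158592, nat_lit 154112, nat_lit 149696, nat_lit 144552, nat_lit 143216, nat_lit 135230, nat_lit 134808, nat_lit 588, nat_lit 5688, nat_lit 9328, nat_lit 14112, nat_lit 16704, nat_lit 21888, nat_lit 26368, nat_lit 29696, nat_lit 33280, nat_lit 41199, nat_lit 36983, nat_lit 32985, nat_lit 29031, nat_lit 24843, nat_lit 20507, nat_lit 16393, nat_lit 12304, nat_lit 4097, nat_lit 2]⟩⟩⟩,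
  ⟨[nat_lit 224, nat_lit 666], [], (nat_lit 1120), ⟨[nat_lit 0, nat_lit 29, nat_lit 59], [nat_lit 0, nat_lit 12, nat_lit 53], ⟨[nat_lit 0x7d970024ea14cd27048d1d4b4432f1], [nat_lit 174080, nat_lit 167680, nat_lit 163456, nat_lit 158016, nat_lit 152608, nat_lit 148544, nat_lit 144088, nat_lit 141444, nat_lit 137482, nat_lit 131889, nat_lit 1652, nat_lit 6084, nat_lit 9168, nat_lit 13968, nat_lit 18272, nat_lit 22208, nat_lit 25088, nat_lit 29184, nat_lit 33280, nat_lit 37888, nat_lit 41201, nat_lit 37037, nat_lit 32779, nat_lit 28674, nat_lit 24609, nat_lit 20547, nat_lit 17411, nat_lit 12545, nat_lit 8705, nat_lit 4097, nat_lit 2]⟩⟩⟩]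
theorem sth57 : Suf thT 19005990 (ldrop (lapp thwr7 [3, 0, 1]) 23) (apW dcM pth56) (tgtN dcM pth56.e) := Suf.seg (l := lth57) (by decide +kernel) sth58
def lth56 : List AP := [⟨[nat_lit 259, nat_lit 225, nat_lit 264, nat_lit 263], [], (nat_lit 1106), ⟨[nat_lit 6, nat_lit 67], [nat_lit 0, nat_lit 1, nat_lit 64], ⟨[nat_lit 0x4d10b332217c0821c9c5b56ea69c13], [nat_lit 173056, nat_lit 168960, nat_lit 167680, nat_lit 161664, nat_lit 155840, nat_lit 154048, nat_lit 150912, nat_lit 145880, nat_lit 143260, nat_lit 137664, nat_lit 132354, nat_lit 880, nat_lit 4684, nat_lit 10040, nat_lit 13056, nat_lit 17568, nat_lit 21056, nat_lit 26112, nat_lit 29952, nat_lit 37888, nat_lit 41845, nat_lit 37074, nat_lit 32850, nat_lit 29213, nat_lit 24715, nat_lit 20508, nat_lit 16425, nat_lit 12323, nat_lit 8202, nat_lit 4097]⟩⟩⟩,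
  ⟨[nat_lit 231, nat_lit 264, nat_lit 226, nat_lit 225], [], (nat_lit 488), ⟨[nat_lit 0, nat_lit 86, nat_lit 55], [nat_lit 0, nat_lit 30, nat_lit 63], ⟨[nat_lit 0x20230699c3b06e7ac96f9b11451449], [nat_lit 175104, nat_lit 168448, nat_lit 160000, nat_lit 157120, nat_lit 152832, nat_lit 148080, nat_lit 145168, nat_lit 140192, nat_lit 136300, nat_lit 131073, nat_lit 724, nat_lit 5568, nat_lit 8320, nat_lit 12416, nat_lit 18176, nat_lit 22400, nat_lit 24704, nat_lit 28928, nat_lit 33792, nat_lit 41470, nat_lit 37044, nat_lit 33000, nat_lit 29032, nat_lit 24864, nat_lit 20744, nat_lit 16900, nat_lit 12359, nat_lit 8203, nat_lit 4105, nat_lit 8]⟩⟩⟩]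
theorem sth56 : Suf thT 19005990 (ldrop (lapp thwr7 [3, 0, 1]) 15) (apW dcM pth55) (tgtN dcM pth55.e) := Suf.seg (l := lth56) (by decide +kernel) sth57
def lth55 : List AP := [⟨[nat_lit 227, nat_lit 261, nat_lit 222, nat_lit 233], [], (nat_lit 701), ⟨[nat_lit 0, nat_lit 22, nat_lit 92], [nat_lit 0, nat_lit 5, nat_lit 53], ⟨[nat_lit 0x5560ea04f645e6c781a559123944c2], [nat_lit 173056, nat_lit 168960, nat_lit 164864, nat_lit 161536, nat_lit 155712, nat_lit 151584, nat_lit 149344, nat_lit 143744, nat_lit 139964, nat_lit 138164, nat_lit 132097, nat_lit 700, nat_lit 5120, nat_lit 9648, nat_lit 17824, nat_lit 24960, nat_lit 33792, nat_lit 37888, nat_lit 41394, nat_lit 36897, nat_lit 33840, nat_lit 29014, nat_lit 24707, nat_lit 20999, nat_lit 16461, nat_lit 12304, nat_lit 8224, nat_lit 64]⟩⟩⟩,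
  ⟨[], [], (nat_lit 700), ⟨[nat_lit 0, nat_lit 22, nat_lit 92], [nat_lit 0, nat_lit 75, nat_lit 64], ⟨[nat_lit 0x5560ea04f645e6c781a559123944c2], [nat_lit 173056, nat_lit 169472, nat_lit 164864, nat_lit 161664, nat_lit 151584, nat_lit 149360, nat_lit 143744, nat_lit 139964, nat_lit 138166, nat_lit 132097, nat_lit 700, nat_lit 5120, nat_lit 9648, nat_lit 17824, nat_lit 24960, nat_lit 33792, nat_lit 37888, nat_lit 41394, nat_lit 36897, nat_lit 33840, nat_lit 29014, nat_lit 24707, nat_lit 20999, nat_lit 16461, nat_lit 12304, nat_lit 8224, nat_lit 64]⟩⟩⟩]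
theorem sth55 : Suf thT 19005990 (ldrop (lapp thwr7 [3, 0, 1]) 7) (apW dcM pth54) (tgtN dcM pth54.e) := Suf.seg (l := lth55) (by decide +kernel) sth56
def lth54 : List AP := [⟨[nat_lit 632, nat_lit 37, nat_lit 14, nat_lit 39, nat_lit 17, nat_lit 40], [], (nat_lit 150), ⟨[nat_lit 0, nat_lit 4, nat_lit 70], [nat_lit 0, nat_lit 72, nat_lit 61], ⟨[nat_lit 0x8c0b51a64d0d006b9d4b612ce40a6f], [nat_lit 174080, nat_lit 168448, nat_lit 166144, nat_lit 162816, nat_lit 158720, nat_lit 153344, nat_lit 149088, nat_lit 144152, nat_lit 142648, nat_lit 138824, nat_lit 131528, nat_lit 1318, nat_lit 4780, nat_lit 10088, nat_lit 13920, nat_lit 18336, nat_lit 21888, nat_lit 25472, nat_lit 29440, nat_lit 33792, nat_lit 41786, nat_lit 37936, nat_lit 32852, nat_lit 28697, nat_lit 24613, nat_lit 20546, nat_lit 16390, nat_lit 12290, nat_lit 8194, nat_lit 4097, nat_lit 2]⟩⟩⟩,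
  ⟨[nat_lit 101, nat_lit 83, nat_lit 100, nat_lit 646, nat_lit 105], [], (nat_lit 534), ⟨[nat_lit 73, nat_lit 56], [nat_lit 0, nat_lit 72], ⟨[nat_lit 0x73ca05d992ab60a0c66435c7441c49], [nat_lit 171520, nat_lit 164608, nat_lit 163072, nat_lit 156352, nat_lit 154880, nat_lit 151392, nat_lit 146664, nat_lit 141140, nat_lit 135694, nat_lit 134262, nat_lit 1918, nat_lit 5568, nat_lit 9184, nat_lit 12368, nat_lit 16480, nat_lit 21184, nat_lit 25216, nat_lit 29184, nat_lit 37888, nat_lit 41244, nat_lit 37097, nat_lit 32919, nat_lit 29000, nat_lit 24760, nat_lit 20488, nat_lit 16520, nat_lit 12327, nat_lit 8194, nat_lit 4097]⟩⟩⟩]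
theorem thcr7_2 : Suf thT 19005990 (lapp thwr7 [3, 0, 1]) (iC3 :: apW dcM q0) (tgtN dcM q0.e) := Suf.seg (l := lth54) (by decide +kernel) sth55

def pth59 : AP := ⟨[nat_lit 223, nat_lit 264, nat_lit 222, nat_lit 262], [], (nat_lit 612), ⟨[nat_lit 0, nat_lit 13, nat_lit 59], [nat_lit 79, nat_lit 67], ⟨[nat_lit 0x226b4041b6104ca9962b95de33a18e], [nat_lit 173056, nat_lit 169472, nat_lit 165120, nat_lit 159872, nat_lit 158656, nat_lit 152896, nat_lit 147888, nat_lit 144552, nat_lit 140048, nat_lit 136236, nat_lit 131631, nat_lit 810, nat_lit 4476, nat_lit 9904, nat_lit 12544, nat_lit 17984, nat_lit 20544, nat_lit 24832, nat_lit 29184, nat_lit 33792, nat_lit 41507, nat_lit 37371, nat_lit 33517, nat_lit 29203, nat_lit 24607, nat_lit 16455, nat_lit 12309, nat_lit 8201, nat_lit 8]⟩⟩⟩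
def pth60 : AP := ⟨[nat_lit 357, nat_lit 356, nat_lit 357, nat_lit 352], [], (nat_lit 648), ⟨[nat_lit 0, nat_lit 75, nat_lit 67], [nat_lit 15, nat_lit 94], ⟨[nat_lit 0xbc023b4d4ba1cb27562f6a44433008], [nat_lit 171008, nat_lit 164352, nat_lit 160384, nat_lit 158400, nat_lit 152896, nat_lit 147760, nat_lit 145920, nat_lit 142748, nat_lit 138732, nat_lit 134294, nat_lit 846, nat_lit 4684, nat_lit 8928, nat_lit 13312, nat_lit 16640, nat_lit 22080, nat_lit 24960, nat_lit 29952, nat_lit 41867, nat_lit 38135, nat_lit 33365, nat_lit 28709, nat_lit 25099, nat_lit 20574, nat_lit 16385, nat_lit 12320, nat_lit 8256]⟩⟩⟩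
def pth61 : AP := ⟨[], [], (nat_lit 1158), ⟨[nat_lit 0, nat_lit 20, nat_lit 91], [nat_lit 18, nat_lit 56], ⟨[nat_lit 0x43829199e4ac545bc0eb93260b0a8d], [nat_lit 174080, nat_lit 168448, nat_lit 164352, nat_lit 161664, nat_lit 156160, nat_lit 153504, nat_lit 148320, nat_lit 143944, nat_lit 141212, nat_lit 135194, nat_lit 131244, nat_lit 1516, nat_lit 5604, nat_lit 9216, nat_lit 12976, nat_lit 18240, nat_lit 21504, nat_lit 25344, nat_lit 29952, nat_lit 41322, nat_lit 37272, nat_lit 32910, nat_lit 29001, nat_lit 24592, nat_lit 20482, nat_lit 16397, nat_lit 12304, nat_lit 4128]⟩⟩⟩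
def pth62 : AP := ⟨[], [], (nat_lit 1052), ⟨[nat_lit 0, nat_lit 17, nat_lit 49], [nat_lit 45, nat_lit 89], ⟨[nat_lit 0x3b9977a072a460622ecaa80a19b522], [nat_lit 173056, nat_lit 168960, nat_lit 167680, nat_lit 160896, nat_lit 157568, nat_lit 153120, nat_lit 148400, nat_lit 143520, nat_lit 140672, nat_lit 136248, nat_lit 132192, nat_lit 488, nat_lit 5316, nat_lit 8448, nat_lit 13296, nat_lit 17952, nat_lit 22080, nat_lit 24704, nat_lit 28928, nat_lit 37888, nat_lit 41721, nat_lit 38049, nat_lit 32847, nat_lit 24847, nat_lit 20493, nat_lit 16910, nat_lit 12326, nat_lit 8193, nat_lit 4]⟩⟩⟩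
def lth63 : List AP := [⟨[], [], (nat_lit 1034), ⟨[nat_lit 4, nat_lit 90], [nat_lit 0, nat_lit 33, nat_lit 90], ⟨[nat_lit 0x35aabb820e8c8a89d1a1231e950c47], [nat_lit 168448, nat_lit 165632, nat_lit 160896, nat_lit 156416, nat_lit 151840, nat_lit 149120, nat_lit 144144, nat_lit 140344, nat_lit 135868, nat_lit 133894, nat_lit 1178, nat_lit 5276, nat_lit 8200, nat_lit 14096, nat_lit 16704, nat_lit 20864, nat_lit 26368, nat_lit 28928, nat_lit 34304, nat_lit 37888, nat_lit 41853, nat_lit 36895, nat_lit 34036, nat_lit 28775, nat_lit 24627, nat_lit 20562, nat_lit 16389, nat_lit 12551, nat_lit 8195, nat_lit 4097, nat_lit 2]⟩⟩⟩]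
theorem sth63 : Suf thT 2048 (ldrop (lapp thwr7 [1, 0, 1]) 29) (apW dcM pth62) (tgtN dcM pth62.e) := Suf.fin' (l := lth63) (by decide +kernel)
def lth62 : List AP := [⟨[nat_lit 288, nat_lit 355, nat_lit 669, nat_lit 286], [], (nat_lit 1150), ⟨[nat_lit 9, nat_lit 89], [nat_lit 0, nat_lit 20, nat_lit 90], ⟨[nat_lit 0x88aeb902ca24e0e19d817d6862b509], [nat_lit 173056, nat_lit 164352, nat_lit 160256, nat_lit 156288, nat_lit 152960, nat_lit 147600, nat_lit 144176, nat_lit 140588, nat_lit 137080, nat_lit 135144, nat_lit 1478, nat_lit 5316, nat_lit 8680, nat_lit 13232, nat_lit 17120, nat_lit 21504, nat_lit 24704, nat_lit 29696, nat_lit 33792, nat_lit 41630, nat_lit 38294, nat_lit 33021, nat_lit 29022, nat_lit 24883, nat_lit 20630, nat_lit 16422, nat_lit 12357, nat_lit 4097]⟩⟩⟩,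
  ⟨[nat_lit 264, nat_lit 233, nat_lit 228], [], (nat_lit 477), ⟨[nat_lit 26, nat_lit 93], [nat_lit 23, nat_lit 61], ⟨[nat_lit 0xbd02e60d2a23c479b410355125da25], [nat_lit 173056, nat_lit 169472, nat_lit 164352, nat_lit 160896, nat_lit 156864, nat_lit 152128, nat_lit 148176, nat_lit 147240, nat_lit 141280, nat_lit 136398, nat_lit 132590, nat_lit 568, nat_lit 4568, nat_lit 10032, nat_lit 12800, nat_lit 17632, nat_lit 20864, nat_lit 28928, nat_lit 41739, nat_lit 37286, nat_lit 33518, nat_lit 29230, nat_lit 24851, nat_lit 21002, nat_lit 16451, nat_lit 12290, nat_lit 8225, nat_lit 4104, nat_lit 4]⟩⟩⟩]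
theorem sth62 : Suf thT 2048 (ldrop (lapp thwr7 [1, 0, 1]) 23) (apW dcM pth61) (tgtN dcM pth61.e) := Suf.seg (l := lth62) (by decide +kernel) sth63
def lth61 : List AP := [⟨[nat_lit 227, nat_lit 224, nat_lit 261, nat_lit 226, nat_lit 223], [], (nat_lit 636), ⟨[nat_lit 0, nat_lit 32, nat_lit 57], [nat_lit 0, nat_lit 2, nat_lit 55], ⟨[nat_lit 0x5d84a902f124d2d19cd56502f71608], [nat_lit 168960, nat_lit 164096, nat_lit 160256, nat_lit 157056, nat_lit 153152, nat_lit 148480, nat_lit 143368, nat_lit 139812, nat_lit 135552, nat_lit 133619, nat_lit 256, nat_lit 5712, nat_lit 10032, nat_lit 14304, nat_lit 18112, nat_lit 22272, nat_lit 25088, nat_lit 28928, nat_lit 33280, nat_lit 41505, nat_lit 37188, nat_lit 32882, nat_lit 28691, nat_lit 24883, nat_lit 20752, nat_lit 16522, nat_lit 12308, nat_lit 8200, nat_lit 4129]⟩⟩⟩,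
  ⟨[nat_lit 354, nat_lit 295, nat_lit 294, nat_lit 670], [], (nat_lit 668), ⟨[nat_lit 20, nat_lit 91], [nat_lit 0, nat_lit 2, nat_lit 69], ⟨[nat_lit 0x43829199e4ac545bc0eb93260b0a8d], [nat_lit 175104, nat_lit 164352, nat_lit 161536, nat_lit 156160, nat_lit 153504, nat_lit 148336, nat_lit 143944, nat_lit 141208, nat_lit 135194, nat_lit 131245, nat_lit 1516, nat_lit 5604, nat_lit 9216, nat_lit 12976, nat_lit 18240, nat_lit 21504, nat_lit 25344, nat_lit 29952, nat_lit 41322, nat_lit 37272, nat_lit 32910, nat_lit 29001, nat_lit 24592, nat_lit 20482, nat_lit 16397, nat_lit 12304, nat_lit 4128]⟩⟩⟩]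
theorem sth61 : Suf thT 2048 (ldrop (lapp thwr7 [1, 0, 1]) 15) (apW dcM pth60) (tgtN dcM pth60.e) := Suf.seg (l := lth61) (by decide +kernel) sth62
def lth60 : List AP := [⟨[nat_lit 295, nat_lit 352, nat_lit 351], [], (nat_lit 1126), ⟨[nat_lit 9, nat_lit 92], [nat_lit 0, nat_lit 6, nat_lit 91], ⟨[nat_lit 0x89c80415b56484e54d630da1733e89], [nat_lit 173056, nat_lit 168448, nat_lit 164608, nat_lit 162432, nat_lit 156672, nat_lit 152992, nat_lit 148672, nat_lit 144696, nat_lit 140600, nat_lit 137184, nat_lit 131990, nat_lit 434, nat_lit 5604, nat_lit 9016, nat_lit 13152, nat_lit 18272, nat_lit 21504, nat_lit 25600, nat_lit 29696, nat_lit 34304, nat_lit 41527, nat_lit 37179, nat_lit 33000, nat_lit 28736, nat_lit 24753, nat_lit 20574, nat_lit 16450, nat_lit 12327, nat_lit 8227, nat_lit 4113, nat_lit 16]⟩⟩⟩,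
  ⟨[], [], (nat_lit 594), ⟨[nat_lit 0, nat_lit 9, nat_lit 92], [nat_lit 0, nat_lit 13, nat_lit 55], ⟨[nat_lit 0x89c80415b56484e54d630da1733e89], [nat_lit 173056, nat_lit 164608, nat_lit 162432, nat_lit 156736, nat_lit 152992, nat_lit 148688, nat_lit 144688, nat_lit 140600, nat_lit 137186, nat_lit 131990, nat_lit 434, nat_lit 5604, nat_lit 9016, nat_lit 13152, nat_lit 18272, nat_lit 21504, nat_lit 25600, nat_lit 29696, nat_lit 34304, nat_lit 41527, nat_lit 37179, nat_lit 33000, nat_lit 28736, nat_lit 24753, nat_lit 20574, nat_lit 16450, nat_lit 12327, nat_lit 8227, nat_lit 4113, nat_lit 16]⟩⟩⟩]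
theorem sth60 : Suf thT 2048 (ldrop (lapp thwr7 [1, 0, 1]) 7) (apW dcM pth59) (tgtN dcM pth59.e) := Suf.seg (l := lth60) (by decide +kernel) sth61
def lth59 : List AP := [⟨[nat_lit 21, nat_lit 25, nat_lit 32, nat_lit 22, nat_lit 30, nat_lit 25], [], (nat_lit 276), ⟨[nat_lit 71], [nat_lit 32, nat_lit 90], ⟨[nat_lit 0x5c0223506e4c6d551e44281f79a1ac], [nat_lit 164096, nat_lit 161664, nat_lit 157376, nat_lit 155424, nat_lit 148048, nat_lit 144928, nat_lit 140996, nat_lit 136826, nat_lit 132959, nat_lit 210, nat_lit 4380, nat_lit 9112, nat_lit 13488, nat_lit 16768, nat_lit 22016, nat_lit 25344, nat_lit 34304, nat_lit 41719, nat_lit 37144, nat_lit 32944, nat_lit 29000, nat_lit 24708, nat_lit 20560, nat_lit 16455, nat_lit 12310, nat_lit 8201, nat_lit 4097, nat_lit 2]⟩⟩⟩,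
  ⟨[nat_lit 144, nat_lit 143, nat_lit 656, nat_lit 658, nat_lit 149], [], (nat_lit 476), ⟨[nat_lit 23, nat_lit 70], [nat_lit 0, nat_lit 9, nat_lit 67], ⟨[nat_lit 0xb826e1b2d1220c70b690155f22a54b], [nat_lit 173056, nat_lit 168960, nat_lit 165888, nat_lit 161280, nat_lit 153760, nat_lit 149952, nat_lit 145624, nat_lit 142652, nat_lit 138426, nat_lit 133083, nat_lit 1224, nat_lit 4952, nat_lit 9752, nat_lit 13552, nat_lit 17728, nat_lit 21248, nat_lit 25728, nat_lit 29184, nat_lit 41405, nat_lit 37055, nat_lit 34035, nat_lit 28758, nat_lit 24728, nat_lit 21005, nat_lit 16428, nat_lit 12294, nat_lit 8202, nat_lit 4105, nat_lit 2]⟩⟩⟩]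
theorem thcr7_3 : Suf thT 2048 (lapp thwr7 [1, 0, 1]) (apW dcM q1) (tgtN dcM q1.e) := Suf.seg (l := lth59) (by decide +kernel) sth60

def pth64 : AP := ⟨[nat_lit 354, nat_lit 293, nat_lit 356, nat_lit 292], [], (nat_lit 680), ⟨[nat_lit 0, nat_lit 80, nat_lit 92], [nat_lit 0, nat_lit 86, nat_lit 63], ⟨[nat_lit 0x93c0385ecd64c860d4a88a9c911e8b], [nat_lit 175104, nat_lit 168960, nat_lit 160384, nat_lit 159040, nat_lit 155456, nat_lit 150336, nat_lit 143736, nat_lit 143068, nat_lit 136038, nat_lit 133636, nat_lit 1966, nat_lit 5112, nat_lit 9008, nat_lit 13872, nat_lit 17152, nat_lit 22144, nat_lit 26240, nat_lit 29952, nat_lit 34304, nat_lit 41374, nat_lit 37196, nat_lit 33519, nat_lit 28932, nat_lit 25124, nat_lit 20563, nat_lit 16397, nat_lit 12306, nat_lit 8201, nat_lit 4097]⟩⟩⟩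
def pth65 : AP := ⟨[nat_lit 264, nat_lit 265, nat_lit 229], [], (nat_lit 604), ⟨[nat_lit 0, nat_lit 45, nat_lit 61], [nat_lit 83, nat_lit 67], ⟨[nat_lit 0x552175b9f21d4cd2d80c8a0223a664], [nat_lit 175104, nat_lit 169984, nat_lit 167424, nat_lit 161792, nat_lit 155712, nat_lit 155296, nat_lit 150304, nat_lit 144856, nat_lit 141524, nat_lit 135244, nat_lit 131365, nat_lit 606, nat_lit 5588, nat_lit 10144, nat_lit 12944, nat_lit 18336, nat_lit 20800, nat_lit 26240, nat_lit 30464, nat_lit 34304, nat_lit 41844, nat_lit 38104, nat_lit 32814, nat_lit 29198, nat_lit 24628, nat_lit 20507, nat_lit 12326, nat_lit 8194, nat_lit 4101, nat_lit 2]⟩⟩⟩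
def lth66 : List AP := [⟨[nat_lit 671, nat_lit 672, nat_lit 286], [], (nat_lit 1218), ⟨[nat_lit 24, nat_lit 94], [nat_lit 87, nat_lit 48], ⟨[nat_lit 0x815a00924c39ae9555eeb457315068], [nat_lit 173056, nat_lit 168448, nat_lit 165376, nat_lit 160128, nat_lit 155968, nat_lit 152128, nat_lit 151024, nat_lit 144888, nat_lit 139668, nat_lit 135622, nat_lit 131358, nat_lit 846, nat_lit 4932, nat_lit 8224, nat_lit 12320, nat_lit 16640, nat_lit 20736, nat_lit 25088, nat_lit 34304, nat_lit 37888, nat_lit 41232, nat_lit 37136, nat_lit 32900, nat_lit 28686, nat_lit 24586, nat_lit 20507, nat_lit 16385, nat_lit 12327, nat_lit 8200, nat_lit 4129, nat_lit 16]⟩⟩⟩,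
  ⟨[nat_lit 100], [], (nat_lit 196), ⟨[nat_lit 40, nat_lit 90], [nat_lit 0, nat_lit 81, nat_lit 51], ⟨[nat_lit 0x3442f8088c5368e9d64929d171d960], [nat_lit 165632, nat_lit 160128, nat_lit 157440, nat_lit 153184, nat_lit 148544, nat_lit 143592, nat_lit 142484, nat_lit 136572, nat_lit 131796, nat_lit 4, nat_lit 5084, nat_lit 8880, nat_lit 12976, nat_lit 18048, nat_lit 22336, nat_lit 26240, nat_lit 29696, nat_lit 34304, nat_lit 37888, nat_lit 41923, nat_lit 38055, nat_lit 33530, nat_lit 28788, nat_lit 24598, nat_lit 20492, nat_lit 16451, nat_lit 12292, nat_lit 8201]⟩⟩⟩,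
  ⟨[nat_lit 633, nat_lit 40], [], (nat_lit 1032), ⟨[nat_lit 8, nat_lit 52], [nat_lit 21, nat_lit 46], ⟨[nat_lit 0x8262ea10324306232de5bd9aa3cea0], [nat_lit 168960, nat_lit 164096, nat_lit 160768, nat_lit 156736, nat_lit 152352, nat_lit 149952, nat_lit 143480, nat_lit 140916, nat_lit 135516, nat_lit 131579, nat_lit 16, nat_lit 5856, nat_lit 9384, nat_lit 13776, nat_lit 16864, nat_lit 22272, nat_lit 26240, nat_lit 29440, nat_lit 33280, nat_lit 41961, nat_lit 38139, nat_lit 33008, nat_lit 28741, nat_lit 24624, nat_lit 20508, nat_lit 16387, nat_lit 12323, nat_lit 8195, nat_lit 4097]⟩⟩⟩]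
theorem sth66 : Suf thT 19005990 (ldrop (lapp thwr8 [1, 0, 1]) 15) (apW dcM pth65) (tgtN dcM pth65.e) := Suf.fin' (l := lth66) (by decide +kernel)
def lth65 : List AP := [⟨[nat_lit 223, nat_lit 265, nat_lit 266, nat_lit 228], [], (nat_lit 608), ⟨[nat_lit 0, nat_lit 4, nat_lit 61], [nat_lit 0, nat_lit 84, nat_lit 47], ⟨[nat_lit 0xba9f44804d610c819e36acca19416e], [nat_lit 164352, nat_lit 160640, nat_lit 155776, nat_lit 152320, nat_lit 147568, nat_lit 145208, nat_lit 140216, nat_lit 135802, nat_lit 133460, nat_lit 1972, nat_lit 5228, nat_lit 10224, nat_lit 13200, nat_lit 18400, nat_lit 20544, nat_lit 25856, nat_lit 29952, nat_lit 37888, nat_lit 41826, nat_lit 37939, nat_lit 33337, nat_lit 28741, nat_lit 24713, nat_lit 20485, nat_lit 16906, nat_lit 12310, nat_lit 8193, nat_lit 4097]⟩⟩⟩,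
  ⟨[nat_lit 288, nat_lit 286, nat_lit 291, nat_lit 356, nat_lit 285], [], (nat_lit 1136), ⟨[nat_lit 27, nat_lit 53], [nat_lit 0, nat_lit 25, nat_lit 60], ⟨[nat_lit 0x696867a51519e2b9900abb04193ad0], [nat_lit 174080, nat_lit 168960, nat_lit 167680, nat_lit 163456, nat_lit 158784, nat_lit 153056, nat_lit 148880, nat_lit 143752, nat_lit 143108, nat_lit 138490, nat_lit 132231, nat_lit 760, nat_lit 5508, nat_lit 10224, nat_lit 13920, nat_lit 16928, nat_lit 21696, nat_lit 29952, nat_lit 34304, nat_lit 37888, nat_lit 41080, nat_lit 37186, nat_lit 33503, nat_lit 28694, nat_lit 24589, nat_lit 21530, nat_lit 16388, nat_lit 12359, nat_lit 8194, nat_lit 4097, nat_lit 2]⟩⟩⟩]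
theorem sth65 : Suf thT 19005990 (ldrop (lapp thwr8 [1, 0, 1]) 7) (apW dcM pth64) (tgtN dcM pth64.e) := Suf.seg (l := lth65) (by decide +kernel) sth66
def lth64 : List AP := [⟨[nat_lit 41, nat_lit 42, nat_lit 42, nat_lit 16, nat_lit 631], [], (nat_lit 197), ⟨[nat_lit 38, nat_lit 50], [nat_lit 0, nat_lit 73, nat_lit 67], ⟨[nat_lit 0x93cec812d4ab5203456a14c251b917], [nat_lit 173056, nat_lit 165376, nat_lit 161664, nat_lit 157312, nat_lit 152480, nat_lit 151392, nat_lit 145208, nat_lit 139692, nat_lit 135266, nat_lit 132472, nat_lit 1124, nat_lit 4156, nat_lit 10144, nat_lit 12304, nat_lit 16512, nat_lit 20736, nat_lit 25216, nat_lit 30208, nat_lit 34304, nat_lit 41639, nat_lit 36989, nat_lit 32971, nat_lit 29013, nat_lit 24891, nat_lit 20546, nat_lit 4128]⟩⟩⟩,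
  ⟨[nat_lit 80, nat_lit 78, nat_lit 84, nat_lit 83, nat_lit 78], [], (nat_lit 718), ⟨[nat_lit 39, nat_lit 66], [nat_lit 74, nat_lit 54], ⟨[nat_lit 0x88a489b2e60adee4d2a050ca7859a4], [nat_lit 173056, nat_lit 165888, nat_lit 156864, nat_lit 153600, nat_lit 150848, nat_lit 146648, nat_lit 141932, nat_lit 138350, nat_lit 132217, nat_lit 508, nat_lit 4396, nat_lit 9040, nat_lit 14160, nat_lit 16448, nat_lit 21632, nat_lit 25600, nat_lit 29696, nat_lit 33792, nat_lit 41802, nat_lit 37067, nat_lit 32879, nat_lit 28754, nat_lit 24594, nat_lit 20765, nat_lit 16397, nat_lit 12311, nat_lit 8195, nat_lit 4097, nat_lit 2]⟩⟩⟩]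
theorem thcr8_0 : Suf thT 19005990 (lapp thwr8 [1, 0, 1]) (apW dcM q0) (tgtN dcM q0.e) := Suf.seg (l := lth64) (by decide +kernel) sth65

def pth67 : AP := ⟨[nat_lit 146, nat_lit 144, nat_lit 142], [], (nat_lit 378), ⟨[nat_lit 80, nat_lit 53], [nat_lit 33, nat_lit 92], ⟨[nat_lit 0x2a68e80ab731e615c903031b122acf], [nat_lit 173056, nat_lit 168448, nat_lit 164608, nat_lit 153504, nat_lit 148016, nat_lit 144248, nat_lit 142808, nat_lit 136830, nat_lit 131718, nat_lit 1488, nat_lit 5544, nat_lit 10088, nat_lit 14192, nat_lit 16896, nat_lit 21888, nat_lit 26368, nat_lit 28928, nat_lit 33792, nat_lit 37888, nat_lit 41874, nat_lit 38117, nat_lit 33427, nat_lit 28973, nat_lit 24744, nat_lit 20496, nat_lit 16396, nat_lit 12292, nat_lit 8195, nat_lit 4100, nat_lit 2]⟩⟩⟩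
def pth68 : AP := ⟨[nat_lit 677, nat_lit 419, nat_lit 467, nat_lit 678, nat_lit 412], [], (nat_lit 1242), ⟨[nat_lit 42, nat_lit 91], [nat_lit 28, nat_lit 62], ⟨[nat_lit 0x32e6384595b804d3c828b15c4a292f], [nat_lit 173056, nat_lit 169984, nat_lit 164352, nat_lit 161280, nat_lit 156224, nat_lit 153024, nat_lit 149264, nat_lit 144248, nat_lit 140004, nat_lit 135924, nat_lit 132695, nat_lit 122, nat_lit 6084, nat_lit 8408, nat_lit 12320, nat_lit 16896, nat_lit 20992, nat_lit 24960, nat_lit 29696, nat_lit 33280, nat_lit 41600, nat_lit 38362, nat_lit 28748, nat_lit 24757, nat_lit 20488, nat_lit 12320, nat_lit 8321, nat_lit 4]⟩⟩⟩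
def lth69 : List AP := [⟨[nat_lit 673, nat_lit 295], [], (nat_lit 1222), ⟨[nat_lit 25, nat_lit 91], [nat_lit 31, nat_lit 54], ⟨[nat_lit 0x23aa90de76145af650e81c14b048c5], [nat_lit 175104, nat_lit 169472, nat_lit 165632, nat_lit 160512, nat_lit 159488, nat_lit 153664, nat_lit 150672, nat_lit 143752, nat_lit 142188, nat_lit 136550, nat_lit 134776, nat_lit 1268, nat_lit 6104, nat_lit 9456, nat_lit 14048, nat_lit 16448, nat_lit 22016, nat_lit 25344, nat_lit 37888, nat_lit 41921, nat_lit 38179, nat_lit 32897, nat_lit 28718, nat_lit 25150, nat_lit 20609, nat_lit 16463, nat_lit 12323, nat_lit 8201, nat_lit 4112]⟩⟩⟩,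
  ⟨[nat_lit 68, nat_lit 46], [], (nat_lit 122), ⟨[nat_lit 27, nat_lit 61], [nat_lit 0, nat_lit 42, nat_lit 47], ⟨[nat_lit 0x39aaaa46682418073d37095b2b0963], [nat_lit 171008, nat_lit 164096, nat_lit 161408, nat_lit 155968, nat_lit 152864, nat_lit 148848, nat_lit 143808, nat_lit 141048, nat_lit 135570, nat_lit 132537, nat_lit 688, nat_lit 4568, nat_lit 8704, nat_lit 12800, nat_lit 18016, nat_lit 21760, nat_lit 25984, nat_lit 33280, nat_lit 37888, nat_lit 41600, nat_lit 38055, nat_lit 32837, nat_lit 29757, nat_lit 24837, nat_lit 20614, nat_lit 16427, nat_lit 12289, nat_lit 8]⟩⟩⟩,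
  ⟨[nat_lit 15, nat_lit 633], [], (nat_lit 1032), ⟨[nat_lit 7, nat_lit 63], [nat_lit 0, nat_lit 44, nat_lit 90], ⟨[nat_lit 0x55a8198229854eebc88d2a0c37898b], [nat_lit 173056, nat_lit 164096, nat_lit 161280, nat_lit 157504, nat_lit 153088, nat_lit 148208, nat_lit 144944, nat_lit 141264, nat_lit 135518, nat_lit 134934, nat_lit 986, nat_lit 4408, nat_lit 8928, nat_lit 13696, nat_lit 16672, nat_lit 22336, nat_lit 28928, nat_lit 34304, nat_lit 37888, nat_lit 41891, nat_lit 37027, nat_lit 32908, nat_lit 28707, nat_lit 24605, nat_lit 20505, nat_lit 16418, nat_lit 12291, nat_lit 8195, nat_lit 4100]⟩⟩⟩]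
theorem sth69 : Suf thT 19005990 (ldrop (lapp thwr8 [2, 0, 1]) 15) (apW dcM pth68) (tgtN dcM pth68.e) := Suf.fin' (l := lth69) (by decide +kernel)
def lth68 : List AP := [⟨[nat_lit 170, nat_lit 179, nat_lit 663, nat_lit 173], [], (nat_lit 1092), ⟨[nat_lit 0, nat_lit 17, nat_lit 48], [nat_lit 0, nat_lit 75, nat_lit 64], ⟨[nat_lit 0x81960b5eae4926163e8d120f119552], [nat_lit 175104, nat_lit 169472, nat_lit 165376, nat_lit 160000, nat_lit 157824, nat_lit 154304, nat_lit 151456, nat_lit 145136, nat_lit 142284, nat_lit 137204, nat_lit 134769, nat_lit 1140, nat_lit 4964, nat_lit 9456, nat_lit 17760, nat_lit 20544, nat_lit 25344, nat_lit 29184, nat_lit 33280, nat_lit 37888, nat_lit 41729, nat_lit 37010, nat_lit 33977, nat_lit 28966, nat_lit 24581, nat_lit 20764, nat_lit 16527, nat_lit 12289, nat_lit 8225]⟩⟩⟩,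
  ⟨[nat_lit 353, nat_lit 356, nat_lit 669, nat_lit 284], [], (nat_lit 874), ⟨[nat_lit 35, nat_lit 94], [nat_lit 0, nat_lit 18, nat_lit 49], ⟨[nat_lit 0x6c1e0b8e564053124ce2ab8aa3518b], [nat_lit 173056, nat_lit 169472, nat_lit 164096, nat_lit 160384, nat_lit 155712, nat_lit 152480, nat_lit 148832, nat_lit 146104, nat_lit 140176, nat_lit 136204, nat_lit 132669, nat_lit 1224, nat_lit 4404, nat_lit 8904, nat_lit 13312, nat_lit 17984, nat_lit 20672, nat_lit 25728, nat_lit 29696, nat_lit 41844, nat_lit 38268, nat_lit 33840, nat_lit 28680, nat_lit 24633, nat_lit 20568, nat_lit 16454, nat_lit 8211, nat_lit 16]⟩⟩⟩]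
theorem sth68 : Suf thT 19005990 (ldrop (lapp thwr8 [2, 0, 1]) 7) (apW dcM pth67) (tgtN dcM pth67.e) := Suf.seg (l := lth68) (by decide +kernel) sth69
def lth67 : List AP := [⟨[nat_lit 15, nat_lit 42, nat_lit 42, nat_lit 41, nat_lit 17, nat_lit 14], [], (nat_lit 70), ⟨[nat_lit 12, nat_lit 94], [nat_lit 75, nat_lit 53], ⟨[nat_lit 0x1d18b4b6a295ae62841351e08891ee], [nat_lit 173056, nat_lit 168960, nat_lit 166144, nat_lit 163584, nat_lit 158720, nat_lit 153824, nat_lit 148576, nat_lit 146712, nat_lit 143216, nat_lit 135982, nat_lit 134413, nat_lit 1624, nat_lit 5296, nat_lit 10144, nat_lit 13664, nat_lit 16640, nat_lit 21888, nat_lit 25088, nat_lit 29696, nat_lit 33792, nat_lit 37888, nat_lit 41922, nat_lit 37374, nat_lit 33516, nat_lit 29227, nat_lit 24740, nat_lit 20558, nat_lit 16389, nat_lit 12322, nat_lit 8193, nat_lit 4128]⟩⟩⟩,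
  ⟨[nat_lit 32, nat_lit 29, nat_lit 26, nat_lit 634, nat_lit 31, nat_lit 25], [], (nat_lit 276), ⟨[nat_lit 87, nat_lit 93], [nat_lit 22, nat_lit 89], ⟨[nat_lit 0x699eb9a0911caae03290516d70a4e2], [nat_lit 168960, nat_lit 166144, nat_lit 160640, nat_lit 156032, nat_lit 152320, nat_lit 148912, nat_lit 143504, nat_lit 139392, nat_lit 136332, nat_lit 131793, nat_lit 1178, nat_lit 5568, nat_lit 8448, nat_lit 12768, nat_lit 16928, nat_lit 22016, nat_lit 26496, nat_lit 29952, nat_lit 33280, nat_lit 37888, nat_lit 41088, nat_lit 37168, nat_lit 32960, nat_lit 28963, nat_lit 24739, nat_lit 20633, nat_lit 16421, nat_lit 12309, nat_lit 8194, nat_lit 4101, nat_lit 2]⟩⟩⟩]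
theorem thcr8_1 : Suf thT 19005990 (lapp thwr8 [2, 0, 1]) (iC2 :: apW dcM q0) (tgtN dcM q0.e) := Suf.seg (l := lth67) (by decide +kernel) sth68


end

end CF.Mon.Tr
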